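import Cfsg.Agent.Lib.Chev.Bruhat
import Mathlib.LinearAlgebra.Matrix.SpecialLinearGroup

/-!
A homomorphism from `SL₂(F)` onto the subgroup generated by two opposite root subgroups.
-/

set_option autoImplicit false

namespace CfsgLib.Chev

open Matrix
open scoped MatrixGroups

/-- The relations making a pair of one-parameter subgroups an image of `SL₂`. -/
structure SL2Pair (F : Type*) [Field F] (G : Type*) [Group G] where
  /-- upper elements -/
  u : F → G
  /-- lower elements -/
  v : F → G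
  u_add : ∀ a b, u a * u b = u (a + b)
  v_add : ∀ a b, v a * v b = v (a + b)
  h_mul : ∀ a b : F, a ≠ 0 → b ≠ 0 →
    (u a * v (-a⁻¹) * u a * (u (-1) * v 1 * u (-1))) *
        (u b * v (-b⁻¹) * u b * (u (-1) * v 1 * u (-1))) =
      u (a * b) * v (-(a * b)⁻¹) * u (a * b) * (u (-1) * v 1 * u (-1))
  h_conj : ∀ a s : F, a ≠ 0 →
    (u a * v (-a⁻¹) * u a * (u (-1) * v 1 * u (-1))) * u s =
      u (a ^ 2 * s) * (u a * v (-a⁻¹) * u a * (u (-1) * v 1 * u (-1)))
  w_conj : ∀ s, u 1 * v (-1) * u 1 * v (-s) = u s * (u 1 * v (-1) * u 1)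

namespace SL2Pair

variable {F : Type*} [Field F] [DecidableEq F] {G : Type*} [Group G] (P : SL2Pair F G)

/-- The elements `n(t)`. -/
def n (t : F) : G := P.u t * P.v (-t⁻¹) * P.u t

/-- The elements `h(t)`. -/
def h (t : F) : G := P.n t * P.n (-1)

lemma u_zero : P.u 0 = 1 := by
  have := P.u_add 0 0
  rw [add_zero] at this
  exact mul_left_cancel (this.trans (mul_one _).symm)

lemma v_zero : P.v 0 = 1 := by
  have := P.v_add 0 0
  rw [add_zero] at this
  exact mul_left_cancel (this.trans (mul_one _).symm)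

lemma n_neg_one : P.n (-1) = P.u (-1) * P.v 1 * P.u (-1) := by simp [n]

lemma n_inv (t : F) : (P.n t)⁻¹ = P.n (-t) := by
  refine inv_eq_of_mul_eq_one_right ?_
  simp only [n, inv_neg, neg_neg]
  calc P.u t * P.v (-t⁻¹) * P.u t * (P.u (-t) * P.v t⁻¹ * P.u (-t))
      = P.u t * P.v (-t⁻¹) * (P.u t * P.u (-t)) * P.v t⁻¹ * P.u (-t) := by group
    _ = P.u t * (P.v (-t⁻¹) * P.v t⁻¹) * P.u (-t) := by
        rw [P.u_add, add_neg_cancel, P.u_zero]; group
    _ = 1 := by rw [P.v_add, neg_add_cancel, P.v_zero, mul_one, P.u_add, add_neg_cancel, P.u_zero]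

lemma hh {a b : F} (ha : a ≠ 0) (hb : b ≠ 0) : P.h a * P.h b = P.h (a * b) := by
  simp only [h, n_neg_one]
  exact P.h_mul a b ha hb

lemma h_one : P.h 1 = 1 := by
  rw [h, ← P.n_inv, mul_inv_cancel]

lemma hu {a : F} (ha : a ≠ 0) (s : F) : P.h a * P.u s = P.u (a ^ 2 * s) * P.h a := by
  simp only [h, n_neg_one]
  exact P.h_conj a s ha

lemma n_eq (t : F) : P.n t = P.h t * P.n 1 := by
  rw [h, mul_assoc, ← P.n_inv 1, inv_mul_cancel, mul_one]

lemma u_n_one (s : F) : P.u s * P.n 1 = P.n 1 * P.v (-s) := by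
  simp only [n, inv_one]
  exact (P.w_conj s).symm

lemma v_eq {z : F} (hz : z ≠ 0) : P.v z = P.u z⁻¹ * P.n (-z⁻¹) * P.u z⁻¹ := by
  simp only [n, inv_neg, inv_inv, neg_neg]
  calc P.v z = 1 * P.v z * 1 := by group
    _ = P.u z⁻¹ * P.u (-z⁻¹) * P.v z * (P.u (-z⁻¹) * P.u z⁻¹) := by
        rw [P.u_add, P.u_add, add_neg_cancel, neg_add_cancel, P.u_zero]
    _ = _ := by group

lemma n_n_one {t : F} (ht : t ≠ 0) : P.n t * P.n 1 = P.h (-t) := by
  have e1 : P.n 1 * P.n 1 = P.h (-1) := by
    have e2 : P.h (-1) * P.h (-1) = 1 := by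
      rw [P.hh (neg_ne_zero.2 one_ne_zero) (neg_ne_zero.2 one_ne_zero), neg_one_mul, neg_neg, P.h_one]
    rw [← inv_eq_of_mul_eq_one_right e2, h, _root_.mul_inv_rev, P.n_inv, neg_neg]
  rw [P.n_eq t, mul_assoc, e1, P.hh ht (neg_ne_zero.2 one_ne_zero), mul_neg, mul_one]

/-- The map on matrices. -/
def map (g : SL(2, F)) : G :=
  if g.1 1 0 = 0 then P.u (g.1 0 0 * g.1 0 1) * P.h (g.1 0 0)
  else P.u (g.1 0 0 / g.1 1 0) * P.n (-(g.1 1 0)⁻¹) * P.u (g.1 1 1 / g.1 1 0)

omit [DecidableEq F] in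
lemma det_eq (g : SL(2, F)) : g.1 0 0 * g.1 1 1 - g.1 0 1 * g.1 1 0 = 1 := by
  have := g.2
  rwa [Matrix.det_fin_two] at this

omit [DecidableEq F] in
lemma val_mul (a b : SL(2, F)) : (a * b).1 = a.1 * b.1 := rfl

omit [DecidableEq F] in
lemma val_one : (1 : SL(2, F)).1 = 1 := rfl

/-- `x(s)` in `SL₂`. -/
def E (s : F) : SL(2, F) := ⟨!![1, s; 0, 1], by simp [Matrix.det_fin_two]⟩

/-- The Weyl element of `SL₂`. -/
def W : SL(2, F) := ⟨!![0, 1; -1, 0], by simp [Matrix.det_fin_two]⟩

/-- Lower unipotent matrices. -/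
def L (s : F) : SL(2, F) := ⟨!![1, 0; s, 1], by simp [Matrix.det_fin_two]⟩

omit [DecidableEq F] in
lemma E_val (s : F) : (E s).1 = !![1, s; 0, 1] := rfl

omit [DecidableEq F] in
lemma W_val : (W (F := F)).1 = !![0, 1; -1, 0] := rfl

omit [DecidableEq F] in
lemma L_val (s : F) : (L s).1 = !![1, 0; s, 1] := rfl

omit [DecidableEq F] in
lemma det_etaConj {η : F} (hη : η * η = 1) (g : SL(2, F)) :
    Matrix.det !![g.1 0 0, η * g.1 0 1; η * g.1 1 0, g.1 1 1] = 1 := by
  have hd := det_eq g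
  simp [Matrix.det_fin_two]
  linear_combination hd - g.1 0 1 * g.1 1 0 * hη

/-- Conjugation by `diag(η, 1)` for a sign `η`. -/
def etaConj {η : F} (hη : η * η = 1) : SL(2, F) →* SL(2, F) where
  toFun g := ⟨!![g.1 0 0, η * g.1 0 1; η * g.1 1 0, g.1 1 1], det_etaConj hη g⟩
  map_one' := by
    refine Subtype.ext ?_
    show !![(1 : SL(2, F)).1 0 0, η * (1 : SL(2, F)).1 0 1;
      η * (1 : SL(2, F)).1 1 0, (1 : SL(2, F)).1 1 1] = _
    rw [val_one]
    ext a b
    fin_cases a <;> fin_cases b <;> simp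
  map_mul' g k := by
    refine Subtype.ext ?_
    show !![(g * k).1 0 0, η * (g * k).1 0 1; η * (g * k).1 1 0, (g * k).1 1 1] =
      !![g.1 0 0, η * g.1 0 1; η * g.1 1 0, g.1 1 1] *
        !![k.1 0 0, η * k.1 0 1; η * k.1 1 0, k.1 1 1]
    rw [val_mul]
    ext a b
    fin_cases a <;> fin_cases b <;>
      simp [Matrix.mul_apply, Fin.sum_univ_two] <;>
      first
        | ring1
        | linear_combination (-(g.1 0 1 * k.1 1 0)) * hη
        | linear_combination (-(g.1 1 0 * k.1 0 1)) * hη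

omit [DecidableEq F] in
lemma etaConj_val {η : F} (hη : η * η = 1) (g : SL(2, F)) :
    (etaConj hη g).1 = !![g.1 0 0, η * g.1 0 1; η * g.1 1 0, g.1 1 1] := rfl

lemma map_mul_E (g : SL(2, F)) (s : F) : P.map (g * E s) = P.map g * P.u s := by
  have hm : (g * E s).1 = g.1 * (!![1, s; 0, 1] : Matrix (Fin 2) (Fin 2) F) := rfl
  have h00 : (g * E s).1 0 0 = g.1 0 0 := by rw [hm]; simp [Matrix.mul_apply, Fin.sum_univ_two]
  have h01 : (g * E s).1 0 1 = g.1 0 0 * s + g.1 0 1 := by
    rw [hm]; simp [Matrix.mul_apply, Fin.sum_univ_two]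
  have h10 : (g * E s).1 1 0 = g.1 1 0 := by rw [hm]; simp [Matrix.mul_apply, Fin.sum_univ_two]
  have h11 : (g * E s).1 1 1 = g.1 1 0 * s + g.1 1 1 := by
    rw [hm]; simp [Matrix.mul_apply, Fin.sum_univ_two]
  have hd := det_eq g
  simp only [map, h00, h01, h10, h11]
  split_ifs with hc
  · have ha : g.1 0 0 ≠ 0 := by rintro e; rw [e, hc] at hd; simp at hd
    rw [mul_assoc, P.hu ha, ← mul_assoc, P.u_add]
    congr 2; ring
  · rw [mul_assoc _ (P.u _) (P.u _), P.u_add]
    congr 2; field_simp; ring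

lemma map_mul_W (g : SL(2, F)) : P.map (g * W) = P.map g * P.n 1 := by
  have hm : (g * W).1 = g.1 * (!![0, 1; -1, 0] : Matrix (Fin 2) (Fin 2) F) := rfl
  have h00 : (g * W).1 0 0 = -g.1 0 1 := by rw [hm]; simp [Matrix.mul_apply, Fin.sum_univ_two]
  have h01 : (g * W).1 0 1 = g.1 0 0 := by rw [hm]; simp [Matrix.mul_apply, Fin.sum_univ_two]
  have h10 : (g * W).1 1 0 = -g.1 1 1 := by rw [hm]; simp [Matrix.mul_apply, Fin.sum_univ_two]
  have h11 : (g * W).1 1 1 = g.1 1 0 := by rw [hm]; simp [Matrix.mul_apply, Fin.sum_univ_two]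
  have hd := det_eq g
  simp only [map, h00, h01, h10, h11]
  by_cases hc : g.1 1 0 = 0
  · rw [hc, mul_zero, sub_zero] at hd
    have hd0 : g.1 1 1 ≠ 0 := by rintro e; simp [e] at hd
    have ha : g.1 0 0 ≠ 0 := by rintro e; simp [e] at hd
    rw [if_neg (neg_ne_zero.2 hd0), if_pos hc, hc, zero_div, P.u_zero, mul_one, mul_assoc,
      ← P.n_eq]
    congr 2
    · field_simp; linear_combination (-(g.1 0 1)) * hd
    · field_simp; linear_combination -hd
  rw [if_neg hc]
  by_cases hd0 : g.1 1 1 = 0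
  · rw [if_pos (neg_eq_zero.2 hd0), hd0, zero_div, P.u_zero, mul_one]
    rw [hd0, mul_zero, zero_sub] at hd
    rw [mul_assoc, P.n_n_one (neg_ne_zero.2 (inv_ne_zero hc))]
    congr 2
    · field_simp; linear_combination (g.1 0 0) * hd
    · field_simp; first | linear_combination hd | linear_combination -hd
  · rw [if_neg (neg_ne_zero.2 hd0)]
    set c := g.1 1 0
    set d := g.1 1 1
    set a := g.1 0 0
    set b := g.1 0 1
    have hy : -(d / c) ≠ 0 := neg_ne_zero.2 (div_ne_zero hd0 hc)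
    have ht : -(-c⁻¹) ≠ 0 := by simp [hc]
    symm
    rw [mul_assoc, P.u_n_one, P.v_eq hy,
      show P.u (a / c) * P.n (-c⁻¹) * (P.n 1 * (P.u (-(d / c))⁻¹ * P.n (-(-(d / c))⁻¹) *
          P.u (-(d / c))⁻¹)) =
        P.u (a / c) * (P.n (-c⁻¹) * P.n 1) * P.u (-(d / c))⁻¹ * P.n (-(-(d / c))⁻¹) *
          P.u (-(d / c))⁻¹ by group,
      P.n_n_one (neg_ne_zero.2 (inv_ne_zero hc)), mul_assoc (P.u (a / c)), P.hu ht,
      ← mul_assoc (P.u (a / c)), P.u_add, mul_assoc _ (P.h _) (P.n _), P.n_eq (-(-(d / c))⁻¹),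
      ← mul_assoc (P.h _) (P.h _), P.hh ht (by simp [hc, hd0]), ← P.n_eq]
    congr 1
    · congr 2
      · field_simp; linear_combination hd
      · field_simp
    · congr 1; field_simp

lemma eq_word (g : SL(2, F)) :
    g ∈ Submonoid.closure (Set.range (E (F := F)) ∪ {W}) := by
  have hE : ∀ s : F, E s ∈ Submonoid.closure (Set.range (E (F := F)) ∪ {W}) := fun s =>
    Submonoid.subset_closure (Or.inl ⟨s, rfl⟩)
  have hW : W (F := F) ∈ Submonoid.closure (Set.range (E (F := F)) ∪ {W}) :=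
    Submonoid.subset_closure (Or.inr rfl)
  -- elements with nonzero lower left entry are `E x * N t * E y`
  have hN : ∀ g : SL(2, F), g.1 1 0 ≠ 0 →
      g ∈ Submonoid.closure (Set.range (E (F := F)) ∪ {W}) := by
    intro g hc
    set c := g.1 1 0 with hcdef
    have hd := det_eq g
    set t := -c⁻¹ with ht
    have ht0 : t ≠ 0 := by simp [ht, hc]
    have hV : ∀ z : F, L z ∈
        Submonoid.closure (Set.range (E (F := F)) ∪ {W}) := by
      intro z
      have e : L z = W * W * W * E (-z) * W := by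
        refine Subtype.ext ?_
        ext i j
        fin_cases i <;> fin_cases j <;>
          simp [val_mul, E_val, W_val, L_val, Matrix.mul_apply, Fin.sum_univ_two]
      rw [e]
      exact mul_mem (mul_mem (mul_mem (mul_mem hW hW) hW) (hE _)) hW
    have key : ∀ a b c d : F, c ≠ 0 → a * d - b * c = 1 →
        !![a, b; c, d] = !![1, (a - 1) / c; 0, 1] * !![1, 0; c, 1] * !![1, (d - 1) / c; 0, 1] := by
      intro a b c d hc hd
      ext i j
      fin_cases i <;> fin_cases j <;>
        simp [Matrix.mul_apply, Fin.sum_univ_two] <;> field_simp <;>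
          first | ring1 | linear_combination hd | linear_combination -hd
    have e : g = E ((g.1 0 0 - 1) / c) * L c * E ((g.1 1 1 - 1) / c) := by
      refine Subtype.ext ?_
      rw [val_mul, val_mul, E_val, E_val, L_val, ← key _ (g.1 0 1) c _ hc hd]
      exact Matrix.eta_fin_two g.1
    rw [e]
    exact mul_mem (mul_mem (hE _) (hV c)) (hE _)
  by_cases hc : g.1 1 0 = 0
  · have hd := det_eq g
    rw [hc, mul_zero, sub_zero] at hd
    have h1 : (g * W).1 1 0 ≠ 0 := by
      simp [val_mul, val_one, W_val, Matrix.mul_apply, Fin.sum_univ_two]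
      rintro e; simp [e] at hd
    have e : g = g * W * (W * W * W) := by
      rw [mul_assoc, show W (F := F) * (W * W * W) = 1 by
        refine Subtype.ext ?_
        ext i j
        fin_cases i <;> fin_cases j <;> simp [val_mul, val_one, W_val, Matrix.mul_apply, Fin.sum_univ_two], mul_one]
    rw [e]
    exact mul_mem (hN _ h1) (mul_mem (mul_mem hW hW) hW)
  · exact hN g hc

lemma map_one : P.map 1 = 1 := by
  simp [map, val_one, P.u_zero, P.h_one]

/-- The homomorphism. -/
def hom : SL(2, F) →* G where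
  toFun := P.map
  map_one' := P.map_one
  map_mul' := by
    intro g k
    suffices key : ∀ g, P.map (g * k) = P.map g * P.map k from key g
    induction eq_word k using Submonoid.closure_induction with
    | mem k hk =>
      intro g
      rcases hk with ⟨s, rfl⟩ | rfl
      · rw [P.map_mul_E]
        congr 1
        simp [map, E, P.h_one]
      · rw [P.map_mul_W]
        congr 1
        simp [map, W, P.u_zero]
    | one => intro g; rw [mul_one, P.map_one, mul_one]
    | mul a b _ _ ha hb => intro g; rw [← mul_assoc, hb, ha, hb, mul_assoc]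

lemma hom_upper {g : SL(2, F)} {t : F} (hg : g.1 = !![1, t; 0, 1]) : P.hom g = P.u t := by
  show P.map g = _
  simp [map, hg, P.h_one]

lemma hom_lower {g : SL(2, F)} {t : F} (hg : g.1 = !![1, 0; t, 1]) : P.hom g = P.v t := by
  show P.map g = _
  by_cases ht : t = 0
  · simp [map, hg, ht, P.h_one, P.u_zero, P.v_zero]
  · simp [map, hg, ht, P.v_eq ht, one_div]

lemma hom_mem {K : Subgroup G} (hu : ∀ t, P.u t ∈ K) (hv : ∀ t, P.v t ∈ K) (g : SL(2, F)) :
    P.hom g ∈ K := by
  have hn : ∀ t, P.n t ∈ K := fun t => mul_mem (mul_mem (hu _) (hv _)) (hu _)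
  show P.map g ∈ K
  unfold map
  split_ifs
  · exact mul_mem (hu _) (mul_mem (hn _) (hn _))
  · exact mul_mem (mul_mem (hu _) (hn _)) (hu _)

end SL2Pair

open Cfsg.Lie

namespace Cert

variable {D : ChevalleyDatum} {T : Tab} {C : Tab.Cover} (h : Cert D T C) {F : Type*} [Field F]
include h

theorem exists_sl2_hom {r : ℕ} (hr : r < T.n) :
    ∃ φ : SL(2, F) →* GL D.Idx F,
      (∀ g, φ g ∈ D.rootSubgroup F r ⊔ D.rootSubgroup F (T.neg r)) ∧
      (∀ (g : SL(2, F)) (t : F), g.1 = !![1, t; 0, 1] → φ g = X D r t) ∧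
      (∀ (g : SL(2, F)) (t : F), g.1 = !![1, 0; t, 1] → φ g = X D (T.neg r) t) := by
  classical
  refine h.root_induction (P := fun r => ∃ φ : SL(2, F) →* GL D.Idx F,
      (∀ g, φ g ∈ D.rootSubgroup F r ⊔ D.rootSubgroup F (T.neg r)) ∧
      (∀ (g : SL(2, F)) (t : F), g.1 = !![1, t; 0, 1] → φ g = X D r t) ∧
      (∀ (g : SL(2, F)) (t : F), g.1 = !![1, 0; t, 1] → φ g = X D (T.neg r) t))
    (fun i hi => ?_) (fun i hi r hr ih => ?_) hr
  · have hp := h.simple_lt hi
    have key : ∀ a : F, X D (T.simple i) a * X D (T.neg (T.simple i)) (-a⁻¹) * X D (T.simple i) a *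
        (X D (T.simple i) (-1 : F) * X D (T.neg (T.simple i)) 1 * X D (T.simple i) (-1)) =
        hU D (T.simple i) a := by
      intro a
      simp [hU, nU, h.neg_eq hp]
    have hN : X D (T.simple i) (1 : F) * X D (T.neg (T.simple i)) (-1) * X D (T.simple i) 1 =
        nS D F i := by
      simp [nS, nU, h.simple_eq hi, h.neg_eq hp]
    let P : SL2Pair F (GL D.Idx F) :=
      { u := X D (T.simple i)
        v := X D (T.neg (T.simple i))
        u_add := h.X_add hp
        v_add := h.X_add (neg_lt (T := T) hp)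
        h_mul := fun a b ha hb => by
          rw [key, key, key]
          refine Units.ext ?_
          rw [Units.val_mul, h.coe_hU, h.coe_hU, h.coe_hU, h.hMat_root hp ha, h.hMat_root hp hb,
            h.hMat_root hp (mul_ne_zero ha hb), torus_mul]
          exact torus_congr D fun s _ => (mul_zpow a b _).symm
        h_conj := fun a s ha => by
          rw [key]
          refine Units.ext ?_
          rw [Units.val_mul, Units.val_mul, h.coe_hU, h.coe_X, h.coe_X, h.hMat_mul_x hp ha hp,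
            h.pairing_simple hi, (h.simple_spec hi).2.2.1]
          norm_cast
        w_conj := fun s => by
          rw [hN]
          have e := h.nS_conj_X (F := F) hi (neg_lt (T := T) hp) (-s)
          rw [(h.refl_spec hi hp).2.2.1, h.refl_simple hi, neg_neg (T := T) hp,
            (h.refl_spec hi hp).2.2.2.2.1, (h.refl_spec hi hp).2.2.2.2.2.2.1 rfl] at e
          rw [mul_inv_eq_iff_eq_mul] at e
          rw [e]
          push_cast
          ring_nf }
    refine ⟨P.hom, fun g => P.hom_mem (fun t => Subgroup.mem_sup_left ?_)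
      (fun t => Subgroup.mem_sup_right ?_) g, fun g t hg => P.hom_upper hg,
      fun g t hg => P.hom_lower hg⟩ <;>
    · rw [h.rootSubgroup_eq]; exact X_mem_gen D (Set.mem_singleton _) _
  · obtain ⟨φ, hmem, hu, hv⟩ := ih
    obtain ⟨-, -, hneg, -, heta, -⟩ := h.refl_spec hi hr
    set η : F := (T.eta i r : F) with hη
    have hη2 : η * η = 1 := by rw [hη, ← Int.cast_mul, T.eta_sq, Int.cast_one]
    let σ : SL(2, F) →* SL(2, F) := SL2Pair.etaConj hη2
    refine ⟨(MulAut.conj (nS D F i)).toMonoidHom.comp (φ.comp σ), fun g => ?_, fun g t hg => ?_,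
      fun g t hg => ?_⟩
    · have hle : D.rootSubgroup F r ⊔ D.rootSubgroup F (T.neg r) ≤
          (D.rootSubgroup F (T.refl i r) ⊔ D.rootSubgroup F (T.neg (T.refl i r))).comap
            (MulAut.conj (nS D F i)).toMonoidHom := by
        rw [h.rootSubgroup_eq, h.rootSubgroup_eq]
        refine sup_le ?_ ?_ <;> refine (Subgroup.closure_le _).2 ?_ <;> rintro _ ⟨q, hq, t, rfl⟩ <;> rw [Set.mem_singleton_iff.1 hq]
        · rw [SetLike.mem_coe, Subgroup.mem_comap, MulEquiv.coe_toMonoidHom, MulAut.conj_apply]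
          rw [h.nS_conj_X hi hr]
          refine Subgroup.mem_sup_left ?_
          rw [h.rootSubgroup_eq]; exact X_mem_gen D (Set.mem_singleton _) _
        · rw [SetLike.mem_coe, Subgroup.mem_comap, MulEquiv.coe_toMonoidHom, MulAut.conj_apply]
          rw [h.nS_conj_X hi (neg_lt (T := T) hr), hneg]
          refine Subgroup.mem_sup_right ?_
          rw [h.rootSubgroup_eq]; exact X_mem_gen D (Set.mem_singleton _) _
      exact hle (hmem _)
    · show nS D F i * φ (σ g) * (nS D F i)⁻¹ = _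
      rw [hu (σ g) (η * t) (by rw [SL2Pair.etaConj_val, hg]; simp), h.nS_conj_X hi hr, ← hη, ← mul_assoc, hη2, one_mul]
    · show nS D F i * φ (σ g) * (nS D F i)⁻¹ = _
      rw [hv (σ g) (η * t) (by rw [SL2Pair.etaConj_val, hg]; simp), h.nS_conj_X hi (neg_lt (T := T) hr), hneg, heta,
        ← hη, ← mul_assoc, hη2, one_mul]

end Cert

end CfsgLib.Chev
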