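import Cfsg.Agent.Lib.Chev.Bruhat

/-!
Trivial core of `B`, perfectness, irreducibility, and simplicity of Chevalley groups.
-/

set_option autoImplicit false

namespace CfsgLib.Chev

open Cfsg.Lie Matrix

/-- The Dynkin graph is connected: a set of nodes closed under adjacency containing `0` has all. -/
def Connected (T : Tab) : Prop :=
  ∀ Q : ℕ → Prop, (∀ i j, i < T.l → j < T.l → T.car i (T.simple j) ≠ 0 → (Q i ↔ Q j)) →
    ∀ i j, i < T.l → j < T.l → Q i → Q j

/-- A spanning tree proves connectedness. -/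
theorem connected_of_tree (T : Tab) (L : List (ℕ × ℕ × ℕ))
    (hL : (match Tab.covers (fun a _ b =>
        decide (a < T.l ∧ b < T.l ∧ T.car a (T.simple b) ≠ 0)) (Tab.bitsOf [0]) L with
      | none => false
      | some seen => (List.range T.l).all fun r => seen.testBit r) = true) :
    Connected T := by
  split at hL
  · cases hL
  next seen hs =>
    rw [List.all_eq_true] at hL
    intro Q hQ i j hi hj hQi
    have h0 : ∀ r, seen.testBit r = true → (Q r ↔ Q 0) := by
      refine covers_spec _ _ hs (fun r hr => ?_) fun e _ hst ih => ?_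
      · rw [testBit_bitsOf, List.mem_singleton] at hr
        rw [hr]
      · simp only [decide_eq_true_eq] at hst
        exact (hQ _ _ hst.1 hst.2.1 hst.2.2).trans ih
    exact (h0 j (hL j (List.mem_range.2 hj))).2 ((h0 i (hL i (List.mem_range.2 hi))).1 hQi)

namespace Cert

variable {D : ChevalleyDatum} {T : Tab} {C : Tab.Cover} (h : Cert D T C) {F : Type*} [Field F]
include h

lemma eq_zero_of_X_mem_diagonal {r : ℕ} (hr : r < T.n) {z : F}
    (hz : X D r z ∈ D.diagonalSubgroup F) : z = 0 := by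
  refine h.eq_zero_of_cor_mul hr fun i hi => ?_
  obtain ⟨c, -, e⟩ := h.mem_diagonalSubgroup_iff.1 hz
  have hlt := neg_lt (T := T) hr
  have h1 := congrFun (congrFun e (Sum.inl ⟨i, lt_of_lt_of_eq hi h.rank_eq.symm⟩))
    (Sum.inr ⟨T.neg r, lt_of_lt_of_eq hlt h.nroots_eq.symm⟩)
  rw [h.coe_X, h.x_inl_inr hr, if_pos rfl] at h1
  rw [h1, torus, Matrix.diagonal_apply_ne]
  simp

/-- `B ∩ n₀ B n₀⁻¹ = H`. -/
lemma mem_diagonal_of_conj {n g : GL D.Idx F} (hn : n ∈ D.monomialSubgroup F)
    (hmap : (D.posUnipotent F).map (MulAut.conj n).toMonoidHom = D.negUnipotent F)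
    (hg : g ∈ D.borelSubgroup F) (hng : n * g * n⁻¹ ∈ D.borelSubgroup F) :
    g ∈ D.diagonalSubgroup F := by
  obtain ⟨u, hu, t, ht, rfl⟩ := h.mem_borel_iff.1 hg
  have ht' : n * t * n⁻¹ ∈ D.borelSubgroup F := Subgroup.mem_sup_right
    ((Subgroup.mem_normalizer_iff.1 (h.monomial_le_normalizer_diagonal hn) t).1 ht)
  have hv : n * u * n⁻¹ ∈ D.borelSubgroup F ⊓ D.negUnipotent F := by
    refine Subgroup.mem_inf.2 ⟨?_, hmap ▸ ⟨u, hu, rfl⟩⟩
    have := mul_mem hng (inv_mem ht')
    rwa [show n * (u * t) * n⁻¹ * (n * t * n⁻¹)⁻¹ = n * u * n⁻¹ by group] at this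
  rw [h.borel_inf_negUnipotent, Subgroup.mem_bot, conj_eq_one_iff] at hv
  rw [hv, one_mul]; exact ht

/-- A normal subgroup inside `B` is trivial. -/
theorem normalCore_borel :
    ((D.borelSubgroup F).subgroupOf (D.group F)).normalCore = ⊥ := by
  rw [eq_bot_iff]
  intro k hk
  obtain ⟨n, hn, hmap⟩ := h.exists_opposite (F := F)
  have hcore := Subgroup.normalCore_normal ((D.borelSubgroup F).subgroupOf (D.group F))
  have hH : ∀ g ∈ ((D.borelSubgroup F).subgroupOf (D.group F)).normalCore,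
      (g : GL D.Idx F) ∈ D.diagonalSubgroup F := fun g hg =>
    h.mem_diagonal_of_conj hn hmap
      (Subgroup.normalCore_le ((D.borelSubgroup F).subgroupOf (D.group F)) hg)
      (Subgroup.normalCore_le ((D.borelSubgroup F).subgroupOf (D.group F))
        (hcore.conj_mem g hg ⟨n, h.monomial_le_group hn⟩))
  have hkd := hH k hk
  obtain ⟨c, hc, e⟩ := h.mem_diagonalSubgroup_iff.1 hkd
  have hone : ∀ r < T.n, charOf T c r = 1 := by
    intro r hr
    let x : ↥(D.group F) := ⟨X D r 1, h.X_mem_group hr 1⟩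
    have hmem := hH _ (mul_mem hk (hcore.conj_mem _ (inv_mem hk) x))
    have e1 : (k : GL D.Idx F) * X D r 1 * (k : GL D.Idx F)⁻¹ = X D r (charOf T c r * 1) := by
      rw [mul_inv_eq_iff_eq_mul]
      refine Units.ext ?_
      rw [Units.val_mul, Units.val_mul, h.coe_X, h.coe_X, e,
        h.torus_mul_x (h.isChar_charOf hc) hr]
    have e2 : ((k * (x * k⁻¹ * x⁻¹) : ↥(D.group F)) : GL D.Idx F) =
        X D r (charOf T c r * 1 + -1) := by
      show (k : GL D.Idx F) * (X D r 1 * (k : GL D.Idx F)⁻¹ * (X D r 1)⁻¹) = _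
      rw [← h.X_add hr, ← e1, h.X_inv hr]; group
    rw [e2] at hmem
    have := h.eq_zero_of_X_mem_diagonal hr hmem
    linear_combination this
  rw [Subgroup.mem_bot]
  refine Subtype.ext (Units.ext ?_)
  rw [e, OneMemClass.coe_one, Units.val_one, ← torus_one D]
  exact torus_congr D fun s hs => hone s (lt_of_lt_of_eq hs h.nroots_eq)

/-! ### Perfectness -/

omit h in
lemma comm_mem {g g' : GL D.Idx F} (hg : g ∈ D.group F) (hg' : g' ∈ D.group F) :
    g * g' * g⁻¹ * g'⁻¹ ∈ ⁅D.group F, D.group F⁆ := by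
  rw [← commutatorElement_def]; exact Subgroup.commutator_mem_commutator hg hg'

omit h in
/-- The commutator subgroup contains the root subgroup of `r`. -/
def InDerived (D : ChevalleyDatum) (F : Type*) [Field F] (r : ℕ) : Prop :=
  ∀ t : F, X D r t ∈ ⁅D.group F, D.group F⁆

lemma inDerived_refl {i r : ℕ} (hi : i < T.l) (hr : r < T.n) (hd : InDerived D F r) :
    InDerived D F (T.refl i r) := by
  intro t
  have hs : nS D F i ∈ D.group F := h.monomial_le_group (h.nS_mem_monomial hi)
  have h1 := hd ((T.eta i r : F) * t)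
  have h2 := mul_mem (comm_mem hs (h.X_mem_group hr ((T.eta i r : F) * t))) h1
  rw [show nS D F i * X D r ((T.eta i r : F) * t) * (nS D F i)⁻¹ *
      (X D r ((T.eta i r : F) * t))⁻¹ * X D r ((T.eta i r : F) * t) =
      nS D F i * X D r ((T.eta i r : F) * t) * (nS D F i)⁻¹ by group, h.nS_conj_X hi hr,
    ← mul_assoc] at h2
  rcases T.eta_cases i r with e | e <;> simpa [e] using h2

lemma inDerived_torus {j r : ℕ} (hj : j < T.l) (hr : r < T.n) {c : F} (hc : c ≠ 0)
    (hne : c ^ T.car j r ≠ 1) : InDerived D F r := by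
  intro t
  have hp : D.simple j < T.n := by rw [h.simple_eq hj]; exact h.simple_lt hj
  have hh : hU D (D.simple j) c ∈ D.group F := h.diagonal_le_group (h.hU_mem hp hc)
  have hsub : c ^ T.car j r - 1 ≠ 0 := sub_ne_zero.2 hne
  have h1 := comm_mem hh (h.X_mem_group hr ((c ^ T.car j r - 1)⁻¹ * t))
  have e : hU D (D.simple j) c * X D r ((c ^ T.car j r - 1)⁻¹ * t) * (hU D (D.simple j) c)⁻¹ =
      X D r (c ^ T.car j r * ((c ^ T.car j r - 1)⁻¹ * t)) := by
    rw [mul_inv_eq_iff_eq_mul]
    refine Units.ext ?_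
    rw [Units.val_mul, Units.val_mul, h.coe_X, h.coe_X, h.coe_hU, h.hMat_simple hj hc,
      h.torus_mul_x (h.isChar_pow j hc hj) hr]
  rw [e, h.X_inv hr, h.X_add hr] at h1
  convert h1 using 2
  field_simp
  ring

lemma inDerived_single {a b k : ℕ} {c : ℤ} (ha : a < T.n) (hb : b < T.n)
    (hk : T.commTerms a b = [(k, c, 1, 1)]) (hc : c = 1 ∨ c = -1) :
    InDerived D F k := by
  have hne : b ≠ a ∧ b ≠ T.neg a := by
    by_cases he : T.entry a b = []
    · exfalso
      have hba : T.entry b a = [] := by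
        by_contra hne
        exact (h.chain_spec hb ha hne).2.2.1 he
      simp [Tab.commTerms, Tab.chainRoot, he, hba] at hk
    · exact ⟨(h.chain_spec ha hb he).1, (h.chain_spec ha hb he).2.1⟩
  intro z
  have e := h.X_conj (F := F) ha hb hne.1 hne.2 1 (-(c : F) * z)
  rw [hk] at e
  simp only [List.map_cons, List.map_nil, List.prod_cons, List.prod_nil, mul_one, pow_one] at e
  have hz : (c : F) * -1 * (-(c : F) * z) = z := by
    rcases hc with rfl | rfl <;> simp
  rw [hz] at e
  have h1 := comm_mem (inv_mem (h.X_mem_group hb (-(c : F) * z))) (h.X_mem_group ha (-1 : F))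
  convert h1 using 1
  rw [h.X_inv ha, _root_.neg_neg, inv_inv,
    show (X D b (-(c : F) * z))⁻¹ * X D a (-1) * X D b (-(c : F) * z) * X D a 1 =
      (X D b (-(c : F) * z))⁻¹ * (X D a (-1) * X D b (-(c : F) * z) * X D a 1) by group, e,
    inv_mul_cancel_left]

lemma inDerived_second {a b k₁ k : ℕ} {c₁ : ℤ} (ha : a < T.n) (hb : b < T.n)
    (hk : T.commTerms a b = [(k₁, c₁, 1, 1), (k, 1, 2, 1)]) (h1 : InDerived D F k₁) :
    InDerived D F k := by
  have hne : b ≠ a ∧ b ≠ T.neg a := by
    by_cases he : T.entry a b = []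
    · exfalso
      have hba : T.entry b a = [] := by
        by_contra hne
        exact (h.chain_spec hb ha hne).2.2.1 he
      simp [Tab.commTerms, Tab.chainRoot, he, hba] at hk
    · exact ⟨(h.chain_spec ha hb he).1, (h.chain_spec ha hb he).2.1⟩
  intro z
  have e := h.X_conj (F := F) ha hb hne.1 hne.2 1 z
  rw [hk] at e
  simp only [List.map_cons, List.map_nil, List.prod_cons, List.prod_nil, mul_one, pow_one,
    Int.cast_one, one_mul] at e
  rw [show ((-1 : F)) ^ 2 * z = z by ring] at e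
  have h2 := comm_mem (inv_mem (h.X_mem_group hb z)) (h.X_mem_group ha (-1 : F))
  have h3 : X D k₁ ((c₁ : F) * -1 * z) * X D k z ∈ ⁅D.group F, D.group F⁆ := by
    convert h2 using 1
    rw [h.X_inv ha, _root_.neg_neg, inv_inv,
      show (X D b z)⁻¹ * X D a (-1) * X D b z * X D a 1 =
        (X D b z)⁻¹ * (X D a (-1) * X D b z * X D a 1) by group, e, inv_mul_cancel_left]
  have := mul_mem (inv_mem (h1 ((c₁ : F) * -1 * z))) h3
  rwa [inv_mul_cancel_left] at this

theorem commutator_eq_top (hd : ∀ i < T.l, InDerived D F (T.simple i)) :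
    commutator ↥(D.group F) = ⊤ := by
  have hle : D.group F ≤ ⁅D.group F, D.group F⁆ := by
    conv_lhs => rw [h.group_eq]
    refine (Subgroup.closure_le _).2 ?_
    rintro _ ⟨r, hr, t, rfl⟩
    exact h.root_induction (P := fun r => InDerived D F r) hd
      (fun i hi r hr ih => h.inDerived_refl hi hr ih) hr t
  have e : ⁅D.group F, D.group F⁆ = D.group F := le_antisymm (Subgroup.commutator_le_self _) hle
  apply Subgroup.map_injective (D.group F).subtype_injective
  rw [Subgroup.map_subtype_commutator, e, ← MonoidHom.range_eq_map, Subgroup.range_subtype]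

/-! ### Irreducibility and simplicity -/

lemma rword_pair_ne {i j : ℕ} (hi : i < T.l) (hj : j < T.l) (hij : i ≠ j)
    (hA : T.car i (T.simple j) ≠ 0) :
    rword T [i, j] (T.simple j) ≠ rword T [j, i] (T.simple j) := by
  intro e
  have hp := h.simple_lt hj
  have hwp := h.refl_lt hi hp
  have e' : T.refl i (T.refl j (T.simple j)) = T.refl j (T.refl i (T.simple j)) := e
  rw [h.refl_simple hj, (h.refl_spec hi hp).2.2.1] at e'
  have e2 := congrArg (h.wt i) e'
  rw [h.wt_neg hwp, h.wt_refl hj hwp, h.wt_refl hi hp,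
    h.wt_simple_of_ne hj hi (Ne.symm hij)] at e2
  have hpos := h.wt_simple hi hi
  rw [if_pos rfl] at hpos
  have : T.car i (T.simple j) * h.wt i (T.simple i) = 0 := by linarith
  rcases mul_eq_zero.1 this with a | a
  · exact hA a
  · omega

theorem simple_group (hconn : Connected T) (hperf : commutator ↥(D.group F) = ⊤)
    (hsolv : Group.IsSolvable ↥(D.borelSubgroup F)) :
    IsSimpleGroup ↥(D.group F) ∧ ¬ IsMulCommutative ↥(D.group F) := by
  obtain ⟨P, hB, hN, hS⟩ := h.exists_bnPair (F := F)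
  have hi₀ := h.rank_pos
  have hp := h.simple_lt hi₀
  have hmem : ∀ i < T.l, nS D F i ∈ D.group F := fun i hi =>
    h.monomial_le_group (h.nS_mem_monomial hi)
  have hne : (T.eta 0 (T.simple 0) : F) * 1 ≠ 0 := by
    rcases T.eta_cases 0 (T.simple 0) with e | e <;> simp [e]
  have hnc : (⟨nS D F 0, hmem 0 hi₀⟩ : ↥(D.group F)) * ⟨X D (T.simple 0) 1, h.X_mem_group hp 1⟩ ≠
      ⟨X D (T.simple 0) 1, h.X_mem_group hp 1⟩ * ⟨nS D F 0, hmem 0 hi₀⟩ := by
    intro e
    have e' : nS D F 0 * X D (T.simple 0) 1 = X D (T.simple 0) 1 * nS D F 0 :=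
      congrArg Subtype.val e
    have e2 := h.nS_conj_X (F := F) hi₀ hp 1
    rw [e', mul_inv_cancel_right, h.refl_simple hi₀] at e2
    exact h.neg_ne hp (h.root_eq_of_X_eq hp (neg_lt (T := T) hp) one_ne_zero e2).symm
  refine ⟨?_, fun hc => hnc (hc.is_comm.comm _ _)⟩
  have : Nontrivial ↥(D.group F) := ⟨⟨_, _, hnc⟩⟩
  refine CfsgLib.BN.isSimpleGroup (P := P) ?_ ?_ hperf (by rw [hB]; exact h.normalCore_borel)
  · -- irreducible
    intro J hJS hJ hJ'
    obtain ⟨a, ha⟩ := hJ
    obtain ⟨b, hb⟩ := hJ'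
    have haS := hJS ha
    have hbS := hb.1
    rw [hS] at haS hbS
    obtain ⟨i₀, hi₀, ea⟩ := haS
    obtain ⟨j₀, hj₀, eb⟩ := hbS
    let Q : ℕ → Prop := fun i => ∀ g : ↥(D.group F), (g : GL D.Idx F) = nS D F i → g ∈ J
    by_contra hcomm
    push Not at hcomm
    have hQ : ∀ i j, i < T.l → j < T.l → T.car i (T.simple j) ≠ 0 → (Q i ↔ Q j) := by
      intro i j hi hj hA
      by_cases hij : i = j
      · rw [hij]
      by_contra hiff
      have hor : (Q i ∧ ¬ Q j) ∨ (Q j ∧ ¬ Q i) := by tauto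
      let si : ↥(D.group F) := ⟨nS D F i, hmem i hi⟩
      let sj : ↥(D.group F) := ⟨nS D F j, hmem j hj⟩
      have key : si * sj * si⁻¹ * sj⁻¹ ∈ P.B := by
        rcases hor with ⟨h1, h2⟩ | ⟨h1, h2⟩
        · refine hcomm si (h1 si rfl) sj ⟨?_, fun hj' => h2 fun g eg => ?_⟩
          · rw [hS]; exact ⟨j, hj, rfl⟩
          · rwa [show g = sj from Subtype.ext eg]
        · have := inv_mem (hcomm sj (h1 sj rfl) si ⟨by rw [hS]; exact ⟨i, hi, rfl⟩,
            fun hi' => h2 fun g eg => by rwa [show g = si from Subtype.ext eg]⟩)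
          rwa [show (sj * si * sj⁻¹ * si⁻¹)⁻¹ = si * sj * si⁻¹ * sj⁻¹ by group] at this
      rw [hB, Subgroup.mem_subgroupOf] at key
      have key' : nS D F i * nS D F j * (nS D F i)⁻¹ * (nS D F j)⁻¹ ∈ D.borelSubgroup F := key
      have hd : nS D F i * nS D F j * (nS D F i)⁻¹ * (nS D F j)⁻¹ ∈ D.diagonalSubgroup F := by
        rw [← h.borel_inf_monomial]
        exact Subgroup.mem_inf.2 ⟨key', mul_mem (mul_mem (mul_mem (h.nS_mem_monomial hi)
          (h.nS_mem_monomial hj)) (inv_mem (h.nS_mem_monomial hi))) (inv_mem (h.nS_mem_monomial hj))⟩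
      have hw : WordOK T [i, j] := by intro k hk; simp at hk; rcases hk with rfl | rfl <;> assumption
      have hw' : WordOK T [j, i] := by intro k hk; simp at hk; rcases hk with rfl | rfl <;> assumption
      have hpj := h.simple_lt hj
      have m1 := h.Maps_nW (F := F) hw hpj
      have m2 := Maps_mul (h.Maps_nW (F := F) hw' hpj) (h.Maps_diagonal hd (h.rword_lt hw' hpj))
      rw [show nS D F i * nS D F j * (nS D F i)⁻¹ * (nS D F j)⁻¹ * nW D F [j, i] =
        nW D F [i, j] by simp [nW, mul_assoc]] at m2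
      exact h.rword_pair_ne hi hj hij hA
        (h.Maps_unique (h.rword_lt hw hpj) (h.rword_lt hw' hpj) m1 m2)
    have hQi : Q i₀ := fun g eg => by rwa [show g = a from Subtype.ext (eg.trans ea.symm)]
    exact hb.2 (hconn Q hQ i₀ j₀ hi₀ hj₀ hQi b eb)
  · rw [hB]
    have := hsolv
    let e : ↥((D.borelSubgroup F).subgroupOf (D.group F)) ≃* ↥(D.borelSubgroup F) :=
      Subgroup.subgroupOfEquivOfLe h.borel_le_group
    exact Group.isSolvable_of_isSolvable_injective (f := e.toMonoidHom) e.injective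

end Cert

end CfsgLib.Chev
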