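import Cfsg.Agent.Lib.Chev.Tab

/-! Packed tables of type B2 (generated from the prelude file). -/

set_option autoImplicit false

namespace CfsgLib.Chev

def tabB2Row0 : ℕ := 0xe03000000048080000000000000000000000000000000000000000000000000000
def tabB2Row1 : ℕ := 0x120438180000000000000000030100004805203000000000000000001401000000000000000000000
def tabB2Row2 : ℕ := 0xe05481c0000000c050000000000000000000000000e0148080000000000000000030040000000000
def tabB2Row3 : ℕ := 0x1206000000000000000000000000000000000000000e02000000000000000000000
def tabB2Row4 : ℕ := 0x481c00000000000000000000000000000000000000380c0000000000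
def tabB2Row5 : ℕ := 0x1408000000000000003820e07000000000000000000000000000050100003810e02
def tabB2Row6 : ℕ := 0x30200000000000000120838180000001405000000000000004815203
def tabB2Row7 : ℕ := 0xe07000000048180000000000

/-- Packed rows of type B2. -/
def tabB2Rows : RT :=
  (.node (.node (.node (.leaf tabB2Row0) (.leaf tabB2Row4)) (.node (.leaf tabB2Row2) (.leaf tabB2Row6))) (.node (.node (.leaf tabB2Row1) (.leaf tabB2Row5)) (.node (.leaf tabB2Row3) (.leaf tabB2Row7))))

/-- Packed tables of type B2. -/
noncomputable def tabB2 : Tab where
  n := 8
  l := 2
  row := RT.get tabB2Rows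
  simpleP := 0x405
  corP := 0x8c651846307c20f73def
  carP := 0x715313ae9a59
  wP := 0x7050603040102000406020700050103
  etaP := 0x5aff

end CfsgLib.Chev
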