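import Cfsg.Agent.Lib.Chev.Check
import Cfsg.Agent.Lib.Chev.DataB2
import Cfsg.Prelude.Def_ChevB2

/-! Certified tables of type B2 (generated). -/

set_option autoImplicit false
set_option maxRecDepth 100000

namespace CfsgLib.Chev

/-- Orbit data of type B2. -/
def coverB2 : Tab.Cover where
  base :=
    [(6, [0, 2, 4], [(3, 0, 0), (5, 0, 2), (7, 0, 4)]),
     (7, [1, 3, 5], [(2, 1, 1), (4, 1, 3), (6, 1, 5)])]
  tree :=
    [(5, 1, 6), (4, 0, 7), (2, 0, 5), (3, 1, 4), (1, 1, 2), (0, 0, 3)]

theorem rowsB2 : tabB2.chkRows Cfsg.Lie.chevB2 = true := by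
  decide +kernel

theorem smallTabsB2 : Cfsg.Lie.chevB2.rank = tabB2.l ∧ Cfsg.Lie.chevB2.nroots = tabB2.n ∧
    Cfsg.Lie.chevB2.negIdx.toList = (List.range tabB2.n).map tabB2.neg ∧
    Cfsg.Lie.chevB2.simpleIdx.toList = (List.range tabB2.l).map tabB2.simple ∧
    Cfsg.Lie.chevB2.coroot.toList.map Array.toList =
      (List.range tabB2.n).map (fun r => (List.range tabB2.l).map (tabB2.cor r)) ∧
    Cfsg.Lie.chevB2.cartanSR.toList.map Array.toList =
      (List.range tabB2.l).map (fun i => (List.range tabB2.n).map (tabB2.car i)) := by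
  decide +kernel

theorem chkBasicB2 : tabB2.chkBasic = true := by
  decide +kernel

theorem chkUnitB2 : tabB2.chkUnit = true := by
  decide +kernel

theorem chkChainsB2 : tabB2.chkChains = true := by
  decide +kernel

theorem chkReflB2 : tabB2.chkRefl = true := by
  decide +kernel

theorem chkReflCalcB2 : tabB2.chkReflCalc = true := by
  decide +kernel

theorem chkNB2 : tabB2.chkN = true := by
  decide +kernel

theorem chkConjB2 : tabB2.chkConj = true := by
  decide +kernel

theorem chkCoverB2 : tabB2.chkCover coverB2 = true := by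
  decide +kernel

theorem chkLinB2 : tabB2.chkLin = true := by
  decide +kernel

theorem chkDescB2 : tabB2.chkDesc = true := by
  decide +kernel

/-- The linear functions of type B2. -/
def weightsB2 : List (List ℤ) :=
  [[2, 2],
   [1, 2]]

theorem chkWeightB2 : tabB2.chkWeight weightsB2 = true := by
  decide +kernel

end CfsgLib.Chev
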