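import Cfsg.Agent.Lib.Chev.Check
import Cfsg.Agent.Lib.Chev.DataD4
import Cfsg.Prelude.Def_ChevD4

/-! Certified tables of type D4 (generated). -/

set_option autoImplicit false
set_option maxRecDepth 100000

namespace CfsgLib.Chev

/-- Orbit data of type D4. -/
def coverD4 : Tab.Cover where
  base :=
    [(23, [1, 5, 10, 11, 14], [(6, 0, 1), (3, 2, 1), (2, 3, 1), (8, 2, 6), (7, 3, 6), (4, 3, 3), (9,
    3, 8), (18, 0, 5), (13, 2, 10), (12, 3, 11), (19, 0, 14), (16, 2, 14), (15, 3, 14), (21, 2,
    19), (20, 3, 19), (17, 3, 16), (22, 3, 21)])]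
  tree :=
    [(22, 1, 23), (17, 0, 22), (20, 2, 22), (21, 3, 22), (15, 2, 17), (16, 3, 17), (19, 3, 20),
    (12, 1, 15), (14, 3, 15), (13, 1, 16), (18, 1, 19), (11, 3, 12), (9, 1, 14), (10, 2, 13),
    (5, 0, 18), (8, 1, 11), (4, 0, 9), (7, 2, 9), (3, 0, 8), (6, 2, 8), (2, 2, 4), (1, 2, 3),
    (0, 1, 1)]

theorem rowsD4 : tabD4.chkRows Cfsg.Lie.chevD4 = true := by
  decide +kernel

theorem smallTabsD4 : Cfsg.Lie.chevD4.rank = tabD4.l ∧ Cfsg.Lie.chevD4.nroots = tabD4.n ∧
    Cfsg.Lie.chevD4.negIdx.toList = (List.range tabD4.n).map tabD4.neg ∧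
    Cfsg.Lie.chevD4.simpleIdx.toList = (List.range tabD4.l).map tabD4.simple ∧
    Cfsg.Lie.chevD4.coroot.toList.map Array.toList =
      (List.range tabD4.n).map (fun r => (List.range tabD4.l).map (tabD4.cor r)) ∧
    Cfsg.Lie.chevD4.cartanSR.toList.map Array.toList =
      (List.range tabD4.l).map (fun i => (List.range tabD4.n).map (tabD4.car i)) := by
  decide +kernel

theorem chkBasicD4 : tabD4.chkBasic = true := by
  decide +kernel

theorem chkUnitD4 : tabD4.chkUnit = true := by
  decide +kernel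

theorem chkChainsD4 : tabD4.chkChains = true := by
  decide +kernel

theorem chkReflD4 : tabD4.chkRefl = true := by
  decide +kernel

theorem chkReflCalcD4 : tabD4.chkReflCalc = true := by
  decide +kernel

theorem chkND4 : tabD4.chkN = true := by
  decide +kernel

theorem chkConjD4 : tabD4.chkConj = true := by
  decide +kernel

theorem chkCoverD4 : tabD4.chkCover coverD4 = true := by
  decide +kernel

theorem chkLinD4 : tabD4.chkLin = true := by
  decide +kernel

theorem chkDescD4 : tabD4.chkDesc = true := by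
  decide +kernel

/-- The linear functions of type D4. -/
def weightsD4 : List (List ℤ) :=
  [[2, 2, 1, 1],
   [2, 4, 2, 2],
   [1, 2, 2, 1],
   [1, 2, 1, 2]]

theorem chkWeightD4 : tabD4.chkWeight weightsD4 = true := by
  decide +kernel

end CfsgLib.Chev
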