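import Cfsg.Agent.Lib.Chev.Check
import Cfsg.Agent.Lib.Chev.DataE6
import Cfsg.Prelude.Def_ChevE6

/-! Certified tables of type E6 (generated). -/

set_option autoImplicit false
set_option maxRecDepth 100000

namespace CfsgLib.Chev

/-- Orbit data of type E6. -/
def coverE6 : Tab.Cover where
  base :=
    [(71, [1, 11, 46], [(2, 3, 1), (5, 2, 2), (3, 4, 2), (16, 0, 5), (6, 4, 5), (4, 5, 3), (17, 4,
    16), (8, 3, 6), (7, 5, 6), (19, 3, 17), (18, 5, 17), (9, 5, 8), (22, 2, 19), (20, 5, 19),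
    (10, 4, 9), (23, 5, 22), (21, 4, 20), (24, 4, 23), (25, 3, 24), (26, 0, 11), (12, 5, 11),
    (30, 2, 26), (27, 5, 26), (13, 4, 12), (33, 3, 30), (31, 5, 30), (28, 4, 27), (14, 3, 13),
    (35, 4, 33), (34, 5, 33), (32, 4, 31), (29, 3, 28), (15, 2, 14), (36, 5, 35), (37, 4, 34),
    (39, 3, 32), (42, 2, 29), (56, 0, 15), (38, 4, 36), (40, 3, 37), (43, 2, 39), (57, 0, 42),
    (41, 3, 38), (44, 2, 40), (58, 0, 43), (45, 2, 41), (59, 0, 44), (60, 0, 45), (47, 3, 46),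
    (50, 2, 47), (48, 4, 47), (61, 0, 50), (51, 4, 50), (49, 5, 48), (62, 4, 61), (53, 3, 51),
    (52, 5, 51), (64, 3, 62), (63, 5, 62), (54, 5, 53), (67, 2, 64), (65, 5, 64), (55, 4, 54),
    (68, 5, 67), (66, 4, 65), (69, 4, 68), (70, 3, 69)])]
  tree :=
    [(70, 1, 71), (69, 3, 70), (66, 2, 69), (68, 4, 69), (55, 0, 66), (65, 4, 66), (67, 5, 68),
    (54, 4, 55), (63, 3, 65), (64, 5, 65), (52, 3, 54), (53, 5, 54), (60, 1, 63), (62, 5, 63),
    (45, 1, 52), (49, 2, 52), (51, 5, 52), (59, 5, 60), (61, 4, 62), (41, 2, 45), (44, 5, 45),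
    (48, 5, 49), (50, 4, 51), (58, 4, 59), (38, 3, 41), (40, 5, 41), (43, 4, 44), (47, 4, 48),
    (57, 3, 58), (36, 4, 38), (37, 5, 38), (39, 4, 40), (42, 3, 43), (46, 3, 47), (56, 2, 57),
    (35, 5, 36), (34, 4, 37), (32, 3, 39), (29, 2, 42), (25, 1, 46), (15, 0, 56), (33, 4, 35),
    (31, 3, 34), (24, 1, 32), (28, 2, 32), (14, 0, 29), (30, 3, 33), (23, 1, 31), (27, 2, 31),
    (21, 2, 24), (13, 0, 28), (22, 1, 30), (26, 2, 30), (20, 2, 23), (12, 0, 27), (10, 0, 21),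
    (19, 2, 22), (11, 0, 26), (9, 0, 20), (18, 3, 20), (8, 0, 19), (17, 3, 19), (7, 3, 9), (6,
    3, 8), (16, 4, 17), (4, 2, 7), (3, 2, 6), (5, 4, 6), (2, 4, 3), (1, 3, 2), (0, 1, 1)]

theorem rowsE6 : tabE6.chkRows Cfsg.Lie.chevE6 = true := by
  decide +kernel

theorem smallTabsE6 : Cfsg.Lie.chevE6.rank = tabE6.l ∧ Cfsg.Lie.chevE6.nroots = tabE6.n ∧
    Cfsg.Lie.chevE6.negIdx.toList = (List.range tabE6.n).map tabE6.neg ∧
    Cfsg.Lie.chevE6.simpleIdx.toList = (List.range tabE6.l).map tabE6.simple ∧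
    Cfsg.Lie.chevE6.coroot.toList.map Array.toList =
      (List.range tabE6.n).map (fun r => (List.range tabE6.l).map (tabE6.cor r)) ∧
    Cfsg.Lie.chevE6.cartanSR.toList.map Array.toList =
      (List.range tabE6.l).map (fun i => (List.range tabE6.n).map (tabE6.car i)) := by
  decide +kernel

theorem chkBasicE6 : tabE6.chkBasic = true := by
  decide +kernel

theorem chkUnitE6 : tabE6.chkUnit = true := by
  decide +kernel

theorem chkChainsE6 : tabE6.chkChains = true := by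
  decide +kernel

theorem chkReflE6 : tabE6.chkRefl = true := by
  decide +kernel

theorem chkReflCalcE6 : tabE6.chkReflCalc = true := by
  decide +kernel

theorem chkNE6 : tabE6.chkN = true := by
  decide +kernel

theorem chkConjE6 : tabE6.chkConj = true := by
  decide +kernel

theorem chkCoverE6 : tabE6.chkCover coverE6 = true := by
  decide +kernel

theorem chkLinE6 : tabE6.chkLin = true := by
  decide +kernel

theorem chkDescE6 : tabE6.chkDesc = true := by
  decide +kernel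

/-- The linear functions of type E6. -/
def weightsE6 : List (List ℤ) :=
  [[4, 3, 5, 6, 4, 2],
   [3, 6, 6, 9, 6, 3],
   [5, 6, 10, 12, 8, 4],
   [6, 9, 12, 18, 12, 6],
   [4, 6, 8, 12, 10, 5],
   [2, 3, 4, 6, 5, 4]]

theorem chkWeightE6 : tabE6.chkWeight weightsE6 = true := by
  decide +kernel

end CfsgLib.Chev
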