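import Cfsg.Agent.Lib.Chev.Check
import Cfsg.Agent.Lib.Chev.DataE7
import Cfsg.Prelude.Def_ChevE7

/-! Certified tables of type E7 (generated). -/

set_option autoImplicit false
set_option maxRecDepth 100000

namespace CfsgLib.Chev

/-- Orbit data of type E7. -/
def coverE7 : Tab.Cover where
  base :=
    [(125, [1, 33, 93], [(2, 2, 1), (3, 3, 2), (7, 1, 3), (4, 4, 3), (8, 4, 7), (5, 5, 4), (11, 3,
    8), (9, 5, 8), (6, 6, 5), (17, 2, 11), (12, 5, 11), (10, 6, 9), (18, 5, 17), (14, 4, 12),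
    (13, 6, 12), (20, 4, 18), (19, 6, 18), (15, 6, 14), (23, 3, 20), (21, 6, 20), (16, 5, 15),
    (27, 1, 23), (24, 6, 23), (22, 5, 21), (28, 6, 27), (25, 5, 24), (29, 5, 28), (26, 4, 25),
    (30, 4, 29), (31, 3, 30), (32, 2, 31), (34, 5, 33), (36, 4, 34), (35, 6, 34), (39, 3, 36),
    (37, 6, 36), (48, 1, 39), (43, 2, 39), (40, 6, 39), (38, 5, 37), (53, 2, 48), (49, 6, 48),
    (44, 6, 43), (41, 5, 40), (57, 3, 53), (54, 6, 53), (50, 5, 49), (45, 5, 44), (42, 4, 41),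
    (60, 4, 57), (58, 6, 57), (55, 5, 54), (51, 4, 50), (46, 4, 45), (62, 5, 60), (61, 6, 60),
    (59, 5, 58), (56, 4, 55), (52, 3, 51), (47, 3, 46), (63, 6, 62), (64, 5, 61), (66, 4, 59),
    (69, 3, 56), (73, 2, 52), (78, 1, 47), (65, 5, 63), (67, 4, 64), (70, 3, 66), (79, 1, 69),
    (74, 2, 69), (68, 4, 65), (71, 3, 67), (80, 1, 70), (75, 2, 70), (83, 2, 79), (72, 3, 68),
    (81, 1, 71), (76, 2, 71), (84, 2, 80), (82, 1, 72), (77, 2, 72), (85, 2, 81), (87, 3, 84),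
    (86, 2, 82), (88, 3, 85), (89, 3, 86), (90, 4, 88), (91, 4, 89), (92, 5, 91), (94, 2, 93),
    (95, 3, 94), (99, 1, 95), (96, 4, 95), (100, 4, 99), (97, 5, 96), (103, 3, 100), (101, 5,
    100), (98, 6, 97), (109, 2, 103), (104, 5, 103), (102, 6, 101), (110, 5, 109), (106, 4,
    104), (105, 6, 104), (112, 4, 110), (111, 6, 110), (107, 6, 106), (115, 3, 112), (113, 6,
    112), (108, 5, 107), (119, 1, 115), (116, 6, 115), (114, 5, 113), (120, 6, 119), (117, 5,
    116), (121, 5, 120), (118, 4, 117), (122, 4, 121), (123, 3, 122), (124, 2, 123)])]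
  tree :=
    [(124, 0, 125), (123, 2, 124), (122, 3, 123), (118, 1, 122), (121, 4, 122), (117, 4, 118),
    (120, 5, 121), (114, 3, 117), (116, 5, 117), (119, 6, 120), (108, 2, 114), (113, 5, 114),
    (115, 6, 116), (92, 0, 108), (107, 5, 108), (111, 4, 113), (112, 6, 113), (91, 5, 92), (105,
    4, 107), (106, 6, 107), (110, 6, 111), (89, 4, 91), (90, 6, 91), (102, 3, 105), (104, 6,
    105), (109, 5, 110), (86, 3, 89), (88, 6, 89), (98, 1, 102), (101, 6, 102), (103, 5, 104),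
    (77, 1, 86), (82, 2, 86), (85, 6, 86), (87, 5, 88), (97, 6, 98), (100, 5, 101), (72, 2, 77),
    (76, 6, 77), (81, 6, 82), (84, 5, 85), (96, 5, 97), (99, 4, 100), (68, 3, 72), (71, 6, 72),
    (75, 5, 76), (80, 5, 81), (83, 4, 84), (95, 4, 96), (65, 4, 68), (67, 6, 68), (70, 5, 71),
    (74, 4, 75), (79, 4, 80), (94, 3, 95), (63, 5, 65), (64, 6, 65), (66, 5, 67), (69, 4, 70),
    (73, 3, 74), (78, 3, 79), (93, 2, 94), (62, 6, 63), (61, 5, 64), (59, 4, 66), (56, 3, 69),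
    (52, 2, 73), (47, 1, 78), (32, 0, 93), (60, 5, 62), (58, 4, 61), (55, 3, 59), (46, 1, 56),
    (51, 2, 56), (31, 0, 52), (57, 4, 60), (54, 3, 58), (45, 1, 55), (50, 2, 55), (42, 2, 46),
    (30, 0, 51), (53, 3, 57), (44, 1, 54), (49, 2, 54), (41, 2, 45), (29, 0, 50), (26, 0, 42),
    (43, 1, 53), (48, 2, 53), (40, 2, 44), (28, 0, 49), (25, 0, 41), (38, 3, 41), (39, 2, 43),
    (27, 0, 48), (24, 0, 40), (37, 3, 40), (22, 3, 25), (23, 0, 39), (36, 3, 39), (21, 3, 24),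
    (35, 4, 37), (16, 2, 22), (20, 3, 23), (34, 4, 36), (15, 2, 21), (19, 4, 21), (14, 2, 20),
    (18, 4, 20), (33, 5, 34), (13, 4, 15), (12, 4, 14), (17, 5, 18), (10, 3, 13), (9, 3, 12),
    (11, 5, 12), (6, 1, 10), (5, 1, 9), (8, 5, 9), (4, 5, 5), (7, 4, 8), (3, 4, 4), (2, 3, 3),
    (1, 2, 2), (0, 0, 1)]

theorem rowsE7 : tabE7.chkRows Cfsg.Lie.chevE7 = true := by
  decide +kernel

theorem smallTabsE7 : Cfsg.Lie.chevE7.rank = tabE7.l ∧ Cfsg.Lie.chevE7.nroots = tabE7.n ∧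
    Cfsg.Lie.chevE7.negIdx.toList = (List.range tabE7.n).map tabE7.neg ∧
    Cfsg.Lie.chevE7.simpleIdx.toList = (List.range tabE7.l).map tabE7.simple ∧
    Cfsg.Lie.chevE7.coroot.toList.map Array.toList =
      (List.range tabE7.n).map (fun r => (List.range tabE7.l).map (tabE7.cor r)) ∧
    Cfsg.Lie.chevE7.cartanSR.toList.map Array.toList =
      (List.range tabE7.l).map (fun i => (List.range tabE7.n).map (tabE7.car i)) := by
  decide +kernel

theorem chkBasicE7 : tabE7.chkBasic = true := by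
  decide +kernel

theorem chkUnitE7 : tabE7.chkUnit = true := by
  decide +kernel

theorem chkChainsE7 : tabE7.chkChains = true := by
  decide +kernel

theorem chkReflE7 : tabE7.chkRefl = true := by
  decide +kernel

theorem chkReflCalcE7 : tabE7.chkReflCalc = true := by
  decide +kernel

theorem chkNE7 : tabE7.chkN = true := by
  decide +kernel

theorem chkConjE7 : tabE7.chkConj = true := by
  decide +kernel

theorem chkCoverE7 : tabE7.chkCover coverE7 = true := by
  decide +kernel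

theorem chkLinE7 : tabE7.chkLin = true := by
  decide +kernel

theorem chkDescE7 : tabE7.chkDesc = true := by
  decide +kernel

/-- The linear functions of type E7. -/
def weightsE7 : List (List ℤ) :=
  [[4, 4, 6, 8, 6, 4, 2],
   [4, 7, 8, 12, 9, 6, 3],
   [6, 8, 12, 16, 12, 8, 4],
   [8, 12, 16, 24, 18, 12, 6],
   [6, 9, 12, 18, 15, 10, 5],
   [4, 6, 8, 12, 10, 8, 4],
   [2, 3, 4, 6, 5, 4, 3]]

theorem chkWeightE7 : tabE7.chkWeight weightsE7 = true := by
  decide +kernel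

end CfsgLib.Chev
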