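import Cfsg.Agent.Lib.Chev.Check
import Cfsg.Agent.Lib.Chev.DataE8
import Cfsg.Prelude.Def_ChevE8

/-! Certified tables of type E8 (generated). -/

set_option autoImplicit false
set_option maxRecDepth 100000

namespace CfsgLib.Chev

/-- Orbit data of type E8. -/
def coverE8 : Tab.Cover where
  base :=
    [(239, [1, 13, 120], [(2, 6, 1), (3, 5, 2), (4, 4, 3), (5, 3, 4), (7, 1, 5), (6, 2, 5), (8, 2,
    7), (14, 0, 6), (15, 0, 8), (9, 3, 8), (16, 3, 15), (10, 4, 9), (21, 2, 16), (17, 4, 16),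
    (11, 5, 10), (22, 4, 21), (18, 5, 17), (12, 6, 11), (26, 3, 22), (23, 5, 22), (19, 6, 18),
    (36, 1, 26), (27, 5, 26), (24, 6, 23), (37, 5, 36), (30, 4, 27), (28, 6, 27), (40, 4, 37),
    (38, 6, 37), (31, 6, 30), (46, 3, 40), (41, 6, 40), (33, 5, 31), (56, 2, 46), (47, 6, 46),
    (43, 5, 41), (78, 0, 56), (57, 6, 56), (49, 5, 47), (79, 6, 78), (59, 5, 57), (52, 4, 49),
    (81, 5, 79), (62, 4, 59), (84, 4, 81), (66, 3, 62), (88, 3, 84), (71, 1, 66), (99, 1, 88),
    (93, 2, 88), (105, 2, 99), (110, 3, 105), (114, 4, 110), (117, 5, 114), (119, 6, 117), (20,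
    0, 13), (25, 2, 20), (29, 3, 25), (39, 1, 29), (32, 4, 29), (42, 4, 39), (34, 5, 32), (48,
    3, 42), (44, 5, 42), (35, 6, 34), (58, 2, 48), (50, 5, 48), (45, 6, 44), (80, 0, 58), (60,
    5, 58), (53, 4, 50), (51, 6, 50), (82, 5, 80), (63, 4, 60), (61, 6, 60), (54, 6, 53), (85,
    4, 82), (83, 6, 82), (67, 3, 63), (64, 6, 63), (55, 5, 54), (89, 3, 85), (86, 6, 85), (72,
    1, 67), (68, 6, 67), (65, 5, 64), (100, 1, 89), (94, 2, 89), (90, 6, 89), (87, 5, 86), (73,
    6, 72), (69, 5, 68), (106, 2, 100), (101, 6, 100), (95, 6, 94), (91, 5, 90), (74, 5, 73),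
    (70, 4, 69), (111, 3, 106), (107, 6, 106), (102, 5, 101), (96, 5, 95), (92, 4, 91), (75, 4,
    74), (115, 4, 111), (112, 6, 111), (108, 5, 107), (103, 4, 102), (97, 4, 96), (76, 3, 75),
    (118, 5, 115), (116, 6, 115), (113, 5, 112), (109, 4, 108), (104, 3, 103), (98, 3, 97), (77,
    2, 76), (121, 6, 118), (123, 5, 116), (126, 4, 113), (130, 3, 109), (135, 2, 104), (141, 1,
    98), (162, 0, 77), (124, 5, 121), (127, 4, 123), (131, 3, 126), (142, 1, 130), (136, 2,
    130), (163, 0, 135), (128, 4, 124), (132, 3, 127), (143, 1, 131), (137, 2, 131), (147, 2,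
    142), (164, 0, 136), (133, 3, 128), (144, 1, 132), (138, 2, 132), (148, 2, 143), (165, 0,
    137), (169, 0, 147), (145, 1, 133), (139, 2, 133), (149, 2, 144), (166, 0, 138), (170, 0,
    148), (152, 3, 148), (150, 2, 145), (167, 0, 139), (171, 0, 149), (153, 3, 149), (174, 3,
    170), (172, 0, 150), (154, 3, 150), (175, 3, 171), (156, 4, 153), (184, 2, 174), (176, 3,
    172), (157, 4, 154), (185, 2, 175), (178, 4, 175), (186, 2, 176), (179, 4, 176), (159, 5,
    157), (188, 4, 185), (189, 4, 186), (181, 5, 179), (194, 3, 188), (195, 3, 189), (191, 5,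
    189), (204, 1, 194), (205, 1, 195), (197, 5, 195), (207, 5, 205), (200, 4, 197), (210, 4,
    207), (214, 3, 210), (219, 2, 214), (226, 0, 219), (122, 6, 120), (125, 5, 122), (129, 4,
    125), (134, 3, 129), (146, 1, 134), (140, 2, 134), (151, 2, 146), (168, 0, 140), (173, 0,
    151), (155, 3, 151), (177, 3, 173), (158, 4, 155), (187, 2, 177), (180, 4, 177), (160, 5,
    158), (190, 4, 187), (182, 5, 180), (161, 6, 160), (196, 3, 190), (192, 5, 190), (183, 6,
    182), (206, 1, 196), (198, 5, 196), (193, 6, 192), (208, 5, 206), (201, 4, 198), (199, 6,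
    198), (211, 4, 208), (209, 6, 208), (202, 6, 201), (215, 3, 211), (212, 6, 211), (203, 5,
    202), (220, 2, 215), (216, 6, 215), (213, 5, 212), (227, 0, 220), (221, 6, 220), (217, 5,
    216), (228, 6, 227), (222, 5, 221), (218, 4, 217), (229, 5, 228), (223, 4, 222), (230, 4,
    229), (224, 3, 223), (231, 3, 230), (225, 1, 224), (233, 1, 231), (232, 2, 231), (234, 2,
    233), (235, 3, 234), (236, 4, 235), (237, 5, 236), (238, 6, 237)])]
  tree :=
    [(238, 7, 239), (237, 6, 238), (236, 5, 237), (235, 4, 236), (234, 3, 235), (232, 1, 234),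
    (233, 2, 234), (231, 2, 232), (225, 0, 233), (224, 0, 231), (230, 3, 231), (223, 3, 224),
    (229, 4, 230), (218, 2, 223), (222, 4, 223), (228, 5, 229), (217, 4, 218), (221, 5, 222),
    (227, 6, 228), (213, 3, 217), (216, 5, 217), (220, 6, 221), (226, 7, 227), (203, 1, 213),
    (212, 5, 213), (215, 6, 216), (219, 7, 220), (202, 5, 203), (209, 4, 212), (211, 6, 212),
    (214, 7, 215), (199, 4, 202), (201, 6, 202), (208, 6, 209), (210, 7, 211), (193, 3, 199),
    (198, 6, 199), (200, 7, 201), (206, 5, 208), (207, 7, 208), (183, 2, 193), (192, 6, 193),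
    (196, 5, 198), (197, 7, 198), (205, 7, 206), (161, 0, 183), (182, 6, 183), (190, 5, 192),
    (191, 7, 192), (195, 7, 196), (204, 6, 205), (160, 6, 161), (180, 5, 182), (181, 7, 182),
    (187, 4, 190), (189, 7, 190), (194, 6, 195), (158, 5, 160), (159, 7, 160), (177, 4, 180),
    (179, 7, 180), (186, 7, 187), (188, 6, 189), (155, 4, 158), (157, 7, 158), (173, 3, 177),
    (176, 7, 177), (178, 6, 179), (185, 6, 186), (151, 3, 155), (154, 7, 155), (156, 6, 157),
    (168, 1, 173), (172, 7, 173), (175, 6, 176), (184, 5, 185), (140, 1, 151), (146, 2, 151),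
    (150, 7, 151), (153, 6, 154), (167, 7, 168), (171, 6, 172), (174, 5, 175), (134, 2, 140),
    (139, 7, 140), (145, 7, 146), (149, 6, 150), (152, 5, 153), (166, 6, 167), (170, 5, 171),
    (129, 3, 134), (133, 7, 134), (138, 6, 139), (144, 6, 145), (148, 5, 149), (165, 5, 166),
    (169, 4, 170), (125, 4, 129), (128, 7, 129), (132, 6, 133), (137, 5, 138), (143, 5, 144),
    (147, 4, 148), (164, 4, 165), (122, 5, 125), (124, 7, 125), (127, 6, 128), (131, 5, 132),
    (136, 4, 137), (142, 4, 143), (163, 3, 164), (120, 6, 122), (121, 7, 122), (123, 6, 124),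
    (126, 5, 127), (130, 4, 131), (135, 3, 136), (141, 3, 142), (162, 2, 163), (119, 7, 120),
    (118, 6, 121), (116, 5, 123), (113, 4, 126), (109, 3, 130), (104, 2, 135), (98, 1, 141),
    (77, 0, 162), (117, 6, 119), (115, 5, 118), (112, 4, 116), (108, 3, 113), (97, 1, 109),
    (103, 2, 109), (76, 0, 104), (114, 5, 117), (111, 4, 115), (107, 3, 112), (96, 1, 108),
    (102, 2, 108), (92, 2, 97), (75, 0, 103), (110, 4, 114), (106, 3, 111), (95, 1, 107), (101,
    2, 107), (91, 2, 96), (74, 0, 102), (70, 0, 92), (105, 3, 110), (94, 1, 106), (100, 2, 106),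
    (90, 2, 95), (73, 0, 101), (69, 0, 91), (87, 3, 91), (93, 1, 105), (99, 2, 105), (89, 2,
    94), (72, 0, 100), (68, 0, 90), (86, 3, 90), (65, 3, 69), (88, 2, 93), (71, 0, 99), (67, 0,
    89), (85, 3, 89), (64, 3, 68), (83, 4, 86), (55, 2, 65), (66, 0, 88), (84, 3, 88), (63, 3,
    67), (82, 4, 85), (54, 2, 64), (61, 4, 64), (62, 3, 66), (81, 4, 84), (53, 2, 63), (60, 4,
    63), (80, 5, 82), (51, 4, 54), (52, 2, 62), (59, 4, 62), (79, 5, 81), (50, 4, 53), (58, 5,
    60), (45, 3, 51), (49, 4, 52), (57, 5, 59), (78, 6, 79), (44, 3, 50), (48, 5, 50), (35, 1,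
    45), (43, 3, 49), (47, 5, 49), (56, 6, 57), (34, 1, 44), (42, 5, 44), (33, 1, 43), (41, 5,
    43), (46, 6, 47), (32, 5, 34), (39, 4, 42), (31, 5, 33), (38, 4, 41), (40, 6, 41), (29, 4,
    32), (28, 4, 31), (30, 6, 31), (37, 6, 38), (25, 3, 29), (24, 3, 28), (27, 6, 28), (36, 5,
    37), (20, 2, 25), (19, 2, 24), (23, 6, 24), (26, 5, 27), (13, 0, 20), (12, 0, 19), (18, 6,
    19), (22, 5, 23), (11, 6, 12), (17, 5, 18), (21, 4, 22), (10, 5, 11), (16, 4, 17), (9, 4,
    10), (15, 3, 16), (8, 3, 9), (14, 1, 15), (6, 1, 8), (7, 2, 8), (5, 2, 6), (4, 3, 5), (3, 4,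
    4), (2, 5, 3), (1, 6, 2), (0, 7, 1)]

theorem rowsE8 : tabE8.chkRows Cfsg.Lie.chevE8 = true := by
  decide +kernel

theorem smallTabsE8 : Cfsg.Lie.chevE8.rank = tabE8.l ∧ Cfsg.Lie.chevE8.nroots = tabE8.n ∧
    Cfsg.Lie.chevE8.negIdx.toList = (List.range tabE8.n).map tabE8.neg ∧
    Cfsg.Lie.chevE8.simpleIdx.toList = (List.range tabE8.l).map tabE8.simple ∧
    Cfsg.Lie.chevE8.coroot.toList.map Array.toList =
      (List.range tabE8.n).map (fun r => (List.range tabE8.l).map (tabE8.cor r)) ∧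
    Cfsg.Lie.chevE8.cartanSR.toList.map Array.toList =
      (List.range tabE8.l).map (fun i => (List.range tabE8.n).map (tabE8.car i)) := by
  decide +kernel

theorem chkBasicE8 : tabE8.chkBasic = true := by
  decide +kernel

theorem chkUnitE8 : tabE8.chkUnit = true := by
  decide +kernel

theorem chkChainsE8 : tabE8.chkChains = true := by
  decide +kernel

theorem chkReflE8 : tabE8.chkRefl = true := by
  decide +kernel

theorem chkReflCalcE8 : tabE8.chkReflCalc = true := by
  decide +kernel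

theorem chkNE8 : tabE8.chkN = true := by
  decide +kernel

theorem chkConjE8 : tabE8.chkConj = true := by
  decide +kernel

theorem chkCoverE8 : tabE8.chkCover coverE8 = true := by
  decide +kernel

theorem chkLinE8 : tabE8.chkLin = true := by
  decide +kernel

theorem chkDescE8 : tabE8.chkDesc = true := by
  decide +kernel

/-- The linear functions of type E8. -/
def weightsE8 : List (List ℤ) :=
  [[4, 5, 7, 10, 8, 6, 4, 2],
   [5, 8, 10, 15, 12, 9, 6, 3],
   [7, 10, 14, 20, 16, 12, 8, 4],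
   [10, 15, 20, 30, 24, 18, 12, 6],
   [8, 12, 16, 24, 20, 15, 10, 5],
   [6, 9, 12, 18, 15, 12, 8, 4],
   [4, 6, 8, 12, 10, 8, 6, 3],
   [2, 3, 4, 6, 5, 4, 3, 2]]

theorem chkWeightE8 : tabE8.chkWeight weightsE8 = true := by
  decide +kernel

end CfsgLib.Chev
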