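import Cfsg.Agent.Lib.Chev.Check
import Cfsg.Agent.Lib.Chev.DataF4
import Cfsg.Prelude.Def_ChevF4

/-! Certified tables of type F4 (generated). -/

set_option autoImplicit false
set_option maxRecDepth 100000

namespace CfsgLib.Chev

/-- Orbit data of type F4. -/
def coverF4 : Tab.Cover where
  base :=
    [(44, [0, 7, 15, 18, 33, 41], [(1, 3, 0), (2, 2, 1), (4, 1, 2), (5, 2, 4), (6, 3, 5), (8, 1, 7),
    (9, 2, 8), (11, 1, 9), (10, 3, 9), (12, 3, 11), (13, 2, 12), (14, 1, 13), (16, 2, 15), (21,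
    1, 16), (17, 3, 16), (23, 2, 21), (22, 3, 21), (24, 3, 23), (25, 2, 22), (26, 2, 24), (30,
    1, 25), (31, 1, 26), (32, 2, 31), (19, 3, 18), (20, 2, 19), (27, 1, 20), (28, 2, 27), (29,
    3, 28), (34, 1, 33), (35, 2, 34), (37, 1, 35), (36, 3, 35), (38, 3, 37), (39, 2, 38), (40,
    1, 39), (42, 3, 41), (43, 2, 42), (45, 1, 43), (46, 2, 45), (47, 3, 46)]),
     (47, [1, 3, 6, 10, 24, 29], [(2, 2, 1), (4, 1, 2), (15, 0, 4), (5, 2, 4), (16, 2, 15), (21, 1,
    16), (23, 2, 21), (7, 0, 3), (8, 1, 7), (9, 2, 8), (11, 1, 9), (18, 0, 11), (17, 0, 6), (22,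
    1, 17), (25, 2, 22), (30, 1, 25), (41, 0, 30), (12, 1, 10), (19, 0, 12), (13, 2, 12), (20,
    2, 19), (14, 1, 13), (27, 1, 20), (33, 0, 14), (34, 0, 27), (28, 2, 27), (35, 2, 34), (37,
    1, 35), (26, 2, 24), (31, 1, 26), (42, 0, 31), (32, 2, 31), (43, 2, 42), (45, 1, 43), (46,
    2, 45), (36, 0, 29), (38, 1, 36), (39, 2, 38), (40, 1, 39), (44, 0, 40)])]
  tree :=
    [(40, 0, 44), (46, 3, 47), (39, 1, 40), (45, 2, 46), (38, 2, 39), (43, 1, 45), (36, 1, 38),
    (37, 3, 38), (32, 0, 43), (42, 2, 43), (29, 0, 36), (35, 3, 36), (31, 2, 32), (41, 3, 42),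
    (28, 3, 29), (34, 2, 35), (26, 1, 31), (30, 3, 31), (27, 2, 28), (33, 1, 34), (24, 2, 26),
    (25, 3, 26), (20, 1, 27), (14, 0, 33), (23, 3, 24), (22, 2, 25), (13, 0, 20), (19, 2, 20),
    (21, 2, 23), (17, 1, 22), (12, 2, 13), (18, 3, 19), (16, 1, 21), (6, 0, 17), (10, 1, 12),
    (11, 3, 12), (5, 0, 16), (15, 2, 16), (9, 3, 10), (4, 2, 5), (8, 2, 9), (2, 1, 4), (7, 1,
    8), (1, 2, 2), (3, 0, 7), (0, 3, 1)]

theorem rowsF4 : tabF4.chkRows Cfsg.Lie.chevF4 = true := by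
  decide +kernel

theorem smallTabsF4 : Cfsg.Lie.chevF4.rank = tabF4.l ∧ Cfsg.Lie.chevF4.nroots = tabF4.n ∧
    Cfsg.Lie.chevF4.negIdx.toList = (List.range tabF4.n).map tabF4.neg ∧
    Cfsg.Lie.chevF4.simpleIdx.toList = (List.range tabF4.l).map tabF4.simple ∧
    Cfsg.Lie.chevF4.coroot.toList.map Array.toList =
      (List.range tabF4.n).map (fun r => (List.range tabF4.l).map (tabF4.cor r)) ∧
    Cfsg.Lie.chevF4.cartanSR.toList.map Array.toList =
      (List.range tabF4.l).map (fun i => (List.range tabF4.n).map (tabF4.car i)) := by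
  decide +kernel

theorem chkBasicF4 : tabF4.chkBasic = true := by
  decide +kernel

theorem chkUnitF4 : tabF4.chkUnit = true := by
  decide +kernel

theorem chkChainsF4 : tabF4.chkChains = true := by
  decide +kernel

theorem chkReflF4 : tabF4.chkRefl = true := by
  decide +kernel

theorem chkReflCalcF4 : tabF4.chkReflCalc = true := by
  decide +kernel

theorem chkNF4 : tabF4.chkN = true := by
  decide +kernel

theorem chkConjF4 : tabF4.chkConj = true := by
  decide +kernel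

theorem chkCoverF4 : tabF4.chkCover coverF4 = true := by
  decide +kernel

theorem chkLinF4 : tabF4.chkLin = true := by
  decide +kernel

theorem chkDescF4 : tabF4.chkDesc = true := by
  decide +kernel

/-- The linear functions of type F4. -/
def weightsF4 : List (List ℤ) :=
  [[2, 3, 4, 2],
   [3, 6, 8, 4],
   [2, 4, 6, 3],
   [1, 2, 3, 2]]

theorem chkWeightF4 : tabF4.chkWeight weightsF4 = true := by
  decide +kernel

end CfsgLib.Chev
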