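import Cfsg.Agent.Lib.Chev.Tab

/-! Packed tables of type G2 (generated from the prelude file). -/

set_option autoImplicit false

namespace CfsgLib.Chev

def tabG2Row0 : ℕ := 0xe06000000038100000001203000000000000000001202000000000000000000000000000000000000000000000000000000000000000
def tabG2Row1 : ℕ := 0x381c00000000000000000381400000000000000000480c0000000000000000048040000000000000000000000000000000000000000000000000000
def tabG2Row2 : ℕ := 0x3808e0538252014810e080000000000000058094050000a0130100000000000000000000000000001602000000058040000000000000000000000000000000
def tabG2Row3 : ℕ := 0x3819208482800000000000000a065020000000000000000002819201380d205000000000000005804c03000000000000000000a01000000000000000000000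
def tabG2Row4 : ℕ := 0x1207382520a000160730240000000a070000000000000000000003809203481000000000000000a02500c0000000a02000000000000000000000
def tabG2Row5 : ℕ := 0x482c0000000000000000000000000001208000000000000000000000000000000000000000e04000000000000000000000000000038040000000000
def tabG2Row6 : ℕ := 0x120c000000000000000000000000000048240000000000000000000000000000000000000038140000000000000000000000000000e02
def tabG2Row7 : ℕ := 0x582c000282cc0a0000000000120b4828e090000000000000000000000000000581800058194043818e04380c0000000000
def tabG2Row8 : ℕ := 0x58300000000000000160c502800000000003830e0a3820000000160700000000000000281cc05000000000012074814e03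
def tabG2Row9 : ℕ := 0xa0c0000000282c0000000000000000000000002831409000160b302000000000003831209481520b3821204
def tabG2Row10 : ℕ := 0xe0c000000000000000000e0a000000000000000001208000000000000000001206
def tabG2Row11 : ℕ := 0x382c00000000000000000382800000012090000000481c0000000000

/-- Packed rows of type G2. -/
def tabG2Rows : RT :=
  (.node (.node (.node (.node (.leaf tabG2Row0) (.leaf tabG2Row8)) (.node (.leaf tabG2Row4) (.leaf 0))) (.node (.node (.leaf tabG2Row2) (.leaf tabG2Row10)) (.node (.leaf tabG2Row6) (.leaf 0)))) (.node (.node (.node (.leaf tabG2Row1) (.leaf tabG2Row9)) (.node (.leaf tabG2Row5) (.leaf 0))) (.node (.node (.leaf tabG2Row3) (.leaf tabG2Row11)) (.node (.leaf tabG2Row7) (.leaf 0)))))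

/-- Packed tables of type G2. -/
noncomputable def tabG2 : Tab where
  n := 12
  l := 2
  row := RT.get tabG2Rows
  simpleP := 0x607
  corP := 0x946319ca71846307c20f6bdae7bdcf
  carP := 0x89c54c4e27a2a31883
  wP := 0xa0b090708050603040200010b060809040a010702030500
  etaP := 0x969696

end CfsgLib.Chev
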