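import Cfsg.Agent.Lib.Chev.Check
import Cfsg.Agent.Lib.Chev.DataG2
import Cfsg.Prelude.Def_ChevG2

/-! Certified tables of type G2 (generated). -/

set_option autoImplicit false
set_option maxRecDepth 100000

namespace CfsgLib.Chev

/-- Orbit data of type G2. -/
def coverG2 : Tab.Cover where
  base :=
    [(9, [0, 3, 5, 7, 10], [(1, 1, 0), (4, 1, 3), (6, 1, 5), (8, 1, 7), (11, 1, 10)]),
     (11, [1, 2, 4, 6, 8], [(5, 0, 1), (3, 0, 2), (7, 0, 4), (10, 0, 6), (9, 0, 8)])]
  tree :=
    [(8, 0, 9), (10, 1, 11), (7, 1, 8), (6, 0, 10), (4, 0, 7), (5, 1, 6), (3, 1, 4), (1, 0, 5),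
    (2, 0, 3), (0, 1, 1)]

theorem rowsG2 : tabG2.chkRows Cfsg.Lie.chevG2 = true := by
  decide +kernel

theorem smallTabsG2 : Cfsg.Lie.chevG2.rank = tabG2.l ∧ Cfsg.Lie.chevG2.nroots = tabG2.n ∧
    Cfsg.Lie.chevG2.negIdx.toList = (List.range tabG2.n).map tabG2.neg ∧
    Cfsg.Lie.chevG2.simpleIdx.toList = (List.range tabG2.l).map tabG2.simple ∧
    Cfsg.Lie.chevG2.coroot.toList.map Array.toList =
      (List.range tabG2.n).map (fun r => (List.range tabG2.l).map (tabG2.cor r)) ∧
    Cfsg.Lie.chevG2.cartanSR.toList.map Array.toList =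
      (List.range tabG2.l).map (fun i => (List.range tabG2.n).map (tabG2.car i)) := by
  decide +kernel

theorem chkBasicG2 : tabG2.chkBasic = true := by
  decide +kernel

theorem chkUnitG2 : tabG2.chkUnit = true := by
  decide +kernel

theorem chkChainsG2 : tabG2.chkChains = true := by
  decide +kernel

theorem chkReflG2 : tabG2.chkRefl = true := by
  decide +kernel

theorem chkReflCalcG2 : tabG2.chkReflCalc = true := by
  decide +kernel

theorem chkNG2 : tabG2.chkN = true := by
  decide +kernel

theorem chkConjG2 : tabG2.chkConj = true := by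
  decide +kernel

theorem chkCoverG2 : tabG2.chkCover coverG2 = true := by
  decide +kernel

theorem chkLinG2 : tabG2.chkLin = true := by
  decide +kernel

theorem chkDescG2 : tabG2.chkDesc = true := by
  decide +kernel

/-- The linear functions of type G2. -/
def weightsG2 : List (List ℤ) :=
  [[2, 3],
   [1, 2]]

theorem chkWeightG2 : tabG2.chkWeight weightsG2 = true := by
  decide +kernel

end CfsgLib.Chev
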