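import Cfsg.Agent.Lib.Chev.Cert
import Cfsg.Agent.Lib.Chev.CertG2
import Cfsg.Agent.Lib.Chev.CertB2
import Cfsg.Agent.Lib.Chev.CertD4
import Cfsg.Agent.Lib.Chev.CertF4
import Cfsg.Agent.Lib.Chev.CertE6
import Cfsg.Agent.Lib.Chev.CertE7
import Cfsg.Agent.Lib.Chev.CertE8

/-!
The seven data with tabulated chains are certified.
-/

set_option autoImplicit false

namespace CfsgLib.Chev

open Cfsg.Lie

/-- Type G2 is certified. -/
theorem certG2 : Cert chevG2 tabG2 coverG2 :=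
  ⟨rowsG2, smallTabsG2, chkBasicG2, chkUnitG2, chkChainsG2, chkReflG2, chkReflCalcG2, chkNG2,
    chkConjG2, chkCoverG2, chkLinG2, chkDescG2, ⟨_, chkWeightG2⟩⟩

/-- Type B2 is certified. -/
theorem certB2 : Cert chevB2 tabB2 coverB2 :=
  ⟨rowsB2, smallTabsB2, chkBasicB2, chkUnitB2, chkChainsB2, chkReflB2, chkReflCalcB2, chkNB2,
    chkConjB2, chkCoverB2, chkLinB2, chkDescB2, ⟨_, chkWeightB2⟩⟩

/-- Type D4 is certified. -/
theorem certD4 : Cert chevD4 tabD4 coverD4 :=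
  ⟨rowsD4, smallTabsD4, chkBasicD4, chkUnitD4, chkChainsD4, chkReflD4, chkReflCalcD4, chkND4,
    chkConjD4, chkCoverD4, chkLinD4, chkDescD4, ⟨_, chkWeightD4⟩⟩

/-- Type F4 is certified. -/
theorem certF4 : Cert chevF4 tabF4 coverF4 :=
  ⟨rowsF4, smallTabsF4, chkBasicF4, chkUnitF4, chkChainsF4, chkReflF4, chkReflCalcF4, chkNF4,
    chkConjF4, chkCoverF4, chkLinF4, chkDescF4, ⟨_, chkWeightF4⟩⟩

/-- Type E6 is certified. -/
theorem certE6 : Cert chevE6 tabE6 coverE6 :=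
  ⟨rowsE6, smallTabsE6, chkBasicE6, chkUnitE6, chkChainsE6, chkReflE6, chkReflCalcE6, chkNE6,
    chkConjE6, chkCoverE6, chkLinE6, chkDescE6, ⟨_, chkWeightE6⟩⟩

/-- Type E7 is certified. -/
theorem certE7 : Cert chevE7 tabE7 coverE7 :=
  ⟨rowsE7, smallTabsE7, chkBasicE7, chkUnitE7, chkChainsE7, chkReflE7, chkReflCalcE7, chkNE7,
    chkConjE7, chkCoverE7, chkLinE7, chkDescE7, ⟨_, chkWeightE7⟩⟩

/-- Type E8 is certified. -/
theorem certE8 : Cert chevE8 tabE8 coverE8 :=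
  ⟨rowsE8, smallTabsE8, chkBasicE8, chkUnitE8, chkChainsE8, chkReflE8, chkReflCalcE8, chkNE8,
    chkConjE8, chkCoverE8, chkLinE8, chkDescE8, ⟨_, chkWeightE8⟩⟩

/-- Every one of the seven data is certified. -/
theorem exists_cert {D : ChevalleyDatum}
    (hD : D ∈ [chevG2, chevB2, chevD4, chevF4, chevE6, chevE7, chevE8]) :
    ∃ T C, Cert D T C := by
  simp only [List.mem_cons, List.not_mem_nil, or_false] at hD
  rcases hD with rfl | rfl | rfl | rfl | rfl | rfl | rfl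
  · exact ⟨_, _, certG2⟩
  · exact ⟨_, _, certB2⟩
  · exact ⟨_, _, certD4⟩
  · exact ⟨_, _, certF4⟩
  · exact ⟨_, _, certE6⟩
  · exact ⟨_, _, certE7⟩
  · exact ⟨_, _, certE8⟩

end CfsgLib.Chev
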