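import Cfsg.Agent.Lib.Chev.Check

/-!
Checks for transversals of a chain of parabolic subgroups of the Weyl group.
-/

set_option autoImplicit false

namespace CfsgLib.Chev

/-- Strictly increasing. -/
def incr : List ℕ → Bool
  | [] => true
  | [_] => true
  | a :: b :: L => Nat.blt a b && incr (b :: L)

/-- One level: representatives, closure data, multiplicities of the numbers of inversions. -/
structure Level where
  /-- representatives of the cosets -/
  reps : List (List ℕ)
  /-- products of a generator and a representative -/
  mulTable : List (List (ℕ × ℕ))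
  /-- (multiplicity, number of inversions) -/
  poly : List (ℕ × ℕ)

namespace Tab

variable (T : Tab)

/-- Fast action of a word. -/
noncomputable def rwordF (w : List ℕ) (r : ℕ) : ℕ :=
  List.rec (motive := fun _ => ℕ) r (fun i _ ih => T.reflF i ih) w

/-- Number of positive roots sent to negative ones. -/
noncomputable def negCount (w : List ℕ) : ℕ :=
  sumBelow T.n fun r =>
    cond (Nat.ble T.half r) (cond (Nat.blt (T.rwordF w r) T.half) 1 0) 0

/-- A key for the action of a word. -/
noncomputable def wcode (w : List ℕ) : ℕ :=
  Nat.add (Nat.mul (T.negCount w) (Nat.pow 256 T.l))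
    (sumBelow T.l fun m => Nat.mul (T.rwordF w (field 8 T.simpleP m)) (Nat.pow 256 m))

/-- Supported on the first `k` nodes. -/
noncomputable def suppF (k r : ℕ) : Bool :=
  allBelow T.l fun m => cond (Nat.ble k m) (Nat.beq (T.corF r m) 16) true

/-- A level checks out. -/
noncomputable def chkLevel (k : ℕ) (v : Level) : Bool :=
  decide (v.reps.head? = some []) &&
  (decide (v.mulTable.length = v.reps.length) &&
  (v.reps.all (fun d => d.all (fun i => Nat.blt i k) &&
    allBelow T.n fun r => cond (Nat.ble T.half r)
      (cond (T.suppF (k - 1) r) (Nat.ble T.half (T.rwordF d r)) true) true) &&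
  (incr (v.reps.map T.wcode) &&
  (decide (v.reps.map T.negCount = v.poly.flatMap fun p => List.replicate p.1 p.2) &&
  (v.reps.zip v.mulTable).all fun dr => decide (dr.2.length = k) &&
    dr.2.zipIdx.all fun q => Nat.blt q.1.1 v.reps.length &&
      cond (Nat.beq q.1.2 T.l)
        (allBelow T.l fun m => Nat.beq (T.rwordF (q.2 :: dr.1) (field 8 T.simpleP m))
          (T.rwordF (v.reps.getD q.1.1 []) (field 8 T.simpleP m)))
        (Nat.blt q.1.2 (k - 1) && allBelow T.l fun m =>
          Nat.beq (T.rwordF (q.2 :: dr.1) (field 8 T.simpleP m))
            (T.rwordF (v.reps.getD q.1.1 []) (T.reflF q.1.2 (field 8 T.simpleP m))))))))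

/-- All levels check out. -/
noncomputable def chkLevels (Lv : List Level) : Bool :=
  decide (Lv.length = T.l) && Lv.zipIdx.all fun q => T.chkLevel (q.2 + 1) q.1

end Tab

end CfsgLib.Chev
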