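import Cfsg.Agent.Lib.Chev.Monomial
import Cfsg.Agent.Lib.Chev.WeylCheck

/-!
Transversals of the chain of parabolic subgroups give every element of the Weyl group once.
-/

set_option autoImplicit false

namespace CfsgLib.Chev

open Cfsg.Lie

/-- The roots supported on the first `k` nodes. -/
def Supp (T : Tab) (k r : ℕ) : Prop := ∀ m < T.l, k ≤ m → T.cor r m = 0

/-- All letters are below `k`. -/
def LettersBelow (k : ℕ) (w : List ℕ) : Prop := ∀ i ∈ w, i < k

/-- Two words act in the same way on the roots. -/
def SameAct (T : Tab) (v w : List ℕ) : Prop := ∀ r < T.n, rword T v r = rword T w r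

/-- The chosen words of the parabolic subgroup of the first `k` nodes. -/
def transversal (Lv : List Level) : ℕ → List (List ℕ)
  | 0 => [[]]
  | k + 1 => ((Lv[k]?.map Level.reps).getD []).flatMap fun d =>
      (transversal Lv k).map fun u => d ++ u

/-- Generating polynomial of one level. -/
def Level.gpoly {R : Type*} [CommSemiring R] (v : Level) (q : R) : R :=
  (v.poly.map fun p => (p.1 : R) * q ^ p.2).sum

lemma incr_pairwise : ∀ {L : List ℕ}, incr L = true → L.Pairwise (· < ·)
  | [], _ => List.Pairwise.nil
  | [_], _ => List.pairwise_singleton _ _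
  | a :: b :: L, h => by
    simp only [incr, Bool.and_eq_true] at h
    have h2 := incr_pairwise h.2
    refine List.pairwise_cons.2 ⟨fun c hc => ?_, h2⟩
    have hab : a < b := Nat.le_of_ble_eq_true h.1
    rcases List.mem_cons.1 hc with rfl | hc
    · exact hab
    · exact hab.trans ((List.pairwise_cons.1 h2).1 c hc)

namespace Tab

variable (T : Tab)

lemma rwordF_eq : ∀ (w : List ℕ) (r : ℕ), T.rwordF w r = rword T w r
  | [], _ => rfl
  | i :: w, r => by
    show T.reflF i (T.rwordF w r) = _
    rw [rwordF_eq w r, T.reflF_eq]; rfl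

lemma negCount_eq (w : List ℕ) :
    T.negCount w = ((Finset.Ico T.half T.n).filter fun r => rword T w r < T.half).card := by
  have hset : ((Finset.Ico T.half T.n).filter fun r => rword T w r < T.half) =
      (Finset.range T.n).filter fun r => T.half ≤ r ∧ rword T w r < T.half := by
    ext r; simp; tauto
  rw [negCount, sumBelow_eq, hset, Finset.card_filter]
  refine Finset.sum_congr rfl fun r _ => ?_
  rw [T.rwordF_eq]
  cases h1 : Nat.ble T.half r
  · rw [cond_false, if_neg]
    intro h2
    rw [Nat.ble_eq_true_of_le h2.1] at h1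
    exact Bool.noConfusion h1
  · rw [cond_true]
    cases h2 : Nat.blt (rword T w r) T.half
    · rw [cond_false, if_neg]
      intro h3
      have : Nat.blt (rword T w r) T.half = true := Nat.ble_eq_true_of_le h3.2
      rw [h2] at this
      exact Bool.noConfusion this
    · rw [cond_true, if_pos ⟨Nat.le_of_ble_eq_true h1, Nat.le_of_ble_eq_true h2⟩]

lemma wcode_congr {v w : List ℕ} (hs : ∀ i < T.l, T.simple i < T.n)
    (e : SameAct T v w) : T.wcode v = T.wcode w := by
  have h1 : T.negCount v = T.negCount w := by
    rw [negCount_eq, negCount_eq]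
    refine congrArg Finset.card (Finset.filter_congr fun r hr => ?_)
    rw [e r (Finset.mem_Ico.1 hr).2]
  rw [wcode, wcode, h1, sumBelow_eq, sumBelow_eq]
  refine congrArg (Nat.add _) (Finset.sum_congr rfl fun m hm => ?_)
  rw [T.rwordF_eq, T.rwordF_eq]
  exact congrArg (· * _) (e _ (hs m (Finset.mem_range.1 hm)))

end Tab

namespace Cert

variable {D : ChevalleyDatum} {T : Tab} {C : Tab.Cover} (h : Cert D T C)
include h

lemma supp_refl {k i r : ℕ} (hi : i < T.l) (hik : i < k) (hr : r < T.n) :
    Supp T k (T.refl i r) ↔ Supp T k r := by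
  refine forall_congr' fun m => forall_congr' fun hm => forall_congr' fun hkm => ?_
  rw [← h.wt_eq_zero_iff hm (h.refl_lt hi hr), ← h.wt_eq_zero_iff hm hr, h.wt_refl hi hr,
    h.wt_simple_of_ne hi hm (by omega), mul_zero, sub_zero]

lemma supp_rword {k : ℕ} {w : List ℕ} (hw : WordOK T w) (hk : LettersBelow k w) {r : ℕ}
    (hr : r < T.n) : Supp T k (rword T w r) ↔ Supp T k r := by
  induction w with
  | nil => rfl
  | cons i w ih =>
    rw [rword_cons, h.supp_refl hw.head (hk i List.mem_cons_self) (h.rword_lt hw.tail hr),
      ih hw.tail fun j hj => hk j (List.mem_cons_of_mem _ hj)]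

lemma supp_neg {k r : ℕ} (hr : r < T.n) : Supp T k (T.neg r) ↔ Supp T k r := by
  refine forall_congr' fun m => forall_congr' fun hm => forall_congr' fun _ => ?_
  rw [(h.root_spec hr hm).2.2.1, neg_eq_zero]

lemma pos_rword_of_not_supp {k : ℕ} {w : List ℕ} (hw : WordOK T w) (hk : LettersBelow k w) {r : ℕ}
    (hh : T.half ≤ r) (hr : r < T.n) (hs : ¬ Supp T k r) : T.half ≤ rword T w r := by
  simp only [Supp, not_forall] at hs
  obtain ⟨m, hm, hkm, hne⟩ := hs
  have hwt : ∀ {w : List ℕ}, WordOK T w → LettersBelow k w →
      h.wt m (rword T w r) = h.wt m r := by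
    intro w hw hk
    induction w with
    | nil => rfl
    | cons i w ih =>
      rw [rword_cons, h.wt_refl hw.head (h.rword_lt hw.tail hr),
        h.wt_simple_of_ne hw.head hm (by have := hk i List.mem_cons_self; omega), mul_zero,
        sub_zero, ih hw.tail fun j hj => hk j (List.mem_cons_of_mem _ hj)]
  have h1 : 0 < h.wt m r := lt_of_le_of_ne (h.wt_nonneg hm hr hh)
    fun e => hne ((h.wt_eq_zero_iff hm hr).1 e.symm)
  exact h.pos_of_wt_pos hm (h.rword_lt hw hr) (by rw [hwt hw hk]; exact h1)

/-- A word fixing positivity of the simple roots acts trivially. -/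
lemma rword_eq_self {w : List ℕ} (hw : WordOK T w)
    (hpos : ∀ i < T.l, T.half ≤ rword T w (T.simple i)) {r : ℕ} (hr : r < T.n) :
    rword T w r = r :=
  h.Maps_unique (F := ℚ) (h.rword_lt hw hr) hr (h.Maps_nW hw hr)
    (h.Maps_diagonal (h.nW_mem_diagonal hw hpos) hr)

lemma rword_rev {w : List ℕ} (hw : WordOK T w) {r : ℕ} (hr : r < T.n) :
    rword T w.reverse (rword T w r) = r := by
  have := h.rword_reverse (w := w.reverse) (fun i hi => hw i (List.mem_reverse.1 hi)) hr
  rwa [List.reverse_reverse] at this

lemma rword_inj {w : List ℕ} (hw : WordOK T w) {r s : ℕ} (hr : r < T.n) (hs : s < T.n)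
    (e : rword T w r = rword T w s) : r = s := by
  rw [← h.rword_rev hw hr, e, h.rword_rev hw hs]

lemma sameAct_of_simple {v w : List ℕ} (hv : WordOK T v) (hw : WordOK T w)
    (e : ∀ i < T.l, rword T v (T.simple i) = rword T w (T.simple i)) : SameAct T v w := by
  intro r hr
  have hwr : WordOK T w.reverse := fun i hi => hw i (List.mem_reverse.1 hi)
  have hok : WordOK T (w.reverse ++ v) := fun i hi => by
    rcases List.mem_append.1 hi with hi | hi
    exacts [hwr i hi, hv i hi]
  have h1 := h.rword_eq_self hok (fun i hi => by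
    rw [rword_append, e i hi, h.rword_rev hw (h.simple_lt hi)]; exact (h.simple_spec hi).1) hr
  rw [rword_append] at h1
  have h2 := congrArg (rword T w) h1
  rwa [h.rword_reverse hw (h.rword_lt hv hr)] at h2

omit h in
lemma suppF_iff {k r : ℕ} : T.suppF k r = true ↔ Supp T k r := by
  constructor
  · intro h1 m hm hkm
    have h2 := allBelow_eq_true h1 m hm
    rw [Nat.ble_eq_true_of_le hkm, cond_true] at h2
    rw [T.cor_eq', Nat.eq_of_beq_eq_true h2]; rfl
  · intro h1
    refine allBelow_of_forall fun m hm => ?_
    cases hb : Nat.ble k m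
    · rfl
    · rw [cond_true]
      have := h1 m hm (Nat.le_of_ble_eq_true hb)
      rw [T.cor_eq'] at this
      rw [show T.corF r m = 16 by omega]
      exact Nat.beq_refl _

variable {Lv : List Level} (hLv : T.chkLevels Lv = true)
include hLv

omit h in
lemma levels_length : Lv.length = T.l := by
  simp only [Tab.chkLevels, Bool.and_eq_true, decide_eq_true_eq] at hLv
  exact hLv.1

/-- What one checked level says. -/
lemma level_spec {k : ℕ} (hk : k < T.l) :
    ∃ v, Lv[k]? = some v ∧ v.reps.head? = some [] ∧
      (∀ d ∈ v.reps, LettersBelow (k + 1) d ∧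
        ∀ r, T.half ≤ r → r < T.n → Supp T k r → T.half ≤ rword T d r) ∧
      (v.reps.map T.wcode).Pairwise (· < ·) ∧
      (v.reps.map T.negCount = v.poly.flatMap fun p => List.replicate p.1 p.2) ∧
      ∀ d ∈ v.reps, ∀ i < k + 1, ∃ e ∈ v.reps, SameAct T (i :: d) e ∨
        ∃ j < k, SameAct T (i :: d) (e ++ [j]) := by
  have hlen := levels_length hLv
  have hk' : k < Lv.length := by omega
  simp only [Tab.chkLevels, Bool.and_eq_true, List.all_eq_true] at hLv
  have h1 := hLv.2 (Lv[k], k) (List.mem_zipIdx_iff_getElem?.2 (by simp [hk']))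
  refine ⟨Lv[k], List.getElem?_eq_getElem hk', ?_⟩
  simp only [Tab.chkLevel, Bool.and_eq_true, decide_eq_true_eq, List.all_eq_true,
    Nat.add_sub_cancel] at h1
  obtain ⟨hhead, hlenE, hd, hinc, hneg, hclose⟩ := h1
  have hd' : ∀ d ∈ Lv[k].reps, LettersBelow (k + 1) d ∧
      ∀ r, T.half ≤ r → r < T.n → Supp T k r → T.half ≤ rword T d r := by
    intro d hdm
    obtain ⟨h2, h3⟩ := hd d hdm
    refine ⟨fun i hi => Nat.le_of_ble_eq_true (h2 i hi), fun r hr hr' hs => ?_⟩
    have h4 := allBelow_eq_true h3 r hr'
    rw [Nat.ble_eq_true_of_le hr, cond_true, suppF_iff.2 hs, cond_true, T.rwordF_eq] at h4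
    exact Nat.le_of_ble_eq_true h4
  have hok : ∀ d ∈ Lv[k].reps, WordOK T d := fun d hdm i hi => by
    have := (hd' d hdm).1 i hi; omega
  refine ⟨hhead, hd', incr_pairwise hinc, hneg, fun d hdm i hi => ?_⟩
  obtain ⟨p, hp, rfl⟩ := List.getElem_of_mem hdm
  have hp' : p < Lv[k].mulTable.length := by rw [hlenE]; exact hp
  obtain ⟨hl1, hl2⟩ := hclose (Lv[k].reps[p], Lv[k].mulTable[p]) (by
    rw [← List.getElem_zip (h := by rw [List.length_zip]; omega)]; exact List.getElem_mem _)
  have hi' : i < Lv[k].mulTable[p].length := by rw [hl1]; exact hi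
  obtain ⟨hq1, hq2⟩ := hl2 (Lv[k].mulTable[p][i], i)
    (List.mem_zipIdx_iff_getElem?.2 (by simp [hi']))
  have hlt : Lv[k].mulTable[p][i].1 < Lv[k].reps.length := Nat.le_of_ble_eq_true hq1
  refine ⟨Lv[k].reps[Lv[k].mulTable[p][i].1], List.getElem_mem _, ?_⟩
  simp only [T.rwordF_eq, List.getD_eq_getElem _ _ hlt, T.reflF_eq] at hq2
  have hid : WordOK T (i :: Lv[k].reps[p]) := fun a ha => by
    rcases List.mem_cons.1 ha with rfl | ha
    · omega
    · exact hok _ hdm a ha
  cases hbq : Nat.beq Lv[k].mulTable[p][i].2 T.l
  · rw [hbq, cond_false, Bool.and_eq_true] at hq2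
    have hj : Lv[k].mulTable[p][i].2 < k := Nat.le_of_ble_eq_true hq2.1
    refine Or.inr ⟨_, hj, h.sameAct_of_simple hid (fun a ha => ?_) fun m hm => ?_⟩
    · rcases List.mem_append.1 ha with ha | ha
      · exact hok _ (List.getElem_mem _) a ha
      · rw [List.mem_singleton] at ha; omega
    · rw [rword_append]; exact Nat.eq_of_beq_eq_true (allBelow_eq_true hq2.2 m hm)
  · rw [hbq, cond_true] at hq2
    exact Or.inl (h.sameAct_of_simple hid (hok _ (List.getElem_mem _)) fun m hm =>
      Nat.eq_of_beq_eq_true (allBelow_eq_true hq2 m hm))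

omit h hLv in
lemma mem_transversal_succ {k : ℕ} {v : Level} (hv : Lv[k]? = some v) {w : List ℕ} :
    w ∈ transversal Lv (k + 1) ↔
      ∃ d ∈ v.reps, ∃ u ∈ transversal Lv k, d ++ u = w := by
  simp [transversal, hv, List.mem_flatMap, List.mem_map]

lemma transversal_letters : ∀ k ≤ T.l, ∀ w ∈ transversal Lv k, LettersBelow k w := by
  intro k
  induction k with
  | zero => intro _ w hw; simp [transversal] at hw; subst hw; exact fun i hi => absurd hi List.not_mem_nil
  | succ k ih =>
    intro hk w hw
    obtain ⟨v, hv, -, hd, -⟩ := h.level_spec hLv (show k < T.l by omega)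
    obtain ⟨d, hdm, u, hu, rfl⟩ := (mem_transversal_succ hv).1 hw
    intro i hi
    rcases List.mem_append.1 hi with hi | hi
    · exact (hd d hdm).1 i hi
    · have := ih (by omega) u hu i hi; omega

lemma transversal_ok {k : ℕ} (hk : k ≤ T.l) {w : List ℕ} (hw : w ∈ transversal Lv k) :
    WordOK T w := fun i hi => lt_of_lt_of_le (h.transversal_letters hLv k hk w hw i hi) hk

/-- Every element is represented. -/
theorem exists_transversal : ∀ k ≤ T.l, ∀ w, LettersBelow k w →
    ∃ w' ∈ transversal Lv k, SameAct T w w' := by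
  intro k
  induction k with
  | zero =>
    intro _ w hw
    rcases w with _ | ⟨i, w⟩
    · exact ⟨[], by simp [transversal], fun r _ => rfl⟩
    · exact absurd (hw i List.mem_cons_self) (Nat.not_lt_zero i)
  | succ k ih =>
    intro hk w
    obtain ⟨v, hv, hhead, hd, -, -, hclose⟩ := h.level_spec hLv (show k < T.l by omega)
    induction w with
    | nil =>
      intro _
      obtain ⟨u, hu, eu⟩ := ih (by omega) [] fun i hi => absurd hi List.not_mem_nil
      exact ⟨[] ++ u, (mem_transversal_succ hv).2 ⟨[], List.mem_of_head? hhead, u, hu, rfl⟩, eu⟩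
    | cons i w ihw =>
      intro hw
      obtain ⟨x, hx, ex⟩ := ihw fun a ha => hw a (List.mem_cons_of_mem _ ha)
      obtain ⟨d, hdm, u, hu, rfl⟩ := (mem_transversal_succ hv).1 hx
      have huok := h.transversal_ok hLv (k := k) (by omega) hu
      have hstep : ∀ r < T.n, rword T (i :: w) r = rword T (i :: d) (rword T u r) := by
        intro r hr
        rw [rword_cons, ex r hr, rword_append, rword_cons]
      obtain ⟨e, hem, he | ⟨j, hj, he⟩⟩ := hclose d hdm i (hw i List.mem_cons_self)
      · refine ⟨e ++ u, (mem_transversal_succ hv).2 ⟨e, hem, u, hu, rfl⟩, fun r hr => ?_⟩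
        rw [hstep r hr, he _ (h.rword_lt huok hr), ← rword_append]
      · obtain ⟨u', hu', eu'⟩ := ih (by omega) (j :: u) (fun a ha => by
          rcases List.mem_cons.1 ha with rfl | ha
          · exact hj
          · exact h.transversal_letters hLv k (by omega) u hu a ha)
        refine ⟨e ++ u', (mem_transversal_succ hv).2 ⟨e, hem, u', hu', rfl⟩, fun r hr => ?_⟩
        rw [hstep r hr, he _ (h.rword_lt huok hr), rword_append, rword_append, ← eu' r hr]
        rfl

/-- Inversions add up along a transversal. -/
lemma negCount_append {k : ℕ} (hk : k < T.l) {v : Level} (hv : Lv[k]? = some v) {d u : List ℕ}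
    (hdm : d ∈ v.reps) (hu : u ∈ transversal Lv k) :
    T.negCount (d ++ u) = T.negCount d + T.negCount u := by
  obtain ⟨v', hv', -, hd, -⟩ := h.level_spec hLv hk
  rw [hv] at hv'; cases hv'
  obtain ⟨hdl, hdp⟩ := hd d hdm
  have hdok : WordOK T d := fun i hi => by have := hdl i hi; omega
  have hul := h.transversal_letters hLv k hk.le u hu
  have huok := h.transversal_ok hLv hk.le hu
  have htwo := h.two_mul_half
  classical
  simp only [Tab.negCount_eq]
  set A := (Finset.Ico T.half T.n).filter fun r => rword T u r < T.half with hA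
  set B := (Finset.Ico T.half T.n).filter fun r => rword T d r < T.half with hB
  have hAS : ∀ r ∈ A, Supp T k r := by
    intro r hr
    rw [hA, Finset.mem_filter, Finset.mem_Ico] at hr
    by_contra hns
    have := h.pos_rword_of_not_supp huok hul hr.1.1 hr.1.2 hns
    omega
  have hBS : ∀ r ∈ B, ¬ Supp T k r := by
    intro r hr hs
    rw [hB, Finset.mem_filter, Finset.mem_Ico] at hr
    have := hdp r hr.1.1 hr.1.2 hs
    omega
  have key : ((Finset.Ico T.half T.n).filter fun r => rword T (d ++ u) r < T.half) =
      A ∪ B.image (rword T u.reverse) := by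
    have hur : WordOK T u.reverse := fun i hi => huok i (List.mem_reverse.1 hi)
    have hurl : LettersBelow k u.reverse := fun i hi => hul i (List.mem_reverse.1 hi)
    ext r
    simp only [hA, hB, Finset.mem_filter, Finset.mem_union, Finset.mem_image, Finset.mem_Ico,
      rword_append]
    constructor
    · rintro ⟨⟨hr1, hr2⟩, hlt⟩
      by_cases hu' : rword T u r < T.half
      · exact Or.inl ⟨⟨hr1, hr2⟩, hu'⟩
      · exact Or.inr ⟨rword T u r, ⟨⟨not_lt.1 hu', h.rword_lt huok hr2⟩, hlt⟩,
          h.rword_rev huok hr2⟩
    · rintro (⟨⟨hr1, hr2⟩, hu'⟩ | ⟨s, ⟨⟨hs1, hs2⟩, hlt⟩, rfl⟩)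
      · refine ⟨⟨hr1, hr2⟩, ?_⟩
        have hx := h.rword_lt huok hr2
        have hs : Supp T k (rword T u r) :=
          (h.supp_rword huok hul hr2).2 (hAS r (by rw [hA, Finset.mem_filter, Finset.mem_Ico]
                                                   exact ⟨⟨hr1, hr2⟩, hu'⟩))
        have hpos := hdp (T.neg (rword T u r)) ((h.half_le_neg_iff hx).2 hu')
          (neg_lt (T := T) hx) ((h.supp_neg hx).2 hs)
        rw [h.rword_neg hdok hx] at hpos
        exact (h.half_le_neg_iff (h.rword_lt hdok hx)).1 hpos
      · have hns : ¬ Supp T k s := fun hs => absurd (hdp s hs1 hs2 hs) (not_le.2 hlt)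
        exact ⟨⟨h.pos_rword_of_not_supp hur hurl hs1 hs2 hns, h.rword_lt hur hs2⟩,
          by rw [h.rword_reverse huok hs2]; exact hlt⟩
  rw [key, Finset.card_union_of_disjoint, Finset.card_image_of_injOn, add_comm]
  · intro a ha b hb e
    simp only [hB, Finset.coe_filter, Finset.mem_Ico, Set.mem_ofPred_eq] at ha hb
    rw [← h.rword_reverse huok ha.1.2, ← h.rword_reverse huok hb.1.2]
    exact congrArg (rword T u) e
  · rw [Finset.disjoint_left]
    intro r hrA hrB
    obtain ⟨s, hs, rfl⟩ := Finset.mem_image.1 hrB
    have hs2 : s < T.n := (Finset.mem_Ico.1 (Finset.mem_filter.1 hs).1).2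
    refine hBS s hs ?_
    have := (h.supp_rword (k := k) (fun i hi => huok i (List.mem_reverse.1 hi))
      (fun i hi => hul i (List.mem_reverse.1 hi)) hs2).1 (hAS _ hrA)
    exact this

/-- The inversion polynomial. -/
theorem sum_transversal {R : Type*} [CommSemiring R] (q : R) : ∀ k ≤ T.l,
    ((transversal Lv k).map fun w => q ^ T.negCount w).sum =
      ((Lv.take k).map fun v => v.gpoly q).prod := by
  intro k
  induction k with
  | zero =>
    intro _
    have : T.negCount [] = 0 := by
      rw [Tab.negCount_eq, Finset.card_eq_zero, Finset.filter_eq_empty_iff]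
      intro r hr
      rw [Finset.mem_Ico] at hr
      simp only [rword, List.foldr_nil]
      omega
    simp [transversal, this]
  | succ k ih =>
    intro hk
    obtain ⟨v, hv, -, -, -, hneg, -⟩ := h.level_spec hLv (show k < T.l by omega)
    have e1 : ((transversal Lv (k + 1)).map fun w => q ^ T.negCount w).sum =
        (v.reps.map fun d => q ^ T.negCount d *
          ((transversal Lv k).map fun u => q ^ T.negCount u).sum).sum := by
      rw [transversal, hv, Option.map_some, Option.getD_some, List.map_flatMap,
        List.flatMap_def, List.sum_flatten, List.map_map]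
      refine congrArg List.sum (List.map_congr_left fun d hd => ?_)
      rw [Function.comp_apply, List.map_map, ← List.sum_map_mul_left]
      refine congrArg List.sum (List.map_congr_left fun u hu => ?_)
      rw [Function.comp_apply, h.negCount_append hLv (by omega) hv hd hu, pow_add]
    have hv' : v = Lv[k]'(by rw [levels_length hLv]; omega) := by
      rw [List.getElem?_eq_getElem (by rw [levels_length hLv]; omega), Option.some.injEq] at hv
      exact hv.symm
    rw [e1, List.sum_map_mul_right, ih (by omega),
      List.take_add_one, List.map_append, List.prod_append]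
    rw [show (fun d => q ^ T.negCount d) = (fun m => q ^ m) ∘ T.negCount from rfl, ← List.map_map,
      hneg, hv, mul_comm]
    congr 1
    simp only [Option.toList_some, List.map_cons, List.map_nil, List.prod_cons, List.prod_nil,
      mul_one, Level.gpoly]
    clear hneg hv hv' e1
    induction v.poly with
    | nil => rfl
    | cons p P ihP =>
      rw [List.flatMap_cons, List.map_append, List.sum_append, List.map_replicate,
        List.sum_replicate, nsmul_eq_mul, ihP, List.map_cons, List.sum_cons]

/-- Distinct words act differently. -/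
theorem transversal_inj : ∀ k ≤ T.l, (transversal Lv k).Pairwise fun w w' => ¬ SameAct T w w' := by
  intro k
  induction k with
  | zero => intro _; simp [transversal]
  | succ k ih =>
    intro hk
    have hk' : k < T.l := by omega
    obtain ⟨v, hv, -, hd, hinc, -, -⟩ := h.level_spec hLv hk'
    have hu := ih (by omega)
    have hok : ∀ d ∈ v.reps, WordOK T d := fun d hdm i hi => by
      have := (hd d hdm).1 i hi; omega
    rw [transversal, hv, Option.map_some, Option.getD_some, List.pairwise_flatMap]
    refine ⟨fun d hdm => ?_, ?_⟩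
    · refine List.pairwise_map.2 (hu.imp_of_mem ?_)
      intro a b ha hb hne e
      refine hne fun r hr => ?_
      refine h.rword_inj (hok d hdm) (h.rword_lt (h.transversal_ok hLv hk'.le ha) hr)
        (h.rword_lt (h.transversal_ok hLv hk'.le hb) hr) ?_
      rw [← rword_append, ← rword_append]; exact e r hr
    · rw [List.pairwise_map] at hinc
      refine hinc.imp_of_mem fun {d d'} hdm hdm' hlt => ?_
      intro x hx y hy hsame
      obtain ⟨u, hu1, rfl⟩ := List.mem_map.1 hx
      obtain ⟨u', hu1', rfl⟩ := List.mem_map.1 hy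
      refine absurd (T.wcode_congr (fun i hi => h.simple_lt hi) ?_) hlt.ne
      have huok := h.transversal_ok hLv hk'.le hu1
      have huok' := h.transversal_ok hLv hk'.le hu1'
      have hul := h.transversal_letters hLv k hk'.le u hu1
      have hul' := h.transversal_letters hLv k hk'.le u' hu1'
      set e := u' ++ u.reverse with he
      have heok : WordOK T e := fun i hi => by
        rcases List.mem_append.1 hi with hi | hi
        exacts [huok' i hi, huok i (List.mem_reverse.1 hi)]
      have hel : LettersBelow k e := fun i hi => by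
        rcases List.mem_append.1 hi with hi | hi
        exacts [hul' i hi, hul i (List.mem_reverse.1 hi)]
      have hde : ∀ r < T.n, rword T d r = rword T d' (rword T e r) := by
        intro r hr
        have hr' := h.rword_lt (fun i hi => huok i (List.mem_reverse.1 hi)) hr
        have := hsame _ hr'
        rw [rword_append, rword_append, h.rword_reverse huok hr] at this
        rw [this, he, rword_append]
      have hid : ∀ r < T.n, rword T e r = r := fun r hr =>
        h.rword_eq_self heok (fun i hi => by
          obtain ⟨hp1, hp2, -, -⟩ := h.simple_spec hi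
          by_cases hs : Supp T k (T.simple i)
          · by_contra hlt'
            have hx := h.rword_lt heok hp2
            have hpos := (hd d' hdm').2 (T.neg (rword T e (T.simple i)))
              ((h.half_le_neg_iff hx).2 (not_le.1 hlt')) (neg_lt (T := T) hx)
              ((h.supp_neg hx).2 ((h.supp_rword heok hel hp2).2 hs))
            rw [h.rword_neg (hok d' hdm') hx, ← hde _ hp2] at hpos
            have h5 := (hd d hdm).2 _ hp1 hp2 hs
            have := (h.half_le_neg_iff (h.rword_lt (hok d hdm) hp2)).1 hpos
            omega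
          · exact h.pos_rword_of_not_supp heok hel hp1 hp2 hs) hr
      intro r hr
      rw [hde r hr, hid r hr]

end Cert

end CfsgLib.Chev
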