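import Cfsg.Agent.Lib.Chev.Bruhat
import Cfsg.Agent.Lib.Chev.WeylCount

/-!
The order of a Chevalley group from the Bruhat decomposition.
-/

set_option autoImplicit false

namespace CfsgLib.Chev

open Cfsg.Lie Matrix

/-- Positive roots sent to negative ones by a word. -/
def cellList (T : Tab) (w : List ℕ) : List ℕ :=
  (posList T).filter fun r => decide (rword T w r < T.half)

namespace Cert

variable {D : ChevalleyDatum} {T : Tab} {C : Tab.Cover} (h : Cert D T C)
include h

lemma car_chainRoot {r s i u : ℕ} (hr : r < T.n) (hs : s < T.n) (hi : 1 ≤ i)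
    (e : T.chainRoot r s i = some u) {j : ℕ} (hj : j < T.l) :
    T.car j u = T.car j s + i * T.car j r := by
  simp only [Tab.chainRoot, Option.map_eq_some_iff] at e
  obtain ⟨a, ha, rfl⟩ := e
  have hq : ((a.1, a.2), i) ∈ (T.entry r s).zipIdx 1 :=
    List.mk_mem_zipIdx_iff_le_and_getElem?_sub.2 ⟨hi, ha⟩
  exact h.lin_spec hr hs hq hj

lemma commTerms_car {r s : ℕ} (hr : r < T.n) (hs : s < T.n) {q : ℕ × ℤ × ℕ × ℕ}
    (hq : q ∈ T.commTerms r s) :
    ∃ a b : ℕ, 0 < a ∧ 0 < b ∧ ∀ j < T.l, T.car j q.1 = a * T.car j r + b * T.car j s := by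
  rcases T.mem_commTerms hq with e | e | e | e | e | ⟨m, e, e'⟩ | ⟨m, e, e'⟩
  · refine ⟨1, 1, one_pos, one_pos, fun j hj => ?_⟩
    rw [h.car_chainRoot hr hs le_rfl e hj]; ring
  · refine ⟨2, 1, two_pos, one_pos, fun j hj => ?_⟩
    rw [h.car_chainRoot hr hs (by omega) e hj]; ring
  · refine ⟨1, 2, one_pos, two_pos, fun j hj => ?_⟩
    rw [h.car_chainRoot hs hr (by omega) e hj]; ring
  · refine ⟨3, 1, by omega, one_pos, fun j hj => ?_⟩
    rw [h.car_chainRoot hr hs (by omega) e hj]; ring
  · refine ⟨1, 3, one_pos, by omega, fun j hj => ?_⟩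
    rw [h.car_chainRoot hs hr (by omega) e hj]; ring
  · refine ⟨3, 2, by omega, two_pos, fun j hj => ?_⟩
    rw [h.car_chainRoot (h.chainRoot_lt hr hs e) hs le_rfl e' hj,
      h.car_chainRoot hr hs (by omega) e hj]
    push_cast; ring
  · refine ⟨2, 3, two_pos, by omega, fun j hj => ?_⟩
    rw [h.car_chainRoot (h.chainRoot_lt hs hr e) hr le_rfl e' hj,
      h.car_chainRoot hs hr (by omega) e hj]
    push_cast; ring

lemma car_refl_simple {i x : ℕ} (hi : i < T.l) (hx : x < T.n) {j : ℕ} (hj : j < T.l) :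
    T.car j (T.refl i x) = T.car j x - T.car i x * T.car j (T.simple i) :=
  h.car_rword_refl (w := []) (fun _ ha => absurd ha List.not_mem_nil) hi hx hj

/-- Linear relations between roots are kept by words. -/
lemma car_rword_lin {x r s : ℕ} (hx : x < T.n) (hr : r < T.n) (hs : s < T.n) {a b : ℤ}
    (e : ∀ j < T.l, T.car j x = a * T.car j r + b * T.car j s) :
    ∀ {w : List ℕ}, WordOK T w → ∀ j < T.l,
      T.car j (rword T w x) = a * T.car j (rword T w r) + b * T.car j (rword T w s) := by
  intro w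
  induction w with
  | nil => intro _ j hj; exact e j hj
  | cons i w ih =>
    intro hw j hj
    have hi := hw.head
    rw [rword_cons, rword_cons, rword_cons, h.car_refl_simple hi (h.rword_lt hw.tail hx) hj,
      h.car_refl_simple hi (h.rword_lt hw.tail hr) hj, h.car_refl_simple hi (h.rword_lt hw.tail hs) hj,
      ih hw.tail j hj, ih hw.tail i hi]
    ring

omit h in
lemma cellList_set (w : List ℕ) :
    {r | r ∈ cellList T w} = posSet T \ {r | T.half ≤ rword T w r} := by
  ext r
  simp [cellList, mem_posList]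

omit h in
lemma sortedLT_cellList (w : List ℕ) : (cellList T w).SortedLT :=
  (List.SortedLT.pairwise sortedLT_posList).filter _ |>.sortedLT

omit h in
lemma mem_cellList {w : List ℕ} {r : ℕ} :
    r ∈ cellList T w ↔ r ∈ posSet T ∧ rword T w r < T.half := by
  simp [cellList, mem_posList]

lemma commClosed_cellList {w : List ℕ} (hw : WordOK T w) :
    CommClosed T {r | r ∈ cellList T w} := by
  intro r hr s hs hne q hq
  obtain ⟨hr1, hr2⟩ := mem_cellList.1 hr
  obtain ⟨hs1, hs2⟩ := mem_cellList.1 hs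
  refine mem_cellList.2 ⟨?_, ?_⟩
  · exact h.commClosed_posSet r hr1 s hs1 hne q hq
  obtain ⟨a, b, ha, hb, he⟩ := h.commTerms_car hr1.2 hs1.2 hq
  have hlt := h.commTerms_lt hr1.2 hs1.2 hq
  have hl := h.car_rword_lin hlt hr1.2 hs1.2 he hw
  have hwr := h.rword_lt hw hr1.2
  have hws := h.rword_lt hw hs1.2
  have hwt : ∀ k, h.wt k (rword T w q.1) =
      a * h.wt k (rword T w r) + b * h.wt k (rword T w s) := by
    intro k
    simp only [h.wt_eq_sum, Finset.mul_sum, ← Finset.sum_add_distrib]
    refine Finset.sum_congr rfl fun j hj => ?_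
    rw [hl j (Finset.mem_range.1 hj)]
    ring
  obtain ⟨k, hk, hkne⟩ := h.exists_wt_ne hwr
  refine h.neg_of_wt_neg hk (h.rword_lt hw hlt) ?_
  have h1 : h.wt k (rword T w r) < 0 := lt_of_le_of_ne (h.wt_nonpos hk hwr hr2) hkne
  have h2 := h.wt_nonpos hk hws hs2
  rw [hwt k]
  have ha' : (0 : ℤ) < a := by exact_mod_cast ha
  have hb' : (0 : ℤ) < b := by exact_mod_cast hb
  nlinarith

omit h in
lemma length_cellList (w : List ℕ) : (cellList T w).length = T.negCount w := by
  rw [T.negCount_eq, ← List.toFinset_card_of_nodup (sortedLT_cellList w).nodup]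
  congr 1
  ext r
  simp [mem_cellList, posSet]

omit h in
lemma cellList_nil : cellList T [] = [] := by
  rw [List.eq_nil_iff_forall_not_mem]
  intro r hr
  obtain ⟨h1, h2⟩ := mem_cellList.1 hr
  exact absurd h2 (not_lt.2 h1.1)

variable {F : Type*} [Field F]

/-- A product of root subgroups in order has `q^length` elements. -/
theorem card_gen [Fintype F] (L : List ℕ) (hL : L.SortedLT) (hpos : ∀ r ∈ L, r ∈ posSet T)
    (hc : CommClosed T {r | r ∈ L}) :
    Nat.card (gen D F {r | r ∈ L}) = Fintype.card F ^ L.length := by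
  classical
  let ext : ({r // r ∈ L} → F) → ℕ → F := fun f r => if hr : r ∈ L then f ⟨r, hr⟩ else 0
  let e : ({r // r ∈ L} → F) → gen D F {r | r ∈ L} := fun f =>
    ⟨prodX D L (ext f), prodX_mem_gen L (ext f)⟩
  have hb : Function.Bijective e := by
    constructor
    · intro f f' hff
      funext r
      have h1 := h.prodX_inj L hL hpos _ _ (congrArg Subtype.val hff) r.1 r.2
      simpa [ext, r.2] using h1
    · rintro ⟨g, hg⟩
      obtain ⟨t, rfl⟩ := h.exists_prodX L hL hpos hc g hg
      refine ⟨fun r => t r.1, Subtype.ext ?_⟩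
      show prodX D L _ = prodX D L t
      unfold prodX
      refine congrArg List.prod (List.map_congr_left fun r hr => ?_)
      simp [ext, hr]
  rw [← Nat.card_eq_of_bijective e hb, Nat.card_fun, Nat.card_eq_fintype_card,
    Nat.card_eq_fintype_card, Fintype.card_of_subtype L.toFinset fun r => List.mem_toFinset,
    List.toFinset_card_of_nodup hL.nodup]

theorem card_posUnipotent [Fintype F] :
    Nat.card (D.posUnipotent F) = Fintype.card F ^ T.half := by
  rw [h.posUnipotent_eq, ← posList_set, h.card_gen _ sortedLT_posList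
    (fun r hr => mem_posList.1 hr) (by rw [posList_set]; exact h.commClosed_posSet)]
  congr 1
  have htwo := h.two_mul_half
  rw [← List.toFinset_card_of_nodup sortedLT_posList.nodup,
    show (posList T).toFinset = Finset.Ico T.half T.n by ext r; simp [mem_posList, posSet],
    Nat.card_Ico]
  omega

lemma cellUnipotent_word {w : List ℕ} (hw : WordOK T w) :
    cellUnipotent D F (nW D F w) = gen D F {r | r ∈ cellList T w} := by
  rw [cellList_set, h.cellUnipotent_eq (π := rword T w)
    fun r hr => ⟨h.rword_lt hw hr, h.Maps_nW hw hr⟩]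

theorem card_cellUnipotent [Fintype F] {w : List ℕ} (hw : WordOK T w) :
    Nat.card (cellUnipotent D F (nW D F w)) = Fintype.card F ^ T.negCount w := by
  rw [h.cellUnipotent_word hw, h.card_gen _ (sortedLT_cellList w)
    (fun r hr => (mem_cellList.1 hr).1) (h.commClosed_cellList hw), length_cellList]

theorem card_borel :
    Nat.card (D.borelSubgroup F) =
      Nat.card (D.posUnipotent F) * Nat.card (D.diagonalSubgroup F) := by
  let e : D.posUnipotent F × D.diagonalSubgroup F → D.borelSubgroup F := fun p =>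
    ⟨p.1.1 * p.2.1, h.mem_borel_iff.2 ⟨_, p.1.2, _, p.2.2, rfl⟩⟩
  have hb : Function.Bijective e := by
    constructor
    · intro p p' hpp
      have h1 : p.1.1 * p.2.1 = p'.1.1 * p'.2.1 := congrArg Subtype.val hpp
      have h2 : p'.1.1⁻¹ * p.1.1 ∈ D.posUnipotent F ⊓ D.diagonalSubgroup F := by
        refine Subgroup.mem_inf.2 ⟨mul_mem (inv_mem p'.1.2) p.1.2, ?_⟩
        rw [show p'.1.1⁻¹ * p.1.1 = p'.2.1 * p.2.1⁻¹ by
          rw [eq_mul_inv_iff_mul_eq, mul_assoc, h1, inv_mul_cancel_left]]
        exact mul_mem p'.2.2 (inv_mem p.2.2)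
      rw [h.posUnipotent_inf_diagonal, Subgroup.mem_bot, inv_mul_eq_one] at h2
      refine Prod.ext (Subtype.ext h2.symm) (Subtype.ext ?_)
      rw [h2] at h1
      exact mul_left_cancel h1
    · rintro ⟨g, hg⟩
      obtain ⟨u, hu, t, ht, rfl⟩ := h.mem_borel_iff.1 hg
      exact ⟨(⟨u, hu⟩, ⟨t, ht⟩), rfl⟩
  rw [← Nat.card_eq_of_bijective e hb, Nat.card_prod]

/-- Each monomial element lies in the coset of a chosen word. -/
lemma exists_transversal_monomial {Lv : List Level} (hLv : T.chkLevels Lv = true)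
    {n : GL D.Idx F} (hn : n ∈ D.monomialSubgroup F) :
    ∃ w ∈ transversal Lv T.l, ∃ t ∈ D.diagonalSubgroup F, n = t * nW D F w := by
  obtain ⟨v, hv, t, ht, rfl⟩ := h.exists_word_of_monomial hn
  obtain ⟨w, hw, e⟩ := h.exists_transversal hLv T.l le_rfl v hv
  have hwok := h.transversal_ok hLv le_rfl hw
  refine ⟨w, hw, nW D F v * t * (nW D F w)⁻¹, ?_, by group⟩
  refine h.mem_diagonal_of_perm (mul_mem (mul_mem (h.nW_mem_monomial hv)
    (diagonal_le_monomial ht)) (inv_mem (h.nW_mem_monomial hwok))) fun i hi s hs hM => ?_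
  have hp := h.simple_lt hi
  have hwr : WordOK T w.reverse := fun a ha => hwok a (List.mem_reverse.1 ha)
  have hx := h.rword_lt hwr hp
  have h1 : Maps D (nW D F w)⁻¹ (T.simple i) (rword T w.reverse (T.simple i)) := by
    have := Maps_inv (h.Maps_nW (F := F) hwok hx)
    rwa [h.rword_reverse hwok hp] at this
  have h2 := Maps_mul h1 (Maps_mul (h.Maps_diagonal ht hx) (h.Maps_nW hv hx))
  rw [e _ hx, h.rword_reverse hwok hp] at h2
  have := h.Maps_unique (lt_trans hs (by have := h.two_mul_half; omega)) hp hM h2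
  have := (h.simple_spec hi).1
  omega

/-- The order of the group. -/
theorem card_group [Fintype F] {Lv : List Level} (hLv : T.chkLevels Lv = true) :
    Nat.card (D.group F) = Fintype.card F ^ T.half * Nat.card (D.diagonalSubgroup F) *
      (Lv.map fun v => v.gpoly (Fintype.card F)).prod := by
  classical
  set W := (transversal Lv T.l).toFinset with hW
  have hok : ∀ w : W, WordOK T w.1 := fun w =>
    h.transversal_ok hLv le_rfl (List.mem_toFinset.1 w.2)
  have hG : ∀ w : W, nW D F w.1 ∈ D.group F := fun w =>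
    h.monomial_le_group (h.nW_mem_monomial (hok w))
  have hU : ∀ w : W, cellUnipotent D F (nW D F w.1) ≤ D.group F := fun w => by
    rw [h.cellUnipotent_word (hok w)]
    exact h.gen_le_group fun r hr => (mem_cellList.1 hr).1.2
  let e : D.borelSubgroup F × (Σ w : W, cellUnipotent D F (nW D F w.1)) → D.group F := fun p =>
    ⟨p.1.1 * nW D F p.2.1.1 * p.2.2.1,
      mul_mem (mul_mem (h.borel_le_group p.1.2) (hG _)) (hU _ p.2.2.2)⟩
  have hb : Function.Bijective e := by
    constructor
    · rintro ⟨⟨b, hb⟩, w, ⟨u, hu⟩⟩ ⟨⟨b', hb'⟩, w', ⟨u', hu'⟩⟩ hpp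
      obtain ⟨h1, h2⟩ := h.bruhat_unique hb hb' (h.nW_mem_monomial (hok w))
        (h.nW_mem_monomial (hok w')) hu hu' (congrArg Subtype.val hpp)
      have hs : SameAct T w'.1 w.1 := by
        intro r hr
        have h3 : Maps D (nW D F w'.1) r (rword T w.1 r) := by
          have := Maps_mul (h.Maps_diagonal h1 hr) (h.Maps_nW (F := F) (hok w) hr)
          rwa [mul_inv_cancel_left] at this
        exact h.Maps_unique (h.rword_lt (hok w') hr) (h.rword_lt (hok w) hr)
          (h.Maps_nW (hok w') hr) h3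
      have hw : w = w' := by
        by_contra hne
        have hne' : w'.1 ≠ w.1 := fun e => hne (Subtype.ext e.symm)
        obtain ⟨i, hi, ei⟩ := List.getElem_of_mem (List.mem_toFinset.1 w'.2)
        obtain ⟨j, hj, ej⟩ := List.getElem_of_mem (List.mem_toFinset.1 w.2)
        have hpw := List.pairwise_iff_getElem.1 (h.transversal_inj hLv T.l le_rfl)
        rcases lt_trichotomy i j with hij | rfl | hij
        · exact hpw i j hi hj hij (by rw [ei, ej]; exact hs)
        · exact hne' (ei.symm.trans ej)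
        · exact hpw j i hj hi hij (by rw [ei, ej]; exact fun r hr => (hs r hr).symm)
      subst hw
      obtain ⟨rfl, rfl⟩ := h2 rfl
      rfl
    · rintro ⟨g, hg⟩
      obtain ⟨b, hb, n, hn, u, hu, rfl⟩ := h.bruhat_exists hg
      obtain ⟨w, hw, t, ht, rfl⟩ := h.exists_transversal_monomial hLv hn
      have hwok := h.transversal_ok hLv le_rfl hw
      have hu' : u ∈ cellUnipotent D F (nW D F w) := by
        rw [h.cellUnipotent_eq (π := rword T w)
          fun r hr => ⟨h.rword_lt hwok hr, h.Maps_nW hwok hr⟩]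
        rwa [h.cellUnipotent_eq (π := rword T w) fun r hr => ⟨h.rword_lt hwok hr,
          Maps_mul (h.Maps_nW hwok hr) (h.Maps_diagonal ht (h.rword_lt hwok hr))⟩] at hu
      refine ⟨(⟨b * t, mul_mem hb ?_⟩, ⟨⟨w, List.mem_toFinset.2 hw⟩, ⟨u, hu'⟩⟩), Subtype.ext ?_⟩
      · exact h.mem_borel_iff.2 ⟨1, one_mem _, t, ht, (one_mul t).symm⟩
      · show b * t * nW D F w * u = b * (t * nW D F w) * u
        rw [mul_assoc b t]
  rw [← Nat.card_eq_of_bijective e hb, Nat.card_prod, Nat.card_sigma, h.card_borel,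
    h.card_posUnipotent]
  congr 1
  have hnd : (transversal Lv T.l).Nodup :=
    (h.transversal_inj hLv T.l le_rfl).imp fun hab e => hab fun r _ => by rw [e]
  simp only [fun w : W => h.card_cellUnipotent (F := F) (hok w)]
  rw [Finset.sum_coe_sort W fun w => Fintype.card F ^ T.negCount w, hW,
    List.sum_toFinset _ hnd, h.sum_transversal hLv _ T.l le_rfl,
    ← levels_length hLv, List.take_length]

end Cert

end CfsgLib.Chev
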