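import Cfsg.Agent.Lib.Chev.Monomial
import Cfsg.Agent.Lib.BNPair.Main

/-!
The (B, N)-pair of a Chevalley group.
-/

set_option autoImplicit false

namespace CfsgLib.Chev

open Cfsg.Lie Matrix

/-- The positive roots other than the `i`-th simple root. -/
def posBut (T : Tab) (i : ℕ) : Set ℕ := {s | s ∈ posSet T ∧ s ≠ T.simple i}

namespace Cert

variable {D : ChevalleyDatum} {T : Tab} {C : Tab.Cover} (h : Cert D T C) {F : Type*} [Field F]
include h

omit h in
lemma posSet_lt {r : ℕ} (hr : r ∈ posSet T) : r < T.n := hr.2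

omit h in
lemma conj_gen_le {g : GL D.Idx F} {S S' : Set ℕ} (hS : ∀ r ∈ S, ∃ s ∈ S', Maps D g r s)
    {x : GL D.Idx F} (hx : x ∈ gen D F S) : g * x * g⁻¹ ∈ gen D F S' := by
  induction hx using Subgroup.closure_induction with
  | mem x hx =>
    obtain ⟨r, hr, t, rfl⟩ := hx
    obtain ⟨s, hs, c, -, e⟩ := hS r hr
    rw [e t]; exact X_mem_gen D hs _
  | one => simp
  | mul a b _ _ ha hb =>
    rw [show g * (a * b) * g⁻¹ = (g * a * g⁻¹) * (g * b * g⁻¹) by group]
    exact mul_mem ha hb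
  | inv a _ ha =>
    rw [show g * a⁻¹ * g⁻¹ = (g * a * g⁻¹)⁻¹ by group]
    exact inv_mem ha

lemma gen_le_group {S : Set ℕ} (hS : ∀ r ∈ S, r < T.n) : gen D F S ≤ D.group F := by
  rw [h.group_eq]; exact gen_mono D hS

lemma gen_pos_le {S : Set ℕ} (hS : ∀ r ∈ S, r ∈ posSet T) : gen D F S ≤ D.posUnipotent F := by
  rw [h.posUnipotent_eq]; exact gen_mono D hS

lemma gen_neg_le {S : Set ℕ} (hS : ∀ r ∈ S, r < T.half) : gen D F S ≤ D.negUnipotent F := by
  rw [h.negUnipotent_eq]; exact gen_mono D hS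

lemma simple_normalizes_posBut {i : ℕ} (hi : i < T.l) {r : ℕ} (hr : r < T.n)
    (hw : ∀ k < T.l, k ≠ i → h.wt k r = 0) :
    gen D F {r} ≤ Subgroup.normalizer (gen D F (posBut T i) : Set (GL D.Idx F)) := by
  refine le_normalizer_closure fun g hg a ha => ?_
  obtain ⟨b, rfl⟩ := (h.gen_singleton hr).1 hg
  obtain ⟨s, ⟨⟨hh, hs⟩, hne⟩, u, rfl⟩ := ha
  obtain ⟨k, hk, hki, hpos⟩ := h.exists_wt_pos_of_ne_simple hh hs hi hne
  have h0 := hw k hk hki
  refine h.X_conj_mem (S := posBut T i) hr hs ?_ ?_ ⟨⟨hh, hs⟩, hne⟩ (fun q hq => ?_) b u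
  · intro e; rw [e, h0] at hpos; exact lt_irrefl 0 hpos
  · intro e; rw [e, h.wt_neg hr, h0] at hpos; omega
  · obtain ⟨a1, a2, a3⟩ := h.commTerms_simple hi hr hw hh hs hne hq
    exact ⟨⟨a1, a2⟩, a3⟩

lemma posBut_sup {i : ℕ} (hi : i < T.l) :
    gen D F (posBut T i) ⊔ gen D F {T.simple i} = D.posUnipotent F := by
  refine le_antisymm (sup_le (h.gen_pos_le fun r hr => hr.1)
    (h.gen_pos_le fun r hr => ?_)) ?_
  · rw [Set.mem_singleton_iff] at hr
    exact hr ▸ ⟨(h.simple_spec hi).1, h.simple_lt hi⟩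
  · rw [h.posUnipotent_eq]
    refine (Subgroup.closure_le _).2 ?_
    rintro _ ⟨s, hs, u, rfl⟩
    by_cases e : s = T.simple i
    · exact Subgroup.mem_sup_right (X_mem_gen D (show s ∈ ({T.simple i} : Set ℕ) from e) u)
    · exact Subgroup.mem_sup_left (X_mem_gen D (S := posBut T i) ⟨hs, e⟩ u)

/-- `U = U_i X_p`. -/
lemma exists_posBut_mul {i : ℕ} (hi : i < T.l) {u : GL D.Idx F} (hu : u ∈ D.posUnipotent F) :
    ∃ v ∈ gen D F (posBut T i), ∃ a : F, u = v * X D (T.simple i) a := by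
  rw [← h.posBut_sup hi, ← SetLike.mem_coe, Subgroup.coe_mul_of_right_le_normalizer_left _ _
    (h.simple_normalizes_posBut hi (h.simple_lt hi) (h.wt_simple_zero hi).1)] at hu
  obtain ⟨v, hv, x, hx, rfl⟩ := hu
  obtain ⟨a, rfl⟩ := (h.gen_singleton (h.simple_lt hi)).1 hx
  exact ⟨v, hv, a, rfl⟩

lemma nS_conj_posBut {i : ℕ} (hi : i < T.l) {v : GL D.Idx F} (hv : v ∈ gen D F (posBut T i)) :
    nS D F i * v * (nS D F i)⁻¹ ∈ gen D F (posBut T i) := by
  refine conj_gen_le (fun r hr => ⟨T.refl i r, ?_, h.Maps_nS hi hr.1.2⟩) hv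
  refine ⟨⟨(h.refl_spec hi hr.1.2).2.2.2.1 hr.1.1 hr.2, h.refl_lt hi hr.1.2⟩, fun e => ?_⟩
  have := congrArg (T.refl i) e
  rw [h.refl_refl hi hr.1.2, h.refl_simple hi] at this
  have := (h.half_le_neg_iff (h.simple_lt hi)).1 (this ▸ hr.1.1)
  have := (h.simple_spec hi).1
  omega

/-- Each monomial element permutes the roots. -/
lemma exists_perm {g : GL D.Idx F} (hg : g ∈ D.monomialSubgroup F) :
    ∃ π : ℕ → ℕ, (∀ r < T.n, π r < T.n ∧ Maps D g r (π r) ∧ π (T.neg r) = T.neg (π r)) ∧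
      ∀ s < T.n, ∃ r < T.n, π r = s := by
  obtain ⟨w, hw, t, ht, rfl⟩ := h.exists_word_of_monomial hg
  refine ⟨rword T w, fun r hr => ⟨h.rword_lt hw hr, ?_, h.rword_neg hw hr⟩, fun s hs => ?_⟩
  · exact Maps_mul (h.Maps_diagonal ht hr) (h.Maps_nW hw hr)
  · have hwr : WordOK T w.reverse := fun i hi => hw i (List.mem_reverse.1 hi)
    exact ⟨_, h.rword_lt hwr hs, h.rword_reverse hw hs⟩

lemma mem_diagonal_of_perm {g : GL D.Idx F} (hg : g ∈ D.monomialSubgroup F)
    (hpos : ∀ i < T.l, ∀ s, s < T.half → ¬ Maps D g (T.simple i) s) :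
    g ∈ D.diagonalSubgroup F := by
  obtain ⟨w, hw, t, ht, rfl⟩ := h.exists_word_of_monomial hg
  refine mul_mem (h.nW_mem_diagonal hw fun i hi => ?_) ht
  by_contra hlt
  exact hpos i hi _ (not_le.1 hlt)
    (Maps_mul (h.Maps_diagonal ht (h.simple_lt hi)) (h.Maps_nW hw (h.simple_lt hi)))

theorem posUnipotent_inf_monomial : D.posUnipotent F ⊓ D.monomialSubgroup F = ⊥ := by
  rw [eq_bot_iff]
  intro g hg
  obtain ⟨hu, hn⟩ := Subgroup.mem_inf.1 hg
  rw [Subgroup.mem_bot]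
  have hd : g ∈ D.diagonalSubgroup F := by
    refine h.mem_diagonal_of_perm hn fun i hi s hs hm => ?_
    obtain ⟨c, hc, e⟩ := hm
    have hs' : s < T.n := by have := h.two_mul_half; omega
    have h1 : X D s (c * 1) ∈ D.posUnipotent F ⊓ D.negUnipotent F := by
      refine Subgroup.mem_inf.2 ⟨?_, ?_⟩
      · rw [← e]
        exact mul_mem (mul_mem hu (h.X_simple_mem_posUnipotent hi 1)) (inv_mem hu)
      · rw [h.negUnipotent_eq]; exact X_mem_gen D (S := {r | r < T.half}) hs _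
    have h2 : X D s (c * 1) ∈ D.borelSubgroup F ⊓ D.negUnipotent F :=
      ⟨Subgroup.mem_sup_left h1.1, h1.2⟩
    rw [h.borel_inf_negUnipotent, Subgroup.mem_bot, h.X_eq_one_iff hs', mul_one] at h2
    exact hc h2
  have := Subgroup.mem_inf.2 ⟨hu, hd⟩
  rwa [h.posUnipotent_inf_diagonal, Subgroup.mem_bot] at this

omit h in
lemma diagonal_le_monomial : D.diagonalSubgroup F ≤ D.monomialSubgroup F := le_sup_left

theorem borel_inf_monomial :
    D.borelSubgroup F ⊓ D.monomialSubgroup F = D.diagonalSubgroup F := by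
  refine le_antisymm (fun g hg => ?_) (le_inf le_sup_right diagonal_le_monomial)
  obtain ⟨hb, hn⟩ := Subgroup.mem_inf.1 hg
  obtain ⟨u, hu, t, ht, rfl⟩ := h.mem_borel_iff.1 hb
  have hun : u ∈ D.posUnipotent F ⊓ D.monomialSubgroup F := by
    refine ⟨hu, ?_⟩
    have := mul_mem hn (inv_mem (diagonal_le_monomial ht))
    rwa [mul_inv_cancel_right] at this
  rw [h.posUnipotent_inf_monomial, Subgroup.mem_bot] at hun
  rw [hun, one_mul]; exact ht

lemma X_mem_borel {r : ℕ} (hh : T.half ≤ r) (hr : r < T.n) (t : F) :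
    X D r t ∈ D.borelSubgroup F := by
  refine Subgroup.mem_sup_left ?_
  rw [h.posUnipotent_eq]; exact X_mem_gen D (S := posSet T) ⟨hh, hr⟩ t

/-- `x_{-p}` as a product around `n_p`. -/
lemma X_neg_simple_eq {i : ℕ} (hi : i < T.l) (e : F) :
    X D (T.neg (T.simple i)) e = X D (T.simple i) e⁻¹ *
      (hU D (T.simple i) (-e⁻¹) * nS D F i) * X D (T.simple i) e⁻¹ := by
  have hp := h.simple_lt hi
  have hn : hU D (T.simple i) (-e⁻¹) * nS D F i = nU D (T.simple i) (-e⁻¹) := by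
    refine Units.ext ?_
    rw [Units.val_mul, h.coe_hU, h.coe_nS, h.coe_nU, ← h.simple_eq hi, h.nMat_eq_hMat_mul hi]
  rw [hn, nU, h.neg_eq hp, inv_neg, _root_.neg_neg, inv_inv, ← mul_assoc, ← mul_assoc,
    h.X_add hp, add_neg_cancel, h.X_zero hp, one_mul, mul_assoc, h.X_add hp, neg_add_cancel,
    h.X_zero hp, mul_one]

omit h in
/-- A product `b * g * b'`. -/
def InCell (D : ChevalleyDatum) (g x : GL D.Idx F) : Prop :=
  ∃ b ∈ D.borelSubgroup F, ∃ b' ∈ D.borelSubgroup F, x = b * g * b'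

omit h in
lemma InCell.mul {g x b b' : GL D.Idx F} (hx : InCell D g x) (hb : b ∈ D.borelSubgroup F)
    (hb' : b' ∈ D.borelSubgroup F) : InCell D g (b * x * b') := by
  obtain ⟨c, hc, c', hc', rfl⟩ := hx
  exact ⟨b * c, mul_mem hb hc, c' * b', mul_mem hc' hb', by group⟩

/-- The double coset condition. -/
theorem nS_mul_borel_mul {i : ℕ} (hi : i < T.l) {n b : GL D.Idx F}
    (hn : n ∈ D.monomialSubgroup F) (hb : b ∈ D.borelSubgroup F) :
    InCell D (nS D F i * n) (nS D F i * b * n) ∨ InCell D n (nS D F i * b * n) := by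
  obtain ⟨u, hu, t, ht, rfl⟩ := h.mem_borel_iff.1 hb
  obtain ⟨v, hv, a, rfl⟩ := h.exists_posBut_mul hi hu
  have hp := h.simple_lt hi
  set s := nS D F i with hs
  have hv' : s * v * s⁻¹ ∈ D.borelSubgroup F :=
    Subgroup.mem_sup_left (h.gen_pos_le (fun r hr => hr.1) (h.nS_conj_posBut hi hv))
  have ht' : n⁻¹ * t * n ∈ D.borelSubgroup F :=
    Subgroup.mem_sup_right
      ((Subgroup.mem_normalizer_iff''.1 (h.monomial_le_normalizer_diagonal hn) t).1 ht)
  suffices InCell D (s * n) (s * X D (T.simple i) a * n) ∨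
      InCell D n (s * X D (T.simple i) a * n) by
    rw [show s * (v * X D (T.simple i) a * t) * n =
      (s * v * s⁻¹) * (s * X D (T.simple i) a * n) * (n⁻¹ * t * n) by group]
    exact this.imp (fun h1 => InCell.mul h1 hv' ht') (fun h1 => InCell.mul h1 hv' ht')
  obtain ⟨π, hπ, hsurj⟩ := h.exists_perm hn
  obtain ⟨q, hq, hqp⟩ := hsurj _ hp
  obtain ⟨hq1, ⟨c, hc, hconj⟩, hqn⟩ := hπ q hq
  rw [hqp] at hconj
  by_cases hpos : T.half ≤ q
  · left
    refine ⟨1, one_mem _, X D q (c⁻¹ * a), h.X_mem_borel hpos hq _, ?_⟩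
    have e := hconj (c⁻¹ * a)
    rw [mul_inv_cancel_left₀ hc] at e
    rw [← e]; group
  by_cases ha : a = 0
  · left
    refine ⟨1, one_mem _, 1, one_mem _, ?_⟩
    rw [ha, h.X_zero hp]; group
  right
  have hη : (T.eta i (T.simple i) : F) * a ≠ 0 := by
    rcases T.eta_cases i (T.simple i) with e | e <;> simp [e, ha]
  set e := (T.eta i (T.simple i) : F) * a with he
  have hconjp : s * X D (T.simple i) a = X D (T.neg (T.simple i)) e * s := by
    rw [← h.refl_simple hi, ← mul_inv_eq_iff_eq_mul]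
    exact h.nS_conj_X hi hp a
  obtain ⟨c', hc', hconj'⟩ : ∃ c' : F, c' ≠ 0 ∧
      ∀ t, n * X D (T.neg q) t * n⁻¹ = X D (T.neg (T.simple i)) (c' * t) := by
    obtain ⟨-, hm, hn'⟩ := hπ (T.neg q) (neg_lt (T := T) hq)
    rw [show π (T.neg q) = T.neg (T.simple i) by rw [hqn, hqp]] at hm
    exact hm
  -- `x_p(1/e) s n = s n x_{-q}(_)`
  obtain ⟨z, hz⟩ : ∃ z : F, X D (T.simple i) e⁻¹ * (s * n) = (s * n) * X D (T.neg q) z := by
    have hconj2 : ∀ t, s * X D (T.neg (T.simple i)) t * s⁻¹ =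
        X D (T.simple i) ((T.eta i (T.neg (T.simple i)) : F) * t) := fun t => by
      have := h.nS_conj_X hi (neg_lt (T := T) hp) t
      rwa [(h.refl_spec hi hp).2.2.1, h.refl_simple hi, neg_neg (T := T) hp] at this
    refine ⟨c'⁻¹ * ((T.eta i (T.neg (T.simple i)) : F) * e⁻¹), ?_⟩
    have e1 := hconj' (c'⁻¹ * ((T.eta i (T.neg (T.simple i)) : F) * e⁻¹))
    rw [mul_inv_cancel_left₀ hc'] at e1
    have e2 := hconj2 ((T.eta i (T.neg (T.simple i)) : F) * e⁻¹)
    rw [← mul_assoc ((T.eta i (T.neg (T.simple i)) : F)),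
      show (T.eta i (T.neg (T.simple i)) : F) * (T.eta i (T.neg (T.simple i)) : F) = 1 by
        exact_mod_cast congrArg (Int.cast : ℤ → F) (T.eta_sq i _), one_mul, ← e1] at e2
    rw [← e2]; group
  refine ⟨X D (T.simple i) e⁻¹ * (hU D (T.simple i) (-e⁻¹) * (s * s)), ?_,
    X D (T.neg q) z, h.X_mem_borel ((h.half_le_neg_iff hq).2 (not_le.1 hpos))
      (neg_lt (T := T) hq) _, ?_⟩
  · exact mul_mem (h.X_mem_borel (h.simple_spec hi).1 hp _) (Subgroup.mem_sup_right
      (mul_mem (h.hU_mem hp (neg_ne_zero.2 (inv_ne_zero hη))) (h.nS_mul_self hi)))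
  · rw [hconjp, h.X_neg_simple_eq hi e]
    calc X D (T.simple i) e⁻¹ * (hU D (T.simple i) (-e⁻¹) * s) * X D (T.simple i) e⁻¹ * s * n
        = X D (T.simple i) e⁻¹ * (hU D (T.simple i) (-e⁻¹) * s) *
            (X D (T.simple i) e⁻¹ * (s * n)) := by group
      _ = _ := by rw [hz]; group

lemma nS_conj_not_mem {i : ℕ} (hi : i < T.l) :
    nS D F i * X D (T.simple i) 1 * nS D F i ∉ D.borelSubgroup F := by
  intro hmem
  have hp := h.simple_lt hi
  have hb := mul_mem hmem (inv_mem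
    (Subgroup.mem_sup_right (h.nS_mul_self (F := F) hi) : nS D F i * nS D F i ∈ D.borelSubgroup F))
  rw [show nS D F i * X D (T.simple i) 1 * nS D F i * (nS D F i * nS D F i)⁻¹ =
      nS D F i * X D (T.simple i) 1 * (nS D F i)⁻¹ by group, h.nS_conj_X hi hp,
    h.refl_simple hi] at hb
  have hlt : T.neg (T.simple i) < T.half := by
    have := (h.simple_spec hi).1
    have := h.two_mul_half
    unfold Tab.neg; omega
  have h2 : X D (T.neg (T.simple i)) ((T.eta i (T.simple i) : F) * 1) ∈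
      D.borelSubgroup F ⊓ D.negUnipotent F :=
    ⟨hb, h.gen_neg_le (S := {T.neg (T.simple i)}) (fun r hr => hr ▸ hlt)
      (X_mem_gen D (Set.mem_singleton _) _)⟩
  rw [h.borel_inf_negUnipotent, Subgroup.mem_bot, h.X_eq_one_iff (neg_lt (T := T) hp)] at h2
  rcases T.eta_cases i (T.simple i) with e | e <;> simp [e] at h2

lemma nS_inj {i j : ℕ} (hi : i < T.l) (hj : j < T.l)
    (e : (nS D F i)⁻¹ * nS D F j ∈ D.borelSubgroup F) : i = j := by
  have hd : (nS D F i)⁻¹ * nS D F j ∈ D.diagonalSubgroup F := by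
    rw [← h.borel_inf_monomial]
    exact Subgroup.mem_inf.2
      ⟨e, mul_mem (inv_mem (h.nS_mem_monomial hi)) (h.nS_mem_monomial hj)⟩
  have hp := h.simple_lt hi
  have h1 := Maps_mul (h.Maps_diagonal hd hp) (h.Maps_nS hi hp)
  rw [mul_inv_cancel_left] at h1
  have h2 := h.Maps_unique (h.refl_lt hi hp) (h.refl_lt hj hp) h1 (h.Maps_nS hj hp)
  by_contra hne
  have hne' : T.simple i ≠ T.simple j := fun e' => by
    have a := (h.simple_spec hi).2.2.2 j hj
    rw [e', (h.simple_spec hj).2.2.2 j hj, if_pos rfl, if_neg hne] at a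
    exact one_ne_zero a
  have h3 := (h.refl_spec hj hp).2.2.2.1 (h.simple_spec hi).1 hne'
  rw [← h2, h.refl_simple hi] at h3
  have := (h.half_le_neg_iff hp).1 h3
  have := (h.simple_spec hi).1
  omega

/-- The (B, N)-pair. -/
theorem exists_bnPair :
    ∃ P : Cfsg.BNPair ↥(D.group F),
      P.B = (D.borelSubgroup F).subgroupOf (D.group F) ∧
      P.N = (D.monomialSubgroup F).subgroupOf (D.group F) ∧
      P.S = {n : ↥(D.group F) | ∃ i < T.l, (n : GL D.Idx F) = nS D F i} := by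
  refine ⟨{
    B := (D.borelSubgroup F).subgroupOf (D.group F)
    N := (D.monomialSubgroup F).subgroupOf (D.group F)
    S := {n : ↥(D.group F) | ∃ i < T.l, (n : GL D.Idx F) = nS D F i}
    sup_eq_top := ?_
    conj_mem := ?_
    subset := ?_
    sq_mem := ?_
    inj := ?_
    closure_sup := ?_
    mul_mem_union := ?_
    conj_ne := ?_ }, rfl, rfl, rfl⟩
  · rw [← Subgroup.subgroupOf_sup h.borel_le_group h.monomial_le_group, h.borel_sup_monomial,
      Subgroup.subgroupOf_self]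
  · intro n hn t ht
    obtain ⟨ht1, ht2⟩ := Subgroup.mem_inf.1 ht
    rw [Subgroup.mem_subgroupOf] at hn ht1 ht2 ⊢
    have hd : (t : GL D.Idx F) ∈ D.diagonalSubgroup F := by
      rw [← h.borel_inf_monomial]; exact ⟨ht1, ht2⟩
    exact Subgroup.mem_sup_right
      ((Subgroup.mem_normalizer_iff.1 (h.monomial_le_normalizer_diagonal hn) _).1 hd)
  · rintro n ⟨i, hi, e⟩
    show (n : GL D.Idx F) ∈ D.monomialSubgroup F
    rw [e]; exact h.nS_mem_monomial hi
  · rintro n ⟨i, hi, e⟩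
    show (n : GL D.Idx F) * n ∈ D.borelSubgroup F
    rw [e]; exact Subgroup.mem_sup_right (h.nS_mul_self hi)
  · rintro s ⟨i, hi, e⟩ s' ⟨j, hj, e'⟩ hb
    have hb' : (s : GL D.Idx F)⁻¹ * s' ∈ D.borelSubgroup F := hb
    rw [e, e'] at hb'
    exact Subtype.ext (by rw [e, e', h.nS_inj hi hj hb'])
  · refine le_antisymm (sup_le ((Subgroup.closure_le _).2 ?_) inf_le_right) fun n hn => ?_
    · rintro n ⟨i, hi, e⟩
      show (n : GL D.Idx F) ∈ D.monomialSubgroup F
      rw [e]; exact h.nS_mem_monomial hi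
    · obtain ⟨w, hw, t, ht, e⟩ := h.exists_word_of_monomial (g := (n : GL D.Idx F)) hn
      have key : ∀ w, WordOK T w → ∃ m ∈ Subgroup.closure
          {n : ↥(D.group F) | ∃ i < T.l, (n : GL D.Idx F) = nS D F i},
          (m : GL D.Idx F) = nW D F w := by
        intro w
        induction w with
        | nil => exact fun _ => ⟨1, one_mem _, by simp [nW]⟩
        | cons j w ih =>
          intro hw
          obtain ⟨m, hm, em⟩ := ih hw.tail
          have hmem : nS D F j ∈ D.group F := h.monomial_le_group (h.nS_mem_monomial hw.head)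
          exact ⟨⟨nS D F j, hmem⟩ * m, mul_mem (Subgroup.subset_closure ⟨j, hw.head, rfl⟩) hm, by
            rw [Subgroup.coe_mul, em, nW_cons]⟩
      obtain ⟨m, hm, em⟩ := key w hw
      rw [show n = m * ⟨t, h.diagonal_le_group ht⟩ from
        Subtype.ext (by rw [Subgroup.coe_mul, em]; exact e)]
      exact mul_mem (Subgroup.mem_sup_left hm)
        (Subgroup.mem_sup_right ⟨Subgroup.mem_sup_right ht, diagonal_le_monomial ht⟩)
  · rintro s ⟨i, hi, e⟩ n hn b hb
    have := h.nS_mul_borel_mul (n := (n : GL D.Idx F)) (b := (b : GL D.Idx F)) hi hn hb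
    rw [← e] at this
    rcases this with ⟨c, hc, c', hc', ec⟩ | ⟨c, hc, c', hc', ec⟩
    · left
      rw [DoubleCoset.mem_doubleCoset]
      exact ⟨⟨c, h.borel_le_group hc⟩, hc, ⟨c', h.borel_le_group hc'⟩, hc', Subtype.ext ec⟩
    · right
      rw [DoubleCoset.mem_doubleCoset]
      exact ⟨⟨c, h.borel_le_group hc⟩, hc, ⟨c', h.borel_le_group hc'⟩, hc', Subtype.ext ec⟩
  · rintro s ⟨i, hi, e⟩ heq
    have hb := h.X_mem_borel (h.simple_spec hi).1 (h.simple_lt hi) (1 : F)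
    have hmem : s * (⟨_, h.borel_le_group hb⟩ : ↥(D.group F)) * s ∈
        ((D.borelSubgroup F).subgroupOf (D.group F) : Set ↥(D.group F)) := by
      rw [← heq]
      exact ⟨⟨_, h.borel_le_group hb⟩, hb, rfl⟩
    have hmem' : (s : GL D.Idx F) * X D (T.simple i) 1 * (s : GL D.Idx F) ∈ D.borelSubgroup F :=
      hmem
    rw [e] at hmem'
    exact h.nS_conj_not_mem hi hmem'

end Cert

end CfsgLib.Chev
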