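import Cfsg.Agent.Lib.Chev.Bruhat
import Cfsg.Agent.Lib.Chev.BN

/-!
Parabolic subgroups: generators, Levi decomposition, normalizers of the radicals.
-/

set_option autoImplicit false

namespace CfsgLib.Chev

open Cfsg.Lie Matrix

/-- The positive roots outside `Φ_J`. -/
def radSet (D : ChevalleyDatum) (T : Tab) (J : Set ℕ) : Set ℕ :=
  {r | r ∈ posSet T ∧ ¬ D.InRootSub J r}

/-- All positive roots and the roots of `Φ_J`. -/
def parSet (D : ChevalleyDatum) (T : Tab) (J : Set ℕ) : Set ℕ :=
  {r | r ∈ posSet T ∨ D.InRootSub J r}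

namespace Cert

variable {D : ChevalleyDatum} {T : Tab} {C : Tab.Cover} (h : Cert D T C)
include h

lemma inRootSub_lt {J : Set ℕ} {r : ℕ} (hr : D.InRootSub J r) : r < T.n :=
  (h.inRootSub_iff.1 hr).1

lemma parSet_lt {J : Set ℕ} {r : ℕ} (hr : r ∈ parSet D T J) : r < T.n :=
  hr.elim (fun hr => hr.2) h.inRootSub_lt

lemma mem_radSet_iff {J : Set ℕ} {r : ℕ} :
    r ∈ radSet D T J ↔ r < T.n ∧ ∃ k < T.l, k ∉ J ∧ 0 < h.wt k r := by
  constructor
  · rintro ⟨⟨hh, hr⟩, hn⟩
    rw [h.inRootSub_iff] at hn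
    simp only [hr, true_and, not_forall] at hn
    obtain ⟨k, hk, hkJ, hne⟩ := hn
    exact ⟨hr, k, hk, hkJ, lt_of_le_of_ne (h.wt_nonneg hk hr hh) (Ne.symm hne)⟩
  · rintro ⟨hr, k, hk, hkJ, hpos⟩
    exact ⟨⟨h.pos_of_wt_pos hk hr hpos, hr⟩,
      fun hin => absurd ((h.inRootSub_iff.1 hin).2 k hk hkJ) hpos.ne'⟩

lemma inRootSub_neg {J : Set ℕ} {r : ℕ} (hr : D.InRootSub J r) : D.InRootSub J (T.neg r) := by
  obtain ⟨h1, h2⟩ := h.inRootSub_iff.1 hr
  exact h.inRootSub_iff.2 ⟨neg_lt (T := T) h1, fun i hi hiJ => by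
    rw [h.wt_neg h1, h2 i hi hiJ, neg_zero]⟩

lemma inRootSub_simple {J : Set ℕ} {j : ℕ} (hj : j < T.l) (hjJ : j ∈ J) :
    D.InRootSub J (T.simple j) :=
  h.inRootSub_iff.2 ⟨h.simple_lt hj, fun _ hi hiJ =>
    h.wt_simple_of_ne hj hi fun e => hiJ (e ▸ hjJ)⟩

lemma refl_radSet {J : Set ℕ} {j : ℕ} (hj : j < T.l) (hjJ : j ∈ J) {r : ℕ}
    (hr : r ∈ radSet D T J) : T.refl j r ∈ radSet D T J := by
  obtain ⟨hr', k, hk, hkJ, hpos⟩ := h.mem_radSet_iff.1 hr
  refine h.mem_radSet_iff.2 ⟨h.refl_lt hj hr', k, hk, hkJ, ?_⟩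
  rwa [h.wt_refl hj hr', h.wt_simple_of_ne hj hk (fun e => hkJ (by rwa [← e])), mul_zero, sub_zero]

lemma commTerms_radSet {J : Set ℕ} {r s : ℕ} (hr : r ∈ parSet D T J) (hs : s ∈ radSet D T J)
    {q : ℕ × ℤ × ℕ × ℕ} (hq : q ∈ T.commTerms r s) : q.1 ∈ radSet D T J := by
  obtain ⟨hs', k, hk, hkJ, hpos⟩ := h.mem_radSet_iff.1 hs
  have hr' := h.parSet_lt hr
  obtain ⟨a, b, -, hb, he⟩ := h.commTerms_wt hr' hs' hq
  refine h.mem_radSet_iff.2 ⟨h.commTerms_lt hr' hs' hq, k, hk, hkJ, ?_⟩
  rw [he k]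
  have h1 : 0 ≤ h.wt k r := by
    rcases hr with hr | hr
    · exact h.wt_nonneg hk hr.2 hr.1
    · rw [(h.inRootSub_iff.1 hr).2 k hk hkJ]
  have h2 : (0 : ℤ) ≤ a * h.wt k r := mul_nonneg (Int.natCast_nonneg a) h1
  have h3 : (0 : ℤ) < b * h.wt k s := mul_pos (by exact_mod_cast hb) hpos
  omega

lemma commClosed_radSet (J : Set ℕ) : CommClosed T (radSet D T J) :=
  fun _ hr _ hs _ _ hq => h.commTerms_radSet (Or.inl hr.1) hs hq

variable {F : Type*} [Field F]

lemma unipotentRadical_eq (J : Set ℕ) : D.unipotentRadical F J = gen D F (radSet D T J) := by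
  unfold ChevalleyDatum.unipotentRadical gen
  congr 1
  ext g
  constructor
  · rintro ⟨r, t, hp, hn, e⟩
    exact ⟨r, ⟨h.isPosRoot_iff.1 hp, hn⟩, t, h.coe_eq_iff.1 e⟩
  · rintro ⟨r, ⟨hp, hn⟩, t, rfl⟩
    exact ⟨r, t, h.isPosRoot_iff.2 hp, hn, h.coe_X r t⟩

lemma leviSubgroup_eq (J : Set ℕ) :
    D.leviSubgroup F J = D.diagonalSubgroup F ⊔ gen D F {r | D.InRootSub J r} := by
  unfold ChevalleyDatum.leviSubgroup gen
  congr 2
  ext g
  constructor
  · rintro ⟨r, t, hr, e⟩; exact ⟨r, hr, t, h.coe_eq_iff.1 e⟩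
  · rintro ⟨r, hr, t, rfl⟩; exact ⟨r, t, hr, h.coe_X r t⟩

lemma nS_mem_parabolic {J : Set ℕ} {j : ℕ} (hj : j < T.l) (hjJ : j ∈ J) :
    nS D F j ∈ D.parabolicSubgroup F J :=
  Subgroup.mem_sup_right (Subgroup.subset_closure
    ⟨j, hjJ, lt_of_lt_of_eq hj h.rank_eq.symm, h.coe_nS j⟩)

/-- Negative root elements of `Φ_J` are in `P_J`. -/
lemma X_neg_mem_parabolic {J : Set ℕ} : ∀ (r : ℕ), T.half ≤ r → r < T.n → D.InRootSub J r →
    ∀ t : F, X D (T.neg r) t ∈ D.parabolicSubgroup F J := by
  intro r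
  induction r using Nat.strong_induction_on with
  | _ r ih =>
    intro hh hr hin t
    obtain ⟨-, hwt⟩ := h.inRootSub_iff.1 hin
    rcases h.exists_lower hh hr with ⟨i, hi, rfl⟩ | ⟨i, hi, hlo, hlt, hcar⟩
    · have hiJ : i ∈ J := by
        by_contra hiJ
        have h1 := h.wt_simple hi hi
        rw [if_pos rfl, hwt i hi hiJ] at h1
        exact lt_irrefl 0 h1
      have hB : ∀ z : F, X D (T.simple i) z ∈ D.parabolicSubgroup F J := fun z =>
        Subgroup.mem_sup_left (Subgroup.mem_sup_left (h.X_simple_mem_posUnipotent hi z))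
      have key := h.nS_conj_X (F := F) hi hr ((T.eta i (T.simple i) : F)⁻¹ * t)
      have hη : (T.eta i (T.simple i) : F) ≠ 0 := by
        rcases T.eta_cases i (T.simple i) with e | e <;> simp [e]
      rw [h.refl_simple hi, mul_inv_cancel_left₀ hη] at key
      rw [← key]
      exact mul_mem (mul_mem (h.nS_mem_parabolic hi hiJ) (hB _))
        (inv_mem (h.nS_mem_parabolic hi hiJ))
    · have hiJ : i ∈ J := by
        by_contra hiJ
        have h1 := h.wt_refl hi hr i
        have h2 := h.wt_nonneg hi (h.refl_lt hi hr) hlo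
        have h3 := h.wt_simple hi hi
        rw [if_pos rfl] at h3
        rw [hwt i hi hiJ] at h1
        have := mul_pos hcar h3
        omega
      have hin' : D.InRootSub J (T.refl i r) :=
        h.inRootSub_iff.2 ⟨h.refl_lt hi hr, fun k hk hkJ => by
          rw [h.wt_refl hi hr, h.wt_simple_of_ne hi hk (fun e => hkJ (by rwa [← e])), mul_zero,
            sub_zero, hwt k hk hkJ]⟩
      obtain ⟨-, hrr, hneg, -⟩ := h.refl_spec hi (h.refl_lt hi hr)
      have hη : (T.eta i (T.neg (T.refl i r)) : F) ≠ 0 := by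
        rcases T.eta_cases i (T.neg (T.refl i r)) with e | e <;> simp [e]
      have key := h.nS_conj_X (F := F) hi (neg_lt (T := T) (h.refl_lt hi hr))
        ((T.eta i (T.neg (T.refl i r)) : F)⁻¹ * t)
      rw [mul_inv_cancel_left₀ hη, hneg, h.refl_refl hi hr] at key
      rw [← key]
      exact mul_mem (mul_mem (h.nS_mem_parabolic hi hiJ)
        (ih _ hlt hlo (h.refl_lt hi hr) hin' _)) (inv_mem (h.nS_mem_parabolic hi hiJ))

theorem parabolic_eq (J : Set ℕ) :
    D.parabolicSubgroup F J = D.diagonalSubgroup F ⊔ gen D F (parSet D T J) := by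
  have htwo := h.two_mul_half
  refine le_antisymm (sup_le (sup_le ?_ le_sup_left) ?_) (sup_le ?_ ?_)
  · rw [h.posUnipotent_eq]
    exact le_sup_of_le_right (gen_mono D fun r hr => Or.inl hr)
  · rw [Subgroup.closure_le]
    rintro g ⟨j, hjJ, hj, e⟩
    rw [h.rank_eq] at hj
    obtain rfl : g = nS D F j := Units.ext (e.trans (h.coe_nS j).symm)
    refine Subgroup.mem_sup_right ?_
    rw [nS, h.simple_eq hj, nU, h.neg_eq (h.simple_lt hj)]
    have hs : T.simple j ∈ parSet D T J := Or.inr (h.inRootSub_simple hj hjJ)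
    exact mul_mem (mul_mem (X_mem_gen D hs _) (X_mem_gen D
      (show T.neg (T.simple j) ∈ parSet D T J from
        Or.inr (h.inRootSub_neg (h.inRootSub_simple hj hjJ))) _)) (X_mem_gen D hs _)
  · exact le_sup_right.trans le_sup_left
  · rw [gen, Subgroup.closure_le]
    rintro _ ⟨r, hr, t, rfl⟩
    rcases Nat.lt_or_ge r T.half with hlt | hge
    · rcases hr with hr | hr
      · exact absurd hr.1 (not_le.2 hlt)
      have hr' := h.inRootSub_lt hr
      have := h.X_neg_mem_parabolic (T.neg r) ((h.half_le_neg_iff hr').2 hlt)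
        (neg_lt (T := T) hr') (h.inRootSub_neg hr) t
      rwa [neg_neg (T := T) hr'] at this
    · exact Subgroup.mem_sup_left (h.X_mem_borel hge (h.parSet_lt hr) t)

theorem parabolic_eq_closure (J : Set ℕ) :
    D.parabolicSubgroup F J = D.diagonalSubgroup F ⊔
      Subgroup.closure {g : GL D.Idx F | ∃ (r : ℕ) (t : F), (D.IsPosRoot r ∨ D.InRootSub J r) ∧
        (g : Matrix D.Idx D.Idx F) = D.x F r t} := by
  rw [h.parabolic_eq, gen]
  congr 2
  ext g
  constructor
  · rintro ⟨r, hr, t, rfl⟩; exact ⟨r, t, hr.imp h.isPosRoot_iff.2 id, h.coe_X r t⟩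
  · rintro ⟨r, t, hr, e⟩; exact ⟨r, hr.imp h.isPosRoot_iff.1 id, t, h.coe_eq_iff.1 e⟩

theorem parabolic_le_normalizer (J : Set ℕ) :
    D.parabolicSubgroup F J ≤ Subgroup.normalizer (D.unipotentRadical F J : Set (GL D.Idx F)) := by
  rw [h.parabolic_eq, h.unipotentRadical_eq]
  refine sup_le (h.diagonal_le_normalizer_gen fun r hr => hr.1.2) ?_
  rw [gen, Subgroup.closure_le]
  rintro _ ⟨r, hr, b, rfl⟩
  have hr' := h.parSet_lt hr
  -- one root group at a time
  suffices gen D F {r} ≤ Subgroup.normalizer (gen D F (radSet D T J) : Set (GL D.Idx F)) from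
    this (X_mem_gen D (Set.mem_singleton r) b)
  refine le_normalizer_closure fun g hg a ha => ?_
  obtain ⟨z, rfl⟩ := (h.gen_singleton hr').1 hg
  obtain ⟨s, hs, u, rfl⟩ := ha
  by_cases e : s = r
  · subst e
    rw [h.X_inv hr', h.X_add hr', h.X_add hr']
    exact X_mem_gen D hs _
  · refine h.X_conj_mem (S := radSet D T J) hr' hs.1.2 e (fun e' => ?_) hs
      (fun q hq => h.commTerms_radSet hr hs hq) z u
    rcases hr with hr | hr
    · have h1 := (h.half_le_neg_iff hr.2).1 (e' ▸ hs.1.1)
      have := hr.1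
      omega
    · exact hs.2 (e' ▸ h.inRootSub_neg hr)

open Classical in
/-- Total weight outside `J`. -/
noncomputable def wtOut (J : Set ℕ) (r : ℕ) : ℤ :=
  ∑ i ∈ (Finset.range T.l).filter (· ∉ J), h.wt i r

/-- The coordinates graded by the weight outside `J`. -/
noncomputable def gradeOut (J : Set ℕ) : D.Idx → ℤ
  | Sum.inl _ => 0
  | Sum.inr v => h.wtOut J v.val

lemma x_grade {J : Set ℕ} {r : ℕ} (hr : r < T.n) (t : F) {a b : D.Idx} (hab : a ≠ b)
    (he : D.x F r t a b ≠ 0) :
    ∃ k : ℕ, h.gradeOut J a = h.gradeOut J b + (k + 1) * h.wtOut J r := by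
  have hn := h.nroots_eq
  have hneg : ∀ r < T.n, h.wtOut J (T.neg r) = -h.wtOut J r := fun r hr => by
    simp only [wtOut, h.wt_neg hr, Finset.sum_neg_distrib]
  rcases a with j | v <;> rcases b with k | s
  · rw [h.x_inl_inl hr] at he
    exact absurd (if_neg fun e => hab (congrArg Sum.inl e)) he
  · rw [h.x_inl_inr hr] at he
    split_ifs at he with e
    · exact ⟨0, by simp [gradeOut, e, hneg r hr]⟩
    · exact absurd rfl he
  · rw [h.x_inr_inl hr] at he
    split_ifs at he with e
    · exact ⟨0, by simp [gradeOut, e]⟩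
    · exact absurd rfl he
  · have hv : v.val ≠ s.val := fun e => hab (congrArg Sum.inr (Fin.ext e))
    by_cases e1 : s.val = r
    · rw [h.x_inr_inr_self hr _ _ e1, if_neg (by omega)] at he
      exact absurd rfl he
    by_cases e2 : s.val = T.neg r
    · rw [h.x_inr_inr_neg hr _ _ e2, if_neg (by omega)] at he
      split_ifs at he with e3
      · refine ⟨1, ?_⟩
        simp only [gradeOut, e3, e2, hneg r hr]
        push_cast; ring
      · exact absurd rfl he
    rw [h.x_inr_inr hr _ _ e1 e2, if_neg hv, zero_add] at he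
    obtain ⟨q, hq, hq'⟩ : ∃ q ∈ (T.entry r s).zipIdx 1, q.1.1 = v.val := by
      by_contra hne
      push Not at hne
      refine he (List.sum_eq_zero fun z hz => ?_)
      obtain ⟨q, hq, rfl⟩ := List.mem_map.1 hz
      exact if_neg (hne q hq)
    refine ⟨q.2 - 1, ?_⟩
    obtain ⟨⟨q1, q2⟩, i⟩ := q
    have hi : 1 ≤ i := (List.mk_mem_zipIdx_iff_le_and_getElem?_sub.1 hq).1
    simp only [gradeOut, wtOut, Finset.mul_sum, ← Finset.sum_add_distrib]
    simp only at hq' ⊢
    rw [← hq']
    refine Finset.sum_congr rfl fun j _ => ?_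
    rw [h.wt_lin hr (by omega) hq j]
    simp only
    rw [show (((i - 1 : ℕ) : ℤ) + 1) = (i : ℤ) by omega]

lemma wtOut_pos {J : Set ℕ} {r : ℕ} (hr : r ∈ radSet D T J) : 0 < h.wtOut J r := by
  obtain ⟨hr', k, hk, hkJ, hpos⟩ := h.mem_radSet_iff.1 hr
  classical
  refine Finset.sum_pos' (fun i hi => ?_) ⟨k, by simp [hk, hkJ], hpos⟩
  exact h.wt_nonneg (Finset.mem_range.1 (Finset.mem_filter.1 hi).1) hr' hr.1.1

lemma wtOut_zero {J : Set ℕ} {r : ℕ} (hr : D.InRootSub J r) : h.wtOut J r = 0 := by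
  classical
  refine Finset.sum_eq_zero fun i hi => ?_
  obtain ⟨h1, h2⟩ := Finset.mem_filter.1 hi
  exact (h.inRootSub_iff.1 hr).2 i (Finset.mem_range.1 h1) h2

theorem radical_inf_levi (J : Set ℕ) :
    D.unipotentRadical F J ⊓ D.leviSubgroup F J = ⊥ := by
  classical
  rw [h.unipotentRadical_eq, h.leviSubgroup_eq, Subgroup.eq_bot_iff_forall]
  intro g hg
  obtain ⟨hgU, hgL⟩ := Subgroup.mem_inf.1 hg
  -- grading as natural numbers, in both directions
  set M := Finset.univ.sup fun a : D.Idx => (h.gradeOut J a).natAbs with hM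
  have hMle : ∀ a, (h.gradeOut J a).natAbs ≤ M := fun a => Finset.le_sup (f := fun a : D.Idx => (h.gradeOut J a).natAbs) (Finset.mem_univ a)
  set p : D.Idx → ℕ := fun a => (h.gradeOut J a + M).toNat with hp
  set q : D.Idx → ℕ := fun a => ((M : ℤ) - h.gradeOut J a).toNat with hq
  have hU : g ∈ lowGroup F p 1 := by
    refine (Subgroup.closure_le _).2 ?_ hgU
    rintro _ ⟨r, hr, t, rfl⟩
    have key : ∀ z : F, Low p 1 (D.x F r z - 1) := by
      intro z a b hab
      by_cases e : a = b
      · subst e; rw [Matrix.sub_apply, h.x_diag hr.1.2, Matrix.one_apply_eq, sub_self]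
      · rw [Matrix.sub_apply, Matrix.one_apply_ne e, sub_zero]
        by_contra he
        obtain ⟨k, hk⟩ := h.x_grade (J := J) hr.1.2 z e he
        have h1 := mul_pos (show (0 : ℤ) < k + 1 by omega) (h.wtOut_pos hr)
        have := hMle a
        have := hMle b
        simp only [hp] at hab
        omega
    exact ⟨by rw [h.coe_X]; exact key t, by rw [h.X_inv hr.1.2, h.coe_X]; exact key _⟩
  have hLp : ∀ p' : D.Idx → ℕ, (∀ a b, h.gradeOut J a = h.gradeOut J b → p' a = p' b) →
      g ∈ lowGroup F p' 0 := by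
    intro p' hp'
    refine (sup_le (fun x hx => ?_) ((Subgroup.closure_le _).2 ?_) :
      D.diagonalSubgroup F ⊔ gen D F {r | D.InRootSub J r} ≤ lowGroup F p' 0) hgL
    · exact ⟨(h.diagonal_low hx p').sub Low.one_mat,
        (h.diagonal_low (inv_mem hx) p').sub Low.one_mat⟩
    · rintro _ ⟨r, hr, t, rfl⟩
      have hr' := h.inRootSub_lt hr
      have key : ∀ z : F, Low p' 0 (D.x F r z - 1) := by
        intro z a b hab
        by_cases e : a = b
        · subst e; rw [Matrix.sub_apply, h.x_diag hr', Matrix.one_apply_eq, sub_self]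
        · rw [Matrix.sub_apply, Matrix.one_apply_ne e, sub_zero]
          by_contra he
          obtain ⟨k, hk⟩ := h.x_grade (J := J) hr' z e he
          rw [h.wtOut_zero hr, mul_zero, add_zero] at hk
          have := hp' a b hk
          omega
      exact ⟨by rw [h.coe_X]; exact key t, by rw [h.X_inv hr', h.coe_X]; exact key _⟩
  have hq0 := (hLp q fun a b e => by simp [hq, e]).1
  rw [← Units.val_eq_one, ← sub_eq_zero]
  ext a b
  by_cases hab : p a < p b + 1
  · exact hU.1 a b hab
  · refine hq0 a b ?_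
    have := hMle a
    have := hMle b
    simp only [hp, hq] at hab ⊢
    omega

theorem radical_sup_levi (J : Set ℕ) :
    D.unipotentRadical F J ⊔ D.leviSubgroup F J = D.parabolicSubgroup F J := by
  rw [h.parabolic_eq, h.unipotentRadical_eq, h.leviSubgroup_eq]
  refine le_antisymm (sup_le ?_ (sup_le le_sup_left ?_)) (sup_le (le_sup_of_le_right le_sup_left) ?_)
  · exact le_sup_of_le_right (gen_mono D fun r hr => Or.inl hr.1)
  · exact le_sup_of_le_right (gen_mono D fun r hr => Or.inr hr)
  · rw [gen, Subgroup.closure_le]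
    rintro _ ⟨r, hr, t, rfl⟩
    by_cases hin : D.InRootSub J r
    · exact Subgroup.mem_sup_right (Subgroup.mem_sup_right (X_mem_gen D hin t))
    · refine Subgroup.mem_sup_left (X_mem_gen D ?_ t)
      exact ⟨hr.resolve_right hin, hin⟩

lemma root_mem_of_X_mem {J : Set ℕ} {s : ℕ} (hs : s < T.n) {z : F} (hz : z ≠ 0)
    (hm : X D s z ∈ gen D F (radSet D T J)) : s ∈ radSet D T J := by
  classical
  have hsub : gen D F (radSet D T J) ≤ D.posUnipotent F := h.gen_pos_le fun r hr => hr.1
  have hs' : T.half ≤ s := by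
    by_contra hlt
    have h1 : X D s z ∈ D.borelSubgroup F ⊓ D.negUnipotent F := by
      refine ⟨Subgroup.mem_sup_left (hsub hm), ?_⟩
      rw [h.negUnipotent_eq]
      exact X_mem_gen D (show s ∈ {q : ℕ | q < T.half} from not_le.1 hlt) z
    rw [h.borel_inf_negUnipotent, Subgroup.mem_bot, h.X_eq_one_iff hs] at h1
    exact hz h1
  set L := (posList T).filter fun r => decide (r ∈ radSet D T J) with hL
  have hLset : {r | r ∈ L} = radSet D T J := by
    ext r
    simp only [hL, List.mem_filter, mem_posList, decide_eq_true_eq, Set.mem_setOf_eq]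
    exact ⟨fun h => h.2, fun h => ⟨h.1, h⟩⟩
  have hLs : L.SortedLT := (List.SortedLT.pairwise sortedLT_posList).filter _ |>.sortedLT
  rw [← hLset] at hm
  obtain ⟨c, hc⟩ := h.exists_prodX L hLs (fun r hr => mem_posList.1 (List.mem_filter.1 hr).1)
    (by rw [hLset]; exact h.commClosed_radSet J) _ hm
  by_contra hns
  -- compare the coordinates at `s`
  have key : ∀ (M : List ℕ) (c : ℕ → F), (∀ r ∈ M, r < T.n) →
      prodX D (M.filter fun r => decide (r ∈ radSet D T J)) c =
        prodX D M (fun r => if r ∈ radSet D T J then c r else 0) := by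
    intro M c
    induction M with
    | nil => intro _; rfl
    | cons r M ih =>
      intro hM
      have ih' := ih fun q hq => hM q (List.mem_cons_of_mem _ hq)
      unfold prodX at ih' ⊢
      by_cases hr : r ∈ radSet D T J
      · rw [List.filter_cons_of_pos (by simp [hr]), List.map_cons, List.map_cons, List.prod_cons,
          List.prod_cons, ih']
        simp only [if_pos hr]
      · rw [List.filter_cons_of_neg (by simp [hr]), List.map_cons, List.prod_cons, ih']
        simp only [if_neg hr, h.X_zero (hM r List.mem_cons_self), one_mul]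
  rw [hL, key (posList T) c fun r hr => (mem_posList.1 hr).2] at hc
  have hone : X D s z = prodX D (posList T) fun r => if r = s then z else 0 := by
    have : ∀ M : List ℕ, M.Nodup → (∀ r ∈ M, r < T.n) →
        prodX D M (fun r => if r = s then z else 0) = if s ∈ M then X D s z else 1 := by
      intro M
      induction M with
      | nil => intros; simp [prodX]
      | cons r M ih =>
        intro hnd hM
        rw [List.nodup_cons] at hnd
        have ih' := ih hnd.2 fun q hq => hM q (List.mem_cons_of_mem _ hq)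
        unfold prodX at ih' ⊢
        rw [List.map_cons, List.prod_cons, ih']
        by_cases e : r = s
        · subst e; simp [hnd.1]
        · simp only [if_neg e, h.X_zero (hM r List.mem_cons_self), one_mul]
          simp [Ne.symm e]
    rw [this _ sortedLT_posList.nodup fun r hr => (mem_posList.1 hr).2,
      if_pos (mem_posList.2 ⟨hs', hs⟩)]
  have := h.prodX_inj (posList T) sortedLT_posList (fun r hr => mem_posList.1 hr) _ _
    (hone.symm.trans hc) s (mem_posList.2 ⟨hs', hs⟩)
  simp [hns, hz] at this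

theorem normalizer_radical (J : Set ℕ) :
    Subgroup.normalizer (D.unipotentRadical F J : Set (GL D.Idx F)) ⊓ D.group F =
      D.parabolicSubgroup F J := by
  have hP := h.parabolic_le_normalizer (F := F) J
  refine le_antisymm (fun g hg => ?_) (le_inf hP ?_)
  · obtain ⟨hgN, hgG⟩ := Subgroup.mem_inf.1 hg
    obtain ⟨b, hb, n, hn, u, hu, rfl⟩ := h.bruhat_exists hgG
    obtain ⟨w, hw, t, ht, rfl⟩ := h.exists_word_of_monomial hn
    have hu' : u ∈ D.parabolicSubgroup F J := by
      rw [h.cellUnipotent_eq (π := rword T w) fun r hr =>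
        ⟨h.rword_lt hw hr, Maps_mul (h.Maps_diagonal ht hr) (h.Maps_nW hw hr)⟩] at hu
      refine Subgroup.mem_sup_left (Subgroup.mem_sup_left ?_)
      rw [h.posUnipotent_eq]; exact gen_mono D Set.sdiff_subset hu
    have hb' : b ∈ D.parabolicSubgroup F J := Subgroup.mem_sup_left hb
    have ht' : t ∈ D.parabolicSubgroup F J := Subgroup.mem_sup_left (Subgroup.mem_sup_right ht)
    refine mul_mem (mul_mem hb' (mul_mem ?_ ht')) hu'
    have hwN : nW D F w ∈ Subgroup.normalizer (D.unipotentRadical F J : Set (GL D.Idx F)) := by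
      have h1 := mul_mem (mul_mem (inv_mem (hP hb')) hgN) (inv_mem (mul_mem (hP ht') (hP hu')))
      rwa [show b⁻¹ * (b * (nW D F w * t) * u) * (t * u)⁻¹ = nW D F w by group] at h1
    have hfix : ∀ r ∈ radSet D T J, rword T w r ∈ radSet D T J := by
      intro r hr
      obtain ⟨c, hc, e⟩ := h.Maps_nW (F := F) hw hr.1.2
      refine h.root_mem_of_X_mem (h.rword_lt hw hr.1.2) (mul_ne_zero hc one_ne_zero) ?_
      rw [← e 1, ← h.unipotentRadical_eq]
      refine (Subgroup.mem_normalizer_iff.1 hwN _).1 ?_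
      rw [h.unipotentRadical_eq]
      exact X_mem_gen D hr 1
    -- peel reflections
    clear hwN hgN hg hgG hu hn
    revert hw hfix
    induction hlen : w.length using Nat.strong_induction_on generalizing w with
    | _ k ih =>
      intro hw hfix
      by_cases hpos : ∀ i < T.l, T.half ≤ rword T w (T.simple i)
      · exact Subgroup.mem_sup_left (Subgroup.mem_sup_right (h.nW_mem_diagonal hw hpos))
      · simp only [not_forall, not_le] at hpos
        obtain ⟨i, hi, hneg⟩ := hpos
        have hiJ : i ∈ J := by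
          by_contra hiJ
          have hin : T.simple i ∈ radSet D T J := by
            refine h.mem_radSet_iff.2 ⟨h.simple_lt hi, i, hi, hiJ, ?_⟩
            have h1 := h.wt_simple hi hi
            rwa [if_pos rfl] at h1
          exact absurd (hfix _ hin).1.1 (not_le.2 hneg)
        obtain ⟨w', hw', hlen', t₂, ht₂, e⟩ := h.exchange_word (F := F) hw hi hneg
        have hfix' : ∀ r ∈ radSet D T J, rword T w' r ∈ radSet D T J := by
          intro r hr
          have hr2 := h.refl_radSet hi hiJ hr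
          have h1 : Maps D (nW D F w) (T.refl i r) (rword T w' r) := by
            rw [e]
            refine Maps_mul (h.Maps_diagonal ht₂ hr2.1.2) (Maps_mul ?_ (h.Maps_nW hw' hr.1.2))
            have h2 := h.Maps_nS (F := F) hi hr2.1.2
            rwa [h.refl_refl hi hr.1.2] at h2
          rw [h.Maps_unique (h.rword_lt hw' hr.1.2) (h.rword_lt hw hr2.1.2) h1
            (h.Maps_nW hw hr2.1.2)]
          exact hfix _ hr2
        rw [e]
        exact mul_mem (mul_mem (ih w'.length (by omega) w' rfl hw' hfix')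
          (h.nS_mem_parabolic hi hiJ)) (Subgroup.mem_sup_left (Subgroup.mem_sup_right ht₂))
  · refine sup_le h.borel_le_group ?_
    rw [Subgroup.closure_le]
    rintro g ⟨j, -, hj, e⟩
    rw [h.rank_eq] at hj
    obtain rfl : g = nS D F j := Units.ext (e.trans (h.coe_nS j).symm)
    exact h.monomial_le_group (h.nS_mem_monomial hj)

end Cert

end CfsgLib.Chev
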