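import Cfsg.Agent.Lib.Chev.FieldFixed
import Cfsg.Agent.Lib.Chev.Order
import Cfsg.Agent.Lib.Chev.Parabolic
import Mathlib.GroupTheory.Sylow

/-!
In characteristic two, every element inverted by an involutory field automorphism is twisted
conjugate to one.
-/

set_option autoImplicit false

namespace CfsgLib.Chev

open Cfsg.Lie Matrix

/-- A `p`-subgroup whose normalizer has no larger `p`-part is Sylow. -/
lemma exists_sylow_of_normalizer {G : Type*} [Group G] [Finite G] {p n : ℕ} [hp : Fact p.Prime]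
    (U : Subgroup G) (hU : Nat.card U = p ^ n)
    (hN : ¬ p ^ (n + 1) ∣ Nat.card (Subgroup.normalizer (U : Set G))) :
    ∃ P : Sylow p G, (P : Subgroup G) = U := by
  have hG : ¬ p ^ (n + 1) ∣ Nat.card G := fun h => hN (by
    have e := Sylow.card_normalizer_modEq_card (n := n) hU
    exact Nat.modEq_zero_iff_dvd.1 (e.trans (Nat.modEq_zero_iff_dvd.2 h)))
  have hfac : (Nat.card G).factorization p = n := by
    have h1 : p ^ n ∣ Nat.card G := hU ▸ Subgroup.card_subgroup_dvd_card U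
    have h2 := (hp.out.pow_dvd_iff_le_factorization Nat.card_pos.ne').1 h1
    by_contra hne
    exact hG ((hp.out.pow_dvd_iff_le_factorization Nat.card_pos.ne').2 (by omega))
  exact ⟨Sylow.ofCard U (by rw [hU, hfac]), rfl⟩

namespace Cert

variable {D : ChevalleyDatum} {T : Tab} {C : Tab.Cover} (h : Cert D T C) {F : Type*} [Field F]
include h

lemma fieldAut_eq_map {σ : F ≃+* F} (φ : MulAut ↥(D.group F))
    (hσ : ∀ (g : ↥(D.group F)) (r : ℕ) (t : F), r < D.nroots →
      ((g : GL D.Idx F) : Matrix D.Idx D.Idx F) = D.x F r t →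
        ((φ g : GL D.Idx F) : Matrix D.Idx D.Idx F) = D.x F r (σ t)) (g : ↥(D.group F)) :
    (φ g : GL D.Idx F) = mapGL D σ.toRingHom g := by
  have hgen : D.group F = gen D F {r | r < T.n} := h.group_eq
  obtain ⟨g, hg⟩ := g
  have hg' : g ∈ gen D F {r | r < T.n} := hgen ▸ hg
  induction hg' using Subgroup.closure_induction with
  | mem g hg' =>
    obtain ⟨s, hs, t, rfl⟩ := hg'
    rw [h.X_map]
    refine Units.ext ?_
    rw [hσ _ s t (h.nroots_eq ▸ hs) (h.coe_X s t), h.coe_X]
    rfl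
  | one =>
    rw [show (⟨1, hg⟩ : ↥(D.group F)) = 1 from rfl, map_one]
    exact (map_one _).symm
  | mul a b ha hb iha ihb =>
    have ha' : a ∈ D.group F := hgen.ge ha
    have hb' : b ∈ D.group F := hgen.ge hb
    rw [show (⟨a * b, hg⟩ : ↥(D.group F)) = ⟨a, ha'⟩ * ⟨b, hb'⟩ from rfl, map_mul,
      Subgroup.coe_mul, iha ha', ihb hb', Subgroup.coe_mul, map_mul]
  | inv a ha iha =>
    have ha' : a ∈ D.group F := hgen.ge ha
    rw [show (⟨a⁻¹, hg⟩ : ↥(D.group F)) = ⟨a, ha'⟩⁻¹ from rfl, map_inv, Subgroup.coe_inv,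
      iha ha', Subgroup.coe_inv, map_inv]

lemma normalizer_posUnipotent :
    Subgroup.normalizer (D.posUnipotent F : Set (GL D.Idx F)) ⊓ D.group F = D.borelSubgroup F := by
  have hrad : D.unipotentRadical F ∅ = D.posUnipotent F := by
    rw [h.unipotentRadical_eq, h.posUnipotent_eq]
    congr 1
    ext r
    refine ⟨fun hr => hr.1, fun hr => ⟨hr, fun hin => ?_⟩⟩
    obtain ⟨k, hk, hne⟩ := h.exists_wt_ne hr.2
    exact hne ((h.inRootSub_iff.1 hin).2 k hk (Set.notMem_empty k))
  rw [← hrad, h.normalizer_radical]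
  refine le_antisymm (sup_le le_rfl ((Subgroup.closure_le _).2 ?_)) le_sup_left
  rintro x ⟨j, hj, -⟩
  exact absurd hj (Set.notMem_empty j)

lemma odd_card_diagonal [Fintype F] [CharP F 2] : ¬ 2 ∣ Nat.card (D.diagonalSubgroup F) := by
  intro hd
  have h1 : Nat.card (D.diagonalSubgroup F) ∣ Nat.card (Fin T.l → Fˣ) := by
    rw [← h.range_torusHom]
    exact Subgroup.card_range_dvd _
  have h2 : 2 ∣ Nat.card (Fin T.l → Fˣ) := hd.trans h1
  rw [Nat.card_fun] at h2
  have h3 : 2 ∣ Nat.card Fˣ := Nat.prime_two.dvd_of_dvd_pow h2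
  rw [Nat.card_units, Nat.card_eq_fintype_card] at h3
  obtain ⟨n, -, hcard⟩ := FiniteField.card F 2
  rw [hcard] at h3
  have : 2 ∣ 2 ^ (n : ℕ) := dvd_pow_self 2 n.pos.ne'
  have := n.pos
  have h4 := Nat.one_le_two_pow (n := (n : ℕ))
  omega

variable {σ : F →+* F}

/-- The unipotent part. -/
lemma exists_twist_unipotent [CharP F 2] (hσ2 : ∀ x, σ (σ x) = x) (hσ1 : ∃ x, σ x ≠ x) :
    ∀ (L : List ℕ), L.SortedLT → (∀ r ∈ L, r ∈ posSet T) → CommClosed T {r | r ∈ L} →
      ∀ u ∈ gen D F {r | r ∈ L}, u * mapGL D σ u = 1 →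
        ∃ v ∈ D.posUnipotent F, u = v⁻¹ * mapGL D σ v := by
  intro L
  induction L with
  | nil =>
    intro _ _ _ u hu _
    rw [gen_nil, Subgroup.mem_bot] at hu
    exact ⟨1, one_mem _, by simp [hu]⟩
  | cons r L ih =>
    intro hsort hpos hcl u hu htw
    have hrL : ∀ s ∈ L, r < s := (List.pairwise_cons.1 hsort.pairwise).1
    have hsort' : L.SortedLT := (List.pairwise_cons.1 hsort.pairwise).2.sortedLT
    have hr := hpos r List.mem_cons_self
    have hin : ∀ a ∈ r :: L, ∀ b ∈ L, a ≠ b → ∀ q ∈ T.commTerms a b, q.1 ∈ L := by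
      intro a ha b hb hab q hq
      have hpa := hpos a ha
      have hpb := hpos b (List.mem_cons_of_mem _ hb)
      rcases List.mem_cons.1 (hcl a ha b (List.mem_cons_of_mem _ hb) hab.symm q hq) with e | e
      · exfalso
        have := (h.commTerms_pos hpa.1 hpa.2 hpb.1 hpb.2 hq).1
        have := hrL b hb
        rcases List.mem_cons.1 ha with rfl | ha
        · omega
        · have := hrL a ha; omega
      · exact e
    have hcl' : CommClosed T {s | s ∈ L} := fun a ha b hb hab q hq =>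
      hin a (List.mem_cons_of_mem _ ha) b hb (Ne.symm hab) q hq
    have hconj : ∀ (b : F), ∀ x ∈ gen D F {s | s ∈ L}, X D r b * x * X D r (-b) ∈
        gen D F {s | s ∈ L} := by
      intro b x hx
      have hN : X D r b ∈ Subgroup.normalizer (gen D F {s | s ∈ L} : Set (GL D.Idx F)) := by
        refine le_normalizer_closure (H := gen D F {r}) (fun g hg a ha => ?_)
          (X_mem_gen D (Set.mem_singleton r) b)
        obtain ⟨c, rfl⟩ := (h.gen_singleton hr.2).1 hg
        obtain ⟨s, hs, z, rfl⟩ := ha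
        have hps := hpos s (List.mem_cons_of_mem _ hs)
        exact h.X_conj_mem hr.2 hps.2 (hrL s hs).ne' (posSet_neg_ne h hr hps) hs
          (fun q hq => hin r List.mem_cons_self s hs (hrL s hs).ne q hq) c z
      rw [← h.X_inv hr.2]
      exact (Subgroup.mem_normalizer_iff.1 hN x).1 hx
    have hsplit : ∀ x ∈ gen D F {s | s ∈ r :: L}, ∃ a : F, ∃ x' ∈ gen D F {s | s ∈ L},
        x = X D r a * x' := by
      intro x hx
      obtain ⟨c, rfl⟩ := h.exists_prodX (r :: L) hsort hpos hcl x hx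
      exact ⟨c r, _, prodX_mem_gen L c, by simp [prodX]⟩
    have hzero : ∀ a : F, ∀ x ∈ gen D F {s | s ∈ L}, X D r a * x = 1 → a = 0 := by
      intro a x hx e
      obtain ⟨c, rfl⟩ := h.exists_prodX L hsort' (fun s hs => hpos s (List.mem_cons_of_mem _ hs))
        hcl' x hx
      have hne : r ∉ L := fun hm => lt_irrefl r (hrL r hm)
      have h1 : prodX D (r :: L) (Function.update c r a) = prodX D (r :: L) fun _ => 0 := by
        have e1 : prodX D L (Function.update c r a) = prodX D L c := by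
          refine congrArg List.prod (List.map_congr_left fun s hs => ?_)
          rw [Function.update_of_ne (fun es : s = r => hne (es ▸ hs))]
        have e2 : ∀ M : List ℕ, (∀ s ∈ M, s < T.n) → prodX D M (fun _ => (0 : F)) = 1 := by
          intro M hM
          refine List.prod_eq_one fun y hy => ?_
          obtain ⟨s, hs, rfl⟩ := List.mem_map.1 hy
          exact h.X_zero (hM s hs)
        rw [e2 _ fun s hs => (hpos s hs).2]
        unfold prodX at e1 e ⊢
        rw [List.map_cons, List.prod_cons, Function.update_self, e1, e]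
      simpa using h.prodX_inj (r :: L) hsort hpos _ _ h1 r List.mem_cons_self
    obtain ⟨a, u', hu', rfl⟩ := hsplit u hu
    have hσu' := h.map_mem_gen σ hu'
    have ha : a + σ a = 0 := by
      refine hzero _ (X D r (-σ a) * u' * X D r (- -σ a) * mapGL D σ u')
        (mul_mem (hconj _ u' hu') hσu') ?_
      calc X D r (a + σ a) * (X D r (-σ a) * u' * X D r (- -σ a) * mapGL D σ u')
          = X D r a * (X D r (σ a) * X D r (-σ a)) * u' * (X D r (σ a) * mapGL D σ u') := by
            rw [← h.X_add hr.2, _root_.neg_neg]; group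
        _ = X D r a * u' * mapGL D σ (X D r a * u') := by
            rw [h.X_add hr.2, add_neg_cancel, h.X_zero hr.2, mul_one, map_mul, h.X_map]
        _ = 1 := htw
    obtain ⟨c, hc⟩ := hσ1
    set d := σ c - c with hd
    have hd0 : d ≠ 0 := sub_ne_zero.2 hc
    have hσd : σ d = d := by
      rw [hd, map_sub, hσ2, CharTwo.sub_eq_add, CharTwo.sub_eq_add, add_comm]
    have hσa : σ a = a := (CharTwo.add_eq_zero.1 ha).symm
    set b := a * c / d with hb
    have hab : b + a - σ b = 0 := by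
      have e1 : σ b = a * σ c / d := by rw [hb, map_div₀, map_mul, hσa, hσd]
      rw [e1, hb]
      field_simp
      rw [hd]; ring
    set u2 := X D r b * (X D r a * u') * (mapGL D σ (X D r b))⁻¹ with hu2
    have hu2' : u2 ∈ gen D F {s | s ∈ L} := by
      have e2 : u2 = X D r (b + a - σ b) * (X D r (σ b) * u' * X D r (-σ b)) := by
        rw [hu2, h.X_map, h.X_inv hr.2, sub_eq_add_neg, ← h.X_add hr.2, ← h.X_add hr.2,
          ← h.X_inv hr.2 (σ b)]
        group
      rw [e2, hab, h.X_zero hr.2, one_mul]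
      exact hconj _ u' hu'
    have htw2 : u2 * mapGL D σ u2 = 1 := by
      have hinv2 : mapGL D σ (mapGL D σ (X D r b)) = X D r b := by rw [h.X_map, h.X_map, hσ2]
      rw [hu2, map_mul, map_mul, map_inv, hinv2,
        show ∀ x y z w : GL D.Idx F, x * y * z⁻¹ * (z * w * x⁻¹) = x * (y * w) * x⁻¹ from
          fun x y z w => by group, htw, mul_one, mul_inv_cancel]
    obtain ⟨v, hv, e⟩ := ih hsort' (fun s hs => hpos s (List.mem_cons_of_mem _ hs)) hcl' u2 hu2'
      htw2
    refine ⟨v * X D r b, mul_mem hv ?_, ?_⟩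
    · rw [h.posUnipotent_eq]; exact X_mem_gen D hr b
    · rw [_root_.mul_inv_rev, map_mul,
        show ∀ x y z w : GL D.Idx F, x⁻¹ * y⁻¹ * (z * w) = x⁻¹ * (y⁻¹ * z) * w from
          fun x y z w => by group, ← e, hu2]
      group

/-- The diagonal part. -/
lemma exists_twist_diagonal [Fintype F] [CharP F 2] {t : GL D.Idx F}
    (ht : t ∈ D.diagonalSubgroup F) (htw : t * mapGL D σ t = 1) :
    ∃ s ∈ D.diagonalSubgroup F, t = s⁻¹ * mapGL D σ s := by
  obtain ⟨k, hk⟩ : ∃ k, Nat.card (D.diagonalSubgroup F) = 2 * k + 1 := by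
    obtain ⟨k, hk⟩ := Nat.odd_iff.2 (Nat.two_dvd_ne_zero.1 (h.odd_card_diagonal (F := F)))
    exact ⟨k, hk⟩
  have hpow : t ^ (2 * k + 1) = 1 := by
    have h0 : (⟨t, ht⟩ : D.diagonalSubgroup F) ^ Nat.card (D.diagonalSubgroup F) = 1 :=
      pow_card_eq_one'
    rw [hk] at h0
    exact congrArg Subtype.val h0
  refine ⟨(t⁻¹) ^ (k + 1), pow_mem (inv_mem ht) _, ?_⟩
  have hσt : mapGL D σ t = t⁻¹ := (inv_eq_of_mul_eq_one_right htw).symm
  rw [map_pow, map_inv, hσt, inv_inv, inv_pow, inv_inv, ← pow_add,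
    show k + 1 + (k + 1) = 2 * k + 1 + 1 by ring, pow_add, hpow, one_mul, pow_one]

/-- `H¹` of an involutory field automorphism is trivial in characteristic two. -/
theorem exists_twist [Fintype F] [CharP F 2] (φ : MulAut ↥(D.group F)) (hφ : D.IsFieldAut φ)
    (h2 : orderOf φ = 2) (g : ↥(D.group F)) (hg : g * φ g = 1) :
    ∃ x : ↥(D.group F), g = x⁻¹ * φ x := by
  classical
  obtain ⟨σ, hσ⟩ := hφ
  have key := h.fieldAut_eq_map φ hσ
  have hφ2 : φ * φ = 1 := by rw [← pow_two, ← h2, pow_orderOf_eq_one]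
  have hφ2' : ∀ y, φ (φ y) = y := fun y => DFunLike.congr_fun hφ2 y
  have hn0 : 0 < T.n := lt_of_le_of_lt (Nat.zero_le _) (h.simple_lt h.rank_pos)
  have hσ2 : ∀ x, σ.toRingHom (σ.toRingHom x) = x := by
    intro x
    have h1 := congrArg Subtype.val (hφ2' ⟨_, h.X_mem_group hn0 x⟩)
    rw [key, key, h.X_map, h.X_map] at h1
    exact h.X_inj hn0 h1
  have hσ1 : ∃ x, σ.toRingHom x ≠ x := by
    by_contra hc
    push Not at hc
    have : φ = 1 := MulEquiv.ext fun y => Subtype.ext (by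
      rw [key]
      exact Units.ext (Matrix.ext fun i j => hc _))
    rw [this, orderOf_one] at h2
    exact absurd h2 (by decide)
  -- `U` is a Sylow 2-subgroup
  obtain ⟨m, -, hcard⟩ := FiniteField.card F 2
  have hUG : D.posUnipotent F ≤ D.group F := h.posUnipotent_le_group
  set U := (D.posUnipotent F).subgroupOf (D.group F) with hUdef
  have hNU : Subgroup.normalizer (U : Set ↥(D.group F)) =
      (D.borelSubgroup F).subgroupOf (D.group F) := by
    rw [← h.normalizer_posUnipotent]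
    ext y
    simp only [Subgroup.mem_subgroupOf, Subgroup.mem_inf, Subgroup.mem_normalizer_iff, hUdef,
      Subgroup.coe_mul, Subgroup.coe_inv]
    refine ⟨fun hy => ⟨fun a => ?_, y.2⟩, fun hy a => hy.1 a⟩
    by_cases ha : a ∈ D.group F
    · exact hy ⟨a, ha⟩
    · refine iff_of_false (fun hm => ha (hUG hm)) (fun hm => ha ?_)
      have := mul_mem (mul_mem (inv_mem y.2) (hUG hm)) y.2
      simpa [mul_assoc] using this
  have hcU : Nat.card U = 2 ^ ((m : ℕ) * T.half) := by
    rw [hUdef, Nat.card_congr (Subgroup.subgroupOfEquivOfLe hUG).toEquiv, h.card_posUnipotent,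
      hcard, ← pow_mul]
  obtain ⟨P, hP⟩ := exists_sylow_of_normalizer (p := 2) U hcU (by
    rw [hNU, Nat.card_congr (Subgroup.subgroupOfEquivOfLe h.borel_le_group).toEquiv, h.card_borel,
      h.card_posUnipotent, hcard, ← pow_mul, pow_succ]
    intro hd
    exact h.odd_card_diagonal (Nat.dvd_of_mul_dvd_mul_left (Nat.two_pow_pos _) hd))
  have hφU : ∀ y, φ y ∈ U ↔ y ∈ U := by
    have h1 : ∀ y, y ∈ U → φ y ∈ U := by
      intro y hy
      rw [hUdef, Subgroup.mem_subgroupOf, h.posUnipotent_eq] at hy ⊢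
      rw [key]
      exact h.map_mem_gen _ hy
    exact fun y => ⟨fun hy => hφ2' y ▸ h1 _ hy, h1 y⟩
  -- a Sylow 2-subgroup fixed by `ψ = conj g ∘ φ`
  set ψ : MulAut ↥(D.group F) := MulAut.conj g * φ with hψ
  have hψ2 : ψ * ψ = 1 := by
    refine MulEquiv.ext fun y => ?_
    show g * φ (g * φ y * g⁻¹) * g⁻¹ = y
    rw [map_mul, map_mul, map_inv, hφ2', ← mul_assoc, ← mul_assoc, hg, one_mul,
      inv_eq_of_mul_eq_one_left hg, mul_inv_cancel_right]
  let σP : Equiv.Perm (Sylow 2 ↥(D.group F)) := MulAction.toPerm ψ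
  obtain ⟨Q, hQ⟩ := Equiv.Perm.exists_fixed_point_of_prime (p := 2) (n := 1) (σ := σP)
    (by rw [← Nat.card_eq_fintype_card]; exact not_dvd_card_sylow 2 _) (by
      rw [pow_one, pow_two]
      refine Equiv.ext fun S => ?_
      show ψ • ψ • S = S
      rw [smul_smul, hψ2, one_smul])
  obtain ⟨x, hx⟩ := MulAction.exists_smul_eq ↥(D.group F) P Q
  -- reduce to the Borel subgroup
  set g₁ := x⁻¹ * g * φ x with hg₁
  have hg₁N : g₁ ∈ Subgroup.normalizer (U : Set ↥(D.group F)) := by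
    rw [Subgroup.mem_normalizer_iff]
    intro y
    have hmem : ∀ z, z ∈ (Q : Subgroup ↥(D.group F)) ↔ x⁻¹ * z * x ∈ U := by
      intro z
      rw [← hx, Sylow.smul_def, Sylow.pointwise_smul_def, Subgroup.mem_smul_pointwise_iff_exists]
      constructor
      · rintro ⟨w, hw, rfl⟩
        rw [hP] at hw
        simpa [MulAut.smul_def, mul_assoc] using hw
      · intro hz
        exact ⟨_, hP.symm ▸ hz, by simp [MulAut.smul_def, mul_assoc]⟩
    have hfix : ∀ z, z ∈ (Q : Subgroup ↥(D.group F)) ↔ ψ z ∈ (Q : Subgroup ↥(D.group F)) := by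
      intro z
      have hQ' : ψ • Q = Q := hQ
      conv_rhs => rw [← hQ']
      rw [Sylow.pointwise_smul_def]
      exact Subgroup.smul_mem_pointwise_smul_iff.symm
    have h1 := hfix (x * φ y * x⁻¹)
    rw [hmem, hmem] at h1
    have e1 : x⁻¹ * (x * φ y * x⁻¹) * x = φ y := by group
    have e2 : x⁻¹ * ψ (x * φ y * x⁻¹) * x = g₁ * y * g₁⁻¹ := by
      show x⁻¹ * (g * φ (x * φ y * x⁻¹) * g⁻¹) * x = _
      rw [map_mul, map_mul, map_inv, hφ2', hg₁]; group
    rw [e1, e2] at h1
    rw [hφU] at h1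
    exact h1
  have hg₁2 : g₁ * φ g₁ = 1 := by
    rw [hg₁, map_mul, map_mul, map_inv, hφ2']
    calc x⁻¹ * g * φ x * ((φ x)⁻¹ * φ g * x) = x⁻¹ * (g * φ g) * x := by group
      _ = 1 := by rw [hg, mul_one, inv_mul_cancel]
  rw [hNU, Subgroup.mem_subgroupOf] at hg₁N
  obtain ⟨u, hu, t, ht, e⟩ := h.mem_borel_iff.1 hg₁N
  have e' : u * t * mapGL D σ.toRingHom (u * t) = 1 := by
    rw [← e, ← key]; exact congrArg Subtype.val hg₁2
  have htσ := h.map_mem_diagonal σ.toRingHom ht
  have hσu : mapGL D σ.toRingHom u ∈ D.posUnipotent F := by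
    rw [h.posUnipotent_eq] at hu ⊢; exact h.map_mem_gen _ hu
  have hsplit : u * (t * mapGL D σ.toRingHom u * t⁻¹) = 1 ∧ t * mapGL D σ.toRingHom t = 1 := by
    have h1 : u * (t * mapGL D σ.toRingHom u * t⁻¹) ∈ D.posUnipotent F ⊓ D.diagonalSubgroup F := by
      refine Subgroup.mem_inf.2 ⟨mul_mem hu ((Subgroup.mem_normalizer_iff.1
        (h.diagonal_le_normalizer_posUnipotent ht) _).1 hσu), ?_⟩
      have e3 : u * (t * mapGL D σ.toRingHom u * t⁻¹) = (t * mapGL D σ.toRingHom t)⁻¹ := by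
        rw [eq_inv_iff_mul_eq_one, ← e', map_mul]; group
      rw [e3]
      exact inv_mem (mul_mem ht htσ)
    rw [h.posUnipotent_inf_diagonal, Subgroup.mem_bot] at h1
    refine ⟨h1, ?_⟩
    rw [map_mul] at e'
    calc t * mapGL D σ.toRingHom t
        = u * (t * mapGL D σ.toRingHom u * t⁻¹) * (t * mapGL D σ.toRingHom t) := by
          rw [h1, one_mul]
      _ = u * t * (mapGL D σ.toRingHom u * mapGL D σ.toRingHom t) := by group
      _ = 1 := e'
  obtain ⟨s, hs, rfl⟩ := h.exists_twist_diagonal ht hsplit.2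
  set u' := s * u * s⁻¹ with hu'
  have hu'U : u' ∈ D.posUnipotent F :=
    (Subgroup.mem_normalizer_iff.1 (h.diagonal_le_normalizer_posUnipotent hs) u).1 hu
  have hu'2 : u' * mapGL D σ.toRingHom u' = 1 := by
    rw [hu', map_mul, map_mul, map_inv]
    calc s * u * s⁻¹ * (mapGL D σ.toRingHom s * mapGL D σ.toRingHom u * (mapGL D σ.toRingHom s)⁻¹)
        = s * (u * (s⁻¹ * mapGL D σ.toRingHom s * mapGL D σ.toRingHom u *
            (s⁻¹ * mapGL D σ.toRingHom s)⁻¹)) * s⁻¹ := by group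
      _ = 1 := by rw [hsplit.1, mul_one, mul_inv_cancel]
  obtain ⟨v, hv, ev⟩ := h.exists_twist_unipotent hσ2 hσ1 (posList T) sortedLT_posList
    (fun r hr => mem_posList.1 hr) (by rw [posList_set]; exact h.commClosed_posSet) u'
    (by rw [posList_set, ← h.posUnipotent_eq]; exact hu'U) hu'2
  have hvs : v * s ∈ D.group F := mul_mem (hUG hv) (h.diagonal_le_group hs)
  refine ⟨⟨v * s, hvs⟩ * x⁻¹, ?_⟩
  have hg₁' : g₁ = (⟨v * s, hvs⟩ : ↥(D.group F))⁻¹ * φ ⟨v * s, hvs⟩ := by
    refine Subtype.ext ?_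
    show (g₁ : GL D.Idx F) = (v * s)⁻¹ * (φ ⟨v * s, hvs⟩ : GL D.Idx F)
    rw [key]
    show (g₁ : GL D.Idx F) = (v * s)⁻¹ * mapGL D σ.toRingHom (v * s)
    rw [map_mul, _root_.mul_inv_rev, mul_assoc s⁻¹, ← mul_assoc v⁻¹, ← ev, e, hu']
    group
  rw [map_mul, map_inv, _root_.mul_inv_rev, inv_inv,
    show ∀ a b c d : ↥(D.group F), a * b⁻¹ * (c * d⁻¹) = a * (b⁻¹ * c) * d⁻¹ from
      fun a b c d => by group, ← hg₁', hg₁]
  group

end Cert

end CfsgLib.Chev
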