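import Cfsg.Agent.Lib.BNPair.Alternating
import Cfsg.Agent.Lib.Chev.FieldInvol
import Cfsg.Agent.Lib.Char.DefectZero

/-!
The Steinberg character of a Chevalley group.
-/

set_option autoImplicit false

namespace CfsgLib.Chev

open Cfsg.Lie Matrix CfsgLib.BN CfsgLib.Coxeter

namespace Cert

variable {D : ChevalleyDatum} {T : Tab} {C : Tab.Cover} (h : Cert D T C)
variable {F : Type*} [Field F]
include h

/-- The alternating sum of the datum is that of its (B, N)-pair, and the opposite element. -/
theorem steinberg_setup [Fintype F] :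
    ∃ (P : Cfsg.BNPair ↥(D.group F)) (_ : Fintype P.S) (w₀ : CfsgLib.BN.Weyl P) (n : ↥(D.group F)),
      P.B = (D.borelSubgroup F).subgroupOf (D.group F) ∧
      D.steinbergCharacter F = altSum P ∧
      IsLongest (CfsgLib.BN.gen P) w₀ ∧ n ∈ cell P w₀ ∧
      ∀ x ∈ P.B, n⁻¹ * x * n ∈ P.B ↔ x ∈ (D.diagonalSubgroup F).subgroupOf (D.group F) := by
  classical
  obtain ⟨P, hB, hN, hS⟩ := h.exists_bnPair (F := F)
  have hSG : ∀ i < T.l, nS D F i ∈ D.group F := fun i hi =>
    h.monomial_le_group (h.nS_mem_monomial hi)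
  have : Fintype P.S := Fintype.ofFinite _
  let ι : Fin T.l → P.S := fun i => ⟨⟨nS D F i, hSG i i.2⟩, by rw [hS]; exact ⟨i, i.2, rfl⟩⟩
  have hι : Function.Bijective ι := by
    refine ⟨fun i j e => Fin.ext (h.nS_inj (F := F) i.2 j.2 ?_), fun s => ?_⟩
    · have e' : nS D F i = nS D F j := congrArg (fun s : P.S => ((s : ↥(D.group F)) : GL D.Idx F)) e
      rw [e', inv_mul_cancel]
      exact one_mem _
    · obtain ⟨s, hs⟩ := s
      have hs' := hs
      rw [hS] at hs'
      obtain ⟨i, hi, e⟩ := hs'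
      exact ⟨⟨i, hi⟩, Subtype.ext (Subtype.ext e.symm)⟩
  let e := Equiv.ofBijective ι hι
  refine ⟨P, ‹_›, ?_⟩
  obtain ⟨w, hw, hneg⟩ := h.exists_longest
  have hn : nW D F w ∈ D.monomialSubgroup F := h.nW_mem_monomial hw
  let N₀ : P.N := ⟨⟨nW D F w, h.monomial_le_group hn⟩, by rw [hN]; exact hn⟩
  refine ⟨QuotientGroup.mk N₀, (N₀ : ↥(D.group F)), hB, ?_, ?_, mk_mem_cell N₀, ?_⟩
  · -- parabolic subgroups
    have hpar : ∀ J : Finset (Fin T.l), D.parabolicIn F (J.map Fin.valEmbedding) =
        par P (↑(J.map e.toEmbedding) : Set P.S) := by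
      intro J
      apply Subgroup.map_injective (D.group F).subtype_injective
      have hle : D.parabolicSubgroup F (↑(J.map Fin.valEmbedding) : Set ℕ) ≤ D.group F := by
        refine sup_le h.borel_le_group ((Subgroup.closure_le _).2 ?_)
        rintro g ⟨j, -, hj, eg⟩
        rw [h.rank_eq] at hj
        obtain rfl : g = nS D F j := Units.ext (eg.trans (h.coe_nS j).symm)
        exact hSG j hj
      rw [ChevalleyDatum.parabolicIn, Subgroup.subgroupOf_map_subtype, inf_eq_left.2 hle, par,
        Cfsg.BNPair.parabolic, Subgroup.map_sup, hB, Subgroup.subgroupOf_map_subtype,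
        inf_eq_left.2 h.borel_le_group, MonoidHom.map_closure, ChevalleyDatum.parabolicSubgroup]
      congr 2
      ext g
      simp only [Set.mem_ofPred_eq, Finset.coe_map, Set.mem_image, Fin.valEmbedding_apply,
        Subgroup.coe_subtype, Equiv.coe_toEmbedding, Finset.mem_coe]
      constructor
      · rintro ⟨j, ⟨i, hi, rfl⟩, -, eg⟩
        exact ⟨_, ⟨_, ⟨i, hi, rfl⟩, rfl⟩, Units.ext ((h.coe_nS _).trans eg.symm)⟩
      · rintro ⟨_, ⟨_, ⟨i, hi, rfl⟩, rfl⟩, rfl⟩
        exact ⟨i, ⟨i, hi, rfl⟩, by rw [h.rank_eq]; exact i.2, h.coe_nS _⟩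
    funext g
    simp only [ChevalleyDatum.steinbergCharacter, altSum]
    have hpw : (Finset.range D.rank).powerset =
        (Finset.univ : Finset (Finset (Fin T.l))).map (Finset.mapEmbedding Fin.valEmbedding).toEmbedding := by
      rw [h.rank_eq]
      ext J
      simp only [Finset.mem_powerset, Finset.mem_map, Finset.mem_univ, true_and,
        RelEmbedding.coe_toEmbedding, Finset.mapEmbedding_apply]
      refine ⟨fun hJ => ⟨J.attach.map ⟨fun j => ⟨j.1, Finset.mem_range.1 (hJ j.2)⟩,
        fun a b hab => Subtype.ext (congrArg Fin.val hab)⟩, ?_⟩, ?_⟩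
      · ext x
        simp only [Finset.mem_map, Finset.mem_attach, true_and, Fin.valEmbedding_apply,
          Subtype.exists]
        constructor
        · rintro ⟨a, ⟨b, hb, e'⟩, rfl⟩
          rw [← e']
          exact hb
        · exact fun hx => ⟨⟨x, Finset.mem_range.1 (hJ hx)⟩, ⟨x, hx, rfl⟩, rfl⟩
      · rintro ⟨J', rfl⟩ x hx
        obtain ⟨i, -, rfl⟩ := Finset.mem_map.1 hx
        exact Finset.mem_range.2 i.2
    rw [hpw, Finset.sum_map]
    refine Fintype.sum_equiv e.finsetCongr _ _ fun J => ?_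
    simp only [RelEmbedding.coe_toEmbedding, Finset.mapEmbedding_apply, Finset.card_map,
      Equiv.finsetCongr_apply, hpar]
  · -- every generator is a descent
    intro s
    obtain ⟨i, rfl⟩ := hι.2 s
    have hne := gens.len_mul_gen (QuotientGroup.mk N₀ : CfsgLib.BN.Weyl P) (ι i)
    refine lt_of_le_of_ne ?_ fun e' => gen_len_ne (ι i) (QuotientGroup.mk N₀ : CfsgLib.BN.Weyl P)⁻¹
      (by rw [← hne, e', gens.len_inv])
    by_contra hup
    have hi := i.2
    set r := T.neg (T.simple i)
    have hr : r < T.n := neg_lt (T := T) (h.simple_lt hi)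
    have hX : (⟨X D r (1 : F), h.X_mem_group hr 1⟩ : ↥(D.group F)) ∈
        cell P (CfsgLib.BN.gen P (ι i)) := by
      have e1 := h.X_neg_simple_eq (F := F) hi 1
      have hb : ∀ z : F, X D (T.simple i) z ∈ D.borelSubgroup F := fun z =>
        h.X_mem_borel (h.simple_spec hi).1 (h.simple_lt hi) z
      have hh : hU D (T.simple i) (-(1 : F)⁻¹) ∈ D.borelSubgroup F :=
        Subgroup.mem_sup_right (h.hU_mem (h.simple_lt hi) (by simp))
      rw [CfsgLib.BN.gen]
      refine mem_cell_mk.2 ⟨⟨X D (T.simple i) (1 : F)⁻¹ * hU D (T.simple i) (-(1 : F)⁻¹),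
        mul_mem (h.borel_le_group (hb _)) (h.borel_le_group hh)⟩, ?_,
        ⟨X D (T.simple i) (1 : F)⁻¹, h.borel_le_group (hb _)⟩, ?_, ?_⟩
      · rw [hB, Subgroup.mem_subgroupOf]; exact mul_mem (hb _) hh
      · rw [hB, Subgroup.mem_subgroupOf]; exact hb _
      · refine Subtype.ext ?_
        show X D r (1 : F) = X D (T.simple i) (1 : F)⁻¹ * hU D (T.simple i) (-(1 : F)⁻¹) *
          nS D F i * X D (T.simple i) (1 : F)⁻¹
        rw [e1]; simp only [mul_assoc]
    have h1 := mul_cell_right_of_len (ι i) hX (not_le.1 hup).le (mk_mem_cell N₀)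
    have hpos : T.half ≤ rword T w r := by
      have hs := hneg _ (h.simple_spec hi).1 (h.simple_lt hi)
      show T.half ≤ rword T w (T.neg (T.simple i))
      rw [h.rword_neg hw (h.simple_lt hi)]
      have := h.two_mul_half
      unfold Tab.neg
      omega
    obtain ⟨a, -, ea⟩ := h.Maps_nW (F := F) hw hr
    have h2 : (N₀ : ↥(D.group F)) * ⟨X D r (1 : F), h.X_mem_group hr 1⟩ ∈
        cell P (QuotientGroup.mk N₀) := by
      have hu : X D (rword T w r) (a * 1) ∈ D.borelSubgroup F :=
        h.X_mem_borel hpos (h.rword_lt hw hr) _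
      refine mem_cell_mk.2 ⟨⟨_, h.borel_le_group hu⟩, by rw [hB, Subgroup.mem_subgroupOf]; exact hu,
        1, one_mem _, Subtype.ext ?_⟩
      show nW D F w * X D r 1 = X D (rword T w r) (a * 1) * nW D F w * 1
      rw [← ea 1]; group
    have := cell_inj h1 h2
    rw [mul_eq_left] at this
    exact gen_ne_one _ this
  · -- the intersection of `B` with the opposite
    intro x hx
    rw [hB, Subgroup.mem_subgroupOf] at hx ⊢
    simp only [Subgroup.mem_subgroupOf, Subgroup.coe_mul, Subgroup.coe_inv]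
    show (nW D F w)⁻¹ * (x : GL D.Idx F) * nW D F w ∈ D.borelSubgroup F ↔ _
    constructor
    · intro hc
      obtain ⟨u, hu, t, ht, e'⟩ := h.mem_borel_iff.1 hc
      have ht' : nW D F w * t * (nW D F w)⁻¹ ∈ D.diagonalSubgroup F :=
        (Subgroup.mem_normalizer_iff.1 (h.monomial_le_normalizer_diagonal hn) t).1 ht
      have hu' : nW D F w * u * (nW D F w)⁻¹ ∈ D.negUnipotent F := by
        rw [h.negUnipotent_eq]
        rw [h.posUnipotent_eq] at hu
        exact conj_gen_le (S' := {r | r < T.half})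
          (fun r hr => ⟨_, hneg r hr.1 hr.2, h.Maps_nW hw hr.2⟩) hu
      have ex : (x : GL D.Idx F) = nW D F w * u * (nW D F w)⁻¹ * (nW D F w * t * (nW D F w)⁻¹) := by
        rw [show nW D F w * u * (nW D F w)⁻¹ * (nW D F w * t * (nW D F w)⁻¹) =
          nW D F w * (u * t) * (nW D F w)⁻¹ by group, ← e']
        group
      have h4 : nW D F w * u * (nW D F w)⁻¹ ∈ D.borelSubgroup F ⊓ D.negUnipotent F := by
        refine ⟨?_, hu'⟩
        have := mul_mem hx (inv_mem (Subgroup.mem_sup_right ht' :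
          nW D F w * t * (nW D F w)⁻¹ ∈ D.borelSubgroup F))
        rwa [ex, mul_inv_cancel_right] at this
      rw [h.borel_inf_negUnipotent, Subgroup.mem_bot] at h4
      rw [ex, h4, one_mul]
      exact ht'
    · intro hd
      refine Subgroup.mem_sup_right ?_
      have := (Subgroup.mem_normalizer_iff.1
        (inv_mem (h.monomial_le_normalizer_diagonal hn)) (x : GL D.Idx F)).1 hd
      simpa using this

/-- The restriction to `B`. -/
theorem steinberg_restrict [Fintype F] (b : ↥((D.borelSubgroup F).subgroupOf (D.group F))) :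
    D.steinbergCharacter F (b : ↥(D.group F)) =
      Cfsg.fixedPointCharacter (((D.diagonalSubgroup F).subgroupOf (D.group F)).subgroupOf
        ((D.borelSubgroup F).subgroupOf (D.group F))) b := by
  obtain ⟨P, _, w₀, n, hB, hst, hw₀, hn, hinf⟩ := h.steinberg_setup (F := F)
  have hb : (b : ↥(D.group F)) ∈ P.B := hB.symm ▸ b.2
  rw [hst, altSum_apply hw₀ hb, fixCell_eq hn hinf ⟨b, hb⟩]
  simp only [Cfsg.fixedPointCharacter, Nat.cast_inj]
  have key : ∀ (A A' : Subgroup ↥(D.group F)), A = A' → ∀ (K : Subgroup ↥(D.group F))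
      (x : ↥A) (y : ↥A'), (x : ↥(D.group F)) = y →
      Nat.card (MulAction.fixedBy (↥A ⧸ K.subgroupOf A) x) =
        Nat.card (MulAction.fixedBy (↥A' ⧸ K.subgroupOf A') y) := by
    rintro A _ rfl K x y exy
    obtain rfl : x = y := Subtype.ext exy
    rfl
  exact key _ _ hB _ ⟨b, hb⟩ b rfl

/-- The Steinberg character is irreducible. -/
theorem steinberg_irr [Fintype F] :
    Cfsg.IsIrrCharacter ↥(D.group F) (D.steinbergCharacter F) := by
  obtain ⟨P, _, w₀, n, hB, hst, -⟩ := h.steinberg_setup (F := F)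
  rw [hst]
  exact isIrr_altSum

/-- Its degree. -/
theorem steinberg_degree [Fintype F] :
    D.steinbergCharacter F 1 = (Fintype.card F : ℂ) ^ T.half := by
  have e := h.steinberg_restrict (F := F) (1 : ↥((D.borelSubgroup F).subgroupOf (D.group F)))
  rw [Subgroup.coe_one] at e
  rw [e, Cfsg.fixedPointCharacter, MulAction.fixedBy_one_eq_univ, Nat.card_congr (Equiv.Set.univ _),
    ← Subgroup.index_eq_card, ← Nat.cast_pow, Nat.cast_inj]
  have h1 := Subgroup.index_mul_card (((D.diagonalSubgroup F).subgroupOf (D.group F)).subgroupOf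
    ((D.borelSubgroup F).subgroupOf (D.group F)))
  have hle : (D.diagonalSubgroup F).subgroupOf (D.group F) ≤
      (D.borelSubgroup F).subgroupOf (D.group F) :=
    fun x hx => (Subgroup.mem_sup_right hx : (x : GL D.Idx F) ∈ D.borelSubgroup F)
  rw [Nat.card_congr (Subgroup.subgroupOfEquivOfLe hle).toEquiv,
    Nat.card_congr (Subgroup.subgroupOfEquivOfLe h.borel_le_group).toEquiv,
    Nat.card_congr (Subgroup.subgroupOfEquivOfLe h.diagonal_le_group).toEquiv, h.card_borel,
    h.card_posUnipotent] at h1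
  exact Nat.eq_of_mul_eq_mul_right Nat.card_pos h1

/-- The characteristic does not divide the order of the diagonal subgroup. -/
lemma not_dvd_card_diagonal [Fintype F] {p : ℕ} (hp : p.Prime) [CharP F p] :
    ¬ p ∣ Nat.card (D.diagonalSubgroup F) := by
  intro hd
  have h1 : Nat.card (D.diagonalSubgroup F) ∣ Nat.card (Fin T.l → Fˣ) := by
    rw [← h.range_torusHom]
    exact Subgroup.card_range_dvd _
  have h2 := hd.trans h1
  rw [Nat.card_fun] at h2
  have h3 : p ∣ Nat.card Fˣ := hp.dvd_of_dvd_pow h2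
  rw [Nat.card_units, Nat.card_eq_fintype_card] at h3
  have := Fact.mk hp
  obtain ⟨n, -, hcard⟩ := FiniteField.card F p
  rw [hcard] at h3
  have h5 : p ∣ p ^ (n : ℕ) := dvd_pow_self p n.pos.ne'
  have h6 : 1 ≤ p ^ (n : ℕ) := Nat.one_le_pow _ _ hp.pos
  have h7 := Nat.dvd_sub h5 h3
  rw [Nat.sub_sub_self h6, Nat.dvd_one] at h7
  exact hp.ne_one h7

/-- The power of the characteristic dividing the order of the group. -/
theorem factorization_card_group [Fintype F] {p : ℕ} [hp : Fact p.Prime] [CharP F p] :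
    p ^ (Nat.card ↥(D.group F)).factorization p = Fintype.card F ^ T.half := by
  classical
  obtain ⟨m, -, hcard⟩ := FiniteField.card F p
  have hUG : D.posUnipotent F ≤ D.group F := h.posUnipotent_le_group
  set U := (D.posUnipotent F).subgroupOf (D.group F) with hUdef
  have hNU : Subgroup.normalizer (U : Set ↥(D.group F)) =
      (D.borelSubgroup F).subgroupOf (D.group F) := by
    rw [← h.normalizer_posUnipotent]
    ext y
    simp only [Subgroup.mem_subgroupOf, Subgroup.mem_inf, Subgroup.mem_normalizer_iff, hUdef,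
      Subgroup.coe_mul, Subgroup.coe_inv]
    refine ⟨fun hy => ⟨fun a => ?_, y.2⟩, fun hy a => hy.1 a⟩
    by_cases ha : a ∈ D.group F
    · exact hy ⟨a, ha⟩
    · refine iff_of_false (fun hm => ha (hUG hm)) (fun hm => ha ?_)
      have := mul_mem (mul_mem (inv_mem y.2) (hUG hm)) y.2
      simpa [mul_assoc] using this
  have hcU : Nat.card U = p ^ ((m : ℕ) * T.half) := by
    rw [hUdef, Nat.card_congr (Subgroup.subgroupOfEquivOfLe hUG).toEquiv, h.card_posUnipotent,
      hcard, ← pow_mul]
  obtain ⟨P, hP⟩ := exists_sylow_of_normalizer (p := p) U hcU (by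
    rw [hNU, Nat.card_congr (Subgroup.subgroupOfEquivOfLe h.borel_le_group).toEquiv, h.card_borel,
      h.card_posUnipotent, hcard, ← pow_mul, pow_succ]
    intro hd
    exact h.not_dvd_card_diagonal hp.out
      (Nat.dvd_of_mul_dvd_mul_left (pow_pos hp.out.pos _) hd))
  rw [← P.card_eq_multiplicity, hP, hcU, hcard, pow_mul]

/-- It vanishes on the singular elements. -/
theorem steinberg_vanish [Fintype F] {p : ℕ} [hp : Fact p.Prime] [CharP F p] {g : ↥(D.group F)}
    (hg : p ∣ orderOf g) : D.steinbergCharacter F g = 0 := by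
  classical
  have : Fintype ↥(D.group F) := Fintype.ofFinite _
  set N := (Nat.card ↥(D.group F)).factorization p with hN
  refine CfsgLib.Char.defect_zero_vanish (p := p) (n := N) (d := p ^ N) h.steinberg_irr ?_
    (Nat.ordProj_dvd _ _) ?_ dvd_rfl hg
  · rw [h.steinberg_degree, hN, h.factorization_card_group, Nat.cast_pow]
  · intro hd
    have := (hp.out.pow_dvd_iff_le_factorization Nat.card_pos.ne').1 hd
    omega

end Cert

end CfsgLib.Chev
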