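import Cfsg.Agent.Lib.Chev.Parabolic
import Cfsg.Agent.Lib.Chev.SteinbergChar

/-!
The Borel–Tits property of the finite Chevalley groups.

A `p`-subgroup `U` is conjugate into the group generated by the root subgroups with `f r ≥ 1` for
a dominant linear function `f` of the roots.  If `f` has least sum of squares among all such
functions, then every element normalising `U` fixes `f`, hence lies in the parabolic subgroup of
`f`.
-/

set_option autoImplicit false

namespace CfsgLib.Chev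

open Cfsg.Lie Matrix

/-- A linear function of the roots, given by the Cartan integers. -/
def LinFun (T : Tab) (f : ℕ → ℝ) : Prop :=
  ∃ c : ℕ → ℝ, ∀ r < T.n, f r = ∑ j ∈ Finset.range T.l, c j * (T.car j r : ℝ)

/-- Non-negative on the simple roots. -/
def Dominant (T : Tab) (f : ℕ → ℝ) : Prop :=
  ∀ i < T.l, 0 ≤ f (T.simple i)

/-- The positive roots on which the function is at least one. -/
def levelSet (T : Tab) (f : ℕ → ℝ) : Set ℕ :=
  {r | r ∈ posSet T ∧ 1 ≤ f r}

/-- The simple roots on which the function vanishes. -/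
def zeroSimple (T : Tab) (f : ℕ → ℝ) : Set ℕ :=
  {i | f (T.simple i) = 0}

/-- The sum of squares over the roots. -/
noncomputable def sqNorm (T : Tab) (f : ℕ → ℝ) : ℝ :=
  ∑ r ∈ Finset.range T.n, f r ^ 2

lemma LinFun.add_smul {T : Tab} {f g : ℕ → ℝ} (hf : LinFun T f) (hg : LinFun T g) (a b : ℝ) :
    LinFun T (fun r => a * f r + b * g r) := by
  obtain ⟨c, hc⟩ := hf
  obtain ⟨c', hc'⟩ := hg
  refine ⟨fun j => a * c j + b * c' j, fun r hr => ?_⟩
  simp only [hc r hr, hc' r hr, Finset.mul_sum, ← Finset.sum_add_distrib]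
  exact Finset.sum_congr rfl fun j _ => by ring

/-- The mean of two different functions of equal norm has smaller norm. -/
lemma sqNorm_mid_lt {T : Tab} {f g : ℕ → ℝ} (he : sqNorm T g = sqNorm T f)
    (hne : ∃ r < T.n, g r ≠ f r) :
    sqNorm T (fun r => 1 / 2 * f r + 1 / 2 * g r) < sqNorm T f := by
  obtain ⟨r, hr, hne⟩ := hne
  have h1 : sqNorm T (fun r => 1 / 2 * f r + 1 / 2 * g r) +
      1 / 4 * ∑ r ∈ Finset.range T.n, (f r - g r) ^ 2 =
      1 / 2 * sqNorm T f + 1 / 2 * sqNorm T g := by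
    simp only [sqNorm, Finset.mul_sum, ← Finset.sum_add_distrib]
    exact Finset.sum_congr rfl fun r _ => by ring
  have h2 : 0 < ∑ r ∈ Finset.range T.n, (f r - g r) ^ 2 :=
    Finset.sum_pos' (fun r _ => sq_nonneg _) ⟨r, Finset.mem_range.2 hr,
      sq_pos_iff.2 (sub_ne_zero.2 (Ne.symm hne))⟩
  rw [he] at h1
  linarith

namespace Cert

variable {D : ChevalleyDatum} {T : Tab} {C : Tab.Cover} (h : Cert D T C)
include h

section Linear

variable {f : ℕ → ℝ}

lemma linFun_refl_apply (hf : LinFun T f) {i r : ℕ} (hi : i < T.l) (hr : r < T.n) :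
    f (T.refl i r) = f r - (T.car i r : ℝ) * f (T.simple i) := by
  obtain ⟨c, hc⟩ := hf
  rw [hc _ (h.refl_lt hi hr), hc _ hr, hc _ (h.simple_lt hi), Finset.mul_sum,
    ← Finset.sum_sub_distrib]
  refine Finset.sum_congr rfl fun j hj => ?_
  rw [(h.refl_spec hi hr).2.2.2.2.2.2.2.1 j (Finset.mem_range.1 hj)]
  push_cast; ring

lemma linFun_neg (hf : LinFun T f) {r : ℕ} (hr : r < T.n) : f (T.neg r) = -f r := by
  obtain ⟨c, hc⟩ := hf
  rw [hc _ (neg_lt (T := T) hr), hc _ hr, ← Finset.sum_neg_distrib]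
  refine Finset.sum_congr rfl fun j hj => ?_
  rw [(h.root_spec hr (Finset.mem_range.1 hj)).2.2.2]
  push_cast; ring

lemma linFun_comp_refl (hf : LinFun T f) {i : ℕ} (hi : i < T.l) :
    LinFun T fun r => f (T.refl i r) := by
  obtain ⟨c, hc⟩ := hf
  refine ⟨fun j => c j - if j = i then f (T.simple i) else 0, fun r hr => ?_⟩
  show f (T.refl i r) = _
  rw [h.linFun_refl_apply ⟨c, hc⟩ hi hr, hc r hr]
  simp only [sub_mul, Finset.sum_sub_distrib, ite_mul, zero_mul, Finset.sum_ite_eq',
    Finset.mem_range.2 hi, if_true]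
  ring

lemma linFun_comp_rword : ∀ (w : List ℕ), WordOK T w → ∀ {f : ℕ → ℝ}, LinFun T f →
    LinFun T fun r => f (rword T w r) := by
  intro w
  induction w with
  | nil => intro _ f hf; exact hf
  | cons i w ih =>
    intro hw f hf
    exact ih hw.tail (h.linFun_comp_refl hf hw.head)

lemma linFun_commTerms (hf : LinFun T f) {r s : ℕ} (hr : r < T.n) (hs : s < T.n)
    {q : ℕ × ℤ × ℕ × ℕ} (hq : q ∈ T.commTerms r s) :
    ∃ a b : ℕ, 0 < a ∧ 0 < b ∧ f q.1 = a * f r + b * f s := by
  obtain ⟨c, hc⟩ := hf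
  have hchain : ∀ {r s i u : ℕ}, r < T.n → s < T.n → 1 ≤ i → T.chainRoot r s i = some u →
      ∀ j < T.l, T.car j u = T.car j s + i * T.car j r := by
    intro r s i u hr hs hi e j hj
    simp only [Tab.chainRoot, Option.map_eq_some_iff] at e
    obtain ⟨a, ha, rfl⟩ := e
    have hq : ((a.1, a.2), i) ∈ (T.entry r s).zipIdx 1 :=
      List.mk_mem_zipIdx_iff_le_and_getElem?_sub.2 ⟨hi, ha⟩
    exact h.lin_spec hr hs hq hj
  suffices ∃ a b : ℕ, 0 < a ∧ 0 < b ∧
      ∀ j < T.l, T.car j q.1 = a * T.car j r + b * T.car j s by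
    obtain ⟨a, b, ha, hb, he⟩ := this
    refine ⟨a, b, ha, hb, ?_⟩
    rw [hc _ (h.commTerms_lt hr hs hq), hc _ hr, hc _ hs, Finset.mul_sum, Finset.mul_sum,
      ← Finset.sum_add_distrib]
    refine Finset.sum_congr rfl fun j hj => ?_
    rw [he j (Finset.mem_range.1 hj)]
    push_cast; ring
  rcases T.mem_commTerms hq with e | e | e | e | e | ⟨m, e, e'⟩ | ⟨m, e, e'⟩
  · refine ⟨1, 1, one_pos, one_pos, fun j hj => ?_⟩
    rw [hchain hr hs le_rfl e j hj]; ring
  · refine ⟨2, 1, two_pos, one_pos, fun j hj => ?_⟩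
    rw [hchain hr hs (by omega) e j hj]; ring
  · refine ⟨1, 2, one_pos, two_pos, fun j hj => ?_⟩
    rw [hchain hs hr (by omega) e j hj]; ring
  · refine ⟨3, 1, by omega, one_pos, fun j hj => ?_⟩
    rw [hchain hr hs (by omega) e j hj]; ring
  · refine ⟨1, 3, one_pos, by omega, fun j hj => ?_⟩
    rw [hchain hs hr (by omega) e j hj]; ring
  · refine ⟨3, 2, by omega, two_pos, fun j hj => ?_⟩
    rw [hchain (h.chainRoot_lt hr hs e) hs le_rfl e' j hj, hchain hr hs (by omega) e j hj]
    push_cast; ring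
  · refine ⟨2, 3, two_pos, by omega, fun j hj => ?_⟩
    rw [hchain (h.chainRoot_lt hs hr e) hr le_rfl e' j hj, hchain hs hr (by omega) e j hj]
    push_cast; ring

lemma dominant_nonneg (hf : LinFun T f) (hd : Dominant T f) : ∀ {r : ℕ}, r ∈ posSet T → 0 ≤ f r := by
  intro r
  induction r using Nat.strong_induction_on with
  | _ r ih =>
    rintro ⟨hh, hr⟩
    rcases h.exists_lower hh hr with ⟨i, hi, rfl⟩ | ⟨i, hi, hpos, hlt, hcar⟩
    · exact hd i hi
    · have h1 := h.linFun_refl_apply hf hi hr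
      have h2 := ih _ hlt ⟨hpos, h.refl_lt hi hr⟩
      have h3 : (0 : ℝ) < (T.car i r : ℝ) := by exact_mod_cast hcar
      nlinarith [mul_nonneg h3.le (hd i hi)]

lemma pos_of_linFun_pos (hf : LinFun T f) (hd : Dominant T f) {r : ℕ} (hr : r < T.n)
    (hp : 0 < f r) : T.half ≤ r := by
  by_contra hlt
  have h1 := h.dominant_nonneg hf hd
    (r := T.neg r) ⟨(h.half_le_neg_iff hr).2 (not_le.1 hlt), neg_lt (T := T) hr⟩
  rw [h.linFun_neg hf hr] at h1
  linarith

lemma linFun_inRootSub (hf : LinFun T f) : ∀ {r : ℕ}, r ∈ posSet T →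
    D.InRootSub (zeroSimple T f) r → f r = 0 := by
  intro r
  induction r using Nat.strong_induction_on with
  | _ r ih =>
    rintro ⟨hh, hr⟩ hin
    obtain ⟨-, hwt⟩ := h.inRootSub_iff.1 hin
    rcases h.exists_lower hh hr with ⟨i, hi, rfl⟩ | ⟨i, hi, hlo, hlt, hcar⟩
    · by_contra hne
      have h1 := h.wt_simple hi hi
      rw [if_pos rfl, hwt i hi hne] at h1
      exact lt_irrefl 0 h1
    · have hiJ : i ∈ zeroSimple T f := by
        by_contra hiJ
        have h1 := h.wt_refl hi hr i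
        have h2 := h.wt_nonneg hi (h.refl_lt hi hr) hlo
        have h3 := h.wt_simple hi hi
        rw [if_pos rfl] at h3
        rw [hwt i hi hiJ] at h1
        have := mul_pos hcar h3
        omega
      have hin' : D.InRootSub (zeroSimple T f) (T.refl i r) :=
        h.inRootSub_iff.2 ⟨h.refl_lt hi hr, fun k hk hkJ => by
          rw [h.wt_refl hi hr, h.wt_simple_of_ne hi hk (fun e => hkJ (by rwa [← e])), mul_zero,
            sub_zero, hwt k hk hkJ]⟩
      have h1 := h.linFun_refl_apply hf hi hr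
      rw [show f (T.simple i) = 0 from hiJ, ih _ hlt ⟨hlo, h.refl_lt hi hr⟩ hin'] at h1
      linarith

lemma levelSet_subset_radSet (hf : LinFun T f) :
    levelSet T f ⊆ radSet D T (zeroSimple T f) := by
  rintro r ⟨hr, h1⟩
  refine ⟨hr, fun hin => ?_⟩
  rw [h.linFun_inRootSub hf hr hin] at h1
  linarith

lemma commClosed_levelSet (hf : LinFun T f) : CommClosed T (levelSet T f) := by
  rintro r ⟨hr, hr1⟩ s ⟨hs, hs1⟩ - q hq
  refine ⟨(h.commTerms_pos hr.1 hr.2 hs.1 hs.2 hq).2, ?_⟩
  obtain ⟨a, b, ha, hb, e⟩ := h.linFun_commTerms hf hr.2 hs.2 hq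
  rw [e]
  have ha' : (1 : ℝ) ≤ a := by exact_mod_cast ha
  have hb' : (1 : ℝ) ≤ b := by exact_mod_cast hb
  nlinarith

lemma exists_linFun_regular :
    ∃ f : ℕ → ℝ, LinFun T f ∧ Dominant T f ∧ ∀ r ∈ posSet T, 1 ≤ f r := by
  let f : ℕ → ℝ := fun r => ∑ k ∈ Finset.range T.l, (h.wt k r : ℝ)
  have hpos : ∀ r ∈ posSet T, 1 ≤ f r := by
    intro r hr
    obtain ⟨k, hk, hne⟩ := h.exists_wt_ne hr.2
    have h1 : (0 : ℤ) < ∑ k ∈ Finset.range T.l, h.wt k r :=
      Finset.sum_pos' (fun i hi => h.wt_nonneg (Finset.mem_range.1 hi) hr.2 hr.1)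
        ⟨k, Finset.mem_range.2 hk, lt_of_le_of_ne (h.wt_nonneg hk hr.2 hr.1) (Ne.symm hne)⟩
    have h2 : (1 : ℤ) ≤ ∑ k ∈ Finset.range T.l, h.wt k r := h1
    show (1 : ℝ) ≤ ∑ k ∈ Finset.range T.l, (h.wt k r : ℝ)
    exact_mod_cast h2
  refine ⟨f, ⟨fun j => ∑ k ∈ Finset.range T.l,
    (((h.weightOk.choose.getD k []).getD j 0 : ℤ) : ℝ), fun r _ => ?_⟩,
    fun i hi => le_trans zero_le_one (hpos _ ⟨(h.simple_spec hi).1, h.simple_lt hi⟩), hpos⟩
  show ∑ k ∈ Finset.range T.l, (h.wt k r : ℝ) = _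
  simp only [h.wt_eq_sum, Int.cast_sum, Int.cast_mul, Finset.sum_mul]
  exact Finset.sum_comm

lemma sqNorm_comp_rword {w : List ℕ} (hw : WordOK T w) (f : ℕ → ℝ) :
    sqNorm T (fun r => f (rword T w r)) = sqNorm T f := by
  have hwr : WordOK T w.reverse := fun i hi => hw i (List.mem_reverse.1 hi)
  refine Finset.sum_nbij' (rword T w) (rword T w.reverse) ?_ ?_ ?_ ?_ fun r _ => rfl
  · exact fun r hr => Finset.mem_range.2 (h.rword_lt hw (Finset.mem_range.1 hr))
  · exact fun r hr => Finset.mem_range.2 (h.rword_lt hwr (Finset.mem_range.1 hr))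
  · intro r hr
    have := h.rword_reverse hwr (Finset.mem_range.1 hr)
    rwa [List.reverse_reverse] at this
  · exact fun r hr => h.rword_reverse hw (Finset.mem_range.1 hr)

/-- Every linear function has a dominant image. -/
lemma exists_dominant_word (hf : LinFun T f) :
    ∃ v, WordOK T v ∧ Dominant T fun r => f (rword T v r) := by
  classical
  let P : Finset ℕ := Finset.Ico T.half T.n
  let S : Set (Fin T.n → Fin T.n) :=
    {π | ∃ v, WordOK T v ∧ ∀ r : Fin T.n, (π r : ℕ) = rword T v r}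
  let Φ : (Fin T.n → Fin T.n) → ℝ := fun π =>
    ∑ r ∈ Finset.univ.filter (fun r : Fin T.n => T.half ≤ (r : ℕ)), f (π r)
  obtain ⟨π, ⟨v, hv, hπ⟩, hmax⟩ :=
    Set.exists_max_image S Φ (Set.toFinite S)
      ⟨id, [], fun i hi => absurd hi List.not_mem_nil, fun r => rfl⟩
  have hΦ : ∀ (π : Fin T.n → Fin T.n) (v : List ℕ), (∀ r : Fin T.n, (π r : ℕ) = rword T v r) →
      Φ π = ∑ r ∈ P, f (rword T v r) := by
    intro π v hπ
    refine Finset.sum_bij (fun r _ => (r : ℕ)) ?_ ?_ ?_ ?_
    · intro r hr; simp only [Finset.mem_filter, P, Finset.mem_Ico] at hr ⊢; exact ⟨hr.2, r.2⟩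
    · intro a _ b _ e; exact Fin.ext e
    · intro b hb
      simp only [P, Finset.mem_Ico] at hb
      exact ⟨⟨b, hb.2⟩, by simp [hb.1], rfl⟩
    · intro r _; rw [hπ r]
  refine ⟨v, hv, fun i hi => ?_⟩
  by_contra hlt
  simp only [not_le] at hlt
  have hp := h.simple_spec hi
  have hv' : WordOK T (v ++ [i]) := fun j hj => by
    rcases List.mem_append.1 hj with hj | hj
    · exact hv j hj
    · simp only [List.mem_singleton] at hj; exact hj ▸ hi
  let π' : Fin T.n → Fin T.n := fun r => ⟨rword T (v ++ [i]) r, h.rword_lt hv' r.2⟩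
  have h1 := hmax π' ⟨v ++ [i], hv', fun r => rfl⟩
  rw [hΦ π v hπ, hΦ π' (v ++ [i]) fun r => rfl] at h1
  -- reindex by the reflection
  set g : ℕ → ℝ := fun r => f (rword T v r)
  have hg : LinFun T g := h.linFun_comp_rword v hv hf
  have hsum : ∑ r ∈ P, f (rword T (v ++ [i]) r) = ∑ r ∈ P, g (T.refl i r) :=
    Finset.sum_congr rfl fun r _ => by rw [rword_append]; rfl
  have hpP : T.simple i ∈ P := Finset.mem_Ico.2 ⟨hp.1, hp.2.1⟩
  have hrest : ∑ r ∈ P.erase (T.simple i), g (T.refl i r) =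
      ∑ r ∈ P.erase (T.simple i), g r := by
    have hmap : ∀ r ∈ P.erase (T.simple i), T.refl i r ∈ P.erase (T.simple i) := by
      intro r hr
      simp only [P, Finset.mem_erase, Finset.mem_Ico] at hr ⊢
      refine ⟨fun e => ?_, (h.refl_spec hi hr.2.2).2.2.2.1 hr.2.1 hr.1, h.refl_lt hi hr.2.2⟩
      have := congrArg (T.refl i) e
      rw [h.refl_refl hi hr.2.2, h.refl_simple hi] at this
      have := (h.half_le_neg_iff hp.2.1).1 (this ▸ hr.2.1)
      omega
    have hlt' : ∀ r ∈ P.erase (T.simple i), r < T.n := fun r hr =>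
      (Finset.mem_Ico.1 (Finset.mem_of_mem_erase hr)).2
    exact Finset.sum_nbij' (T.refl i) (T.refl i) hmap hmap
      (fun r hr => h.refl_refl hi (hlt' r hr)) (fun r hr => h.refl_refl hi (hlt' r hr))
      (fun r _ => rfl)
  rw [hsum, ← Finset.add_sum_erase P _ hpP, ← Finset.add_sum_erase P g hpP, hrest,
    h.refl_simple hi, h.linFun_neg hg hp.2.1] at h1
  linarith

end Linear

section Group

variable {F : Type*} [Field F]

/-- A word fixing a dominant function gives an element of its parabolic subgroup. -/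
lemma nW_mem_parabolic_of_fixed {f : ℕ → ℝ} (hf : LinFun T f) (hd : Dominant T f) :
    ∀ {w : List ℕ}, WordOK T w → (∀ r < T.n, f (rword T w r) = f r) →
      nW D F w ∈ D.parabolicSubgroup F (zeroSimple T f) := by
  intro w
  induction hlen : w.length using Nat.strong_induction_on generalizing w with
  | _ k ih =>
    intro hw hfix
    by_cases hpos : ∀ i < T.l, T.half ≤ rword T w (T.simple i)
    · exact Subgroup.mem_sup_left (Subgroup.mem_sup_right (h.nW_mem_diagonal hw hpos))
    · simp only [not_forall, not_le] at hpos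
      obtain ⟨i, hi, hneg⟩ := hpos
      have hp := h.rword_lt hw (h.simple_lt hi)
      have hiJ : f (T.simple i) = 0 := by
        refine le_antisymm ?_ (hd i hi)
        rw [← hfix _ (h.simple_lt hi)]
        by_contra hgt
        exact absurd (h.pos_of_linFun_pos hf hd hp (not_le.1 hgt)) (not_le.2 hneg)
      obtain ⟨w', hw', hlen', t₂, ht₂, e⟩ := h.exchange_word (F := F) hw hi hneg
      have hfix' : ∀ r < T.n, f (rword T w' r) = f r := by
        intro r hr
        have hr2 := h.refl_lt hi hr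
        have h1 : Maps D (nW D F w) (T.refl i r) (rword T w' r) := by
          rw [e]
          refine Maps_mul (h.Maps_diagonal ht₂ hr2) (Maps_mul ?_ (h.Maps_nW hw' hr))
          have h2 := h.Maps_nS (F := F) hi hr2
          rwa [h.refl_refl hi hr] at h2
        rw [h.Maps_unique (h.rword_lt hw' hr) (h.rword_lt hw hr2) h1 (h.Maps_nW hw hr2),
          hfix _ hr2, h.linFun_refl_apply hf hi hr, hiJ, mul_zero, sub_zero]
      rw [e]
      exact mul_mem (mul_mem (ih w'.length (by omega) rfl hw' hfix')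
        (h.nS_mem_parabolic hi hiJ)) (Subgroup.mem_sup_left (Subgroup.mem_sup_right ht₂))

/-- The Borel subgroup normalises the subgroup of a level set of a dominant function. -/
lemma borel_le_normalizer_levelSet {f : ℕ → ℝ} (hf : LinFun T f) (hd : Dominant T f) :
    D.borelSubgroup F ≤ Subgroup.normalizer (gen D F (levelSet T f) : Set (GL D.Idx F)) := by
  refine sup_le ?_ (h.diagonal_le_normalizer_gen fun r hr => hr.1.2)
  rw [h.posUnipotent_eq, gen, Subgroup.closure_le]
  rintro _ ⟨r, hr, b, rfl⟩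
  suffices gen D F {r} ≤ Subgroup.normalizer (gen D F (levelSet T f) : Set (GL D.Idx F)) from
    this (X_mem_gen D (Set.mem_singleton r) b)
  refine le_normalizer_closure fun g hg a ha => ?_
  obtain ⟨z, rfl⟩ := (h.gen_singleton hr.2).1 hg
  obtain ⟨s, hs, u, rfl⟩ := ha
  by_cases e : s = r
  · subst e
    rw [h.X_inv hr.2, h.X_add hr.2, h.X_add hr.2]
    exact X_mem_gen D hs _
  · refine h.X_conj_mem (S := levelSet T f) hr.2 hs.1.2 e (posSet_neg_ne h hr hs.1) hs
      (fun q hq => ⟨(h.commTerms_pos hr.1 hr.2 hs.1.1 hs.1.2 hq).2, ?_⟩) z u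
    obtain ⟨a, b, ha, hb, e'⟩ := h.linFun_commTerms hf hr.2 hs.1.2 hq
    rw [e']
    have h1 : (0 : ℝ) ≤ a * f r := mul_nonneg (Nat.cast_nonneg a) (h.dominant_nonneg hf hd hr)
    have hb' : (1 : ℝ) ≤ b := by exact_mod_cast hb
    nlinarith [hs.2]

/-- Elements of the subgroup of a closed set of positive roots have no other coordinates. -/
lemma exists_prodX_support {S : Set ℕ} (hS : S ⊆ posSet T) (hc : CommClosed T S) {g : GL D.Idx F}
    (hg : g ∈ gen D F S) :
    ∃ t : ℕ → F, g = prodX D (posList T) t ∧ ∀ r ∉ S, t r = 0 := by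
  classical
  set L := (posList T).filter fun r => decide (r ∈ S) with hL
  have hLset : {r | r ∈ L} = S := by
    ext r
    simp only [hL, List.mem_filter, mem_posList, decide_eq_true_eq, Set.mem_ofPred_eq]
    exact ⟨fun h => h.2, fun h => ⟨hS h, h⟩⟩
  have hLs : L.SortedLT := (List.SortedLT.pairwise sortedLT_posList).filter _ |>.sortedLT
  rw [← hLset] at hg
  obtain ⟨c, hc'⟩ := h.exists_prodX L hLs (fun r hr => mem_posList.1 (List.mem_filter.1 hr).1)
    (by rw [hLset]; exact hc) _ hg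
  refine ⟨fun r => if r ∈ S then c r else 0, ?_, fun r hr => if_neg hr⟩
  have key : ∀ (M : List ℕ), (∀ r ∈ M, r < T.n) →
      prodX D (M.filter fun r => decide (r ∈ S)) c =
        prodX D M (fun r => if r ∈ S then c r else 0) := by
    intro M
    induction M with
    | nil => intro _; rfl
    | cons r M ih =>
      intro hM
      have ih' := ih fun q hq => hM q (List.mem_cons_of_mem _ hq)
      unfold prodX at ih' ⊢
      by_cases hr : r ∈ S
      · rw [List.filter_cons_of_pos (by simp [hr]), List.map_cons, List.map_cons, List.prod_cons,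
          List.prod_cons, ih']
        simp only [if_pos hr]
      · rw [List.filter_cons_of_neg (by simp [hr]), List.map_cons, List.prod_cons, ih']
        simp only [if_neg hr, h.X_zero (hM r List.mem_cons_self), one_mul]
  rw [hc', hL]
  exact key (posList T) fun r hr => (mem_posList.1 hr).2

/-- The subgroups of two closed sets of positive roots meet in that of their intersection. -/
lemma gen_inf_gen_le {S S' : Set ℕ} (hS : S ⊆ posSet T) (hc : CommClosed T S)
    (hS' : S' ⊆ posSet T) (hc' : CommClosed T S') :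
    gen D F S ⊓ gen D F S' ≤ gen D F (S ∩ S') := by
  intro g hg
  obtain ⟨h1, h2⟩ := Subgroup.mem_inf.1 hg
  obtain ⟨t, et, ht⟩ := h.exists_prodX_support hS hc h1
  obtain ⟨t', et', ht'⟩ := h.exists_prodX_support hS' hc' h2
  have he := h.prodX_inj (posList T) sortedLT_posList (fun r hr => mem_posList.1 hr) t t'
    (et.symm.trans et')
  rw [et]
  refine list_prod_mem fun x hx => ?_
  obtain ⟨r, hr, rfl⟩ := List.mem_map.1 hx
  by_cases hin : r ∈ S ∩ S'
  · exact X_mem_gen D hin _
  · have h0 : t r = 0 := by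
      by_cases hrS : r ∈ S
      · rw [he r hr, ht' r fun hr' => hin ⟨hrS, hr'⟩]
      · exact ht r hrS
    rw [h0, h.X_zero (mem_posList.1 hr).2]
    exact one_mem _

/-- The part of a root subgroup moved by a word and landing among the positive roots. -/
lemma mem_gen_of_conj_mem_pos {f : ℕ → ℝ} (hf : LinFun T f) {w : List ℕ} (hw : WordOK T w)
    {y : GL D.Idx F} (hy : y ∈ gen D F (levelSet T f))
    (hpos : nW D F w * y * (nW D F w)⁻¹ ∈ D.borelSubgroup F) :
    nW D F w * y * (nW D F w)⁻¹ ∈ gen D F (levelSet T fun r => f (rword T w.reverse r)) := by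
  classical
  set L := (posList T).filter fun r => decide (r ∈ levelSet T f) with hL
  have hLset : {r | r ∈ L} = levelSet T f := by
    ext r
    simp only [hL, List.mem_filter, mem_posList, decide_eq_true_eq, Set.mem_ofPred_eq]
    exact ⟨fun h => h.2, fun h => ⟨h.1, h⟩⟩
  have hLs : L.SortedLT := (List.SortedLT.pairwise sortedLT_posList).filter _ |>.sortedLT
  rw [← hLset] at hy
  obtain ⟨a, ha, c, hc, rfl⟩ := h.exists_split {r | T.half ≤ rword T w r} L hLs
    (fun r hr => mem_posList.1 (List.mem_filter.1 hr).1)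
    (by rw [hLset]; exact h.commClosed_levelSet hf) y hy
  rw [hLset] at ha hc
  have hA : nW D F w * a * (nW D F w)⁻¹ ∈ gen D F (levelSet T fun r => f (rword T w.reverse r)) := by
    refine conj_gen_le (S' := levelSet T fun r => f (rword T w.reverse r)) (fun r hr => ⟨rword T w r,
      ⟨⟨hr.2, h.rword_lt hw hr.1.1.2⟩, ?_⟩, h.Maps_nW hw hr.1.1.2⟩) ha
    have hwr : WordOK T w.reverse := fun i hi => hw i (List.mem_reverse.1 hi)
    have e := h.rword_reverse hwr hr.1.1.2
    rw [List.reverse_reverse] at e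
    show 1 ≤ f (rword T w.reverse (rword T w r))
    rw [e]; exact hr.1.2
  have hC : nW D F w * c * (nW D F w)⁻¹ ∈ D.negUnipotent F := by
    rw [h.negUnipotent_eq]
    exact conj_gen_le (S' := {r | r < T.half}) (fun r hr => ⟨rword T w r,
      not_le.1 (show ¬ T.half ≤ rword T w r from hr.2), h.Maps_nW hw hr.1.1.2⟩) hc
  have hAB : nW D F w * a * (nW D F w)⁻¹ ∈ D.borelSubgroup F :=
    Subgroup.mem_sup_left (h.gen_pos_le (fun r hr => hr.1) hA)
  have e : nW D F w * (a * c) * (nW D F w)⁻¹ =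
      nW D F w * a * (nW D F w)⁻¹ * (nW D F w * c * (nW D F w)⁻¹) := by group
  have h1 : nW D F w * c * (nW D F w)⁻¹ ∈ D.borelSubgroup F ⊓ D.negUnipotent F := by
    refine ⟨?_, hC⟩
    have := mul_mem (inv_mem hAB) (e ▸ hpos)
    rwa [inv_mul_cancel_left] at this
  rw [h.borel_inf_negUnipotent, Subgroup.mem_bot] at h1
  rw [e, h1, mul_one]
  exact hA

/-- `U` is conjugate into the subgroup of the level set of `f`. -/
def IsCandidate (U : Subgroup (GL D.Idx F)) (S : Set ℕ) : Prop :=
  ∃ g ∈ D.group F, ∀ u ∈ U, g⁻¹ * u * g ∈ gen D F S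

omit h in
lemma isCandidate_mono {U : Subgroup (GL D.Idx F)} {S S' : Set ℕ} (hS : S ⊆ S')
    (hc : IsCandidate U S) : IsCandidate U S' := by
  obtain ⟨g, hg, hgu⟩ := hc
  exact ⟨g, hg, fun u hu => gen_mono D hS (hgu u hu)⟩

/-- A dominant function of least norm whose level set contains a conjugate of `U`. -/
lemma exists_min_candidate {U : Subgroup (GL D.Idx F)} (hU : IsCandidate (F := F) U (posSet T)) :
    ∃ f, LinFun T f ∧ Dominant T f ∧ IsCandidate U (levelSet T f) ∧
      ∀ f', LinFun T f' → Dominant T f' → IsCandidate U (levelSet T f') →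
        sqNorm T f ≤ sqNorm T f' := by
  classical
  let φ : (Fin T.l → ℝ) →ₗ[ℝ] (Fin T.n → ℝ) :=
    { toFun := fun c r => ∑ j, c j * (T.car j r : ℝ)
      map_add' := fun c c' => by
        funext r; simp [add_mul, Finset.sum_add_distrib]
      map_smul' := fun a c => by
        funext r; simp [Finset.mul_sum, mul_assoc] }
  let res : (ℕ → ℝ) → (Fin T.n → ℝ) := fun f r => f r
  let Q : (Fin T.n → ℝ) → ℝ := fun x => ∑ r, x r ^ 2
  have hQ : ∀ f, Q (res f) = sqNorm T f := fun f => Fin.sum_univ_eq_sum_range (fun r => f r ^ 2) T.n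
  let I : Set (Finset (Fin T.n)) :=
    {S | IsCandidate (F := F) U ((fun r : Fin T.n => (r : ℕ)) '' ↑S) ∧ ∀ r ∈ S, T.half ≤ (r : ℕ)}
  let A : Finset (Fin T.n) → Set (Fin T.n → ℝ) := fun S =>
    ((LinearMap.range φ : Submodule ℝ (Fin T.n → ℝ)) : Set (Fin T.n → ℝ)) ∩
      {x | (∀ i : Fin T.l, 0 ≤ x ⟨T.simple i, h.simple_lt i.2⟩) ∧ ∀ r ∈ S, 1 ≤ x r}
  let K : Set (Fin T.n → ℝ) := ⋃ S ∈ I, A S
  have hmem : ∀ f, LinFun T f → Dominant T f → IsCandidate U (levelSet T f) → res f ∈ K := by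
    intro f hf hd hc
    obtain ⟨c, hcf⟩ := hf
    refine Set.mem_iUnion₂.2 ⟨Finset.univ.filter fun r : Fin T.n => (r : ℕ) ∈ levelSet T f,
      ⟨isCandidate_mono (fun r hr => ⟨⟨r, hr.1.2⟩, by simpa using hr, rfl⟩) hc, ?_⟩,
      ⟨fun j => c j, ?_⟩, fun i => hd i i.2, ?_⟩
    · intro r hr; exact (Finset.mem_filter.1 hr).2.1.1
    · funext r
      show ∑ j : Fin T.l, c j * (T.car j r : ℝ) = f r
      rw [hcf r r.2, Fin.sum_univ_eq_sum_range (fun j => c j * (T.car j r : ℝ)) T.l]
    · intro r hr; exact (Finset.mem_filter.1 hr).2.2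
  have hclosed : IsClosed K := by
    refine (Set.toFinite I).isClosed_biUnion fun S _ => ?_
    refine (Submodule.closed_of_finiteDimensional _).inter ?_
    simp only [Set.ofPred_and, Set.ofPred_forall]
    refine (isClosed_iInter fun i => isClosed_le continuous_const (continuous_apply _)).inter ?_
    exact isClosed_iInter fun r => isClosed_iInter fun _ =>
      isClosed_le continuous_const (continuous_apply _)
  obtain ⟨f₀, hf₀, hd₀, hf₀1⟩ := h.exists_linFun_regular
  have hx₀ : res f₀ ∈ K :=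
    hmem f₀ hf₀ hd₀ (isCandidate_mono (fun r hr => ⟨hr, hf₀1 r hr⟩) hU)
  let B : Set (Fin T.n → ℝ) := K ∩ {x | Q x ≤ Q (res f₀)}
  have hQc : Continuous Q :=
    continuous_finsetSum _ fun r _ => (continuous_apply r).pow 2
  have hB : IsCompact B := by
    refine IsCompact.of_isClosed_subset (isCompact_univ_pi fun _ : Fin T.n =>
      isCompact_Icc (a := -(Q (res f₀) + 1)) (b := Q (res f₀) + 1))
      (hclosed.inter (isClosed_le hQc continuous_const)) fun x hx r _ => ?_
    have h1 : x r ^ 2 ≤ Q x :=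
      Finset.single_le_sum (f := fun r => x r ^ 2) (fun r _ => sq_nonneg _) (Finset.mem_univ r)
    have h2 : Q x ≤ Q (res f₀) := hx.2
    constructor <;> nlinarith [sq_nonneg (x r - 1), sq_nonneg (x r + 1)]
  obtain ⟨x, hx, hmin⟩ := hB.exists_isMinOn ⟨res f₀, hx₀, show Q (res f₀) ≤ Q (res f₀) from le_rfl⟩
    hQc.continuousOn
  obtain ⟨S, hS, ⟨c, hc⟩, hxd, hx1⟩ := Set.mem_iUnion₂.1 hx.1
  let c' : ℕ → ℝ := fun j => if hj : j < T.l then c ⟨j, hj⟩ else 0
  let f : ℕ → ℝ := fun r => ∑ j ∈ Finset.range T.l, c' j * (T.car j r : ℝ)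
  have hres : ∀ r : Fin T.n, f r = x r := by
    intro r
    rw [← hc]
    show ∑ j ∈ Finset.range T.l, c' j * (T.car j r : ℝ) = ∑ j : Fin T.l, c j * (T.car j r : ℝ)
    rw [← Fin.sum_univ_eq_sum_range (fun j => c' j * (T.car j r : ℝ)) T.l]
    exact Finset.sum_congr rfl fun j _ => by simp [c']
  refine ⟨f, ⟨c', fun r _ => rfl⟩, fun i hi => ?_, isCandidate_mono ?_ hS.1, fun f' hf' hd' hc' => ?_⟩
  · exact le_of_le_of_eq (hxd ⟨i, hi⟩) (hres ⟨T.simple i, h.simple_lt hi⟩).symm
  · rintro _ ⟨r, hr, rfl⟩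
    exact ⟨⟨hS.2 r hr, r.2⟩, le_of_le_of_eq (hx1 r hr) (hres r).symm⟩
  · rw [← hQ, ← hQ, show res f = x from funext hres]
    by_cases hle : Q (res f') ≤ Q (res f₀)
    · exact isMinOn_iff.1 hmin _ ⟨hmem f' hf' hd' hc', hle⟩
    · exact le_trans (show Q x ≤ Q (res f₀) from hx.2) (le_of_lt (not_le.1 hle))

/-- A `p`-subgroup is conjugate into the positive unipotent subgroup. -/
lemma isCandidate_posSet [Fintype F] {p : ℕ} [Fact p.Prime] [CharP F p]
    {U : Subgroup (GL D.Idx F)} (hUG : U ≤ D.group F) (hU : IsPGroup p ↥U) :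
    IsCandidate U (posSet T) := by
  classical
  have hUleG : D.posUnipotent F ≤ D.group F := h.posUnipotent_le_group
  have hcU : Nat.card ((D.posUnipotent F).subgroupOf (D.group F)) =
      p ^ (Nat.card ↥(D.group F)).factorization p := by
    rw [Nat.card_congr (Subgroup.subgroupOfEquivOfLe hUleG).toEquiv, h.card_posUnipotent,
      h.factorization_card_group]
  let P : Sylow p ↥(D.group F) := Sylow.ofCard _ hcU
  have hUp : IsPGroup p ↥(U.subgroupOf (D.group F)) :=
    hU.of_equiv (Subgroup.subgroupOfEquivOfLe hUG).symm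
  obtain ⟨Q, hQ⟩ := hUp.exists_le_sylow
  obtain ⟨x, hx⟩ := MulAction.exists_smul_eq ↥(D.group F) Q P
  refine ⟨((x⁻¹ : ↥(D.group F)) : GL D.Idx F), (x⁻¹).2, fun u hu => ?_⟩
  have h1 : MulAut.conj x ⟨u, hUG hu⟩ ∈ (P : Subgroup ↥(D.group F)) := by
    rw [← hx, Sylow.coe_subgroup_smul]
    exact Subgroup.smul_mem_pointwise_smul _ (MulAut.conj x) _
      (hQ (show (⟨u, hUG hu⟩ : ↥(D.group F)) ∈ U.subgroupOf (D.group F) from hu))
  rw [Sylow.coe_ofCard, Subgroup.mem_subgroupOf] at h1
  rw [← h.posUnipotent_eq]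
  simpa using h1

/-- The Borel–Tits property. -/
theorem borel_tits [Fintype F] {p : ℕ} [Fact p.Prime] [CharP F p]
    {U : Subgroup (GL D.Idx F)} (hUG : U ≤ D.group F) (hU : IsPGroup p ↥U) (hne : U ≠ ⊥) :
    ∃ g ∈ D.group F, ∃ J : Set ℕ, (∃ i, i < D.rank ∧ i ∉ J) ∧
      Subgroup.normalizer (U : Set (GL D.Idx F)) ⊓ D.group F ≤
        (D.parabolicSubgroup F J).map (MulAut.conj g).toMonoidHom ∧
      U ≤ (D.unipotentRadical F J).map (MulAut.conj g).toMonoidHom := by
  classical
  obtain ⟨f, hf, hd, ⟨g, hg, hgu⟩, hmin⟩ := h.exists_min_candidate (h.isCandidate_posSet hUG hU)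
  have hBN := h.borel_le_normalizer_levelSet (F := F) hf hd
  refine ⟨g, hg, zeroSimple T f, ?_, fun y hy => ?_, fun u hu => ?_⟩
  · -- `J` is proper
    obtain ⟨r, hr⟩ : (levelSet T f).Nonempty := by
      rw [Set.nonempty_iff_ne_empty]
      intro he
      refine hne ((Subgroup.eq_bot_iff_forall _).2 fun u hu => ?_)
      have h1 := hgu u hu
      rw [he, show gen D F (∅ : Set ℕ) = ⊥ by simp [gen], Subgroup.mem_bot] at h1
      rw [show u = g * (g⁻¹ * u * g) * g⁻¹ by group, h1]
      group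
    obtain ⟨-, k, hk, hkJ, -⟩ := h.mem_radSet_iff.1 (h.levelSet_subset_radSet hf hr)
    exact ⟨k, lt_of_lt_of_eq hk h.rank_eq.symm, hkJ⟩
  · obtain ⟨hyN, hyG⟩ := Subgroup.mem_inf.1 hy
    refine ⟨g⁻¹ * y * g, ?_, by simp [mul_assoc]⟩
    have hxG : g⁻¹ * y * g ∈ D.group F := mul_mem (mul_mem (inv_mem hg) hyG) hg
    obtain ⟨b, hb, n, hn, c, hc, ex⟩ := h.bruhat_exists hxG
    obtain ⟨w, hw, t, ht, rfl⟩ := h.exists_word_of_monomial hn
    have hwr : WordOK T w.reverse := fun i hi => hw i (List.mem_reverse.1 hi)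
    have hcB : c ∈ D.borelSubgroup F := by
      rw [h.cellUnipotent_eq (π := rword T w) fun r hr =>
        ⟨h.rword_lt hw hr, Maps_mul (h.Maps_diagonal ht hr) (h.Maps_nW hw hr)⟩] at hc
      exact Subgroup.mem_sup_left (h.gen_pos_le (fun r hr => hr.1) hc)
    have htcB : t * c ∈ D.borelSubgroup F := mul_mem (Subgroup.mem_sup_right ht) hcB
    set f' : ℕ → ℝ := fun r => f (rword T w.reverse r) with hf'def
    have hf' : LinFun T f' := h.linFun_comp_rword _ hwr hf
    by_cases hfix : ∀ r < T.n, f' r = f r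
    · -- the element is in the parabolic subgroup
      have hfix' : ∀ r < T.n, f (rword T w r) = f r := by
        intro r hr
        have h1 := hfix _ (h.rword_lt hw hr)
        have e := h.rword_reverse hwr hr
        rw [List.reverse_reverse] at e
        rw [hf'def] at h1
        simp only [e] at h1
        exact h1.symm
      rw [ex]
      exact mul_mem (mul_mem (Subgroup.mem_sup_left hb)
        (mul_mem (h.nW_mem_parabolic_of_fixed hf hd hw hfix')
          (Subgroup.mem_sup_left (Subgroup.mem_sup_right ht)))) (Subgroup.mem_sup_left hcB)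
    · -- otherwise the norm is not least
      exfalso
      simp only [not_forall] at hfix
      obtain ⟨r₀, hr₀, hne₀⟩ := hfix
      set f₂ : ℕ → ℝ := fun r => 1 / 2 * f r + 1 / 2 * f' r with hf₂def
      have hf₂ : LinFun T f₂ := hf.add_smul hf' _ _
      have hlt : sqNorm T f₂ < sqNorm T f :=
        sqNorm_mid_lt (h.sqNorm_comp_rword hwr f) ⟨r₀, hr₀, hne₀⟩
      obtain ⟨v, hv, hd₃⟩ := h.exists_dominant_word hf₂
      have hvr : WordOK T v.reverse := fun i hi => hv i (List.mem_reverse.1 hi)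
      have hf₃ := h.linFun_comp_rword v hv hf₂
      have hle := hmin _ hf₃ hd₃ ⟨g * b * (nW D F v.reverse)⁻¹,
        mul_mem (mul_mem hg (h.borel_le_group hb))
          (inv_mem (h.monomial_le_group (h.nW_mem_monomial hvr))), fun u hu => ?_⟩
      · rw [h.sqNorm_comp_rword hv] at hle
        linarith
      -- `b⁻¹ g⁻¹ u g b` lies in both subgroups
      have hu' : y⁻¹ * u * y ∈ U := (Subgroup.mem_normalizer_iff''.1 hyN u).1 hu
      set z := b⁻¹ * (g⁻¹ * u * g) * b with hz
      have hz1 : z ∈ gen D F (levelSet T f) := by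
        have := (Subgroup.mem_normalizer_iff''.1 (hBN hb) _).1 (hgu u hu)
        exact this
      have hz2 : z ∈ gen D F (levelSet T f') := by
        set z' := t * c * (g⁻¹ * (y⁻¹ * u * y) * g) * (t * c)⁻¹ with hz'
        have hz'L : z' ∈ gen D F (levelSet T f) :=
          (Subgroup.mem_normalizer_iff.1 (hBN htcB) _).1 (hgu _ hu')
        have ey : y = g * (b * (nW D F w * t) * c) * g⁻¹ := by rw [← ex]; group
        have ez : z = nW D F w * z' * (nW D F w)⁻¹ := by
          rw [hz', hz, ey]; group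
        rw [ez]
        refine h.mem_gen_of_conj_mem_pos hf hw hz'L ?_
        rw [← ez]
        exact Subgroup.mem_sup_left (h.gen_pos_le (fun r hr => hr.1) hz1)
      have hz3 : z ∈ gen D F (levelSet T f ∩ levelSet T f') :=
        h.gen_inf_gen_le (fun r hr => hr.1) (h.commClosed_levelSet hf) (fun r hr => hr.1)
          (h.commClosed_levelSet hf') ⟨hz1, hz2⟩
      have hz4 : nW D F v.reverse * z * (nW D F v.reverse)⁻¹ ∈
          gen D F (levelSet T fun r => f₂ (rword T v r)) := by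
        refine conj_gen_le (fun s hs => ⟨rword T v.reverse s, ?_, h.Maps_nW hvr hs.1.1.2⟩) hz3
        have hs' := hs.1.1.2
        have h1 : (1 : ℝ) ≤ f₂ (rword T v (rword T v.reverse s)) := by
          rw [h.rword_reverse hv hs', hf₂def]
          have := hs.1.2
          have := hs.2.2
          simp only; linarith
        exact ⟨⟨h.pos_of_linFun_pos hf₃ hd₃ (h.rword_lt hvr hs') (lt_of_lt_of_le one_pos h1),
          h.rword_lt hvr hs'⟩, h1⟩
      have e : (g * b * (nW D F v.reverse)⁻¹)⁻¹ * u * (g * b * (nW D F v.reverse)⁻¹) =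
          nW D F v.reverse * z * (nW D F v.reverse)⁻¹ := by
        rw [hz]; group
      rw [e]
      exact hz4
  · refine ⟨g⁻¹ * u * g, ?_, by simp [mul_assoc]⟩
    rw [h.unipotentRadical_eq]
    exact gen_mono D (h.levelSet_subset_radSet hf) (hgu u hu)

end Group

end Cert

end CfsgLib.Chev
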