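import Cfsg.Agent.Lib.Chev.CentRoot

/-!
The centralizer of a product of two dominant root elements.
-/

set_option autoImplicit false

namespace CfsgLib.Chev

open Cfsg.Lie Matrix

namespace Tab

variable (T : Tab)

/-- `O` is closed under the simple reflections. -/
def chkClosedOrbit (O : List ℕ) : Bool :=
  O.all fun r => decide (r < T.n) && (List.range T.l).all fun i => decide (T.refl i r ∈ O)

end Tab

namespace Cert

variable {D : ChevalleyDatum} {T : Tab} {C : Tab.Cover} (h : Cert D T C)
include h

omit h in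
lemma rword_mem_orbit {O : List ℕ} (hO : T.chkClosedOrbit O = true) : ∀ {w : List ℕ}, WordOK T w →
    ∀ {r : ℕ}, r ∈ O → rword T w r ∈ O := by
  intro w
  induction w with
  | nil => intro _ r hr; exact hr
  | cons i w ih =>
    intro hw r hr
    simp only [Tab.chkClosedOrbit, Bool.and_eq_true, List.all_eq_true, List.mem_range,
      decide_eq_true_eq] at hO
    rw [rword_cons]
    exact (hO _ (ih hw.tail hr)).2 i hw.head

variable {F : Type*} [Field F]

lemma prodX_filter (p : ℕ → Bool) : ∀ (M : List ℕ) (t : ℕ → F), (∀ r ∈ M, r < T.n) →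
    (∀ r ∈ M, p r = false → t r = 0) → prodX D M t = prodX D (M.filter p) t := by
  intro M
  induction M with
  | nil => intro t _ _; rfl
  | cons a M ih =>
    intro t hM ht
    have h1 := ih t (fun r hr => hM r (List.mem_cons_of_mem _ hr))
      (fun r hr => ht r (List.mem_cons_of_mem _ hr))
    unfold prodX at h1 ⊢
    cases hp : p a
    · rw [List.filter_cons_of_neg (by simp [hp]), List.map_cons, List.prod_cons, h1,
        ht a List.mem_cons_self hp, h.X_zero (hM a List.mem_cons_self), one_mul]
    · rw [List.filter_cons_of_pos (by simp [hp]), List.map_cons, List.map_cons, List.prod_cons,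
        List.prod_cons, h1]

/-- Coordinates of a product of two root elements. -/
lemma pair_eq_prodX {a b : ℕ} (hab : a < b) (ha : a ∈ posSet T) (hb : b ∈ posSet T) (x y : F) :
    X D a x * X D b y =
      prodX D (posList T) fun r => if r = a then x else if r = b then y else 0 := by
  rw [h.prodX_filter (fun r => decide (r = a) || decide (r = b)) _ _
    (fun r hr => (mem_posList.1 hr).2)
    (fun r _ hp => by simp only [Bool.or_eq_false_iff, decide_eq_false_iff_not] at hp; simp [hp])]
  have e : ((posList T).filter fun r => decide (r = a) || decide (r = b)) = [a, b] := by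
    refine List.Perm.eq_of_pairwise' (r := (· < ·)) ((sortedLT_posList (T := T)).pairwise.filter _) (List.pairwise_pair.2 hab) ?_
    refine (List.perm_ext_iff_of_nodup ((sortedLT_posList (T := T)).nodup.filter _)
      (by simp [hab.ne])).2 fun r => ?_
    simp only [List.mem_filter, mem_posList, Bool.or_eq_true, decide_eq_true_eq, List.mem_cons,
      List.not_mem_nil, or_false]
    refine ⟨fun h => h.2, fun hr => ⟨?_, hr⟩⟩
    rcases hr with rfl | rfl <;> assumption
  rw [e]
  simp [prodX, hab.ne']

/-- Two root elements in `U` with the same product have the same roots and parameters. -/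
lemma pair_unique {a b s s' : ℕ} (hab : a < b) (ha : a ∈ posSet T) (hb : b ∈ posSet T)
    (hs : s < T.n) (hs' : s' < T.n) (hne : s ≠ s') {x y z z' : F} (hx : x ≠ 0) (hy : y ≠ 0)
    (hz : z ≠ 0) (hz' : z' ≠ 0) (hcomm : Commute (X D s z) (X D s' z'))
    (e : X D s z * X D s' z' = X D a x * X D b y) :
    (s = a ∧ s' = b ∧ z = x ∧ z' = y) ∨ (s = b ∧ s' = a ∧ z = y ∧ z' = x) := by
  have hU : ∀ {r : ℕ} (t : F), T.half ≤ r → r < T.n → X D r t ∈ D.posUnipotent F :=
    fun {r} t h1 h2 => by
    rw [h.posUnipotent_eq]; exact X_mem_gen D (show r ∈ posSet T from ⟨h1, h2⟩) t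
  have hV : ∀ {r : ℕ} (t : F), r < T.half → X D r t ∈ D.negUnipotent F := fun {r} t h1 => by
    rw [h.negUnipotent_eq]; exact X_mem_gen D (show r ∈ {q : ℕ | q < T.half} from h1) t
  have hUV : ∀ g : GL D.Idx F, g ∈ D.posUnipotent F → g ∈ D.negUnipotent F → g = 1 :=
    fun g h1 h2 => by
      have h3 : g ∈ D.borelSubgroup F ⊓ D.negUnipotent F := ⟨Subgroup.mem_sup_left h1, h2⟩
      rwa [h.borel_inf_negUnipotent, Subgroup.mem_bot] at h3
  have hy' : X D a x * X D b y ∈ D.posUnipotent F :=
    mul_mem (hU x ha.1 ha.2) (hU y hb.1 hb.2)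
  have hsp : T.half ≤ s ∧ T.half ≤ s' := by
    by_cases h1 : T.half ≤ s <;> by_cases h2 : T.half ≤ s'
    · exact ⟨h1, h2⟩
    · exfalso
      have : X D s' z' ∈ D.posUnipotent F := by
        have := mul_mem (inv_mem (hU z h1 hs)) (e ▸ hy')
        rwa [inv_mul_cancel_left] at this
      exact hz' ((h.X_eq_one_iff hs' z').1 (hUV _ this (hV z' (not_le.1 h2))))
    · exfalso
      have : X D s z ∈ D.posUnipotent F := by
        have := mul_mem (e ▸ hy') (inv_mem (hU z' h2 hs'))
        rwa [mul_inv_cancel_right] at this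
      exact hz ((h.X_eq_one_iff hs z).1 (hUV _ this (hV z (not_le.1 h1))))
    · exfalso
      have h3 := hUV _ (e ▸ hy') (mul_mem (hV z (not_le.1 h1)) (hV z' (not_le.1 h2)))
      rw [e, h.pair_eq_prodX hab ha hb] at h3
      have h4 := h.prodX_inj (posList T) sortedLT_posList (fun r hr => mem_posList.1 hr) _
        (fun _ => 0) (h3.trans ?_) a (mem_posList.2 ha)
      · simp at h4; exact hx h4
      · unfold prodX
        refine (List.prod_eq_one fun g hg => ?_).symm
        obtain ⟨r, hr, rfl⟩ := List.mem_map.1 hg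
        exact h.X_zero (mem_posList.1 hr).2
  have key : ∀ {s s' : ℕ} {z z' : F}, s < s' → s ∈ posSet T → s' ∈ posSet T → z ≠ 0 → z' ≠ 0 →
      X D s z * X D s' z' = X D a x * X D b y → s = a ∧ s' = b ∧ z = x ∧ z' = y := by
    intro s s' z z' hlt hsP hsP' hz hz' e
    rw [h.pair_eq_prodX hlt hsP hsP', h.pair_eq_prodX hab ha hb] at e
    have hco := h.prodX_inj (posList T) sortedLT_posList (fun r hr => mem_posList.1 hr) _ _ e
    have hab' : s = a ∨ s = b := by
      by_contra hc
      rw [not_or] at hc
      have := hco s (mem_posList.2 hsP)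
      simp [hc.1, hc.2, hz] at this
    have hab2 : s' = a ∨ s' = b := by
      by_contra hc
      rw [not_or] at hc
      have := hco s' (mem_posList.2 hsP')
      simp [hc.1, hc.2, hlt.ne', hz'] at this
    obtain ⟨rfl, rfl⟩ : s = a ∧ s' = b := by omega
    have h1 := hco s (mem_posList.2 hsP)
    have h2 := hco s' (mem_posList.2 hsP')
    simp [hlt.ne'] at h1 h2
    exact ⟨rfl, rfl, h1, h2⟩
  rcases lt_or_gt_of_ne hne with hlt | hlt
  · exact Or.inl (key hlt ⟨hsp.1, hs⟩ ⟨hsp.2, hs'⟩ hz hz' e)
  · obtain ⟨h1, h2, h3, h4⟩ := key hlt ⟨hsp.2, hs'⟩ ⟨hsp.1, hs⟩ hz' hz (hcomm.symm.eq.trans e)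
    exact Or.inr ⟨h2, h1, h4, h3⟩

/-- The centralizer of a product of two dominant root elements of different lengths. -/
theorem centralizer_pair [CharP F 2] {a b : ℕ} {L O : List ℕ} (hab : a < b)
    (hchk : T.chkLevi [a, b] L = true) (hO : T.chkClosedOrbit O = true) (hbO : b ∈ O) (haO : a ∉ O) :
    D.group F ⊓ Subgroup.centralizer {X D b (1 : F) * X D a 1} = leviGen D F L := by
  have hcen : ∀ c ∈ [a, b], T.chkCentral c = true := by
    have h1 := hchk
    simp only [Tab.chkLevi, Bool.and_eq_true, List.all_eq_true] at h1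
    exact h1.1
  have hpos : ∀ c ∈ [a, b], c ∈ posSet T := fun c hc => by
    have := hcen c hc
    simp only [Tab.chkCentral, Bool.and_eq_true, decide_eq_true_eq] at this
    exact this.1
  have ha := hpos a (by simp)
  have hb := hpos b (by simp)
  have hcomm : ∀ x y : F, Commute (X D a x) (X D b y) := fun x y =>
    h.commute_central (hcen b (by simp)) ha.1 ha.2 x y
  refine le_antisymm (fun g hg => ?_) (le_inf ?_ ?_)
  · obtain ⟨hgG, hgc⟩ := hg
    have hgc' := Subgroup.mem_centralizer_singleton_iff.1 hgc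
    obtain ⟨b', hb', n, hn, u, hu, rfl⟩ := h.bruhat_exists hgG
    obtain ⟨w, hw, t₁, ht₁, rfl⟩ := h.exists_word_of_monomial hn
    have huU : u ∈ D.posUnipotent F := by
      rw [h.cellUnipotent_eq (π := rword T w) fun r hr =>
        ⟨h.rword_lt hw hr, Maps_mul (h.Maps_diagonal ht₁ hr) (h.Maps_nW hw hr)⟩] at hu
      rw [h.posUnipotent_eq]; exact gen_mono D Set.sdiff_subset hu
    obtain ⟨za, za', hza, hza', e1, e2⟩ := h.exists_conj_central (hcen a (by simp)) hb' huU
      (Maps_mul (h.Maps_diagonal ht₁ ha.2) (h.Maps_nW hw ha.2)) (one_ne_zero (α := F))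
    obtain ⟨zb, zb', hzb, hzb', e3, e4⟩ := h.exists_conj_central (hcen b (by simp)) hb' huU
      (Maps_mul (h.Maps_diagonal ht₁ hb.2) (h.Maps_nW hw hb.2)) (one_ne_zero (α := F))
    generalize hm : nW D F w * t₁ = m at e1 e3 hgc'
    have e5 : X D (rword T w a) za * X D (rword T w b) zb = X D a za' * X D b zb' := by
      rw [← e1, ← e2, ← e3, ← e4,
        show m * u * X D a 1 * (m * u)⁻¹ * (m * u * X D b 1 * (m * u)⁻¹) =
          m * u * (X D a 1 * X D b 1) * (m * u)⁻¹ by group, (hcomm 1 1).eq,
        eq_inv_mul_iff_mul_eq.2 (show b' * (m * u * (X D b 1 * X D a 1)) =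
          X D b 1 * X D a 1 * (b' * (m * u)) by simpa only [mul_assoc] using hgc'),
        show b'⁻¹ * X D a 1 * b' * (b'⁻¹ * X D b 1 * b') = b'⁻¹ * (X D a 1 * X D b 1) * b' by
          group, (hcomm 1 1).eq]
      group
    have hc' : Commute (X D (rword T w a) za) (X D (rword T w b) zb) := by
      rw [← e1, ← e3]
      exact (hcomm 1 1).map (MulAut.conj (m * u)).toMonoidHom
    have hne : rword T w a ≠ rword T w b := fun e => hab.ne (by
      have hwr : WordOK T w.reverse := fun i hi => hw i (List.mem_reverse.1 hi)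
      have e1 := h.rword_reverse hwr ha.2
      have e2 := h.rword_reverse hwr hb.2
      rw [List.reverse_reverse] at e1 e2
      rw [← e1, e, e2])
    rcases h.pair_unique hab ha hb (h.rword_lt hw ha.2) (h.rword_lt hw hb.2) hne hza' hzb' hza hzb
      hc' e5 with ⟨f1, f2, f3, f4⟩ | ⟨-, f2, -, -⟩
    swap
    · exact absurd (f2 ▸ rword_mem_orbit hO hw hbO) haO
    rw [f1, f3, ← e2] at e1
    rw [f2, f4, ← e4] at e3
    subst hm
    refine h.mem_leviGen_of_fix hchk hb' hw ht₁ huU (fun c hc => ?_) fun c hc => ?_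
    · simp only [List.mem_cons, List.not_mem_nil, or_false] at hc
      rcases hc with rfl | rfl
      exacts [f1, f2]
    · simp only [List.mem_cons, List.not_mem_nil, or_false] at hc
      generalize nW D F w * t₁ = m at e1 e3 ⊢
      show b' * m * u * X D c 1 = X D c 1 * (b' * m * u)
      rcases hc with rfl | rfl
      · rw [mul_inv_eq_iff_eq_mul] at e1
        rw [mul_assoc b' m u, mul_assoc, e1]; group
      · rw [mul_inv_eq_iff_eq_mul] at e3
        rw [mul_assoc b' m u, mul_assoc, e3]; group
  · exact (h.leviGen_le_centralizer hchk (a := a) (by simp) 1).trans inf_le_left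
  · intro g hg
    refine Subgroup.mem_centralizer_singleton_iff.2 ?_
    have h1 := Subgroup.mem_centralizer_singleton_iff.1
      (h.leviGen_le_centralizer hchk (a := a) (by simp) (1 : F) hg).2
    have h2 := Subgroup.mem_centralizer_singleton_iff.1
      (h.leviGen_le_centralizer hchk (a := b) (by simp) (1 : F) hg).2
    exact (Commute.mul_right h2 h1).eq

end Cert

end CfsgLib.Chev
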