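import Cfsg.Agent.Lib.Chev.Unipotent

/-!
The order of the diagonal subgroup over a finite field, from a diagonal form of the Cartan matrix.
-/

set_option autoImplicit false

namespace CfsgLib.Chev

open Cfsg.Lie

section MatHom

variable {l : ℕ} {G : Type*} [CommGroup G]

/-- An integer matrix as an endomorphism of `G^l`. -/
def matHom (M : Matrix (Fin l) (Fin l) ℤ) : (Fin l → G) →* (Fin l → G) where
  toFun c i := ∏ j, c j ^ M i j
  map_one' := by funext i; simp
  map_mul' c d := by funext i; simp [mul_zpow, Finset.prod_mul_distrib]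

lemma matHom_apply (M : Matrix (Fin l) (Fin l) ℤ) (c : Fin l → G) (i : Fin l) :
    matHom M c i = ∏ j, c j ^ M i j := rfl

lemma matHom_mul (M N : Matrix (Fin l) (Fin l) ℤ) (c : Fin l → G) :
    matHom (M * N) c = matHom M (matHom N c) := by
  funext i
  have key : ∀ (s : Finset (Fin l)) (g : G) (f : Fin l → ℤ),
      g ^ ∑ k ∈ s, f k = ∏ k ∈ s, g ^ f k := fun s g f => by
    induction s using Finset.cons_induction with
    | empty => simp
    | cons a s ha ih => rw [Finset.sum_cons, Finset.prod_cons, zpow_add, ih]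
  simp only [matHom_apply, Matrix.mul_apply, key]
  rw [Finset.prod_comm]
  refine Finset.prod_congr rfl fun k _ => ?_
  rw [← Finset.prod_zpow]
  refine Finset.prod_congr rfl fun j _ => ?_
  rw [← zpow_mul, mul_comm]

lemma matHom_one (c : Fin l → G) : matHom (1 : Matrix (Fin l) (Fin l) ℤ) c = c := by
  funext i
  rw [matHom_apply, Finset.prod_eq_single i]
  · simp
  · intro j _ hj
    rw [Matrix.one_apply_ne (Ne.symm hj), zpow_zero]
  · simp

lemma range_matHom_diag [Finite G] [IsCyclic G] (M U Ui V Vi : Matrix (Fin l) (Fin l) ℤ)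
    (d : Fin l → ℕ) (hU : U * Ui = 1) (hV : Vi * V = 1)
    (hD : V * M * U = Matrix.diagonal fun i => (d i : ℤ)) :
    (∏ i, Nat.gcd (Nat.card G) (d i)) * Nat.card (matHom (G := G) M).range = Nat.card G ^ l := by
  have h1 : (matHom (G := G) (V * M * U)).range =
      (matHom (G := G) M).range.map (matHom V) := by
    ext y
    simp only [MonoidHom.mem_range, Subgroup.mem_map]
    constructor
    · rintro ⟨c, rfl⟩
      exact ⟨matHom M (matHom U c), ⟨_, rfl⟩, by rw [matHom_mul, matHom_mul]⟩
    · rintro ⟨_, ⟨c, rfl⟩, rfl⟩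
      refine ⟨matHom Ui c, ?_⟩
      rw [matHom_mul, matHom_mul, ← matHom_mul U, hU, matHom_one]
  have hinj : Function.Injective (matHom (G := G) V) := fun a b e => by
    rw [← matHom_one a, ← matHom_one b, ← hV, matHom_mul, matHom_mul, e]
  have h2 : Nat.card (matHom (G := G) M).range =
      Nat.card (matHom (G := G) (V * M * U)).range := by
    rw [h1]
    exact Nat.card_congr ((Subgroup.equivMapOfInjective _ _ hinj).toEquiv)
  rw [h2, hD]
  have h3 : Nat.card (matHom (G := G) (Matrix.diagonal fun i => (d i : ℤ))).ker =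
      ∏ i, Nat.gcd (Nat.card G) (d i) := by
    have hap : ∀ (c : Fin l → G) i,
        matHom (Matrix.diagonal fun i => (d i : ℤ)) c i = c i ^ d i := by
      intro c i
      rw [matHom_apply, Finset.prod_eq_single i]
      · rw [Matrix.diagonal_apply_eq, zpow_natCast]
      · intro j _ hj
        rw [Matrix.diagonal_apply_ne _ (Ne.symm hj), zpow_zero]
      · simp
    let e : (matHom (G := G) (Matrix.diagonal fun i => (d i : ℤ))).ker ≃
        ∀ i, (powMonoidHom (d i) : G →* G).ker :=
      { toFun := fun c i => ⟨c.1 i, by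
          have := congrFun (MonoidHom.mem_ker.1 c.2) i
          rw [hap] at this
          exact MonoidHom.mem_ker.2 this⟩
        invFun := fun c => ⟨fun i => (c i).1, MonoidHom.mem_ker.2 <| funext fun i => by
          rw [hap]; exact MonoidHom.mem_ker.1 (c i).2⟩
        left_inv := fun c => rfl
        right_inv := fun c => rfl }
    rw [Nat.card_congr e, Nat.card_pi]
    exact Finset.prod_congr rfl fun i _ => IsCyclic.card_powMonoidHom_ker G (d i)
  rw [← h3, ← Subgroup.index_ker, Subgroup.card_mul_index, Nat.card_fun, Nat.card_fin]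

end MatHom

/-- `M j i = A_{p_i, p_j}`. -/
def cartanT (T : Tab) : Matrix (Fin T.l) (Fin T.l) ℤ := fun j i => T.car i (T.simple j)

namespace Cert

variable {D : ChevalleyDatum} {T : Tab} {C : Tab.Cover} (h : Cert D T C) {F : Type*} [Field F]
include h

lemma charOf_refl {c : ℕ → F} (hc : ∀ i < T.l, c i ≠ 0) {i r : ℕ} (hi : i < T.l) (hr : r < T.n) :
    charOf T c (T.refl i r) = charOf T c r * charOf T c (T.simple i) ^ (-T.car i r) := by
  rw [charOf, charOf, charOf, ← Finset.prod_zpow, ← Finset.prod_mul_distrib]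
  refine Finset.prod_congr rfl fun j hj => ?_
  have hj' := Finset.mem_range.1 hj
  rw [(h.refl_spec hi hr).2.2.2.2.2.2.2.1 j hj', ← _root_.zpow_mul,
    ← zpow_add₀ (hc j hj')]
  congr 1
  ring

omit h in
/-- Extend parameters on `Fin l` to `ℕ`. -/
def extC (T : Tab) (c : Fin T.l → Fˣ) (i : ℕ) : F :=
  if hi : i < T.l then (c ⟨i, hi⟩ : F) else 1

omit h in
lemma extC_ne_zero (c : Fin T.l → Fˣ) (i : ℕ) : extC T c i ≠ 0 := by
  unfold extC; split <;> simp

omit h in
lemma coe_matHom_cartanT (c : Fin T.l → Fˣ) (j : Fin T.l) :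
    ((matHom (cartanT T) c j : Fˣ) : F) = charOf T (extC T c) (T.simple j) := by
  rw [matHom_apply, charOf, Units.coe_prod, ← Fin.prod_univ_eq_prod_range]
  refine Finset.prod_congr rfl fun i _ => ?_
  simp [extC, cartanT, Units.val_zpow_eq_zpow_val]

omit h in
lemma torus_mul_torus (c d : Fin T.l → Fˣ) :
    torus D (charOf T (extC T (c * d))) =
      torus D (charOf T (extC T c)) * torus D (charOf T (extC T d)) := by
  rw [torus_mul]
  refine torus_congr D fun s _ => ?_
  rw [charOf, charOf, charOf, ← Finset.prod_mul_distrib]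
  refine Finset.prod_congr rfl fun i hi => ?_
  rw [← mul_zpow]
  simp [extC, Finset.mem_range.1 hi]

omit h in
/-- Parameters to diagonal elements. -/
noncomputable def torusHom : (Fin T.l → Fˣ) →* GL D.Idx F :=
  MonoidHom.toHomUnits
    { toFun := fun c => torus D (charOf T (extC T c))
      map_one' := by
        rw [← torus_one D]
        refine torus_congr D fun s _ => ?_
        refine Finset.prod_eq_one fun i _ => ?_
        simp [extC]
      map_mul' := fun c d => torus_mul_torus c d }

lemma range_torusHom : (torusHom (D := D) (T := T) (F := F)).range = D.diagonalSubgroup F := by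
  ext g
  rw [h.mem_diagonalSubgroup_iff, MonoidHom.mem_range]
  constructor
  · rintro ⟨c, rfl⟩
    exact ⟨extC T c, fun i _ => extC_ne_zero c i, rfl⟩
  · rintro ⟨c, hc, e⟩
    refine ⟨fun i => Units.mk0 (c i) (hc i i.2), Units.ext ?_⟩
    rw [e]
    refine torus_congr D fun s _ => ?_
    refine Finset.prod_congr rfl fun i hi => ?_
    simp [extC, Finset.mem_range.1 hi]

lemma ker_torusHom : (torusHom (D := D) (T := T) (F := F)).ker = (matHom (G := Fˣ) (cartanT T)).ker := by
  ext c
  rw [MonoidHom.mem_ker, MonoidHom.mem_ker]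
  have hiff : torusHom (D := D) (T := T) (F := F) c = 1 ↔ ∀ s < T.n, charOf T (extC T c) s = 1 := by
    rw [← Units.val_inj]
    show torus D (charOf T (extC T c)) = _ ↔ _
    rw [Units.val_one, ← torus_one D]
    constructor
    · intro e s hs
      have := congrFun (Matrix.diagonal_injective e) (Sum.inr ⟨s, by rwa [h.nroots_eq]⟩)
      exact this
    · intro e
      exact torus_congr D fun s hs => e s (by rwa [← h.nroots_eq])
  rw [hiff]
  constructor
  · intro e
    funext j
    refine Units.ext ?_
    rw [coe_matHom_cartanT, e _ (h.simple_lt j.2)]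
    rfl
  · intro e s hs
    have hc : ∀ i < T.l, extC T c i ≠ 0 := fun i _ => extC_ne_zero c i
    refine h.root_induction (P := fun s => charOf T (extC T c) s = 1) (fun i hi => ?_)
      (fun i hi r hr ih => ?_) hs
    · rw [show i = ((⟨i, hi⟩ : Fin T.l) : ℕ) from rfl, ← coe_matHom_cartanT, e]
      rfl
    · rw [h.charOf_refl hc hi hr, ih, one_mul,
        show charOf T (extC T c) (T.simple i) = 1 by
          rw [show i = ((⟨i, hi⟩ : Fin T.l) : ℕ) from rfl, ← coe_matHom_cartanT, e]; rfl,
        _root_.one_zpow]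

/-- The order of the diagonal subgroup. -/
theorem card_diagonal [Fintype F] (U Ui V Vi : Matrix (Fin T.l) (Fin T.l) ℤ)
    (d : Fin T.l → ℕ) (hU : U * Ui = 1) (hV : Vi * V = 1)
    (hD : V * cartanT T * U = Matrix.diagonal fun i => (d i : ℤ)) :
    (∏ i, Nat.gcd (Fintype.card F - 1) (d i)) * Nat.card (D.diagonalSubgroup F) =
      (Fintype.card F - 1) ^ T.l := by
  classical
  have hF : Nat.card Fˣ = Fintype.card F - 1 := by
    rw [Nat.card_units, Nat.card_eq_fintype_card]
  rw [← h.range_torusHom, ← Subgroup.index_ker, h.ker_torusHom, Subgroup.index_ker, ← hF]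
  exact range_matHom_diag (cartanT T) U Ui V Vi d hU hV hD

end Cert

end CfsgLib.Chev
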