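import Cfsg.Agent.Lib.Chev.Parabolic
import Cfsg.Agent.Lib.Chev.CentPair
import Cfsg.Agent.Lib.Chev.Order
import Cfsg.Agent.Lib.Chev.Simple
import Cfsg.Agent.Lib.Chev.DiagOrder

/-!
The radical of a parabolic subgroup contains its centralizer in the parabolic subgroup.
-/

set_option autoImplicit false

namespace CfsgLib.Chev

open Cfsg.Lie Matrix

set_option maxHeartbeats 1000000

namespace Cert

variable {D : ChevalleyDatum} {T : Tab} {C : Tab.Cover} (h : Cert D T C)
include h

/-- A strictly positive linear function on the positive roots. -/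
noncomputable def hgt (r : ℕ) : ℤ := ∑ k ∈ Finset.range T.l, h.wt k r

lemma hgt_pos {r : ℕ} (hr : r ∈ posSet T) : 0 < h.hgt r := by
  obtain ⟨k, hk, hne⟩ := h.exists_wt_ne hr.2
  refine Finset.sum_pos' (fun i hi => h.wt_nonneg (Finset.mem_range.1 hi) hr.2 hr.1)
    ⟨k, Finset.mem_range.2 hk, lt_of_le_of_ne (h.wt_nonneg hk hr.2 hr.1) (Ne.symm hne)⟩

lemma hgt_comm {r s : ℕ} (hr : r ∈ posSet T) (hs : s ∈ posSet T) {q : ℕ × ℤ × ℕ × ℕ}
    (hq : q ∈ T.commTerms r s) : h.hgt r < h.hgt q.1 ∧ h.hgt s < h.hgt q.1 := by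
  obtain ⟨a, b, ha, hb, e⟩ := h.commTerms_wt hr.2 hs.2 hq
  have e' : h.hgt q.1 = a * h.hgt r + b * h.hgt s := by
    simp only [hgt, e, Finset.mul_sum, ← Finset.sum_add_distrib]
  have ha' : (1 : ℤ) ≤ a := by exact_mod_cast ha
  have hb' : (1 : ℤ) ≤ b := by exact_mod_cast hb
  have := h.hgt_pos hr
  have := h.hgt_pos hs
  constructor <;> nlinarith

variable {F : Type*} [Field F]

/-- Coordinates of elements of a closed subgroup of `U`. -/
lemma exists_coords {S : Set ℕ} (hS : S ⊆ posSet T) (hc : CommClosed T S) {g : GL D.Idx F}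
    (hg : g ∈ gen D F S) :
    ∃ c : ℕ → F, g = prodX D (posList T) c ∧ ∀ r, r ∉ S → c r = 0 := by
  classical
  set L := (posList T).filter fun r => decide (r ∈ S) with hL
  have hLset : {r | r ∈ L} = S := by
    ext r
    simp only [hL, List.mem_filter, mem_posList, decide_eq_true_eq, Set.mem_ofPred_eq]
    exact ⟨fun h => h.2, fun h => ⟨hS h, h⟩⟩
  have hLs : L.SortedLT := (List.SortedLT.pairwise sortedLT_posList).filter _ |>.sortedLT
  rw [← hLset] at hg
  obtain ⟨c, rfl⟩ := h.exists_prodX L hLs (fun r hr => mem_posList.1 (List.mem_filter.1 hr).1)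
    (by rw [hLset]; exact hc) g hg
  refine ⟨fun r => if r ∈ S then c r else 0, ?_, fun r hr => if_neg hr⟩
  rw [h.prodX_filter (fun r => decide (r ∈ S)) (posList T) _ (fun r hr => (mem_posList.1 hr).2)
    (fun r _ hr => if_neg (by simpa using hr)), ← hL]
  refine congrArg List.prod (List.map_congr_left fun r hr => ?_)
  simp only [if_pos (show r ∈ S from of_decide_eq_true (List.mem_filter.1 hr).2)]

/-- A root element in a closed subgroup of `U` belongs to one of its roots. -/
lemma root_mem_of_X_mem_gen {S : Set ℕ} (hS : S ⊆ posSet T) (hc : CommClosed T S) {s : ℕ}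
    (hs : s < T.n) {z : F} (hz : z ≠ 0) (hm : X D s z ∈ gen D F S) : s ∈ S := by
  classical
  have hs' : s ∈ posSet T := by
    refine ⟨not_lt.1 fun hlt => hz ?_, hs⟩
    have h1 : X D s z ∈ D.borelSubgroup F ⊓ D.negUnipotent F := by
      refine ⟨Subgroup.mem_sup_left ?_, ?_⟩
      · rw [h.posUnipotent_eq]; exact gen_mono D hS hm
      · rw [h.negUnipotent_eq]; exact X_mem_gen D (show s ∈ {q : ℕ | q < T.half} from hlt) z
    rwa [h.borel_inf_negUnipotent, Subgroup.mem_bot, h.X_eq_one_iff hs] at h1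
  obtain ⟨c, e, hc0⟩ := h.exists_coords hS hc hm
  by_contra hns
  have hone : X D s z = prodX D (posList T) fun r => if r = s then z else 0 := by
    rw [h.prodX_filter (fun r => decide (r = s)) (posList T) _ (fun r hr => (mem_posList.1 hr).2)
      (fun r _ hr => if_neg (by simpa using hr))]
    have e1 : (posList T).filter (fun r => decide (r = s)) = [s] := by
      rw [show (fun r => decide (r = s)) = (fun r => r == s) from
          funext fun r => Bool.eq_iff_iff.2 (by rw [decide_eq_true_eq, beq_iff_eq]),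
        List.filter_beq, List.count_eq_one_of_mem (sortedLT_posList (T := T)).nodup
          (mem_posList.2 hs')]
      rfl
    rw [e1]
    simp [prodX]
  have := h.prodX_inj (posList T) sortedLT_posList (fun r hr => mem_posList.1 hr) _ _
    (hone.symm.trans e) s (mem_posList.2 hs')
  simp [hc0 s hns, hz] at this

lemma exists_word_neg {J : Set ℕ} : ∀ s, s ∈ posSet T → D.InRootSub J s →
    ∃ w, WordOK T w ∧ (∀ i ∈ w, i ∈ J) ∧ rword T w s < T.half := by
  intro s
  induction s using Nat.strong_induction_on with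
  | _ s ih =>
    rintro ⟨hh, hs⟩ hin
    obtain ⟨-, hwt⟩ := h.inRootSub_iff.1 hin
    rcases h.exists_lower hh hs with ⟨i, hi, rfl⟩ | ⟨i, hi, hlo, hlt, hcar⟩
    · have hiJ : i ∈ J := by
        by_contra hiJ
        have h1 := h.wt_simple hi hi
        rw [if_pos rfl, hwt i hi hiJ] at h1
        exact lt_irrefl 0 h1
      refine ⟨[i], fun a ha => by rw [List.mem_singleton.1 ha]; exact hi,
        fun a ha => by rw [List.mem_singleton.1 ha]; exact hiJ, ?_⟩
      show T.refl i (T.simple i) < T.half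
      rw [h.refl_simple hi]
      have hp := h.simple_spec hi
      by_contra hge
      have := (h.half_le_neg_iff hp.2.1).1 (not_lt.1 hge)
      omega
    · have hiJ : i ∈ J := by
        by_contra hiJ
        have h1 := h.wt_refl hi hs i
        have h2 := h.wt_nonneg hi (h.refl_lt hi hs) hlo
        have h3 := h.wt_simple hi hi
        rw [if_pos rfl] at h3
        rw [hwt i hi hiJ] at h1
        have := mul_pos hcar h3
        omega
      have hin' : D.InRootSub J (T.refl i s) :=
        h.inRootSub_iff.2 ⟨h.refl_lt hi hs, fun k hk hkJ => by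
          rw [h.wt_refl hi hs, h.wt_simple_of_ne hi hk (fun e => hkJ (by rwa [← e])), mul_zero,
            sub_zero, hwt k hk hkJ]⟩
      obtain ⟨w, hw, hwJ, hneg⟩ := ih _ hlt ⟨hlo, h.refl_lt hi hs⟩ hin'
      refine ⟨w ++ [i], fun a ha => ?_, fun a ha => ?_, ?_⟩
      · rcases List.mem_append.1 ha with ha | ha
        · exact hw a ha
        · rw [List.mem_singleton.1 ha]; exact hi
      · rcases List.mem_append.1 ha with ha | ha
        · exact hwJ a ha
        · rw [List.mem_singleton.1 ha]; exact hiJ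
      · rw [rword_append]
        exact hneg

lemma commClosed_keep {w : List ℕ} (hw : WordOK T w) :
    CommClosed T (posSet T ∩ {r | T.half ≤ rword T w r}) := by
  rintro r ⟨hr, hr2⟩ s ⟨hs, hs2⟩ hne q hq
  refine ⟨h.commClosed_posSet r hr s hs hne q hq, ?_⟩
  obtain ⟨a, b, ha, hb, he⟩ := h.commTerms_car hr.2 hs.2 hq
  have hlt := h.commTerms_lt hr.2 hs.2 hq
  have hl := h.car_rword_lin hlt hr.2 hs.2 he hw
  have hwr := h.rword_lt hw hr.2
  have hws := h.rword_lt hw hs.2
  have hwt : ∀ k, h.wt k (rword T w q.1) =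
      a * h.wt k (rword T w r) + b * h.wt k (rword T w s) := by
    intro k
    simp only [h.wt_eq_sum, Finset.mul_sum, ← Finset.sum_add_distrib]
    refine Finset.sum_congr rfl fun j hj => ?_
    rw [hl j (Finset.mem_range.1 hj)]
    ring
  obtain ⟨k, hk, hkne⟩ := h.exists_wt_ne hwr
  refine h.pos_of_wt_pos hk (h.rword_lt hw hlt) ?_
  have h1 : 0 < h.wt k (rword T w r) := lt_of_le_of_ne (h.wt_nonneg hk hwr hr2) (Ne.symm hkne)
  have h2 := h.wt_nonneg hk hws hs2
  rw [hwt k]
  have ha' : (0 : ℤ) < a := by exact_mod_cast ha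
  have hb' : (0 : ℤ) < b := by exact_mod_cast hb
  nlinarith

/-- An element whose conjugates by words over `J` stay in `U` is in the radical. -/
theorem mem_radical_of_conj {J : Set ℕ} {v : GL D.Idx F} (hv : v ∈ D.posUnipotent F)
    (hc : ∀ w, WordOK T w → (∀ i ∈ w, i ∈ J) → nW D F w * v * (nW D F w)⁻¹ ∈ D.posUnipotent F) :
    v ∈ gen D F (radSet D T J) := by
  classical
  obtain ⟨c, rfl⟩ := h.mem_posUnipotent_iff.1 hv
  have hzero : ∀ s ∈ posSet T, D.InRootSub J s → c s = 0 := by
    intro s hs hin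
    obtain ⟨w, hw, hwJ, hneg⟩ := h.exists_word_neg s hs hin
    obtain ⟨a, ha, b, hb, e⟩ := h.exists_split {r | T.half ≤ rword T w r} (posList T)
      sortedLT_posList (fun r hr => mem_posList.1 hr)
      (by rw [posList_set]; exact h.commClosed_posSet) (prodX D (posList T) c)
      (prodX_mem_gen _ _)
    rw [posList_set] at ha hb
    have ha' : nW D F w * a * (nW D F w)⁻¹ ∈ D.posUnipotent F := by
      rw [h.posUnipotent_eq]
      exact conj_gen_le (S' := posSet T)
        (fun r hr => ⟨rword T w r, ⟨hr.2, h.rword_lt hw hr.1.2⟩, h.Maps_nW hw hr.1.2⟩) ha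
    have hb' : nW D F w * b * (nW D F w)⁻¹ ∈ D.borelSubgroup F ⊓ D.negUnipotent F := by
      refine Subgroup.mem_inf.2 ⟨Subgroup.mem_sup_left ?_, ?_⟩
      · have := mul_mem (inv_mem ha') (hc w hw hwJ)
        rwa [e, show (nW D F w * a * (nW D F w)⁻¹)⁻¹ * (nW D F w * (a * b) * (nW D F w)⁻¹) =
          nW D F w * b * (nW D F w)⁻¹ by group] at this
      · rw [h.negUnipotent_eq]
        exact conj_gen_le (S' := {r | r < T.half})
          (fun r hr => ⟨rword T w r, (show rword T w r < T.half from not_le.1 hr.2),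
            h.Maps_nW hw hr.1.2⟩) hb
    rw [h.borel_inf_negUnipotent, Subgroup.mem_bot, conj_eq_one_iff] at hb'
    rw [hb', mul_one] at e
    obtain ⟨c', e', hc'⟩ := h.exists_coords (fun r hr => hr.1) (h.commClosed_keep hw) ha
    rw [h.prodX_inj (posList T) sortedLT_posList (fun r hr => mem_posList.1 hr) c c'
      (e.trans e') s (mem_posList.2 hs)]
    exact hc' s fun hm => absurd hm.2 (not_le.2 hneg)
  have hz : ∀ r ∈ posList T, decide (r ∈ radSet D T J) = false → c r = 0 := by
    intro r hr hp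
    rw [decide_eq_false_iff_not] at hp
    refine hzero r (mem_posList.1 hr) ?_
    by_contra hn
    exact hp ⟨mem_posList.1 hr, hn⟩
  rw [h.prodX_filter (fun r => decide (r ∈ radSet D T J)) (posList T) c
    (fun r hr => (mem_posList.1 hr).2) hz]
  have hsub : {r | r ∈ (posList T).filter fun r => decide (r ∈ radSet D T J)} ⊆ radSet D T J := by
    intro r hr
    have := (List.mem_filter.1 hr).2
    rwa [decide_eq_true_eq] at this
  refine gen_mono D hsub ?_
  exact prodX_mem_gen _ c

lemma car_symm {i j : ℕ} (hi : i < T.l) (hj : j < T.l) (hA : T.car j (T.simple i) = 0) :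
    T.car i (T.simple j) = 0 := by
  rcases eq_or_ne i j with rfl | hij
  · exact hA
  by_contra ha
  have hpj := h.simple_lt hj
  have hs := h.refl_lt hi hpj
  have hne : T.simple j ≠ T.simple i := fun e => by
    have h1 := h.wt_simple hj hj
    rw [if_pos rfl, e, h.wt_simple_of_ne hi hj hij] at h1
    exact lt_irrefl 0 h1
  have hp := (h.refl_spec hi hpj).2.2.2.1 (h.simple_spec hj).1 hne
  have hcar : T.car j (T.refl i (T.simple j)) = 2 := by
    rw [(h.refl_spec hi hpj).2.2.2.2.2.2.2.1 j hj, hA, (h.simple_spec hj).2.2.1]; ring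
  have wi := h.wt_simple hi hi
  have wj := h.wt_simple hj hj
  rw [if_pos rfl] at wi wj
  have e1 : h.wt i (T.refl i (T.simple j)) = -(T.car i (T.simple j)) * h.wt i (T.simple i) := by
    rw [h.wt_refl hi hpj, h.wt_simple_of_ne hj hi hij.symm]; ring
  have h0 := h.wt_nonneg hi hs hp
  have h1 : 0 < h.wt i (T.refl j (T.refl i (T.simple j))) := by
    rw [h.wt_refl hj hs, h.wt_simple_of_ne hj hi hij.symm, mul_zero, sub_zero]
    refine lt_of_le_of_ne h0 (Ne.symm ?_)
    rw [e1]
    exact mul_ne_zero (neg_ne_zero.2 ha) wi.ne'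
  have h2 : h.wt j (T.refl j (T.refl i (T.simple j))) < 0 := by
    rw [h.wt_refl hj hs, hcar, h.wt_refl hi hpj, h.wt_simple_of_ne hi hj hij]
    omega
  have := h.wt_nonneg hj (h.refl_lt hj hs) (h.pos_of_wt_pos hi (h.refl_lt hj hs) h1)
  omega

/-- Every simple root of `J` meets some root outside `Φ_J`. -/
lemma exists_rad_car (hconn : Connected T) {J : Set ℕ} (hJ : ∃ j, j < T.l ∧ j ∉ J) {i : ℕ}
    (hi : i < T.l) : ∃ r ∈ radSet D T J, T.car i r ≠ 0 := by
  by_contra hall
  push Not at hall
  obtain ⟨j, hj, hjJ⟩ := hJ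
  have hrad : ∀ {k}, k < T.l → k ∉ J → T.simple k ∈ radSet D T J := fun {k} hk hkJ => by
    refine h.mem_radSet_iff.2 ⟨h.simple_lt hk, k, hk, hkJ, ?_⟩
    have h1 := h.wt_simple hk hk
    rwa [if_pos rfl] at h1
  let Q : ℕ → Prop := fun a => ∀ r ∈ radSet D T J, T.car a r = 0
  have key : ∀ a b, a < T.l → b < T.l → T.car a (T.simple b) ≠ 0 → Q a → Q b := by
    intro a b ha hb hab hQ r hr
    by_cases hbJ : b ∈ J
    · have h1 := hQ _ (h.refl_radSet hb hbJ hr)
      rw [(h.refl_spec hb hr.1.2).2.2.2.2.2.2.2.1 a ha, hQ r hr] at h1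
      have h2 : T.car b r * T.car a (T.simple b) = 0 := by omega
      exact (mul_eq_zero.1 h2).resolve_right hab
    · exact absurd (hQ _ (hrad hb hbJ)) hab
  have hQj : Q j := hconn Q (fun a b ha hb hab => ⟨key a b ha hb hab,
    key b a hb ha fun e => hab (h.car_symm ha hb e)⟩) i j hi hj hall
  have := hQj _ (hrad hj hjJ)
  rw [(h.simple_spec hj).2.2.1] at this
  omega

lemma exists_chain_root {i r : ℕ} (hi : i < T.l) (hr : r < T.n) (hne : r ≠ T.simple i)
    (hne' : r ≠ T.neg (T.simple i)) (hneg : T.car i r < 0) :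
    ∃ u m, ((u, m), 1) ∈ (T.entry (T.simple i) r).zipIdx 1 := by
  have hw := h.refl_eq_reflCalc hi hr
  simp only [Tab.reflCalc, if_neg hne, if_neg hne', if_neg (not_lt.2 hneg.le), if_pos hneg] at hw
  have hl : T.entry (T.simple i) r ≠ [] := by
    intro e
    rw [Tab.chainRoot, e] at hw
    simp only [List.getElem?_nil, Option.map_none, Option.getD_none] at hw
    have h1 := congrArg (h.wt i) hw
    rw [h.wt_refl hi hr] at h1
    have wi := h.wt_simple hi hi
    rw [if_pos rfl] at wi
    have := mul_neg_of_neg_of_pos hneg wi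
    omega
  obtain ⟨⟨u, m⟩, L, e⟩ := List.exists_cons_of_ne_nil hl
  exact ⟨u, m, List.mk_mem_zipIdx_iff_le_and_getElem?_sub.2 ⟨le_rfl, by rw [e]; rfl⟩⟩

/-- The radical roots of bigger height. -/
def upSet (J : Set ℕ) (r : ℕ) : Set ℕ := {q | q ∈ radSet D T J ∧ h.hgt r < h.hgt q}

lemma commClosed_upSet (J : Set ℕ) (r : ℕ) : CommClosed T (h.upSet J r) :=
  fun _ ha _ hb _ _ hq => ⟨h.commTerms_radSet (Or.inl ha.1.1) hb.1 hq,
    hb.2.trans (h.hgt_comm ha.1.1 hb.1.1 hq).2⟩

/-- Conjugation by `U` keeps the leading root element. -/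
lemma unipotent_conj_leading {J : Set ℕ} {r : ℕ} (hr : r ∈ radSet D T J) {u : GL D.Idx F}
    (hu : u ∈ D.posUnipotent F) (a' : F) :
    ∃ Y ∈ gen D F (h.upSet J r), u * X D r a' * u⁻¹ = X D r a' * Y := by
  rw [h.posUnipotent_eq] at hu
  have key : ∀ g ∈ gen D F (posSet T),
      g ∈ Subgroup.normalizer (gen D F (h.upSet J r) : Set (GL D.Idx F)) ∧
        ∃ Y ∈ gen D F (h.upSet J r), g * X D r a' * g⁻¹ = X D r a' * Y := by
    have hnorm : gen D F (posSet T) ≤
        Subgroup.normalizer (gen D F (h.upSet J r) : Set (GL D.Idx F)) := by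
      rw [gen, Subgroup.closure_le]
      rintro _ ⟨s, hs, z, rfl⟩
      refine (le_normalizer_closure (H := gen D F {s}) fun g hg y hy => ?_)
        (X_mem_gen D (Set.mem_singleton s) z)
      obtain ⟨c, rfl⟩ := (h.gen_singleton hs.2).1 hg
      obtain ⟨q, hq, w, rfl⟩ := hy
      by_cases e : q = s
      · subst e
        rw [h.X_inv hs.2, h.X_add hs.2, h.X_add hs.2]
        exact X_mem_gen D hq _
      · exact h.X_conj_mem (S := h.upSet J r) hs.2 hq.1.1.2 e (posSet_neg_ne h hs hq.1.1) hq
          (fun p hp => ⟨h.commTerms_radSet (Or.inl hs) hq.1 hp,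
            hq.2.trans (h.hgt_comm hs hq.1.1 hp).2⟩) c w
    intro g hg
    refine ⟨hnorm hg, ?_⟩
    induction hg using Subgroup.closure_induction with
    | mem g hg =>
      obtain ⟨s, hs, z, rfl⟩ := hg
      by_cases e : r = s
      · subst e
        exact ⟨1, one_mem _, by rw [h.X_inv hs.2, h.X_add hs.2, h.X_add hs.2, mul_one]; ring_nf⟩
      · refine ⟨(X D r a')⁻¹ * (X D s z * X D r a' * (X D s z)⁻¹), ?_, by group⟩
        have hc := h.X_conj (F := F) hs.2 hr.1.2 e (posSet_neg_ne h hs hr.1) (-z) a'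
        rw [_root_.neg_neg, ← h.X_inv hs.2 z] at hc
        rw [hc, inv_mul_cancel_left]
        refine list_prod_mem fun y hy => ?_
        obtain ⟨q, hq, rfl⟩ := List.mem_map.1 hy
        exact X_mem_gen D (show q.1 ∈ h.upSet J r from
          ⟨h.commTerms_radSet (Or.inl hs) hr hq, (h.hgt_comm hs hr.1 hq).2⟩) _
    | one => exact ⟨1, one_mem _, by simp⟩
    | mul x y hx hy ihx ihy =>
      obtain ⟨A, hA, eA⟩ := ihx
      obtain ⟨B, hB, eB⟩ := ihy
      refine ⟨A * (x * B * x⁻¹), mul_mem hA ((Subgroup.mem_normalizer_iff.1 (hnorm hx) B).1 hB), ?_⟩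
      rw [show x * y * X D r a' * (x * y)⁻¹ = x * (y * X D r a' * y⁻¹) * x⁻¹ by group, eB,
        show x * (X D r a' * B) * x⁻¹ = (x * X D r a' * x⁻¹) * (x * B * x⁻¹) by group, eA, mul_assoc]
    | inv x hx ih =>
      obtain ⟨A, hA, eA⟩ := ih
      refine ⟨x⁻¹ * A⁻¹ * x, ?_, ?_⟩
      · have := (Subgroup.mem_normalizer_iff.1 (inv_mem (hnorm hx)) A⁻¹).1 (inv_mem hA)
        rwa [inv_inv] at this
      · rw [inv_inv]
        calc x⁻¹ * X D r a' * x = x⁻¹ * (X D r a' * A) * x * (x⁻¹ * A⁻¹ * x) := by group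
          _ = _ := by rw [← eA]; group
  exact (key u hu).2

/-- Conjugation by `B` keeps the leading root. -/
lemma borel_conj_leading {J : Set ℕ} {r : ℕ} (hr : r ∈ radSet D T J) {b : GL D.Idx F}
    (hb : b ∈ D.borelSubgroup F) :
    ∃ a : F, a ≠ 0 ∧ ∃ Y ∈ gen D F (h.upSet J r), b * X D r 1 * b⁻¹ = X D r a * Y := by
  obtain ⟨u, hu, t, ht, rfl⟩ := h.mem_borel_iff.1 hb
  obtain ⟨a, ha, e⟩ := h.conj_X_of_mem_diagonal (F := F) ht hr.1.2 1
  refine ⟨a * 1, by simpa using ha, ?_⟩
  rw [show u * t * X D r 1 * (u * t)⁻¹ = u * (t * X D r 1 * t⁻¹) * u⁻¹ by group, e]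
  exact h.unipotent_conj_leading hr hu _

/-- The centralizer of the radical in the parabolic subgroup is inside the radical. -/
theorem centralizer_radical_le (hconn : Connected T) {J : Set ℕ} (hJ : ∃ j, j < T.l ∧ j ∉ J)
    {g : GL D.Idx F} (hg : g ∈ D.parabolicSubgroup F J)
    (hc : ∀ x ∈ gen D F (radSet D T J), g * x * g⁻¹ = x) : g ∈ gen D F (radSet D T J) := by
  classical
  have hPn : ∀ p ∈ D.parabolicSubgroup F J, ∀ x ∈ gen D F (radSet D T J),
      p * x * p⁻¹ ∈ gen D F (radSet D T J) := by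
    intro p hp x hx
    rw [← h.unipotentRadical_eq] at hx ⊢
    exact (Subgroup.mem_normalizer_iff.1 (h.parabolic_le_normalizer J hp) x).1 hx
  -- conjugates keep the property
  have hconj : ∀ p ∈ D.parabolicSubgroup F J, ∀ y, (∀ x ∈ gen D F (radSet D T J), y * x * y⁻¹ = x) →
      ∀ x ∈ gen D F (radSet D T J), p * y * p⁻¹ * x * (p * y * p⁻¹)⁻¹ = x := by
    intro p hp y hy x hx
    have h1 := hy _ (hPn p⁻¹ (inv_mem hp) x hx)
    calc p * y * p⁻¹ * x * (p * y * p⁻¹)⁻¹ = p * (y * (p⁻¹ * x * p⁻¹⁻¹) * y⁻¹) * p⁻¹ := by group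
      _ = x := by rw [h1]; group
  -- the centralizer is inside `B`
  have hB : ∀ y ∈ D.parabolicSubgroup F J, (∀ x ∈ gen D F (radSet D T J), y * x * y⁻¹ = x) →
      y ∈ D.borelSubgroup F := by
    intro y hy hyc
    obtain ⟨b, hb, n, hn, u, hu, rfl⟩ := h.bruhat_exists
      (g := y) ((h.normalizer_radical (F := F) J).symm.le hy).2
    obtain ⟨w, hw, t, ht, rfl⟩ := h.exists_word_of_monomial hn
    have hu' : u ∈ D.borelSubgroup F := by
      rw [h.cellUnipotent_eq (π := rword T w) fun r hr =>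
        ⟨h.rword_lt hw hr, Maps_mul (h.Maps_diagonal ht hr) (h.Maps_nW hw hr)⟩] at hu
      refine Subgroup.mem_sup_left ?_
      rw [h.posUnipotent_eq]; exact gen_mono D Set.sdiff_subset hu
    have hbP : b ∈ D.parabolicSubgroup F J := Subgroup.mem_sup_left hb
    set b' := t * u * b with hb'
    have hb'B : b' ∈ D.borelSubgroup F := mul_mem (mul_mem (Subgroup.mem_sup_right ht) hu') hb
    have hn' : ∀ x ∈ gen D F (radSet D T J),
        nW D F w * b' * x * (nW D F w * b')⁻¹ = x := by
      intro x hx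
      have := hconj b⁻¹ (inv_mem hbP) _ hyc x hx
      rwa [show b⁻¹ * (b * (nW D F w * t) * u) * b⁻¹⁻¹ = nW D F w * b' by rw [hb']; group] at this
    have hfix : ∀ r ∈ radSet D T J, rword T w r = r := by
      obtain ⟨M, hM⟩ : ∃ M : ℤ, ∀ r, r < T.n → h.hgt r ≤ M :=
        ⟨∑ r ∈ Finset.range T.n, |h.hgt r|, fun r hr => (le_abs_self _).trans
          (Finset.single_le_sum (f := fun r => |h.hgt r|) (fun i _ => abs_nonneg _)
            (Finset.mem_range.2 hr))⟩
      intro r
      induction hk : (M - h.hgt r).toNat using Nat.strong_induction_on generalizing r with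
      | _ k ih =>
        intro hr
        obtain ⟨a, ha, Y, hY, e⟩ := h.borel_conj_leading hr hb'B
        have hY' : nW D F w * Y * (nW D F w)⁻¹ ∈ gen D F (h.upSet J r) := by
          refine conj_gen_le (S' := h.upSet J r) (fun q hq => ⟨q, hq, ?_⟩) hY
          have hq' := h.Maps_nW (F := F) hw hq.1.1.2
          have := hM q hq.1.1.2
          have := hq.2
          rwa [ih _ (by omega) q rfl hq.1] at hq'
        obtain ⟨c, hc0, em⟩ := h.Maps_nW (F := F) hw hr.1.2
        have e2 : X D (rword T w r) (c * a) * (nW D F w * Y * (nW D F w)⁻¹) = X D r 1 := by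
          rw [← em a]
          refine Eq.trans ?_ (hn' _ (X_mem_gen D hr 1))
          calc nW D F w * X D r a * (nW D F w)⁻¹ * (nW D F w * Y * (nW D F w)⁻¹)
              = nW D F w * (X D r a * Y) * (nW D F w)⁻¹ := by group
            _ = _ := by rw [← e]; group
        set S := insert r (h.upSet J r) with hS
        have hSsub : S ⊆ posSet T := by
          rintro q (rfl | hq)
          · exact hr.1
          · exact hq.1.1
        have hScl : CommClosed T S := by
          intro p hp q hq hne z hz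
          refine Or.inr ?_
          have hp1 : p ∈ radSet D T J ∧ h.hgt r ≤ h.hgt p := by
            rcases hp with rfl | hp
            · exact ⟨hr, le_rfl⟩
            · exact ⟨hp.1, hp.2.le⟩
          have hq1 : q ∈ radSet D T J ∧ h.hgt r ≤ h.hgt q := by
            rcases hq with rfl | hq
            · exact ⟨hr, le_rfl⟩
            · exact ⟨hq.1, hq.2.le⟩
          exact ⟨h.commTerms_radSet (Or.inl hp1.1.1) hq1.1 hz,
            lt_of_le_of_lt hq1.2 (h.hgt_comm hp1.1.1 hq1.1.1 hz).2⟩
        have hm : X D (rword T w r) (c * a) ∈ gen D F S := by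
          rw [eq_mul_inv_iff_mul_eq.2 e2]
          exact mul_mem (X_mem_gen D (Set.mem_insert r _) 1)
            (inv_mem (gen_mono D (Set.subset_insert r _) hY'))
        rcases h.root_mem_of_X_mem_gen hSsub hScl (h.rword_lt hw hr.1.2) (mul_ne_zero hc0 ha) hm
          with e3 | e3
        · exact e3
        · exfalso
          have h1 : X D r (1 : F) ∈ gen D F (h.upSet J r) := by
            rw [← e2]; exact mul_mem (X_mem_gen D e3 _) hY'
          exact lt_irrefl _ (h.root_mem_of_X_mem_gen (fun q hq => hq.1.1) (h.commClosed_upSet J r)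
            hr.1.2 one_ne_zero h1).2
    have hdiag : nW D F w ∈ D.diagonalSubgroup F := by
      refine h.nW_mem_diagonal hw fun i hi => ?_
      by_contra hneg
      by_cases hiJ : i ∈ J
      · obtain ⟨r, hr, hne⟩ := h.exists_rad_car hconn hJ hi
        have hr2 := h.refl_radSet hi hiJ hr
        have h1 : ∀ k, h.wt k (rword T w (T.simple i)) = h.wt k (T.simple i) := by
          intro k
          have e1 := h.wt_rword_refl hw hi hr.1.2 k
          rw [hfix _ hr2, hfix _ hr, h.wt_refl hi hr.1.2] at e1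
          have : T.car i r * (h.wt k (rword T w (T.simple i)) - h.wt k (T.simple i)) = 0 := by
            linarith
          rcases mul_eq_zero.1 this with a | a
          · exact absurd a hne
          · omega
        have h2 := h.wt_simple hi hi
        rw [if_pos rfl, ← h1 i] at h2
        exact hneg (h.pos_of_wt_pos hi (h.rword_lt hw (h.simple_lt hi)) h2)
      · have hin : T.simple i ∈ radSet D T J := by
          refine h.mem_radSet_iff.2 ⟨h.simple_lt hi, i, hi, hiJ, ?_⟩
          have h1 := h.wt_simple hi hi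
          rwa [if_pos rfl] at h1
        exact hneg (by rw [hfix _ hin]; exact (h.simple_spec hi).1)
    exact mul_mem (mul_mem hb (Subgroup.mem_sup_right (mul_mem hdiag ht))) hu'
  -- inside `U`
  have hU : ∀ y ∈ D.parabolicSubgroup F J, (∀ x ∈ gen D F (radSet D T J), y * x * y⁻¹ = x) →
      y ∈ D.posUnipotent F := by
    intro y hy hyc
    obtain ⟨v, hv, t, ht, rfl⟩ := h.mem_borel_iff.1 (hB y hy hyc)
    obtain ⟨c, hc0, ec⟩ := h.mem_diagonalSubgroup_iff.1 ht
    have hchar := h.isChar_charOf (F := F) hc0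
    have hone : ∀ r ∈ radSet D T J, charOf T c r = 1 := by
      intro r hr
      obtain ⟨Y, hY, e⟩ := h.unipotent_conj_leading (J := J) hr hv (charOf T c r * 1)
      have e1 : t * X D r (1 : F) * t⁻¹ = X D r (charOf T c r * 1) := by
        rw [mul_inv_eq_iff_eq_mul]
        refine Units.ext ?_
        rw [Units.val_mul, Units.val_mul, h.coe_X, h.coe_X, ec, h.torus_mul_x hchar hr.1.2]
      rw [← e1, show v * (t * X D r 1 * t⁻¹) * v⁻¹ = v * t * X D r 1 * (v * t)⁻¹ by group,
        hyc _ (X_mem_gen D hr 1), e1, ← inv_mul_eq_iff_eq_mul, h.X_inv hr.1.2, h.X_add hr.1.2] at e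
      by_contra hne
      have hm : X D r (-(charOf T c r * 1) + 1) ∈ gen D F (h.upSet J r) := by rw [e]; exact hY
      exact lt_irrefl _ (h.root_mem_of_X_mem_gen (fun q hq => hq.1.1) (h.commClosed_upSet J r)
        hr.1.2 (fun h0 => hne (by linear_combination -h0)) hm).2
    have hsimple : ∀ i < T.l, charOf T c (T.simple i) = 1 := by
      intro i hi
      by_cases hiJ : i ∈ J
      · obtain ⟨r, hr, hne⟩ := h.exists_rad_car hconn hJ hi
        obtain ⟨r', hr', hneg⟩ : ∃ r' ∈ radSet D T J, T.car i r' < 0 := by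
          rcases lt_or_gt_of_ne hne with hlt | hgt
          · exact ⟨r, hr, hlt⟩
          · refine ⟨_, h.refl_radSet hi hiJ hr, ?_⟩
            rw [(h.refl_spec hi hr.1.2).2.2.2.2.2.2.2.1 i hi, (h.simple_spec hi).2.2.1]
            omega
        have hp := h.simple_spec hi
        have hne1 : r' ≠ T.simple i := fun e => by rw [e, hp.2.2.1] at hneg; omega
        have hne2 : r' ≠ T.neg (T.simple i) := fun e =>
          hr'.2 (e ▸ h.inRootSub_neg (h.inRootSub_simple hi hiJ))
        obtain ⟨u, m, hm⟩ := h.exists_chain_root hi hr'.1.2 hne1 hne2 hneg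
        have e1 := hchar.chain _ hp.2.1 _ hr'.1.2 _ hm
        have hu : u ∈ radSet D T J := by
          obtain ⟨-, k, hk, hkJ, hpos⟩ := h.mem_radSet_iff.1 hr'
          refine h.mem_radSet_iff.2 ⟨h.entry_lt hp.2.1 hr'.1.2 hm, k, hk, hkJ, ?_⟩
          have := h.wt_lin hp.2.1 hr'.1.2 hm k
          simp only at this
          rw [this, h.wt_simple_of_ne hi hk (fun e => hkJ (by rwa [← e])), mul_zero, add_zero]
          exact hpos
        simp only [hone u hu, hone r' hr', pow_one, one_mul] at e1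
        exact e1.symm
      · refine hone _ (h.mem_radSet_iff.2 ⟨h.simple_lt hi, i, hi, hiJ, ?_⟩)
        have h1 := h.wt_simple hi hi
        rwa [if_pos rfl] at h1
    have ht1 : t = 1 := by
      refine Units.ext ?_
      rw [ec, Units.val_one, ← torus_one D]
      refine torus_congr D fun s hs => ?_
      refine h.root_induction (P := fun r => charOf T c r = 1) hsimple (fun i hi r hr ih => ?_)
        (lt_of_lt_of_eq hs h.nroots_eq)
      rw [h.charOf_refl hc0 hi hr, ih, hsimple i hi, _root_.one_zpow, mul_one]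
    rw [ht1, mul_one]
    exact hv
  refine h.mem_radical_of_conj (hU g hg hc) fun w hw hwJ => ?_
  have hwP : nW D F w ∈ D.parabolicSubgroup F J := by
    refine list_prod_mem fun x hx => ?_
    obtain ⟨i, hi, rfl⟩ := List.mem_map.1 hx
    exact h.nS_mem_parabolic (hw i hi) (hwJ i hi)
  exact hU _ (mul_mem (mul_mem hwP hg) (inv_mem hwP)) (hconj _ hwP g hc)

end Cert

end CfsgLib.Chev
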