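import Cfsg.Agent.Lib.Chev.TwistGroup

/-!
The (B, N)-pair of the fixed points of a root-permuting endomorphism, and what follows from it.
-/

set_option autoImplicit false

namespace CfsgLib.Chev

open Cfsg.Lie Matrix

/-- The check for the irreducibility of the classes: each class but the first meets an earlier one
which does not commute with it. -/
def chkLink (T : Tab) (CL : List Cls) : Bool :=
  (CL.all fun c => decide (c.mem ≠ [])) &&
  (List.range CL.length).all fun b => decide (b = 0) || (List.range b).any fun a =>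
    (List.range T.n).any fun r => decide
      (rword T ((CL.getD a ⟨[], []⟩).word ++ (CL.getD b ⟨[], []⟩).word) r ≠
        rword T ((CL.getD b ⟨[], []⟩).word ++ (CL.getD a ⟨[], []⟩).word) r)

/-- The check that the class of a base orbit is closed, stable and does not produce its root. -/
def chkBase (T : Tab) (ρ : ℕ → ℕ) (base : List Orb) : Bool :=
  base.all fun b => let P := b.list ρ ++ b.tail
    decide (b.size ≠ 0) && (P.all fun a => decide (T.half ≤ a ∧ a < T.n) && (P.contains (ρ a) &&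
      P.all fun c => decide (c = a) || (termRoots T a c).all fun q =>
        P.contains q && decide (q ≠ b.root)))

namespace Endo

open Cert (cellUnipotent Maps_mul Maps_inv diagonal_le_monomial conj_gen_le mem_cellList
  cellList_set sortedLT_cellList)

variable {D : ChevalleyDatum} {T : Tab} {C : Tab.Cover} {h : Cert D T C} {F : Type*} [Field F]
  (E : Endo h F)

lemma comm_of_fix {m : GL D.Idx F} {w : List ℕ} (hw : WordOK T w) (hm : m ∈ E.fix)
    (hmn : m ∈ D.monomialSubgroup F) (hM : ∀ r < T.n, Maps D m r (rword T w r)) : E.Comm w :=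
  fun r hr => by
    have hlt := h.rword_lt hw hr
    have h1 := E.Maps_act hmn hr hlt (hM r hr)
    rw [E.act_of_fix hm] at h1
    exact h.Maps_unique (E.sym.lt _ hlt) (h.rword_lt hw (E.sym.lt r hr)) h1
      (hM _ (E.sym.lt r hr))

/-- The longest word commutes with the symmetry. -/
lemma exists_longest_comm :
    ∃ w, WordOK T w ∧ E.Comm w ∧ ∀ r, T.half ≤ r → r < T.n → rword T w r < T.half := by
  obtain ⟨w, hw, hneg⟩ := h.exists_longest
  refine ⟨w, hw, fun r hr => ?_, hneg⟩
  have hwπ := E.sym.wordOK hw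
  have hneg' : ∀ s, T.half ≤ s → s < T.n → rword T (w.map E.π) s < T.half := by
    intro s hs hs'
    obtain ⟨a, ha, rfl⟩ : ∃ a, a < T.n ∧ E.ρ a = s := by
      obtain ⟨⟨a, ha⟩, e⟩ := Finite.injective_iff_surjective.1
        (show Function.Injective fun a : Fin T.n => (⟨E.ρ a, E.sym.lt a a.2⟩ : Fin T.n) from
          fun a b e => Fin.ext (E.sym.inj a a.2 b b.2 (congrArg Fin.val e))) ⟨s, hs'⟩
      exact ⟨a, ha, congrArg Fin.val e⟩
    rw [← E.sym.rword hw h a ha]
    have h1 := hneg a ((E.sym.pos a ha).1 hs) ha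
    have := E.sym.pos _ (h.rword_lt hw ha)
    omega
  have hok : WordOK T (w.reverse ++ w.map E.π) := fun i hi =>
    (List.mem_append.1 hi).elim (fun hi => hw i (List.mem_reverse.1 hi)) (hwπ i)
  have hfix : ∀ s < T.n, rword T (w.reverse ++ w.map E.π) s = s := fun s hs => by
    refine h.rword_eq_self hok (fun i hi => ?_) hs
    obtain ⟨hp1, hp2, -⟩ := h.simple_spec hi
    rw [rword_append]
    have hx := h.rword_lt hwπ hp2
    have hlt := hneg' _ hp1 hp2
    by_contra hn
    have hwr : WordOK T w.reverse := fun i hi => hw i (List.mem_reverse.1 hi)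
    have hy := h.rword_lt hwr hx
    have h2 := hneg _ ((h.half_le_neg_iff hy).2 (not_le.1 hn)) (Cert.neg_lt (T := T) hy)
    rw [h.rword_neg hw hy, h.rword_reverse hw hx] at h2
    exact absurd ((h.half_le_neg_iff hx).2 hlt) (not_le.2 h2)
  rw [E.sym.rword hw h r hr]
  have h1 := congrArg (rword T w) (hfix _ (E.sym.lt r hr))
  rw [rword_append, h.rword_reverse hw (h.rword_lt hwπ (E.sym.lt r hr))] at h1
  exact h1

variable {d : Data T} {e Q : ℕ}

lemma layer_root_mem {ρ : ℕ → ℕ} : ∀ {L : List Orb}, chkLayers T ρ L = true → ∀ {o}, o ∈ L →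
    (∀ a ∈ o.list ρ, a ∈ posSet T) ∧ o.root ∈ o.list ρ ∧ o.size ≠ 0 ∧
      ∀ a ∈ o.tail, a ∈ posSet T
  | [], _, _, ho => absurd ho List.not_mem_nil
  | a :: L, hl, o, ho => by
    simp only [chkLayers, Bool.and_eq_true] at hl
    rcases List.mem_cons.1 ho with rfl | ho
    · have hl' := Layer.of_chk hl.1
      refine ⟨hl'.pos, hl'.mem_root, hl'.size, fun q hq => ?_⟩
      obtain ⟨x, hx, y, hy, hne, c, hc, rfl⟩ := hl'.tail q hq
      have hflat := flatOrbs_spec (L := o :: L) (ρ := ρ) (T := T)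
        (by simp only [chkLayers, Bool.and_eq_true]; exact hl)
      refine (hflat.2.1 c.1 ?_).1
      have e1 : flatOrbs ρ (o :: L) = o.list ρ ++ flatOrbs ρ L := by simp [flatOrbs]
      rw [e1]
      refine List.mem_append_right _ ?_
      rcases hc with hc | hc
      · exact (hl'.terms x hx y (List.mem_append_left _ hy) hne).1 c hc
      · exact (hl'.terms x hx y (List.mem_append_left _ hy) hne).2 c hc
    · exact layer_root_mem hl.2 ho

lemma exists_nonzero (hQ : 2 ≤ Q) (hcard : ∀ o ∈ d.L, Nat.card (E.Adm o) ^ e = Q ^ o.size)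
    (hl : chkLayers T E.ρ d.L = true) {o : Orb} (ho : o ∈ d.L) : ∃ t ∈ E.Adm o, t ≠ 0 := by
  by_contra hne
  push Not at hne
  obtain ⟨hpos, hroot, hsize, -⟩ := layer_root_mem hl ho
  have h0 : (0 : F) ∈ E.Adm o := E.τn_zero _ (hpos _ hroot).2
  have h1 : Nat.card (E.Adm o) = 1 := by
    rw [Nat.card_eq_one_iff_exists]
    exact ⟨⟨0, h0⟩, fun t => Subtype.ext (hne t t.2)⟩
  have h2 := hcard o ho
  rw [h1, one_pow] at h2
  have := Nat.one_lt_pow hsize (show 1 < Q by omega)
  omega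

/-- A nontrivial fixed element in the unipotent radical of a class. -/
lemma exists_class_elt (hok : E.DataOK d) (hlift : ∀ o ∈ d.L, E.Lift E.fix o) (hQ : 2 ≤ Q)
    (hcard : ∀ o ∈ d.L, Nat.card (E.Adm o) ^ e = Q ^ o.size) [Finite F] {c : Cls} (hc : c ∈ d.CL)
    (hne : c.mem ≠ []) :
    ∃ u ∈ E.fix, u ≠ 1 ∧ u ∈ gen D F {r | r ∈ cellList T c.word} := by
  obtain ⟨i, L', e1⟩ := List.exists_cons_of_ne_nil hne
  have him : i ∈ c.mem := by rw [e1]; exact List.mem_cons_self
  have hi := hok.cls.lt c hc i him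
  have hw := hok.cls.wordOK E hc
  set P : Set ℕ := {r | r ∈ cellList T c.word} with hP
  have hPi : T.simple i ∈ P := mem_cellList.2
    ⟨⟨(h.simple_spec hi).1, h.simple_lt hi⟩, hok.cls.negs c hc i him⟩
  have h1 := E.fix_gen' hok hlift hcard (P := P) (fun r hr => (mem_cellList.1 hr).1)
    (h.commClosed_cellList hw) (fun s hs => E.cellList_stable hw (hok.cls.comm c hc) hs)
    (cellList T c.word) (sortedLT_cellList _).nodup fun r => Iff.rfl
  have h2 := h1.2
  by_contra hno
  push Not at hno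
  have h3 : Nat.card ↥(E.fix ⊓ gen D F P) = 1 := by
    rw [Nat.card_eq_one_iff_exists]
    refine ⟨1, fun u => Subtype.ext ?_⟩
    by_contra hu
    exact hno u.1 u.2.1 hu u.2.2
  rw [h3, one_pow] at h2
  have hlen : (cellList T c.word).length ≠ 0 := fun e0 =>
    by
    have hm : T.simple i ∈ cellList T c.word := hPi
    rw [List.length_eq_zero_iff.1 e0] at hm
    exact List.not_mem_nil hm
  have := Nat.one_lt_pow hlen (show 1 < Q by omega)
  omega

include h in
lemma wt_rword_of_not_mem {c : List ℕ} : ∀ {u : List ℕ}, WordOK T u → (∀ j ∈ u, j ∈ c) →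
    ∀ {r m : ℕ}, r < T.n → m < T.l → m ∉ c → h.wt m (rword T u r) = h.wt m r
  | [], _, _, _, _, _, _, _ => rfl
  | j :: u, hu, hc, r, m, hr, hm, hn => by
    rw [rword_cons, h.wt_refl hu.head (h.rword_lt hu.tail hr),
      h.wt_simple_of_ne hu.head hm (fun e => hn (e ▸ hc j List.mem_cons_self)), mul_zero, sub_zero,
      wt_rword_of_not_mem hu.tail (fun a ha => hc a (List.mem_cons_of_mem _ ha)) hr hm hn]

include h in
lemma pos_rword_of_not_mem {c : List ℕ} {u : List ℕ} (hu : WordOK T u) (hc : ∀ j ∈ u, j ∈ c)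
    {m : ℕ} (hm : m < T.l) (hn : m ∉ c) : T.half ≤ rword T u (T.simple m) := by
  have hp := h.simple_lt hm
  refine h.pos_of_wt_pos hm (h.rword_lt hu hp) ?_
  rw [wt_rword_of_not_mem (h := h) hu hc hp hm hn]
  refine lt_of_le_of_ne (h.wt_nonneg hm hp (h.simple_spec hm).1) fun e0 => ?_
  have := (h.wt_eq_zero_iff hm hp).1 e0.symm
  rw [(h.simple_spec hm).2.2.2 m hm, if_pos rfl] at this
  exact one_ne_zero this

/-- A commuting word in the letters of one class is trivial or the word of the class. -/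
lemma class_word_dichotomy {CL : List Cls} (hC : E.ClsOK CL) {c : Cls} (hc : c ∈ CL) {w u : List ℕ}
    (hw : WordOK T w) (hwc : E.Comm w) (hu : WordOK T u) (huc : ∀ j ∈ u, j ∈ c.mem)
    (e : SameAct T w u) :
    (∀ r < T.n, rword T w r = r) ∨ SameAct T w c.word := by
  have hv := hC.wordOK E hc
  by_cases hpos : ∀ i ∈ c.mem, T.half ≤ rword T w (T.simple i)
  · refine Or.inl fun r hr => h.rword_eq_self hw (fun m hm => ?_) hr
    by_cases hmc : m ∈ c.mem
    · exact hpos m hmc
    · rw [e _ (h.simple_lt hm)]; exact pos_rword_of_not_mem (h := h) hu huc hm hmc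
  · push Not at hpos
    obtain ⟨i, hic, hneg⟩ := hpos
    have hi := hC.lt c hc i hic
    have hall : ∀ m ∈ c.mem, m < T.l → rword T w (T.simple m) < T.half := by
      intro m hm _
      obtain ⟨k, rfl⟩ := hC.cyc c hc i hic m hm
      clear hm
      have hpil : ∀ n, E.π^[n] i < T.l := fun n => by
        induction n with
        | zero => exact hi
        | succ n ih => rw [Function.iterate_succ_apply']; exact E.sym.pi_lt _ ih
      have : ∀ n, rword T w (T.simple (E.π^[n] i)) < T.half := fun n => by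
        induction n with
        | zero => exact hneg
        | succ n ih =>
          rw [Function.iterate_succ_apply']
          exact (E.pos_iff_of_comm hw hwc (hpil n)).2 ih
      exact this k
    refine Or.inr fun r hr => ?_
    have hwv : WordOK T (w ++ c.word) := fun a ha => (List.mem_append.1 ha).elim (hw a) (hv a)
    have hid : ∀ r < T.n, rword T (w ++ c.word) r = r := fun r hr => by
      refine h.rword_eq_self hwv (fun m hm => ?_) hr
      have hp := h.simple_lt hm
      by_cases hmc : m ∈ c.mem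
      · have hx := h.rword_lt hv hp
        have hy : T.half ≤ T.neg (rword T c.word (T.simple m)) :=
          (h.half_le_neg_iff hx).2 (hC.negs c hc m hmc)
        have hnx := Cert.neg_lt (T := T) hx
        have hvy : rword T c.word (T.neg (rword T c.word (T.simple m))) < T.half := by
          rw [h.rword_neg hv hx, hC.invol c hc _ hp]
          exact not_le.1 fun e => absurd ((h.half_le_neg_iff hp).1 e)
            (not_lt.2 (h.simple_spec hm).1)
        have h2 := neg_of_class (h := h) hw hall hy hnx (hC.supp c hc _ hnx hy hvy)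
        rw [h.rword_neg hw hx] at h2
        rw [rword_append]
        by_contra hn
        exact absurd ((h.half_le_neg_iff (h.rword_lt hw hx)).2 (not_le.1 hn)) (not_le.2 h2)
      · rw [rword_append, e _ (h.rword_lt hv hp), ← rword_append]
        exact pos_rword_of_not_mem (h := h)
          (fun a ha => (List.mem_append.1 ha).elim (hu a) (hv a))
          (fun a ha => (List.mem_append.1 ha).elim (huc a) (hC.sub c hc a)) hm hmc
    have h1 := hid _ (h.rword_lt hv hr)
    rwa [rword_append, hC.invol c hc r hr] at h1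

/-- A closed stable set in which the members of an orbit are not produced. -/
lemma free_suffix {ρ : ℕ → ℕ} : ∀ {L : List Orb}, chkLayers T ρ L = true → ∀ {o}, o ∈ L →
    ∃ S : Set ℕ, (∀ a ∈ o.list ρ, Free T S a) ∧ (∀ s ∈ S, ρ s ∈ S) ∧ o.cls ρ ⊆ S
  | [], _, _, ho => absurd ho List.not_mem_nil
  | b :: L, hl, o, ho => by
    have hlb := hl
    simp only [chkLayers, Bool.and_eq_true] at hl
    rcases List.mem_cons.1 ho with rfl | ho
    swap
    · exact free_suffix hl.2 ho
    obtain ⟨-, hflat, hclosed⟩ := flatOrbs_spec hlb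
    have hl' := Layer.of_chk hl.1
    have e1 : flatOrbs ρ (o :: L) = o.list ρ ++ flatOrbs ρ L := by simp [flatOrbs]
    rw [e1] at hflat hclosed
    refine ⟨{a | a ∈ o.list ρ ++ flatOrbs ρ L}, fun a ha => ⟨fun x hx => (hflat x hx).1, hclosed,
      List.mem_append_left _ ha, fun x hx y hy hne q hq e => ?_⟩, fun x hx => (hflat x hx).2,
      fun x hx => ?_⟩
    · have : q.1 ∈ flatOrbs ρ L := by
        rcases List.mem_append.1 hx with hx' | hx'
        · exact (hl'.terms x hx' y hy hne.symm).1 q hq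
        · rcases List.mem_append.1 hy with hy' | hy'
          · exact (hl'.terms y hy' x hx hne).2 q hq
          · exact (flatOrbs_spec hl.2).2.2 x hx' y hy' hne q hq
      exact hl'.disj a ha (e ▸ this)
    · rcases hx with hx | hx
      · exact List.mem_append_left _ hx
      · obtain ⟨p, hp, p', hp', hne, c, hc, rfl⟩ := hl'.tail x hx
        refine List.mem_append_right _ ?_
        rcases hc with hc | hc
        · exact (hl'.terms p hp p' (List.mem_append_left _ hp') hne).1 c hc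
        · exact (hl'.terms p hp p' (List.mem_append_left _ hp') hne).2 c hc

/-- The representatives of the classes and a fixed representative of the longest word. -/
lemma exists_w0 {CL : List Cls} (hC : E.ClsOK CL) (hG : E.Reps E.fix CL) :
    ∃ m ∈ E.fix, m ∈ D.monomialSubgroup F ∧
      (∀ x ∈ D.posUnipotent F, m * x * m⁻¹ ∈ D.negUnipotent F) ∧
      ∀ x ∈ D.negUnipotent F, m⁻¹ * x * m ∈ D.posUnipotent F := by
  obtain ⟨w, hw, hc, hneg⟩ := E.exists_longest_comm
  obtain ⟨m, -, hmf, hmn, hmM⟩ := E.exists_rep hC hG hw hc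
  refine ⟨m, hmf, hmn, fun x hx => ?_, fun x hx => ?_⟩
  · rw [h.posUnipotent_eq] at hx
    rw [h.negUnipotent_eq]
    exact conj_gen_le (S' := {r | r < T.half})
      (fun r hr => ⟨_, hneg r hr.1 hr.2, hmM r hr.2⟩) hx
  · rw [h.negUnipotent_eq] at hx
    rw [h.posUnipotent_eq]
    have hwr : WordOK T w.reverse := fun i hi => hw i (List.mem_reverse.1 hi)
    have hlt : ∀ r, r < T.half → r < T.n := fun r hr => by have := h.two_mul_half; omega
    have key := conj_gen_le (g := m⁻¹) (S' := posSet T) (fun r (hr : r < T.half) => ?_) hx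
    · rwa [inv_inv] at key
    have hy := h.rword_lt hwr (hlt r hr)
    refine ⟨rword T w.reverse r, ⟨?_, hy⟩, ?_⟩
    · by_contra hn
      have h2 := hneg _ ((h.half_le_neg_iff hy).2 (not_le.1 hn)) (Cert.neg_lt (T := T) hy)
      rw [h.rword_neg hw hy, h.rword_reverse hw (hlt r hr)] at h2
      exact absurd ((h.half_le_neg_iff (hlt r hr)).2 hr) (not_le.2 h2)
    · have h1 := Maps_inv (hmM _ hy)
      rwa [h.rword_reverse hw (hlt r hr)] at h1

include h in
lemma diag_conj {m t : GL D.Idx F} (hm : m ∈ D.monomialSubgroup F)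
    (ht : t ∈ D.diagonalSubgroup F) : m * t * m⁻¹ ∈ D.diagonalSubgroup F :=
  (Subgroup.mem_normalizer_iff.1 (h.monomial_le_normalizer_diagonal hm) t).1 ht

include h in
lemma neg_not_borel {x : GL D.Idx F} (hx : x ∈ D.negUnipotent F) (hb : x ∈ D.borelSubgroup F) :
    x = 1 := by
  have : x ∈ D.borelSubgroup F ⊓ D.negUnipotent F := ⟨hb, hx⟩
  rwa [h.borel_inf_negUnipotent, Subgroup.mem_bot] at this

include h in
lemma conj_cellList_neg {w : List ℕ} {m : GL D.Idx F} (hM : ∀ r < T.n, Maps D m r (rword T w r))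
    {x : GL D.Idx F} (hx : x ∈ gen D F {r | r ∈ cellList T w}) :
    m * x * m⁻¹ ∈ D.negUnipotent F := by
  rw [h.negUnipotent_eq]
  exact conj_gen_le (S' := {r | r < T.half}) (fun r hr =>
    ⟨_, (show rword T w r < T.half from (mem_cellList.1 hr).2),
      hM r (mem_cellList.1 hr).1.2⟩) hx

/-- The double coset rule for the class representatives. -/
theorem class_mul {CL : List Cls} (hC : E.ClsOK CL) (hG : E.Reps E.fix CL) {c : Cls}
    (hc : c ∈ CL) {s : GL D.Idx F} (hs : s ∈ E.fix) (hsn : s ∈ D.monomialSubgroup F)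
    (hsM : ∀ r < T.n, Maps D s r (rword T c.word r)) {n : GL D.Idx F} (hnf : n ∈ E.fix)
    (hnn : n ∈ D.monomialSubgroup F) {b : GL D.Idx F} (hb : b ∈ E.fix ⊓ D.borelSubgroup F) :
    (∃ p ∈ E.fix ⊓ D.borelSubgroup F, ∃ q ∈ E.fix ⊓ D.borelSubgroup F, s * b * n = p * (s * n) * q) ∨
      ∃ p ∈ E.fix ⊓ D.borelSubgroup F, ∃ q ∈ E.fix ⊓ D.borelSubgroup F, s * b * n = p * n * q := by
  obtain ⟨wn, hwn, t0, ht0, en⟩ := h.exists_word_of_monomial hnn
  have hnM : ∀ r < T.n, Maps D n r (rword T wn r) := fun r hr => by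
    rw [en]; exact Maps_mul (h.Maps_diagonal ht0 hr) (h.Maps_nW hwn hr)
  have hwnc := E.comm_of_fix hwn hnf hnn hnM
  have hwr : WordOK T wn.reverse := fun i hi => hwn i (List.mem_reverse.1 hi)
  have hv := hC.wordOK E hc
  have hrevc : E.Comm wn.reverse := fun r hr => by
    refine h.rword_inj hwn (E.sym.lt _ (h.rword_lt hwr hr)) (h.rword_lt hwr (E.sym.lt r hr)) ?_
    rw [← hwnc _ (h.rword_lt hwr hr), h.rword_reverse hwn hr,
      h.rword_reverse hwn (E.sym.lt r hr)]
  obtain ⟨u, hu, t, ht, rfl⟩ := E.borel_fix.1 hb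
  obtain ⟨w0, hw0, hw0c, hw0n⟩ := E.exists_longest_comm
  set A : Set ℕ := {r | r ∈ cellList T c.word} with hA
  set A' : Set ℕ := {r | r ∈ cellList T (w0 ++ c.word)} with hA'
  have hApos : A ⊆ posSet T := fun r hr => (mem_cellList.1 hr).1
  have hA'pos : A' ⊆ posSet T := fun r hr => (mem_cellList.1 hr).1
  have hAc : CommClosed T A := h.commClosed_cellList hv
  have hw0v : WordOK T (w0 ++ c.word) := fun a ha => (List.mem_append.1 ha).elim (hw0 a) (hv a)
  have hA'c : CommClosed T A' := h.commClosed_cellList hw0v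
  have hw0neg : ∀ x < T.n, (rword T w0 x < T.half ↔ T.half ≤ x) := by
    intro x hx
    refine ⟨fun h1 => ?_, fun h1 => hw0n x h1 hx⟩
    by_contra hn
    have h2 := hw0n _ ((h.half_le_neg_iff hx).2 (not_le.1 hn)) (Cert.neg_lt (T := T) hx)
    rw [h.rword_neg hw0 hx] at h2
    exact absurd ((h.half_le_neg_iff (h.rword_lt hw0 hx)).2 h1) (not_le.2 h2)
  have hA'iff : ∀ r ∈ posSet T, r ∈ A' ↔ r ∉ A := by
    intro r hr
    rw [hA', hA, Set.mem_ofPred_eq, Set.mem_ofPred_eq, mem_cellList, mem_cellList, rword_append,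
      hw0neg _ (h.rword_lt hv hr.2)]
    simp [hr]
  have hsplit : ∃ a ∈ E.fix ⊓ gen D F A', ∃ x ∈ E.fix ⊓ gen D F A, u = a * x := by
    have hu' := hu.2
    rw [h.posUnipotent_eq, ← Cert.posList_set] at hu'
    obtain ⟨a, ha, x, hx, eu⟩ := h.exists_split A' (posList T) Cert.sortedLT_posList
      (fun r hr => Cert.mem_posList.1 hr) (by rw [Cert.posList_set]; exact h.commClosed_posSet) u hu'
    rw [Cert.posList_set] at ha hx
    have ha' : a ∈ gen D F A' := gen_mono D Set.inter_subset_right ha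
    have hx' : x ∈ gen D F A := gen_mono D (fun r hr => by
      by_contra hn; exact hr.2 ((hA'iff r hr.1).2 hn)) hx
    have haG := h.gen_le_group (F := F) (fun r hr => (hA'pos hr).2) ha'
    have hxG := h.gen_le_group (F := F) (fun r hr => (hApos hr).2) hx'
    have ha1 : E.act a ∈ gen D F A' := E.act_mem_gen (fun r hr => (hA'pos hr).2)
      (fun r hr => E.cellList_stable hw0v (Comm.append E hv hw0c (hC.comm c hc)) hr) ha'
    have hx1 : E.act x ∈ gen D F A := E.act_mem_gen (fun r hr => (hApos hr).2)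
      (fun r hr => E.cellList_stable hv (hC.comm c hc) hr) hx'
    have e1 : E.act a * E.act x = a * x := by
      rw [← E.act_mul haG hxG, ← eu, E.act_of_fix hu.1]
    have h2 : a⁻¹ * E.act a ∈ gen D F (A' ∩ A) := by
      refine gen_inter (h := h) hA'pos hA'c hApos hAc (mul_mem (inv_mem ha') ha1) ?_
      rw [show a⁻¹ * E.act a = x * (E.act x)⁻¹ by
        rw [eq_mul_inv_iff_mul_eq, mul_assoc, e1, inv_mul_cancel_left]]
      exact mul_mem hx' (inv_mem hx1)
    rw [show A' ∩ A = ∅ from Set.eq_empty_iff_forall_notMem.2 fun r hr =>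
      ((hA'iff r (hApos hr.2)).1 hr.1) hr.2, show gen D F (∅ : Set ℕ) = ⊥ by simp [gen],
      Subgroup.mem_bot, inv_mul_eq_one] at h2
    rw [← h2] at e1
    exact ⟨a, ⟨E.mem_fix.2 ⟨haG, h2.symm⟩, ha'⟩, x, ⟨E.mem_fix.2 ⟨hxG, mul_left_cancel e1⟩, hx'⟩,
      eu⟩
  obtain ⟨a, ⟨haf, ha⟩, x, ⟨hxf, hx⟩, rfl⟩ := hsplit
  -- the part moved inside `U` by `s`
  have hsa : s * a * s⁻¹ ∈ E.fix ⊓ D.borelSubgroup F := by
    refine Subgroup.mem_inf.2 ⟨mul_mem (mul_mem hs haf) (inv_mem hs), Subgroup.mem_sup_left ?_⟩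
    rw [h.posUnipotent_eq]
    refine conj_gen_le (S' := posSet T) (fun r hr => ⟨rword T c.word r,
      ⟨?_, h.rword_lt hv (hA'pos hr).2⟩, hsM r (hA'pos hr).2⟩) ha
    have := (mem_cellList.1 hr).2
    rw [rword_append] at this
    exact (hw0neg _ (h.rword_lt hv (hA'pos hr).2)).1 this
  have hnt : n⁻¹ * t * n ∈ E.fix ⊓ D.borelSubgroup F :=
    Subgroup.mem_inf.2 ⟨mul_mem (mul_mem (inv_mem hnf) ht.1) hnf, Subgroup.mem_sup_right
      (by simpa using diag_conj (h := h) (inv_mem hnn) ht.2)⟩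
  have hposA : ∀ {v : List ℕ}, WordOK T v → (∀ i ∈ c.mem, T.half ≤ rword T v (T.simple i)) →
      ∀ r ∈ A, T.half ≤ rword T v r := by
    intro v hv' hpos r hr
    have hr' := hApos hr
    have h1 := neg_of_class (h := h) (w := w0 ++ v)
      (fun a ha => (List.mem_append.1 ha).elim (hw0 a) (hv' a))
      (fun i hi hil => by
        rw [rword_append]
        exact hw0n _ (hpos i hi) (h.rword_lt hv' (h.simple_lt hil))) hr'.1 hr'.2
      (hC.supp c hc r hr'.2 hr'.1 (mem_cellList.1 hr).2)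
    rw [rword_append] at h1
    exact (hw0neg _ (h.rword_lt hv' hr'.2)).1 h1
  by_cases hcase : ∀ i ∈ c.mem, T.half ≤ rword T wn.reverse (T.simple i)
  · left
    refine ⟨_, hsa, (n⁻¹ * x * n) * (n⁻¹ * t * n), mul_mem (Subgroup.mem_inf.2
      ⟨mul_mem (mul_mem (inv_mem hnf) hxf) hnf, Subgroup.mem_sup_left ?_⟩) hnt, by group⟩
    rw [h.posUnipotent_eq]
    have key := conj_gen_le (g := n⁻¹) (S' := posSet T) (fun r hr => ?_) hx
    · rwa [inv_inv] at key
    have hr' := hApos hr
    refine ⟨rword T wn.reverse r, ⟨hposA hwr hcase r hr, h.rword_lt hwr hr'.2⟩, ?_⟩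
    have h1 := Maps_inv (hnM _ (h.rword_lt hwr hr'.2))
    rwa [h.rword_reverse hwn hr'.2] at h1
  · push Not at hcase
    obtain ⟨i, hic, hneg⟩ := hcase
    have hall : ∀ m ∈ c.mem, m < T.l → rword T wn.reverse (T.simple m) < T.half := by
      intro m hm _
      obtain ⟨k, rfl⟩ := hC.cyc c hc i hic m hm
      clear hm
      have hpil : ∀ n, E.π^[n] i < T.l := fun n => by
        induction n with
        | zero => exact hC.lt c hc i hic
        | succ n ih => rw [Function.iterate_succ_apply']; exact E.sym.pi_lt _ ih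
      have : ∀ n, rword T wn.reverse (T.simple (E.π^[n] i)) < T.half := fun n => by
        induction n with
        | zero => exact hneg
        | succ n ih =>
          rw [Function.iterate_succ_apply']
          exact (E.pos_iff_of_comm hwr hrevc (hpil n)).2 ih
      exact this k
    have hok2 : WordOK T (wn.reverse ++ c.word) := fun a ha =>
      (List.mem_append.1 ha).elim (hwr a) (hv a)
    have hpos2 : ∀ r ∈ A, T.half ≤ rword T (wn.reverse ++ c.word) r := by
      refine hposA hok2 fun m hm => ?_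
      have hml := hC.lt c hc m hm
      have hp := h.simple_lt hml
      have hxlt := h.rword_lt hv hp
      have hy : T.half ≤ T.neg (rword T c.word (T.simple m)) :=
        (h.half_le_neg_iff hxlt).2 (hC.negs c hc m hm)
      have hnx := Cert.neg_lt (T := T) hxlt
      have hvy : rword T c.word (T.neg (rword T c.word (T.simple m))) < T.half := by
        rw [h.rword_neg hv hxlt, hC.invol c hc _ hp]
        exact not_le.1 fun e => absurd ((h.half_le_neg_iff hp).1 e)
          (not_lt.2 (h.simple_spec hml).1)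
      have h2 := neg_of_class (h := h) hwr hall hy hnx (hC.supp c hc _ hnx hy hvy)
      rw [h.rword_neg hwr hxlt] at h2
      rw [rword_append]
      by_contra hn
      exact absurd ((h.half_le_neg_iff (h.rword_lt hwr hxlt)).2 (not_le.1 hn)) (not_le.2 h2)
    -- elements of the class pushed through `s n`
    have hpush : ∀ y ∈ E.fix ⊓ gen D F A, (s * n)⁻¹ * y * (s * n) ∈ E.fix ⊓ D.borelSubgroup F := by
      intro y hy
      refine Subgroup.mem_inf.2 ⟨mul_mem (mul_mem (inv_mem (mul_mem hs hnf)) hy.1)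
        (mul_mem hs hnf), Subgroup.mem_sup_left ?_⟩
      rw [h.posUnipotent_eq]
      have key := conj_gen_le (g := (s * n)⁻¹) (S' := posSet T) (fun r hr => ?_) hy.2
      · rwa [inv_inv] at key
      have hr' := hApos hr
      have h1 := Maps_inv (hsM _ (h.rword_lt hv hr'.2))
      rw [hC.invol c hc r hr'.2] at h1
      have h2 := Maps_inv (hnM _ (h.rword_lt hwr (h.rword_lt hv hr'.2)))
      rw [h.rword_reverse hwn (h.rword_lt hv hr'.2)] at h2
      refine ⟨_, ⟨hpos2 r hr, h.rword_lt hok2 hr'.2⟩, ?_⟩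
      rw [_root_.mul_inv_rev, rword_append]
      exact Maps_mul h1 h2
    by_cases hx1 : x = 1
    · subst hx1
      exact Or.inl ⟨_, hsa, _, hnt, by group⟩
    right
    have hss : s * s ∈ E.fix ⊓ D.diagonalSubgroup F := by
      refine Subgroup.mem_inf.2 ⟨mul_mem hs hs, ?_⟩
      refine h.mem_diagonal_of_perm (mul_mem hsn hsn) fun i hi r hr hM => ?_
      have hp := h.simple_lt hi
      have h1 := Maps_mul (hsM _ hp) (hsM _ (h.rword_lt hv hp))
      rw [hC.invol c hc _ hp] at h1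
      have := h.Maps_unique (lt_trans hr (by have := h.two_mul_half; have := (h.simple_spec hi).1; omega))
        hp hM h1
      have := (h.simple_spec hi).1
      omega
    -- `v = s x s⁻¹` in the cell of `s`
    set v := s * x * s⁻¹ with hvdef
    have hvneg : v ∈ D.negUnipotent F := conj_cellList_neg (h := h) hsM hx
    have hvf : v ∈ E.fix := mul_mem (mul_mem hs hxf) (inv_mem hs)
    obtain ⟨w', hw', hw'c, m, -, hmf, hmn, hmM, b1, hb1, u1, hu1, ev⟩ := E.bruhat_fix hC hG hvf
    have hu1pos := cellUnipotent_le_pos (h := h) hw' hmM hu1.2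
    obtain ⟨P, hPB, hPN, hPS⟩ := h.exists_bnPair (F := F)
    set J : Set ↥(D.group F) := {g | ∃ j ∈ c.mem, (g : GL D.Idx F) = nS D F j} with hJ
    have hJS : J ⊆ P.S := by
      rw [hPS]; rintro g ⟨j, hj, e⟩; exact ⟨j, hC.lt c hc j hj, e⟩
    have hparB : ∀ y ∈ D.borelSubgroup F, y ∈ (P.parabolic J).map (D.group F).subtype := by
      intro y hy
      exact ⟨⟨y, h.borel_le_group hy⟩, Subgroup.mem_sup_left (by
        rw [hPB, Subgroup.mem_subgroupOf]; exact hy), rfl⟩
    have hparW : ∀ {v' : List ℕ}, WordOK T v' → (∀ j ∈ v', j ∈ c.mem) →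
        nW D F v' ∈ (P.parabolic J).map (D.group F).subtype := by
      intro v'
      induction v' with
      | nil => intro _ _; simpa [nW] using one_mem ((P.parabolic J).map (D.group F).subtype)
      | cons j v' ih =>
        intro hw2 hj
        rw [nW_cons]
        refine mul_mem ⟨⟨_, h.monomial_le_group (h.nS_mem_monomial hw2.head)⟩,
          Subgroup.mem_sup_right (Subgroup.subset_closure ⟨j, hj j List.mem_cons_self, rfl⟩), rfl⟩
          (ih hw2.tail fun a ha => hj a (List.mem_cons_of_mem _ ha))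
    have hspar : s ∈ (P.parabolic J).map (D.group F).subtype := by
      have hd := diag_of_same_perm (h := h) hv hv (h.nW_mem_monomial hv) hsn
        (fun r hr => h.Maps_nW hv hr) hsM fun _ _ => rfl
      have := mul_mem (hparW hv (hC.sub c hc)) (hparB _ (Subgroup.mem_sup_right hd))
      rwa [mul_inv_cancel_left] at this
    have hxB : x ∈ D.borelSubgroup F := by
      refine Subgroup.mem_sup_left ?_
      rw [h.posUnipotent_eq]; exact gen_mono D hApos hx
    have hmpar : m ∈ (P.parabolic J).map (D.group F).subtype := by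
      have := mul_mem (mul_mem (inv_mem (hparB _ hb1.2))
        (mul_mem (mul_mem hspar (hparB x hxB)) (inv_mem hspar)))
        (inv_mem (hparB _ (Subgroup.mem_sup_left hu1pos)))
      rwa [← hvdef, ev, show b1⁻¹ * (b1 * m * u1) * u1⁻¹ = m by group] at this
    obtain ⟨g, hg, egm⟩ := hmpar
    rw [Subgroup.coe_subtype] at egm
    obtain ⟨L, -, hLJ, hgL⟩ := (CfsgLib.BN.mem_parabolic hJS).1 hg
    have hgN : g ∈ P.N := by rw [hPN, Subgroup.mem_subgroupOf, egm]; exact hmn
    have e1 := CfsgLib.BN.cell_inj (CfsgLib.BN.mk_mem_cell (⟨g, hgN⟩ : P.N)) hgL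
    have e2 := CfsgLib.BN.cell_inj (CfsgLib.BN.rep_mem_cell L)
      (CfsgLib.BN.mk_mem_cell (⟨_, CfsgLib.BN.rep_mem_N L⟩ : P.N))
    rw [e2] at e1
    have e3 := CfsgLib.BN.mk_eq_mk.1 e1
    rw [hPB, Subgroup.mem_subgroupOf] at e3
    have hL : ∀ L : List P.S, (∀ r ∈ L, (r : ↥(D.group F)) ∈ J) →
        ∃ u : List ℕ, WordOK T u ∧ (∀ j ∈ u, j ∈ c.mem) ∧
          ((CfsgLib.BN.rep P L : ↥(D.group F)) : GL D.Idx F) = nW D F u := by
      intro L
      induction L with
      | nil => exact fun _ => ⟨[], fun _ ha => absurd ha List.not_mem_nil,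
          fun _ ha => absurd ha List.not_mem_nil, by simp [CfsgLib.BN.rep, nW]⟩
      | cons r L ih =>
        intro hL
        obtain ⟨u, hu, huc, eu⟩ := ih fun a ha => hL a (List.mem_cons_of_mem _ ha)
        obtain ⟨j, hj, ej⟩ := hL r List.mem_cons_self
        refine ⟨j :: u, fun a ha => ?_, fun a ha => ?_, ?_⟩
        · rcases List.mem_cons.1 ha with rfl | ha
          exacts [hC.lt c hc a hj, hu a ha]
        · rcases List.mem_cons.1 ha with rfl | ha
          exacts [hj, huc a ha]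
        · rw [nW_cons, ← ej, ← eu]; simp [CfsgLib.BN.rep]
    obtain ⟨ul, hul, hulc, eul⟩ := hL L hLJ
    have hsame : SameAct T w' ul := by
      refine sameAct_of_diag (h := h) hw' hul hmM (fun r hr => h.Maps_nW hul hr) ?_
      rw [← h.borel_inf_monomial]
      refine Subgroup.mem_inf.2 ⟨?_, mul_mem (inv_mem hmn) (h.nW_mem_monomial hul)⟩
      simpa [egm, eul] using e3
    rcases E.class_word_dichotomy hC hc hw' hw'c hul hulc hsame with hid | hsv
    · exfalso
      refine hx1 ?_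
      have hmd : m ∈ D.diagonalSubgroup F := h.mem_diagonal_of_perm hmn fun i hi r hr hM => by
        have hp := h.simple_lt hi
        have := h.Maps_unique (lt_trans hr (by have := h.two_mul_half; have := (h.simple_spec hi).1; omega))
          hp hM (by simpa [hid _ hp] using hmM _ hp)
        have := (h.simple_spec hi).1
        omega
      have hvB : v ∈ D.borelSubgroup F := by
        rw [ev]
        exact mul_mem (mul_mem hb1.2 (Subgroup.mem_sup_right hmd)) (Subgroup.mem_sup_left hu1pos)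
      have := neg_not_borel (h := h) hvneg hvB
      rwa [hvdef, conj_eq_one_iff] at this
    -- `m = s t'`
    have ht' : s⁻¹ * m ∈ E.fix ⊓ D.diagonalSubgroup F :=
      Subgroup.mem_inf.2 ⟨mul_mem (inv_mem hs) hmf,
        diag_of_same_perm (h := h) hv hw' hsn hmn hsM hmM fun r hr => (hsv r hr).symm⟩
    have hu1A : u1 ∈ E.fix ⊓ gen D F A := by
      refine Subgroup.mem_inf.2 ⟨hu1.1, ?_⟩
      have h2 := hu1.2
      rw [cellUnipotent_rep (h := h) hw' hmM] at h2
      refine gen_mono D (fun r hr => ?_) h2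
      have hr' := mem_cellList.1 hr
      exact mem_cellList.2 ⟨hr'.1, by rw [← hsv r hr'.1.2]; exact hr'.2⟩
    have hst' : s * (s⁻¹ * m) * s⁻¹ ∈ E.fix ⊓ D.borelSubgroup F :=
      Subgroup.mem_inf.2 ⟨mul_mem (mul_mem hs ht'.1) (inv_mem hs),
        Subgroup.mem_sup_right (diag_conj (h := h) hsn ht'.2)⟩
    refine ⟨(s * a * s⁻¹) * b1 * (s * (s⁻¹ * m) * s⁻¹) * (s * s),
      mul_mem (mul_mem (mul_mem hsa hb1) hst')
        (Subgroup.mem_inf.2 ⟨hss.1, Subgroup.mem_sup_right hss.2⟩),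
      ((s * n)⁻¹ * u1 * (s * n)) * (n⁻¹ * t * n), mul_mem (hpush u1 hu1A) hnt, ?_⟩
    rw [show s * (a * x * t) * n = (s * a * s⁻¹) * v * (s * n) * (n⁻¹ * t * n) by rw [hvdef]; group,
      ev]
    group

/-- The (B, N)-pair of the fixed points. -/
theorem exists_bnPair_fix [Finite F] (hok : E.DataOK d) (hG : E.Reps E.fix d.CL)
    (hlift : ∀ o ∈ d.L, E.Lift E.fix o) (hQ : 2 ≤ Q)
    (hcard : ∀ o ∈ d.L, Nat.card (E.Adm o) ^ e = Q ^ o.size)
    (hne : ∀ c ∈ d.CL, c.mem ≠ []) :
    ∃ P : Cfsg.BNPair ↥E.fix,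
      P.B = (D.borelSubgroup F ⊓ E.fix).subgroupOf E.fix ∧
      P.N = (D.monomialSubgroup F ⊓ E.fix).subgroupOf E.fix ∧
      Nat.card P.S = d.CL.length ∧
      ∀ s ∈ P.S, ∃ a < d.CL.length, ((s : GL D.Idx F) ∈ D.monomialSubgroup F ∧
        ∀ r < T.n, Maps D (s : GL D.Idx F) r (rword T (d.CL.getD a ⟨[], []⟩).word r)) := by
  have hget : ∀ a : Fin d.CL.length, d.CL.getD a ⟨[], []⟩ = d.CL[a.val] := fun a =>
    List.getD_eq_getElem _ _ a.2
  choose md hmE _ hmn hmM using fun a : Fin d.CL.length => hG _ (List.getElem_mem a.2)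
  let ms : Fin d.CL.length → ↥E.fix := fun a => ⟨md a, hmE a⟩
  have hBmem : ∀ {x : ↥E.fix}, x ∈ (D.borelSubgroup F ⊓ E.fix).subgroupOf E.fix ↔
      (x : GL D.Idx F) ∈ D.borelSubgroup F := fun {x} =>
    ⟨fun hx => (Subgroup.mem_subgroupOf.1 hx).1, fun hx => Subgroup.mem_subgroupOf.2 ⟨hx, x.2⟩⟩
  have hNmem : ∀ {x : ↥E.fix}, x ∈ (D.monomialSubgroup F ⊓ E.fix).subgroupOf E.fix ↔
      (x : GL D.Idx F) ∈ D.monomialSubgroup F := fun {x} =>
    ⟨fun hx => (Subgroup.mem_subgroupOf.1 hx).1, fun hx => Subgroup.mem_subgroupOf.2 ⟨hx, x.2⟩⟩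
  have hdiag : ∀ {x : GL D.Idx F}, x ∈ D.borelSubgroup F → x ∈ D.monomialSubgroup F →
      x ∈ D.diagonalSubgroup F := fun hb hn => by
    rw [← h.borel_inf_monomial]; exact ⟨hb, hn⟩
  have hsq : ∀ a, md a * md a ∈ D.diagonalSubgroup F := by
    intro a
    have hv := hok.cls.wordOK E (List.getElem_mem a.2)
    refine h.mem_diagonal_of_perm (mul_mem (hmn a) (hmn a)) fun i hi r hr hM => ?_
    have hp := h.simple_lt hi
    have h1 := Maps_mul (hmM a _ hp) (hmM a _ (h.rword_lt hv hp))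
    rw [hok.cls.invol _ (List.getElem_mem a.2) _ hp] at h1
    have := h.Maps_unique (lt_trans hr (by have := h.two_mul_half; have := (h.simple_spec hi).1; omega))
      hp hM h1
    have := (h.simple_spec hi).1
    omega
  refine ⟨{
    B := (D.borelSubgroup F ⊓ E.fix).subgroupOf E.fix
    N := (D.monomialSubgroup F ⊓ E.fix).subgroupOf E.fix
    S := Set.range ms
    sup_eq_top := ?_
    conj_mem := ?_
    subset := ?_
    sq_mem := ?_
    inj := ?_
    closure_sup := ?_
    mul_mem_union := ?_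
    conj_ne := ?_ }, rfl, rfl, ?_, ?_⟩
  · rw [eq_top_iff]
    rintro ⟨g, hg⟩ -
    obtain ⟨w, hw, -, m, -, hmf, hmn', hmM', b, hb, u, hu, rfl⟩ := E.bruhat_fix hok.cls hG hg
    rw [show (⟨b * m * u, hg⟩ : ↥E.fix) = ⟨b, hb.1⟩ * ⟨m, hmf⟩ * ⟨u, hu.1⟩ from rfl]
    exact mul_mem (mul_mem (Subgroup.mem_sup_left (hBmem.2 hb.2))
      (Subgroup.mem_sup_right (hNmem.2 hmn')))
      (Subgroup.mem_sup_left (hBmem.2 (Subgroup.mem_sup_left
        (cellUnipotent_le_pos (h := h) hw hmM' hu.2))))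
  · intro n hn t ht
    obtain ⟨ht1, ht2⟩ := Subgroup.mem_inf.1 ht
    exact hBmem.2 (Subgroup.mem_sup_right (diag_conj (h := h) (hNmem.1 hn)
      (hdiag (hBmem.1 ht1) (hNmem.1 ht2))))
  · rintro _ ⟨a, rfl⟩; exact hNmem.2 (hmn a)
  · rintro _ ⟨a, rfl⟩; exact hBmem.2 (Subgroup.mem_sup_right (hsq a))
  · rintro _ ⟨a, rfl⟩ _ ⟨a', rfl⟩ hb
    by_contra hne'
    have hd : (md a)⁻¹ * md a' ∈ D.diagonalSubgroup F :=
      hdiag (hBmem.1 hb) (mul_mem (inv_mem (hmn a)) (hmn a'))
    have hsame := sameAct_of_diag (h := h) (hok.cls.wordOK E (List.getElem_mem a.2))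
      (hok.cls.wordOK E (List.getElem_mem a'.2)) (hmM a) (hmM a') hd
    obtain ⟨i, L', e1⟩ := List.exists_cons_of_ne_nil (hne _ (List.getElem_mem a.2))
    have him : i ∈ d.CL[a.val].mem := by rw [e1]; exact List.mem_cons_self
    have hil := hok.cls.lt _ (List.getElem_mem a.2) i him
    have h1 := hok.cls.sep a.1 a.2 a'.1 a'.2 (fun e => hne' (congrArg ms (Fin.ext e))) i
      (by rw [hget a]; exact him)
    rw [hget a', ← hsame _ (h.simple_lt hil)] at h1
    exact absurd (hok.cls.negs _ (List.getElem_mem a.2) i him) (not_lt.2 h1)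
  · refine le_antisymm (sup_le ((Subgroup.closure_le _).2 ?_) inf_le_right) ?_
    · rintro _ ⟨a, rfl⟩; exact hNmem.2 (hmn a)
    · rintro ⟨n, hnf⟩ hn
      have hnn := hNmem.1 hn
      obtain ⟨w, hw, t, ht, en⟩ := h.exists_word_of_monomial hnn
      have hnM : ∀ r < T.n, Maps D n r (rword T w r) := fun r hr => by
        rw [show n = nW D F w * t from en]
        exact Maps_mul (h.Maps_diagonal ht hr) (h.Maps_nW hw hr)
      have hc := E.comm_of_fix hw hnf hnn hnM
      have hR : E.Reps ((Subgroup.closure (Set.range ms)).map E.fix.subtype) d.CL := by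
        intro c hc'
        obtain ⟨a, ha, rfl⟩ := List.getElem_of_mem hc'
        exact ⟨md ⟨a, ha⟩, ⟨ms ⟨a, ha⟩, Subgroup.subset_closure ⟨⟨a, ha⟩, rfl⟩, rfl⟩, hmE _,
          hmn _, hmM _⟩
      obtain ⟨m, ⟨m', hm', rfl⟩, hmf, hmn', hmM'⟩ := E.exists_rep hok.cls hR hw hc
      have hd := diag_of_same_perm (h := h) hw hw hmn' hnn hmM' hnM fun _ _ => rfl
      rw [show (⟨n, hnf⟩ : ↥E.fix) = m' * (m'⁻¹ * ⟨n, hnf⟩) by group]
      exact mul_mem (Subgroup.mem_sup_left hm') (Subgroup.mem_sup_right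
        (Subgroup.mem_inf.2 ⟨hBmem.2 (Subgroup.mem_sup_right hd),
          hNmem.2 (Cert.diagonal_le_monomial hd)⟩))
  · rintro _ ⟨a, rfl⟩ n hn b hb
    rcases E.class_mul hok.cls hG (List.getElem_mem a.2) (hmE a) (hmn a) (hmM a) n.2 (hNmem.1 hn)
      ⟨b.2, hBmem.1 hb⟩ with ⟨p, hp, q, hq, e'⟩ | ⟨p, hp, q, hq, e'⟩
    · left
      rw [DoubleCoset.mem_doubleCoset]
      exact ⟨⟨p, hp.1⟩, hBmem.2 hp.2, ⟨q, hq.1⟩, hBmem.2 hq.2, Subtype.ext e'⟩
    · right
      rw [DoubleCoset.mem_doubleCoset]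
      exact ⟨⟨p, hp.1⟩, hBmem.2 hp.2, ⟨q, hq.1⟩, hBmem.2 hq.2, Subtype.ext e'⟩
  · rintro _ ⟨a, rfl⟩ heq
    obtain ⟨u, huf, hu1, hu⟩ := E.exists_class_elt hok hlift hQ hcard (List.getElem_mem a.2)
      (hne _ (List.getElem_mem a.2))
    have huB : u ∈ D.borelSubgroup F := by
      refine Subgroup.mem_sup_left ?_
      rw [h.posUnipotent_eq]; exact gen_mono D (fun r hr => (mem_cellList.1 hr).1) hu
    have hmem : ms a * (⟨u, huf⟩ : ↥E.fix) * ms a ∈
        ((D.borelSubgroup F ⊓ E.fix).subgroupOf E.fix : Set ↥E.fix) := by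
      rw [← heq]; exact ⟨⟨u, huf⟩, hBmem.2 huB, rfl⟩
    have h1 : md a * u * (md a)⁻¹ ∈ D.borelSubgroup F := by
      have := mul_mem (hBmem.1 hmem) (inv_mem (Subgroup.mem_sup_right (hsq a)))
      simpa [ms, mul_assoc] using this
    have := neg_not_borel (h := h) (conj_cellList_neg (h := h) (hmM a) hu) h1
    rw [conj_eq_one_iff] at this
    exact hu1 this
  · rw [Nat.card_range_of_injective]
    · simp
    intro a a' e1
    by_contra hne'
    have e2 : md a = md a' := congrArg Subtype.val e1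
    obtain ⟨i, L', e3⟩ := List.exists_cons_of_ne_nil (hne _ (List.getElem_mem a.2))
    have him : i ∈ d.CL[a.val].mem := by rw [e3]; exact List.mem_cons_self
    have hp := h.simple_lt (hok.cls.lt _ (List.getElem_mem a.2) i him)
    have h1 := hok.cls.sep a.1 a.2 a'.1 a'.2 (fun e => hne' (Fin.ext e)) i (by rw [hget a]; exact him)
    rw [hget a'] at h1
    have h2 := hmM a' _ hp
    rw [← e2] at h2
    rw [← h.Maps_unique (h.rword_lt (hok.cls.wordOK E (List.getElem_mem a.2)) hp)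
      (h.rword_lt (hok.cls.wordOK E (List.getElem_mem a'.2)) hp) (hmM a _ hp) h2] at h1
    exact absurd (hok.cls.negs _ (List.getElem_mem a.2) i him) (not_lt.2 h1)
  · rintro _ ⟨a, rfl⟩
    exact ⟨a, a.2, hmn a, fun r hr => by rw [hget a]; exact hmM a r hr⟩

include h in
lemma conj_X_charOf {g : GL D.Idx F} {c : ℕ → F} (hc : ∀ i < T.l, c i ≠ 0)
    (eg : (g : Matrix D.Idx D.Idx F) = torus D (charOf T c)) {r : ℕ} (hr : r < T.n) (t : F) :
    g * X D r t * g⁻¹ = X D r (charOf T c r * t) := by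
  rw [mul_inv_eq_iff_eq_mul]
  refine Units.ext ?_
  rw [Units.val_mul, Units.val_mul, h.coe_X, h.coe_X, eg, h.torus_mul_x (h.isChar_charOf hc) hr]

include h in
lemma InC.diag_conj {g : GL D.Idx F} (hg : g ∈ D.diagonalSubgroup F) {c : ℕ → F}
    (hc : ∀ i < T.l, c i ≠ 0) (eg : (g : Matrix D.Idx D.Idx F) = torus D (charOf T c))
    {P : Set ℕ} (hP : P ⊆ posSet T) {r : ℕ} (hr : r ∈ P) {u : GL D.Idx F} {t : F}
    (hu : InC D P r u t) : InC D P r (g * u * g⁻¹) (charOf T c r * t) := by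
  have hn := (Subgroup.mem_normalizer_iff.1 (h.diagonal_le_normalizer_gen (F := F)
    (S := P \ {r}) (fun s hs => (hP hs.1).2) hg) _).1 hu
  rw [InC]
  rwa [show g * ((X D r t)⁻¹ * u) * g⁻¹ = (g * X D r t * g⁻¹)⁻¹ * (g * u * g⁻¹) by group,
    conj_X_charOf (h := h) hc eg (hP hr).2] at hn

/-- A normal subgroup inside the Borel subgroup of the fixed points is trivial. -/
theorem normalCore_fix [Finite F] (hok : E.DataOK d) (hG : E.Reps E.fix d.CL)
    (hlift : ∀ o ∈ d.L, E.Lift E.fix o) (hQ : 2 ≤ Q)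
    (hcard : ∀ o ∈ d.L, Nat.card (E.Adm o) ^ e = Q ^ o.size) :
    ((D.borelSubgroup F ⊓ E.fix).subgroupOf E.fix).normalCore = ⊥ := by
  rw [eq_bot_iff]
  intro k hk
  set N := ((D.borelSubgroup F ⊓ E.fix).subgroupOf E.fix).normalCore with hNdef
  have hN : N.Normal := Subgroup.normalCore_normal _
  have hB : ∀ {g : ↥E.fix}, g ∈ N → (g : GL D.Idx F) ∈ D.borelSubgroup F := fun hg =>
    (Subgroup.mem_subgroupOf.1 (Subgroup.normalCore_le _ hg)).1
  obtain ⟨m, hmf, hmn, hmpos, -⟩ := E.exists_w0 hok.cls hG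
  have hH : ∀ g ∈ N, (g : GL D.Idx F) ∈ D.diagonalSubgroup F := by
    intro g hg
    obtain ⟨u, hu, t, ht, e1⟩ := h.mem_borel_iff.1 (hB hg)
    have hc := hB (hN.conj_mem g hg ⟨m, hmf⟩)
    have ht' : m * t * m⁻¹ ∈ D.borelSubgroup F :=
      Subgroup.mem_sup_right (diag_conj (h := h) hmn ht)
    have hu1 : m * u * m⁻¹ ∈ D.borelSubgroup F := by
      have := mul_mem hc (inv_mem ht')
      simp only [Subgroup.coe_mul, Subgroup.coe_inv, e1] at this
      rwa [show m * (u * t) * m⁻¹ * (m * t * m⁻¹)⁻¹ = m * u * m⁻¹ by group] at this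
    have := neg_not_borel (h := h) (hmpos u hu) hu1
    rw [conj_eq_one_iff] at this
    rw [e1, this, one_mul]; exact ht
  obtain ⟨c, hc, ec⟩ := h.mem_diagonalSubgroup_iff.1 (hH k hk)
  have hkd := hH k hk
  have hone : ∀ r ∈ posSet T, charOf T c r = 1 := by
    intro r hr
    obtain ⟨o, ho, hro⟩ := List.mem_flatMap.1 (hok.cover E hr)
    obtain ⟨hpos, hroot, -, htail⟩ := layer_root_mem hok.layers ho
    obtain ⟨t, hta, ht0⟩ := E.exists_nonzero hQ hcard hok.layers ho
    obtain ⟨u, -, huf, hug, huc⟩ := hlift o ho t hta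
    have hcls : o.cls E.ρ ⊆ posSet T := fun x hx => hx.elim (hpos x) (htail x)
    have hufix : (k : GL D.Idx F) * u * (k : GL D.Idx F)⁻¹ = u := by
      have hm' : k * ((⟨u, huf⟩ : ↥E.fix) * k⁻¹ * (⟨u, huf⟩ : ↥E.fix)⁻¹) ∈ N :=
        mul_mem hk (hN.conj_mem _ (inv_mem hk) _)
      have hd := hH _ hm'
      have hU : u ∈ D.posUnipotent F := by rw [h.posUnipotent_eq]; exact gen_mono D hcls hug
      have hcom : (k : GL D.Idx F) * u * (k : GL D.Idx F)⁻¹ * u⁻¹ ∈
          D.posUnipotent F ⊓ D.diagonalSubgroup F := by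
        refine Subgroup.mem_inf.2 ⟨mul_mem ?_ (inv_mem hU), by simpa [mul_assoc] using hd⟩
        exact (Subgroup.mem_normalizer_iff.1 (h.diagonal_le_normalizer_posUnipotent hkd) u).1 hU
      rwa [h.posUnipotent_inf_diagonal, Subgroup.mem_bot, mul_inv_eq_one] at hcom
    obtain ⟨S, hSfree, hSst, hSsub⟩ := free_suffix hok.layers ho
    have hf0 := hSfree _ hroot
    obtain ⟨j, hj, rfl⟩ := List.mem_map.1 hro
    obtain ⟨hmem, hcj⟩ := E.inC_iterate hf0.sub hSst hf0.mem huf (InC.mono hSsub huc) j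
    have h2 := InC.diag_conj (h := h) hkd hc ec hf0.sub hmem hcj
    rw [hufix] at h2
    have h3 := InC.unique (h := h) (hSfree _ (List.mem_map.2 ⟨j, hj, rfl⟩)) h2 hcj
    have h5 : E.τn j o.root t ≠ 0 := by
      clear h2 hcj hmem hro hr h3 hj
      induction j with
      | zero => exact ht0
      | succ j ih =>
        exact E.τ_ne_zero (E.iter_lt (hpos _ hroot).2 j) ih
    exact (mul_eq_right₀ h5).1 h3
  rw [Subgroup.mem_bot]
  refine Subtype.ext (Units.ext ?_)
  rw [ec, OneMemClass.coe_one, Units.val_one, ← torus_one D]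
  refine torus_congr D fun s hs => ?_
  have hs' : s < T.n := lt_of_lt_of_eq hs h.nroots_eq
  by_cases hp : T.half ≤ s
  · exact hone s ⟨hp, hs'⟩
  · have h1 := (h.isChar_charOf (F := F) hc).mul_neg s hs'
    rwa [hone _ ⟨(h.half_le_neg_iff hs').2 (not_le.1 hp), Cert.neg_lt (T := T) hs'⟩, mul_one] at h1

/-- Commutators with a torus element not centralizing the leading root supply lifts. -/
theorem Lift.comm [Finite F] {base : List Orb} (hb : chkBase T E.ρ base = true) {b : Orb}
    (hbm : b ∈ base) (hcyc : E.ρ^[b.size] b.root = b.root) {g : GL D.Idx F}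
    (hg : g ∈ E.fix ⊓ D.diagonalSubgroup F) {c : ℕ → F} (hc : ∀ i < T.l, c i ≠ 0)
    (eg : (g : Matrix D.Idx D.Idx F) = torus D (charOf T c)) (hne : charOf T c b.root ≠ 1)
    (hl : E.Lift E.fix b) : E.Lift ⁅E.fix, E.fix⁆ b := by
  simp only [chkBase, List.all_eq_true, Bool.and_eq_true, decide_eq_true_eq, Bool.or_eq_true,
    List.contains_iff_mem] at hb
  obtain ⟨hsize, hP⟩ := hb b hbm
  have hmem : ∀ x, x ∈ b.cls E.ρ ↔ x ∈ b.list E.ρ ++ b.tail := fun x => by
    simp [Orb.cls]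
  have hroot : b.root ∈ b.list E.ρ :=
    List.mem_map.2 ⟨0, List.mem_range.2 (Nat.pos_of_ne_zero hsize), rfl⟩
  have hterm : ∀ x ∈ b.cls E.ρ, ∀ y ∈ b.cls E.ρ, y ≠ x → ∀ q ∈ T.commTerms x y,
      q.1 ∈ b.cls E.ρ ∧ q.1 ≠ b.root := by
    intro x hx y hy hyx q hq
    have h1 := (((hP x ((hmem x).1 hx)).2.2 y ((hmem y).1 hy)).resolve_left hyx) q.1
      (List.mem_map.2 ⟨q, List.mem_append_left _ hq, rfl⟩)
    exact ⟨(hmem _).2 h1.1, h1.2⟩
  have hf : Free T (b.cls E.ρ) b.root :=
    ⟨fun x hx => (hP x ((hmem x).1 hx)).1, fun x hx y hy hyx q hq => (hterm x hx y hy hyx q hq).1,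
      Or.inl hroot, fun x hx y hy hyx q hq => (hterm x hx y hy hyx q hq).2⟩
  have hst : ∀ x ∈ b.cls E.ρ, E.ρ x ∈ b.cls E.ρ := fun x hx =>
    (hmem _).2 (hP x ((hmem x).1 hx)).2.1
  set χ := charOf T c b.root
  have key : ∀ a ∈ E.Adm b, ∃ w ∈ ⁅E.fix, E.fix⁆, w ∈ E.fix ∧ w ∈ gen D F (b.cls E.ρ) ∧
      InC D (b.cls E.ρ) b.root w ((χ - 1) * a) ∧ (χ - 1) * a ∈ E.Adm b := by
    intro a ha
    obtain ⟨u, -, huf, hug, huc⟩ := hl a ha
    have h1 := InC.diag_conj (h := h) hg.2 hc eg hf.sub hf.mem huc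
    obtain ⟨a', ha'⟩ := exists_inC (h := h) hf (inv_mem hug)
    have e0 : a + a' = 0 := InC.unique (h := h) hf (InC.mul (h := h) hf huc ha')
      (by rw [mul_inv_cancel]; exact inC_one (h := h) hf)
    have h2 := InC.mul (h := h) hf h1 ha'
    rw [show χ * a + a' = (χ - 1) * a by linear_combination e0] at h2
    have hwf : g * u * g⁻¹ * u⁻¹ ∈ E.fix :=
      mul_mem (mul_mem (mul_mem hg.1 huf) (inv_mem hg.1)) (inv_mem huf)
    refine ⟨g * u * g⁻¹ * u⁻¹, ?_, hwf, mul_mem ?_ (inv_mem hug), h2, ?_⟩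
    · rw [← commutatorElement_def]; exact Subgroup.commutator_mem_commutator hg.1 huf
    · exact (Subgroup.mem_normalizer_iff.1 (h.diagonal_le_normalizer_gen (F := F)
        (fun x hx => (hf.sub hx).2) hg.2) u).1 hug
    · have h3 := (E.inC_iterate hf.sub hst hf.mem hwf h2 b.size).2
      rw [hcyc] at h3
      exact InC.unique (h := h) hf h3 h2
  intro t ht
  have hsurj : Function.Surjective fun a : E.Adm b =>
      (⟨(χ - 1) * a.1, (key a.1 a.2).choose_spec.2.2.2.2⟩ : E.Adm b) :=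
    Finite.injective_iff_surjective.1 fun x y e =>
      Subtype.ext (mul_left_cancel₀ (sub_ne_zero.2 hne) (congrArg Subtype.val e))
  obtain ⟨a, ea⟩ := hsurj ⟨t, ht⟩
  obtain ⟨w, hw, hwf, hwg, hwc, -⟩ := key a.1 a.2
  rw [show (χ - 1) * a.1 = t from congrArg Subtype.val ea] at hwc
  exact ⟨w, hw, hwf, hwg, hwc⟩

/-- Perfection. -/
theorem perfect_fix [Finite F] (hok : E.DataOK d) (hG : E.Reps E.fix d.CL)
    (hlift : ∀ b ∈ d.base, E.Lift ⁅E.fix, E.fix⁆ b)
    (hcard : ∀ o ∈ d.L, Nat.card (E.Adm o) ^ e = Q ^ o.size)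
    (hgen : E.fix ≤ (E.fix ⊓ D.posUnipotent F) ⊔ (E.fix ⊓ D.negUnipotent F)) :
    commutator ↥E.fix = ⊤ := by
  set K' := ⁅E.fix, E.fix⁆
  have hconj : ∀ m ∈ E.fix, ∀ u ∈ K', m * u * m⁻¹ ∈ K' := by
    intro m hm u hu
    have hle : E.fix.map (MulAut.conj m).toMonoidHom ≤ E.fix := by
      rintro _ ⟨x, hx, rfl⟩
      exact mul_mem (mul_mem hm hx) (inv_mem hm)
    have h1 : K'.map (MulAut.conj m).toMonoidHom ≤ K' := by
      rw [Subgroup.map_commutator]; exact Subgroup.commutator_mono hle hle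
    exact h1 ⟨u, hu, rfl⟩
  have hl := fun o ho => (E.lifts_of_base hok hG hconj hlift o ho).1
  have hU := (E.fix_posUnipotent hok hl hcard).1
  obtain ⟨m, hmf, -, -, hmneg⟩ := E.exists_w0 hok.cls hG
  have hV : E.fix ⊓ D.negUnipotent F ≤ K' := by
    rintro x ⟨hxf, hx⟩
    have h1 : m⁻¹ * x * m ∈ K' :=
      hU (Subgroup.mem_inf.2 ⟨mul_mem (mul_mem (inv_mem hmf) hxf) hmf, hmneg x hx⟩)
    have := hconj m hmf _ h1
    rwa [show m * (m⁻¹ * x * m) * m⁻¹ = x by group] at this
  have hle : E.fix ≤ K' := hgen.trans (sup_le hU hV)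
  have e' : K' = E.fix := le_antisymm (Subgroup.commutator_le_self _) hle
  apply Subgroup.map_injective E.fix.subtype_injective
  rw [Subgroup.map_subtype_commutator, show ⁅E.fix, E.fix⁆ = E.fix from e',
    ← MonoidHom.range_eq_map, Subgroup.range_subtype]

/-- Simplicity. -/
theorem simple_fix [Finite F] (hok : E.DataOK d) (hG : E.Reps E.fix d.CL)
    (hlift : ∀ o ∈ d.L, E.Lift E.fix o) (hQ : 2 ≤ Q)
    (hcard : ∀ o ∈ d.L, Nat.card (E.Adm o) ^ e = Q ^ o.size) (hlink : chkLink T d.CL = true)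
    (hsolv : Group.IsSolvable ↥(D.borelSubgroup F)) (hperf : commutator ↥E.fix = ⊤)
    (hpos : 0 < d.CL.length) : IsSimpleGroup ↥E.fix ∧ ¬ IsMulCommutative ↥E.fix := by
  simp only [chkLink, Bool.and_eq_true, List.all_eq_true, List.any_eq_true, List.mem_range,
    Bool.or_eq_true, decide_eq_true_eq] at hlink
  obtain ⟨hne, hlnk⟩ := hlink
  obtain ⟨P, hB, hN, hcardS, hS⟩ := E.exists_bnPair_fix hok hG hlift hQ hcard hne
  have hc0 := List.getElem_mem (l := d.CL) hpos
  obtain ⟨s0, hs0, hs0f, hs0n, hs0M⟩ := hG _ hc0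
  obtain ⟨u, huf, hu1, hu⟩ := E.exists_class_elt hok hlift hQ hcard hc0 (hne _ hc0)
  have hnc : (⟨s0, hs0f⟩ : ↥E.fix) * ⟨u, huf⟩ ≠ ⟨u, huf⟩ * ⟨s0, hs0f⟩ := by
    intro e1
    have e2 : s0 * u = u * s0 := congrArg Subtype.val e1
    have h1 := conj_cellList_neg (h := h) hs0M hu
    rw [e2, mul_inv_cancel_right] at h1
    refine hu1 (neg_not_borel (h := h) h1 (Subgroup.mem_sup_left ?_))
    rw [h.posUnipotent_eq]; exact gen_mono D (fun r hr => (mem_cellList.1 hr).1) hu
  refine ⟨?_, fun hc => hnc (hc.is_comm.comm _ _)⟩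
  have : Nontrivial ↥E.fix := ⟨⟨_, _, hnc⟩⟩
  refine CfsgLib.BN.isSimpleGroup (P := P) ?_ ?_ hperf
    (by rw [hB]; exact E.normalCore_fix hok hG hlift hQ hcard)
  · intro J hJS hJ hJ'
    by_contra hcomm
    push Not at hcomm
    have hidx : ∀ s : P.S, ∃ a : Fin d.CL.length, ((s : ↥E.fix) : GL D.Idx F) ∈ D.monomialSubgroup F ∧
        ∀ r < T.n, Maps D ((s : ↥E.fix) : GL D.Idx F) r (rword T (d.CL.getD a.1 ⟨[], []⟩).word r) :=
      fun s => by obtain ⟨a, ha, h1, h2⟩ := hS s s.2; exact ⟨⟨a, ha⟩, h1, h2⟩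
    choose idx hidn hidM using hidx
    have hfinS : Finite P.S := Finite.Set.subset Set.univ (Set.subset_univ _)
    have hwok : ∀ a : Fin d.CL.length, WordOK T (d.CL.getD a.1 ⟨[], []⟩).word := fun a => by
      rw [List.getD_eq_getElem _ _ a.2]; exact hok.cls.wordOK E (List.getElem_mem a.2)
    have hinj : Function.Injective idx := by
      intro s s' e1
      refine Subtype.ext (P.inj _ s.2 _ s'.2 ?_)
      rw [hB, Subgroup.mem_subgroupOf]
      refine Subgroup.mem_inf.2 ⟨Subgroup.mem_sup_right ?_,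
        ((s : ↥E.fix)⁻¹ * (s' : ↥E.fix)).2⟩
      exact diag_of_same_perm (h := h) (hwok _) (hwok _) (hidn s) (hidn s') (hidM s) (hidM s')
        (fun r _ => by rw [e1])
    have hsurj : Function.Surjective idx := by
      have := Fintype.ofFinite P.S
      refine ((Fintype.bijective_iff_injective_and_card idx).2 ⟨hinj, ?_⟩).2
      rw [← Nat.card_eq_fintype_card, hcardS, Fintype.card_fin]
    choose sel hsel using hsurj
    let Qp : Fin d.CL.length → Prop := fun a => (sel a : ↥E.fix) ∈ J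
    have hall : ∀ k, ∀ hk : k < d.CL.length, (Qp ⟨k, hk⟩ ↔ Qp ⟨0, hpos⟩) := by
      intro k
      induction k using Nat.strong_induction_on with
      | _ k ih =>
        intro hk
        rcases hlnk k hk with rfl | ⟨a, hak, r, hr, hne'⟩
        · rfl
        have ha : a < d.CL.length := lt_trans hak hk
        rw [← ih a hak ha]
        by_contra hiff
        have hor : (Qp ⟨a, ha⟩ ∧ ¬ Qp ⟨k, hk⟩) ∨ (Qp ⟨k, hk⟩ ∧ ¬ Qp ⟨a, ha⟩) := by tauto
        set sa : ↥E.fix := (sel ⟨a, ha⟩ : ↥E.fix)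
        set sk : ↥E.fix := (sel ⟨k, hk⟩ : ↥E.fix)
        have key : sa * sk * sa⁻¹ * sk⁻¹ ∈ P.B := by
          rcases hor with ⟨h1, h2⟩ | ⟨h1, h2⟩
          · exact hcomm sa h1 sk ⟨(sel ⟨k, hk⟩).2, h2⟩
          · have := inv_mem (hcomm sk h1 sa ⟨(sel ⟨a, ha⟩).2, h2⟩)
            rwa [show (sk * sa * sk⁻¹ * sa⁻¹)⁻¹ = sa * sk * sa⁻¹ * sk⁻¹ by group] at this
        rw [hB, Subgroup.mem_subgroupOf] at key
        have hMa := hidM (sel ⟨a, ha⟩)
        have hMk := hidM (sel ⟨k, hk⟩)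
        have hna := hidn (sel ⟨a, ha⟩)
        have hnk := hidn (sel ⟨k, hk⟩)
        rw [hsel] at hMa hMk
        have hd : ((sk : GL D.Idx F) * (sa : GL D.Idx F))⁻¹ * ((sa : GL D.Idx F) * (sk : GL D.Idx F)) ∈
            D.diagonalSubgroup F := by
          have hdd : ((sa * sk * sa⁻¹ * sk⁻¹ : ↥E.fix) : GL D.Idx F) ∈ D.diagonalSubgroup F := by
            rw [← h.borel_inf_monomial]
            exact Subgroup.mem_inf.2 ⟨key.1, mul_mem (mul_mem (mul_mem hna hnk) (inv_mem hna)) (inv_mem hnk)⟩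
          have := diag_conj (h := h) (inv_mem (mul_mem hnk hna)) hdd
          simp only [Subgroup.coe_mul, Subgroup.coe_inv, sa, sk] at this ⊢
          convert this using 1
          group
        have hoka := hwok ⟨a, ha⟩
        have hokk := hwok ⟨k, hk⟩
        refine hne' ((sameAct_of_diag (h := h)
          (w := (d.CL.getD k ⟨[], []⟩).word ++ (d.CL.getD a ⟨[], []⟩).word)
          (v := (d.CL.getD a ⟨[], []⟩).word ++ (d.CL.getD k ⟨[], []⟩).word)
          (fun x hx => (List.mem_append.1 hx).elim (hokk x) (hoka x))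
          (fun x hx => (List.mem_append.1 hx).elim (hoka x) (hokk x))
          (fun x hx => by rw [rword_append]; exact Maps_mul (hMa x hx) (hMk _ (h.rword_lt hoka hx)))
          (fun x hx => by rw [rword_append]; exact Maps_mul (hMk x hx) (hMa _ (h.rword_lt hokk hx)))
          hd) r hr).symm
    obtain ⟨x, hx⟩ := hJ
    obtain ⟨y, hy⟩ := hJ'
    have hx' : (sel (idx ⟨x, hJS hx⟩) : ↥E.fix) = x := by
      rw [show sel (idx ⟨x, hJS hx⟩) = ⟨x, hJS hx⟩ from hinj (hsel _)]
    have hy' : (sel (idx ⟨y, hy.1⟩) : ↥E.fix) = y := by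
      rw [show sel (idx ⟨y, hy.1⟩) = ⟨y, hy.1⟩ from hinj (hsel _)]
    have h1 : Qp (idx ⟨x, hJS hx⟩) := by simpa [Qp, hx'] using hx
    have h2 : ¬ Qp (idx ⟨y, hy.1⟩) := by simpa [Qp, hy'] using hy.2
    exact h2 ((hall _ (idx ⟨y, hy.1⟩).2).2 ((hall _ (idx ⟨x, hJS hx⟩).2).1 h1))
  · rw [hB]
    let φ : ↥((D.borelSubgroup F ⊓ E.fix).subgroupOf E.fix) →* ↥(D.borelSubgroup F) :=
      { toFun := fun x => ⟨x.1.1, (Subgroup.mem_subgroupOf.1 x.2).1⟩
        map_one' := rfl
        map_mul' := fun _ _ => rfl }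
    exact Group.isSolvable_of_isSolvable_injective (f := φ)
      fun x y e => Subtype.ext (Subtype.ext (congrArg (fun z : ↥(D.borelSubgroup F) => z.1) e))

end Endo

end CfsgLib.Chev
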