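import Cfsg.Agent.Lib.Chev.WeylCheck
import Cfsg.Agent.Lib.Chev.DataB2

/-! Transversals in the Weyl group of type B2 (generated). -/

set_option autoImplicit false
set_option maxRecDepth 200000

namespace CfsgLib.Chev

def levelB2_1 : Level where
  reps := [[], [0]]
  mulTable := [[(1, 2)], [(0, 2)]]
  poly := [(1, 0), (1, 1)]

def levelB2_2 : Level where
  reps := [[], [1], [0, 1], [1, 0, 1]]
  mulTable := [[(0, 0), (1, 2)], [(2, 2), (0, 2)], [(1, 2), (3, 2)], [(3, 0), (2, 2)]]
  poly := [(1, 0), (1, 1), (1, 2), (1, 3)]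

/-- The levels of type B2. -/
def levelsB2 : List Level :=
  [levelB2_1, levelB2_2]

theorem chkLevelsB2 : tabB2.chkLevels levelsB2 = true := by
  decide +kernel

end CfsgLib.Chev
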