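import Cfsg.Agent.Lib.Chev.WeylCheck
import Cfsg.Agent.Lib.Chev.DataD4

/-! Transversals in the Weyl group of type D4 (generated). -/

set_option autoImplicit false
set_option maxRecDepth 200000

namespace CfsgLib.Chev

def levelD4_1 : Level where
  reps := [[], [0]]
  mulTable := [[(1, 4)], [(0, 4)]]
  poly := [(1, 0), (1, 1)]

def levelD4_2 : Level where
  reps := [[], [1], [0, 1]]
  mulTable := [[(0, 0), (1, 4)], [(2, 4), (0, 4)], [(1, 4), (2, 0)]]
  poly := [(1, 0), (1, 1), (1, 2)]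

def levelD4_3 : Level where
  reps := [[], [2], [1, 2], [0, 1, 2]]
  mulTable := [[(0, 0), (0, 1), (1, 4)], [(1, 0), (2, 4), (0, 4)], [(3, 4), (1, 4), (2, 1)],
      [(2, 4), (3, 0), (3, 1)]]
  poly := [(1, 0), (1, 1), (1, 2), (1, 3)]

def levelD4_4 : Level where
  reps := [[], [3], [1, 3], [0, 1, 3], [2, 1, 3], [2, 0, 1, 3], [1, 2, 0, 1, 3], [3, 1, 2, 0, 1,
      3]]
  mulTable := [[(0, 0), (0, 1), (0, 2), (1, 4)], [(1, 0), (2, 4), (1, 2), (0, 4)], [(3, 4), (1,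
      4), (4, 4), (2, 1)], [(2, 4), (3, 0), (5, 4), (3, 1)], [(5, 4), (4, 2), (2, 4), (4, 1)],
      [(4, 4), (6, 4), (3, 4), (5, 1)], [(6, 2), (5, 4), (6, 0), (7, 4)], [(7, 2), (7, 1), (7,
      0), (6, 4)]]
  poly := [(1, 0), (1, 1), (1, 2), (2, 3), (1, 4), (1, 5), (1, 6)]

/-- The levels of type D4. -/
def levelsD4 : List Level :=
  [levelD4_1, levelD4_2, levelD4_3, levelD4_4]

theorem chkLevelsD4 : tabD4.chkLevels levelsD4 = true := by
  decide +kernel

end CfsgLib.Chev
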