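import Cfsg.Agent.Lib.Chev.WeylCheck
import Cfsg.Agent.Lib.Chev.DataE6

/-! Transversals in the Weyl group of type E6 (generated). -/

set_option autoImplicit false
set_option maxRecDepth 200000

namespace CfsgLib.Chev

def levelE6_1 : Level where
  reps := [[], [0]]
  mulTable := [[(1, 6)], [(0, 6)]]
  poly := [(1, 0), (1, 1)]

def levelE6_2 : Level where
  reps := [[], [1]]
  mulTable := [[(0, 0), (1, 6)], [(1, 0), (0, 6)]]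
  poly := [(1, 0), (1, 1)]

def levelE6_3 : Level where
  reps := [[], [2], [0, 2]]
  mulTable := [[(0, 0), (0, 1), (1, 6)], [(2, 6), (1, 1), (0, 6)], [(1, 6), (2, 1), (2, 0)]]
  poly := [(1, 0), (1, 1), (1, 2)]

def levelE6_4 : Level where
  reps := [[], [3], [2, 3], [1, 3], [2, 1, 3], [0, 2, 3], [3, 2, 1, 3], [0, 2, 1, 3], [3, 0, 2,
      1, 3], [2, 3, 0, 2, 1, 3]]
  mulTable := [[(0, 0), (0, 1), (0, 2), (1, 6)], [(1, 0), (3, 6), (2, 6), (0, 6)], [(5, 6), (4,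
      6), (1, 6), (2, 2)], [(3, 0), (1, 6), (4, 6), (3, 1)], [(7, 6), (2, 6), (3, 6), (6, 6)],
      [(2, 6), (7, 6), (5, 0), (5, 2)], [(8, 6), (6, 2), (6, 1), (4, 6)], [(4, 6), (5, 6), (7,
      0), (8, 6)], [(6, 6), (8, 2), (9, 6), (7, 6)], [(9, 1), (9, 2), (8, 6), (9, 0)]]
  poly := [(1, 0), (1, 1), (2, 2), (2, 3), (2, 4), (1, 5), (1, 6)]

def levelE6_5 : Level where
  reps := [[], [4], [3, 4], [2, 3, 4], [1, 3, 4], [2, 1, 3, 4], [0, 2, 3, 4], [3, 2, 1, 3, 4],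
      [0, 2, 1, 3, 4], [4, 3, 2, 1, 3, 4], [3, 0, 2, 1, 3, 4], [4, 3, 0, 2, 1, 3, 4], [2, 3, 0,
      2, 1, 3, 4], [4, 2, 3, 0, 2, 1, 3, 4], [3, 4, 2, 3, 0, 2, 1, 3, 4], [1, 3, 4, 2, 3, 0, 2,
      1, 3, 4]]
  mulTable := [[(0, 0), (0, 1), (0, 2), (0, 3), (1, 6)], [(1, 0), (1, 1), (1, 2), (2, 6), (0,
      6)], [(2, 0), (4, 6), (3, 6), (1, 6), (2, 3)], [(6, 6), (5, 6), (2, 6), (3, 2), (3, 3)],
      [(4, 0), (2, 6), (5, 6), (4, 1), (4, 3)], [(8, 6), (3, 6), (4, 6), (7, 6), (5, 3)], [(3,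
      6), (8, 6), (6, 0), (6, 2), (6, 3)], [(10, 6), (7, 2), (7, 1), (5, 6), (9, 6)], [(5, 6),
      (6, 6), (8, 0), (10, 6), (8, 3)], [(11, 6), (9, 2), (9, 1), (9, 3), (7, 6)], [(7, 6), (10,
      2), (12, 6), (8, 6), (11, 6)], [(9, 6), (11, 2), (13, 6), (11, 3), (10, 6)], [(12, 1),
      (12, 2), (10, 6), (12, 0), (13, 6)], [(13, 1), (13, 2), (11, 6), (14, 6), (12, 6)], [(14,
      1), (15, 6), (14, 3), (13, 6), (14, 0)], [(15, 1), (14, 6), (15, 3), (15, 2), (15, 0)]]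
  poly := [(1, 0), (1, 1), (1, 2), (2, 3), (2, 4), (2, 5), (2, 6), (2, 7), (1, 8), (1, 9), (1,
      10)]

def levelE6_6 : Level where
  reps := [[], [5], [4, 5], [3, 4, 5], [1, 3, 4, 5], [2, 3, 4, 5], [0, 2, 3, 4, 5], [2, 1, 3, 4,
      5], [0, 2, 1, 3, 4, 5], [3, 2, 1, 3, 4, 5], [3, 0, 2, 1, 3, 4, 5], [4, 3, 2, 1, 3, 4, 5],
      [2, 3, 0, 2, 1, 3, 4, 5], [4, 3, 0, 2, 1, 3, 4, 5], [5, 4, 3, 2, 1, 3, 4, 5], [4, 2, 3, 0,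
      2, 1, 3, 4, 5], [5, 4, 3, 0, 2, 1, 3, 4, 5], [3, 4, 2, 3, 0, 2, 1, 3, 4, 5], [5, 4, 2, 3,
      0, 2, 1, 3, 4, 5], [1, 3, 4, 2, 3, 0, 2, 1, 3, 4, 5], [5, 3, 4, 2, 3, 0, 2, 1, 3, 4, 5],
      [5, 1, 3, 4, 2, 3, 0, 2, 1, 3, 4, 5], [4, 5, 3, 4, 2, 3, 0, 2, 1, 3, 4, 5], [4, 5, 1, 3,
      4, 2, 3, 0, 2, 1, 3, 4, 5], [3, 4, 5, 1, 3, 4, 2, 3, 0, 2, 1, 3, 4, 5], [2, 3, 4, 5, 1, 3,
      4, 2, 3, 0, 2, 1, 3, 4, 5], [0, 2, 3, 4, 5, 1, 3, 4, 2, 3, 0, 2, 1, 3, 4, 5]]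
  mulTable := [[(0, 0), (0, 1), (0, 2), (0, 3), (0, 4), (1, 6)], [(1, 0), (1, 1), (1, 2), (1,
      3), (2, 6), (0, 6)], [(2, 0), (2, 1), (2, 2), (3, 6), (1, 6), (2, 4)], [(3, 0), (4, 6),
      (5, 6), (2, 6), (3, 3), (3, 4)], [(4, 0), (3, 6), (7, 6), (4, 1), (4, 3), (4, 4)], [(6,
      6), (7, 6), (3, 6), (5, 2), (5, 3), (5, 4)], [(5, 6), (8, 6), (6, 0), (6, 2), (6, 3), (6,
      4)], [(8, 6), (5, 6), (4, 6), (9, 6), (7, 3), (7, 4)], [(7, 6), (6, 6), (8, 0), (10, 6),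
      (8, 3), (8, 4)], [(10, 6), (9, 2), (9, 1), (7, 6), (11, 6), (9, 4)], [(9, 6), (10, 2),
      (12, 6), (8, 6), (13, 6), (10, 4)], [(13, 6), (11, 2), (11, 1), (11, 3), (9, 6), (14, 6)],
      [(12, 1), (12, 2), (10, 6), (12, 0), (15, 6), (12, 4)], [(11, 6), (13, 2), (15, 6), (13,
      3), (10, 6), (16, 6)], [(16, 6), (14, 2), (14, 1), (14, 3), (14, 4), (11, 6)], [(15, 1),
      (15, 2), (13, 6), (17, 6), (12, 6), (18, 6)], [(14, 6), (16, 2), (18, 6), (16, 3), (16,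
      4), (13, 6)], [(17, 1), (19, 6), (17, 3), (15, 6), (17, 0), (20, 6)], [(18, 1), (18, 2),
      (16, 6), (20, 6), (18, 4), (15, 6)], [(19, 1), (17, 6), (19, 3), (19, 2), (19, 0), (21,
      6)], [(20, 1), (21, 6), (20, 3), (18, 6), (22, 6), (17, 6)], [(21, 1), (20, 6), (21, 3),
      (21, 2), (23, 6), (19, 6)], [(22, 1), (23, 6), (22, 3), (22, 4), (20, 6), (22, 0)], [(23,
      1), (22, 6), (23, 3), (24, 6), (21, 6), (23, 0)], [(24, 1), (24, 4), (25, 6), (23, 6),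
      (24, 2), (24, 0)], [(26, 6), (25, 4), (24, 6), (25, 3), (25, 2), (25, 0)], [(25, 6), (26,
      4), (26, 1), (26, 3), (26, 2), (26, 0)]]
  poly := [(1, 0), (1, 1), (1, 2), (1, 3), (2, 4), (2, 5), (2, 6), (2, 7), (3, 8), (2, 9), (2,
      10), (2, 11), (2, 12), (1, 13), (1, 14), (1, 15), (1, 16)]

/-- The levels of type E6. -/
def levelsE6 : List Level :=
  [levelE6_1, levelE6_2, levelE6_3, levelE6_4, levelE6_5, levelE6_6]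

theorem chkLevelsE6 : tabE6.chkLevels levelsE6 = true := by
  decide +kernel

end CfsgLib.Chev
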