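import Cfsg.Agent.Lib.Chev.WeylCheck
import Cfsg.Agent.Lib.Chev.DataE7

/-! Transversals in the Weyl group of type E7 (generated). -/

set_option autoImplicit false
set_option maxRecDepth 200000

namespace CfsgLib.Chev

def levelE7_1 : Level where
  reps := [[], [0]]
  mulTable := [[(1, 7)], [(0, 7)]]
  poly := [(1, 0), (1, 1)]

def levelE7_2 : Level where
  reps := [[], [1]]
  mulTable := [[(0, 0), (1, 7)], [(1, 0), (0, 7)]]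
  poly := [(1, 0), (1, 1)]

def levelE7_3 : Level where
  reps := [[], [2], [0, 2]]
  mulTable := [[(0, 0), (0, 1), (1, 7)], [(2, 7), (1, 1), (0, 7)], [(1, 7), (2, 1), (2, 0)]]
  poly := [(1, 0), (1, 1), (1, 2)]

def levelE7_4 : Level where
  reps := [[], [3], [2, 3], [1, 3], [2, 1, 3], [0, 2, 3], [3, 2, 1, 3], [0, 2, 1, 3], [3, 0, 2,
      1, 3], [2, 3, 0, 2, 1, 3]]
  mulTable := [[(0, 0), (0, 1), (0, 2), (1, 7)], [(1, 0), (3, 7), (2, 7), (0, 7)], [(5, 7), (4,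
      7), (1, 7), (2, 2)], [(3, 0), (1, 7), (4, 7), (3, 1)], [(7, 7), (2, 7), (3, 7), (6, 7)],
      [(2, 7), (7, 7), (5, 0), (5, 2)], [(8, 7), (6, 2), (6, 1), (4, 7)], [(4, 7), (5, 7), (7,
      0), (8, 7)], [(6, 7), (8, 2), (9, 7), (7, 7)], [(9, 1), (9, 2), (8, 7), (9, 0)]]
  poly := [(1, 0), (1, 1), (2, 2), (2, 3), (2, 4), (1, 5), (1, 6)]

def levelE7_5 : Level where
  reps := [[], [4], [3, 4], [2, 3, 4], [1, 3, 4], [2, 1, 3, 4], [0, 2, 3, 4], [3, 2, 1, 3, 4],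
      [0, 2, 1, 3, 4], [4, 3, 2, 1, 3, 4], [3, 0, 2, 1, 3, 4], [4, 3, 0, 2, 1, 3, 4], [2, 3, 0,
      2, 1, 3, 4], [4, 2, 3, 0, 2, 1, 3, 4], [3, 4, 2, 3, 0, 2, 1, 3, 4], [1, 3, 4, 2, 3, 0, 2,
      1, 3, 4]]
  mulTable := [[(0, 0), (0, 1), (0, 2), (0, 3), (1, 7)], [(1, 0), (1, 1), (1, 2), (2, 7), (0,
      7)], [(2, 0), (4, 7), (3, 7), (1, 7), (2, 3)], [(6, 7), (5, 7), (2, 7), (3, 2), (3, 3)],
      [(4, 0), (2, 7), (5, 7), (4, 1), (4, 3)], [(8, 7), (3, 7), (4, 7), (7, 7), (5, 3)], [(3,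
      7), (8, 7), (6, 0), (6, 2), (6, 3)], [(10, 7), (7, 2), (7, 1), (5, 7), (9, 7)], [(5, 7),
      (6, 7), (8, 0), (10, 7), (8, 3)], [(11, 7), (9, 2), (9, 1), (9, 3), (7, 7)], [(7, 7), (10,
      2), (12, 7), (8, 7), (11, 7)], [(9, 7), (11, 2), (13, 7), (11, 3), (10, 7)], [(12, 1),
      (12, 2), (10, 7), (12, 0), (13, 7)], [(13, 1), (13, 2), (11, 7), (14, 7), (12, 7)], [(14,
      1), (15, 7), (14, 3), (13, 7), (14, 0)], [(15, 1), (14, 7), (15, 3), (15, 2), (15, 0)]]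
  poly := [(1, 0), (1, 1), (1, 2), (2, 3), (2, 4), (2, 5), (2, 6), (2, 7), (1, 8), (1, 9), (1,
      10)]

def levelE7_6 : Level where
  reps := [[], [5], [4, 5], [3, 4, 5], [2, 3, 4, 5], [1, 3, 4, 5], [2, 1, 3, 4, 5], [0, 2, 3, 4,
      5], [3, 2, 1, 3, 4, 5], [0, 2, 1, 3, 4, 5], [4, 3, 2, 1, 3, 4, 5], [3, 0, 2, 1, 3, 4, 5],
      [5, 4, 3, 2, 1, 3, 4, 5], [4, 3, 0, 2, 1, 3, 4, 5], [2, 3, 0, 2, 1, 3, 4, 5], [5, 4, 3, 0,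
      2, 1, 3, 4, 5], [4, 2, 3, 0, 2, 1, 3, 4, 5], [5, 4, 2, 3, 0, 2, 1, 3, 4, 5], [3, 4, 2, 3,
      0, 2, 1, 3, 4, 5], [5, 3, 4, 2, 3, 0, 2, 1, 3, 4, 5], [1, 3, 4, 2, 3, 0, 2, 1, 3, 4, 5],
      [4, 5, 3, 4, 2, 3, 0, 2, 1, 3, 4, 5], [5, 1, 3, 4, 2, 3, 0, 2, 1, 3, 4, 5], [4, 5, 1, 3,
      4, 2, 3, 0, 2, 1, 3, 4, 5], [3, 4, 5, 1, 3, 4, 2, 3, 0, 2, 1, 3, 4, 5], [2, 3, 4, 5, 1, 3,
      4, 2, 3, 0, 2, 1, 3, 4, 5], [0, 2, 3, 4, 5, 1, 3, 4, 2, 3, 0, 2, 1, 3, 4, 5]]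
  mulTable := [[(0, 0), (0, 1), (0, 2), (0, 3), (0, 4), (1, 7)], [(1, 0), (1, 1), (1, 2), (1,
      3), (2, 7), (0, 7)], [(2, 0), (2, 1), (2, 2), (3, 7), (1, 7), (2, 4)], [(3, 0), (5, 7),
      (4, 7), (2, 7), (3, 3), (3, 4)], [(7, 7), (6, 7), (3, 7), (4, 2), (4, 3), (4, 4)], [(5,
      0), (3, 7), (6, 7), (5, 1), (5, 3), (5, 4)], [(9, 7), (4, 7), (5, 7), (8, 7), (6, 3), (6,
      4)], [(4, 7), (9, 7), (7, 0), (7, 2), (7, 3), (7, 4)], [(11, 7), (8, 2), (8, 1), (6, 7),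
      (10, 7), (8, 4)], [(6, 7), (7, 7), (9, 0), (11, 7), (9, 3), (9, 4)], [(13, 7), (10, 2),
      (10, 1), (10, 3), (8, 7), (12, 7)], [(8, 7), (11, 2), (14, 7), (9, 7), (13, 7), (11, 4)],
      [(15, 7), (12, 2), (12, 1), (12, 3), (12, 4), (10, 7)], [(10, 7), (13, 2), (16, 7), (13,
      3), (11, 7), (15, 7)], [(14, 1), (14, 2), (11, 7), (14, 0), (16, 7), (14, 4)], [(12, 7),
      (15, 2), (17, 7), (15, 3), (15, 4), (13, 7)], [(16, 1), (16, 2), (13, 7), (18, 7), (14,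
      7), (17, 7)], [(17, 1), (17, 2), (15, 7), (19, 7), (17, 4), (16, 7)], [(18, 1), (20, 7),
      (18, 3), (16, 7), (18, 0), (19, 7)], [(19, 1), (22, 7), (19, 3), (17, 7), (21, 7), (18,
      7)], [(20, 1), (18, 7), (20, 3), (20, 2), (20, 0), (22, 7)], [(21, 1), (23, 7), (21, 3),
      (21, 4), (19, 7), (21, 0)], [(22, 1), (19, 7), (22, 3), (22, 2), (23, 7), (20, 7)], [(23,
      1), (21, 7), (23, 3), (24, 7), (22, 7), (23, 0)], [(24, 1), (24, 4), (25, 7), (23, 7),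
      (24, 2), (24, 0)], [(26, 7), (25, 4), (24, 7), (25, 3), (25, 2), (25, 0)], [(25, 7), (26,
      4), (26, 1), (26, 3), (26, 2), (26, 0)]]
  poly := [(1, 0), (1, 1), (1, 2), (1, 3), (2, 4), (2, 5), (2, 6), (2, 7), (3, 8), (2, 9), (2,
      10), (2, 11), (2, 12), (1, 13), (1, 14), (1, 15), (1, 16)]

def levelE7_7 : Level where
  reps := [[], [6], [5, 6], [4, 5, 6], [3, 4, 5, 6], [1, 3, 4, 5, 6], [2, 3, 4, 5, 6], [0, 2, 3,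
      4, 5, 6], [2, 1, 3, 4, 5, 6], [0, 2, 1, 3, 4, 5, 6], [3, 2, 1, 3, 4, 5, 6], [3, 0, 2, 1,
      3, 4, 5, 6], [4, 3, 2, 1, 3, 4, 5, 6], [2, 3, 0, 2, 1, 3, 4, 5, 6], [4, 3, 0, 2, 1, 3, 4,
      5, 6], [5, 4, 3, 2, 1, 3, 4, 5, 6], [4, 2, 3, 0, 2, 1, 3, 4, 5, 6], [5, 4, 3, 0, 2, 1, 3,
      4, 5, 6], [6, 5, 4, 3, 2, 1, 3, 4, 5, 6], [3, 4, 2, 3, 0, 2, 1, 3, 4, 5, 6], [5, 4, 2, 3,
      0, 2, 1, 3, 4, 5, 6], [6, 5, 4, 3, 0, 2, 1, 3, 4, 5, 6], [1, 3, 4, 2, 3, 0, 2, 1, 3, 4, 5,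
      6], [5, 3, 4, 2, 3, 0, 2, 1, 3, 4, 5, 6], [6, 5, 4, 2, 3, 0, 2, 1, 3, 4, 5, 6], [5, 1, 3,
      4, 2, 3, 0, 2, 1, 3, 4, 5, 6], [4, 5, 3, 4, 2, 3, 0, 2, 1, 3, 4, 5, 6], [6, 5, 3, 4, 2, 3,
      0, 2, 1, 3, 4, 5, 6], [4, 5, 1, 3, 4, 2, 3, 0, 2, 1, 3, 4, 5, 6], [6, 5, 1, 3, 4, 2, 3, 0,
      2, 1, 3, 4, 5, 6], [6, 4, 5, 3, 4, 2, 3, 0, 2, 1, 3, 4, 5, 6], [3, 4, 5, 1, 3, 4, 2, 3, 0,
      2, 1, 3, 4, 5, 6], [6, 4, 5, 1, 3, 4, 2, 3, 0, 2, 1, 3, 4, 5, 6], [5, 6, 4, 5, 3, 4, 2, 3,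
      0, 2, 1, 3, 4, 5, 6], [2, 3, 4, 5, 1, 3, 4, 2, 3, 0, 2, 1, 3, 4, 5, 6], [6, 3, 4, 5, 1, 3,
      4, 2, 3, 0, 2, 1, 3, 4, 5, 6], [5, 6, 4, 5, 1, 3, 4, 2, 3, 0, 2, 1, 3, 4, 5, 6], [0, 2, 3,
      4, 5, 1, 3, 4, 2, 3, 0, 2, 1, 3, 4, 5, 6], [6, 2, 3, 4, 5, 1, 3, 4, 2, 3, 0, 2, 1, 3, 4,
      5, 6], [5, 6, 3, 4, 5, 1, 3, 4, 2, 3, 0, 2, 1, 3, 4, 5, 6], [6, 0, 2, 3, 4, 5, 1, 3, 4, 2,
      3, 0, 2, 1, 3, 4, 5, 6], [5, 6, 2, 3, 4, 5, 1, 3, 4, 2, 3, 0, 2, 1, 3, 4, 5, 6], [4, 5, 6,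
      3, 4, 5, 1, 3, 4, 2, 3, 0, 2, 1, 3, 4, 5, 6], [5, 6, 0, 2, 3, 4, 5, 1, 3, 4, 2, 3, 0, 2,
      1, 3, 4, 5, 6], [4, 5, 6, 2, 3, 4, 5, 1, 3, 4, 2, 3, 0, 2, 1, 3, 4, 5, 6], [4, 5, 6, 0, 2,
      3, 4, 5, 1, 3, 4, 2, 3, 0, 2, 1, 3, 4, 5, 6], [3, 4, 5, 6, 2, 3, 4, 5, 1, 3, 4, 2, 3, 0,
      2, 1, 3, 4, 5, 6], [3, 4, 5, 6, 0, 2, 3, 4, 5, 1, 3, 4, 2, 3, 0, 2, 1, 3, 4, 5, 6], [1, 3,
      4, 5, 6, 2, 3, 4, 5, 1, 3, 4, 2, 3, 0, 2, 1, 3, 4, 5, 6], [2, 3, 4, 5, 6, 0, 2, 3, 4, 5,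
      1, 3, 4, 2, 3, 0, 2, 1, 3, 4, 5, 6], [1, 3, 4, 5, 6, 0, 2, 3, 4, 5, 1, 3, 4, 2, 3, 0, 2,
      1, 3, 4, 5, 6], [2, 1, 3, 4, 5, 6, 0, 2, 3, 4, 5, 1, 3, 4, 2, 3, 0, 2, 1, 3, 4, 5, 6], [3,
      2, 1, 3, 4, 5, 6, 0, 2, 3, 4, 5, 1, 3, 4, 2, 3, 0, 2, 1, 3, 4, 5, 6], [4, 3, 2, 1, 3, 4,
      5, 6, 0, 2, 3, 4, 5, 1, 3, 4, 2, 3, 0, 2, 1, 3, 4, 5, 6], [5, 4, 3, 2, 1, 3, 4, 5, 6, 0,
      2, 3, 4, 5, 1, 3, 4, 2, 3, 0, 2, 1, 3, 4, 5, 6], [6, 5, 4, 3, 2, 1, 3, 4, 5, 6, 0, 2, 3,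
      4, 5, 1, 3, 4, 2, 3, 0, 2, 1, 3, 4, 5, 6]]
  mulTable := [[(0, 0), (0, 1), (0, 2), (0, 3), (0, 4), (0, 5), (1, 7)], [(1, 0), (1, 1), (1,
      2), (1, 3), (1, 4), (2, 7), (0, 7)], [(2, 0), (2, 1), (2, 2), (2, 3), (3, 7), (1, 7), (2,
      5)], [(3, 0), (3, 1), (3, 2), (4, 7), (2, 7), (3, 4), (3, 5)], [(4, 0), (5, 7), (6, 7),
      (3, 7), (4, 3), (4, 4), (4, 5)], [(5, 0), (4, 7), (8, 7), (5, 1), (5, 3), (5, 4), (5, 5)],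
      [(7, 7), (8, 7), (4, 7), (6, 2), (6, 3), (6, 4), (6, 5)], [(6, 7), (9, 7), (7, 0), (7, 2),
      (7, 3), (7, 4), (7, 5)], [(9, 7), (6, 7), (5, 7), (10, 7), (8, 3), (8, 4), (8, 5)], [(8,
      7), (7, 7), (9, 0), (11, 7), (9, 3), (9, 4), (9, 5)], [(11, 7), (10, 2), (10, 1), (8, 7),
      (12, 7), (10, 4), (10, 5)], [(10, 7), (11, 2), (13, 7), (9, 7), (14, 7), (11, 4), (11,
      5)], [(14, 7), (12, 2), (12, 1), (12, 3), (10, 7), (15, 7), (12, 5)], [(13, 1), (13, 2),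
      (11, 7), (13, 0), (16, 7), (13, 4), (13, 5)], [(12, 7), (14, 2), (16, 7), (14, 3), (11,
      7), (17, 7), (14, 5)], [(17, 7), (15, 2), (15, 1), (15, 3), (15, 4), (12, 7), (18, 7)],
      [(16, 1), (16, 2), (14, 7), (19, 7), (13, 7), (20, 7), (16, 5)], [(15, 7), (17, 2), (20,
      7), (17, 3), (17, 4), (14, 7), (21, 7)], [(21, 7), (18, 2), (18, 1), (18, 3), (18, 4),
      (18, 5), (15, 7)], [(19, 1), (22, 7), (19, 3), (16, 7), (19, 0), (23, 7), (19, 5)], [(20,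
      1), (20, 2), (17, 7), (23, 7), (20, 4), (16, 7), (24, 7)], [(18, 7), (21, 2), (24, 7),
      (21, 3), (21, 4), (21, 5), (17, 7)], [(22, 1), (19, 7), (22, 3), (22, 2), (22, 0), (25,
      7), (22, 5)], [(23, 1), (25, 7), (23, 3), (20, 7), (26, 7), (19, 7), (27, 7)], [(24, 1),
      (24, 2), (21, 7), (27, 7), (24, 4), (24, 5), (20, 7)], [(25, 1), (23, 7), (25, 3), (25,
      2), (28, 7), (22, 7), (29, 7)], [(26, 1), (28, 7), (26, 3), (26, 4), (23, 7), (26, 0),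
      (30, 7)], [(27, 1), (29, 7), (27, 3), (24, 7), (30, 7), (27, 5), (23, 7)], [(28, 1), (26,
      7), (28, 3), (31, 7), (25, 7), (28, 0), (32, 7)], [(29, 1), (27, 7), (29, 3), (29, 2),
      (32, 7), (29, 5), (25, 7)], [(30, 1), (32, 7), (30, 3), (30, 4), (27, 7), (33, 7), (26,
      7)], [(31, 1), (31, 4), (34, 7), (28, 7), (31, 2), (31, 0), (35, 7)], [(32, 1), (30, 7),
      (32, 3), (35, 7), (29, 7), (36, 7), (28, 7)], [(33, 1), (36, 7), (33, 3), (33, 4), (33,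
      5), (30, 7), (33, 0)], [(37, 7), (34, 4), (31, 7), (34, 3), (34, 2), (34, 0), (38, 7)],
      [(35, 1), (35, 4), (38, 7), (32, 7), (35, 2), (39, 7), (31, 7)], [(36, 1), (33, 7), (36,
      3), (39, 7), (36, 5), (32, 7), (36, 0)], [(34, 7), (37, 4), (37, 1), (37, 3), (37, 2),
      (37, 0), (40, 7)], [(40, 7), (38, 4), (35, 7), (38, 3), (38, 2), (41, 7), (34, 7)], [(39,
      1), (39, 4), (41, 7), (36, 7), (42, 7), (35, 7), (39, 0)], [(38, 7), (40, 4), (40, 1),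
      (40, 3), (40, 2), (43, 7), (37, 7)], [(43, 7), (41, 4), (39, 7), (41, 3), (44, 7), (38,
      7), (41, 0)], [(42, 1), (42, 4), (44, 7), (42, 5), (39, 7), (42, 2), (42, 0)], [(41, 7),
      (43, 4), (43, 1), (43, 3), (45, 7), (40, 7), (43, 0)], [(45, 7), (44, 4), (42, 7), (46,
      7), (41, 7), (44, 2), (44, 0)], [(44, 7), (45, 4), (45, 1), (47, 7), (43, 7), (45, 2),
      (45, 0)], [(47, 7), (48, 7), (46, 5), (44, 7), (46, 3), (46, 2), (46, 0)], [(46, 7), (50,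
      7), (49, 7), (45, 7), (47, 3), (47, 2), (47, 0)], [(50, 7), (46, 7), (48, 5), (48, 4),
      (48, 3), (48, 2), (48, 0)], [(49, 5), (51, 7), (47, 7), (49, 1), (49, 3), (49, 2), (49,
      0)], [(48, 7), (47, 7), (51, 7), (50, 4), (50, 3), (50, 2), (50, 0)], [(51, 5), (49, 7),
      (50, 7), (52, 7), (51, 3), (51, 2), (51, 0)], [(52, 5), (52, 1), (52, 4), (51, 7), (53,
      7), (52, 2), (52, 0)], [(53, 5), (53, 1), (53, 4), (53, 3), (52, 7), (54, 7), (53, 0)],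
      [(54, 5), (54, 1), (54, 4), (54, 3), (54, 2), (53, 7), (55, 7)], [(55, 5), (55, 1), (55,
      4), (55, 3), (55, 2), (55, 0), (54, 7)]]
  poly := [(1, 0), (1, 1), (1, 2), (1, 3), (1, 4), (2, 5), (2, 6), (2, 7), (2, 8), (3, 9), (3,
      10), (3, 11), (3, 12), (3, 13), (3, 14), (3, 15), (3, 16), (3, 17), (3, 18), (2, 19), (2,
      20), (2, 21), (2, 22), (1, 23), (1, 24), (1, 25), (1, 26), (1, 27)]

/-- The levels of type E7. -/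
def levelsE7 : List Level :=
  [levelE7_1, levelE7_2, levelE7_3, levelE7_4, levelE7_5, levelE7_6, levelE7_7]

theorem chkLevelsE7 : tabE7.chkLevels levelsE7 = true := by
  decide +kernel

end CfsgLib.Chev
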