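import Cfsg.Agent.Lib.Chev.WeylCheck
import Cfsg.Agent.Lib.Chev.DataE8

/-! Transversals in the Weyl group of type E8 (generated). -/

set_option autoImplicit false
set_option maxRecDepth 200000

namespace CfsgLib.Chev

def levelE8_1 : Level where
  reps := [[], [0]]
  mulTable := [[(1, 8)], [(0, 8)]]
  poly := [(1, 0), (1, 1)]

def levelE8_2 : Level where
  reps := [[], [1]]
  mulTable := [[(0, 0), (1, 8)], [(1, 0), (0, 8)]]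
  poly := [(1, 0), (1, 1)]

def levelE8_3 : Level where
  reps := [[], [2], [0, 2]]
  mulTable := [[(0, 0), (0, 1), (1, 8)], [(2, 8), (1, 1), (0, 8)], [(1, 8), (2, 1), (2, 0)]]
  poly := [(1, 0), (1, 1), (1, 2)]

def levelE8_4 : Level where
  reps := [[], [3], [2, 3], [1, 3], [2, 1, 3], [0, 2, 3], [3, 2, 1, 3], [0, 2, 1, 3], [3, 0, 2,
      1, 3], [2, 3, 0, 2, 1, 3]]
  mulTable := [[(0, 0), (0, 1), (0, 2), (1, 8)], [(1, 0), (3, 8), (2, 8), (0, 8)], [(5, 8), (4,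
      8), (1, 8), (2, 2)], [(3, 0), (1, 8), (4, 8), (3, 1)], [(7, 8), (2, 8), (3, 8), (6, 8)],
      [(2, 8), (7, 8), (5, 0), (5, 2)], [(8, 8), (6, 2), (6, 1), (4, 8)], [(4, 8), (5, 8), (7,
      0), (8, 8)], [(6, 8), (8, 2), (9, 8), (7, 8)], [(9, 1), (9, 2), (8, 8), (9, 0)]]
  poly := [(1, 0), (1, 1), (2, 2), (2, 3), (2, 4), (1, 5), (1, 6)]

def levelE8_5 : Level where
  reps := [[], [4], [3, 4], [2, 3, 4], [1, 3, 4], [2, 1, 3, 4], [0, 2, 3, 4], [3, 2, 1, 3, 4],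
      [0, 2, 1, 3, 4], [4, 3, 2, 1, 3, 4], [3, 0, 2, 1, 3, 4], [4, 3, 0, 2, 1, 3, 4], [2, 3, 0,
      2, 1, 3, 4], [4, 2, 3, 0, 2, 1, 3, 4], [3, 4, 2, 3, 0, 2, 1, 3, 4], [1, 3, 4, 2, 3, 0, 2,
      1, 3, 4]]
  mulTable := [[(0, 0), (0, 1), (0, 2), (0, 3), (1, 8)], [(1, 0), (1, 1), (1, 2), (2, 8), (0,
      8)], [(2, 0), (4, 8), (3, 8), (1, 8), (2, 3)], [(6, 8), (5, 8), (2, 8), (3, 2), (3, 3)],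
      [(4, 0), (2, 8), (5, 8), (4, 1), (4, 3)], [(8, 8), (3, 8), (4, 8), (7, 8), (5, 3)], [(3,
      8), (8, 8), (6, 0), (6, 2), (6, 3)], [(10, 8), (7, 2), (7, 1), (5, 8), (9, 8)], [(5, 8),
      (6, 8), (8, 0), (10, 8), (8, 3)], [(11, 8), (9, 2), (9, 1), (9, 3), (7, 8)], [(7, 8), (10,
      2), (12, 8), (8, 8), (11, 8)], [(9, 8), (11, 2), (13, 8), (11, 3), (10, 8)], [(12, 1),
      (12, 2), (10, 8), (12, 0), (13, 8)], [(13, 1), (13, 2), (11, 8), (14, 8), (12, 8)], [(14,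
      1), (15, 8), (14, 3), (13, 8), (14, 0)], [(15, 1), (14, 8), (15, 3), (15, 2), (15, 0)]]
  poly := [(1, 0), (1, 1), (1, 2), (2, 3), (2, 4), (2, 5), (2, 6), (2, 7), (1, 8), (1, 9), (1,
      10)]

def levelE8_6 : Level where
  reps := [[], [5], [4, 5], [3, 4, 5], [2, 3, 4, 5], [1, 3, 4, 5], [2, 1, 3, 4, 5], [0, 2, 3, 4,
      5], [3, 2, 1, 3, 4, 5], [0, 2, 1, 3, 4, 5], [4, 3, 2, 1, 3, 4, 5], [3, 0, 2, 1, 3, 4, 5],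
      [5, 4, 3, 2, 1, 3, 4, 5], [4, 3, 0, 2, 1, 3, 4, 5], [2, 3, 0, 2, 1, 3, 4, 5], [5, 4, 3, 0,
      2, 1, 3, 4, 5], [4, 2, 3, 0, 2, 1, 3, 4, 5], [5, 4, 2, 3, 0, 2, 1, 3, 4, 5], [3, 4, 2, 3,
      0, 2, 1, 3, 4, 5], [5, 3, 4, 2, 3, 0, 2, 1, 3, 4, 5], [1, 3, 4, 2, 3, 0, 2, 1, 3, 4, 5],
      [4, 5, 3, 4, 2, 3, 0, 2, 1, 3, 4, 5], [5, 1, 3, 4, 2, 3, 0, 2, 1, 3, 4, 5], [4, 5, 1, 3,
      4, 2, 3, 0, 2, 1, 3, 4, 5], [3, 4, 5, 1, 3, 4, 2, 3, 0, 2, 1, 3, 4, 5], [2, 3, 4, 5, 1, 3,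
      4, 2, 3, 0, 2, 1, 3, 4, 5], [0, 2, 3, 4, 5, 1, 3, 4, 2, 3, 0, 2, 1, 3, 4, 5]]
  mulTable := [[(0, 0), (0, 1), (0, 2), (0, 3), (0, 4), (1, 8)], [(1, 0), (1, 1), (1, 2), (1,
      3), (2, 8), (0, 8)], [(2, 0), (2, 1), (2, 2), (3, 8), (1, 8), (2, 4)], [(3, 0), (5, 8),
      (4, 8), (2, 8), (3, 3), (3, 4)], [(7, 8), (6, 8), (3, 8), (4, 2), (4, 3), (4, 4)], [(5,
      0), (3, 8), (6, 8), (5, 1), (5, 3), (5, 4)], [(9, 8), (4, 8), (5, 8), (8, 8), (6, 3), (6,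
      4)], [(4, 8), (9, 8), (7, 0), (7, 2), (7, 3), (7, 4)], [(11, 8), (8, 2), (8, 1), (6, 8),
      (10, 8), (8, 4)], [(6, 8), (7, 8), (9, 0), (11, 8), (9, 3), (9, 4)], [(13, 8), (10, 2),
      (10, 1), (10, 3), (8, 8), (12, 8)], [(8, 8), (11, 2), (14, 8), (9, 8), (13, 8), (11, 4)],
      [(15, 8), (12, 2), (12, 1), (12, 3), (12, 4), (10, 8)], [(10, 8), (13, 2), (16, 8), (13,
      3), (11, 8), (15, 8)], [(14, 1), (14, 2), (11, 8), (14, 0), (16, 8), (14, 4)], [(12, 8),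
      (15, 2), (17, 8), (15, 3), (15, 4), (13, 8)], [(16, 1), (16, 2), (13, 8), (18, 8), (14,
      8), (17, 8)], [(17, 1), (17, 2), (15, 8), (19, 8), (17, 4), (16, 8)], [(18, 1), (20, 8),
      (18, 3), (16, 8), (18, 0), (19, 8)], [(19, 1), (22, 8), (19, 3), (17, 8), (21, 8), (18,
      8)], [(20, 1), (18, 8), (20, 3), (20, 2), (20, 0), (22, 8)], [(21, 1), (23, 8), (21, 3),
      (21, 4), (19, 8), (21, 0)], [(22, 1), (19, 8), (22, 3), (22, 2), (23, 8), (20, 8)], [(23,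
      1), (21, 8), (23, 3), (24, 8), (22, 8), (23, 0)], [(24, 1), (24, 4), (25, 8), (23, 8),
      (24, 2), (24, 0)], [(26, 8), (25, 4), (24, 8), (25, 3), (25, 2), (25, 0)], [(25, 8), (26,
      4), (26, 1), (26, 3), (26, 2), (26, 0)]]
  poly := [(1, 0), (1, 1), (1, 2), (1, 3), (2, 4), (2, 5), (2, 6), (2, 7), (3, 8), (2, 9), (2,
      10), (2, 11), (2, 12), (1, 13), (1, 14), (1, 15), (1, 16)]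

def levelE8_7 : Level where
  reps := [[], [6], [5, 6], [4, 5, 6], [3, 4, 5, 6], [2, 3, 4, 5, 6], [1, 3, 4, 5, 6], [2, 1, 3,
      4, 5, 6], [0, 2, 3, 4, 5, 6], [3, 2, 1, 3, 4, 5, 6], [0, 2, 1, 3, 4, 5, 6], [4, 3, 2, 1,
      3, 4, 5, 6], [3, 0, 2, 1, 3, 4, 5, 6], [5, 4, 3, 2, 1, 3, 4, 5, 6], [4, 3, 0, 2, 1, 3, 4,
      5, 6], [2, 3, 0, 2, 1, 3, 4, 5, 6], [6, 5, 4, 3, 2, 1, 3, 4, 5, 6], [5, 4, 3, 0, 2, 1, 3,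
      4, 5, 6], [4, 2, 3, 0, 2, 1, 3, 4, 5, 6], [6, 5, 4, 3, 0, 2, 1, 3, 4, 5, 6], [5, 4, 2, 3,
      0, 2, 1, 3, 4, 5, 6], [3, 4, 2, 3, 0, 2, 1, 3, 4, 5, 6], [6, 5, 4, 2, 3, 0, 2, 1, 3, 4, 5,
      6], [5, 3, 4, 2, 3, 0, 2, 1, 3, 4, 5, 6], [1, 3, 4, 2, 3, 0, 2, 1, 3, 4, 5, 6], [6, 5, 3,
      4, 2, 3, 0, 2, 1, 3, 4, 5, 6], [4, 5, 3, 4, 2, 3, 0, 2, 1, 3, 4, 5, 6], [5, 1, 3, 4, 2, 3,
      0, 2, 1, 3, 4, 5, 6], [6, 4, 5, 3, 4, 2, 3, 0, 2, 1, 3, 4, 5, 6], [6, 5, 1, 3, 4, 2, 3, 0,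
      2, 1, 3, 4, 5, 6], [4, 5, 1, 3, 4, 2, 3, 0, 2, 1, 3, 4, 5, 6], [5, 6, 4, 5, 3, 4, 2, 3, 0,
      2, 1, 3, 4, 5, 6], [6, 4, 5, 1, 3, 4, 2, 3, 0, 2, 1, 3, 4, 5, 6], [3, 4, 5, 1, 3, 4, 2, 3,
      0, 2, 1, 3, 4, 5, 6], [5, 6, 4, 5, 1, 3, 4, 2, 3, 0, 2, 1, 3, 4, 5, 6], [6, 3, 4, 5, 1, 3,
      4, 2, 3, 0, 2, 1, 3, 4, 5, 6], [2, 3, 4, 5, 1, 3, 4, 2, 3, 0, 2, 1, 3, 4, 5, 6], [5, 6, 3,
      4, 5, 1, 3, 4, 2, 3, 0, 2, 1, 3, 4, 5, 6], [6, 2, 3, 4, 5, 1, 3, 4, 2, 3, 0, 2, 1, 3, 4,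
      5, 6], [0, 2, 3, 4, 5, 1, 3, 4, 2, 3, 0, 2, 1, 3, 4, 5, 6], [4, 5, 6, 3, 4, 5, 1, 3, 4, 2,
      3, 0, 2, 1, 3, 4, 5, 6], [5, 6, 2, 3, 4, 5, 1, 3, 4, 2, 3, 0, 2, 1, 3, 4, 5, 6], [6, 0, 2,
      3, 4, 5, 1, 3, 4, 2, 3, 0, 2, 1, 3, 4, 5, 6], [4, 5, 6, 2, 3, 4, 5, 1, 3, 4, 2, 3, 0, 2,
      1, 3, 4, 5, 6], [5, 6, 0, 2, 3, 4, 5, 1, 3, 4, 2, 3, 0, 2, 1, 3, 4, 5, 6], [3, 4, 5, 6, 2,
      3, 4, 5, 1, 3, 4, 2, 3, 0, 2, 1, 3, 4, 5, 6], [4, 5, 6, 0, 2, 3, 4, 5, 1, 3, 4, 2, 3, 0,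
      2, 1, 3, 4, 5, 6], [1, 3, 4, 5, 6, 2, 3, 4, 5, 1, 3, 4, 2, 3, 0, 2, 1, 3, 4, 5, 6], [3, 4,
      5, 6, 0, 2, 3, 4, 5, 1, 3, 4, 2, 3, 0, 2, 1, 3, 4, 5, 6], [2, 3, 4, 5, 6, 0, 2, 3, 4, 5,
      1, 3, 4, 2, 3, 0, 2, 1, 3, 4, 5, 6], [1, 3, 4, 5, 6, 0, 2, 3, 4, 5, 1, 3, 4, 2, 3, 0, 2,
      1, 3, 4, 5, 6], [2, 1, 3, 4, 5, 6, 0, 2, 3, 4, 5, 1, 3, 4, 2, 3, 0, 2, 1, 3, 4, 5, 6], [3,
      2, 1, 3, 4, 5, 6, 0, 2, 3, 4, 5, 1, 3, 4, 2, 3, 0, 2, 1, 3, 4, 5, 6], [4, 3, 2, 1, 3, 4,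
      5, 6, 0, 2, 3, 4, 5, 1, 3, 4, 2, 3, 0, 2, 1, 3, 4, 5, 6], [5, 4, 3, 2, 1, 3, 4, 5, 6, 0,
      2, 3, 4, 5, 1, 3, 4, 2, 3, 0, 2, 1, 3, 4, 5, 6], [6, 5, 4, 3, 2, 1, 3, 4, 5, 6, 0, 2, 3,
      4, 5, 1, 3, 4, 2, 3, 0, 2, 1, 3, 4, 5, 6]]
  mulTable := [[(0, 0), (0, 1), (0, 2), (0, 3), (0, 4), (0, 5), (1, 8)], [(1, 0), (1, 1), (1,
      2), (1, 3), (1, 4), (2, 8), (0, 8)], [(2, 0), (2, 1), (2, 2), (2, 3), (3, 8), (1, 8), (2,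
      5)], [(3, 0), (3, 1), (3, 2), (4, 8), (2, 8), (3, 4), (3, 5)], [(4, 0), (6, 8), (5, 8),
      (3, 8), (4, 3), (4, 4), (4, 5)], [(8, 8), (7, 8), (4, 8), (5, 2), (5, 3), (5, 4), (5, 5)],
      [(6, 0), (4, 8), (7, 8), (6, 1), (6, 3), (6, 4), (6, 5)], [(10, 8), (5, 8), (6, 8), (9,
      8), (7, 3), (7, 4), (7, 5)], [(5, 8), (10, 8), (8, 0), (8, 2), (8, 3), (8, 4), (8, 5)],
      [(12, 8), (9, 2), (9, 1), (7, 8), (11, 8), (9, 4), (9, 5)], [(7, 8), (8, 8), (10, 0), (12,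
      8), (10, 3), (10, 4), (10, 5)], [(14, 8), (11, 2), (11, 1), (11, 3), (9, 8), (13, 8), (11,
      5)], [(9, 8), (12, 2), (15, 8), (10, 8), (14, 8), (12, 4), (12, 5)], [(17, 8), (13, 2),
      (13, 1), (13, 3), (13, 4), (11, 8), (16, 8)], [(11, 8), (14, 2), (18, 8), (14, 3), (12,
      8), (17, 8), (14, 5)], [(15, 1), (15, 2), (12, 8), (15, 0), (18, 8), (15, 4), (15, 5)],
      [(19, 8), (16, 2), (16, 1), (16, 3), (16, 4), (16, 5), (13, 8)], [(13, 8), (17, 2), (20,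
      8), (17, 3), (17, 4), (14, 8), (19, 8)], [(18, 1), (18, 2), (14, 8), (21, 8), (15, 8),
      (20, 8), (18, 5)], [(16, 8), (19, 2), (22, 8), (19, 3), (19, 4), (19, 5), (17, 8)], [(20,
      1), (20, 2), (17, 8), (23, 8), (20, 4), (18, 8), (22, 8)], [(21, 1), (24, 8), (21, 3),
      (18, 8), (21, 0), (23, 8), (21, 5)], [(22, 1), (22, 2), (19, 8), (25, 8), (22, 4), (22,
      5), (20, 8)], [(23, 1), (27, 8), (23, 3), (20, 8), (26, 8), (21, 8), (25, 8)], [(24, 1),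
      (21, 8), (24, 3), (24, 2), (24, 0), (27, 8), (24, 5)], [(25, 1), (29, 8), (25, 3), (22,
      8), (28, 8), (25, 5), (23, 8)], [(26, 1), (30, 8), (26, 3), (26, 4), (23, 8), (26, 0),
      (28, 8)], [(27, 1), (23, 8), (27, 3), (27, 2), (30, 8), (24, 8), (29, 8)], [(28, 1), (32,
      8), (28, 3), (28, 4), (25, 8), (31, 8), (26, 8)], [(29, 1), (25, 8), (29, 3), (29, 2),
      (32, 8), (29, 5), (27, 8)], [(30, 1), (26, 8), (30, 3), (33, 8), (27, 8), (30, 0), (32,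
      8)], [(31, 1), (34, 8), (31, 3), (31, 4), (31, 5), (28, 8), (31, 0)], [(32, 1), (28, 8),
      (32, 3), (35, 8), (29, 8), (34, 8), (30, 8)], [(33, 1), (33, 4), (36, 8), (30, 8), (33,
      2), (33, 0), (35, 8)], [(34, 1), (31, 8), (34, 3), (37, 8), (34, 5), (32, 8), (34, 0)],
      [(35, 1), (35, 4), (38, 8), (32, 8), (35, 2), (37, 8), (33, 8)], [(39, 8), (36, 4), (33,
      8), (36, 3), (36, 2), (36, 0), (38, 8)], [(37, 1), (37, 4), (41, 8), (34, 8), (40, 8),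
      (35, 8), (37, 0)], [(42, 8), (38, 4), (35, 8), (38, 3), (38, 2), (41, 8), (36, 8)], [(36,
      8), (39, 4), (39, 1), (39, 3), (39, 2), (39, 0), (42, 8)], [(40, 1), (40, 4), (43, 8),
      (40, 5), (37, 8), (40, 2), (40, 0)], [(44, 8), (41, 4), (37, 8), (41, 3), (43, 8), (38,
      8), (41, 0)], [(38, 8), (42, 4), (42, 1), (42, 3), (42, 2), (44, 8), (39, 8)], [(46, 8),
      (43, 4), (40, 8), (45, 8), (41, 8), (43, 2), (43, 0)], [(41, 8), (44, 4), (44, 1), (44,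
      3), (46, 8), (42, 8), (44, 0)], [(48, 8), (47, 8), (45, 5), (43, 8), (45, 3), (45, 2),
      (45, 0)], [(43, 8), (46, 4), (46, 1), (48, 8), (44, 8), (46, 2), (46, 0)], [(50, 8), (45,
      8), (47, 5), (47, 4), (47, 3), (47, 2), (47, 0)], [(45, 8), (50, 8), (49, 8), (46, 8),
      (48, 3), (48, 2), (48, 0)], [(49, 5), (51, 8), (48, 8), (49, 1), (49, 3), (49, 2), (49,
      0)], [(47, 8), (48, 8), (51, 8), (50, 4), (50, 3), (50, 2), (50, 0)], [(51, 5), (49, 8),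
      (50, 8), (52, 8), (51, 3), (51, 2), (51, 0)], [(52, 5), (52, 1), (52, 4), (51, 8), (53,
      8), (52, 2), (52, 0)], [(53, 5), (53, 1), (53, 4), (53, 3), (52, 8), (54, 8), (53, 0)],
      [(54, 5), (54, 1), (54, 4), (54, 3), (54, 2), (53, 8), (55, 8)], [(55, 5), (55, 1), (55,
      4), (55, 3), (55, 2), (55, 0), (54, 8)]]
  poly := [(1, 0), (1, 1), (1, 2), (1, 3), (1, 4), (2, 5), (2, 6), (2, 7), (2, 8), (3, 9), (3,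
      10), (3, 11), (3, 12), (3, 13), (3, 14), (3, 15), (3, 16), (3, 17), (3, 18), (2, 19), (2,
      20), (2, 21), (2, 22), (1, 23), (1, 24), (1, 25), (1, 26), (1, 27)]

def levelE8_8 : Level where
  reps := [[], [7], [6, 7], [5, 6, 7], [4, 5, 6, 7], [3, 4, 5, 6, 7], [1, 3, 4, 5, 6, 7], [2, 3,
      4, 5, 6, 7], [0, 2, 3, 4, 5, 6, 7], [2, 1, 3, 4, 5, 6, 7], [0, 2, 1, 3, 4, 5, 6, 7], [3,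
      2, 1, 3, 4, 5, 6, 7], [3, 0, 2, 1, 3, 4, 5, 6, 7], [4, 3, 2, 1, 3, 4, 5, 6, 7], [2, 3, 0,
      2, 1, 3, 4, 5, 6, 7], [4, 3, 0, 2, 1, 3, 4, 5, 6, 7], [5, 4, 3, 2, 1, 3, 4, 5, 6, 7], [4,
      2, 3, 0, 2, 1, 3, 4, 5, 6, 7], [5, 4, 3, 0, 2, 1, 3, 4, 5, 6, 7], [6, 5, 4, 3, 2, 1, 3, 4,
      5, 6, 7], [3, 4, 2, 3, 0, 2, 1, 3, 4, 5, 6, 7], [5, 4, 2, 3, 0, 2, 1, 3, 4, 5, 6, 7], [6,
      5, 4, 3, 0, 2, 1, 3, 4, 5, 6, 7], [7, 6, 5, 4, 3, 2, 1, 3, 4, 5, 6, 7], [1, 3, 4, 2, 3, 0,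
      2, 1, 3, 4, 5, 6, 7], [5, 3, 4, 2, 3, 0, 2, 1, 3, 4, 5, 6, 7], [6, 5, 4, 2, 3, 0, 2, 1, 3,
      4, 5, 6, 7], [7, 6, 5, 4, 3, 0, 2, 1, 3, 4, 5, 6, 7], [5, 1, 3, 4, 2, 3, 0, 2, 1, 3, 4, 5,
      6, 7], [4, 5, 3, 4, 2, 3, 0, 2, 1, 3, 4, 5, 6, 7], [6, 5, 3, 4, 2, 3, 0, 2, 1, 3, 4, 5, 6,
      7], [7, 6, 5, 4, 2, 3, 0, 2, 1, 3, 4, 5, 6, 7], [4, 5, 1, 3, 4, 2, 3, 0, 2, 1, 3, 4, 5, 6,
      7], [6, 5, 1, 3, 4, 2, 3, 0, 2, 1, 3, 4, 5, 6, 7], [6, 4, 5, 3, 4, 2, 3, 0, 2, 1, 3, 4, 5,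
      6, 7], [7, 6, 5, 3, 4, 2, 3, 0, 2, 1, 3, 4, 5, 6, 7], [3, 4, 5, 1, 3, 4, 2, 3, 0, 2, 1, 3,
      4, 5, 6, 7], [6, 4, 5, 1, 3, 4, 2, 3, 0, 2, 1, 3, 4, 5, 6, 7], [7, 6, 5, 1, 3, 4, 2, 3, 0,
      2, 1, 3, 4, 5, 6, 7], [5, 6, 4, 5, 3, 4, 2, 3, 0, 2, 1, 3, 4, 5, 6, 7], [7, 6, 4, 5, 3, 4,
      2, 3, 0, 2, 1, 3, 4, 5, 6, 7], [2, 3, 4, 5, 1, 3, 4, 2, 3, 0, 2, 1, 3, 4, 5, 6, 7], [6, 3,
      4, 5, 1, 3, 4, 2, 3, 0, 2, 1, 3, 4, 5, 6, 7], [5, 6, 4, 5, 1, 3, 4, 2, 3, 0, 2, 1, 3, 4,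
      5, 6, 7], [7, 6, 4, 5, 1, 3, 4, 2, 3, 0, 2, 1, 3, 4, 5, 6, 7], [7, 5, 6, 4, 5, 3, 4, 2, 3,
      0, 2, 1, 3, 4, 5, 6, 7], [0, 2, 3, 4, 5, 1, 3, 4, 2, 3, 0, 2, 1, 3, 4, 5, 6, 7], [6, 2, 3,
      4, 5, 1, 3, 4, 2, 3, 0, 2, 1, 3, 4, 5, 6, 7], [5, 6, 3, 4, 5, 1, 3, 4, 2, 3, 0, 2, 1, 3,
      4, 5, 6, 7], [7, 6, 3, 4, 5, 1, 3, 4, 2, 3, 0, 2, 1, 3, 4, 5, 6, 7], [7, 5, 6, 4, 5, 1, 3,
      4, 2, 3, 0, 2, 1, 3, 4, 5, 6, 7], [6, 7, 5, 6, 4, 5, 3, 4, 2, 3, 0, 2, 1, 3, 4, 5, 6, 7],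
      [6, 0, 2, 3, 4, 5, 1, 3, 4, 2, 3, 0, 2, 1, 3, 4, 5, 6, 7], [5, 6, 2, 3, 4, 5, 1, 3, 4, 2,
      3, 0, 2, 1, 3, 4, 5, 6, 7], [7, 6, 2, 3, 4, 5, 1, 3, 4, 2, 3, 0, 2, 1, 3, 4, 5, 6, 7], [4,
      5, 6, 3, 4, 5, 1, 3, 4, 2, 3, 0, 2, 1, 3, 4, 5, 6, 7], [7, 5, 6, 3, 4, 5, 1, 3, 4, 2, 3,
      0, 2, 1, 3, 4, 5, 6, 7], [6, 7, 5, 6, 4, 5, 1, 3, 4, 2, 3, 0, 2, 1, 3, 4, 5, 6, 7], [5, 6,
      0, 2, 3, 4, 5, 1, 3, 4, 2, 3, 0, 2, 1, 3, 4, 5, 6, 7], [7, 6, 0, 2, 3, 4, 5, 1, 3, 4, 2,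
      3, 0, 2, 1, 3, 4, 5, 6, 7], [4, 5, 6, 2, 3, 4, 5, 1, 3, 4, 2, 3, 0, 2, 1, 3, 4, 5, 6, 7],
      [7, 5, 6, 2, 3, 4, 5, 1, 3, 4, 2, 3, 0, 2, 1, 3, 4, 5, 6, 7], [7, 4, 5, 6, 3, 4, 5, 1, 3,
      4, 2, 3, 0, 2, 1, 3, 4, 5, 6, 7], [6, 7, 5, 6, 3, 4, 5, 1, 3, 4, 2, 3, 0, 2, 1, 3, 4, 5,
      6, 7], [4, 5, 6, 0, 2, 3, 4, 5, 1, 3, 4, 2, 3, 0, 2, 1, 3, 4, 5, 6, 7], [7, 5, 6, 0, 2, 3,
      4, 5, 1, 3, 4, 2, 3, 0, 2, 1, 3, 4, 5, 6, 7], [3, 4, 5, 6, 2, 3, 4, 5, 1, 3, 4, 2, 3, 0,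
      2, 1, 3, 4, 5, 6, 7], [7, 4, 5, 6, 2, 3, 4, 5, 1, 3, 4, 2, 3, 0, 2, 1, 3, 4, 5, 6, 7], [6,
      7, 5, 6, 2, 3, 4, 5, 1, 3, 4, 2, 3, 0, 2, 1, 3, 4, 5, 6, 7], [6, 7, 4, 5, 6, 3, 4, 5, 1,
      3, 4, 2, 3, 0, 2, 1, 3, 4, 5, 6, 7], [3, 4, 5, 6, 0, 2, 3, 4, 5, 1, 3, 4, 2, 3, 0, 2, 1,
      3, 4, 5, 6, 7], [7, 4, 5, 6, 0, 2, 3, 4, 5, 1, 3, 4, 2, 3, 0, 2, 1, 3, 4, 5, 6, 7], [6, 7,
      5, 6, 0, 2, 3, 4, 5, 1, 3, 4, 2, 3, 0, 2, 1, 3, 4, 5, 6, 7], [1, 3, 4, 5, 6, 2, 3, 4, 5,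
      1, 3, 4, 2, 3, 0, 2, 1, 3, 4, 5, 6, 7], [7, 3, 4, 5, 6, 2, 3, 4, 5, 1, 3, 4, 2, 3, 0, 2,
      1, 3, 4, 5, 6, 7], [6, 7, 4, 5, 6, 2, 3, 4, 5, 1, 3, 4, 2, 3, 0, 2, 1, 3, 4, 5, 6, 7], [5,
      6, 7, 4, 5, 6, 3, 4, 5, 1, 3, 4, 2, 3, 0, 2, 1, 3, 4, 5, 6, 7], [1, 3, 4, 5, 6, 0, 2, 3,
      4, 5, 1, 3, 4, 2, 3, 0, 2, 1, 3, 4, 5, 6, 7], [2, 3, 4, 5, 6, 0, 2, 3, 4, 5, 1, 3, 4, 2,
      3, 0, 2, 1, 3, 4, 5, 6, 7], [7, 3, 4, 5, 6, 0, 2, 3, 4, 5, 1, 3, 4, 2, 3, 0, 2, 1, 3, 4,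
      5, 6, 7], [6, 7, 4, 5, 6, 0, 2, 3, 4, 5, 1, 3, 4, 2, 3, 0, 2, 1, 3, 4, 5, 6, 7], [7, 1, 3,
      4, 5, 6, 2, 3, 4, 5, 1, 3, 4, 2, 3, 0, 2, 1, 3, 4, 5, 6, 7], [6, 7, 3, 4, 5, 6, 2, 3, 4,
      5, 1, 3, 4, 2, 3, 0, 2, 1, 3, 4, 5, 6, 7], [5, 6, 7, 4, 5, 6, 2, 3, 4, 5, 1, 3, 4, 2, 3,
      0, 2, 1, 3, 4, 5, 6, 7], [2, 1, 3, 4, 5, 6, 0, 2, 3, 4, 5, 1, 3, 4, 2, 3, 0, 2, 1, 3, 4,
      5, 6, 7], [7, 1, 3, 4, 5, 6, 0, 2, 3, 4, 5, 1, 3, 4, 2, 3, 0, 2, 1, 3, 4, 5, 6, 7], [7, 2,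
      3, 4, 5, 6, 0, 2, 3, 4, 5, 1, 3, 4, 2, 3, 0, 2, 1, 3, 4, 5, 6, 7], [6, 7, 3, 4, 5, 6, 0,
      2, 3, 4, 5, 1, 3, 4, 2, 3, 0, 2, 1, 3, 4, 5, 6, 7], [5, 6, 7, 4, 5, 6, 0, 2, 3, 4, 5, 1,
      3, 4, 2, 3, 0, 2, 1, 3, 4, 5, 6, 7], [6, 7, 1, 3, 4, 5, 6, 2, 3, 4, 5, 1, 3, 4, 2, 3, 0,
      2, 1, 3, 4, 5, 6, 7], [5, 6, 7, 3, 4, 5, 6, 2, 3, 4, 5, 1, 3, 4, 2, 3, 0, 2, 1, 3, 4, 5,
      6, 7], [3, 2, 1, 3, 4, 5, 6, 0, 2, 3, 4, 5, 1, 3, 4, 2, 3, 0, 2, 1, 3, 4, 5, 6, 7], [7, 2,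
      1, 3, 4, 5, 6, 0, 2, 3, 4, 5, 1, 3, 4, 2, 3, 0, 2, 1, 3, 4, 5, 6, 7], [6, 7, 1, 3, 4, 5,
      6, 0, 2, 3, 4, 5, 1, 3, 4, 2, 3, 0, 2, 1, 3, 4, 5, 6, 7], [6, 7, 2, 3, 4, 5, 6, 0, 2, 3,
      4, 5, 1, 3, 4, 2, 3, 0, 2, 1, 3, 4, 5, 6, 7], [5, 6, 7, 3, 4, 5, 6, 0, 2, 3, 4, 5, 1, 3,
      4, 2, 3, 0, 2, 1, 3, 4, 5, 6, 7], [5, 6, 7, 1, 3, 4, 5, 6, 2, 3, 4, 5, 1, 3, 4, 2, 3, 0,
      2, 1, 3, 4, 5, 6, 7], [4, 5, 6, 7, 3, 4, 5, 6, 2, 3, 4, 5, 1, 3, 4, 2, 3, 0, 2, 1, 3, 4,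
      5, 6, 7], [4, 3, 2, 1, 3, 4, 5, 6, 0, 2, 3, 4, 5, 1, 3, 4, 2, 3, 0, 2, 1, 3, 4, 5, 6, 7],
      [7, 3, 2, 1, 3, 4, 5, 6, 0, 2, 3, 4, 5, 1, 3, 4, 2, 3, 0, 2, 1, 3, 4, 5, 6, 7], [6, 7, 2,
      1, 3, 4, 5, 6, 0, 2, 3, 4, 5, 1, 3, 4, 2, 3, 0, 2, 1, 3, 4, 5, 6, 7], [5, 6, 7, 1, 3, 4,
      5, 6, 0, 2, 3, 4, 5, 1, 3, 4, 2, 3, 0, 2, 1, 3, 4, 5, 6, 7], [5, 6, 7, 2, 3, 4, 5, 6, 0,
      2, 3, 4, 5, 1, 3, 4, 2, 3, 0, 2, 1, 3, 4, 5, 6, 7], [4, 5, 6, 7, 3, 4, 5, 6, 0, 2, 3, 4,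
      5, 1, 3, 4, 2, 3, 0, 2, 1, 3, 4, 5, 6, 7], [4, 5, 6, 7, 1, 3, 4, 5, 6, 2, 3, 4, 5, 1, 3,
      4, 2, 3, 0, 2, 1, 3, 4, 5, 6, 7], [5, 4, 3, 2, 1, 3, 4, 5, 6, 0, 2, 3, 4, 5, 1, 3, 4, 2,
      3, 0, 2, 1, 3, 4, 5, 6, 7], [7, 4, 3, 2, 1, 3, 4, 5, 6, 0, 2, 3, 4, 5, 1, 3, 4, 2, 3, 0,
      2, 1, 3, 4, 5, 6, 7], [6, 7, 3, 2, 1, 3, 4, 5, 6, 0, 2, 3, 4, 5, 1, 3, 4, 2, 3, 0, 2, 1,
      3, 4, 5, 6, 7], [5, 6, 7, 2, 1, 3, 4, 5, 6, 0, 2, 3, 4, 5, 1, 3, 4, 2, 3, 0, 2, 1, 3, 4,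
      5, 6, 7], [4, 5, 6, 7, 1, 3, 4, 5, 6, 0, 2, 3, 4, 5, 1, 3, 4, 2, 3, 0, 2, 1, 3, 4, 5, 6,
      7], [4, 5, 6, 7, 2, 3, 4, 5, 6, 0, 2, 3, 4, 5, 1, 3, 4, 2, 3, 0, 2, 1, 3, 4, 5, 6, 7], [3,
      4, 5, 6, 7, 1, 3, 4, 5, 6, 2, 3, 4, 5, 1, 3, 4, 2, 3, 0, 2, 1, 3, 4, 5, 6, 7], [6, 5, 4,
      3, 2, 1, 3, 4, 5, 6, 0, 2, 3, 4, 5, 1, 3, 4, 2, 3, 0, 2, 1, 3, 4, 5, 6, 7], [7, 5, 4, 3,
      2, 1, 3, 4, 5, 6, 0, 2, 3, 4, 5, 1, 3, 4, 2, 3, 0, 2, 1, 3, 4, 5, 6, 7], [6, 7, 4, 3, 2,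
      1, 3, 4, 5, 6, 0, 2, 3, 4, 5, 1, 3, 4, 2, 3, 0, 2, 1, 3, 4, 5, 6, 7], [5, 6, 7, 3, 2, 1,
      3, 4, 5, 6, 0, 2, 3, 4, 5, 1, 3, 4, 2, 3, 0, 2, 1, 3, 4, 5, 6, 7], [4, 5, 6, 7, 2, 1, 3,
      4, 5, 6, 0, 2, 3, 4, 5, 1, 3, 4, 2, 3, 0, 2, 1, 3, 4, 5, 6, 7], [3, 4, 5, 6, 7, 1, 3, 4,
      5, 6, 0, 2, 3, 4, 5, 1, 3, 4, 2, 3, 0, 2, 1, 3, 4, 5, 6, 7], [3, 4, 5, 6, 7, 2, 3, 4, 5,
      6, 0, 2, 3, 4, 5, 1, 3, 4, 2, 3, 0, 2, 1, 3, 4, 5, 6, 7], [2, 3, 4, 5, 6, 7, 1, 3, 4, 5,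
      6, 2, 3, 4, 5, 1, 3, 4, 2, 3, 0, 2, 1, 3, 4, 5, 6, 7], [7, 6, 5, 4, 3, 2, 1, 3, 4, 5, 6,
      0, 2, 3, 4, 5, 1, 3, 4, 2, 3, 0, 2, 1, 3, 4, 5, 6, 7], [6, 7, 5, 4, 3, 2, 1, 3, 4, 5, 6,
      0, 2, 3, 4, 5, 1, 3, 4, 2, 3, 0, 2, 1, 3, 4, 5, 6, 7], [5, 6, 7, 4, 3, 2, 1, 3, 4, 5, 6,
      0, 2, 3, 4, 5, 1, 3, 4, 2, 3, 0, 2, 1, 3, 4, 5, 6, 7], [4, 5, 6, 7, 3, 2, 1, 3, 4, 5, 6,
      0, 2, 3, 4, 5, 1, 3, 4, 2, 3, 0, 2, 1, 3, 4, 5, 6, 7], [3, 4, 5, 6, 7, 2, 1, 3, 4, 5, 6,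
      0, 2, 3, 4, 5, 1, 3, 4, 2, 3, 0, 2, 1, 3, 4, 5, 6, 7], [1, 3, 4, 5, 6, 7, 2, 3, 4, 5, 6,
      0, 2, 3, 4, 5, 1, 3, 4, 2, 3, 0, 2, 1, 3, 4, 5, 6, 7], [2, 3, 4, 5, 6, 7, 1, 3, 4, 5, 6,
      0, 2, 3, 4, 5, 1, 3, 4, 2, 3, 0, 2, 1, 3, 4, 5, 6, 7], [0, 2, 3, 4, 5, 6, 7, 1, 3, 4, 5,
      6, 2, 3, 4, 5, 1, 3, 4, 2, 3, 0, 2, 1, 3, 4, 5, 6, 7], [6, 7, 6, 5, 4, 3, 2, 1, 3, 4, 5,
      6, 0, 2, 3, 4, 5, 1, 3, 4, 2, 3, 0, 2, 1, 3, 4, 5, 6, 7], [5, 6, 7, 5, 4, 3, 2, 1, 3, 4,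
      5, 6, 0, 2, 3, 4, 5, 1, 3, 4, 2, 3, 0, 2, 1, 3, 4, 5, 6, 7], [4, 5, 6, 7, 4, 3, 2, 1, 3,
      4, 5, 6, 0, 2, 3, 4, 5, 1, 3, 4, 2, 3, 0, 2, 1, 3, 4, 5, 6, 7], [3, 4, 5, 6, 7, 3, 2, 1,
      3, 4, 5, 6, 0, 2, 3, 4, 5, 1, 3, 4, 2, 3, 0, 2, 1, 3, 4, 5, 6, 7], [1, 3, 4, 5, 6, 7, 2,
      1, 3, 4, 5, 6, 0, 2, 3, 4, 5, 1, 3, 4, 2, 3, 0, 2, 1, 3, 4, 5, 6, 7], [2, 3, 4, 5, 6, 7,
      2, 1, 3, 4, 5, 6, 0, 2, 3, 4, 5, 1, 3, 4, 2, 3, 0, 2, 1, 3, 4, 5, 6, 7], [0, 2, 3, 4, 5,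
      6, 7, 1, 3, 4, 5, 6, 0, 2, 3, 4, 5, 1, 3, 4, 2, 3, 0, 2, 1, 3, 4, 5, 6, 7], [5, 6, 7, 6,
      5, 4, 3, 2, 1, 3, 4, 5, 6, 0, 2, 3, 4, 5, 1, 3, 4, 2, 3, 0, 2, 1, 3, 4, 5, 6, 7], [4, 5,
      6, 7, 5, 4, 3, 2, 1, 3, 4, 5, 6, 0, 2, 3, 4, 5, 1, 3, 4, 2, 3, 0, 2, 1, 3, 4, 5, 6, 7],
      [3, 4, 5, 6, 7, 4, 3, 2, 1, 3, 4, 5, 6, 0, 2, 3, 4, 5, 1, 3, 4, 2, 3, 0, 2, 1, 3, 4, 5, 6,
      7], [1, 3, 4, 5, 6, 7, 3, 2, 1, 3, 4, 5, 6, 0, 2, 3, 4, 5, 1, 3, 4, 2, 3, 0, 2, 1, 3, 4,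
      5, 6, 7], [2, 3, 4, 5, 6, 7, 3, 2, 1, 3, 4, 5, 6, 0, 2, 3, 4, 5, 1, 3, 4, 2, 3, 0, 2, 1,
      3, 4, 5, 6, 7], [2, 1, 3, 4, 5, 6, 7, 2, 1, 3, 4, 5, 6, 0, 2, 3, 4, 5, 1, 3, 4, 2, 3, 0,
      2, 1, 3, 4, 5, 6, 7], [0, 2, 3, 4, 5, 6, 7, 2, 1, 3, 4, 5, 6, 0, 2, 3, 4, 5, 1, 3, 4, 2,
      3, 0, 2, 1, 3, 4, 5, 6, 7], [4, 5, 6, 7, 6, 5, 4, 3, 2, 1, 3, 4, 5, 6, 0, 2, 3, 4, 5, 1,
      3, 4, 2, 3, 0, 2, 1, 3, 4, 5, 6, 7], [3, 4, 5, 6, 7, 5, 4, 3, 2, 1, 3, 4, 5, 6, 0, 2, 3,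
      4, 5, 1, 3, 4, 2, 3, 0, 2, 1, 3, 4, 5, 6, 7], [1, 3, 4, 5, 6, 7, 4, 3, 2, 1, 3, 4, 5, 6,
      0, 2, 3, 4, 5, 1, 3, 4, 2, 3, 0, 2, 1, 3, 4, 5, 6, 7], [2, 3, 4, 5, 6, 7, 4, 3, 2, 1, 3,
      4, 5, 6, 0, 2, 3, 4, 5, 1, 3, 4, 2, 3, 0, 2, 1, 3, 4, 5, 6, 7], [2, 1, 3, 4, 5, 6, 7, 3,
      2, 1, 3, 4, 5, 6, 0, 2, 3, 4, 5, 1, 3, 4, 2, 3, 0, 2, 1, 3, 4, 5, 6, 7], [0, 2, 3, 4, 5,
      6, 7, 3, 2, 1, 3, 4, 5, 6, 0, 2, 3, 4, 5, 1, 3, 4, 2, 3, 0, 2, 1, 3, 4, 5, 6, 7], [0, 2,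
      1, 3, 4, 5, 6, 7, 2, 1, 3, 4, 5, 6, 0, 2, 3, 4, 5, 1, 3, 4, 2, 3, 0, 2, 1, 3, 4, 5, 6, 7],
      [3, 4, 5, 6, 7, 6, 5, 4, 3, 2, 1, 3, 4, 5, 6, 0, 2, 3, 4, 5, 1, 3, 4, 2, 3, 0, 2, 1, 3, 4,
      5, 6, 7], [1, 3, 4, 5, 6, 7, 5, 4, 3, 2, 1, 3, 4, 5, 6, 0, 2, 3, 4, 5, 1, 3, 4, 2, 3, 0,
      2, 1, 3, 4, 5, 6, 7], [2, 3, 4, 5, 6, 7, 5, 4, 3, 2, 1, 3, 4, 5, 6, 0, 2, 3, 4, 5, 1, 3,
      4, 2, 3, 0, 2, 1, 3, 4, 5, 6, 7], [2, 1, 3, 4, 5, 6, 7, 4, 3, 2, 1, 3, 4, 5, 6, 0, 2, 3,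
      4, 5, 1, 3, 4, 2, 3, 0, 2, 1, 3, 4, 5, 6, 7], [0, 2, 3, 4, 5, 6, 7, 4, 3, 2, 1, 3, 4, 5,
      6, 0, 2, 3, 4, 5, 1, 3, 4, 2, 3, 0, 2, 1, 3, 4, 5, 6, 7], [3, 2, 1, 3, 4, 5, 6, 7, 3, 2,
      1, 3, 4, 5, 6, 0, 2, 3, 4, 5, 1, 3, 4, 2, 3, 0, 2, 1, 3, 4, 5, 6, 7], [0, 2, 1, 3, 4, 5,
      6, 7, 3, 2, 1, 3, 4, 5, 6, 0, 2, 3, 4, 5, 1, 3, 4, 2, 3, 0, 2, 1, 3, 4, 5, 6, 7], [1, 3,
      4, 5, 6, 7, 6, 5, 4, 3, 2, 1, 3, 4, 5, 6, 0, 2, 3, 4, 5, 1, 3, 4, 2, 3, 0, 2, 1, 3, 4, 5,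
      6, 7], [2, 3, 4, 5, 6, 7, 6, 5, 4, 3, 2, 1, 3, 4, 5, 6, 0, 2, 3, 4, 5, 1, 3, 4, 2, 3, 0,
      2, 1, 3, 4, 5, 6, 7], [2, 1, 3, 4, 5, 6, 7, 5, 4, 3, 2, 1, 3, 4, 5, 6, 0, 2, 3, 4, 5, 1,
      3, 4, 2, 3, 0, 2, 1, 3, 4, 5, 6, 7], [0, 2, 3, 4, 5, 6, 7, 5, 4, 3, 2, 1, 3, 4, 5, 6, 0,
      2, 3, 4, 5, 1, 3, 4, 2, 3, 0, 2, 1, 3, 4, 5, 6, 7], [3, 2, 1, 3, 4, 5, 6, 7, 4, 3, 2, 1,
      3, 4, 5, 6, 0, 2, 3, 4, 5, 1, 3, 4, 2, 3, 0, 2, 1, 3, 4, 5, 6, 7], [0, 2, 1, 3, 4, 5, 6,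
      7, 4, 3, 2, 1, 3, 4, 5, 6, 0, 2, 3, 4, 5, 1, 3, 4, 2, 3, 0, 2, 1, 3, 4, 5, 6, 7], [3, 0,
      2, 1, 3, 4, 5, 6, 7, 3, 2, 1, 3, 4, 5, 6, 0, 2, 3, 4, 5, 1, 3, 4, 2, 3, 0, 2, 1, 3, 4, 5,
      6, 7], [2, 1, 3, 4, 5, 6, 7, 6, 5, 4, 3, 2, 1, 3, 4, 5, 6, 0, 2, 3, 4, 5, 1, 3, 4, 2, 3,
      0, 2, 1, 3, 4, 5, 6, 7], [0, 2, 3, 4, 5, 6, 7, 6, 5, 4, 3, 2, 1, 3, 4, 5, 6, 0, 2, 3, 4,
      5, 1, 3, 4, 2, 3, 0, 2, 1, 3, 4, 5, 6, 7], [3, 2, 1, 3, 4, 5, 6, 7, 5, 4, 3, 2, 1, 3, 4,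
      5, 6, 0, 2, 3, 4, 5, 1, 3, 4, 2, 3, 0, 2, 1, 3, 4, 5, 6, 7], [0, 2, 1, 3, 4, 5, 6, 7, 5,
      4, 3, 2, 1, 3, 4, 5, 6, 0, 2, 3, 4, 5, 1, 3, 4, 2, 3, 0, 2, 1, 3, 4, 5, 6, 7], [4, 3, 2,
      1, 3, 4, 5, 6, 7, 4, 3, 2, 1, 3, 4, 5, 6, 0, 2, 3, 4, 5, 1, 3, 4, 2, 3, 0, 2, 1, 3, 4, 5,
      6, 7], [3, 0, 2, 1, 3, 4, 5, 6, 7, 4, 3, 2, 1, 3, 4, 5, 6, 0, 2, 3, 4, 5, 1, 3, 4, 2, 3,
      0, 2, 1, 3, 4, 5, 6, 7], [2, 3, 0, 2, 1, 3, 4, 5, 6, 7, 3, 2, 1, 3, 4, 5, 6, 0, 2, 3, 4,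
      5, 1, 3, 4, 2, 3, 0, 2, 1, 3, 4, 5, 6, 7], [3, 2, 1, 3, 4, 5, 6, 7, 6, 5, 4, 3, 2, 1, 3,
      4, 5, 6, 0, 2, 3, 4, 5, 1, 3, 4, 2, 3, 0, 2, 1, 3, 4, 5, 6, 7], [0, 2, 1, 3, 4, 5, 6, 7,
      6, 5, 4, 3, 2, 1, 3, 4, 5, 6, 0, 2, 3, 4, 5, 1, 3, 4, 2, 3, 0, 2, 1, 3, 4, 5, 6, 7], [4,
      3, 2, 1, 3, 4, 5, 6, 7, 5, 4, 3, 2, 1, 3, 4, 5, 6, 0, 2, 3, 4, 5, 1, 3, 4, 2, 3, 0, 2, 1,
      3, 4, 5, 6, 7], [3, 0, 2, 1, 3, 4, 5, 6, 7, 5, 4, 3, 2, 1, 3, 4, 5, 6, 0, 2, 3, 4, 5, 1,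
      3, 4, 2, 3, 0, 2, 1, 3, 4, 5, 6, 7], [4, 3, 0, 2, 1, 3, 4, 5, 6, 7, 4, 3, 2, 1, 3, 4, 5,
      6, 0, 2, 3, 4, 5, 1, 3, 4, 2, 3, 0, 2, 1, 3, 4, 5, 6, 7], [2, 3, 0, 2, 1, 3, 4, 5, 6, 7,
      4, 3, 2, 1, 3, 4, 5, 6, 0, 2, 3, 4, 5, 1, 3, 4, 2, 3, 0, 2, 1, 3, 4, 5, 6, 7], [4, 3, 2,
      1, 3, 4, 5, 6, 7, 6, 5, 4, 3, 2, 1, 3, 4, 5, 6, 0, 2, 3, 4, 5, 1, 3, 4, 2, 3, 0, 2, 1, 3,
      4, 5, 6, 7], [3, 0, 2, 1, 3, 4, 5, 6, 7, 6, 5, 4, 3, 2, 1, 3, 4, 5, 6, 0, 2, 3, 4, 5, 1,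
      3, 4, 2, 3, 0, 2, 1, 3, 4, 5, 6, 7], [5, 4, 3, 2, 1, 3, 4, 5, 6, 7, 5, 4, 3, 2, 1, 3, 4,
      5, 6, 0, 2, 3, 4, 5, 1, 3, 4, 2, 3, 0, 2, 1, 3, 4, 5, 6, 7], [4, 3, 0, 2, 1, 3, 4, 5, 6,
      7, 5, 4, 3, 2, 1, 3, 4, 5, 6, 0, 2, 3, 4, 5, 1, 3, 4, 2, 3, 0, 2, 1, 3, 4, 5, 6, 7], [2,
      3, 0, 2, 1, 3, 4, 5, 6, 7, 5, 4, 3, 2, 1, 3, 4, 5, 6, 0, 2, 3, 4, 5, 1, 3, 4, 2, 3, 0, 2,
      1, 3, 4, 5, 6, 7], [4, 2, 3, 0, 2, 1, 3, 4, 5, 6, 7, 4, 3, 2, 1, 3, 4, 5, 6, 0, 2, 3, 4,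
      5, 1, 3, 4, 2, 3, 0, 2, 1, 3, 4, 5, 6, 7], [5, 4, 3, 2, 1, 3, 4, 5, 6, 7, 6, 5, 4, 3, 2,
      1, 3, 4, 5, 6, 0, 2, 3, 4, 5, 1, 3, 4, 2, 3, 0, 2, 1, 3, 4, 5, 6, 7], [4, 3, 0, 2, 1, 3,
      4, 5, 6, 7, 6, 5, 4, 3, 2, 1, 3, 4, 5, 6, 0, 2, 3, 4, 5, 1, 3, 4, 2, 3, 0, 2, 1, 3, 4, 5,
      6, 7], [2, 3, 0, 2, 1, 3, 4, 5, 6, 7, 6, 5, 4, 3, 2, 1, 3, 4, 5, 6, 0, 2, 3, 4, 5, 1, 3,
      4, 2, 3, 0, 2, 1, 3, 4, 5, 6, 7], [5, 4, 3, 0, 2, 1, 3, 4, 5, 6, 7, 5, 4, 3, 2, 1, 3, 4,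
      5, 6, 0, 2, 3, 4, 5, 1, 3, 4, 2, 3, 0, 2, 1, 3, 4, 5, 6, 7], [4, 2, 3, 0, 2, 1, 3, 4, 5,
      6, 7, 5, 4, 3, 2, 1, 3, 4, 5, 6, 0, 2, 3, 4, 5, 1, 3, 4, 2, 3, 0, 2, 1, 3, 4, 5, 6, 7],
      [3, 4, 2, 3, 0, 2, 1, 3, 4, 5, 6, 7, 4, 3, 2, 1, 3, 4, 5, 6, 0, 2, 3, 4, 5, 1, 3, 4, 2, 3,
      0, 2, 1, 3, 4, 5, 6, 7], [6, 5, 4, 3, 2, 1, 3, 4, 5, 6, 7, 6, 5, 4, 3, 2, 1, 3, 4, 5, 6,
      0, 2, 3, 4, 5, 1, 3, 4, 2, 3, 0, 2, 1, 3, 4, 5, 6, 7], [5, 4, 3, 0, 2, 1, 3, 4, 5, 6, 7,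
      6, 5, 4, 3, 2, 1, 3, 4, 5, 6, 0, 2, 3, 4, 5, 1, 3, 4, 2, 3, 0, 2, 1, 3, 4, 5, 6, 7], [4,
      2, 3, 0, 2, 1, 3, 4, 5, 6, 7, 6, 5, 4, 3, 2, 1, 3, 4, 5, 6, 0, 2, 3, 4, 5, 1, 3, 4, 2, 3,
      0, 2, 1, 3, 4, 5, 6, 7], [5, 4, 2, 3, 0, 2, 1, 3, 4, 5, 6, 7, 5, 4, 3, 2, 1, 3, 4, 5, 6,
      0, 2, 3, 4, 5, 1, 3, 4, 2, 3, 0, 2, 1, 3, 4, 5, 6, 7], [3, 4, 2, 3, 0, 2, 1, 3, 4, 5, 6,
      7, 5, 4, 3, 2, 1, 3, 4, 5, 6, 0, 2, 3, 4, 5, 1, 3, 4, 2, 3, 0, 2, 1, 3, 4, 5, 6, 7], [1,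
      3, 4, 2, 3, 0, 2, 1, 3, 4, 5, 6, 7, 4, 3, 2, 1, 3, 4, 5, 6, 0, 2, 3, 4, 5, 1, 3, 4, 2, 3,
      0, 2, 1, 3, 4, 5, 6, 7], [6, 5, 4, 3, 0, 2, 1, 3, 4, 5, 6, 7, 6, 5, 4, 3, 2, 1, 3, 4, 5,
      6, 0, 2, 3, 4, 5, 1, 3, 4, 2, 3, 0, 2, 1, 3, 4, 5, 6, 7], [5, 4, 2, 3, 0, 2, 1, 3, 4, 5,
      6, 7, 6, 5, 4, 3, 2, 1, 3, 4, 5, 6, 0, 2, 3, 4, 5, 1, 3, 4, 2, 3, 0, 2, 1, 3, 4, 5, 6, 7],
      [3, 4, 2, 3, 0, 2, 1, 3, 4, 5, 6, 7, 6, 5, 4, 3, 2, 1, 3, 4, 5, 6, 0, 2, 3, 4, 5, 1, 3, 4,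
      2, 3, 0, 2, 1, 3, 4, 5, 6, 7], [5, 3, 4, 2, 3, 0, 2, 1, 3, 4, 5, 6, 7, 5, 4, 3, 2, 1, 3,
      4, 5, 6, 0, 2, 3, 4, 5, 1, 3, 4, 2, 3, 0, 2, 1, 3, 4, 5, 6, 7], [1, 3, 4, 2, 3, 0, 2, 1,
      3, 4, 5, 6, 7, 5, 4, 3, 2, 1, 3, 4, 5, 6, 0, 2, 3, 4, 5, 1, 3, 4, 2, 3, 0, 2, 1, 3, 4, 5,
      6, 7], [6, 5, 4, 2, 3, 0, 2, 1, 3, 4, 5, 6, 7, 6, 5, 4, 3, 2, 1, 3, 4, 5, 6, 0, 2, 3, 4,
      5, 1, 3, 4, 2, 3, 0, 2, 1, 3, 4, 5, 6, 7], [5, 3, 4, 2, 3, 0, 2, 1, 3, 4, 5, 6, 7, 6, 5,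
      4, 3, 2, 1, 3, 4, 5, 6, 0, 2, 3, 4, 5, 1, 3, 4, 2, 3, 0, 2, 1, 3, 4, 5, 6, 7], [1, 3, 4,
      2, 3, 0, 2, 1, 3, 4, 5, 6, 7, 6, 5, 4, 3, 2, 1, 3, 4, 5, 6, 0, 2, 3, 4, 5, 1, 3, 4, 2, 3,
      0, 2, 1, 3, 4, 5, 6, 7], [4, 5, 3, 4, 2, 3, 0, 2, 1, 3, 4, 5, 6, 7, 5, 4, 3, 2, 1, 3, 4,
      5, 6, 0, 2, 3, 4, 5, 1, 3, 4, 2, 3, 0, 2, 1, 3, 4, 5, 6, 7], [5, 1, 3, 4, 2, 3, 0, 2, 1,
      3, 4, 5, 6, 7, 5, 4, 3, 2, 1, 3, 4, 5, 6, 0, 2, 3, 4, 5, 1, 3, 4, 2, 3, 0, 2, 1, 3, 4, 5,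
      6, 7], [6, 5, 3, 4, 2, 3, 0, 2, 1, 3, 4, 5, 6, 7, 6, 5, 4, 3, 2, 1, 3, 4, 5, 6, 0, 2, 3,
      4, 5, 1, 3, 4, 2, 3, 0, 2, 1, 3, 4, 5, 6, 7], [4, 5, 3, 4, 2, 3, 0, 2, 1, 3, 4, 5, 6, 7,
      6, 5, 4, 3, 2, 1, 3, 4, 5, 6, 0, 2, 3, 4, 5, 1, 3, 4, 2, 3, 0, 2, 1, 3, 4, 5, 6, 7], [5,
      1, 3, 4, 2, 3, 0, 2, 1, 3, 4, 5, 6, 7, 6, 5, 4, 3, 2, 1, 3, 4, 5, 6, 0, 2, 3, 4, 5, 1, 3,
      4, 2, 3, 0, 2, 1, 3, 4, 5, 6, 7], [4, 5, 1, 3, 4, 2, 3, 0, 2, 1, 3, 4, 5, 6, 7, 5, 4, 3,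
      2, 1, 3, 4, 5, 6, 0, 2, 3, 4, 5, 1, 3, 4, 2, 3, 0, 2, 1, 3, 4, 5, 6, 7], [6, 4, 5, 3, 4,
      2, 3, 0, 2, 1, 3, 4, 5, 6, 7, 6, 5, 4, 3, 2, 1, 3, 4, 5, 6, 0, 2, 3, 4, 5, 1, 3, 4, 2, 3,
      0, 2, 1, 3, 4, 5, 6, 7], [6, 5, 1, 3, 4, 2, 3, 0, 2, 1, 3, 4, 5, 6, 7, 6, 5, 4, 3, 2, 1,
      3, 4, 5, 6, 0, 2, 3, 4, 5, 1, 3, 4, 2, 3, 0, 2, 1, 3, 4, 5, 6, 7], [4, 5, 1, 3, 4, 2, 3,
      0, 2, 1, 3, 4, 5, 6, 7, 6, 5, 4, 3, 2, 1, 3, 4, 5, 6, 0, 2, 3, 4, 5, 1, 3, 4, 2, 3, 0, 2,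
      1, 3, 4, 5, 6, 7], [3, 4, 5, 1, 3, 4, 2, 3, 0, 2, 1, 3, 4, 5, 6, 7, 5, 4, 3, 2, 1, 3, 4,
      5, 6, 0, 2, 3, 4, 5, 1, 3, 4, 2, 3, 0, 2, 1, 3, 4, 5, 6, 7], [5, 6, 4, 5, 3, 4, 2, 3, 0,
      2, 1, 3, 4, 5, 6, 7, 6, 5, 4, 3, 2, 1, 3, 4, 5, 6, 0, 2, 3, 4, 5, 1, 3, 4, 2, 3, 0, 2, 1,
      3, 4, 5, 6, 7], [6, 4, 5, 1, 3, 4, 2, 3, 0, 2, 1, 3, 4, 5, 6, 7, 6, 5, 4, 3, 2, 1, 3, 4,
      5, 6, 0, 2, 3, 4, 5, 1, 3, 4, 2, 3, 0, 2, 1, 3, 4, 5, 6, 7], [3, 4, 5, 1, 3, 4, 2, 3, 0,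
      2, 1, 3, 4, 5, 6, 7, 6, 5, 4, 3, 2, 1, 3, 4, 5, 6, 0, 2, 3, 4, 5, 1, 3, 4, 2, 3, 0, 2, 1,
      3, 4, 5, 6, 7], [2, 3, 4, 5, 1, 3, 4, 2, 3, 0, 2, 1, 3, 4, 5, 6, 7, 5, 4, 3, 2, 1, 3, 4,
      5, 6, 0, 2, 3, 4, 5, 1, 3, 4, 2, 3, 0, 2, 1, 3, 4, 5, 6, 7], [5, 6, 4, 5, 1, 3, 4, 2, 3,
      0, 2, 1, 3, 4, 5, 6, 7, 6, 5, 4, 3, 2, 1, 3, 4, 5, 6, 0, 2, 3, 4, 5, 1, 3, 4, 2, 3, 0, 2,
      1, 3, 4, 5, 6, 7], [6, 3, 4, 5, 1, 3, 4, 2, 3, 0, 2, 1, 3, 4, 5, 6, 7, 6, 5, 4, 3, 2, 1,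
      3, 4, 5, 6, 0, 2, 3, 4, 5, 1, 3, 4, 2, 3, 0, 2, 1, 3, 4, 5, 6, 7], [2, 3, 4, 5, 1, 3, 4,
      2, 3, 0, 2, 1, 3, 4, 5, 6, 7, 6, 5, 4, 3, 2, 1, 3, 4, 5, 6, 0, 2, 3, 4, 5, 1, 3, 4, 2, 3,
      0, 2, 1, 3, 4, 5, 6, 7], [0, 2, 3, 4, 5, 1, 3, 4, 2, 3, 0, 2, 1, 3, 4, 5, 6, 7, 5, 4, 3,
      2, 1, 3, 4, 5, 6, 0, 2, 3, 4, 5, 1, 3, 4, 2, 3, 0, 2, 1, 3, 4, 5, 6, 7], [5, 6, 3, 4, 5,
      1, 3, 4, 2, 3, 0, 2, 1, 3, 4, 5, 6, 7, 6, 5, 4, 3, 2, 1, 3, 4, 5, 6, 0, 2, 3, 4, 5, 1, 3,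
      4, 2, 3, 0, 2, 1, 3, 4, 5, 6, 7], [6, 2, 3, 4, 5, 1, 3, 4, 2, 3, 0, 2, 1, 3, 4, 5, 6, 7,
      6, 5, 4, 3, 2, 1, 3, 4, 5, 6, 0, 2, 3, 4, 5, 1, 3, 4, 2, 3, 0, 2, 1, 3, 4, 5, 6, 7], [0,
      2, 3, 4, 5, 1, 3, 4, 2, 3, 0, 2, 1, 3, 4, 5, 6, 7, 6, 5, 4, 3, 2, 1, 3, 4, 5, 6, 0, 2, 3,
      4, 5, 1, 3, 4, 2, 3, 0, 2, 1, 3, 4, 5, 6, 7], [4, 5, 6, 3, 4, 5, 1, 3, 4, 2, 3, 0, 2, 1,
      3, 4, 5, 6, 7, 6, 5, 4, 3, 2, 1, 3, 4, 5, 6, 0, 2, 3, 4, 5, 1, 3, 4, 2, 3, 0, 2, 1, 3, 4,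
      5, 6, 7], [5, 6, 2, 3, 4, 5, 1, 3, 4, 2, 3, 0, 2, 1, 3, 4, 5, 6, 7, 6, 5, 4, 3, 2, 1, 3,
      4, 5, 6, 0, 2, 3, 4, 5, 1, 3, 4, 2, 3, 0, 2, 1, 3, 4, 5, 6, 7], [6, 0, 2, 3, 4, 5, 1, 3,
      4, 2, 3, 0, 2, 1, 3, 4, 5, 6, 7, 6, 5, 4, 3, 2, 1, 3, 4, 5, 6, 0, 2, 3, 4, 5, 1, 3, 4, 2,
      3, 0, 2, 1, 3, 4, 5, 6, 7], [4, 5, 6, 2, 3, 4, 5, 1, 3, 4, 2, 3, 0, 2, 1, 3, 4, 5, 6, 7,
      6, 5, 4, 3, 2, 1, 3, 4, 5, 6, 0, 2, 3, 4, 5, 1, 3, 4, 2, 3, 0, 2, 1, 3, 4, 5, 6, 7], [5,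
      6, 0, 2, 3, 4, 5, 1, 3, 4, 2, 3, 0, 2, 1, 3, 4, 5, 6, 7, 6, 5, 4, 3, 2, 1, 3, 4, 5, 6, 0,
      2, 3, 4, 5, 1, 3, 4, 2, 3, 0, 2, 1, 3, 4, 5, 6, 7], [3, 4, 5, 6, 2, 3, 4, 5, 1, 3, 4, 2,
      3, 0, 2, 1, 3, 4, 5, 6, 7, 6, 5, 4, 3, 2, 1, 3, 4, 5, 6, 0, 2, 3, 4, 5, 1, 3, 4, 2, 3, 0,
      2, 1, 3, 4, 5, 6, 7], [4, 5, 6, 0, 2, 3, 4, 5, 1, 3, 4, 2, 3, 0, 2, 1, 3, 4, 5, 6, 7, 6,
      5, 4, 3, 2, 1, 3, 4, 5, 6, 0, 2, 3, 4, 5, 1, 3, 4, 2, 3, 0, 2, 1, 3, 4, 5, 6, 7], [1, 3,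
      4, 5, 6, 2, 3, 4, 5, 1, 3, 4, 2, 3, 0, 2, 1, 3, 4, 5, 6, 7, 6, 5, 4, 3, 2, 1, 3, 4, 5, 6,
      0, 2, 3, 4, 5, 1, 3, 4, 2, 3, 0, 2, 1, 3, 4, 5, 6, 7], [3, 4, 5, 6, 0, 2, 3, 4, 5, 1, 3,
      4, 2, 3, 0, 2, 1, 3, 4, 5, 6, 7, 6, 5, 4, 3, 2, 1, 3, 4, 5, 6, 0, 2, 3, 4, 5, 1, 3, 4, 2,
      3, 0, 2, 1, 3, 4, 5, 6, 7], [1, 3, 4, 5, 6, 0, 2, 3, 4, 5, 1, 3, 4, 2, 3, 0, 2, 1, 3, 4,
      5, 6, 7, 6, 5, 4, 3, 2, 1, 3, 4, 5, 6, 0, 2, 3, 4, 5, 1, 3, 4, 2, 3, 0, 2, 1, 3, 4, 5, 6,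
      7], [2, 3, 4, 5, 6, 0, 2, 3, 4, 5, 1, 3, 4, 2, 3, 0, 2, 1, 3, 4, 5, 6, 7, 6, 5, 4, 3, 2,
      1, 3, 4, 5, 6, 0, 2, 3, 4, 5, 1, 3, 4, 2, 3, 0, 2, 1, 3, 4, 5, 6, 7], [2, 1, 3, 4, 5, 6,
      0, 2, 3, 4, 5, 1, 3, 4, 2, 3, 0, 2, 1, 3, 4, 5, 6, 7, 6, 5, 4, 3, 2, 1, 3, 4, 5, 6, 0, 2,
      3, 4, 5, 1, 3, 4, 2, 3, 0, 2, 1, 3, 4, 5, 6, 7], [3, 2, 1, 3, 4, 5, 6, 0, 2, 3, 4, 5, 1,
      3, 4, 2, 3, 0, 2, 1, 3, 4, 5, 6, 7, 6, 5, 4, 3, 2, 1, 3, 4, 5, 6, 0, 2, 3, 4, 5, 1, 3, 4,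
      2, 3, 0, 2, 1, 3, 4, 5, 6, 7], [4, 3, 2, 1, 3, 4, 5, 6, 0, 2, 3, 4, 5, 1, 3, 4, 2, 3, 0,
      2, 1, 3, 4, 5, 6, 7, 6, 5, 4, 3, 2, 1, 3, 4, 5, 6, 0, 2, 3, 4, 5, 1, 3, 4, 2, 3, 0, 2, 1,
      3, 4, 5, 6, 7], [5, 4, 3, 2, 1, 3, 4, 5, 6, 0, 2, 3, 4, 5, 1, 3, 4, 2, 3, 0, 2, 1, 3, 4,
      5, 6, 7, 6, 5, 4, 3, 2, 1, 3, 4, 5, 6, 0, 2, 3, 4, 5, 1, 3, 4, 2, 3, 0, 2, 1, 3, 4, 5, 6,
      7], [6, 5, 4, 3, 2, 1, 3, 4, 5, 6, 0, 2, 3, 4, 5, 1, 3, 4, 2, 3, 0, 2, 1, 3, 4, 5, 6, 7,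
      6, 5, 4, 3, 2, 1, 3, 4, 5, 6, 0, 2, 3, 4, 5, 1, 3, 4, 2, 3, 0, 2, 1, 3, 4, 5, 6, 7], [7,
      6, 5, 4, 3, 2, 1, 3, 4, 5, 6, 0, 2, 3, 4, 5, 1, 3, 4, 2, 3, 0, 2, 1, 3, 4, 5, 6, 7, 6, 5,
      4, 3, 2, 1, 3, 4, 5, 6, 0, 2, 3, 4, 5, 1, 3, 4, 2, 3, 0, 2, 1, 3, 4, 5, 6, 7]]
  mulTable := [[(0, 0), (0, 1), (0, 2), (0, 3), (0, 4), (0, 5), (0, 6), (1, 8)], [(1, 0), (1,
      1), (1, 2), (1, 3), (1, 4), (1, 5), (2, 8), (0, 8)], [(2, 0), (2, 1), (2, 2), (2, 3), (2,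
      4), (3, 8), (1, 8), (2, 6)], [(3, 0), (3, 1), (3, 2), (3, 3), (4, 8), (2, 8), (3, 5), (3,
      6)], [(4, 0), (4, 1), (4, 2), (5, 8), (3, 8), (4, 4), (4, 5), (4, 6)], [(5, 0), (6, 8),
      (7, 8), (4, 8), (5, 3), (5, 4), (5, 5), (5, 6)], [(6, 0), (5, 8), (9, 8), (6, 1), (6, 3),
      (6, 4), (6, 5), (6, 6)], [(8, 8), (9, 8), (5, 8), (7, 2), (7, 3), (7, 4), (7, 5), (7, 6)],
      [(7, 8), (10, 8), (8, 0), (8, 2), (8, 3), (8, 4), (8, 5), (8, 6)], [(10, 8), (7, 8), (6,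
      8), (11, 8), (9, 3), (9, 4), (9, 5), (9, 6)], [(9, 8), (8, 8), (10, 0), (12, 8), (10, 3),
      (10, 4), (10, 5), (10, 6)], [(12, 8), (11, 2), (11, 1), (9, 8), (13, 8), (11, 4), (11, 5),
      (11, 6)], [(11, 8), (12, 2), (14, 8), (10, 8), (15, 8), (12, 4), (12, 5), (12, 6)], [(15,
      8), (13, 2), (13, 1), (13, 3), (11, 8), (16, 8), (13, 5), (13, 6)], [(14, 1), (14, 2),
      (12, 8), (14, 0), (17, 8), (14, 4), (14, 5), (14, 6)], [(13, 8), (15, 2), (17, 8), (15,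
      3), (12, 8), (18, 8), (15, 5), (15, 6)], [(18, 8), (16, 2), (16, 1), (16, 3), (16, 4),
      (13, 8), (19, 8), (16, 6)], [(17, 1), (17, 2), (15, 8), (20, 8), (14, 8), (21, 8), (17,
      5), (17, 6)], [(16, 8), (18, 2), (21, 8), (18, 3), (18, 4), (15, 8), (22, 8), (18, 6)],
      [(22, 8), (19, 2), (19, 1), (19, 3), (19, 4), (19, 5), (16, 8), (23, 8)], [(20, 1), (24,
      8), (20, 3), (17, 8), (20, 0), (25, 8), (20, 5), (20, 6)], [(21, 1), (21, 2), (18, 8),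
      (25, 8), (21, 4), (17, 8), (26, 8), (21, 6)], [(19, 8), (22, 2), (26, 8), (22, 3), (22,
      4), (22, 5), (18, 8), (27, 8)], [(27, 8), (23, 2), (23, 1), (23, 3), (23, 4), (23, 5),
      (23, 6), (19, 8)], [(24, 1), (20, 8), (24, 3), (24, 2), (24, 0), (28, 8), (24, 5), (24,
      6)], [(25, 1), (28, 8), (25, 3), (21, 8), (29, 8), (20, 8), (30, 8), (25, 6)], [(26, 1),
      (26, 2), (22, 8), (30, 8), (26, 4), (26, 5), (21, 8), (31, 8)], [(23, 8), (27, 2), (31,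
      8), (27, 3), (27, 4), (27, 5), (27, 6), (22, 8)], [(28, 1), (25, 8), (28, 3), (28, 2),
      (32, 8), (24, 8), (33, 8), (28, 6)], [(29, 1), (32, 8), (29, 3), (29, 4), (25, 8), (29,
      0), (34, 8), (29, 6)], [(30, 1), (33, 8), (30, 3), (26, 8), (34, 8), (30, 5), (25, 8),
      (35, 8)], [(31, 1), (31, 2), (27, 8), (35, 8), (31, 4), (31, 5), (31, 6), (26, 8)], [(32,
      1), (29, 8), (32, 3), (36, 8), (28, 8), (32, 0), (37, 8), (32, 6)], [(33, 1), (30, 8),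
      (33, 3), (33, 2), (37, 8), (33, 5), (28, 8), (38, 8)], [(34, 1), (37, 8), (34, 3), (34,
      4), (30, 8), (39, 8), (29, 8), (40, 8)], [(35, 1), (38, 8), (35, 3), (31, 8), (40, 8),
      (35, 5), (35, 6), (30, 8)], [(36, 1), (36, 4), (41, 8), (32, 8), (36, 2), (36, 0), (42,
      8), (36, 6)], [(37, 1), (34, 8), (37, 3), (42, 8), (33, 8), (43, 8), (32, 8), (44, 8)],
      [(38, 1), (35, 8), (38, 3), (38, 2), (44, 8), (38, 5), (38, 6), (33, 8)], [(39, 1), (43,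
      8), (39, 3), (39, 4), (39, 5), (34, 8), (39, 0), (45, 8)], [(40, 1), (44, 8), (40, 3),
      (40, 4), (35, 8), (45, 8), (40, 6), (34, 8)], [(46, 8), (41, 4), (36, 8), (41, 3), (41,
      2), (41, 0), (47, 8), (41, 6)], [(42, 1), (42, 4), (47, 8), (37, 8), (42, 2), (48, 8),
      (36, 8), (49, 8)], [(43, 1), (39, 8), (43, 3), (48, 8), (43, 5), (37, 8), (43, 0), (50,
      8)], [(44, 1), (40, 8), (44, 3), (49, 8), (38, 8), (50, 8), (44, 6), (37, 8)], [(45, 1),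
      (50, 8), (45, 3), (45, 4), (45, 5), (40, 8), (51, 8), (39, 8)], [(41, 8), (46, 4), (46,
      1), (46, 3), (46, 2), (46, 0), (52, 8), (46, 6)], [(52, 8), (47, 4), (42, 8), (47, 3),
      (47, 2), (53, 8), (41, 8), (54, 8)], [(48, 1), (48, 4), (53, 8), (43, 8), (55, 8), (42,
      8), (48, 0), (56, 8)], [(49, 1), (49, 4), (54, 8), (44, 8), (49, 2), (56, 8), (49, 6),
      (42, 8)], [(50, 1), (45, 8), (50, 3), (56, 8), (50, 5), (44, 8), (57, 8), (43, 8)], [(51,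
      1), (57, 8), (51, 3), (51, 4), (51, 5), (51, 6), (45, 8), (51, 0)], [(47, 8), (52, 4),
      (52, 1), (52, 3), (52, 2), (58, 8), (46, 8), (59, 8)], [(58, 8), (53, 4), (48, 8), (53,
      3), (60, 8), (47, 8), (53, 0), (61, 8)], [(59, 8), (54, 4), (49, 8), (54, 3), (54, 2),
      (61, 8), (54, 6), (47, 8)], [(55, 1), (55, 4), (60, 8), (55, 5), (48, 8), (55, 2), (55,
      0), (62, 8)], [(56, 1), (56, 4), (61, 8), (50, 8), (62, 8), (49, 8), (63, 8), (48, 8)],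
      [(57, 1), (51, 8), (57, 3), (63, 8), (57, 5), (57, 6), (50, 8), (57, 0)], [(53, 8), (58,
      4), (58, 1), (58, 3), (64, 8), (52, 8), (58, 0), (65, 8)], [(54, 8), (59, 4), (59, 1),
      (59, 3), (59, 2), (65, 8), (59, 6), (52, 8)], [(64, 8), (60, 4), (55, 8), (66, 8), (53,
      8), (60, 2), (60, 0), (67, 8)], [(65, 8), (61, 4), (56, 8), (61, 3), (67, 8), (54, 8),
      (68, 8), (53, 8)], [(62, 1), (62, 4), (67, 8), (62, 5), (56, 8), (62, 2), (69, 8), (55,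
      8)], [(63, 1), (63, 4), (68, 8), (57, 8), (69, 8), (63, 6), (56, 8), (63, 0)], [(60, 8),
      (64, 4), (64, 1), (70, 8), (58, 8), (64, 2), (64, 0), (71, 8)], [(61, 8), (65, 4), (65,
      1), (65, 3), (71, 8), (59, 8), (72, 8), (58, 8)], [(70, 8), (73, 8), (66, 5), (60, 8),
      (66, 3), (66, 2), (66, 0), (74, 8)], [(71, 8), (67, 4), (62, 8), (74, 8), (61, 8), (67,
      2), (75, 8), (60, 8)], [(72, 8), (68, 4), (63, 8), (68, 3), (75, 8), (68, 6), (61, 8),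
      (68, 0)], [(69, 1), (69, 4), (75, 8), (69, 5), (63, 8), (76, 8), (62, 8), (69, 0)], [(66,
      8), (77, 8), (78, 8), (64, 8), (70, 3), (70, 2), (70, 0), (79, 8)], [(67, 8), (71, 4),
      (71, 1), (79, 8), (65, 8), (71, 2), (80, 8), (64, 8)], [(68, 8), (72, 4), (72, 1), (72,
      3), (80, 8), (72, 6), (65, 8), (72, 0)], [(77, 8), (66, 8), (73, 5), (73, 4), (73, 3),
      (73, 2), (73, 0), (81, 8)], [(79, 8), (81, 8), (74, 5), (67, 8), (74, 3), (74, 2), (82,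
      8), (66, 8)], [(80, 8), (75, 4), (69, 8), (82, 8), (68, 8), (83, 8), (67, 8), (75, 0)],
      [(76, 1), (76, 4), (83, 8), (76, 5), (76, 6), (69, 8), (76, 2), (76, 0)], [(73, 8), (70,
      8), (84, 8), (77, 4), (77, 3), (77, 2), (77, 0), (85, 8)], [(78, 5), (84, 8), (70, 8),
      (78, 1), (78, 3), (78, 2), (78, 0), (86, 8)], [(74, 8), (85, 8), (86, 8), (71, 8), (79,
      3), (79, 2), (87, 8), (70, 8)], [(75, 8), (80, 4), (80, 1), (87, 8), (72, 8), (88, 8),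
      (71, 8), (80, 0)], [(85, 8), (74, 8), (81, 5), (81, 4), (81, 3), (81, 2), (89, 8), (73,
      8)], [(87, 8), (89, 8), (82, 5), (75, 8), (82, 3), (90, 8), (74, 8), (82, 0)], [(88, 8),
      (83, 4), (76, 8), (90, 8), (83, 6), (75, 8), (83, 2), (83, 0)], [(84, 5), (78, 8), (77,
      8), (91, 8), (84, 3), (84, 2), (84, 0), (92, 8)], [(81, 8), (79, 8), (92, 8), (85, 4),
      (85, 3), (85, 2), (93, 8), (77, 8)], [(86, 5), (92, 8), (79, 8), (86, 1), (86, 3), (86,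
      2), (94, 8), (78, 8)], [(82, 8), (93, 8), (94, 8), (80, 8), (87, 3), (95, 8), (79, 8),
      (87, 0)], [(83, 8), (88, 4), (88, 1), (95, 8), (88, 6), (80, 8), (88, 2), (88, 0)], [(93,
      8), (82, 8), (89, 5), (89, 4), (89, 3), (96, 8), (81, 8), (89, 0)], [(95, 8), (96, 8),
      (90, 5), (83, 8), (97, 8), (82, 8), (90, 2), (90, 0)], [(91, 5), (91, 1), (91, 4), (84,
      8), (98, 8), (91, 2), (91, 0), (99, 8)], [(92, 5), (86, 8), (85, 8), (99, 8), (92, 3),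
      (92, 2), (100, 8), (84, 8)], [(89, 8), (87, 8), (100, 8), (93, 4), (93, 3), (101, 8), (85,
      8), (93, 0)], [(94, 5), (100, 8), (87, 8), (94, 1), (94, 3), (102, 8), (86, 8), (94, 0)],
      [(90, 8), (101, 8), (102, 8), (88, 8), (103, 8), (87, 8), (95, 2), (95, 0)], [(101, 8),
      (90, 8), (96, 5), (96, 4), (104, 8), (89, 8), (96, 2), (96, 0)], [(103, 8), (104, 8), (97,
      5), (97, 6), (90, 8), (97, 3), (97, 2), (97, 0)], [(98, 5), (98, 1), (98, 4), (98, 3),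
      (91, 8), (105, 8), (98, 0), (106, 8)], [(99, 5), (99, 1), (99, 4), (92, 8), (106, 8), (99,
      2), (107, 8), (91, 8)], [(100, 5), (94, 8), (93, 8), (107, 8), (100, 3), (108, 8), (92,
      8), (100, 0)], [(96, 8), (95, 8), (108, 8), (101, 4), (109, 8), (93, 8), (101, 2), (101,
      0)], [(102, 5), (108, 8), (95, 8), (102, 1), (110, 8), (94, 8), (102, 2), (102, 0)], [(97,
      8), (109, 8), (110, 8), (103, 6), (95, 8), (103, 3), (103, 2), (103, 0)], [(109, 8), (97,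
      8), (104, 5), (111, 8), (96, 8), (104, 3), (104, 2), (104, 0)], [(105, 5), (105, 1), (105,
      4), (105, 3), (105, 2), (98, 8), (112, 8), (113, 8)], [(106, 5), (106, 1), (106, 4), (106,
      3), (99, 8), (113, 8), (114, 8), (98, 8)], [(107, 5), (107, 1), (107, 4), (100, 8), (114,
      8), (115, 8), (99, 8), (107, 0)], [(108, 5), (102, 8), (101, 8), (115, 8), (116, 8), (100,
      8), (108, 2), (108, 0)], [(104, 8), (103, 8), (116, 8), (117, 8), (101, 8), (109, 3),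
      (109, 2), (109, 0)], [(110, 5), (116, 8), (103, 8), (118, 8), (102, 8), (110, 3), (110,
      2), (110, 0)], [(117, 8), (111, 6), (119, 8), (104, 8), (111, 4), (111, 3), (111, 2),
      (111, 0)], [(112, 5), (112, 1), (112, 4), (112, 3), (112, 2), (112, 0), (105, 8), (120,
      8)], [(113, 5), (113, 1), (113, 4), (113, 3), (113, 2), (106, 8), (121, 8), (105, 8)],
      [(114, 5), (114, 1), (114, 4), (114, 3), (107, 8), (122, 8), (106, 8), (114, 0)], [(115,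
      5), (115, 1), (115, 4), (108, 8), (123, 8), (107, 8), (115, 2), (115, 0)], [(116, 5),
      (110, 8), (109, 8), (124, 8), (108, 8), (116, 3), (116, 2), (116, 0)], [(111, 8), (117,
      6), (126, 8), (109, 8), (117, 4), (117, 3), (117, 2), (117, 0)], [(118, 5), (125, 8),
      (118, 6), (110, 8), (118, 1), (118, 3), (118, 2), (118, 0)], [(127, 8), (119, 6), (111,
      8), (119, 5), (119, 4), (119, 3), (119, 2), (119, 0)], [(120, 5), (120, 1), (120, 4),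
      (120, 3), (120, 2), (120, 0), (128, 8), (112, 8)], [(121, 5), (121, 1), (121, 4), (121,
      3), (121, 2), (129, 8), (113, 8), (128, 8)], [(122, 5), (122, 1), (122, 4), (122, 3),
      (130, 8), (114, 8), (129, 8), (122, 0)], [(123, 5), (123, 1), (123, 4), (131, 8), (115,
      8), (130, 8), (123, 2), (123, 0)], [(124, 5), (132, 8), (133, 8), (116, 8), (131, 8),
      (124, 3), (124, 2), (124, 0)], [(125, 5), (118, 8), (125, 6), (132, 8), (125, 1), (125,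
      3), (125, 2), (125, 0)], [(134, 8), (126, 6), (117, 8), (133, 8), (126, 4), (126, 3),
      (126, 2), (126, 0)], [(119, 8), (127, 6), (134, 8), (127, 5), (127, 4), (127, 3), (127,
      2), (127, 0)], [(128, 5), (128, 1), (128, 4), (128, 3), (128, 2), (135, 8), (120, 8),
      (121, 8)], [(129, 5), (129, 1), (129, 4), (129, 3), (136, 8), (121, 8), (122, 8), (135,
      8)], [(130, 5), (130, 1), (130, 4), (137, 8), (122, 8), (123, 8), (136, 8), (130, 0)],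
      [(131, 5), (138, 8), (139, 8), (123, 8), (124, 8), (137, 8), (131, 2), (131, 0)], [(132,
      5), (124, 8), (140, 8), (125, 8), (138, 8), (132, 3), (132, 2), (132, 0)], [(141, 8),
      (140, 8), (124, 8), (126, 8), (139, 8), (133, 3), (133, 2), (133, 0)], [(126, 8), (134,
      6), (127, 8), (141, 8), (134, 4), (134, 3), (134, 2), (134, 0)], [(135, 5), (135, 1),
      (135, 4), (135, 3), (142, 8), (128, 8), (135, 0), (129, 8)], [(136, 5), (136, 1), (136,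
      4), (143, 8), (129, 8), (136, 2), (130, 8), (142, 8)], [(137, 5), (144, 8), (145, 8),
      (130, 8), (137, 3), (131, 8), (143, 8), (137, 0)], [(138, 5), (131, 8), (146, 8), (138,
      1), (132, 8), (144, 8), (138, 2), (138, 0)], [(147, 8), (146, 8), (131, 8), (139, 4),
      (133, 8), (145, 8), (139, 2), (139, 0)], [(148, 8), (133, 8), (132, 8), (140, 6), (146,
      8), (140, 3), (140, 2), (140, 0)], [(133, 8), (148, 8), (141, 5), (134, 8), (147, 8),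
      (141, 3), (141, 2), (141, 0)], [(142, 5), (142, 1), (142, 4), (149, 8), (135, 8), (142,
      2), (142, 0), (136, 8)], [(143, 5), (150, 8), (151, 8), (136, 8), (143, 3), (143, 2),
      (137, 8), (149, 8)], [(144, 5), (137, 8), (152, 8), (144, 1), (144, 3), (138, 8), (150,
      8), (144, 0)], [(153, 8), (152, 8), (137, 8), (145, 4), (145, 3), (139, 8), (151, 8),
      (145, 0)], [(155, 8), (139, 8), (138, 8), (154, 8), (140, 8), (152, 8), (146, 2), (146,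
      0)], [(139, 8), (155, 8), (147, 5), (147, 4), (141, 8), (153, 8), (147, 2), (147, 0)],
      [(140, 8), (141, 8), (148, 5), (148, 6), (155, 8), (148, 3), (148, 2), (148, 0)], [(149,
      5), (156, 8), (157, 8), (142, 8), (149, 3), (149, 2), (149, 0), (143, 8)], [(150, 5),
      (143, 8), (158, 8), (150, 1), (150, 3), (150, 2), (144, 8), (156, 8)], [(159, 8), (158,
      8), (143, 8), (151, 4), (151, 3), (151, 2), (145, 8), (157, 8)], [(161, 8), (145, 8),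
      (144, 8), (160, 8), (152, 3), (146, 8), (158, 8), (152, 0)], [(145, 8), (161, 8), (153,
      5), (153, 4), (153, 3), (147, 8), (159, 8), (153, 0)], [(162, 8), (154, 4), (154, 1),
      (146, 8), (154, 6), (160, 8), (154, 2), (154, 0)], [(146, 8), (147, 8), (155, 5), (162,
      8), (148, 8), (161, 8), (155, 2), (155, 0)], [(156, 5), (149, 8), (163, 8), (156, 1),
      (156, 3), (156, 2), (156, 0), (150, 8)], [(164, 8), (163, 8), (149, 8), (157, 4), (157,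
      3), (157, 2), (157, 0), (151, 8)], [(166, 8), (151, 8), (150, 8), (165, 8), (158, 3),
      (158, 2), (152, 8), (163, 8)], [(151, 8), (166, 8), (159, 5), (159, 4), (159, 3), (159,
      2), (153, 8), (164, 8)], [(168, 8), (160, 4), (160, 1), (152, 8), (167, 8), (154, 8),
      (165, 8), (160, 0)], [(152, 8), (153, 8), (161, 5), (168, 8), (161, 3), (155, 8), (166,
      8), (161, 0)], [(154, 8), (162, 4), (169, 8), (155, 8), (162, 6), (168, 8), (162, 2),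
      (162, 0)], [(171, 8), (157, 8), (156, 8), (170, 8), (163, 3), (163, 2), (163, 0), (158,
      8)], [(157, 8), (171, 8), (164, 5), (164, 4), (164, 3), (164, 2), (164, 0), (159, 8)],
      [(173, 8), (165, 4), (165, 1), (158, 8), (172, 8), (165, 2), (160, 8), (170, 8)], [(158,
      8), (159, 8), (166, 5), (173, 8), (166, 3), (166, 2), (161, 8), (171, 8)], [(174, 8),
      (167, 4), (167, 1), (167, 3), (160, 8), (167, 6), (172, 8), (167, 0)], [(160, 8), (168,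
      4), (175, 8), (161, 8), (174, 8), (162, 8), (173, 8), (168, 0)], [(169, 1), (169, 4),
      (162, 8), (169, 5), (169, 6), (175, 8), (169, 2), (169, 0)], [(177, 8), (170, 4), (170,
      1), (163, 8), (176, 8), (170, 2), (170, 0), (165, 8)], [(163, 8), (164, 8), (171, 5),
      (177, 8), (171, 3), (171, 2), (171, 0), (166, 8)], [(179, 8), (172, 4), (172, 1), (172,
      3), (165, 8), (178, 8), (167, 8), (176, 8)], [(165, 8), (173, 4), (180, 8), (166, 8),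
      (179, 8), (173, 2), (168, 8), (177, 8)], [(167, 8), (174, 4), (181, 8), (174, 3), (168,
      8), (174, 6), (179, 8), (174, 0)], [(175, 1), (175, 4), (168, 8), (175, 5), (181, 8),
      (169, 8), (180, 8), (175, 0)], [(183, 8), (176, 4), (176, 1), (176, 3), (170, 8), (182,
      8), (176, 0), (172, 8)], [(170, 8), (177, 4), (184, 8), (171, 8), (183, 8), (177, 2),
      (177, 0), (173, 8)], [(185, 8), (178, 4), (178, 1), (178, 3), (178, 2), (172, 8), (178,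
      6), (182, 8)], [(172, 8), (179, 4), (186, 8), (179, 3), (173, 8), (185, 8), (174, 8),
      (183, 8)], [(180, 1), (180, 4), (173, 8), (180, 5), (186, 8), (180, 2), (175, 8), (184,
      8)], [(181, 1), (181, 4), (174, 8), (187, 8), (175, 8), (181, 6), (186, 8), (181, 0)],
      [(189, 8), (182, 4), (182, 1), (182, 3), (182, 2), (176, 8), (188, 8), (178, 8)], [(176,
      8), (183, 4), (190, 8), (183, 3), (177, 8), (189, 8), (183, 0), (179, 8)], [(184, 1),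
      (184, 4), (177, 8), (184, 5), (190, 8), (184, 2), (184, 0), (180, 8)], [(178, 8), (185,
      4), (191, 8), (185, 3), (185, 2), (179, 8), (185, 6), (189, 8)], [(186, 1), (186, 4),
      (179, 8), (192, 8), (180, 8), (191, 8), (181, 8), (190, 8)], [(187, 1), (193, 8), (187,
      3), (181, 8), (187, 5), (187, 6), (192, 8), (187, 0)], [(194, 8), (188, 4), (188, 1),
      (188, 3), (188, 2), (188, 0), (182, 8), (188, 6)], [(182, 8), (189, 4), (195, 8), (189,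
      3), (189, 2), (183, 8), (194, 8), (185, 8)], [(190, 1), (190, 4), (183, 8), (196, 8),
      (184, 8), (195, 8), (190, 0), (186, 8)], [(191, 1), (191, 4), (185, 8), (197, 8), (191,
      2), (186, 8), (191, 6), (195, 8)], [(192, 1), (198, 8), (192, 3), (186, 8), (192, 5),
      (197, 8), (187, 8), (196, 8)], [(193, 1), (187, 8), (193, 3), (193, 4), (193, 5), (193,
      6), (198, 8), (193, 0)], [(188, 8), (194, 4), (199, 8), (194, 3), (194, 2), (194, 0),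
      (189, 8), (194, 6)], [(195, 1), (195, 4), (189, 8), (200, 8), (195, 2), (190, 8), (199,
      8), (191, 8)], [(196, 1), (201, 8), (196, 3), (190, 8), (196, 5), (200, 8), (196, 0),
      (192, 8)], [(197, 1), (203, 8), (197, 3), (191, 8), (202, 8), (192, 8), (197, 6), (200,
      8)], [(198, 1), (192, 8), (198, 3), (198, 4), (198, 5), (203, 8), (193, 8), (201, 8)],
      [(199, 1), (199, 4), (194, 8), (204, 8), (199, 2), (199, 0), (195, 8), (199, 6)], [(200,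
      1), (206, 8), (200, 3), (195, 8), (205, 8), (196, 8), (204, 8), (197, 8)], [(201, 1),
      (196, 8), (201, 3), (201, 4), (201, 5), (206, 8), (201, 0), (198, 8)], [(202, 1), (207,
      8), (202, 3), (202, 2), (197, 8), (202, 5), (202, 6), (205, 8)], [(203, 1), (197, 8),
      (203, 3), (203, 4), (207, 8), (198, 8), (203, 6), (206, 8)], [(204, 1), (209, 8), (204,
      3), (199, 8), (208, 8), (204, 0), (200, 8), (204, 6)], [(205, 1), (210, 8), (205, 3),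
      (205, 2), (200, 8), (205, 5), (208, 8), (202, 8)], [(206, 1), (200, 8), (206, 3), (206,
      4), (210, 8), (201, 8), (209, 8), (203, 8)], [(207, 1), (202, 8), (207, 3), (211, 8),
      (203, 8), (207, 5), (207, 6), (210, 8)], [(208, 1), (213, 8), (208, 3), (208, 2), (204,
      8), (212, 8), (205, 8), (208, 6)], [(209, 1), (204, 8), (209, 3), (209, 4), (213, 8),
      (209, 0), (206, 8), (209, 6)], [(210, 1), (205, 8), (210, 3), (214, 8), (206, 8), (210,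
      5), (213, 8), (207, 8)], [(211, 1), (211, 2), (215, 8), (207, 8), (211, 4), (211, 5),
      (211, 6), (214, 8)], [(212, 1), (216, 8), (212, 3), (212, 2), (212, 0), (208, 8), (212,
      5), (212, 6)], [(213, 1), (208, 8), (213, 3), (217, 8), (209, 8), (216, 8), (210, 8),
      (213, 6)], [(214, 1), (214, 2), (218, 8), (210, 8), (214, 4), (214, 5), (217, 8), (211,
      8)], [(219, 8), (215, 2), (211, 8), (215, 3), (215, 4), (215, 5), (215, 6), (218, 8)],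
      [(216, 1), (212, 8), (216, 3), (220, 8), (216, 0), (213, 8), (216, 5), (216, 6)], [(217,
      1), (217, 2), (221, 8), (213, 8), (217, 4), (220, 8), (214, 8), (217, 6)], [(222, 8),
      (218, 2), (214, 8), (218, 3), (218, 4), (218, 5), (221, 8), (215, 8)], [(215, 8), (219,
      2), (219, 1), (219, 3), (219, 4), (219, 5), (219, 6), (222, 8)], [(220, 1), (220, 2),
      (224, 8), (216, 8), (223, 8), (217, 8), (220, 5), (220, 6)], [(225, 8), (221, 2), (217,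
      8), (221, 3), (221, 4), (224, 8), (218, 8), (221, 6)], [(218, 8), (222, 2), (222, 1),
      (222, 3), (222, 4), (222, 5), (225, 8), (219, 8)], [(223, 1), (223, 2), (226, 8), (223,
      0), (220, 8), (223, 4), (223, 5), (223, 6)], [(227, 8), (224, 2), (220, 8), (224, 3),
      (226, 8), (221, 8), (224, 5), (224, 6)], [(221, 8), (225, 2), (225, 1), (225, 3), (225,
      4), (227, 8), (222, 8), (225, 6)], [(229, 8), (226, 2), (223, 8), (228, 8), (224, 8),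
      (226, 4), (226, 5), (226, 6)], [(224, 8), (227, 2), (227, 1), (227, 3), (229, 8), (225,
      8), (227, 5), (227, 6)], [(231, 8), (230, 8), (228, 0), (226, 8), (228, 3), (228, 4),
      (228, 5), (228, 6)], [(226, 8), (229, 2), (229, 1), (231, 8), (227, 8), (229, 4), (229,
      5), (229, 6)], [(232, 8), (228, 8), (230, 0), (230, 2), (230, 3), (230, 4), (230, 5),
      (230, 6)], [(228, 8), (232, 8), (233, 8), (229, 8), (231, 3), (231, 4), (231, 5), (231,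
      6)], [(230, 8), (231, 8), (234, 8), (232, 2), (232, 3), (232, 4), (232, 5), (232, 6)],
      [(233, 0), (234, 8), (231, 8), (233, 1), (233, 3), (233, 4), (233, 5), (233, 6)], [(234,
      0), (233, 8), (232, 8), (235, 8), (234, 3), (234, 4), (234, 5), (234, 6)], [(235, 0),
      (235, 1), (235, 2), (234, 8), (236, 8), (235, 4), (235, 5), (235, 6)], [(236, 0), (236,
      1), (236, 2), (236, 3), (235, 8), (237, 8), (236, 5), (236, 6)], [(237, 0), (237, 1),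
      (237, 2), (237, 3), (237, 4), (236, 8), (238, 8), (237, 6)], [(238, 0), (238, 1), (238,
      2), (238, 3), (238, 4), (238, 5), (237, 8), (239, 8)], [(239, 0), (239, 1), (239, 2),
      (239, 3), (239, 4), (239, 5), (239, 6), (238, 8)]]
  poly := [(1, 0), (1, 1), (1, 2), (1, 3), (1, 4), (1, 5), (2, 6), (2, 7), (2, 8), (2, 9), (3,
      10), (3, 11), (4, 12), (4, 13), (4, 14), (4, 15), (5, 16), (5, 17), (6, 18), (6, 19), (6,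
      20), (6, 21), (7, 22), (7, 23), (7, 24), (7, 25), (7, 26), (7, 27), (8, 28), (8, 29), (7,
      30), (7, 31), (7, 32), (7, 33), (7, 34), (7, 35), (6, 36), (6, 37), (6, 38), (6, 39), (5,
      40), (5, 41), (4, 42), (4, 43), (4, 44), (4, 45), (3, 46), (3, 47), (2, 48), (2, 49), (2,
      50), (2, 51), (1, 52), (1, 53), (1, 54), (1, 55), (1, 56), (1, 57)]

/-- The levels of type E8. -/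
def levelsE8 : List Level :=
  [levelE8_1, levelE8_2, levelE8_3, levelE8_4, levelE8_5, levelE8_6, levelE8_7, levelE8_8]

theorem chkLevelsE8 : tabE8.chkLevels levelsE8 = true := by
  decide +kernel

end CfsgLib.Chev
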