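import Cfsg.Agent.Lib.Chev.WeylCheck
import Cfsg.Agent.Lib.Chev.DataF4

/-! Transversals in the Weyl group of type F4 (generated). -/

set_option autoImplicit false
set_option maxRecDepth 200000

namespace CfsgLib.Chev

def levelF4_1 : Level where
  reps := [[], [0]]
  mulTable := [[(1, 4)], [(0, 4)]]
  poly := [(1, 0), (1, 1)]

def levelF4_2 : Level where
  reps := [[], [1], [0, 1]]
  mulTable := [[(0, 0), (1, 4)], [(2, 4), (0, 4)], [(1, 4), (2, 0)]]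
  poly := [(1, 0), (1, 1), (1, 2)]

def levelF4_3 : Level where
  reps := [[], [2], [1, 2], [2, 1, 2], [0, 1, 2], [2, 0, 1, 2], [1, 2, 0, 1, 2], [2, 1, 2, 0, 1,
      2]]
  mulTable := [[(0, 0), (0, 1), (1, 4)], [(1, 0), (2, 4), (0, 4)], [(4, 4), (1, 4), (3, 4)],
      [(5, 4), (3, 1), (2, 4)], [(2, 4), (4, 0), (5, 4)], [(3, 4), (6, 4), (4, 4)], [(6, 1), (5,
      4), (7, 4)], [(7, 1), (7, 0), (6, 4)]]
  poly := [(1, 0), (1, 1), (1, 2), (2, 3), (1, 4), (1, 5), (1, 6)]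

def levelF4_4 : Level where
  reps := [[], [3], [2, 3], [1, 2, 3], [0, 1, 2, 3], [2, 1, 2, 3], [2, 0, 1, 2, 3], [3, 2, 1, 2,
      3], [1, 2, 0, 1, 2, 3], [3, 2, 0, 1, 2, 3], [2, 1, 2, 0, 1, 2, 3], [3, 1, 2, 0, 1, 2, 3],
      [3, 2, 1, 2, 0, 1, 2, 3], [2, 3, 1, 2, 0, 1, 2, 3], [2, 3, 2, 1, 2, 0, 1, 2, 3], [1, 2, 3,
      1, 2, 0, 1, 2, 3], [1, 2, 3, 2, 1, 2, 0, 1, 2, 3], [0, 1, 2, 3, 1, 2, 0, 1, 2, 3], [2, 1,
      2, 3, 2, 1, 2, 0, 1, 2, 3], [0, 1, 2, 3, 2, 1, 2, 0, 1, 2, 3], [2, 0, 1, 2, 3, 2, 1, 2, 0,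
      1, 2, 3], [1, 2, 0, 1, 2, 3, 2, 1, 2, 0, 1, 2, 3], [2, 1, 2, 0, 1, 2, 3, 2, 1, 2, 0, 1, 2,
      3], [3, 2, 1, 2, 0, 1, 2, 3, 2, 1, 2, 0, 1, 2, 3]]
  mulTable := [[(0, 0), (0, 1), (0, 2), (1, 4)], [(1, 0), (1, 1), (2, 4), (0, 4)], [(2, 0), (3,
      4), (1, 4), (2, 2)], [(4, 4), (2, 4), (5, 4), (3, 2)], [(3, 4), (4, 0), (6, 4), (4, 2)],
      [(6, 4), (5, 1), (3, 4), (7, 4)], [(5, 4), (8, 4), (4, 4), (9, 4)], [(9, 4), (7, 1), (7,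
      2), (5, 4)], [(8, 1), (6, 4), (10, 4), (11, 4)], [(7, 4), (11, 4), (9, 2), (6, 4)], [(10,
      1), (10, 0), (8, 4), (12, 4)], [(11, 1), (9, 4), (13, 4), (8, 4)], [(12, 1), (12, 0), (14,
      4), (10, 4)], [(13, 1), (15, 4), (11, 4), (14, 4)], [(14, 1), (16, 4), (12, 4), (13, 4)],
      [(17, 4), (13, 4), (15, 2), (16, 4)], [(19, 4), (14, 4), (18, 4), (15, 4)], [(15, 4), (17,
      1), (17, 2), (19, 4)], [(20, 4), (18, 0), (16, 4), (18, 2)], [(16, 4), (19, 1), (20, 4),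
      (17, 4)], [(18, 4), (21, 4), (19, 4), (20, 2)], [(21, 0), (20, 4), (22, 4), (21, 2)],
      [(22, 0), (22, 1), (21, 4), (23, 4)], [(23, 0), (23, 1), (23, 2), (22, 4)]]
  poly := [(1, 0), (1, 1), (1, 2), (1, 3), (2, 4), (2, 5), (2, 6), (2, 7), (2, 8), (2, 9), (2,
      10), (2, 11), (1, 12), (1, 13), (1, 14), (1, 15)]

/-- The levels of type F4. -/
def levelsF4 : List Level :=
  [levelF4_1, levelF4_2, levelF4_3, levelF4_4]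

theorem chkLevelsF4 : tabF4.chkLevels levelsF4 = true := by
  decide +kernel

end CfsgLib.Chev
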