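import Cfsg.Agent.Lib.Chev.WeylCheck
import Cfsg.Agent.Lib.Chev.DataG2

/-! Transversals in the Weyl group of type G2 (generated). -/

set_option autoImplicit false
set_option maxRecDepth 200000

namespace CfsgLib.Chev

def levelG2_1 : Level where
  reps := [[], [0]]
  mulTable := [[(1, 2)], [(0, 2)]]
  poly := [(1, 0), (1, 1)]

def levelG2_2 : Level where
  reps := [[], [1], [0, 1], [1, 0, 1], [0, 1, 0, 1], [1, 0, 1, 0, 1]]
  mulTable := [[(0, 0), (1, 2)], [(2, 2), (0, 2)], [(1, 2), (3, 2)], [(4, 2), (2, 2)], [(3, 2),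
      (5, 2)], [(5, 0), (4, 2)]]
  poly := [(1, 0), (1, 1), (1, 2), (1, 3), (1, 4), (1, 5)]

/-- The levels of type G2. -/
def levelsG2 : List Level :=
  [levelG2_1, levelG2_2]

theorem chkLevelsG2 : tabG2.chkLevels levelsG2 = true := by
  decide +kernel

end CfsgLib.Chev
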