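import Cfsg.Agent.Lib.Chev.Order
import Cfsg.Agent.Lib.Chev.DiagOrder
import Cfsg.Agent.Lib.Chev.All
import Cfsg.Agent.Lib.Chev.WeylG2
import Cfsg.Agent.Lib.Chev.WeylB2
import Cfsg.Agent.Lib.Chev.WeylD4
import Cfsg.Agent.Lib.Chev.WeylF4
import Cfsg.Agent.Lib.Chev.WeylE6
import Cfsg.Agent.Lib.Chev.WeylE7
import Cfsg.Agent.Lib.Chev.WeylE8

/-!
Orders of the diagonal subgroups and of the Chevalley groups, type by type (generated).
-/

set_option autoImplicit false
set_option maxRecDepth 100000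

namespace CfsgLib.Chev

open Cfsg.Lie

/-- A matrix from the list of its rows. -/
def matOf (l : ℕ) (L : List (List ℤ)) : Matrix (Fin l) (Fin l) ℤ :=
  fun i j => (L.getD i []).getD j 0

lemma Level.cast_gpoly (v : Level) (q : ℕ) : ((v.gpoly q : ℕ) : ℤ) = v.gpoly (q : ℤ) := by
  simp [Level.gpoly, Nat.cast_list_sum, List.map_map, Function.comp_def]

variable {F : Type*} [Field F] [Fintype F]

/-- Certificate U of type G2. -/
def snfUG2 : List (List ℤ) :=
  [[0, 1], [-1, 2]]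

/-- Certificate Ui of type G2. -/
def snfUiG2 : List (List ℤ) :=
  [[2, -1], [1, 0]]

/-- Certificate V of type G2. -/
def snfVG2 : List (List ℤ) :=
  [[1, 0], [2, 1]]

/-- Certificate Vi of type G2. -/
def snfViG2 : List (List ℤ) :=
  [[1, 0], [-2, 1]]

theorem card_diagonalG2 :
    Nat.card (chevG2.diagonalSubgroup F) = (Fintype.card F - 1) ^ 2 := by
  have h := certG2.card_diagonal (F := F) (matOf _ snfUG2) (matOf _ snfUiG2) (matOf _ snfVG2)
    (matOf _ snfViG2) (fun i => [1, 1].getD i.1 0)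
    (by decide +kernel) (by decide +kernel) (by decide +kernel)
  rw [show ∏ i : Fin tabG2.l, Nat.gcd (Fintype.card F - 1) ([1, 1].getD i.1 0) = 1 by
    show ∏ i : Fin 2, Nat.gcd (Fintype.card F - 1) ([1, 1].getD i.1 0) = _
    simp [Fin.prod_univ_succ, Nat.gcd_comm (Fintype.card F - 1)]] at h
  simpa [show tabG2.l = 2 from rfl] using h

lemma gpolyG2 (x : ℤ) :
    (x - 1) ^ 2 * (levelsG2.map fun v => v.gpoly x).prod = (x ^ 2 - 1) * (x ^ 6 - 1) := by
  simp only [levelsG2, levelG2_1, levelG2_2,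
    Level.gpoly, List.map_cons, List.map_nil, List.prod_cons, List.prod_nil, List.sum_cons,
    List.sum_nil]
  push_cast
  ring

theorem card_groupG2 :
    Nat.card (chevG2.group F) = Fintype.card F ^ 6 * ((Fintype.card F ^ 2 - 1) * (Fintype.card F ^ 6 - 1)) := by
  have hq : 1 ≤ Fintype.card F := Fintype.card_pos
  have hp : ∀ e, 1 ≤ Fintype.card F ^ e := fun e => Nat.one_le_pow _ _ hq
  rw [certG2.card_group chkLevelsG2, show tabG2.half = 6 from rfl]
  have hd := card_diagonalG2 (F := F)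
  have key : (Fintype.card F - 1) ^ 2 * (levelsG2.map fun v => v.gpoly (Fintype.card F)).prod =
      (Fintype.card F ^ 2 - 1) * (Fintype.card F ^ 6 - 1) := by
    apply Nat.cast_injective (R := ℤ)
    push_cast [Nat.cast_sub hq, Nat.cast_sub (hp _), List.map_map, Function.comp_def]
    rw [show (fun v : Level => ((v.gpoly (Fintype.card F) : ℕ) : ℤ)) =
      fun v => v.gpoly (Fintype.card F : ℤ) from funext fun v => Level.cast_gpoly v _]
    exact gpolyG2 _
  linear_combination (Fintype.card F ^ 6 *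
      (levelsG2.map fun v => v.gpoly (Fintype.card F)).prod) * hd + Fintype.card F ^ 6 * key

/-- Certificate U of type B2. -/
def snfUB2 : List (List ℤ) :=
  [[0, 1], [-1, 2]]

/-- Certificate Ui of type B2. -/
def snfUiB2 : List (List ℤ) :=
  [[2, -1], [1, 0]]

/-- Certificate V of type B2. -/
def snfVB2 : List (List ℤ) :=
  [[1, 0], [2, 1]]

/-- Certificate Vi of type B2. -/
def snfViB2 : List (List ℤ) :=
  [[1, 0], [-2, 1]]

theorem card_diagonalB2 :
    Nat.gcd 2 (Fintype.card F - 1) * Nat.card (chevB2.diagonalSubgroup F) = (Fintype.card F - 1) ^ 2 := by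
  have h := certB2.card_diagonal (F := F) (matOf _ snfUB2) (matOf _ snfUiB2) (matOf _ snfVB2)
    (matOf _ snfViB2) (fun i => [1, 2].getD i.1 0)
    (by decide +kernel) (by decide +kernel) (by decide +kernel)
  rw [show ∏ i : Fin tabB2.l, Nat.gcd (Fintype.card F - 1) ([1, 2].getD i.1 0) = Nat.gcd 2 (Fintype.card F - 1) by
    show ∏ i : Fin 2, Nat.gcd (Fintype.card F - 1) ([1, 2].getD i.1 0) = _
    simp [Fin.prod_univ_succ, Nat.gcd_comm (Fintype.card F - 1)]] at h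
  simpa [show tabB2.l = 2 from rfl] using h

lemma gpolyB2 (x : ℤ) :
    (x - 1) ^ 2 * (levelsB2.map fun v => v.gpoly x).prod = (x ^ 2 - 1) * (x ^ 4 - 1) := by
  simp only [levelsB2, levelB2_1, levelB2_2,
    Level.gpoly, List.map_cons, List.map_nil, List.prod_cons, List.prod_nil, List.sum_cons,
    List.sum_nil]
  push_cast
  ring

theorem card_groupB2 :
    Nat.gcd 2 (Fintype.card F - 1) * Nat.card (chevB2.group F) = Fintype.card F ^ 4 * ((Fintype.card F ^ 2 - 1) * (Fintype.card F ^ 4 - 1)) := by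
  have hq : 1 ≤ Fintype.card F := Fintype.card_pos
  have hp : ∀ e, 1 ≤ Fintype.card F ^ e := fun e => Nat.one_le_pow _ _ hq
  rw [certB2.card_group chkLevelsB2, show tabB2.half = 4 from rfl]
  have hd := card_diagonalB2 (F := F)
  have key : (Fintype.card F - 1) ^ 2 * (levelsB2.map fun v => v.gpoly (Fintype.card F)).prod =
      (Fintype.card F ^ 2 - 1) * (Fintype.card F ^ 4 - 1) := by
    apply Nat.cast_injective (R := ℤ)
    push_cast [Nat.cast_sub hq, Nat.cast_sub (hp _), List.map_map, Function.comp_def]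
    rw [show (fun v : Level => ((v.gpoly (Fintype.card F) : ℕ) : ℤ)) =
      fun v => v.gpoly (Fintype.card F : ℤ) from funext fun v => Level.cast_gpoly v _]
    exact gpolyB2 _
  linear_combination (Fintype.card F ^ 4 *
      (levelsB2.map fun v => v.gpoly (Fintype.card F)).prod) * hd + Fintype.card F ^ 4 * key

/-- Certificate U of type D4. -/
def snfUD4 : List (List ℤ) :=
  [[-1, -2, -3, 2], [0, -1, -2, 2], [0, 0, -1, 1], [0, 0, 0, 1]]

/-- Certificate Ui of type D4. -/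
def snfUiD4 : List (List ℤ) :=
  [[-1, 2, -1, -1], [0, -1, 2, 0], [0, 0, -1, 1], [0, 0, 0, 1]]

/-- Certificate V of type D4. -/
def snfVD4 : List (List ℤ) :=
  [[0, 1, 0, 0], [0, 0, 1, 0], [0, 0, -1, 1], [1, 2, 1, 2]]

/-- Certificate Vi of type D4. -/
def snfViD4 : List (List ℤ) :=
  [[-2, -3, -2, 1], [1, 0, 0, 0], [0, 1, 0, 0], [0, 1, 1, 0]]

theorem card_diagonalD4 :
    Nat.gcd 2 (Fintype.card F - 1) ^ 2 * Nat.card (chevD4.diagonalSubgroup F) = (Fintype.card F - 1) ^ 4 := by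
  have h := certD4.card_diagonal (F := F) (matOf _ snfUD4) (matOf _ snfUiD4) (matOf _ snfVD4)
    (matOf _ snfViD4) (fun i => [1, 1, 2, 2].getD i.1 0)
    (by decide +kernel) (by decide +kernel) (by decide +kernel)
  rw [show ∏ i : Fin tabD4.l, Nat.gcd (Fintype.card F - 1) ([1, 1, 2, 2].getD i.1 0) = Nat.gcd 2 (Fintype.card F - 1) ^ 2 by
    show ∏ i : Fin 4, Nat.gcd (Fintype.card F - 1) ([1, 1, 2, 2].getD i.1 0) = _
    simp [Fin.prod_univ_succ, Nat.gcd_comm (Fintype.card F - 1), pow_two]] at h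
  simpa [show tabD4.l = 4 from rfl] using h

lemma gpolyD4 (x : ℤ) :
    (x - 1) ^ 4 * (levelsD4.map fun v => v.gpoly x).prod = (x ^ 2 - 1) * (x ^ 4 - 1) * (x ^ 4 - 1) * (x ^ 6 - 1) := by
  simp only [levelsD4, levelD4_1, levelD4_2, levelD4_3, levelD4_4,
    Level.gpoly, List.map_cons, List.map_nil, List.prod_cons, List.prod_nil, List.sum_cons,
    List.sum_nil]
  push_cast
  ring

theorem card_groupD4 :
    Nat.gcd 2 (Fintype.card F - 1) ^ 2 * Nat.card (chevD4.group F) = Fintype.card F ^ 12 * ((Fintype.card F ^ 2 - 1) * (Fintype.card F ^ 4 - 1) * (Fintype.card F ^ 4 - 1) * (Fintype.card F ^ 6 - 1)) := by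
  have hq : 1 ≤ Fintype.card F := Fintype.card_pos
  have hp : ∀ e, 1 ≤ Fintype.card F ^ e := fun e => Nat.one_le_pow _ _ hq
  rw [certD4.card_group chkLevelsD4, show tabD4.half = 12 from rfl]
  have hd := card_diagonalD4 (F := F)
  have key : (Fintype.card F - 1) ^ 4 * (levelsD4.map fun v => v.gpoly (Fintype.card F)).prod =
      (Fintype.card F ^ 2 - 1) * (Fintype.card F ^ 4 - 1) * (Fintype.card F ^ 4 - 1) * (Fintype.card F ^ 6 - 1) := by
    apply Nat.cast_injective (R := ℤ)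
    push_cast [Nat.cast_sub hq, Nat.cast_sub (hp _), List.map_map, Function.comp_def]
    rw [show (fun v : Level => ((v.gpoly (Fintype.card F) : ℕ) : ℤ)) =
      fun v => v.gpoly (Fintype.card F : ℤ) from funext fun v => Level.cast_gpoly v _]
    exact gpolyD4 _
  linear_combination (Fintype.card F ^ 12 *
      (levelsD4.map fun v => v.gpoly (Fintype.card F)).prod) * hd + Fintype.card F ^ 12 * key

/-- Certificate U of type F4. -/
def snfUF4 : List (List ℤ) :=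
  [[-1, 1, -2, -2], [0, 0, -1, -2], [0, -1, 0, -2], [0, 0, 0, -1]]

/-- Certificate Ui of type F4. -/
def snfUiF4 : List (List ℤ) :=
  [[-1, 2, -1, 0], [0, 0, -1, 2], [0, -1, 0, 2], [0, 0, 0, -1]]

/-- Certificate V of type F4. -/
def snfVF4 : List (List ℤ) :=
  [[0, 1, 0, 0], [0, 0, 0, 1], [1, 2, 2, 2], [-2, -4, -3, -2]]

/-- Certificate Vi of type F4. -/
def snfViF4 : List (List ℤ) :=
  [[-2, 2, -3, -2], [1, 0, 0, 0], [0, -2, 2, 1], [0, 1, 0, 0]]

theorem card_diagonalF4 :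
    Nat.card (chevF4.diagonalSubgroup F) = (Fintype.card F - 1) ^ 4 := by
  have h := certF4.card_diagonal (F := F) (matOf _ snfUF4) (matOf _ snfUiF4) (matOf _ snfVF4)
    (matOf _ snfViF4) (fun i => [1, 1, 1, 1].getD i.1 0)
    (by decide +kernel) (by decide +kernel) (by decide +kernel)
  rw [show ∏ i : Fin tabF4.l, Nat.gcd (Fintype.card F - 1) ([1, 1, 1, 1].getD i.1 0) = 1 by
    show ∏ i : Fin 4, Nat.gcd (Fintype.card F - 1) ([1, 1, 1, 1].getD i.1 0) = _
    simp [Fin.prod_univ_succ, Nat.gcd_comm (Fintype.card F - 1)]] at h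
  simpa [show tabF4.l = 4 from rfl] using h

lemma gpolyF4 (x : ℤ) :
    (x - 1) ^ 4 * (levelsF4.map fun v => v.gpoly x).prod = (x ^ 2 - 1) * (x ^ 6 - 1) * (x ^ 8 - 1) * (x ^ 12 - 1) := by
  simp only [levelsF4, levelF4_1, levelF4_2, levelF4_3, levelF4_4,
    Level.gpoly, List.map_cons, List.map_nil, List.prod_cons, List.prod_nil, List.sum_cons,
    List.sum_nil]
  push_cast
  ring

theorem card_groupF4 :
    Nat.card (chevF4.group F) = Fintype.card F ^ 24 * ((Fintype.card F ^ 2 - 1) * (Fintype.card F ^ 6 - 1) * (Fintype.card F ^ 8 - 1) * (Fintype.card F ^ 12 - 1)) := by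
  have hq : 1 ≤ Fintype.card F := Fintype.card_pos
  have hp : ∀ e, 1 ≤ Fintype.card F ^ e := fun e => Nat.one_le_pow _ _ hq
  rw [certF4.card_group chkLevelsF4, show tabF4.half = 24 from rfl]
  have hd := card_diagonalF4 (F := F)
  have key : (Fintype.card F - 1) ^ 4 * (levelsF4.map fun v => v.gpoly (Fintype.card F)).prod =
      (Fintype.card F ^ 2 - 1) * (Fintype.card F ^ 6 - 1) * (Fintype.card F ^ 8 - 1) * (Fintype.card F ^ 12 - 1) := by
    apply Nat.cast_injective (R := ℤ)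
    push_cast [Nat.cast_sub hq, Nat.cast_sub (hp _), List.map_map, Function.comp_def]
    rw [show (fun v : Level => ((v.gpoly (Fintype.card F) : ℕ) : ℤ)) =
      fun v => v.gpoly (Fintype.card F : ℤ) from funext fun v => Level.cast_gpoly v _]
    exact gpolyF4 _
  linear_combination (Fintype.card F ^ 24 *
      (levelsF4.map fun v => v.gpoly (Fintype.card F)).prod) * hd + Fintype.card F ^ 24 * key

/-- Certificate U of type E6. -/
def snfUE6 : List (List ℤ) :=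
  [[-1, 0, 1, 2, -2, -5], [0, -1, -2, -3, 1, 0], [0, 0, 0, 0, -1, -4], [0, 0, -1, -2, 0, -3], [0, 0, 0, -1, 0, -2], [0, 0, 0, 0, 0, -1]]

/-- Certificate Ui of type E6. -/
def snfUiE6 : List (List ℤ) :=
  [[-1, 0, 2, -1, 0, 0], [0, -1, -1, 2, -1, 0], [0, 0, 0, -1, 2, -1], [0, 0, 0, 0, -1, 2], [0, 0, -1, 0, 0, 4], [0, 0, 0, 0, 0, -1]]

/-- Certificate V of type E6. -/
def snfVE6 : List (List ℤ) :=
  [[0, 0, 1, 0, 0, 0], [0, 0, 0, 1, 0, 0], [0, 0, 0, 0, 1, 0], [0, 0, 0, 0, 0, 1], [1, 2, 2, 4, 4, 4], [-2, -3, -4, -6, -5, -4]]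

/-- Certificate Vi of type E6. -/
def snfViE6 : List (List ℤ) :=
  [[-2, 0, 2, 4, -3, -2], [0, -2, -3, -4, 2, 1], [1, 0, 0, 0, 0, 0], [0, 1, 0, 0, 0, 0], [0, 0, 1, 0, 0, 0], [0, 0, 0, 1, 0, 0]]

theorem card_diagonalE6 :
    Nat.gcd 3 (Fintype.card F - 1) * Nat.card (chevE6.diagonalSubgroup F) = (Fintype.card F - 1) ^ 6 := by
  have h := certE6.card_diagonal (F := F) (matOf _ snfUE6) (matOf _ snfUiE6) (matOf _ snfVE6)
    (matOf _ snfViE6) (fun i => [1, 1, 1, 1, 1, 3].getD i.1 0)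
    (by decide +kernel) (by decide +kernel) (by decide +kernel)
  rw [show ∏ i : Fin tabE6.l, Nat.gcd (Fintype.card F - 1) ([1, 1, 1, 1, 1, 3].getD i.1 0) = Nat.gcd 3 (Fintype.card F - 1) by
    show ∏ i : Fin 6, Nat.gcd (Fintype.card F - 1) ([1, 1, 1, 1, 1, 3].getD i.1 0) = _
    simp [Fin.prod_univ_succ, Nat.gcd_comm (Fintype.card F - 1)]] at h
  simpa [show tabE6.l = 6 from rfl] using h

lemma gpolyE6 (x : ℤ) :
    (x - 1) ^ 6 * (levelsE6.map fun v => v.gpoly x).prod = (x ^ 2 - 1) * (x ^ 5 - 1) * (x ^ 6 - 1) * (x ^ 8 - 1) * (x ^ 9 - 1) * (x ^ 12 - 1) := by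
  simp only [levelsE6, levelE6_1, levelE6_2, levelE6_3, levelE6_4, levelE6_5, levelE6_6,
    Level.gpoly, List.map_cons, List.map_nil, List.prod_cons, List.prod_nil, List.sum_cons,
    List.sum_nil]
  push_cast
  ring

theorem card_groupE6 :
    Nat.gcd 3 (Fintype.card F - 1) * Nat.card (chevE6.group F) = Fintype.card F ^ 36 * ((Fintype.card F ^ 2 - 1) * (Fintype.card F ^ 5 - 1) * (Fintype.card F ^ 6 - 1) * (Fintype.card F ^ 8 - 1) * (Fintype.card F ^ 9 - 1) * (Fintype.card F ^ 12 - 1)) := by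
  have hq : 1 ≤ Fintype.card F := Fintype.card_pos
  have hp : ∀ e, 1 ≤ Fintype.card F ^ e := fun e => Nat.one_le_pow _ _ hq
  rw [certE6.card_group chkLevelsE6, show tabE6.half = 36 from rfl]
  have hd := card_diagonalE6 (F := F)
  have key : (Fintype.card F - 1) ^ 6 * (levelsE6.map fun v => v.gpoly (Fintype.card F)).prod =
      (Fintype.card F ^ 2 - 1) * (Fintype.card F ^ 5 - 1) * (Fintype.card F ^ 6 - 1) * (Fintype.card F ^ 8 - 1) * (Fintype.card F ^ 9 - 1) * (Fintype.card F ^ 12 - 1) := by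
    apply Nat.cast_injective (R := ℤ)
    push_cast [Nat.cast_sub hq, Nat.cast_sub (hp _), List.map_map, Function.comp_def]
    rw [show (fun v : Level => ((v.gpoly (Fintype.card F) : ℕ) : ℤ)) =
      fun v => v.gpoly (Fintype.card F : ℤ) from funext fun v => Level.cast_gpoly v _]
    exact gpolyE6 _
  linear_combination (Fintype.card F ^ 36 *
      (levelsE6.map fun v => v.gpoly (Fintype.card F)).prod) * hd + Fintype.card F ^ 36 * key

/-- Certificate U of type E7. -/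
def snfUE7 : List (List ℤ) :=
  [[-1, 0, 1, 2, 3, -2, -4], [0, -1, -2, -3, -4, 1, -1], [0, 0, 0, 0, 0, -1, -4], [0, 0, -1, -2, -3, 0, -4], [0, 0, 0, -1, -2, 0, -3], [0, 0, 0, 0, -1, 0, -2], [0, 0, 0, 0, 0, 0, -1]]

/-- Certificate Ui of type E7. -/
def snfUiE7 : List (List ℤ) :=
  [[-1, 0, 2, -1, 0, 0, 0], [0, -1, -1, 2, -1, 0, 0], [0, 0, 0, -1, 2, -1, 0], [0, 0, 0, 0, -1, 2, -1], [0, 0, 0, 0, 0, -1, 2], [0, 0, -1, 0, 0, 0, 4], [0, 0, 0, 0, 0, 0, -1]]

/-- Certificate V of type E7. -/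
def snfVE7 : List (List ℤ) :=
  [[0, 0, 1, 0, 0, 0, 0], [0, 0, 0, 1, 0, 0, 0], [0, 0, 0, 0, 1, 0, 0], [0, 0, 0, 0, 0, 1, 0], [0, 0, 0, 0, 0, 0, 1], [1, 2, 2, 4, 4, 4, 4], [-2, -3, -4, -6, -5, -4, -3]]

/-- Certificate Vi of type E7. -/
def snfViE7 : List (List ℤ) :=
  [[-2, 0, 2, 4, 6, -3, -2], [0, -2, -3, -4, -5, 2, 1], [1, 0, 0, 0, 0, 0, 0], [0, 1, 0, 0, 0, 0, 0], [0, 0, 1, 0, 0, 0, 0], [0, 0, 0, 1, 0, 0, 0], [0, 0, 0, 0, 1, 0, 0]]

theorem card_diagonalE7 :
    Nat.gcd 2 (Fintype.card F - 1) * Nat.card (chevE7.diagonalSubgroup F) = (Fintype.card F - 1) ^ 7 := by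
  have h := certE7.card_diagonal (F := F) (matOf _ snfUE7) (matOf _ snfUiE7) (matOf _ snfVE7)
    (matOf _ snfViE7) (fun i => [1, 1, 1, 1, 1, 1, 2].getD i.1 0)
    (by decide +kernel) (by decide +kernel) (by decide +kernel)
  rw [show ∏ i : Fin tabE7.l, Nat.gcd (Fintype.card F - 1) ([1, 1, 1, 1, 1, 1, 2].getD i.1 0) = Nat.gcd 2 (Fintype.card F - 1) by
    show ∏ i : Fin 7, Nat.gcd (Fintype.card F - 1) ([1, 1, 1, 1, 1, 1, 2].getD i.1 0) = _
    simp [Fin.prod_univ_succ, Nat.gcd_comm (Fintype.card F - 1)]] at h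
  simpa [show tabE7.l = 7 from rfl] using h

lemma gpolyE7 (x : ℤ) :
    (x - 1) ^ 7 * (levelsE7.map fun v => v.gpoly x).prod = (x ^ 2 - 1) * (x ^ 6 - 1) * (x ^ 8 - 1) * (x ^ 10 - 1) * (x ^ 12 - 1) * (x ^ 14 - 1) * (x ^ 18 - 1) := by
  simp only [levelsE7, levelE7_1, levelE7_2, levelE7_3, levelE7_4, levelE7_5, levelE7_6, levelE7_7,
    Level.gpoly, List.map_cons, List.map_nil, List.prod_cons, List.prod_nil, List.sum_cons,
    List.sum_nil]
  push_cast
  ring

theorem card_groupE7 :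
    Nat.gcd 2 (Fintype.card F - 1) * Nat.card (chevE7.group F) = Fintype.card F ^ 63 * ((Fintype.card F ^ 2 - 1) * (Fintype.card F ^ 6 - 1) * (Fintype.card F ^ 8 - 1) * (Fintype.card F ^ 10 - 1) * (Fintype.card F ^ 12 - 1) * (Fintype.card F ^ 14 - 1) * (Fintype.card F ^ 18 - 1)) := by
  have hq : 1 ≤ Fintype.card F := Fintype.card_pos
  have hp : ∀ e, 1 ≤ Fintype.card F ^ e := fun e => Nat.one_le_pow _ _ hq
  rw [certE7.card_group chkLevelsE7, show tabE7.half = 63 from rfl]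
  have hd := card_diagonalE7 (F := F)
  have key : (Fintype.card F - 1) ^ 7 * (levelsE7.map fun v => v.gpoly (Fintype.card F)).prod =
      (Fintype.card F ^ 2 - 1) * (Fintype.card F ^ 6 - 1) * (Fintype.card F ^ 8 - 1) * (Fintype.card F ^ 10 - 1) * (Fintype.card F ^ 12 - 1) * (Fintype.card F ^ 14 - 1) * (Fintype.card F ^ 18 - 1) := by
    apply Nat.cast_injective (R := ℤ)
    push_cast [Nat.cast_sub hq, Nat.cast_sub (hp _), List.map_map, Function.comp_def]
    rw [show (fun v : Level => ((v.gpoly (Fintype.card F) : ℕ) : ℤ)) =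
      fun v => v.gpoly (Fintype.card F : ℤ) from funext fun v => Level.cast_gpoly v _]
    exact gpolyE7 _
  linear_combination (Fintype.card F ^ 63 *
      (levelsE7.map fun v => v.gpoly (Fintype.card F)).prod) * hd + Fintype.card F ^ 63 * key

/-- Certificate U of type E8. -/
def snfUE8 : List (List ℤ) :=
  [[-1, 0, 1, 2, 3, 4, -2, -3], [0, -1, -2, -3, -4, -5, 1, -2], [0, 0, 0, 0, 0, 0, -1, -4], [0, 0, -1, -2, -3, -4, 0, -5], [0, 0, 0, -1, -2, -3, 0, -4], [0, 0, 0, 0, -1, -2, 0, -3], [0, 0, 0, 0, 0, -1, 0, -2], [0, 0, 0, 0, 0, 0, 0, -1]]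

/-- Certificate Ui of type E8. -/
def snfUiE8 : List (List ℤ) :=
  [[-1, 0, 2, -1, 0, 0, 0, 0], [0, -1, -1, 2, -1, 0, 0, 0], [0, 0, 0, -1, 2, -1, 0, 0], [0, 0, 0, 0, -1, 2, -1, 0], [0, 0, 0, 0, 0, -1, 2, -1], [0, 0, 0, 0, 0, 0, -1, 2], [0, 0, -1, 0, 0, 0, 0, 4], [0, 0, 0, 0, 0, 0, 0, -1]]

/-- Certificate V of type E8. -/
def snfVE8 : List (List ℤ) :=
  [[0, 0, 1, 0, 0, 0, 0, 0], [0, 0, 0, 1, 0, 0, 0, 0], [0, 0, 0, 0, 1, 0, 0, 0], [0, 0, 0, 0, 0, 1, 0, 0], [0, 0, 0, 0, 0, 0, 1, 0], [0, 0, 0, 0, 0, 0, 0, 1], [1, 2, 2, 4, 4, 4, 4, 4], [-2, -3, -4, -6, -5, -4, -3, -2]]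

/-- Certificate Vi of type E8. -/
def snfViE8 : List (List ℤ) :=
  [[-2, 0, 2, 4, 6, 8, -3, -2], [0, -2, -3, -4, -5, -6, 2, 1], [1, 0, 0, 0, 0, 0, 0, 0], [0, 1, 0, 0, 0, 0, 0, 0], [0, 0, 1, 0, 0, 0, 0, 0], [0, 0, 0, 1, 0, 0, 0, 0], [0, 0, 0, 0, 1, 0, 0, 0], [0, 0, 0, 0, 0, 1, 0, 0]]

theorem card_diagonalE8 :
    Nat.card (chevE8.diagonalSubgroup F) = (Fintype.card F - 1) ^ 8 := by
  have h := certE8.card_diagonal (F := F) (matOf _ snfUE8) (matOf _ snfUiE8) (matOf _ snfVE8)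
    (matOf _ snfViE8) (fun i => [1, 1, 1, 1, 1, 1, 1, 1].getD i.1 0)
    (by decide +kernel) (by decide +kernel) (by decide +kernel)
  rw [show ∏ i : Fin tabE8.l, Nat.gcd (Fintype.card F - 1) ([1, 1, 1, 1, 1, 1, 1, 1].getD i.1 0) = 1 by
    show ∏ i : Fin 8, Nat.gcd (Fintype.card F - 1) ([1, 1, 1, 1, 1, 1, 1, 1].getD i.1 0) = _
    simp [Fin.prod_univ_succ, Nat.gcd_comm (Fintype.card F - 1)]] at h
  simpa [show tabE8.l = 8 from rfl] using h

lemma gpolyE8 (x : ℤ) :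
    (x - 1) ^ 8 * (levelsE8.map fun v => v.gpoly x).prod = (x ^ 2 - 1) * (x ^ 8 - 1) * (x ^ 12 - 1) * (x ^ 14 - 1) * (x ^ 18 - 1) * (x ^ 20 - 1) * (x ^ 24 - 1) * (x ^ 30 - 1) := by
  simp only [levelsE8, levelE8_1, levelE8_2, levelE8_3, levelE8_4, levelE8_5, levelE8_6, levelE8_7, levelE8_8,
    Level.gpoly, List.map_cons, List.map_nil, List.prod_cons, List.prod_nil, List.sum_cons,
    List.sum_nil]
  push_cast
  ring

theorem card_groupE8 :
    Nat.card (chevE8.group F) = Fintype.card F ^ 120 * ((Fintype.card F ^ 2 - 1) * (Fintype.card F ^ 8 - 1) * (Fintype.card F ^ 12 - 1) * (Fintype.card F ^ 14 - 1) * (Fintype.card F ^ 18 - 1) * (Fintype.card F ^ 20 - 1) * (Fintype.card F ^ 24 - 1) * (Fintype.card F ^ 30 - 1)) := by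
  have hq : 1 ≤ Fintype.card F := Fintype.card_pos
  have hp : ∀ e, 1 ≤ Fintype.card F ^ e := fun e => Nat.one_le_pow _ _ hq
  rw [certE8.card_group chkLevelsE8, show tabE8.half = 120 from rfl]
  have hd := card_diagonalE8 (F := F)
  have key : (Fintype.card F - 1) ^ 8 * (levelsE8.map fun v => v.gpoly (Fintype.card F)).prod =
      (Fintype.card F ^ 2 - 1) * (Fintype.card F ^ 8 - 1) * (Fintype.card F ^ 12 - 1) * (Fintype.card F ^ 14 - 1) * (Fintype.card F ^ 18 - 1) * (Fintype.card F ^ 20 - 1) * (Fintype.card F ^ 24 - 1) * (Fintype.card F ^ 30 - 1) := by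
    apply Nat.cast_injective (R := ℤ)
    push_cast [Nat.cast_sub hq, Nat.cast_sub (hp _), List.map_map, Function.comp_def]
    rw [show (fun v : Level => ((v.gpoly (Fintype.card F) : ℕ) : ℤ)) =
      fun v => v.gpoly (Fintype.card F : ℤ) from funext fun v => Level.cast_gpoly v _]
    exact gpolyE8 _
  linear_combination (Fintype.card F ^ 120 *
      (levelsE8.map fun v => v.gpoly (Fintype.card F)).prod) * hd + Fintype.card F ^ 120 * key

end CfsgLib.Chev
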