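import Cfsg.Agent.Lib.Chev.Root

/-!
The commutator formula.
-/

set_option autoImplicit false

namespace CfsgLib.Chev

open Cfsg.Lie Matrix

namespace Tab

variable (T : Tab)

lemma decode_length_le (B : ℕ) (h : B >>> 28 = 0) : (decode 3 B).length ≤ 2 := by
  simp only [decode]
  split_ifs with h1 h2 h3
  · simp
  · simp
  · simp
  · exfalso; apply h3
    rw [← Nat.shiftRight_add]; exact h

lemma mem_commTerms {r s : ℕ} {q : ℕ × ℤ × ℕ × ℕ} (hq : q ∈ T.commTerms r s) :
    T.chainRoot r s 1 = some q.1 ∨ T.chainRoot r s 2 = some q.1 ∨ T.chainRoot s r 2 = some q.1 ∨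
      T.chainRoot r s 3 = some q.1 ∨ T.chainRoot s r 3 = some q.1 ∨
      (∃ k, T.chainRoot r s 3 = some k ∧ T.chainRoot k s 1 = some q.1) ∨
      ∃ k, T.chainRoot s r 3 = some k ∧ T.chainRoot k r 1 = some q.1 := by
  simp only [commTerms, List.mem_filterMap, List.mem_cons, List.not_mem_nil, or_false] at hq
  obtain ⟨c, hc, he⟩ := hq
  rw [Option.map_eq_some_iff] at he
  obtain ⟨k, hk, rfl⟩ := he
  rcases hc with rfl | rfl | rfl | rfl | rfl | rfl | rfl
  · exact Or.inl hk
  · exact Or.inr (Or.inl hk)
  · exact Or.inr (Or.inr (Or.inl hk))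
  · exact Or.inr (Or.inr (Or.inr (Or.inl hk)))
  · exact Or.inr (Or.inr (Or.inr (Or.inr (Or.inl hk))))
  · exact Or.inr (Or.inr (Or.inr (Or.inr (Or.inr (Or.inl (Option.bind_eq_some_iff.1 hk))))))
  · exact Or.inr (Or.inr (Or.inr (Or.inr (Or.inr (Or.inr (Option.bind_eq_some_iff.1 hk))))))

end Tab

namespace Cert

variable {D : ChevalleyDatum} {T : Tab} {C : Tab.Cover} (h : Cert D T C)
include h

omit h in
lemma chainRoot_mem {r s i k : ℕ} (e : T.chainRoot r s i = some k) :
    ∃ m, (k, m) ∈ T.entry r s := by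
  simp only [Tab.chainRoot, Option.map_eq_some_iff] at e
  obtain ⟨a, ha, rfl⟩ := e
  exact ⟨a.2, List.mem_of_getElem? ha⟩

lemma chainRoot_lt {r s i k : ℕ} (hr : r < T.n) (hs : s < T.n) (e : T.chainRoot r s i = some k) :
    k < T.n := by
  obtain ⟨m, hm⟩ := chainRoot_mem e
  exact ((h.chain_spec hr hs (List.ne_nil_of_mem hm)).2.2.2 _ hm).1

lemma commTerms_eq {r s : ℕ} (hr : r < T.n) (hs : s < T.n) :
    D.commTerms r s = T.commTerms r s := by
  have e1 : ((D.chainRoot r s 3).bind fun k => D.chainRoot k s 1) =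
      (T.chainRoot r s 3).bind fun k => T.chainRoot k s 1 := by
    rw [h.chainRoot_eq hr hs]
    cases e : T.chainRoot r s 3 with
    | none => rfl
    | some k => exact h.chainRoot_eq (h.chainRoot_lt hr hs e) hs 1
  have e2 : ((D.chainRoot s r 3).bind fun k => D.chainRoot k r 1) =
      (T.chainRoot s r 3).bind fun k => T.chainRoot k r 1 := by
    rw [h.chainRoot_eq hs hr]
    cases e : T.chainRoot s r 3 with
    | none => rfl
    | some k => exact h.chainRoot_eq (h.chainRoot_lt hs hr e) hr 1
  have e3 : ((D.chainRoot r s 1).map fun k => D.chainM k r 2 / 3) =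
      (T.chainRoot r s 1).map fun k => T.chainM k r 2 / 3 := by
    rw [h.chainRoot_eq hr hs]
    cases e : T.chainRoot r s 1 with
    | none => rfl
    | some k => exact congrArg (fun z => some (z / 3)) (h.chainM_eq (h.chainRoot_lt hr hs e) hr 2)
  have e4 : ((D.chainRoot r s 1).map fun k => -2 * D.chainM k s 2 / 3) =
      (T.chainRoot r s 1).map fun k => -2 * T.chainM k s 2 / 3 := by
    rw [h.chainRoot_eq hr hs]
    cases e : T.chainRoot r s 1 with
    | none => rfl
    | some k =>
      exact congrArg (fun z => some (-2 * z / 3)) (h.chainM_eq (h.chainRoot_lt hr hs e) hs 2)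
  simp only [ChevalleyDatum.commTerms, Tab.commTerms, e1, e2, e3, e4]
  simp only [h.chainRoot_eq hr hs, h.chainRoot_eq hs hr, h.chainM_eq hr hs, h.chainM_eq hs hr]

lemma commTerms_lt {r s : ℕ} (hr : r < T.n) (hs : s < T.n) {q : ℕ × ℤ × ℕ × ℕ}
    (hq : q ∈ T.commTerms r s) : q.1 < T.n := by
  rcases T.mem_commTerms hq with e | e | e | e | e | ⟨k, e, e'⟩ | ⟨k, e, e'⟩
  · exact h.chainRoot_lt hr hs e
  · exact h.chainRoot_lt hr hs e
  · exact h.chainRoot_lt hs hr e
  · exact h.chainRoot_lt hr hs e
  · exact h.chainRoot_lt hs hr e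
  · exact h.chainRoot_lt (h.chainRoot_lt hr hs e) hs e'
  · exact h.chainRoot_lt (h.chainRoot_lt hs hr e) hr e'

lemma edge_spec {i r : ℕ} (hi : i < T.l) (hr : r < T.n) (he : T.chkEdge i r = true) {s : ℕ}
    (hs : s < T.n) :
    T.commTerms (T.refl i r) (T.refl i s) = (T.commTerms r s).map fun q =>
      (T.refl i q.1, q.2.1 * T.eta i q.1 * T.eta i r ^ q.2.2.1 * T.eta i s ^ q.2.2.2,
        q.2.2.1, q.2.2.2) := by
  have h1 := allBelow_eq_true he s hs
  rw [force_eq] at h1
  cases eb : Nat.beq (Tab.blk (T.row r) s) 0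
  · rw [eb, cond_false] at h1
    cases e2 : Nat.beq (Nat.shiftRight (Tab.blk (T.row r) s) 28) 0
    · rw [e2, cond_false] at h1; exact of_decide_eq_true h1
    rw [e2, cond_true] at h1
    cases e3 : Nat.beq (Nat.shiftRight (Tab.blk (T.row s) r) 28) 0
    · rw [e3, cond_false] at h1; exact of_decide_eq_true h1
    have l1 : (T.entry r s).length ≤ 2 := by
      rw [Tab.entry, ← Tab.blk_eq]; exact Tab.decode_length_le _ (Nat.eq_of_beq_eq_true e2)
    have l2 : (T.entry s r).length ≤ 2 := by
      rw [Tab.entry, ← Tab.blk_eq]; exact Tab.decode_length_le _ (Nat.eq_of_beq_eq_true e3)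
    simp only [Tab.commTerms, Tab.chainRoot, Tab.chainM, h.conj_entry hi hr hs,
      h.conj_entry hi hs hr]
    generalize T.entry r s = E at l1
    generalize T.entry s r = E' at l2
    rcases E with _ | ⟨a, _ | ⟨b, _ | ⟨c, L⟩⟩⟩ <;>
      rcases E' with _ | ⟨a', _ | ⟨b', _ | ⟨c', L'⟩⟩⟩ <;>
      first
        | (simp at l1; done)
        | (simp at l2; done)
        | (simp [List.zipIdx_cons, pow_two]; try ring_nf; try tauto)
  · have hr1 : T.entry r s = [] := (T.entry_nil_iff r s).2 (Nat.eq_of_beq_eq_true eb)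
    have hr2 : T.entry s r = [] := by
      by_contra hne
      exact (h.chain_spec hs hr hne).2.2.1 hr1
    simp [Tab.commTerms, Tab.chainRoot, h.conj_entry hi hr hs, h.conj_entry hi hs hr, hr1, hr2]

variable {F : Type*} [Field F]

omit h in
/-- The commutator formula at one pair. -/
def CommRel (D : ChevalleyDatum) (T : Tab) (F : Type*) [Field F] (r s : ℕ) : Prop :=
  ∀ t u : F, D.x F s u * D.x F r t = D.x F r t * D.x F s u *
    D.wordMat F ((T.commTerms r s).map fun c => (c.1, (c.2.1 : F) * (-t) ^ c.2.2.1 * u ^ c.2.2.2))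

lemma nMat_mul_wordMat {i : ℕ} (hi : i < T.l) (w : List (ℕ × F)) (hw : ∀ g ∈ w, g.1 < T.n) :
    D.nMat F (D.simple i) 1 * D.wordMat F w =
      D.wordMat F (w.map fun g => (T.refl i g.1, (T.eta i g.1 : F) * g.2)) *
        D.nMat F (D.simple i) 1 := by
  induction w with
  | nil => simp [ChevalleyDatum.wordMat]
  | cons g w ih =>
    have e : ∀ (g : ℕ × F) v, D.wordMat F (g :: v) = D.x F g.1 g.2 * D.wordMat F v :=
      fun g v => by simp [ChevalleyDatum.wordMat]
    rw [List.map_cons, e, e, ← Matrix.mul_assoc, h.nMat_mul_x hi (hw g List.mem_cons_self),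
      Matrix.mul_assoc, ih fun a ha => hw a (List.mem_cons_of_mem _ ha), Matrix.mul_assoc]

lemma commRel_refl {i r s : ℕ} (hi : i < T.l) (hr : r < T.n) (hs : s < T.n)
    (he : T.chkEdge i r = true) (hc : CommRel D T F r s) :
    CommRel D T F (T.refl i r) (T.refl i s) := by
  intro t u
  refine h.nMat_cancel hi ?_
  have key := congrArg (D.nMat F (D.simple i) 1 * ·)
    (hc ((T.eta i r : F) * t) ((T.eta i s : F) * u))
  have hu : ∀ {a : ℕ}, (T.eta i a : F) * (T.eta i a : F) = 1 := fun {a} => by
    exact_mod_cast congrArg (Int.cast : ℤ → F) (T.eta_sq i a)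
  have e1 : ∀ {a : ℕ}, a < T.n → ∀ (z : F) (Y : Matrix D.Idx D.Idx F),
      D.nMat F (D.simple i) 1 * (D.x F a ((T.eta i a : F) * z) * Y) =
      D.x F (T.refl i a) z * (D.nMat F (D.simple i) 1 * Y) := by
    intro a ha z Y
    rw [← Matrix.mul_assoc, h.nMat_mul_x hi ha, ← mul_assoc ((T.eta i a : F)), hu, one_mul,
      Matrix.mul_assoc]
  rw [Matrix.mul_assoc (D.x F r _), e1 hs, e1 hr, h.nMat_mul_x hi hr,
    ← mul_assoc ((T.eta i r : F)) ((T.eta i r : F)), hu, one_mul] at key
  rw [e1 hs, h.nMat_mul_wordMat hi _ (fun g hg => ?_)] at key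
  · rw [Matrix.mul_assoc, key, h.edge_spec hi hr he hs, List.map_map, List.map_map]
    simp only [Matrix.mul_assoc]
    congr 4
    refine List.map_congr_left fun q _ => ?_
    simp only [Function.comp_apply, Prod.mk.injEq, true_and]
    push_cast
    rw [neg_mul_eq_mul_neg, mul_pow, mul_pow]
    ring
  · obtain ⟨q, hq, rfl⟩ := List.mem_map.1 hg
    exact h.commTerms_lt hr hs hq

/-- The commutator formula, in the packed tables. -/
theorem commRel {r s : ℕ} (hr : r < T.n) (hs : s < T.n) (hne : s ≠ r) (hneg : s ≠ T.neg r) :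
    CommRel D T F r s := by
  have h0 := h.coverOk
  simp only [Tab.chkCover, Bool.and_eq_true, List.all_eq_true] at h0
  obtain ⟨-, hbase, htree, hfix⟩ := h0
  refine h.base_induction
    (P := fun r => ∀ s < T.n, s ≠ r → s ≠ T.neg r → CommRel D T F r s)
    (fun b hb => ?_) (fun i hi r hr hmem ih s hs hne hneg => ?_) hr s hs hne hneg
  · intro s hs hne hneg
    obtain ⟨hblt, -, horb, hreps⟩ := hbase b hb
    simp only [decide_eq_true_eq] at hblt
    simp only [Tab.chkOrbit] at horb
    split at horb
    · cases horb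
    next seen hseen =>
      rw [List.all_eq_true] at horb
      have hs' := horb s (List.mem_range.2 hs)
      simp only [Bool.or_eq_true, decide_eq_true_eq] at hs'
      rcases hs' with (e | e) | hbit
      · exact absurd e hne
      · exact absurd e hneg
      refine covers_spec (P := fun s => s < T.n → s ≠ b.1 → s ≠ T.neg b.1 → CommRel D T F b.1 s)
        _ _ hseen (fun a ha hlt _ _ => ?_) (fun e he hst ih ha1 ha2 ha3 => ?_) s hbit hs hne hneg
      · rw [testBit_bitsOf] at ha
        have hc := hreps a ha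
        simp only [Tab.chkComm, List.all_eq_true, List.mem_range] at hc
        intro t u
        have key := wordMat_eq_of_same (F := F) h.agrees false _ _ hc.2 t u (by simp)
        simp only [wordAt, List.map_cons, List.map_nil, Int.cast_one, one_mul, pow_zero, pow_one,
          mul_one, List.map_map] at key
        simp only [ChevalleyDatum.wordMat, List.map_cons, List.map_nil, List.prod_cons,
          List.prod_nil, Matrix.mul_one, List.map_map] at key
        rw [key, ← Matrix.mul_assoc]
        unfold ChevalleyDatum.wordMat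
        rw [List.map_map]
        congr 2
        refine List.map_congr_left fun q _ => ?_
        simp only [Function.comp_apply]
        congr 1
        push_cast
        rw [neg_pow t]
        ring
      · simp only [decide_eq_true_eq] at hst
        obtain ⟨hi, hx, hax, hbb⟩ := hst
        have hedge : T.chkEdge e.2.1 b.1 = true := by
          have h2 := allBelow_eq_true (hfix b hb) e.2.1 hi
          rwa [T.reflF_eq, hbb, show Nat.beq b.1 b.1 = true from Nat.beq_refl _, cond_true] at h2
        have := h.commRel_refl hi hblt hx hedge (ih hx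
          (fun e' => ha2 (by rw [← hax, e', hbb]))
          (fun e' => ha3 (by rw [← hax, e', (h.refl_spec hi hblt).2.2.1, hbb])))
        rwa [hbb, hax] at this
  · obtain ⟨e, he, he'⟩ := List.mem_map.1 hmem
    simp only [Prod.mk.injEq] at he'
    have hedge := htree e he
    rw [he'.1, he'.2] at hedge
    have := h.commRel_refl hi hr (h.refl_lt hi hs) hedge (ih _ (h.refl_lt hi hs)
      (fun e' => hne (by rw [← h.refl_refl hi hs, e']))
      (fun e' => hneg (by rw [← h.refl_refl hi hs, e', (h.refl_spec hi hr).2.2.1])))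
    rwa [h.refl_refl hi hs] at this

/-- The commutator formula. -/
theorem comm_formula {r s : ℕ} (hr : r < T.n) (hs : s < T.n) (hne : s ≠ r) (hneg : s ≠ T.neg r)
    (t u : F) :
    D.x F s u * D.x F r t = D.x F r t * D.x F s u * D.wordMat F (D.commWord F r s t u) := by
  rw [ChevalleyDatum.commWord, h.commTerms_eq hr hs]
  exact h.commRel hr hs hne hneg t u

end Cert

end CfsgLib.Chev
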