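import Cfsg.Agent.Lib.Chev.Tri
import Cfsg.Agent.Lib.Chev.Comm

/-!
The unipotent subgroups: normal form, uniqueness, `B = U H`.
-/

set_option autoImplicit false

namespace CfsgLib.Chev

open Cfsg.Lie Matrix

/-- A subgroup whose elements conjugate a generating set into its closure normalises the closure. -/
lemma le_normalizer_closure {G : Type*} [Group G] {H : Subgroup G} {S : Set G}
    (hc : ∀ g ∈ H, ∀ s ∈ S, g * s * g⁻¹ ∈ Subgroup.closure S) :
    H ≤ Subgroup.normalizer (Subgroup.closure S : Set G) := by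
  have key : ∀ g ∈ H, ∀ a ∈ Subgroup.closure S, g * a * g⁻¹ ∈ Subgroup.closure S := by
    intro g hg a ha
    induction ha using Subgroup.closure_induction with
    | mem s hs => exact hc g hg s hs
    | one => simp
    | mul a b _ _ ha hb =>
      rw [show g * (a * b) * g⁻¹ = (g * a * g⁻¹) * (g * b * g⁻¹) by group]
      exact mul_mem ha hb
    | inv a _ ha =>
      rw [show g * a⁻¹ * g⁻¹ = (g * a * g⁻¹)⁻¹ by group]
      exact inv_mem ha
  intro g hg
  rw [Subgroup.mem_normalizer_iff]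
  intro a
  refine ⟨key g hg a, fun ha => ?_⟩
  have := key g⁻¹ (inv_mem hg) _ ha
  rwa [show g⁻¹ * (g * a * g⁻¹) * g⁻¹⁻¹ = a by group] at this

/-- The subgroup generated by the root elements of the roots in `S`. -/
def gen (D : ChevalleyDatum) (F : Type*) [Field F] (S : Set ℕ) : Subgroup (GL D.Idx F) :=
  Subgroup.closure {g | ∃ r ∈ S, ∃ t : F, g = X D r t}

lemma X_mem_gen (D : ChevalleyDatum) {F : Type*} [Field F] {S : Set ℕ} {r : ℕ} (hr : r ∈ S)
    (t : F) : X D r t ∈ gen D F S :=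
  Subgroup.subset_closure ⟨r, hr, t, rfl⟩

lemma gen_mono (D : ChevalleyDatum) {F : Type*} [Field F] {S S' : Set ℕ} (hS : S ⊆ S') :
    gen D F S ≤ gen D F S' :=
  Subgroup.closure_mono fun _ ⟨r, hr, t, e⟩ => ⟨r, hS hr, t, e⟩

/-- An ordered product of root elements. -/
noncomputable def prodX (D : ChevalleyDatum) {F : Type*} [Field F] (L : List ℕ) (t : ℕ → F) :
    GL D.Idx F :=
  (L.map fun r => X D r (t r)).prod

/-- The positive roots as a set of indices. -/
def posSet (T : Tab) : Set ℕ := {r | T.half ≤ r ∧ r < T.n}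

/-- Closure of a set of roots under the roots of the commutator formula. -/
def CommClosed (T : Tab) (S : Set ℕ) : Prop :=
  ∀ r ∈ S, ∀ s ∈ S, s ≠ r → ∀ q ∈ T.commTerms r s, q.1 ∈ S

/-- The positive roots in increasing order. -/
def posList (T : Tab) : List ℕ := (List.range T.n).filter fun r => decide (T.half ≤ r)

namespace Cert

variable {D : ChevalleyDatum} {T : Tab} {C : Tab.Cover} (h : Cert D T C) {F : Type*} [Field F]
include h

lemma wordMat_eq_prod (w : List (ℕ × F)) :
    D.wordMat F w = ((w.map fun g => X D g.1 g.2).prod : GL D.Idx F) := by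
  induction w with
  | nil => simp [ChevalleyDatum.wordMat]
  | cons g w ih =>
    rw [show D.wordMat F (g :: w) = D.x F g.1 g.2 * D.wordMat F w by
      simp [ChevalleyDatum.wordMat], ih, List.map_cons, List.prod_cons, Units.val_mul, h.coe_X]

lemma coe_prodX (L : List ℕ) (t : ℕ → F) :
    (prodX D L t : Matrix D.Idx D.Idx F) = D.wordMat F (L.map fun r => (r, t r)) := by
  rw [h.wordMat_eq_prod, List.map_map]; rfl

lemma coe_eq_iff {g : GL D.Idx F} {r : ℕ} {t : F} :
    (g : Matrix D.Idx D.Idx F) = D.x F r t ↔ g = X D r t := by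
  rw [← h.coe_X r t, Units.val_inj]

lemma posUnipotent_eq : D.posUnipotent F = gen D F (posSet T) := by
  unfold ChevalleyDatum.posUnipotent gen
  congr 1
  ext g
  simp only [Set.mem_ofPred_eq, posSet, h.isPosRoot_iff, h.coe_eq_iff]
  tauto

lemma negUnipotent_eq : D.negUnipotent F = gen D F {r | r < T.half} := by
  unfold ChevalleyDatum.negUnipotent gen
  congr 1
  ext g
  simp only [Set.mem_ofPred_eq, h.isNegRoot_iff, h.coe_eq_iff]
  tauto

lemma rootSubgroup_eq {r : ℕ} : D.rootSubgroup F r = gen D F {r} := by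
  unfold ChevalleyDatum.rootSubgroup gen
  congr 1
  ext g
  simp [h.coe_eq_iff]

lemma posList_eq : D.posRoots = posList T := by
  unfold ChevalleyDatum.posRoots posList
  rw [h.nroots_eq]
  refine List.filter_congr fun r hr => ?_
  rw [decide_eq_decide, h.isPosRoot_iff]
  exact and_iff_left (List.mem_range.1 hr)

/-- Two root elements commute up to the roots of the formula. -/
lemma X_conj {r s : ℕ} (hr : r < T.n) (hs : s < T.n) (hne : s ≠ r) (hneg : s ≠ T.neg r) (t u : F) :
    X D r (-t) * X D s u * X D r t = X D s u *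
      ((T.commTerms r s).map fun c =>
        X D c.1 ((c.2.1 : F) * (-t) ^ c.2.2.1 * u ^ c.2.2.2)).prod := by
  rw [mul_assoc, show X D s u * X D r t = X D r t * X D s u * ((T.commTerms r s).map fun c =>
      X D c.1 ((c.2.1 : F) * (-t) ^ c.2.2.1 * u ^ c.2.2.2)).prod from ?_, ← mul_assoc, ← mul_assoc,
    h.X_add hr, neg_add_cancel, h.X_zero hr, one_mul]
  refine Units.ext ?_
  rw [Units.val_mul, Units.val_mul, Units.val_mul, h.coe_X, h.coe_X,
    h.commRel hr hs hne hneg t u, h.wordMat_eq_prod, List.map_map]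
  rfl

/-- Conjugation by one root element keeps a generated subgroup when the terms stay inside. -/
lemma X_conj_mem {r s : ℕ} (hr : r < T.n) (hs : s < T.n) (hne : s ≠ r) (hneg : s ≠ T.neg r)
    {S : Set ℕ} (hsS : s ∈ S) (hq : ∀ q ∈ T.commTerms r s, q.1 ∈ S) (t u : F) :
    X D r t * X D s u * (X D r t)⁻¹ ∈ gen D F S := by
  have := h.X_conj hr hs hne hneg (-t) u
  rw [_root_.neg_neg] at this
  rw [h.X_inv hr, this]
  refine mul_mem (X_mem_gen D hsS u) (list_prod_mem fun g hg => ?_)
  obtain ⟨c, hc, rfl⟩ := List.mem_map.1 hg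
  exact X_mem_gen D (hq c hc) _

lemma gen_singleton {r : ℕ} (hr : r < T.n) {g : GL D.Idx F} :
    g ∈ gen D F {r} ↔ ∃ t : F, g = X D r t := by
  refine ⟨fun hg => ?_, ?_⟩
  swap
  · rintro ⟨t, rfl⟩; exact X_mem_gen D (Set.mem_singleton r) t
  induction hg using Subgroup.closure_induction with
  | mem g hg => obtain ⟨s, rfl, t, e⟩ := hg; exact ⟨t, e⟩
  | one => exact ⟨0, (h.X_zero hr).symm⟩
  | mul a b _ _ ha hb =>
    obtain ⟨t, rfl⟩ := ha; obtain ⟨u, rfl⟩ := hb; exact ⟨t + u, h.X_add hr t u⟩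
  | inv a _ ha => obtain ⟨t, rfl⟩ := ha; exact ⟨-t, h.X_inv hr t⟩

/-- The roots of the commutator formula for two positive roots are positive and higher. -/
lemma commTerms_pos {r s : ℕ} (hr : T.half ≤ r) (hr' : r < T.n) (hs : T.half ≤ s) (hs' : s < T.n)
    {q : ℕ × ℤ × ℕ × ℕ} (hq : q ∈ T.commTerms r s) :
    min r s < q.1 ∧ T.half ≤ q.1 ∧ q.1 < T.n := by
  have key : ∀ {a b i k : ℕ}, T.half ≤ a → a < T.n → b < T.n → T.chainRoot a b i = some k →
      b < k ∧ k < T.n := by
    intro a b i k ha ha' hb e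
    obtain ⟨m, hm⟩ := chainRoot_mem (T := T) e
    obtain ⟨h1, h2, -⟩ := (h.chain_spec ha' hb (List.ne_nil_of_mem hm)).2.2.2 _ hm
    exact ⟨(h2 ha).1, h1⟩
  rcases T.mem_commTerms hq with e | e | e | e | e | ⟨k, e, e'⟩ | ⟨k, e, e'⟩
  · have := key hr hr' hs' e; omega
  · have := key hr hr' hs' e; omega
  · have := key hs hs' hr' e; omega
  · have := key hr hr' hs' e; omega
  · have := key hs hs' hr' e; omega
  · have h1 := key hr hr' hs' e
    have := key (show T.half ≤ k by omega) h1.2 hs' e'; omega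
  · have h1 := key hs hs' hr' e
    have := key (show T.half ≤ k by omega) h1.2 hr' e'; omega

lemma commClosed_posSet : CommClosed T (posSet T) :=
  fun _ hr _ hs _ _ hq => (h.commTerms_pos hr.1 hr.2 hs.1 hs.2 hq).2

omit h in
lemma posSet_neg_ne (h : Cert D T C) {r s : ℕ} (hr : r ∈ posSet T) (hs : s ∈ posSet T) :
    s ≠ T.neg r := by
  intro e
  have := (h.half_le_neg_iff hr.2).1 (e ▸ hs.1)
  have := hr.1
  omega

/-- Ordered products exhaust the subgroup of a closed set of positive roots. -/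
theorem exists_prodX : ∀ (L : List ℕ), L.SortedLT → (∀ r ∈ L, r ∈ posSet T) →
    CommClosed T {r | r ∈ L} → ∀ g ∈ gen D F {r | r ∈ L}, ∃ t : ℕ → F, g = prodX D L t := by
  intro L
  induction L with
  | nil =>
    intro _ _ _ g hg
    refine ⟨0, ?_⟩
    have : gen D F {r | r ∈ ([] : List ℕ)} = ⊥ := by
      simp [gen]
    rw [this, Subgroup.mem_bot] at hg
    simp [hg, prodX]
  | cons r L ih =>
    intro hsort hpos hcl
    have hrL : ∀ s ∈ L, r < s := (List.pairwise_cons.1 hsort.pairwise).1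
    have hsort' : L.SortedLT := (List.pairwise_cons.1 hsort.pairwise).2.sortedLT
    have hr := hpos r List.mem_cons_self
    have hcl' : CommClosed T {s | s ∈ L} := by
      intro a ha b hb hab q hq
      have h1 := hcl a (List.mem_cons_of_mem _ ha) b (List.mem_cons_of_mem _ hb) hab q hq
      rcases List.mem_cons.1 h1 with e | e
      · exfalso
        have hpa := hpos a (List.mem_cons_of_mem _ ha)
        have hpb := hpos b (List.mem_cons_of_mem _ hb)
        have := (h.commTerms_pos hpa.1 hpa.2 hpb.1 hpb.2 hq).1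
        have := hrL a ha
        have := hrL b hb
        omega
      · exact e
    have hnorm : ∀ t : F, X D r t ∈ Subgroup.normalizer (gen D F {s | s ∈ L} : Set (GL D.Idx F)) := by
      intro t
      refine (le_normalizer_closure (H := gen D F {r}) ?_) (X_mem_gen D (Set.mem_singleton r) t)
      intro g hg a ha
      obtain ⟨b, rfl⟩ := (h.gen_singleton hr.2).1 hg
      obtain ⟨s, hs, u, rfl⟩ := ha
      have hps := hpos s (List.mem_cons_of_mem _ hs)
      refine h.X_conj_mem hr.2 hps.2 (hrL s hs).ne' (posSet_neg_ne h hr hps) hs (fun q hq => ?_) b u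
      rcases List.mem_cons.1 (hcl r List.mem_cons_self s (List.mem_cons_of_mem _ hs)
        (hrL s hs).ne' q hq) with e | e
      · exfalso
        have := (h.commTerms_pos hr.1 hr.2 hps.1 hps.2 hq).1
        have := hrL s hs
        omega
      · exact e
    intro g hg
    have hle : gen D F {s | s ∈ r :: L} ≤ gen D F {r} ⊔ gen D F {s | s ∈ L} := by
      refine (Subgroup.closure_le _).2 ?_
      rintro _ ⟨s, hs, u, rfl⟩
      rcases List.mem_cons.1 hs with rfl | hs
      · exact Subgroup.mem_sup_left (X_mem_gen D (Set.mem_singleton _) u)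
      · exact Subgroup.mem_sup_right (X_mem_gen D hs u)
    have hg' := hle hg
    rw [← SetLike.mem_coe, Subgroup.coe_mul_of_left_le_normalizer_right] at hg'
    swap
    · intro x hx
      obtain ⟨t, rfl⟩ := (h.gen_singleton hr.2).1 hx
      exact hnorm t
    obtain ⟨a, ha, b, hb, rfl⟩ := hg'
    obtain ⟨c, rfl⟩ := (h.gen_singleton hr.2).1 ha
    obtain ⟨t, rfl⟩ := ih hsort' (fun s hs => hpos s (List.mem_cons_of_mem _ hs)) hcl' b hb
    refine ⟨Function.update t r c, ?_⟩
    simp only [prodX, List.map_cons, List.prod_cons, Function.update_self]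
    congr 2
    exact List.map_congr_left fun s hs => by rw [Function.update_of_ne (hrL s hs).ne']

omit h in
/-- The coroot rows vanish on the columns of the roots from `-r` upwards. -/
def ZeroFrom (D : ChevalleyDatum) (T : Tab) {F : Type*} [Field F] (r : ℕ) (g : GL D.Idx F) : Prop :=
  ∀ (i : Fin D.rank) (u : Fin D.nroots), T.neg r ≤ u.val →
    (g : Matrix D.Idx D.Idx F) (Sum.inl i) (Sum.inr u) = 0

lemma zeroFrom_gen {r : ℕ} {L : List ℕ} (hpos : ∀ s ∈ L, s ∈ posSet T) (hL : ∀ s ∈ L, r < s)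
    {g : GL D.Idx F} (hg : g ∈ gen D F {s | s ∈ L}) :
    ZeroFrom D T r g ∧ g ∈ lowGroup F (pos D T) 1 := by
  have hn := h.nroots_eq
  have base : ∀ s ∈ L, ∀ u : F, ZeroFrom D T r (X D s u) := by
    intro s hs u i v hv
    have := hL s hs
    have := (hpos s hs).2
    rw [h.coe_X, h.x_inl_inr this, if_neg]
    unfold Tab.neg at hv ⊢
    omega
  have mem : ∀ s ∈ L, ∀ u : F, X D s u ∈ lowGroup F (pos D T) 1 := fun s hs u =>
    h.X_mem_lowGroup_pos (hpos s hs).1 (hpos s hs).2 u
  suffices ∀ g ∈ gen D F {s | s ∈ L},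
      (ZeroFrom D T r g ∧ ZeroFrom D T r g⁻¹) ∧ g ∈ lowGroup F (pos D T) 1 from
    ⟨(this g hg).1.1, (this g hg).2⟩
  intro g hg
  have hmul : ∀ a b : GL D.Idx F, ZeroFrom D T r a → ZeroFrom D T r b →
      b ∈ lowGroup F (pos D T) 1 → ZeroFrom D T r (a * b) := by
    intro a b ha hb hbl i u hu
    rw [Units.val_mul, Matrix.mul_apply]
    refine Finset.sum_eq_zero fun m _ => ?_
    rcases m with k | v
    · rw [hb k u hu, mul_zero]
    · by_cases hv : T.neg r ≤ v.val
      · rw [ha i v hv, zero_mul]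
      · have := hbl.1.of_sub_one (Sum.inr v) (Sum.inr u)
          (by simp only [add_zero]; rw [← not_le, pos_inr_le]; omega)
        rw [this, mul_zero]
  induction hg using Subgroup.closure_induction with
  | mem g hg =>
    obtain ⟨s, hs, u, rfl⟩ := hg
    exact ⟨⟨base s hs u, by rw [h.X_inv (hpos s hs).2]; exact base s hs _⟩, mem s hs u⟩
  | one => exact ⟨⟨fun i u _ => by simp, fun i u _ => by simp⟩, one_mem _⟩
  | mul a b _ _ ha hb =>
    exact ⟨⟨hmul a b ha.1.1 hb.1.1 hb.2, by
      rw [_root_.mul_inv_rev]; exact hmul _ _ hb.1.2 ha.1.2 (inv_mem ha.2)⟩, mul_mem ha.2 hb.2⟩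
  | inv a _ ha => exact ⟨⟨ha.1.2, by rw [inv_inv]; exact ha.1.1⟩, inv_mem ha.2⟩

omit h in
lemma prodX_mem_gen (L : List ℕ) (t : ℕ → F) : prodX D L t ∈ gen D F {r | r ∈ L} := by
  refine list_prod_mem fun g hg => ?_
  obtain ⟨r, hr, rfl⟩ := List.mem_map.1 hg
  exact X_mem_gen D hr _

/-- The parameters of an ordered product are determined. -/
theorem prodX_inj : ∀ (L : List ℕ), L.SortedLT → (∀ r ∈ L, r ∈ posSet T) → ∀ t t' : ℕ → F,
    prodX D L t = prodX D L t' → ∀ r ∈ L, t r = t' r := by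
  intro L
  induction L with
  | nil => intro _ _ _ _ _ r hr; cases hr
  | cons r L ih =>
    intro hsort hpos t t' e
    have hrL : ∀ s ∈ L, r < s := (List.pairwise_cons.1 hsort.pairwise).1
    have hsort' : L.SortedLT := (List.pairwise_cons.1 hsort.pairwise).2.sortedLT
    have hr := hpos r List.mem_cons_self
    have hpos' : ∀ s ∈ L, s ∈ posSet T := fun s hs => hpos s (List.mem_cons_of_mem _ hs)
    have e' : X D r (t r - t' r) * prodX D L t = prodX D L t' := by
      simp only [prodX, List.map_cons, List.prod_cons] at e ⊢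
      rw [show t r - t' r = -(t' r) + t r by ring, ← h.X_add hr.2, mul_assoc, e, ← mul_assoc,
        h.X_add hr.2, neg_add_cancel, h.X_zero hr.2, one_mul]
    have ht : t r - t' r = 0 := by
      refine h.eq_zero_of_cor_mul hr.2 fun i hi => ?_
      have hn := h.nroots_eq
      have hlt := neg_lt (T := T) hr.2
      set i' : Fin D.rank := ⟨i, lt_of_lt_of_eq hi h.rank_eq.symm⟩
      set u : Fin D.nroots := ⟨T.neg r, lt_of_lt_of_eq hlt hn.symm⟩
      obtain ⟨hz, hl⟩ := h.zeroFrom_gen hpos' hrL (prodX_mem_gen L t)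
      obtain ⟨hz', -⟩ := h.zeroFrom_gen hpos' hrL (prodX_mem_gen L t')
      have h1 := congrArg (fun g : GL D.Idx F => (g : Matrix D.Idx D.Idx F) (Sum.inl i') (Sum.inr u)) e'
      simp only [Units.val_mul, Matrix.mul_apply, Fintype.sum_sum_type] at h1
      rw [hz' i' u le_rfl, Finset.sum_eq_zero fun k _ => by rw [hz k u le_rfl, mul_zero], zero_add,
        Finset.sum_eq_single u] at h1
      · rw [h.coe_X, h.x_inl_inr hr.2, if_pos rfl] at h1
        have hd : (prodX D L t : Matrix D.Idx D.Idx F) (Sum.inr u) (Sum.inr u) = 1 := by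
          have := hl.1 (Sum.inr u) (Sum.inr u) (Nat.lt_succ_self _)
          rwa [Matrix.sub_apply, Matrix.one_apply_eq, sub_eq_zero] at this
        rwa [hd, mul_one] at h1
      · intro v _ hv
        rw [h.coe_X, h.x_inl_inr hr.2, if_neg (fun e => hv (Fin.ext e)), zero_mul]
      · simp
    intro s hs
    rcases List.mem_cons.1 hs with rfl | hs
    · exact sub_eq_zero.1 ht
    · rw [ht, h.X_zero hr.2, one_mul] at e'
      exact ih hsort' hpos' t t' e' s hs

lemma posUnipotent_le_lowGroup : D.posUnipotent F ≤ lowGroup F (pos D T) 1 := by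
  rw [h.posUnipotent_eq]
  refine (Subgroup.closure_le _).2 ?_
  rintro _ ⟨r, hr, t, rfl⟩
  exact h.X_mem_lowGroup_pos hr.1 hr.2 t

lemma negUnipotent_le_lowGroup : D.negUnipotent F ≤ lowGroup F (posNeg D T) 1 := by
  rw [h.negUnipotent_eq]
  refine (Subgroup.closure_le _).2 ?_
  rintro _ ⟨r, hr, t, rfl⟩
  exact h.X_mem_lowGroup_neg hr t

omit h in
lemma mem_posList {r : ℕ} : r ∈ posList T ↔ r ∈ posSet T := by
  simp [posList, posSet, and_comm]

omit h in
lemma posList_set : {r | r ∈ posList T} = posSet T := Set.ext fun _ => mem_posList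

omit h in
lemma sortedLT_posList : (posList T).SortedLT :=
  ((List.sortedLT_range T.n).pairwise.filter _).sortedLT

lemma mem_posUnipotent_iff {g : GL D.Idx F} :
    g ∈ D.posUnipotent F ↔ ∃ t : ℕ → F, g = prodX D (posList T) t := by
  rw [h.posUnipotent_eq, ← posList_set]
  refine ⟨h.exists_prodX _ sortedLT_posList (fun r hr => mem_posList.1 hr) ?_ g, ?_⟩
  · rw [posList_set]; exact h.commClosed_posSet
  · rintro ⟨t, rfl⟩; exact prodX_mem_gen _ t

lemma conj_X_of_mem_diagonal {g : GL D.Idx F} (hg : g ∈ D.diagonalSubgroup F) {r : ℕ} (hr : r < T.n)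
    (t : F) : ∃ a : F, a ≠ 0 ∧ g * X D r t * g⁻¹ = X D r (a * t) := by
  obtain ⟨c, hc, e⟩ := h.mem_diagonalSubgroup_iff.1 hg
  refine ⟨charOf T c r, charOf_ne_zero hc r, ?_⟩
  rw [mul_inv_eq_iff_eq_mul]
  refine Units.ext ?_
  rw [Units.val_mul, Units.val_mul, h.coe_X, h.coe_X, e, h.torus_mul_x (h.isChar_charOf hc) hr]

lemma diagonal_le_normalizer_gen {S : Set ℕ} (hS : ∀ r ∈ S, r < T.n) :
    D.diagonalSubgroup F ≤ Subgroup.normalizer (gen D F S : Set (GL D.Idx F)) := by
  refine le_normalizer_closure fun g hg s hs => ?_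
  obtain ⟨r, hr, t, rfl⟩ := hs
  obtain ⟨a, -, e⟩ := h.conj_X_of_mem_diagonal hg (hS r hr) t
  rw [e]
  exact X_mem_gen D hr _

lemma diagonal_le_normalizer_posUnipotent :
    D.diagonalSubgroup F ≤ Subgroup.normalizer (D.posUnipotent F : Set (GL D.Idx F)) := by
  rw [h.posUnipotent_eq]; exact h.diagonal_le_normalizer_gen fun r hr => hr.2

lemma diagonal_le_normalizer_negUnipotent :
    D.diagonalSubgroup F ≤ Subgroup.normalizer (D.negUnipotent F : Set (GL D.Idx F)) := by
  rw [h.negUnipotent_eq]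
  refine h.diagonal_le_normalizer_gen fun r hr => ?_
  have := h.two_mul_half
  have : r < T.half := hr
  omega

lemma mem_borel_iff {g : GL D.Idx F} :
    g ∈ D.borelSubgroup F ↔
      ∃ u ∈ D.posUnipotent F, ∃ t ∈ D.diagonalSubgroup F, g = u * t := by
  constructor
  · intro hg
    rw [ChevalleyDatum.borelSubgroup, ← SetLike.mem_coe,
      Subgroup.coe_mul_of_right_le_normalizer_left _ _ h.diagonal_le_normalizer_posUnipotent] at hg
    obtain ⟨a, ha, b, hb, rfl⟩ := hg
    exact ⟨a, ha, b, hb, rfl⟩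
  · rintro ⟨u, hu, t, ht, rfl⟩
    exact mul_mem (Subgroup.mem_sup_left hu) (Subgroup.mem_sup_right ht)

lemma diagonal_low {g : GL D.Idx F} (hg : g ∈ D.diagonalSubgroup F) (p : D.Idx → ℕ) :
    Low p 0 (g : Matrix D.Idx D.Idx F) := by
  obtain ⟨c, -, e⟩ := h.mem_diagonalSubgroup_iff.1 hg
  rw [e]; exact Low.diagonal _

lemma borel_low {g : GL D.Idx F} (hg : g ∈ D.borelSubgroup F) :
    Low (pos D T) 0 (g : Matrix D.Idx D.Idx F) := by
  obtain ⟨u, hu, t, ht, rfl⟩ := h.mem_borel_iff.1 hg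
  rw [Units.val_mul]
  exact (h.posUnipotent_le_lowGroup hu).1.of_sub_one.mul (h.diagonal_low ht _)

theorem posUnipotent_inf_diagonal : D.posUnipotent F ⊓ D.diagonalSubgroup F = ⊥ := by
  rw [eq_bot_iff]
  intro g hg
  obtain ⟨hu, hd⟩ := Subgroup.mem_inf.1 hg
  rw [Subgroup.mem_bot, ← Units.val_eq_one, ← sub_eq_zero]
  obtain ⟨c, -, e⟩ := h.mem_diagonalSubgroup_iff.1 hd
  have h1 := (h.posUnipotent_le_lowGroup hu).1
  ext a b
  by_cases hab : a = b
  · subst hab; exact h1 a a (Nat.lt_succ_self _)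
  · rw [Matrix.sub_apply, e, torus, Matrix.diagonal_apply_ne _ hab, Matrix.one_apply_ne hab,
      sub_zero]
    rfl

theorem borel_inf_negUnipotent : D.borelSubgroup F ⊓ D.negUnipotent F = ⊥ := by
  rw [eq_bot_iff]
  intro g hg
  obtain ⟨hb, hv⟩ := Subgroup.mem_inf.1 hg
  rw [Subgroup.mem_bot, ← Units.val_eq_one, ← sub_eq_zero]
  exact eq_zero_of_low_of_low (q := posNeg D T) posNeg_anti ((h.borel_low hb).sub Low.one_mat)
    (h.negUnipotent_le_lowGroup hv).1

theorem borel_inf_negUnipotent_sup :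
    D.borelSubgroup F ⊓ (D.negUnipotent F ⊔ D.diagonalSubgroup F) = D.diagonalSubgroup F := by
  refine le_antisymm (fun g hg => ?_) (le_inf le_sup_right le_sup_right)
  obtain ⟨hb, hv⟩ := Subgroup.mem_inf.1 hg
  rw [← SetLike.mem_coe,
    Subgroup.coe_mul_of_right_le_normalizer_left _ _ h.diagonal_le_normalizer_negUnipotent] at hv
  obtain ⟨v, hv, t, ht, rfl⟩ := hv
  have hvb : v ∈ D.borelSubgroup F := by
    have := mul_mem hb (inv_mem (Subgroup.mem_sup_right ht : t ∈ D.borelSubgroup F))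
    rwa [mul_inv_cancel_right] at this
  have : v = 1 := by
    have h1 := Subgroup.mem_inf.2 ⟨hvb, hv⟩
    rwa [h.borel_inf_negUnipotent, Subgroup.mem_bot] at h1
  simp only [this, one_mul]; exact ht

end Cert

end CfsgLib.Chev
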