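import Cfsg.Agent.Lib.Chev.TwistEndo
import Cfsg.Agent.Lib.Chev.Unipotent

/-!
Wrapping up the twisted groups: generation, perfection helpers, simplicity.
-/

set_option autoImplicit false

namespace CfsgLib.Chev

open Cfsg.Lie Matrix
open Cert (torusHom)
open scoped commutatorElement

variable {D : ChevalleyDatum} {T : Tab} {C : Tab.Cover}

theorem Cert.isSolvable_borel (h : Cert D T C) (F : Type*) [Field F] :
    Group.IsSolvable ↥(D.borelSubgroup F) := by
  haveI : Group.IsNilpotent ↥(D.posUnipotent F) :=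
    isNilpotent_of_le_lowGroup (fun a => h.pos_lt a) h.posUnipotent_le_lowGroup
  have hle : D.posUnipotent F ≤ D.borelSubgroup F := le_sup_left
  let U' := (D.posUnipotent F).subgroupOf (D.borelSubgroup F)
  have hn : U'.Normal := Subgroup.normal_subgroupOf_iff_le_normalizer hle |>.2
    (sup_le Subgroup.le_normalizer h.diagonal_le_normalizer_posUnipotent)
  haveI : U'.Normal := hn
  have hU : Group.IsSolvable ↥U' :=
    Group.isSolvable_of_isSolvable_injective
      (f := (Subgroup.subgroupOfEquivOfLe hle).toMonoidHom) (Subgroup.subgroupOfEquivOfLe hle).injective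
  have hQ : Group.IsSolvable (↥(D.borelSubgroup F) ⧸ U') := by
    refine Group.isSolvable_of_comm ?_
    intro a b
    induction a using QuotientGroup.induction_on with | H a => ?_
    induction b using QuotientGroup.induction_on with | H b => ?_
    obtain ⟨u, hu, t, ht, ea⟩ := h.mem_borel_iff.1 a.2
    obtain ⟨u', hu', t', ht', eb⟩ := h.mem_borel_iff.1 b.2
    have htm : t ∈ D.borelSubgroup F := Subgroup.mem_sup_right ht
    have htm' : t' ∈ D.borelSubgroup F := Subgroup.mem_sup_right ht'
    have qa : (a : ↥(D.borelSubgroup F) ⧸ U') = ((⟨t, htm⟩ : ↥(D.borelSubgroup F)) : _ ⧸ U') := by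
      rw [show a = ⟨u, hle hu⟩ * ⟨t, htm⟩ from Subtype.ext ea, QuotientGroup.mk_mul,
        (QuotientGroup.eq_one_iff _).2 (show (⟨u, hle hu⟩ : ↥(D.borelSubgroup F)) ∈ U' from hu),
        one_mul]
    have qb : (b : ↥(D.borelSubgroup F) ⧸ U') = ((⟨t', htm'⟩ : ↥(D.borelSubgroup F)) : _ ⧸ U') := by
      rw [show b = ⟨u', hle hu'⟩ * ⟨t', htm'⟩ from Subtype.ext eb, QuotientGroup.mk_mul,
        (QuotientGroup.eq_one_iff _).2 (show (⟨u', hle hu'⟩ : ↥(D.borelSubgroup F)) ∈ U' from hu'),
        one_mul]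
    rw [qa, qb, ← QuotientGroup.mk_mul, ← QuotientGroup.mk_mul]
    congr 1
    refine Subtype.ext (Units.ext ?_)
    obtain ⟨c, -, ec⟩ := h.mem_diagonalSubgroup_iff.1 ht
    obtain ⟨c', -, ec'⟩ := h.mem_diagonalSubgroup_iff.1 ht'
    show ((t * t' : GL D.Idx F) : Matrix D.Idx D.Idx F) = ((t' * t : GL D.Idx F) : Matrix D.Idx D.Idx F)
    rw [Units.val_mul, Units.val_mul, ec, ec', torus_mul, torus_mul]
    exact torus_congr D fun s _ => mul_comm _ _
  exact Group.isSolvable_of_ker_le_range U'.subtype (QuotientGroup.mk' U') (by simp)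

/-- A power map of parameters concentrated at one index. -/
lemma matHom_mulSingle {G : Type*} [CommGroup G] {l : ℕ} (M : Matrix (Fin l) (Fin l) ℤ)
    (i : Fin l) (x : G) (j : Fin l) : matHom M (Pi.mulSingle i x) j = x ^ M j i := by
  rw [matHom_apply, Finset.prod_eq_single i]
  · simp
  · intro k _ hk; simp [hk]
  · simp

/-- A sum of powers read by the numbers of the exponents. -/
lemma sum_pow_count (Q n : ℕ) : ∀ M : List ℕ, (∀ a ∈ M, a < n) →
    (M.map fun a => Q ^ a).sum = ((List.range n).map fun v => M.count v * Q ^ v).sum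
  | [], _ => by
    simp only [List.map_nil, List.sum_nil, List.count_nil, zero_mul]
    exact (List.sum_eq_zero fun x hx => by
      obtain ⟨v, -, rfl⟩ := List.mem_map.1 hx; rfl).symm
  | a :: M, hM => by
    have ha := hM a List.mem_cons_self
    rw [List.map_cons, List.sum_cons, sum_pow_count Q n M fun b hb => hM b (List.mem_cons_of_mem _ hb)]
    simp only [List.count_cons]
    have e : ∀ L : List ℕ, (L.map fun v => (M.count v + if a == v then 1 else 0) * Q ^ v).sum =
        (L.map fun v => M.count v * Q ^ v).sum + L.count a * Q ^ a := by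
      intro L
      induction L with
      | nil => simp
      | cons v L ih =>
        rw [List.map_cons, List.sum_cons, ih, List.map_cons, List.sum_cons]
        simp only [List.count_cons, beq_iff_eq]
        rcases eq_or_ne a v with rfl | hne
        · simp; ring
        · simp [hne, Ne.symm hne]; ring
    rw [e, List.count_eq_one_of_mem List.nodup_range (List.mem_range.2 ha)]
    ring

/-- The weighted sum of a table of cells. -/
lemma sum_elems {Es : List Elem} {e Q n : ℕ} {cs : List ℕ}
    (hlt : (Es.all fun x => decide (x.negc / e < n)) = true)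
    (hcnt : (List.range n).map (fun v => (Es.map fun x => x.negc / e).count v) = cs) :
    (Es.map fun x => Q ^ (x.negc / e)).sum =
      ((List.range n).map fun v => cs.getD v 0 * Q ^ v).sum := by
  simp only [List.all_eq_true, decide_eq_true_eq] at hlt
  have h1 := sum_pow_count Q n (Es.map fun x => x.negc / e) (by
    intro a ha; obtain ⟨x, hx, rfl⟩ := List.mem_map.1 ha; exact hlt x hx)
  rw [List.map_map] at h1
  refine (show _ = _ from h1).trans (congrArg List.sum (List.map_congr_left fun v hv => ?_))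
  rw [List.mem_range] at hv
  rw [← hcnt, List.getD_eq_getElem _ _ (by simpa using hv)]
  simp

namespace Cert

variable (h : Cert D T C) {F : Type*} [Field F]
include h

/-- Kernel elements are powers of one coordinate. -/
lemma ker_eq_pow {R : Matrix (Fin T.l) (Fin T.l) ℤ} {v : Fin T.l → ℕ} {i₀ : Fin T.l}
    (hR : R * cartanT T = fun i j =>
      (if i = j then 1 else 0) - (if j = i₀ then (v i : ℤ) else 0))
    {z : Fin T.l → Fˣ} (hz : z ∈ (torusHom (D := D) (T := T) (F := F)).ker) (i : Fin T.l) :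
    z i = z i₀ ^ v i := by
  rw [h.ker_torusHom, MonoidHom.mem_ker] at hz
  have h1 : matHom (R * cartanT T) z i = 1 := by rw [matHom_mul, hz, map_one]; rfl
  rw [hR] at h1
  change ∏ j, z j ^ ((if i = j then (1 : ℤ) else 0) - if j = i₀ then (v i : ℤ) else 0) = 1 at h1
  simp only [_root_.zpow_sub, Finset.prod_mul_distrib, Finset.prod_inv_distrib] at h1
  rw [Finset.prod_eq_single i (fun j _ hj => by simp [Ne.symm hj]) (by simp),
    Finset.prod_eq_single i₀ (fun j _ hj => by simp [hj]) (by simp)] at h1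
  simpa [mul_inv_eq_one] using h1

/-- Powers of a root of unity in the kernel. -/
lemma pow_mem_ker {N : ℕ} {v : Fin T.l → ℕ} (hv : ∀ j, (N : ℤ) ∣ ∑ i, cartanT T j i * v i)
    {ζ : Fˣ} (hζ : ζ ^ N = 1) :
    (fun i => ζ ^ v i) ∈ (torusHom (D := D) (T := T) (F := F)).ker := by
  rw [h.ker_torusHom, MonoidHom.mem_ker]
  funext j
  rw [matHom_apply]
  obtain ⟨k, hk⟩ := hv j
  have : ∀ s : Finset (Fin T.l),
      ∏ i ∈ s, (ζ ^ v i) ^ cartanT T j i = ζ ^ ∑ i ∈ s, cartanT T j i * v i := by
    intro s
    induction s using Finset.cons_induction with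
    | empty => simp
    | cons a s ha ih =>
      rw [Finset.prod_cons, Finset.sum_cons, ih, _root_.zpow_add, ← zpow_natCast, ← _root_.zpow_mul,
        mul_comm (v a : ℤ)]
  rw [this, hk, _root_.zpow_mul, zpow_natCast, hζ, _root_.one_zpow]
  rfl

end Cert

namespace Endo

open Cert (torusHom extC coe_matHom_cartanT extC_ne_zero)

variable {h : Cert D T C} {F : Type*} [Field F] (E : Endo h F)

lemma card_adm_one {o : Orb} (ho : o.size = 1) {P : F → Prop}
    (hP : ∀ t, E.τ o.root t = t ↔ P t) : Nat.card (E.Adm o) = Nat.card {t // P t} := by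
  refine Nat.card_congr (Equiv.subtypeEquivRight fun t => ?_)
  show E.τn o.size o.root t = t ↔ _
  rw [ho]; exact hP t

lemma card_adm_univ {o : Orb} (hP : ∀ t, E.τn o.size o.root t = t) :
    Nat.card (E.Adm o) = Nat.card F :=
  (Nat.card_congr (Equiv.subtypeEquivRight fun t => iff_of_true (hP t) trivial)).trans
    (Nat.card_congr (Equiv.Set.univ F))

/-- Generation of the fixed points by the fixed unipotent elements. -/
theorem fix_le_pos_neg {S : Set (List (ℕ × F))} (h1 : E.fix ≤ D.genSubgroup F S)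
    (h2 : D.genSubgroup F S ≤ E.fix) (hlt : ∀ w ∈ S, ∀ p ∈ w, p.1 < T.n)
    (hS : ∀ w ∈ S, (∀ p ∈ w, T.half ≤ p.1) ∨ ∀ p ∈ w, p.1 < T.half) :
    E.fix ≤ (E.fix ⊓ D.posUnipotent F) ⊔ (E.fix ⊓ D.negUnipotent F) := by
  refine h1.trans (h.genSubgroup_le fun w hw => ?_)
  have hf := h2 (h.prod_mem_genSubgroup hw)
  rcases hS w hw with hp | hp
  · refine Subgroup.mem_sup_left ⟨hf, list_prod_mem fun g hg => ?_⟩
    obtain ⟨p, hp', rfl⟩ := List.mem_map.1 hg
    rw [h.posUnipotent_eq]
    exact X_mem_gen D (show p.1 ∈ posSet T from ⟨hp p hp', hlt w hw p hp'⟩) _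
  · refine Subgroup.mem_sup_right ⟨hf, list_prod_mem fun g hg => ?_⟩
    obtain ⟨p, hp', rfl⟩ := List.mem_map.1 hg
    rw [h.negUnipotent_eq]
    exact X_mem_gen D (show p.1 ∈ {r : ℕ | r < T.half} from hp p hp') _

/-- A root element that is a commutator of two fixed root elements. -/
theorem lift_of_comm_roots {a b : ℕ} {o : Orb} {k : ℤ} (ho : o.size = 1)
    (hc : (decide (a < T.n) && (decide (b < T.n) && (decide (b ≠ a) && (decide (b ≠ T.neg a) &&
      (decide (T.commTerms a b = [(o.root, k, 1, 1)]) && (decide (k * k = 1) &&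
      chkCommute T o.root b)))))) = true)
    (hP : ∀ t ∈ E.Adm o, X D a 1 ∈ E.fix ∧ X D b (-(k : F) * t) ∈ E.fix) :
    E.Lift ⁅E.fix, E.fix⁆ o := by
  simp only [Bool.and_eq_true, decide_eq_true_eq] at hc
  obtain ⟨ha, hb, hne, hneg, hterm, hk, hcomm⟩ := hc
  intro t ht
  obtain ⟨hA, hB⟩ := hP t ht
  have hr : o.root ∈ o.cls E.ρ := Or.inl (List.mem_map.2 ⟨0, List.mem_range.2 (by omega), rfl⟩)
  have hmem : X D o.root t ∈ ⁅E.fix, E.fix⁆ := by
    have e := h.X_conj ha hb hne hneg 1 (-(k : F) * t)
    rw [hterm, List.map_singleton, List.prod_singleton, pow_one, pow_one] at e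
    have hkF : (k : F) * (k : F) = 1 := by rw [← Int.cast_mul, hk, Int.cast_one]
    rw [show (k : F) * -1 * (-(k : F) * t) = t by linear_combination t * hkF] at e
    have e2 : ⁅X D a (-1 : F), X D b (-(k : F) * t)⁆ = X D o.root t := by
      rw [commutatorElement_def, ← h.X_inv ha, inv_inv]
      rw [← h.X_inv ha] at e
      dsimp only at e
      rw [e, mul_assoc, (h.commute_X hcomm t (-(k : F) * t)).inv_right.eq, ← mul_assoc,
        mul_inv_cancel, one_mul]
    rw [← e2]
    exact Subgroup.commutator_mem_commutator (by rw [← h.X_inv ha]; exact inv_mem hA) hB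
  refine ⟨_, hmem, Subgroup.commutator_le_self _ hmem, X_mem_gen D hr t, ?_⟩
  rw [InC, inv_mul_cancel]
  exact one_mem _

/-- A fixed torus element moving the leading root supplies lifts among the commutators. -/
theorem lift_comm_of_param [Finite F] {base : List Orb} (hb : chkBase T E.ρ base = true) {b : Orb}
    (hbm : b ∈ base) (hcyc : E.ρ^[b.size] b.root = b.root) {c : Fin T.l → Fˣ}
    (hc : E.tor c = c) (j : Fin T.l) (hj : T.simple j = b.root)
    (hne : matHom (cartanT T) c j ≠ 1) (hl : E.Lift E.fix b) : E.Lift ⁅E.fix, E.fix⁆ b := by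
  refine Lift.comm E hb hbm hcyc (E.torusHom_mem_fix hc) (fun i _ => extC_ne_zero c i) rfl ?_ hl
  rw [← hj, ← coe_matHom_cartanT]
  simpa using hne

/-- Simplicity of a twisted group. -/
theorem simple_of_eq [Finite F] {G : Subgroup (GL D.Idx F)} (hG : E.fix = G) {d : Data T}
    {e Q : ℕ} (hs : E.Std d E.fix) (hQ : 2 ≤ Q)
    (hcard : ∀ o ∈ d.L, Nat.card (E.Adm o) ^ e = Q ^ o.size) (hlink : chkLink T d.CL = true)
    (hperf : commutator ↥E.fix = ⊤) (hpos : 0 < d.CL.length) :
    IsSimpleGroup ↥G ∧ ¬ IsMulCommutative ↥G := by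
  subst hG
  exact E.simple_fix hs.ok hs.reps (fun o ho => (hs.lifts E o ho).1) hQ hcard hlink
    (h.isSolvable_borel F) hperf hpos

end Endo

end CfsgLib.Chev
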