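import Cfsg.Agent.Lib.Chev.TwistDataD4
import Cfsg.Agent.Lib.Chev.TwistFinal
import Cfsg.Agent.Lib.Chev.OrderData
import Cfsg.Prelude.Def_LieTwisted

/-!
The group `³D₄(q)` as the fixed points of a twist.
-/

set_option autoImplicit false
set_option maxRecDepth 100000
set_option linter.unusedSectionVars false

namespace CfsgLib.Chev

open Cfsg.Lie Matrix
open Cert (torusHom)

theorem signTwD4 : ((List.range tabD4.n).all fun r =>
    decide (twistD4a.dg r = 1 ∧ twistD4a.ep (tabD4.neg r) = twistD4a.ep r)) = true := by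
  decide +kernel

theorem simpleTwD4 :
    ((List.range tabD4.l).all fun i => decide (twistD4a.ep (tabD4.simple i) = 1)) = true := by
  decide +kernel

/-- The inverse of the Cartan matrix of type D4, times two. -/
noncomputable def invCartanD4 : Matrix (Fin tabD4.l) (Fin tabD4.l) ℤ :=
  matOf tabD4.l [[2, 2, 1, 1], [2, 4, 2, 2], [1, 2, 2, 1], [1, 2, 1, 2]]

theorem invCartanD4_mul_smul : invCartanD4 * cartanT tabD4 = ((2 : ℕ) : ℤ) • 1 := by
  decide +kernel

variable {K : Type*} [Field K] [Fintype K] {q : ℕ}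

/-- The twist of `D₄(K)` with the field map `f`. -/
noncomputable def endoD4 (f : K →+* K) : Endo certD4 K :=
  Endo.ofTwist certD4 chkTwistD4a chkFaithImgD4a chkFaithSrcD4a f (RootSym.of_chk chkSymTwD4)
    (fun r hr => by
      have h1 := signTwD4
      simp only [List.all_eq_true, List.mem_range, decide_eq_true_eq] at h1
      obtain ⟨h2, h3⟩ := h1 r hr
      refine ⟨?_, by rw [h3, h2]; ring⟩
      rw [h2, (h1 _ (Cert.neg_lt hr)).1])
    simpleTwD4

section

variable (f : K →+* K) (hf : ∀ t, f t = t ^ q)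
include hf

lemma τD4_eq {r : ℕ} (hr : twistD4a.ep r = 1 ∧ twistD4a.dg r = 1) (t : K) :
    (endoD4 f).τ r t = t ^ q := by
  show (twistD4a.ep r : K) * f t ^ twistD4a.dg r = _
  rw [hr.1, hr.2, hf]; simp

lemma negD4_pow {t : K} : (-t⁻¹) ^ q = -(t ^ q)⁻¹ := by
  rw [← hf, ← hf, map_neg, map_inv₀]

omit hf in
lemma pow_cubeD4 (hK : Fintype.card K = q ^ 3) (t : K) : ((t ^ q) ^ q) ^ q = t := by
  rw [← pow_mul, ← pow_mul, show q * (q * q) = Fintype.card K by rw [hK]; ring,
    FiniteField.pow_card]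

omit hf in
lemma chevD4_prod_triple {a b c : ℕ} (t u v : K) :
    (([(a, t), (b, u), (c, v)] : List (ℕ × K)).map fun p => X chevD4 p.1 p.2).prod =
      X chevD4 a t * X chevD4 b u * X chevD4 c v := by simp [mul_assoc]

lemma single_mem_fixD4 {r : ℕ} (hr : r < tabD4.n ∧ twistD4a.rt r = r ∧ twistD4a.ep r = 1 ∧
    twistD4a.dg r = 1) {t : K} (ht : t ^ q = t) : X chevD4 r t ∈ (endoD4 f).fix := by
  refine (endoD4 f).mem_fix.2 ⟨certD4.X_mem_group hr.1 t, ?_⟩
  rw [(endoD4 f).act_X hr.1, τD4_eq f hf hr.2.2, ht]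
  exact congrArg (fun x => X chevD4 x t) hr.2.1

lemma triple_mem_fixD4 (hK : ∀ t : K, ((t ^ q) ^ q) ^ q = t) {r s u : ℕ}
    (hr : r < tabD4.n ∧ twistD4a.rt r = s ∧ twistD4a.ep r = 1 ∧ twistD4a.dg r = 1)
    (hs : s < tabD4.n ∧ twistD4a.rt s = u ∧ twistD4a.ep s = 1 ∧ twistD4a.dg s = 1)
    (hu : u < tabD4.n ∧ twistD4a.rt u = r ∧ twistD4a.ep u = 1 ∧ twistD4a.dg u = 1)
    (hc : chkCommute tabD4 r s = true ∧ chkCommute tabD4 r u = true) (t : K) :
    X chevD4 r t * X chevD4 s (t ^ q) * X chevD4 u ((t ^ q) ^ q) ∈ (endoD4 f).fix := by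
  have mr := certD4.X_mem_group hr.1 t
  have ms := certD4.X_mem_group hs.1 (t ^ q)
  have mu := certD4.X_mem_group hu.1 ((t ^ q) ^ q)
  refine (endoD4 f).mem_fix.2 ⟨mul_mem (mul_mem mr ms) mu, ?_⟩
  rw [(endoD4 f).act_mul (mul_mem mr ms) mu, (endoD4 f).act_mul mr ms, (endoD4 f).act_X hr.1,
    (endoD4 f).act_X hs.1, (endoD4 f).act_X hu.1, τD4_eq f hf hr.2.2, τD4_eq f hf hs.2.2,
    τD4_eq f hf hu.2.2, hK]
  show X chevD4 (twistD4a.rt r) _ * X chevD4 (twistD4a.rt s) _ * X chevD4 (twistD4a.rt u) _ = _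
  rw [hr.2.1, hs.2.1, hu.2.1]
  exact ((certD4.commute_X hc.1 t _).mul_right (certD4.commute_X hc.2 t _)).eq.symm.trans
    (mul_assoc _ _ _).symm

theorem twistedD4_le_fix (hK : ∀ t : K, ((t ^ q) ^ q) ^ q = t) :
    twistedD4 K q ≤ (endoD4 f).fix := by
  refine certD4.genSubgroup_le ?_
  rintro w (⟨t, ht, r, hr, rfl⟩ | ⟨t, rs, hrs, rfl⟩)
  · simp only [List.map_cons, List.map_nil, List.prod_cons, List.prod_nil, mul_one]
    simp only [List.mem_cons, List.not_mem_nil, or_false] at hr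
    rcases hr with rfl | rfl <;> exact single_mem_fixD4 f hf (by decide +kernel) ht
  · rw [chevD4_prod_triple, show t ^ q ^ 2 = (t ^ q) ^ q by rw [← pow_mul, sq]]
    simp only [List.mem_cons, List.not_mem_nil, or_false] at hrs
    rcases hrs with rfl | rfl <;>
      exact triple_mem_fixD4 f hf hK (by decide +kernel) (by decide +kernel) (by decide +kernel)
        (by decide +kernel) t

lemma wordD4_mem {a b c : ℕ} (h1 : (a, b, c) ∈ [(d4p1, d4p3, d4p4), (d4m1, d4m3, d4m4)]) (t : K) :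
    X chevD4 a t * X chevD4 b (t ^ q) * X chevD4 c ((t ^ q) ^ q) ∈ twistedD4 K q := by
  rw [show (t ^ q) ^ q = t ^ q ^ 2 by rw [← pow_mul, sq], ← chevD4_prod_triple]
  exact certD4.prod_mem_genSubgroup (Or.inr ⟨t, (a, b, c), h1, rfl⟩)

lemma nU_triple_memD4 (t : K) :
    nU chevD4 d4p1 t * nU chevD4 d4p3 (t ^ q) * nU chevD4 d4p4 ((t ^ q) ^ q) ∈ twistedD4 K q := by
  have hL : chkPairwise tabD4 [d4p1, d4p3, d4p4] = true := by decide +kernel
  have hlt : d4p1 < tabD4.n ∧ d4p3 < tabD4.n ∧ d4p4 < tabD4.n := by decide +kernel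
  have e := certD4.prod_nU [(d4p1, t), (d4p3, t ^ q), (d4p4, (t ^ q) ^ q)] (by
    intro p hp
    simp only [List.mem_cons, List.not_mem_nil, or_false] at hp
    rcases hp with rfl | rfl | rfl
    exacts [hlt.1, hlt.2.1, hlt.2.2]) hL
  simp only [List.map_cons, List.map_nil, List.prod_cons, List.prod_nil, mul_one, ← mul_assoc] at e
  rw [e]
  obtain ⟨n1, n3, n4⟩ : tabD4.neg d4p1 = d4m1 ∧ tabD4.neg d4p3 = d4m3 ∧ tabD4.neg d4p4 = d4m4 := by
    decide +kernel
  have m1 := wordD4_mem f hf (a := d4p1) (b := d4p3) (c := d4p4) (by simp) t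
  have m2 := wordD4_mem f hf (a := d4m1) (b := d4m3) (c := d4m4) (by simp) (-t⁻¹)
  rw [negD4_pow f hf, negD4_pow f hf, ← n1, ← n3, ← n4] at m2
  simpa only [mul_assoc] using mul_mem (mul_mem m1 m2) m1

lemma nU_single_memD4 {t : K} (ht : t ^ q = t) : nU chevD4 d4p2 t ∈ twistedD4 K q := by
  have hw : ∀ a ∈ [d4p2, d4m2], ∀ u : K, u ^ q = u → X chevD4 a u ∈ twistedD4 K q :=
    fun a ha u hu => by
    have := certD4.prod_mem_genSubgroup (F := K) (S := d4Words K q) (w := [(a, u)])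
      (Or.inl ⟨u, hu, a, ha, rfl⟩)
    simp only [List.map_cons, List.map_nil, List.prod_cons, List.prod_nil, mul_one] at this
    exact this
  rw [nU, certD4.neg_eq (by decide +kernel), show tabD4.neg d4p2 = d4m2 by decide +kernel]
  exact mul_mem (mul_mem (hw _ (by simp) t ht)
    (hw _ (by simp) _ (by rw [negD4_pow f hf, ht]))) (hw _ (by simp) t ht)

lemma hU_triple_memD4 (t : K) :
    hU chevD4 d4p1 t * hU chevD4 d4p3 (t ^ q) * hU chevD4 d4p4 ((t ^ q) ^ q) ∈
      twistedD4 K q := by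
  have m1 := nU_triple_memD4 f hf t
  have m2 := nU_triple_memD4 f hf (-1 : K)
  have hq1 : (-1 : K) ^ q = -1 := by rw [← hf, map_neg, map_one]
  rw [hq1, hq1] at m2
  rw [show hU chevD4 d4p1 t * hU chevD4 d4p3 (t ^ q) * hU chevD4 d4p4 ((t ^ q) ^ q) =
    nU chevD4 d4p1 t * nU chevD4 d4p3 (t ^ q) * nU chevD4 d4p4 ((t ^ q) ^ q) *
      (nU chevD4 d4p1 (-1) * nU chevD4 d4p3 (-1) * nU chevD4 d4p4 (-1)) from ?_]
  · exact mul_mem m1 m2
  · have c3 := (certD4.commute_nU (F := K) (a := d4p3) (b := d4p1) (by decide +kernel)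
      (by decide +kernel) (by decide +kernel) (t ^ q) (-1)).eq
    have c41 := (certD4.commute_nU (F := K) (a := d4p4) (b := d4p1) (by decide +kernel)
      (by decide +kernel) (by decide +kernel) ((t ^ q) ^ q) (-1)).eq
    have c43 := (certD4.commute_nU (F := K) (a := d4p4) (b := d4p3) (by decide +kernel)
      (by decide +kernel) (by decide +kernel) ((t ^ q) ^ q) (-1)).eq
    simp only [hU]
    generalize nU chevD4 d4p1 t = a1, nU chevD4 d4p3 (t ^ q) = a3,
      nU chevD4 d4p4 ((t ^ q) ^ q) = a4, nU chevD4 d4p1 (-1 : K) = b1,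
      nU chevD4 d4p3 (-1 : K) = b3, nU chevD4 d4p4 (-1 : K) = b4 at c3 c41 c43 ⊢
    calc a1 * b1 * (a3 * b3) * (a4 * b4) = a1 * (b1 * a3) * (b3 * a4) * b4 := by group
      _ = a1 * (a3 * b1) * (a4 * b3) * b4 := by rw [c3, c43]
      _ = a1 * a3 * (b1 * a4) * (b3 * b4) := by group
      _ = a1 * a3 * (a4 * b1) * (b3 * b4) := by rw [c41]
      _ = _ := by group

lemma nS_simpleD4 {i : ℕ} (hi : i < tabD4.l) : nS chevD4 K i = nU chevD4 (tabD4.simple i) 1 := by
  rw [nS, certD4.simple_eq hi]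

theorem repsD4 (hK : ∀ t : K, ((t ^ q) ^ q) ^ q = t) :
    (endoD4 f).Reps (twistedD4 K q) dataTwD4.CL := by
  have hle := twistedD4_le_fix f hf hK
  have hword : ∀ w, WordOK tabD4 w → nW chevD4 K w ∈ twistedD4 K q →
      ∃ m ∈ twistedD4 K q, m ∈ (endoD4 f).fix ∧ m ∈ chevD4.monomialSubgroup K ∧
        ∀ r < tabD4.n, Maps chevD4 m r (rword tabD4 w r) := fun w hw hm =>
    ⟨_, hm, hle hm, certD4.nW_mem_monomial hw, fun r hr => certD4.Maps_nW hw hr⟩
  intro c hc
  simp only [dataTwD4, List.mem_cons, List.not_mem_nil, or_false] at hc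
  rcases hc with rfl | rfl
  · refine hword [0, 2, 3] (wordOK_of_all (by decide +kernel)) ?_
    have := nU_triple_memD4 f hf (1 : K)
    rw [one_pow, one_pow] at this
    simpa [nW, mul_assoc, nS_simpleD4 f hf (show 0 < tabD4.l by decide),
      nS_simpleD4 f hf (show 2 < tabD4.l by decide), nS_simpleD4 f hf (show 3 < tabD4.l by decide),
      show tabD4.simple 0 = d4p1 by decide +kernel, show tabD4.simple 2 = d4p3 by decide +kernel,
      show tabD4.simple 3 = d4p4 by decide +kernel] using this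
  · refine hword [1] (wordOK_of_all (by decide +kernel)) ?_
    have := nU_single_memD4 f hf (t := (1 : K)) (one_pow q)
    simpa [nW, nS_simpleD4 f hf (show 1 < tabD4.l by decide),
      show tabD4.simple 1 = d4p2 by decide +kernel] using this

lemma torD4_val {c : Fin tabD4.l → Kˣ} (i : Fin tabD4.l) :
    (endoD4 f).tor c ((endoD4 f).πf i) = c i ^ q := by
  refine Units.ext ?_
  have hs : ∀ j : Fin tabD4.l,
      twistD4a.ep (tabD4.simple j) = 1 ∧ twistD4a.dg (tabD4.simple j) = 1 := by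
    decide +kernel
  rw [(endoD4 f).tor_val, τD4_eq f hf (hs i), Units.val_pow_eq_pow_val]

lemma tor_fix_ofD4 {c : Fin tabD4.l → Kˣ}
    (hc : ∀ i, c ((endoD4 f).πf i) = c i ^ q) : (endoD4 f).tor c = c := by
  funext k
  obtain ⟨j, rfl⟩ := (Finite.injective_iff_surjective.1 (endoD4 f).πf_injective) k
  rw [torD4_val f hf, hc]

lemma torD4_cube (hK : ∀ t : K, ((t ^ q) ^ q) ^ q = t) (c : Fin tabD4.l → Kˣ) :
    (endoD4 f).tor ((endoD4 f).tor ((endoD4 f).tor c)) = c := by
  funext k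
  obtain ⟨j, rfl⟩ := (Finite.injective_iff_surjective.1 (endoD4 f).πf_injective) k
  have hjjj : ∀ j : Fin tabD4.l, piTwD4 (piTwD4 (piTwD4 j)) = j := by decide +kernel
  have hj : j = (endoD4 f).πf ((endoD4 f).πf ((endoD4 f).πf j)) := Fin.ext (hjjj j).symm
  rw [torD4_val f hf]
  conv_lhs => rw [hj, torD4_val f hf, torD4_val f hf]
  refine Units.ext ?_
  rw [Units.val_pow_eq_pow_val, Units.val_pow_eq_pow_val, Units.val_pow_eq_pow_val,
    hK]

theorem exists_fix_paramD4 (hK : ∀ t : K, ((t ^ q) ^ q) ^ q = t) {c : Fin tabD4.l → Kˣ}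
    (hz : c⁻¹ * (endoD4 f).tor c ∈ (torusHom (D := chevD4) (T := tabD4) (F := K)).ker) :
    ∃ c', (endoD4 f).tor c' = c' ∧
      torusHom (D := chevD4) (T := tabD4) c' = torusHom (D := chevD4) (T := tabD4) c := by
  obtain ⟨z, hzdef⟩ : ∃ z, z = c⁻¹ * (endoD4 f).tor c := ⟨_, rfl⟩
  rw [← hzdef] at hz
  have h2 : z ^ 2 = 1 := funext fun i => certD4.ker_pow invCartanD4_mul_smul hz i
  have hz1 : torusHom (D := chevD4) (T := tabD4) z = 1 := MonoidHom.mem_ker.1 hz
  have hσz : torusHom (D := chevD4) (T := tabD4) ((endoD4 f).tor z) = 1 := by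
    rw [← (endoD4 f).act_torusHom, hz1, (endoD4 f).act_one]
  have hc : (endoD4 f).tor c = c * z := by rw [hzdef, mul_inv_cancel_left]
  have hnorm : z * (endoD4 f).tor z * (endoD4 f).tor ((endoD4 f).tor z) = 1 := by
    have h := torD4_cube f hf hK c
    rw [hc, map_mul, map_mul, hc, map_mul, hc] at h
    calc z * (endoD4 f).tor z * (endoD4 f).tor ((endoD4 f).tor z)
        = c⁻¹ * (c * z * (endoD4 f).tor z * (endoD4 f).tor ((endoD4 f).tor z)) := by
          group
      _ = 1 := by rw [h, inv_mul_cancel]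
  refine ⟨c * (endoD4 f).tor z, ?_, by rw [map_mul, hσz, mul_one]⟩
  rw [map_mul, hc]
  have hσ2 : (endoD4 f).tor z * (endoD4 f).tor z = 1 := by
    rw [← map_mul, ← pow_two, h2, map_one]
  calc c * z * (endoD4 f).tor ((endoD4 f).tor z)
      = c * (z * (endoD4 f).tor z * (endoD4 f).tor ((endoD4 f).tor z)) *
          ((endoD4 f).tor z)⁻¹ := by
        rw [mul_comm z ((endoD4 f).tor z), ← mul_assoc, ← mul_assoc]
        simp [mul_comm, mul_assoc, mul_left_comm]
    _ = c * (endoD4 f).tor z := by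
        rw [hnorm, mul_one, inv_eq_of_mul_eq_one_right hσ2]

lemma fix_paramD4_eq {c : Fin tabD4.l → Kˣ} (hc : (endoD4 f).tor c = c) :
    c ⟨1, by decide⟩ ^ q = c ⟨1, by decide⟩ ∧
      c ⟨2, by decide⟩ = c ⟨0, by decide⟩ ^ q ∧ c ⟨3, by decide⟩ = c ⟨2, by decide⟩ ^ q := by
  have h1 := fun i => (torD4_val f hf (c := c) i).symm.trans (congrFun hc _)
  exact ⟨h1 ⟨1, by decide⟩, (h1 ⟨0, by decide⟩).symm, (h1 ⟨2, by decide⟩).symm⟩

theorem torusD4 (hK : ∀ t : K, ((t ^ q) ^ q) ^ q = t) :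
    (endoD4 f).fix ⊓ chevD4.diagonalSubgroup K ≤ twistedD4 K q := by
  intro g hg
  obtain ⟨c, rfl, hz⟩ := (endoD4 f).exists_param hg
  obtain ⟨c', hc', e⟩ := exists_fix_paramD4 f hf hK hz
  rw [← e]
  obtain ⟨h1, h2, h3⟩ := fix_paramD4_eq f hf hc'
  rw [← Finset.univ_prod_mulSingle c']
  have key : ∀ i : Fin tabD4.l, torusHom (D := chevD4) (T := tabD4) (Pi.mulSingle i (c' i)) =
      hU chevD4 (tabD4.simple i) (c' i : K) := fun i =>
    Endo.torusHom_mulSingle (h := certD4) i _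
  rw [show (Finset.univ : Finset (Fin tabD4.l)) = {⟨0, by decide⟩, ⟨2, by decide⟩, ⟨3, by decide⟩,
    ⟨1, by decide⟩} from by decide +kernel]
  rw [Finset.prod_insert (by decide), Finset.prod_insert (by decide), Finset.prod_insert (by decide),
    Finset.prod_singleton]
  simp only [map_mul, key]
  rw [← mul_assoc, ← mul_assoc]
  refine mul_mem ?_ (?_ : _ ∈ twistedD4 K q)
  · rw [h3, h2, Units.val_pow_eq_pow_val, Units.val_pow_eq_pow_val,
      show tabD4.simple 0 = d4p1 by decide +kernel, show tabD4.simple 2 = d4p3 by decide +kernel,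
      show tabD4.simple 3 = d4p4 by decide +kernel]
    exact hU_triple_memD4 f hf _
  · rw [show tabD4.simple 1 = d4p2 by decide +kernel, hU]
    exact mul_mem (nU_single_memD4 f hf (by rw [← Units.val_pow_eq_pow_val, h1]))
      (nU_single_memD4 f hf (by rw [← hf, map_neg, map_one]))

omit hf in
lemma dataOK_D4 : (endoD4 f).DataOK dataTwD4 := Endo.DataOK.of_chk _ chkDataTwD4

omit hf in
lemma dvd_card_D4 (hK : Fintype.card K = q ^ 3) : q - 1 ∣ Fintype.card K - 1 := by
  rw [hK]; simpa using Nat.sub_dvd_pow_sub_pow q 1 3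

lemma base_cardD4 (hK : Fintype.card K = q ^ 3) (hq : IsPrimePow q) :
    ∀ b ∈ dataTwD4.base, Nat.card ((endoD4 f).Adm b) ^ 1 = q ^ b.size := by
  have h2 := hq.two_le
  intro b hb
  simp only [dataTwD4, List.mem_cons, List.not_mem_nil, or_false] at hb
  rw [pow_one]
  rcases hb with rfl | rfl
  · rw [Endo.card_adm_univ _ (fun t => ?_), Nat.card_eq_fintype_card, hK]
    show (endoD4 f).τ (twistD4a.rt (twistD4a.rt 18))
      ((endoD4 f).τ (twistD4a.rt 18) ((endoD4 f).τ 18 t)) = t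
    rw [τD4_eq f hf (by decide +kernel), τD4_eq f hf (by decide +kernel),
      τD4_eq f hf (by decide +kernel), pow_cubeD4 hK]
  · rw [Endo.card_adm_one _ rfl (fun t => by rw [τD4_eq f hf (by decide +kernel)]),
      card_pow_eq_self (by omega) (dvd_card_D4 hK), pow_one]

lemma lift_baseD4 (hK : ∀ t : K, ((t ^ q) ^ q) ^ q = t) :
    ∀ b ∈ dataTwD4.base, (endoD4 f).Lift (twistedD4 K q) b := by
  have hle := twistedD4_le_fix f hf hK
  intro b hb
  refine Endo.lift_of_word _ chkBaseTwD4 hb fun t ht => ?_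
  have key : ∀ w : List (ℕ × K), w ∈ d4Words K q →
      (w.map fun p => X chevD4 p.1 p.2).prod ∈ twistedD4 K q ∧
      (w.map fun p => X chevD4 p.1 p.2).prod ∈ (endoD4 f).fix := fun w hw =>
    ⟨certD4.prod_mem_genSubgroup hw, hle (certD4.prod_mem_genSubgroup hw)⟩
  simp only [dataTwD4, List.mem_cons, List.not_mem_nil, or_false] at hb
  rcases hb with rfl | rfl
  · obtain ⟨k1, k2⟩ := key [(d4p1, t), (d4p3, t ^ q), (d4p4, t ^ q ^ 2)]
      (Or.inr ⟨t, (d4p1, d4p3, d4p4), by simp, rfl⟩)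
    refine ⟨_, ?_, k1, k2, ?_⟩
    · simp [Orb.list, List.range_succ, show (endoD4 f).ρ 18 = d4p3 from
        (by decide +kernel : twistD4a.rt 18 = d4p3), show (endoD4 f).ρ d4p3 = d4p4 from
        (by decide +kernel : twistD4a.rt d4p3 = d4p4), d4p1]
    · simp [d4p1, d4p3, d4p4]
  · have ht' : t ^ q = t := (τD4_eq f hf (r := 14) (by decide +kernel) t).symm.trans ht
    obtain ⟨k1, k2⟩ := key [(d4p2, t)] (Or.inl ⟨t, ht', d4p2, by simp, rfl⟩)
    refine ⟨_, ?_, k1, k2, ?_⟩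
    · simp [Orb.list, List.range_succ, d4p2]
    · simp [d4p2]

theorem stdD4 (hK : ∀ t : K, ((t ^ q) ^ q) ^ q = t) : (endoD4 f).Std dataTwD4 (twistedD4 K q) :=
  ⟨dataOK_D4 f, repsD4 f hf hK, torusD4 f hf hK, lift_baseD4 f hf hK⟩

theorem hcardD4 (hK : Fintype.card K = q ^ 3) (hq : IsPrimePow q) :
    ∀ o ∈ dataTwD4.L, Nat.card ((endoD4 f).Adm o) ^ 1 = q ^ o.size := by
  intro o ho
  obtain ⟨-, b, hb, e1, e2⟩ := (stdD4 f hf (pow_cubeD4 hK)).lifts _ o ho
  rw [e1, e2]
  exact base_cardD4 f hf hK hq b hb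

theorem fix_eq_twistedD4 (hK : Fintype.card K = q ^ 3) (hq : IsPrimePow q) :
    (endoD4 f).fix = twistedD4 K q :=
  le_antisymm ((endoD4 f).fix_le (stdD4 f hf (pow_cubeD4 hK)) (hcardD4 f hf hK hq))
    (twistedD4_le_fix f hf (pow_cubeD4 hK))

theorem std_fixD4 (hK : Fintype.card K = q ^ 3) (hq : IsPrimePow q) :
    (endoD4 f).Std dataTwD4 (endoD4 f).fix := by
  rw [fix_eq_twistedD4 f hf hK hq]; exact stdD4 f hf (pow_cubeD4 hK)

theorem card_posD4 (hK : Fintype.card K = q ^ 3) (hq : IsPrimePow q) :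
    Nat.card ↥((endoD4 f).fix ⊓ chevD4.posUnipotent K) = q ^ 12 := by
  have := ((endoD4 f).fix_posUnipotent (dataOK_D4 f)
    (fun o ho => ((stdD4 f hf (pow_cubeD4 hK)).lifts _ o ho).1) (hcardD4 f hf hK hq)).2
  rwa [pow_one, show tabD4.half = 12 by decide +kernel] at this

theorem perfect_fixD4 (hK : Fintype.card K = q ^ 3) (hq : IsPrimePow q) :
    commutator ↥(endoD4 f).fix = ⊤ := by
  have h2 := hq.two_le
  have heq := fix_eq_twistedD4 f hf hK hq
  have hstd := std_fixD4 f hf hK hq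
  have h1q : (1 : K) ^ q = 1 := one_pow q
  obtain ⟨u, hu⟩ := exists_sq_ne_one (F := K) (by rw [hK]; nlinarith [Nat.pow_le_pow_left h2 3])
  refine (endoD4 f).perfect_fix (dataOK_D4 f) hstd.reps ?_ (hcardD4 f hf hK hq) ?_
  · intro b hb
    have hl : (endoD4 f).Lift (endoD4 f).fix b := hstd.lift b hb
    simp only [dataTwD4, List.mem_cons, List.not_mem_nil, or_false] at hb
    rcases hb with rfl | rfl
    · let c : Fin tabD4.l → Kˣ := fun i => ([u, 1, u ^ q, (u ^ q) ^ q] : List Kˣ).getD i 1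
      have hu3 : ((u ^ q) ^ q) ^ q = u := Units.ext (by
        rw [Units.val_pow_eq_pow_val, Units.val_pow_eq_pow_val, Units.val_pow_eq_pow_val,
          pow_cubeD4 hK])
      have hc : (endoD4 f).tor c = c := by
        refine tor_fix_ofD4 f hf fun i => ?_
        obtain ⟨i, hi⟩ := i
        have hi' : i < 4 := hi
        interval_cases i
        · rfl
        · exact (one_pow q).symm
        · rfl
        · exact hu3.symm
      refine Endo.lift_comm_of_param _ chkBaseTwD4 (by simp [dataTwD4])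
        (by decide +kernel : twistD4a.rt^[3] 18 = 18) hc ⟨0, by decide⟩ (by decide +kernel) ?_ hl
      have e : matHom (cartanT tabD4) c ⟨0, by decide⟩ = u ^ 2 := by
        have hrow : ∀ i : Fin tabD4.l, cartanT tabD4 ⟨0, by decide⟩ i =
            ([2, -1, 0, 0] : List ℤ).getD i 0 := by decide +kernel
        simp only [matHom_apply, hrow]
        show ∏ i : Fin 4, c i ^ ([2, -1, 0, 0] : List ℤ).getD i 0 = _
        rw [Fin.prod_univ_four]
        simp [c]
      rw [e]; exact hu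
    · refine Endo.lift_of_comm_roots _ (a := 1) (b := 23) (k := -1) rfl (by decide +kernel)
        fun t ht => ?_
      have ht' : t ^ q = t := (τD4_eq f hf (r := 14) (by decide +kernel) t).symm.trans ht
      exact ⟨single_mem_fixD4 f hf (by decide +kernel) h1q,
        single_mem_fixD4 f hf (by decide +kernel) (by simpa using ht')⟩
  · refine Endo.fix_le_pos_neg _ heq.le (twistedD4_le_fix f hf (pow_cubeD4 hK)) ?_ ?_
    · rintro w (⟨t, -, r, hr, rfl⟩ | ⟨t, rs, hrs, rfl⟩) p hp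
      · simp only [List.mem_cons, List.not_mem_nil, or_false] at hr hp
        rcases hr with rfl | rfl <;> subst hp <;> (dsimp only; decide +kernel)
      · simp only [List.mem_cons, List.not_mem_nil, or_false] at hrs hp
        rcases hrs with rfl | rfl <;> rcases hp with rfl | rfl | rfl <;>
          (dsimp only; decide +kernel)
    · rw [show tabD4.half = 12 by decide +kernel]
      rintro w (⟨t, -, r, hr, rfl⟩ | ⟨t, rs, hrs, rfl⟩) <;>
        simp only [List.mem_cons, List.not_mem_nil, or_false, forall_eq_or_imp, forall_eq]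
      · simp only [List.mem_cons, List.not_mem_nil, or_false] at hr
        rcases hr with rfl | rfl <;> decide
      · simp only [List.mem_cons, List.not_mem_nil, or_false] at hrs
        rcases hrs with rfl | rfl <;> decide

theorem card_ker_fixD4 :
    Nat.card ↥((torusHom (D := chevD4) (T := tabD4) (F := K)).ker ⊓ (endoD4 f).fixPar) = 1 := by
  rw [Subgroup.card_eq_one, eq_bot_iff]
  rintro z ⟨hz, hf'⟩
  rw [Subgroup.mem_bot]
  obtain ⟨-, h2, h3⟩ := fix_paramD4_eq f hf hf'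
  have hsq : ∀ i, z i ^ 2 = 1 := fun i => certD4.ker_pow invCartanD4_mul_smul hz i
  have hpm : ∀ i, z i ^ q = z i := fun i => by
    refine Units.ext ?_
    have h4 : (z i : K) ^ 2 = 1 := by rw [← Units.val_pow_eq_pow_val, hsq, Units.val_one]
    rw [Units.val_pow_eq_pow_val]
    rcases sq_eq_one_iff.1 h4 with e | e
    · rw [e, one_pow]
    · rw [e, ← hf, map_neg, map_one]
  have hk : ∀ j, matHom (cartanT tabD4) z j = 1 := fun j => by
    rw [certD4.ker_torusHom] at hz
    exact congrFun (MonoidHom.mem_ker.1 hz) j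
  have hrow : ∀ i : Fin tabD4.l,
      cartanT tabD4 ⟨0, by decide⟩ i = ([2, -1, 0, 0] : List ℤ).getD i 0 ∧
      cartanT tabD4 ⟨1, by decide⟩ i = ([-1, 2, -1, -1] : List ℤ).getD i 0 := by decide +kernel
  have k0 : z ⟨0, by decide⟩ ^ (2 : ℤ) * z ⟨1, by decide⟩ ^ (-1 : ℤ) *
      z ⟨2, by decide⟩ ^ (0 : ℤ) * z ⟨3, by decide⟩ ^ (0 : ℤ) = 1 := by
    rw [← hk ⟨0, by decide⟩]
    simp only [matHom_apply, (hrow _).1]
    exact (Fin.prod_univ_four fun i : Fin 4 =>
      z i ^ ([2, -1, 0, 0] : List ℤ).getD i 0).symm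
  have k1 : z ⟨0, by decide⟩ ^ (-1 : ℤ) * z ⟨1, by decide⟩ ^ (2 : ℤ) *
      z ⟨2, by decide⟩ ^ (-1 : ℤ) * z ⟨3, by decide⟩ ^ (-1 : ℤ) = 1 := by
    rw [← hk ⟨1, by decide⟩]
    simp only [matHom_apply, (hrow _).2]
    exact (Fin.prod_univ_four fun i : Fin 4 =>
      z i ^ ([-1, 2, -1, -1] : List ℤ).getD i 0).symm
  rw [zpow_ofNat, hsq, _root_.zpow_neg_one, _root_.zpow_zero, _root_.zpow_zero, one_mul, mul_one,
    mul_one, inv_eq_one] at k0
  rw [h3, h2, hpm, hpm, k0, _root_.one_zpow, mul_one, _root_.zpow_neg_one,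
    inv_eq_of_mul_eq_one_right ((pow_two _).symm.trans (hsq ⟨0, by decide⟩)), ← pow_two, hsq,
    one_mul] at k1
  funext i
  obtain ⟨i, hi⟩ := i
  have hi' : i < 4 := hi
  interval_cases i
  · exact k1
  · exact k0
  · rw [h2, k1, one_pow]; rfl
  · rw [h3, h2, k1, one_pow, one_pow]; rfl

theorem card_fixParD4 (hK : Fintype.card K = q ^ 3) :
    Nat.card ↥(endoD4 f).fixPar = (q - 1) * (q ^ 3 - 1) := by
  have hu : ∀ u : Kˣ, ((u ^ q) ^ q) ^ q = u := fun u => Units.ext (by
    rw [Units.val_pow_eq_pow_val, Units.val_pow_eq_pow_val, Units.val_pow_eq_pow_val,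
      pow_cubeD4 hK])
  let mkC : {u : Kˣ // u ^ q = u} × Kˣ → Fin tabD4.l → Kˣ := fun p i =>
    ([p.2, p.1.1, p.2 ^ q, (p.2 ^ q) ^ q] : List Kˣ).getD i 1
  have e : Nat.card ↥(endoD4 f).fixPar = Nat.card ({u : Kˣ // u ^ q = u} × Kˣ) := by
    refine Nat.card_congr
      { toFun := fun c => (⟨c.1 ⟨1, by decide⟩, (fix_paramD4_eq f hf c.2).1⟩, c.1 ⟨0, by decide⟩)
        invFun := fun p => ⟨mkC p, ?_⟩
        left_inv := fun c => Subtype.ext (funext fun i => ?_)
        right_inv := fun p => rfl }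
    · refine tor_fix_ofD4 f hf fun i => ?_
      show mkC p ((endoD4 f).πf i) = mkC p i ^ q
      obtain ⟨i, hi⟩ := i
      have hi' : i < 4 := hi
      interval_cases i
      · rfl
      · exact p.1.2.symm
      · rfl
      · exact (hu _).symm
    · obtain ⟨-, h2, h3⟩ := fix_paramD4_eq f hf c.2
      obtain ⟨i, hi⟩ := i
      have hi' : i < 4 := hi
      interval_cases i
      · rfl
      · rfl
      · exact h2.symm
      · exact ((congrArg (· ^ q) h2.symm).trans h3.symm)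
  have hq : 1 ≤ q := Nat.one_le_iff_ne_zero.2 (by
    rintro rfl; exact Fintype.card_ne_zero (hK.trans (zero_pow three_ne_zero)))
  rw [e, Nat.card_prod,
    Nat.card_congr (Equiv.subtypeEquivRight fun u : Kˣ => (show u ^ q = u ↔ u ^ (q - 1) = 1 by
      conv_lhs => lhs; rw [show q = q - 1 + 1 by omega, pow_succ]
      exact mul_eq_right)),
    card_units_pow_eq_one, Nat.gcd_eq_right (dvd_card_D4 hK), Nat.card_units,
    Nat.card_eq_fintype_card, hK]

theorem card_diagD4 (hK : Fintype.card K = q ^ 3) :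
    Nat.card ↥((endoD4 f).fix ⊓ chevD4.diagonalSubgroup K) = (q - 1) ^ 2 * (q ^ 2 + q + 1) := by
  have h := (endoD4 f).card_diag_fix fun c hc => exists_fix_paramD4 f hf (pow_cubeD4 hK) hc
  rw [card_ker_fixD4 f hf, one_mul, card_fixParD4 f hf hK] at h
  rw [h, sq (q - 1), mul_assoc]
  congr 1
  rcases q with _ | k
  · simp
  · rw [Nat.add_sub_cancel, Nat.sub_eq_iff_eq_add (Nat.one_le_pow _ _ k.succ_pos)]
    simp only [Nat.succ_eq_add_one]; ring

theorem card_twistD4 (hK : Fintype.card K = q ^ 3) (hq : IsPrimePow q) :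
    Nat.card ↥(endoD4 f).fix =
      q ^ 12 * (q ^ 2 - 1) * (q ^ 6 - 1) * (q ^ 8 + q ^ 4 + 1) := by
  rw [(endoD4 f).card_fix (stdD4 f hf (pow_cubeD4 hK)) one_ne_zero (hcardD4 f hf hK hq) chkElemsTwD4
      dvdElemsTwD4, card_posD4 f hf hK hq, card_diagD4 f hf hK,
    sum_elems (Q := q) leElemsTwD4 countElemsTwD4]
  have hp : ∀ e, 1 ≤ q ^ e := fun e => Nat.one_le_pow _ _ (by have := hq.two_le; omega)
  apply Nat.cast_injective (R := ℤ)
  simp only [List.range_succ, List.range_zero, List.nil_append, List.cons_append,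
    List.map_cons, List.map_nil, List.sum_cons, List.sum_nil,
    List.getD_cons_zero, List.getD_cons_succ]
  push_cast [Nat.cast_sub (show 1 ≤ q by simpa using hp 1), Nat.cast_sub (hp _)]
  ring

end

end CfsgLib.Chev
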