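import Cfsg.Agent.Lib.Chev.TwistDataE6
import Cfsg.Agent.Lib.Chev.OrderData
import Cfsg.Agent.Lib.Chev.TwistFinal
import Cfsg.Prelude.Def_LieTwisted

/-!
The group `²E₆(q)` as the fixed points of a twist.
-/

set_option autoImplicit false
set_option maxRecDepth 100000
set_option linter.unusedSectionVars false

namespace CfsgLib.Chev

open Cfsg.Lie Matrix
open Cert (torusHom)

theorem signTwE6 : ((List.range tabE6.n).all fun r =>
    decide (twistE6.dg r = 1 ∧ twistE6.ep (tabE6.neg r) = twistE6.ep r)) = true := by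
  decide +kernel

theorem simpleTwE6 :
    ((List.range tabE6.l).all fun i => decide (twistE6.ep (tabE6.simple i) = 1)) = true := by
  decide +kernel

/-- The inverse of the Cartan matrix of type E6, times three. -/
noncomputable def invCartanE6 : Matrix (Fin tabE6.l) (Fin tabE6.l) ℤ :=
  matOf tabE6.l [[4, 3, 5, 6, 4, 2], [3, 6, 6, 9, 6, 3], [5, 6, 10, 12, 8, 4],
    [6, 9, 12, 18, 12, 6], [4, 6, 8, 12, 10, 5], [2, 3, 4, 6, 5, 4]]

theorem invCartanE6_mul_smul : invCartanE6 * cartanT tabE6 = ((3 : ℕ) : ℤ) • 1 := by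
  decide +kernel

variable {K : Type*} [Field K] [Fintype K] {q : ℕ}

/-- The twist of `E₆(K)` with the field map `f`. -/
noncomputable def endoE6 (f : K →+* K) : Endo certE6 K :=
  Endo.ofTwist certE6 chkTwistE6 chkFaithImgE6 chkFaithSrcE6 f (RootSym.of_chk chkSymTwE6)
    (fun r hr => by
      have h1 := signTwE6
      simp only [List.all_eq_true, List.mem_range, decide_eq_true_eq] at h1
      obtain ⟨h2, h3⟩ := h1 r hr
      refine ⟨?_, by rw [h3, h2]; ring⟩
      rw [h2, (h1 _ (Cert.neg_lt hr)).1])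
    simpleTwE6

section

variable (f : K →+* K) (hf : ∀ t, f t = t ^ q)
include hf

lemma τE6_eq {r : ℕ} (hr : twistE6.ep r = 1 ∧ twistE6.dg r = 1) (t : K) :
    (endoE6 f).τ r t = t ^ q := by
  show (twistE6.ep r : K) * f t ^ twistE6.dg r = _
  rw [hr.1, hr.2, hf]; simp

lemma negE6_pow {t : K} : (-t⁻¹) ^ q = -(t ^ q)⁻¹ := by
  rw [← hf, ← hf, map_neg, map_inv₀]

omit hf in
lemma chevE6_prod_pair {a b : ℕ} (t u : K) :
    (([(a, t), (b, u)] : List (ℕ × K)).map fun p => X chevE6 p.1 p.2).prod =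
      X chevE6 a t * X chevE6 b u := by simp

lemma single_mem_fixE6 {r : ℕ} (hr : r < tabE6.n ∧ twistE6.rt r = r ∧ twistE6.ep r = 1 ∧
    twistE6.dg r = 1) {t : K} (ht : t ^ q = t) : X chevE6 r t ∈ (endoE6 f).fix := by
  refine (endoE6 f).mem_fix.2 ⟨certE6.X_mem_group hr.1 t, ?_⟩
  rw [(endoE6 f).act_X hr.1, τE6_eq f hf hr.2.2, ht]
  exact congrArg (fun x => X chevE6 x t) hr.2.1

lemma pair_mem_fixE6 (hK : Fintype.card K = q ^ 2) {r s : ℕ}
    (hr : r < tabE6.n ∧ twistE6.rt r = s ∧ twistE6.ep r = 1 ∧ twistE6.dg r = 1)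
    (hs : s < tabE6.n ∧ twistE6.rt s = r ∧ twistE6.ep s = 1 ∧ twistE6.dg s = 1)
    (hc : chkCommute tabE6 r s = true) (t : K) :
    X chevE6 r t * X chevE6 s (t ^ q) ∈ (endoE6 f).fix := by
  refine (endoE6 f).mem_fix.2 ⟨mul_mem (certE6.X_mem_group hr.1 t)
    (certE6.X_mem_group hs.1 _), ?_⟩
  rw [(endoE6 f).act_mul (certE6.X_mem_group hr.1 t) (certE6.X_mem_group hs.1 _),
    (endoE6 f).act_X hr.1, (endoE6 f).act_X hs.1, τE6_eq f hf hr.2.2, τE6_eq f hf hs.2.2,
    ← pow_mul, show q * q = Fintype.card K by rw [hK]; ring, FiniteField.pow_card]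
  show X chevE6 (twistE6.rt r) _ * X chevE6 (twistE6.rt s) _ = _
  rw [hr.2.1, hs.2.1]
  exact (certE6.commute_X hc t _).eq.symm

theorem twistedE6_le_fix (hK : Fintype.card K = q ^ 2) :
    twistedE6 K q ≤ (endoE6 f).fix := by
  refine certE6.genSubgroup_le ?_
  rintro w (⟨t, ht, r, hr, rfl⟩ | ⟨t, rs, hrs, rfl⟩)
  · simp only [List.map_cons, List.map_nil, List.prod_cons, List.prod_nil, mul_one]
    simp only [List.mem_cons, List.not_mem_nil, or_false] at hr
    rcases hr with rfl | rfl | rfl | rfl <;>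
      exact single_mem_fixE6 f hf (by decide +kernel) ht
  · rw [chevE6_prod_pair]
    simp only [List.mem_cons, List.not_mem_nil, or_false] at hrs
    rcases hrs with rfl | rfl | rfl | rfl <;>
      exact pair_mem_fixE6 f hf hK (by decide +kernel) (by decide +kernel) (by decide +kernel) t

lemma nU_pair_memE6 {r s r' s' : ℕ} (h1 : (r, s) ∈ [(e6p1, e6p6), (e6p3, e6p5)])
    (h2 : r' = tabE6.neg r ∧ s' = tabE6.neg s ∧ r < tabE6.n ∧ s < tabE6.n ∧
      chkPairwise tabE6 [r, s] = true ∧ (r', s') ∈ [(e6m1, e6m6), (e6m3, e6m5)]) (t : K) :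
    nU chevE6 r t * nU chevE6 s (t ^ q) ∈ twistedE6 K q := by
  obtain ⟨rfl, rfl, hr, hs, hc, h3⟩ := h2
  have e := certE6.prod_nU [(r, t), (s, t ^ q)] (by
    intro p hp
    simp only [List.mem_cons, List.not_mem_nil, or_false] at hp
    rcases hp with rfl | rfl <;> assumption) hc
  simp only [List.map_cons, List.map_nil, List.prod_cons, List.prod_nil, mul_one] at e
  rw [e]
  have hw : ∀ (a b : ℕ), (a, b) ∈ [(e6p1, e6p6), (e6m1, e6m6), (e6p3, e6p5), (e6m3, e6m5)] →
      ∀ u : K, X chevE6 a u * X chevE6 b (u ^ q) ∈ twistedE6 K q := fun a b hab u => by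
    rw [← chevE6_prod_pair]
    exact certE6.prod_mem_genSubgroup (Or.inr ⟨u, (a, b), hab, rfl⟩)
  have m1 := hw r s (by simp only [List.mem_cons, List.not_mem_nil, or_false] at h1 ⊢; tauto) t
  refine mul_mem (mul_mem m1 ?_) m1
  rw [← negE6_pow f hf]
  exact hw _ _ (by simp only [List.mem_cons, List.not_mem_nil, or_false] at h3 ⊢; tauto) _

lemma nU_single_memE6 {r : ℕ} (h1 : r ∈ [e6p2, e6p4])
    (h2 : r < tabE6.n ∧ tabE6.neg r ∈ [e6m2, e6m4]) {t : K} (ht : t ^ q = t) :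
    nU chevE6 r t ∈ twistedE6 K q := by
  have hw : ∀ a ∈ [e6p2, e6m2, e6p4, e6m4], ∀ u : K, u ^ q = u →
      X chevE6 a u ∈ twistedE6 K q := fun a ha u hu => by
    have := certE6.prod_mem_genSubgroup (F := K) (S := e6Words K q) (w := [(a, u)])
      (Or.inl ⟨u, hu, a, ha, rfl⟩)
    simp only [List.map_cons, List.map_nil, List.prod_cons, List.prod_nil, mul_one] at this
    exact this
  have m1 := hw r (by simp only [List.mem_cons, List.not_mem_nil, or_false] at h1 ⊢; tauto) t ht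
  rw [nU, certE6.neg_eq h2.1]
  refine mul_mem (mul_mem m1 (hw _ ?_ _ (by rw [negE6_pow f hf, ht]))) m1
  have h3 := h2.2
  simp only [List.mem_cons, List.not_mem_nil, or_false] at h3 ⊢; tauto

lemma hU_pair_memE6 {r s r' s' : ℕ} (h1 : (r, s) ∈ [(e6p1, e6p6), (e6p3, e6p5)])
    (h2 : r' = tabE6.neg r ∧ s' = tabE6.neg s ∧ r < tabE6.n ∧ s < tabE6.n ∧
      chkPairwise tabE6 [r, s] = true ∧ (r', s') ∈ [(e6m1, e6m6), (e6m3, e6m5)]) (t : K) :
    hU chevE6 r t * hU chevE6 s (t ^ q) ∈ twistedE6 K q := by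
  have m1 := nU_pair_memE6 f hf h1 h2 t
  have m2 := nU_pair_memE6 f hf h1 h2 (-1 : K)
  rw [show (-1 : K) ^ q = -1 by rw [← hf, map_neg, map_one]] at m2
  rw [show hU chevE6 r t * hU chevE6 s (t ^ q) =
    nU chevE6 r t * nU chevE6 s (t ^ q) * (nU chevE6 r (-1) * nU chevE6 s (-1)) from ?_]
  · exact mul_mem m1 m2
  · obtain ⟨-, -, hr, hs, hc, -⟩ := h2
    simp only [hU]
    rw [mul_assoc, ← mul_assoc (nU chevE6 r (-1)),
      (certE6.commute_nU hc hr hs (-1 : K) (t ^ q)).eq]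
    group

lemma nS_simpleE6 {i : ℕ} (hi : i < tabE6.l) : nS chevE6 K i = nU chevE6 (tabE6.simple i) 1 := by
  rw [nS, certE6.simple_eq hi]

theorem repsE6 (hK : Fintype.card K = q ^ 2) :
    (endoE6 f).Reps (twistedE6 K q) dataTwE6.CL := by
  have hle := twistedE6_le_fix f hf hK
  have hword : ∀ w, WordOK tabE6 w → nW chevE6 K w ∈ twistedE6 K q →
      ∃ m ∈ twistedE6 K q, m ∈ (endoE6 f).fix ∧ m ∈ chevE6.monomialSubgroup K ∧
        ∀ r < tabE6.n, Maps chevE6 m r (rword tabE6 w r) := fun w hw hm =>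
    ⟨_, hm, hle hm, certE6.nW_mem_monomial hw, fun r hr => certE6.Maps_nW hw hr⟩
  have h1q : (1 : K) ^ q = 1 := one_pow q
  intro c hc
  simp only [dataTwE6, List.mem_cons, List.not_mem_nil, or_false] at hc
  rcases hc with rfl | rfl | rfl | rfl
  · refine hword [0, 5] (wordOK_of_all (by decide +kernel)) ?_
    have := nU_pair_memE6 f hf (r := e6p1) (s := e6p6) (r' := e6m1) (s' := e6m6) (by decide)
      (by decide +kernel) (1 : K)
    rw [h1q] at this
    simpa [nW, nS_simpleE6 f hf (show 0 < tabE6.l by decide),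
      nS_simpleE6 f hf (show 5 < tabE6.l by decide),
      show tabE6.simple 0 = e6p1 by decide +kernel,
      show tabE6.simple 5 = e6p6 by decide +kernel] using this
  · refine hword [2, 4] (wordOK_of_all (by decide +kernel)) ?_
    have := nU_pair_memE6 f hf (r := e6p3) (s := e6p5) (r' := e6m3) (s' := e6m5) (by decide)
      (by decide +kernel) (1 : K)
    rw [h1q] at this
    simpa [nW, nS_simpleE6 f hf (show 2 < tabE6.l by decide),
      nS_simpleE6 f hf (show 4 < tabE6.l by decide),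
      show tabE6.simple 2 = e6p3 by decide +kernel,
      show tabE6.simple 4 = e6p5 by decide +kernel] using this
  · refine hword [3] (wordOK_of_all (by decide +kernel)) ?_
    have := nU_single_memE6 f hf (r := e6p4) (by decide) (by decide +kernel) h1q
    simpa [nW, nS_simpleE6 f hf (show 3 < tabE6.l by decide),
      show tabE6.simple 3 = e6p4 by decide +kernel] using this
  · refine hword [1] (wordOK_of_all (by decide +kernel)) ?_
    have := nU_single_memE6 f hf (r := e6p2) (by decide) (by decide +kernel) h1q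
    simpa [nW, nS_simpleE6 f hf (show 1 < tabE6.l by decide),
      show tabE6.simple 1 = e6p2 by decide +kernel] using this

lemma torE6_val {c : Fin tabE6.l → Kˣ} (i : Fin tabE6.l) :
    (endoE6 f).tor c ((endoE6 f).πf i) = c i ^ q := by
  refine Units.ext ?_
  have hs : ∀ j : Fin tabE6.l, twistE6.ep (tabE6.simple j) = 1 ∧ twistE6.dg (tabE6.simple j) = 1 := by
    decide +kernel
  rw [(endoE6 f).tor_val, τE6_eq f hf (hs i), Units.val_pow_eq_pow_val]

lemma torE6_torE6 (hK : Fintype.card K = q ^ 2) (c : Fin tabE6.l → Kˣ) :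
    (endoE6 f).tor ((endoE6 f).tor c) = c := by
  funext k
  obtain ⟨j, rfl⟩ := (Finite.injective_iff_surjective.1 (endoE6 f).πf_injective) k
  rw [torE6_val f hf]
  have hjj : ∀ j : Fin tabE6.l, piTwE6 (piTwE6 j) = j := by decide +kernel
  have hj : j = (endoE6 f).πf ((endoE6 f).πf j) := Fin.ext (hjj j).symm
  conv_lhs => rw [hj, torE6_val f hf, ← pow_mul]
  refine Units.ext ?_
  rw [Units.val_pow_eq_pow_val, show q * q = Fintype.card K by rw [hK]; ring,
    FiniteField.pow_card]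

theorem exists_fix_paramE6 (hK : Fintype.card K = q ^ 2) {c : Fin tabE6.l → Kˣ}
    (hz : c⁻¹ * (endoE6 f).tor c ∈ (torusHom (D := chevE6) (T := tabE6) (F := K)).ker) :
    ∃ c', (endoE6 f).tor c' = c' ∧
      torusHom (D := chevE6) (T := tabE6) c' = torusHom (D := chevE6) (T := tabE6) c := by
  obtain ⟨z, hzdef⟩ : ∃ z, z = c⁻¹ * (endoE6 f).tor c := ⟨_, rfl⟩
  rw [← hzdef] at hz
  have h3 : z ^ 3 = 1 := funext fun i => certE6.ker_pow invCartanE6_mul_smul hz i
  have hσ : (endoE6 f).tor z = z⁻¹ := by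
    rw [hzdef, map_mul, map_inv, torE6_torE6 f hf hK, _root_.mul_inv_rev, inv_inv]
  have h2 : (endoE6 f).tor c = c * z := by rw [hzdef, mul_inv_cancel_left]
  refine ⟨c * z⁻¹, ?_, ?_⟩
  · rw [map_mul, map_inv, hσ, inv_inv, h2, mul_assoc, ← pow_two]
    congr 1
    rw [eq_inv_iff_mul_eq_one, ← pow_succ]
    exact h3
  · rw [map_mul, map_inv, MonoidHom.mem_ker.1 hz, inv_one, mul_one]

lemma fix_paramE6_eq {c : Fin tabE6.l → Kˣ} (hc : (endoE6 f).tor c = c) :
    (c ⟨1, by decide⟩ : K) ^ q = c ⟨1, by decide⟩ ∧ (c ⟨3, by decide⟩ : K) ^ q = c ⟨3, by decide⟩ ∧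
      c ⟨5, by decide⟩ = c ⟨0, by decide⟩ ^ q ∧ c ⟨4, by decide⟩ = c ⟨2, by decide⟩ ^ q := by
  have h1 := fun i => (torE6_val f hf (c := c) i).symm.trans (congrFun hc _)
  refine ⟨?_, ?_, (h1 ⟨0, by decide⟩).symm, (h1 ⟨2, by decide⟩).symm⟩
  · exact (Units.val_pow_eq_pow_val _ _).symm.trans (congrArg Units.val (h1 ⟨1, by decide⟩))
  · exact (Units.val_pow_eq_pow_val _ _).symm.trans (congrArg Units.val (h1 ⟨3, by decide⟩))

theorem torusE6 (hK : Fintype.card K = q ^ 2) :
    (endoE6 f).fix ⊓ chevE6.diagonalSubgroup K ≤ twistedE6 K q := by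
  intro g hg
  obtain ⟨c, rfl, hz⟩ := (endoE6 f).exists_param hg
  obtain ⟨c', hc', e⟩ := exists_fix_paramE6 f hf hK hz
  rw [← e]
  obtain ⟨h1, h3, h5, h4⟩ := fix_paramE6_eq f hf hc'
  rw [← Finset.univ_prod_mulSingle c']
  have key : ∀ i : Fin tabE6.l, torusHom (D := chevE6) (T := tabE6) (Pi.mulSingle i (c' i)) =
      hU chevE6 (tabE6.simple i) (c' i : K) := fun i =>
    Endo.torusHom_mulSingle (h := certE6) i _
  rw [show (Finset.univ : Finset (Fin tabE6.l)) = {⟨0, by decide⟩, ⟨5, by decide⟩, ⟨2, by decide⟩,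
    ⟨4, by decide⟩, ⟨1, by decide⟩, ⟨3, by decide⟩} from by decide +kernel]
  rw [Finset.prod_insert (by decide), Finset.prod_insert (by decide), Finset.prod_insert (by decide),
    Finset.prod_insert (by decide), Finset.prod_insert (by decide), Finset.prod_singleton]
  simp only [map_mul, key]
  rw [← mul_assoc]
  refine mul_mem ?_ (?_ : _ ∈ twistedE6 K q)
  · rw [h5, Units.val_pow_eq_pow_val, show tabE6.simple 0 = e6p1 by decide +kernel,
      show tabE6.simple 5 = e6p6 by decide +kernel]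
    exact hU_pair_memE6 f hf (r' := e6m1) (s' := e6m6) (by decide) (by decide +kernel) _
  rw [← mul_assoc]
  refine mul_mem ?_ (mul_mem ?_ ?_)
  · rw [h4, Units.val_pow_eq_pow_val, show tabE6.simple 2 = e6p3 by decide +kernel,
      show tabE6.simple 4 = e6p5 by decide +kernel]
    exact hU_pair_memE6 f hf (r' := e6m3) (s' := e6m5) (by decide) (by decide +kernel) _
  · rw [show tabE6.simple 1 = e6p2 by decide +kernel, hU]
    exact mul_mem (nU_single_memE6 f hf (by decide) (by decide +kernel) h1)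
      (nU_single_memE6 f hf (by decide) (by decide +kernel) (by rw [← hf, map_neg, map_one]))
  · rw [show tabE6.simple 3 = e6p4 by decide +kernel, hU]
    exact mul_mem (nU_single_memE6 f hf (by decide) (by decide +kernel) h3)
      (nU_single_memE6 f hf (by decide) (by decide +kernel) (by rw [← hf, map_neg, map_one]))

lemma tor_fix_of {c : Fin tabE6.l → Kˣ}
    (hc : ∀ i, c ((endoE6 f).πf i) = c i ^ q) : (endoE6 f).tor c = c := by
  funext k
  obtain ⟨j, rfl⟩ := (Finite.injective_iff_surjective.1 (endoE6 f).πf_injective) k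
  rw [torE6_val f hf, hc]

omit hf in
lemma dataOK_E6 : (endoE6 f).DataOK dataTwE6 := Endo.DataOK.of_chk _ chkDataTwE6

omit hf in
lemma two_le_qE6 (hq : IsPrimePow q) : 2 ≤ q := hq.two_le

omit hf in
lemma dvd_card_E6 (hK : Fintype.card K = q ^ 2) : q - 1 ∣ Fintype.card K - 1 := by
  rw [hK]; simpa using Nat.sub_dvd_pow_sub_pow q 1 2

lemma τn_pairE6 (hK : Fintype.card K = q ^ 2) {r : ℕ}
    (hr : twistE6.ep r = 1 ∧ twistE6.dg r = 1 ∧
      twistE6.ep (twistE6.rt r) = 1 ∧ twistE6.dg (twistE6.rt r) = 1) (t : K) :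
    (endoE6 f).τn 2 r t = t := by
  show (endoE6 f).τ (twistE6.rt r) ((endoE6 f).τ r t) = t
  rw [τE6_eq f hf ⟨hr.2.2.1, hr.2.2.2⟩, τE6_eq f hf ⟨hr.1, hr.2.1⟩, ← pow_mul,
    show q * q = Fintype.card K by rw [hK]; ring, FiniteField.pow_card]

lemma base_cardE6 (hK : Fintype.card K = q ^ 2) (hq : IsPrimePow q) :
    ∀ b ∈ dataTwE6.base, Nat.card ((endoE6 f).Adm b) ^ 1 = q ^ b.size := by
  have h2 := two_le_qE6 hq
  intro b hb
  simp only [dataTwE6, List.mem_cons, List.not_mem_nil, or_false] at hb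
  rw [pow_one]
  rcases hb with rfl | rfl | rfl | rfl
  · rw [Endo.card_adm_univ _ (τn_pairE6 f hf hK (by decide +kernel)), Nat.card_eq_fintype_card, hK]
  · rw [Endo.card_adm_univ _ (τn_pairE6 f hf hK (by decide +kernel)), Nat.card_eq_fintype_card, hK]
  · rw [Endo.card_adm_one _ rfl (fun t => by rw [τE6_eq f hf (by decide +kernel)]),
      card_pow_eq_self (by omega) (dvd_card_E6 hK), pow_one]
  · rw [Endo.card_adm_one _ rfl (fun t => by rw [τE6_eq f hf (by decide +kernel)]),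
      card_pow_eq_self (by omega) (dvd_card_E6 hK), pow_one]

lemma lift_baseE6 (hK : Fintype.card K = q ^ 2) :
    ∀ b ∈ dataTwE6.base, (endoE6 f).Lift (twistedE6 K q) b := by
  have hle := twistedE6_le_fix f hf hK
  intro b hb
  refine Endo.lift_of_word _ chkBaseTwE6 hb fun t ht => ?_
  have key : ∀ w : List (ℕ × K), w ∈ e6Words K q →
      (w.map fun p => X chevE6 p.1 p.2).prod ∈ twistedE6 K q ∧
      (w.map fun p => X chevE6 p.1 p.2).prod ∈ (endoE6 f).fix := fun w hw =>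
    ⟨certE6.prod_mem_genSubgroup hw, hle (certE6.prod_mem_genSubgroup hw)⟩
  simp only [dataTwE6, List.mem_cons, List.not_mem_nil, or_false] at hb
  rcases hb with rfl | rfl | rfl | rfl
  · obtain ⟨k1, k2⟩ := key [(e6p1, t), (e6p6, t ^ q)]
      (Or.inr ⟨t, (e6p1, e6p6), by simp, rfl⟩)
    refine ⟨_, ?_, k1, k2, ?_⟩
    · simp [Orb.list, List.range_succ, show (endoE6 f).ρ 56 = e6p6 from
        (by decide +kernel : twistE6.rt 56 = e6p6), e6p1]
    · simp [e6p1, e6p6]
  · obtain ⟨k1, k2⟩ := key [(e6p3, t), (e6p5, t ^ q)]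
      (Or.inr ⟨t, (e6p3, e6p5), by simp, rfl⟩)
    refine ⟨_, ?_, k1, k2, ?_⟩
    · simp [Orb.list, List.range_succ, show (endoE6 f).ρ 42 = e6p5 from
        (by decide +kernel : twistE6.rt 42 = e6p5), e6p3]
    · simp [e6p3, e6p5]
  · have ht' : t ^ q = t := (τE6_eq f hf (r := 39) (by decide +kernel) t).symm.trans ht
    obtain ⟨k1, k2⟩ := key [(e6p4, t)] (Or.inl ⟨t, ht', e6p4, by simp, rfl⟩)
    refine ⟨_, ?_, k1, k2, ?_⟩
    · simp [Orb.list, List.range_succ, e6p4]
    · simp [e6p4]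
  · have ht' : t ^ q = t := (τE6_eq f hf (r := 46) (by decide +kernel) t).symm.trans ht
    obtain ⟨k1, k2⟩ := key [(e6p2, t)] (Or.inl ⟨t, ht', e6p2, by simp, rfl⟩)
    refine ⟨_, ?_, k1, k2, ?_⟩
    · simp [Orb.list, List.range_succ, e6p2]
    · simp [e6p2]

theorem stdE6 (hK : Fintype.card K = q ^ 2) : (endoE6 f).Std dataTwE6 (twistedE6 K q) :=
  ⟨dataOK_E6 f, repsE6 f hf hK, torusE6 f hf hK, lift_baseE6 f hf hK⟩

theorem hcardE6 (hK : Fintype.card K = q ^ 2) (hq : IsPrimePow q) :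
    ∀ o ∈ dataTwE6.L, Nat.card ((endoE6 f).Adm o) ^ 1 = q ^ o.size := by
  intro o ho
  obtain ⟨-, b, hb, e1, e2⟩ := (stdE6 f hf hK).lifts _ o ho
  rw [e1, e2]
  exact base_cardE6 f hf hK hq b hb

theorem fix_eq_twistedE6 (hK : Fintype.card K = q ^ 2) (hq : IsPrimePow q) :
    (endoE6 f).fix = twistedE6 K q :=
  le_antisymm ((endoE6 f).fix_le (stdE6 f hf hK) (hcardE6 f hf hK hq))
    (twistedE6_le_fix f hf hK)

theorem std_fixE6 (hK : Fintype.card K = q ^ 2) (hq : IsPrimePow q) :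
    (endoE6 f).Std dataTwE6 (endoE6 f).fix := by
  rw [fix_eq_twistedE6 f hf hK hq]; exact stdE6 f hf hK

theorem card_posE6 (hK : Fintype.card K = q ^ 2) (hq : IsPrimePow q) :
    Nat.card ↥((endoE6 f).fix ⊓ chevE6.posUnipotent K) = q ^ 36 := by
  have := ((endoE6 f).fix_posUnipotent (dataOK_E6 f)
    (fun o ho => ((stdE6 f hf hK).lifts _ o ho).1) (hcardE6 f hf hK hq)).2
  rwa [pow_one, show tabE6.half = 36 by decide +kernel] at this

/-- A parameter with prescribed values on one pair. -/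
lemma tor_pairE6 (hK : Fintype.card K = q ^ 2) {i j : Fin tabE6.l}
    (hij : piTwE6 i = j ∧ piTwE6 j = i ∧ i ≠ j) (u : Kˣ) :
    (endoE6 f).tor (Pi.mulSingle i u * Pi.mulSingle j (u ^ q)) =
      Pi.mulSingle i u * Pi.mulSingle j (u ^ q) := by
  have hu : (u ^ q) ^ q = u := Units.ext (by
    rw [Units.val_pow_eq_pow_val, Units.val_pow_eq_pow_val, ← pow_mul,
      show q * q = Fintype.card K by rw [hK]; ring, FiniteField.pow_card])
  refine tor_fix_of f hf fun k => ?_
  have hi : (endoE6 f).πf i = j := Fin.ext hij.1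
  have hj : (endoE6 f).πf j = i := Fin.ext hij.2.1
  rcases eq_or_ne k i with rfl | hki
  · rw [hi]; simp [hij.2.2, hij.2.2.symm]
  rcases eq_or_ne k j with rfl | hkj
  · rw [hj]; simp [hij.2.2, hij.2.2.symm, hu]
  have h1 : (endoE6 f).πf k ≠ i := fun e =>
    hkj ((endoE6 f).πf_injective (e.trans hj.symm))
  have h2 : (endoE6 f).πf k ≠ j := fun e => hki ((endoE6 f).πf_injective (e.trans hi.symm))
  simp [h1, h2, hki, hkj]

theorem perfect_fixE6 (hK : Fintype.card K = q ^ 2) (hq : IsPrimePow q) :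
    commutator ↥(endoE6 f).fix = ⊤ := by
  have h2 := two_le_qE6 hq
  have heq := fix_eq_twistedE6 f hf hK hq
  have hstd := std_fixE6 f hf hK hq
  have h1q : (1 : K) ^ q = 1 := one_pow q
  obtain ⟨u, hu⟩ := exists_sq_ne_one (F := K) (by rw [hK]; nlinarith)
  refine (endoE6 f).perfect_fix (dataOK_E6 f) hstd.reps ?_ (hcardE6 f hf hK hq) ?_
  · intro b hb
    have hl : (endoE6 f).Lift (endoE6 f).fix b := hstd.lift b hb
    simp only [dataTwE6, List.mem_cons, List.not_mem_nil, or_false] at hb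
    rcases hb with rfl | rfl | rfl | rfl
    · refine Endo.lift_comm_of_param _ chkBaseTwE6 (by simp [dataTwE6])
        (by decide +kernel : twistE6.rt^[2] 56 = 56)
        (tor_pairE6 f hf hK (i := ⟨0, by decide⟩) (j := ⟨5, by decide⟩) (by decide +kernel) u)
        ⟨0, by decide⟩ (by decide +kernel) ?_ hl
      rw [map_mul, Pi.mul_apply, matHom_mulSingle, matHom_mulSingle,
        (show cartanT tabE6 ⟨0, by decide⟩ ⟨0, by decide⟩ = 2 ∧
          cartanT tabE6 ⟨0, by decide⟩ ⟨5, by decide⟩ = 0 by decide +kernel).1,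
        (show cartanT tabE6 ⟨0, by decide⟩ ⟨0, by decide⟩ = 2 ∧
          cartanT tabE6 ⟨0, by decide⟩ ⟨5, by decide⟩ = 0 by decide +kernel).2,
        zpow_ofNat, zpow_zero, mul_one]
      exact hu
    · refine Endo.lift_comm_of_param _ chkBaseTwE6 (by simp [dataTwE6])
        (by decide +kernel : twistE6.rt^[2] 42 = 42)
        (tor_pairE6 f hf hK (i := ⟨2, by decide⟩) (j := ⟨4, by decide⟩) (by decide +kernel) u)
        ⟨2, by decide⟩ (by decide +kernel) ?_ hl
      rw [map_mul, Pi.mul_apply, matHom_mulSingle, matHom_mulSingle,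
        (show cartanT tabE6 ⟨2, by decide⟩ ⟨2, by decide⟩ = 2 ∧
          cartanT tabE6 ⟨2, by decide⟩ ⟨4, by decide⟩ = 0 by decide +kernel).1,
        (show cartanT tabE6 ⟨2, by decide⟩ ⟨2, by decide⟩ = 2 ∧
          cartanT tabE6 ⟨2, by decide⟩ ⟨4, by decide⟩ = 0 by decide +kernel).2,
        zpow_ofNat, zpow_zero, mul_one]
      exact hu
    · refine Endo.lift_of_comm_roots _ (a := 25) (b := 47) (k := -1) rfl (by decide +kernel)
        fun t ht => ?_
      have ht' : t ^ q = t := (τE6_eq f hf (r := 39) (by decide +kernel) t).symm.trans ht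
      exact ⟨single_mem_fixE6 f hf (by decide +kernel) h1q,
        single_mem_fixE6 f hf (by decide +kernel) (by simpa using ht')⟩
    · refine Endo.lift_of_comm_roots _ (a := 32) (b := 47) (k := 1) rfl (by decide +kernel)
        fun t ht => ?_
      have ht' : t ^ q = t := (τE6_eq f hf (r := 46) (by decide +kernel) t).symm.trans ht
      exact ⟨single_mem_fixE6 f hf (by decide +kernel) h1q,
        single_mem_fixE6 f hf (by decide +kernel)
          (by rw [Int.cast_one, neg_mul, one_mul, ← hf, map_neg, hf, ht'])⟩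
  · refine Endo.fix_le_pos_neg _ heq.le (twistedE6_le_fix f hf hK) ?_ ?_
    · rintro w (⟨t, -, r, hr, rfl⟩ | ⟨t, rs, hrs, rfl⟩) p hp
      · simp only [List.mem_cons, List.not_mem_nil, or_false] at hr hp
        rcases hr with rfl | rfl | rfl | rfl <;> subst hp <;> (dsimp only; decide +kernel)
      · simp only [List.mem_cons, List.not_mem_nil, or_false] at hrs hp
        rcases hrs with rfl | rfl | rfl | rfl <;> rcases hp with rfl | rfl <;>
          (dsimp only; decide +kernel)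
    · rw [show tabE6.half = 36 by decide +kernel]
      rintro w (⟨t, -, r, hr, rfl⟩ | ⟨t, rs, hrs, rfl⟩) <;>
        simp only [List.mem_cons, List.not_mem_nil, or_false, forall_eq_or_imp, forall_eq]
      · simp only [List.mem_cons, List.not_mem_nil, or_false] at hr
        rcases hr with rfl | rfl | rfl | rfl <;> decide
      · simp only [List.mem_cons, List.not_mem_nil, or_false] at hrs
        rcases hrs with rfl | rfl | rfl | rfl <;> decide

/-- The exponents of the kernel of the torus of E₆. -/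
def kerVecE6 (i : Fin tabE6.l) : ℕ := ([1, 0, 2, 0, 1, 2] : List ℕ).getD i 0

omit hf in
lemma kerRowsE6 : (matOf tabE6.l [[0, 0, 0, 0, 0, 0], [1, 2, 2, 3, 2, 1], [-1, 0, 0, 0, 0, 0],
    [2, 3, 4, 6, 4, 2], [0, 1, 1, 2, 2, 1], [-2, -1, -2, -2, -1, 0]]) * cartanT tabE6 =
    fun i j => (if i = j then 1 else 0) - (if j = ⟨0, by decide⟩ then (kerVecE6 i : ℤ) else 0) := by
  funext i j; revert i j; decide +kernel

theorem card_ker_fixE6 (hK : Fintype.card K = q ^ 2) :
    Nat.card ↥((torusHom (D := chevE6) (T := tabE6) (F := K)).ker ⊓ (endoE6 f).fixPar) =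
      Nat.gcd 3 (q + 1) := by
  have e1 : (Fintype.card K - 1).gcd (Nat.gcd 3 (q + 1)) = Nat.gcd 3 (q + 1) := by
    refine Nat.gcd_eq_right ((Nat.gcd_dvd_right _ _).trans ⟨q - 1, ?_⟩)
    rw [hK, ← Nat.sq_sub_sq, one_pow]
  rw [← e1, ← card_units_pow_eq_one (F := K)]
  have hz3 : ∀ z ∈ (torusHom (D := chevE6) (T := tabE6) (F := K)).ker, z ⟨0, by decide⟩ ^ 3 = 1 :=
    fun z hz => certE6.ker_pow invCartanE6_mul_smul hz _
  refine Nat.card_congr
    { toFun := fun z => ⟨z.1 ⟨0, by decide⟩, ?_⟩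
      invFun := fun ζ => ⟨fun i => ζ.1 ^ kerVecE6 i, ?_, ?_⟩
      left_inv := fun z => Subtype.ext (funext fun i => (certE6.ker_eq_pow kerRowsE6 z.2.1 i).symm)
      right_inv := fun ζ => Subtype.ext (pow_one _) }
  · refine pow_gcd_eq_one.2 ⟨hz3 _ z.2.1, ?_⟩
    have h5 : z.1 ⟨5, by decide⟩ = z.1 ⟨0, by decide⟩ ^ q := (fix_paramE6_eq f hf z.2.2).2.2.1
    rw [pow_succ, ← h5, certE6.ker_eq_pow kerRowsE6 z.2.1 ⟨5, by decide⟩]
    rw [show kerVecE6 ⟨5, by decide⟩ = 2 from rfl, ← pow_succ]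
    exact hz3 _ z.2.1
  · exact certE6.pow_mem_ker (N := 3) (by decide +kernel)
      (orderOf_dvd_iff_pow_eq_one.1 ((orderOf_dvd_of_pow_eq_one ζ.2).trans (Nat.gcd_dvd_left _ _)))
  · have hq1 : ζ.1 ^ (q + 1) = 1 :=
      orderOf_dvd_iff_pow_eq_one.1 ((orderOf_dvd_of_pow_eq_one ζ.2).trans (Nat.gcd_dvd_right _ _))
    have h3 : ζ.1 ^ 3 = 1 :=
      orderOf_dvd_iff_pow_eq_one.1 ((orderOf_dvd_of_pow_eq_one ζ.2).trans (Nat.gcd_dvd_left _ _))
    have hinv : ∀ n, (ζ.1 ^ n) ^ q = ζ.1 ^ (2 * n) := fun n => by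
      rw [← pow_mul, mul_comm n, pow_mul, pow_mul]
      congr 1
      exact mul_right_cancel (b := ζ.1) (by rw [← pow_succ, ← pow_succ, hq1, h3])
    refine tor_fix_of f hf fun i => ?_
    rw [hinv]
    have hm : ∀ i : Fin tabE6.l, piTwE6 i < tabE6.l →
        kerVecE6 (⟨piTwE6 i % tabE6.l, Nat.mod_lt _ (by decide)⟩) % 3 =
          (2 * kerVecE6 i) % 3 := by decide +kernel
    rw [pow_eq_pow_mod _ h3, pow_eq_pow_mod (2 * kerVecE6 i) h3, ← hm i ((endoE6 f).πf i).2]
    congr 3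
    exact Fin.ext (Nat.mod_eq_of_lt ((endoE6 f).πf i).2).symm

theorem card_fixParE6 (hK : Fintype.card K = q ^ 2) :
    Nat.card ↥(endoE6 f).fixPar = (q - 1) ^ 2 * (q ^ 2 - 1) ^ 2 := by
  have hu : ∀ u : Kˣ, (u ^ q) ^ q = u := fun u => Units.ext (by
    rw [Units.val_pow_eq_pow_val, Units.val_pow_eq_pow_val, ← pow_mul,
      show q * q = Fintype.card K by rw [hK]; ring, FiniteField.pow_card])
  let A := {u : Kˣ // u ^ q = u}
  let mkC : A × A × Kˣ × Kˣ → Fin tabE6.l → Kˣ := fun p i =>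
    ([p.2.2.1, p.1.1, p.2.2.2, p.2.1.1, p.2.2.2 ^ q, p.2.2.1 ^ q] : List Kˣ).getD i 1
  have e : Nat.card ↥(endoE6 f).fixPar = Nat.card (A × A × Kˣ × Kˣ) := by
    refine Nat.card_congr
      { toFun := fun c => (⟨c.1 ⟨1, by decide⟩, Units.ext (by
            rw [Units.val_pow_eq_pow_val]; exact (fix_paramE6_eq f hf c.2).1)⟩,
          ⟨c.1 ⟨3, by decide⟩, Units.ext (by
            rw [Units.val_pow_eq_pow_val]; exact (fix_paramE6_eq f hf c.2).2.1)⟩,
          c.1 ⟨0, by decide⟩, c.1 ⟨2, by decide⟩)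
        invFun := fun p => ⟨mkC p, ?_⟩
        left_inv := fun c => Subtype.ext (funext fun i => ?_)
        right_inv := fun p => rfl }
    · refine tor_fix_of f hf fun i => ?_
      show mkC p ((endoE6 f).πf i) = mkC p i ^ q
      obtain ⟨i, hi⟩ := i
      have hi' : i < 6 := hi
      interval_cases i
      · rfl
      · exact p.1.2.symm
      · rfl
      · exact p.2.1.2.symm
      · exact (hu _).symm
      · exact (hu _).symm
    · obtain ⟨h1, h3, h5, h4⟩ := fix_paramE6_eq f hf c.2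
      obtain ⟨i, hi⟩ := i
      have hi' : i < 6 := hi
      interval_cases i
      · rfl
      · rfl
      · rfl
      · rfl
      · exact h4.symm
      · exact h5.symm
  have hq : 1 ≤ q := Nat.one_le_iff_ne_zero.2 (by
    rintro rfl; exact Fintype.card_ne_zero (hK.trans (zero_pow two_ne_zero)))
  have hA : Nat.card A = q - 1 := by
    rw [show A = {u : Kˣ // u ^ q = u} from rfl,
      Nat.card_congr (Equiv.subtypeEquivRight fun u : Kˣ => (show u ^ q = u ↔ u ^ (q - 1) = 1 by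
        conv_lhs => lhs; rw [show q = q - 1 + 1 by omega, pow_succ]
        exact mul_eq_right)),
      card_units_pow_eq_one, Nat.gcd_eq_right (dvd_card_E6 hK)]
  rw [e, Nat.card_prod, Nat.card_prod, Nat.card_prod, hA, Nat.card_units,
    Nat.card_eq_fintype_card, hK]
  ring

theorem card_diagE6 (hK : Fintype.card K = q ^ 2) :
    Nat.gcd 3 (q + 1) * Nat.card ↥((endoE6 f).fix ⊓ chevE6.diagonalSubgroup K) =
      (q - 1) ^ 4 * (q + 1) ^ 2 := by
  rw [← card_ker_fixE6 f hf hK, (endoE6 f).card_diag_fix fun c hc => exists_fix_paramE6 f hf hK hc,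
    card_fixParE6 f hf hK, show q ^ 2 - 1 = (q + 1) * (q - 1) by
      simpa using Nat.sq_sub_sq q 1]
  ring

theorem card_twistE6 (hK : Fintype.card K = q ^ 2) (hq : IsPrimePow q) :
    Nat.gcd 3 (q + 1) * Nat.card ↥(endoE6 f).fix =
      q ^ 36 * (q ^ 2 - 1) * (q ^ 5 + 1) * (q ^ 6 - 1) * (q ^ 8 - 1) * (q ^ 9 + 1) * (q ^ 12 - 1) := by
  rw [(endoE6 f).card_fix (stdE6 f hf hK) one_ne_zero (hcardE6 f hf hK hq) chkElemsTwE6
      dvdElemsTwE6, card_posE6 f hf hK hq,
    sum_elems (Q := q) leElemsTwE6 countElemsTwE6]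
  have hd := card_diagE6 f hf hK
  have h2 := two_le_qE6 hq
  have hp : ∀ e, 1 ≤ q ^ e := fun e => Nat.one_le_pow _ _ (by omega)
  have key : (q - 1) ^ 4 * (q + 1) ^ 2 * ((List.range 37).map fun v =>
      ([1, 2, 4, 6, 9, 13, 17, 22, 26, 32, 37, 43, 47, 51, 55, 58, 61, 61, 62, 61, 61, 58, 55, 51,
        47, 43, 37, 32, 26, 22, 17, 13, 9, 6, 4, 2, 1] : List ℕ).getD v 0 * q ^ v).sum =
      (q ^ 2 - 1) * (q ^ 5 + 1) * (q ^ 6 - 1) * (q ^ 8 - 1) * (q ^ 9 + 1) * (q ^ 12 - 1) := by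
    apply Nat.cast_injective (R := ℤ)
    simp only [List.range_succ, List.range_zero, List.nil_append, List.cons_append,
      List.map_cons, List.map_nil, List.sum_cons, List.sum_nil,
      List.getD_cons_zero, List.getD_cons_succ]
    push_cast [Nat.cast_sub (show 1 ≤ q by omega), Nat.cast_sub (hp _)]
    ring
  generalize ((List.range 37).map fun v =>
      ([1, 2, 4, 6, 9, 13, 17, 22, 26, 32, 37, 43, 47, 51, 55, 58, 61, 61, 62, 61, 61, 58, 55, 51,
        47, 43, 37, 32, 26, 22, 17, 13, 9, 6, 4, 2, 1] : List ℕ).getD v 0 * q ^ v).sum = S at key ⊢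
  linear_combination (q ^ 36 * S) * hd + q ^ 36 * key

end

end CfsgLib.Chev
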