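import Cfsg.Agent.Lib.Chev.TwistEndo

/-!
Equality of words with integral parameters modulo `p`, by the column engine.
-/

set_option autoImplicit false

namespace CfsgLib.Chev

open Cfsg.Lie
open Cert (torusHom extC)

/-- A constant word for the engine. -/
def intWord (v : List (ℕ × ℤ)) : List (ℕ × ℤ × ℕ × ℕ) := v.map fun g => (g.1, g.2, 0, 0)

/-- The word of a product of the `n_i(1)`. -/
def nIntWord (T : Tab) (w : List ℕ) : List (ℕ × ℤ) :=
  w.flatMap fun i => [(T.simple i, 1), (T.neg (T.simple i), -1), (T.simple i, 1)]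

/-- Two constant words have the same matrix modulo `p`. -/
noncomputable def chkWordEq (T : Tab) (p : ℕ) (v w : List (ℕ × ℤ)) : Bool :=
  (List.range T.dim).all fun c =>
    Twist.sameMod p (T.appWord false (intWord v) c) (T.appWord false (intWord w) c)

/-- Two roots whose commutator terms vanish modulo `p`. -/
def chkCommuteMod (T : Tab) (p a b : ℕ) : Bool :=
  decide (a < T.n) && (decide (b < T.n) && (decide (b ≠ a) && (decide (b ≠ T.neg a) &&
    (T.commTerms a b).all fun c => decide ((p : ℤ) ∣ c.2.1))))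

namespace Cert

variable {D : ChevalleyDatum} {T : Tab} {C : Tab.Cover} (h : Cert D T C) {F : Type*} [Field F]
include h

lemma prod_eq_of_chk {p : ℕ} [Kills F p] {v w : List (ℕ × ℤ)}
    (hc : chkWordEq T p v w = true) :
    (v.map fun g => X D g.1 (g.2 : F)).prod = (w.map fun g => X D g.1 (g.2 : F)).prod := by
  simp only [chkWordEq, List.all_eq_true, List.mem_range] at hc
  have hv : ∀ u : List (ℕ × ℤ), wordAt (intWord u) (1 : F) 1 = u.map fun g => (g.1, (g.2 : F)) :=
    fun u => by simp [wordAt, intWord, List.map_map, Function.comp_def]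
  have he : ∀ u : List (ℕ × ℤ), ((u.map fun g => X D g.1 (g.2 : F)).prod : Matrix D.Idx D.Idx F) =
      D.wordMat F (wordAt (intWord u) 1 1) := fun u => by
    rw [hv, h.wordMat_eq_prod, List.map_map]; rfl
  refine Units.ext (Matrix.ext fun row col => ?_)
  rw [he, he, wordMat_apply h.agrees false _ _ _ (fun e => absurd e Bool.false_ne_true),
    wordMat_apply h.agrees false _ _ _ (fun e => absurd e Bool.false_ne_true)]
  exact Twist.ev_eq_of_sameMod p _ _ _ (hc _ (enc_lt h.agrees col))

lemma nW_eq_intWord : ∀ {w : List ℕ}, WordOK T w →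
    nW D F w = ((nIntWord T w).map fun g => X D g.1 (g.2 : F)).prod
  | [], _ => rfl
  | i :: w, hw => by
    have hi := hw.head
    rw [show nIntWord T (i :: w) = _ ++ nIntWord T w from List.flatMap_cons, List.map_append,
      List.prod_append, ← nW_eq_intWord hw.tail, nW_cons, nS, h.simple_eq hi, nU,
      h.neg_eq (h.simple_lt hi)]
    simp [mul_assoc]

lemma commute_X_mod {p : ℕ} [Kills F p] {a b : ℕ} (hc : chkCommuteMod T p a b = true) (t u : F) :
    Commute (X D a t) (X D b u) := by
  simp only [chkCommuteMod, Bool.and_eq_true, List.all_eq_true, decide_eq_true_eq] at hc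
  obtain ⟨ha, hb, hne, hneg, hterm⟩ := hc
  have h1 := h.X_conj ha hb hne hneg t u
  rw [show ((T.commTerms a b).map fun c =>
      X D c.1 ((c.2.1 : F) * (-t) ^ c.2.2.1 * u ^ c.2.2.2)).prod = 1 from
    List.prod_eq_one fun g hg => by
      obtain ⟨c, hc', rfl⟩ := List.mem_map.1 hg
      rw [Kills.intCast_eq_zero (hterm c hc'), zero_mul, zero_mul]
      rcases lt_or_ge c.1 T.n with hlt | hlt
      · exact h.X_zero hlt
      · exact Units.ext (by rw [h.coe_X, x_of_le h.agrees hlt]; rfl),
    mul_one, ← h.X_inv ha] at h1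
  show X D a t * X D b u = X D b u * X D a t
  conv_lhs => rw [← h1]
  group

lemma nS_conj_hU {i : ℕ} (hi : i < T.l) {r : ℕ} (hr : r < T.n) {t : F} (ht : t ≠ 0) :
    nS D F i * hU D r t * (nS D F i)⁻¹ = hU D (T.refl i r) t := by
  rw [mul_inv_eq_iff_eq_mul]
  refine Units.ext ?_
  rw [Units.val_mul, Units.val_mul, h.coe_nS, h.coe_hU, h.coe_hU,
    h.hMat_root hr ht, h.hMat_root (h.refl_lt hi hr) ht, h.nMat_mul_torus hi]
  congr 1
  refine torus_congr D fun s hs => ?_
  have hs' : s < T.n := h.nroots_eq ▸ hs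
  rw [← h.pairing_refl hi hr (h.refl_lt hi hs'), h.refl_refl hi hs']

lemma nW_conj_hU : ∀ {w : List ℕ}, WordOK T w → ∀ {r : ℕ}, r < T.n → ∀ {t : F}, t ≠ 0 →
    nW D F w * hU D r t * (nW D F w)⁻¹ = hU D (rword T w r) t
  | [], _, r, _, t, _ => by simp [nW, rword]
  | i :: w, hw, r, hr, t, ht => by
    rw [nW_cons, rword_cons, ← h.nS_conj_hU hw.head (h.rword_lt hw.tail hr) ht,
      ← nW_conj_hU hw.tail hr ht]
    group

lemma hU_eq_torusHom {r : ℕ} (hr : r < T.n) (u : Fˣ) :
    hU D r (u : F) = torusHom (D := D) (T := T) (fun i : Fin T.l => u ^ T.cor r i) := by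
  refine Units.ext ?_
  show _ = torus D (charOf T (extC T _))
  rw [h.coe_hU, h.hMat_root hr u.ne_zero]
  refine torus_congr D fun s _ => ?_
  rw [← charOf_cor (T := T) r u.ne_zero]
  refine Finset.prod_congr rfl fun i hi => ?_
  simp [extC, Finset.mem_range.1 hi, Units.val_zpow_eq_zpow_val]

end Cert

end CfsgLib.Chev
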