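import Cfsg.Agent.Lib.Chev.TwistDataF4
import Cfsg.Agent.Lib.Chev.TwistFinal
import Cfsg.Agent.Lib.Chev.TwistWord
import Cfsg.Agent.Lib.Chev.OrderData
import Cfsg.Prelude.Def_LieTwisted

/-!
The group `²F₄` as the fixed points of a twist, in characteristic two.
-/

set_option autoImplicit false
set_option maxRecDepth 100000
set_option linter.unusedSectionVars false

namespace CfsgLib.Chev

open Cfsg.Lie Matrix
open Cert (torusHom extC extC_ne_zero)

theorem signTwF4 : ((List.range tabF4.n).all fun r =>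
    decide (twistF4.dg (tabF4.neg r) = twistF4.dg r ∧ twistF4.ep r = 1)) = true := by
  decide +kernel

theorem simpleTwF4 :
    ((List.range tabF4.l).all fun i => decide (twistF4.ep (tabF4.simple i) = 1)) = true := by
  decide +kernel

/-- The inverse of the Cartan matrix of type F4. -/
noncomputable def invCartanF4 : Matrix (Fin tabF4.l) (Fin tabF4.l) ℤ :=
  matOf tabF4.l [[2, 3, 2, 1], [3, 6, 4, 2], [4, 8, 6, 3], [2, 4, 3, 2]]

theorem invCartanF4_mul_smul : invCartanF4 * cartanT tabF4 = ((1 : ℕ) : ℤ) • 1 := by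
  decide +kernel

/-- The representative of the B₂ class, as a product of generators. -/
theorem wordRepF4 : chkWordEq tabF4 2
    [(27, 1), (25, 1), (28, 1), (30, 0), (20, 0), (22, 0), (19, 1), (17, 1), (27, 1), (25, 1),
      (28, 0), (30, 1)] (nIntWord tabF4 [1, 2, 1, 2]) = true := by
  decide +kernel

variable {K : Type*} [Field K] [Fintype K] [CharP K 2] {e : ℕ}

/-- The twist of `F₄(K)` with the field map `f`. -/
noncomputable def endoF4 (f : K →+* K) : Endo certF4 K :=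
  Endo.ofTwist certF4 chkTwistF4 chkFaithImgF4 chkFaithSrcF4 f (RootSym.of_chk chkSymTwF4)
    (fun r hr => by
      have h1 := signTwF4
      simp only [List.all_eq_true, List.mem_range, decide_eq_true_eq] at h1
      refine ⟨(h1 r hr).1, ?_⟩
      rw [(h1 _ (Cert.neg_lt hr)).2, (h1 r hr).2, Int.cast_one, one_mul, CharTwo.neg_eq,
        one_pow])
    simpleTwF4

section

variable (f : K →+* K) (hf : ∀ t, f t = t ^ e)
include hf

lemma τF4_eq {r k : ℕ} (hr : twistF4.ep r = 1 ∧ twistF4.dg r = k) (t : K) :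
    (endoF4 f).τ r t = (t ^ e) ^ k := by
  show (twistF4.ep r : K) * f t ^ twistF4.dg r = _
  rw [hr.1, hr.2, hf]; simp

omit hf in
lemma pow_fullF4 (hK : Fintype.card K = 2 * e ^ 2) (t : K) : ((t ^ e) ^ e) ^ 2 = t := by
  rw [← pow_mul, ← pow_mul, show e * (e * 2) = Fintype.card K by rw [hK]; ring,
    FiniteField.pow_card]

omit hf in
lemma int_cast_one_F4 {k : ℤ} (hk : k * k = 1) : (k : K) = 1 := by
  rcases Int.eq_one_or_neg_one_of_mul_eq_one hk with rfl | rfl
  · exact Int.cast_one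
  · rw [Int.cast_neg, Int.cast_one, CharTwo.neg_eq]

lemma pair_mem_fixF4 (hK : Fintype.card K = 2 * e ^ 2) {r s : ℕ}
    (hr : r < tabF4.n ∧ twistF4.rt r = s ∧ twistF4.ep r = 1 ∧ twistF4.dg r = 2)
    (hs : s < tabF4.n ∧ twistF4.rt s = r ∧ twistF4.ep s = 1 ∧ twistF4.dg s = 1)
    (hc : chkCommute tabF4 r s = true) (t : K) :
    X chevF4 r (t ^ e) * X chevF4 s t ∈ (endoF4 f).fix := by
  have mr := certF4.X_mem_group hr.1 (t ^ e)
  have ms := certF4.X_mem_group hs.1 t
  refine (endoF4 f).mem_fix.2 ⟨mul_mem mr ms, ?_⟩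
  rw [(endoF4 f).act_mul mr ms, (endoF4 f).act_X hr.1, (endoF4 f).act_X hs.1,
    τF4_eq f hf hr.2.2, τF4_eq f hf hs.2.2, pow_one, pow_fullF4 hK]
  show X chevF4 (twistF4.rt r) _ * X chevF4 (twistF4.rt s) _ = _
  rw [hr.2.1, hs.2.1]
  exact (certF4.commute_X hc _ _).eq.symm

lemma class_mem_fixF4 (hK : Fintype.card K = 2 * e ^ 2) {a b c d : ℕ} {k1 k2 : ℤ}
    (ha : a < tabF4.n ∧ twistF4.rt a = b ∧ twistF4.ep a = 1 ∧ twistF4.dg a = 2)
    (hb : b < tabF4.n ∧ twistF4.rt b = a ∧ twistF4.ep b = 1 ∧ twistF4.dg b = 1)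
    (hc : c < tabF4.n ∧ twistF4.rt c = d ∧ twistF4.ep c = 1 ∧ twistF4.dg c = 2)
    (hd : d < tabF4.n ∧ twistF4.rt d = c ∧ twistF4.ep d = 1 ∧ twistF4.dg d = 1)
    (hT : b ≠ a ∧ b ≠ tabF4.neg a ∧ tabF4.commTerms a b = [(c, k1, 1, 1), (d, k2, 2, 1)] ∧
      k1 * k1 = 1 ∧ k2 * k2 = 1 ∧ chkCommute tabF4 c d = true) (t u : K) :
    X chevF4 a (t ^ e) * X chevF4 b t * X chevF4 c (t ^ (e + 1) + u) * X chevF4 d (u ^ (2 * e)) ∈
      (endoF4 f).fix := by
  have ma := certF4.X_mem_group ha.1 (t ^ e)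
  have mb := certF4.X_mem_group hb.1 t
  have mc := certF4.X_mem_group hc.1 (t ^ (e + 1) + u)
  have md := certF4.X_mem_group hd.1 (u ^ (2 * e))
  refine (endoF4 f).mem_fix.2 ⟨mul_mem (mul_mem (mul_mem ma mb) mc) md, ?_⟩
  rw [(endoF4 f).act_mul (mul_mem (mul_mem ma mb) mc) md, (endoF4 f).act_mul (mul_mem ma mb) mc,
    (endoF4 f).act_mul ma mb, (endoF4 f).act_X ha.1, (endoF4 f).act_X hb.1, (endoF4 f).act_X hc.1,
    (endoF4 f).act_X hd.1, τF4_eq f hf ha.2.2, τF4_eq f hf hb.2.2, τF4_eq f hf hc.2.2,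
    τF4_eq f hf hd.2.2, pow_one, pow_one, pow_fullF4 hK]
  show X chevF4 (twistF4.rt a) _ * X chevF4 (twistF4.rt b) _ * X chevF4 (twistF4.rt c) _ *
    X chevF4 (twistF4.rt d) _ = _
  rw [ha.2.1, hb.2.1, hc.2.1, hd.2.1]
  obtain ⟨hne, hneg, hterm, h1, h2, hcd⟩ := hT
  have e1 := certF4.X_conj ha.1 hb.1 hne hneg (t ^ e) t
  simp only [hterm, List.map_cons, List.map_nil, List.prod_cons, List.prod_nil, mul_one,
    int_cast_one_F4 h1, int_cast_one_F4 h2, CharTwo.neg_eq, one_mul, pow_one] at e1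
  have e2 : X chevF4 b t * X chevF4 a (t ^ e) =
      X chevF4 a (t ^ e) * (X chevF4 b t * (X chevF4 c (t ^ (e + 1)) *
        X chevF4 d (t ^ (2 * e + 1)))) := by
    rw [show t ^ (e + 1) = t ^ e * t from pow_succ _ _,
      show t ^ (2 * e + 1) = (t ^ e) ^ 2 * t by rw [← pow_mul, pow_succ, mul_comm 2 e], ← e1,
      ← mul_assoc, ← mul_assoc, certF4.X_add ha.1, CharTwo.add_self_eq_zero,
      certF4.X_zero ha.1, one_mul]
  have e3 : (((t ^ (e + 1) + u) ^ e) ^ 2) = t ^ (2 * e + 1) + u ^ (2 * e) := by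
    rw [← hf, map_add, hf, hf, CharTwo.add_sq, ← pow_mul u, mul_comm e 2]
    congr 1
    rw [← pow_mul, ← pow_mul, show (e + 1) * (e * 2) = 2 * e ^ 2 + 2 * e by ring, pow_add, ← hK,
      FiniteField.pow_card, ← pow_succ']
  have e4 : (u ^ (2 * e)) ^ e = u := by
    rw [← pow_mul, show 2 * e * e = Fintype.card K by rw [hK]; ring, FiniteField.pow_card]
  rw [e3, e4, e2]
  simp only [mul_assoc]
  congr 2
  rw [← mul_assoc (X chevF4 d (t ^ (2 * e + 1))), certF4.X_add hd.1, ← add_assoc,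
    CharTwo.add_self_eq_zero, zero_add, ← (certF4.commute_X hcd u (u ^ (2 * e))).eq, ← mul_assoc,
    certF4.X_add hc.1]

lemma f4Pair_prod {r s : ℕ} (t : K) :
    ((f4PairWord e r s t).map fun p => X chevF4 p.1 p.2).prod =
      X chevF4 r (t ^ e) * X chevF4 s t := by simp [f4PairWord]

lemma b2Class_prod {a b c d : ℕ} (t u : K) :
    ((b2ClassWord e a b c d t u).map fun p => X chevF4 p.1 p.2).prod =
      X chevF4 a (t ^ e) * X chevF4 b t * X chevF4 c (t ^ (e + 1) + u) *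
        X chevF4 d (u ^ (2 * e)) := by simp [b2ClassWord, mul_assoc]

theorem twistedF4_le_fix (hK : Fintype.card K = 2 * e ^ 2) :
    twistedF4 K e ≤ (endoF4 f).fix := by
  refine certF4.genSubgroup_le ?_
  rintro w (⟨t, rfl | rfl⟩ | ⟨t, u, rfl | rfl⟩)
  · rw [f4Pair_prod f hf]
    exact pair_mem_fixF4 f hf hK (by decide +kernel) (by decide +kernel) (by decide +kernel) t
  · rw [f4Pair_prod f hf]
    exact pair_mem_fixF4 f hf hK (by decide +kernel) (by decide +kernel) (by decide +kernel) t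
  · rw [b2Class_prod f hf]
    exact class_mem_fixF4 f hf hK (k1 := -1) (k2 := -1) (by decide +kernel) (by decide +kernel)
      (by decide +kernel) (by decide +kernel) (by decide +kernel) t u
  · rw [b2Class_prod f hf]
    exact class_mem_fixF4 f hf hK (k1 := 1) (k2 := -1) (by decide +kernel) (by decide +kernel)
      (by decide +kernel) (by decide +kernel) (by decide +kernel) t u

lemma nU_pair_memF4 (t : K) :
    nU chevF4 f4p1 (t ^ e) * nU chevF4 f4p4 t ∈ twistedF4 K e := by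
  have e0 := certF4.prod_nU [(f4p1, t ^ e), (f4p4, t)] (by
    intro p hp
    simp only [List.mem_cons, List.not_mem_nil, or_false] at hp
    rcases hp with rfl | rfl
    · exact (by decide +kernel : f4p1 < tabF4.n)
    · exact (by decide +kernel : f4p4 < tabF4.n)) (by decide +kernel : chkPairwise tabF4 [f4p1, f4p4] = true)
  simp only [List.map_cons, List.map_nil, List.prod_cons, List.prod_nil, mul_one] at e0
  rw [e0]
  obtain ⟨n1, n4⟩ : tabF4.neg f4p1 = f4m1 ∧ tabF4.neg f4p4 = f4m4 := by decide +kernel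
  have m1 := certF4.prod_mem_genSubgroup (F := K) (S := f4Words K e)
    (w := f4PairWord e f4p1 f4p4 t) (Or.inl ⟨t, Or.inl rfl⟩)
  have m2 := certF4.prod_mem_genSubgroup (F := K) (S := f4Words K e)
    (w := f4PairWord e f4m1 f4m4 (-t⁻¹)) (Or.inl ⟨-t⁻¹, Or.inr rfl⟩)
  rw [f4Pair_prod f hf] at m1 m2
  rw [n1, n4, show -(t ^ e)⁻¹ = (-t⁻¹) ^ e by rw [← hf, ← hf, map_neg, map_inv₀]]
  exact mul_mem (mul_mem m1 m2) m1

omit hf in
lemma nS_simpleF4 {i : ℕ} (hi : i < tabF4.l) : nS chevF4 K i = nU chevF4 (tabF4.simple i) 1 := by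
  rw [nS, certF4.simple_eq hi]

omit hf in
lemma wordOK_F4 : WordOK tabF4 [1, 2, 1, 2] := wordOK_of_all (by decide +kernel)

theorem rep_memF4 : nW chevF4 K [1, 2, 1, 2] ∈ twistedF4 K e := by
  rw [certF4.nW_eq_intWord wordOK_F4, ← certF4.prod_eq_of_chk (p := 2) wordRepF4]
  rcases Nat.eq_zero_or_pos e with rfl | he
  · have h0 : f 0 = 1 := by rw [hf, pow_zero]
    exact absurd (h0.symm.trans (map_zero f)) one_ne_zero
  have hw : ∀ (a b c d : ℕ), (a = f4a ∧ b = f4b ∧ c = f4ab ∧ d = f4aab) ∨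
      (a = f4ma ∧ b = f4mb ∧ c = f4mab ∧ d = f4maab) → ∀ t u : K,
      X chevF4 a (t ^ e) * X chevF4 b t * X chevF4 c (t ^ (e + 1) + u) *
        X chevF4 d (u ^ (2 * e)) ∈ twistedF4 K e := by
    intro a b c d h t u
    rw [← b2Class_prod f hf]
    refine certF4.prod_mem_genSubgroup (Or.inr ⟨t, u, ?_⟩)
    rcases h with ⟨rfl, rfl, rfl, rfl⟩ | ⟨rfl, rfl, rfl, rfl⟩
    · exact Or.inl rfl
    · exact Or.inr rfl
  have m1 := hw f4a f4b f4ab f4aab (Or.inl ⟨rfl, rfl, rfl, rfl⟩) 1 0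
  have m2 := hw f4ma f4mb f4mab f4maab (Or.inr ⟨rfl, rfl, rfl, rfl⟩) 0 1
  have m3 := hw f4a f4b f4ab f4aab (Or.inl ⟨rfl, rfl, rfl, rfl⟩) 1 1
  have := mul_mem (mul_mem m1 m2) m3
  simpa [mul_assoc, f4a, f4b, f4ab, f4aab, f4ma, f4mb, f4mab, f4maab, zero_pow he.ne',
    zero_pow (show 2 * e ≠ 0 by omega), zero_pow (show e + 1 ≠ 0 by omega),
    CharTwo.add_self_eq_zero] using this

theorem repsF4 (hK : Fintype.card K = 2 * e ^ 2) :
    (endoF4 f).Reps (twistedF4 K e) dataTwF4.CL := by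
  have hle := twistedF4_le_fix f hf hK
  have hword : ∀ w, WordOK tabF4 w → nW chevF4 K w ∈ twistedF4 K e →
      ∃ m ∈ twistedF4 K e, m ∈ (endoF4 f).fix ∧ m ∈ chevF4.monomialSubgroup K ∧
        ∀ r < tabF4.n, Maps chevF4 m r (rword tabF4 w r) := fun w hw hm =>
    ⟨_, hm, hle hm, certF4.nW_mem_monomial hw, fun r hr => certF4.Maps_nW hw hr⟩
  intro c hc
  simp only [dataTwF4, List.mem_cons, List.not_mem_nil, or_false] at hc
  rcases hc with rfl | rfl
  · refine hword [0, 3] (wordOK_of_all (by decide +kernel)) ?_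
    have := nU_pair_memF4 f hf (1 : K)
    rw [one_pow] at this
    simpa [nW, nS_simpleF4 (show 0 < tabF4.l by decide), nS_simpleF4 (show 3 < tabF4.l by decide),
      show tabF4.simple 0 = f4p1 by decide +kernel,
      show tabF4.simple 3 = f4p4 by decide +kernel] using this
  · exact hword [1, 2, 1, 2] wordOK_F4 (rep_memF4 f hf)

lemma torF4_val {c : Fin tabF4.l → Kˣ} (i : Fin tabF4.l) :
    (endoF4 f).tor c ((endoF4 f).πf i) = c i ^ (e * ([2, 2, 1, 1] : List ℕ).getD i 0) := by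
  refine Units.ext ?_
  have hs : ∀ j : Fin tabF4.l, twistF4.ep (tabF4.simple j) = 1 ∧
      twistF4.dg (tabF4.simple j) = ([2, 2, 1, 1] : List ℕ).getD j 0 := by
    decide +kernel
  rw [(endoF4 f).tor_val, τF4_eq f hf (hs i), Units.val_pow_eq_pow_val, pow_mul]

lemma fix_paramF4_eq (hK : Fintype.card K = 2 * e ^ 2) {c : Fin tabF4.l → Kˣ} :
    (endoF4 f).tor c = c ↔
      c ⟨0, by decide⟩ = c ⟨3, by decide⟩ ^ e ∧ c ⟨1, by decide⟩ = c ⟨2, by decide⟩ ^ e := by
  have hu : ∀ u : Kˣ, (u ^ e) ^ (e * 2) = u := fun u => Units.ext (by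
    rw [Units.val_pow_eq_pow_val, Units.val_pow_eq_pow_val, pow_mul, pow_fullF4 hK])
  constructor
  · intro hc
    have h1 := fun i => (torF4_val f hf (c := c) i).symm.trans (congrFun hc _)
    exact ⟨((h1 ⟨3, by decide⟩).symm.trans (congrArg (c ⟨3, by decide⟩ ^ ·) (mul_one e))),
      ((h1 ⟨2, by decide⟩).symm.trans (congrArg (c ⟨2, by decide⟩ ^ ·) (mul_one e)))⟩
  · rintro ⟨h0, h1⟩
    funext k
    obtain ⟨j, rfl⟩ := (Finite.injective_iff_surjective.1 (endoF4 f).πf_injective) k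
    rw [torF4_val f hf]
    obtain ⟨j, hj⟩ := j
    have hj' : j < 4 := hj
    interval_cases j
    · show c ⟨0, hj⟩ ^ (e * 2) = c ⟨3, _⟩
      rw [h0, hu]
    · show c ⟨1, hj⟩ ^ (e * 2) = c ⟨2, _⟩
      rw [h1, hu]
    · show c ⟨2, hj⟩ ^ (e * 1) = c ⟨1, _⟩
      rw [h1, mul_one]
    · show c ⟨3, hj⟩ ^ (e * 1) = c ⟨0, _⟩
      rw [h0, mul_one]

omit hf in
lemma ker_trivialF4 {z : Fin tabF4.l → Kˣ}
    (hz : z ∈ (torusHom (D := chevF4) (T := tabF4) (F := K)).ker) : z = 1 :=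
  funext fun i => (pow_one _).symm.trans (certF4.ker_pow invCartanF4_mul_smul hz i)

theorem exists_fix_paramF4 {c : Fin tabF4.l → Kˣ}
    (hz : c⁻¹ * (endoF4 f).tor c ∈ (torusHom (D := chevF4) (T := tabF4) (F := K)).ker) :
    ∃ c', (endoF4 f).tor c' = c' ∧
      torusHom (D := chevF4) (T := tabF4) c' = torusHom (D := chevF4) (T := tabF4) c :=
  ⟨c, (inv_mul_eq_one.1 (ker_trivialF4 hz)).symm, rfl⟩

omit hf in
lemma coprime_F4 (hK : Fintype.card K = 2 * e ^ 2) :
    (Nat.card Kˣ).Coprime (2 * (e + 1)) := by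
  rw [Nat.card_units, Nat.card_eq_fintype_card, hK]
  rcases e with _ | k
  · have := Fintype.card_pos (α := K); omega
  have e1 : 2 * (k + 1) ^ 2 - 1 = 2 * k * (k + 2) + 1 := by
    have : 2 * (k + 1) ^ 2 = 2 * k * (k + 2) + 2 := by ring
    omega
  rw [e1]
  refine Nat.Coprime.mul_right ?_ ?_
  · rw [Nat.coprime_comm, Nat.prime_two.coprime_iff_not_dvd]
    rintro ⟨a, ha⟩
    rw [show 2 * k * (k + 2) = 2 * (k * (k + 2)) by ring] at ha
    omega
  · rw [Nat.coprime_comm, show 2 * k * (k + 2) + 1 = 1 + (k + 1 + 1) * (2 * k) by ring,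
      Nat.coprime_add_mul_left_right]
    simp

theorem torusF4 (hK : Fintype.card K = 2 * e ^ 2) :
    (endoF4 f).fix ⊓ chevF4.diagonalSubgroup K ≤ twistedF4 K e := by
  intro g hg
  obtain ⟨c, rfl, hz⟩ := (endoF4 f).exists_param hg
  obtain ⟨c', hc', e'⟩ := exists_fix_paramF4 f hf hz
  rw [← e']
  obtain ⟨h0, h1⟩ := (fix_paramF4_eq f hf hK).1 hc'
  let A : Kˣ → Fin tabF4.l → Kˣ := fun u i => ([u ^ e, 1, 1, u] : List Kˣ).getD i 1
  let B : Kˣ → Fin tabF4.l → Kˣ := fun v i =>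
    ([1, v ^ (2 * e + 1), v ^ (2 * (e + 1)), 1] : List Kˣ).getD i 1
  have hN : ∀ u : Kˣ, hU chevF4 f4p1 ((u : K) ^ e) * hU chevF4 f4p4 (u : K) ∈ twistedF4 K e := by
    intro u
    have m1 := nU_pair_memF4 f hf (u : K)
    have m2 := nU_pair_memF4 f hf (-1 : K)
    have hn : (-1 : K) ^ e = -1 := by rw [← hf, map_neg, map_one]
    rw [hn] at m2
    have hc := certF4.commute_nU (F := K) (a := f4p1) (b := f4p4) (by decide +kernel)
      (by decide +kernel) (by decide +kernel) (-1) (u : K)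
    have := mul_mem m1 m2
    rw [show nU chevF4 f4p1 ((u : K) ^ e) * nU chevF4 f4p4 (u : K) *
        (nU chevF4 f4p1 (-1 : K) * nU chevF4 f4p4 (-1 : K)) =
      nU chevF4 f4p1 ((u : K) ^ e) * nU chevF4 f4p1 (-1 : K) *
        (nU chevF4 f4p4 (u : K) * nU chevF4 f4p4 (-1 : K)) from ?_] at this
    · exact this
    · rw [mul_assoc, ← mul_assoc (nU chevF4 f4p4 (u : K)), ← hc.eq]; group
  have hAu : ∀ u : Kˣ, torusHom (D := chevF4) (T := tabF4) (A u) ∈ twistedF4 K e := by
    intro u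
    have := hN u
    rw [← Units.val_pow_eq_pow_val, certF4.hU_eq_torusHom (by decide +kernel),
      certF4.hU_eq_torusHom (by decide +kernel), ← map_mul] at this
    convert this using 2
    have hcor : ∀ i : Fin tabF4.l, tabF4.cor f4p1 i = ([1, 0, 0, 0] : List ℤ).getD i 0 ∧
        tabF4.cor f4p4 i = ([0, 0, 0, 1] : List ℤ).getD i 0 := by decide +kernel
    funext i
    simp only [Pi.mul_apply, (hcor i).1, (hcor i).2]
    obtain ⟨i, hi⟩ := i
    have hi' : i < 4 := hi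
    interval_cases i <;> simp [A]
  have hAB : ∀ u : Kˣ, torusHom (D := chevF4) (T := tabF4) (A u * B u) ∈ twistedF4 K e := by
    intro u
    have := mul_mem (mul_mem (rep_memF4 f hf) (hN u)) (inv_mem (rep_memF4 f hf))
    rw [← conj_mul, certF4.nW_conj_hU wordOK_F4 (by decide +kernel)
        (pow_ne_zero _ u.ne_zero), certF4.nW_conj_hU wordOK_F4 (by decide +kernel) u.ne_zero,
      ← Units.val_pow_eq_pow_val, certF4.hU_eq_torusHom (by decide +kernel),
      certF4.hU_eq_torusHom (by decide +kernel), ← map_mul] at this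
    convert this using 2
    have hcor : ∀ i : Fin tabF4.l,
        tabF4.cor (rword tabF4 [1, 2, 1, 2] f4p1) i = ([1, 2, 2, 0] : List ℤ).getD i 0 ∧
        tabF4.cor (rword tabF4 [1, 2, 1, 2] f4p4) i = ([0, 1, 2, 1] : List ℤ).getD i 0 := by
      decide +kernel
    funext i
    simp only [Pi.mul_apply, (hcor i).1, (hcor i).2]
    obtain ⟨i, hi⟩ := i
    have hi' : i < 4 := hi
    interval_cases i <;> simp [A, B]
    · rw [← pow_mul, ← pow_succ, mul_comm]
    · rw [← pow_mul, ← pow_add, show 2 * (e + 1) = e * 2 + 2 by ring]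
  obtain ⟨v, hv⟩ := (powCoprime (coprime_F4 hK)).surjective (c' ⟨2, by decide⟩)
  have hv' : v ^ (2 * (e + 1)) = c' ⟨2, by decide⟩ := hv
  rw [show c' = A (c' ⟨3, by decide⟩) * (A v)⁻¹ * (A v * B v) from ?_, map_mul, map_mul, map_inv]
  · exact mul_mem (mul_mem (hAu _) (inv_mem (hAu v))) (hAB v)
  · rw [mul_assoc, inv_mul_cancel_left]
    funext i
    obtain ⟨i, hi⟩ := i
    have hi' : i < 4 := hi
    interval_cases i
    · simpa [A, B] using h0
    · rw [h1, ← hv']
      simp only [A, B, Pi.mul_apply, List.getD_cons_succ, List.getD_cons_zero, one_mul]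
      refine Units.ext ?_
      rw [Units.val_pow_eq_pow_val, Units.val_pow_eq_pow_val, Units.val_pow_eq_pow_val,
        ← pow_mul, show 2 * (e + 1) * e = Fintype.card K + 2 * e by rw [hK]; ring, pow_add,
        FiniteField.pow_card, ← pow_succ']
    · simpa [A, B] using hv'.symm
    · simp [A, B]

omit hf in
lemma dataOK_F4 : (endoF4 f).DataOK dataTwF4 := Endo.DataOK.of_chk _ chkDataTwF4

lemma base_cardF4 (hK : Fintype.card K = 2 * e ^ 2) :
    ∀ b ∈ dataTwF4.base, Nat.card ((endoF4 f).Adm b) ^ 2 = Fintype.card K ^ b.size := by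
  intro b hb
  simp only [dataTwF4, List.mem_cons, List.not_mem_nil, or_false] at hb
  have key : ∀ t : K, ((t ^ e) ^ e) ^ 2 = t := pow_fullF4 hK
  rcases hb with rfl | rfl | rfl
  · rw [Endo.card_adm_univ _ (fun t => ?_), Nat.card_eq_fintype_card]
    show (endoF4 f).τ (twistF4.rt 24) ((endoF4 f).τ 24 t) = t
    rw [τF4_eq f hf (k := 2) (by decide +kernel), τF4_eq f hf (k := 1) (by decide +kernel),
      pow_one, key]
  · rw [Endo.card_adm_univ _ (fun t => ?_), Nat.card_eq_fintype_card]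
    show (endoF4 f).τ (twistF4.rt 25) ((endoF4 f).τ 25 t) = t
    rw [τF4_eq f hf (k := 2) (by decide +kernel), τF4_eq f hf (k := 1) (by decide +kernel),
      pow_one, key]
  · rw [Endo.card_adm_univ _ (fun t => ?_), Nat.card_eq_fintype_card]
    show (endoF4 f).τ (twistF4.rt 28) ((endoF4 f).τ 28 t) = t
    rw [τF4_eq f hf (k := 1) (by decide +kernel), τF4_eq f hf (k := 2) (by decide +kernel),
      pow_one, ← pow_mul, ← pow_mul, show e * (2 * e) = Fintype.card K by rw [hK]; ring,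
      FiniteField.pow_card]

lemma lift_baseF4 (hK : Fintype.card K = 2 * e ^ 2) :
    ∀ b ∈ dataTwF4.base, (endoF4 f).Lift (twistedF4 K e) b := by
  have hle := twistedF4_le_fix f hf hK
  have he : e ≠ 0 := fun he => by
    have := Fintype.card_pos (α := K); rw [hK, he] at this; simp at this
  intro b hb
  refine Endo.lift_of_word _ chkBaseTwF4 hb fun t ht => ?_
  have key : ∀ w : List (ℕ × K), w ∈ f4Words K e →
      (w.map fun p => X chevF4 p.1 p.2).prod ∈ twistedF4 K e ∧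
      (w.map fun p => X chevF4 p.1 p.2).prod ∈ (endoF4 f).fix := fun w hw =>
    ⟨certF4.prod_mem_genSubgroup hw, hle (certF4.prod_mem_genSubgroup hw)⟩
  simp only [dataTwF4, List.mem_cons, List.not_mem_nil, or_false] at hb
  rcases hb with rfl | rfl | rfl
  · obtain ⟨k1, k2⟩ := key (f4PairWord e f4p1 f4p4 t) (Or.inl ⟨t, Or.inl rfl⟩)
    refine ⟨_, ?_, k1, k2, ?_⟩
    · simp [f4PairWord, Orb.list, List.range_succ, show (endoF4 f).ρ 24 = f4p1 from
        (by decide +kernel : twistF4.rt 24 = f4p1), f4p4]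
    · simp [f4PairWord, f4p1, f4p4]
  · obtain ⟨k1, k2⟩ := key (b2ClassWord e f4a f4b f4ab f4aab t 0) (Or.inr ⟨t, 0, Or.inl rfl⟩)
    refine ⟨_, ?_, k1, k2, ?_⟩
    · simp [b2ClassWord, Orb.list, List.range_succ, show (endoF4 f).ρ 25 = f4a from
        (by decide +kernel : twistF4.rt 25 = f4a), f4b, f4ab, f4aab]
    · simp [b2ClassWord, f4a, f4b, f4ab, f4aab]
  · obtain ⟨k1, k2⟩ := key (b2ClassWord e f4a f4b f4ab f4aab 0 t) (Or.inr ⟨0, t, Or.inl rfl⟩)
    have hred : ((b2ClassWord e f4a f4b f4ab f4aab 0 t).map fun p => X chevF4 p.1 p.2).prod =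
        (([(f4ab, t), (f4aab, t ^ (2 * e))] : List (ℕ × K)).map
          fun p => X chevF4 p.1 p.2).prod := by
      simp [b2ClassWord, zero_pow he, certF4.X_zero (show f4a < tabF4.n by decide +kernel),
        certF4.X_zero (show f4b < tabF4.n by decide +kernel)]
    rw [hred] at k1 k2
    refine ⟨_, ?_, k1, k2, ?_⟩
    · simp [Orb.list, List.range_succ, show (endoF4 f).ρ 28 = f4aab from
        (by decide +kernel : twistF4.rt 28 = f4aab), f4ab]
    · simp [f4ab, f4aab]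

theorem stdF4 (hK : Fintype.card K = 2 * e ^ 2) : (endoF4 f).Std dataTwF4 (twistedF4 K e) :=
  ⟨dataOK_F4 f, repsF4 f hf hK, torusF4 f hf hK, lift_baseF4 f hf hK⟩

theorem hcardF4 (hK : Fintype.card K = 2 * e ^ 2) :
    ∀ o ∈ dataTwF4.L, Nat.card ((endoF4 f).Adm o) ^ 2 = Fintype.card K ^ o.size := by
  intro o ho
  obtain ⟨-, b, hb, e1, e2⟩ := (stdF4 f hf hK).lifts _ o ho
  rw [e1, e2]
  exact base_cardF4 f hf hK b hb

theorem fix_eq_twistedF4 (hK : Fintype.card K = 2 * e ^ 2) :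
    (endoF4 f).fix = twistedF4 K e :=
  le_antisymm ((endoF4 f).fix_le (stdF4 f hf hK) (hcardF4 f hf hK))
    (twistedF4_le_fix f hf hK)

theorem std_fixF4 (hK : Fintype.card K = 2 * e ^ 2) :
    (endoF4 f).Std dataTwF4 (endoF4 f).fix := by
  rw [fix_eq_twistedF4 f hf hK]; exact stdF4 f hf hK

theorem card_posF4 (hK : Fintype.card K = 2 * e ^ 2) :
    Nat.card ↥((endoF4 f).fix ⊓ chevF4.posUnipotent K) = Fintype.card K ^ 12 := by
  have := ((endoF4 f).fix_posUnipotent (dataOK_F4 f)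
    (fun o ho => ((stdF4 f hf hK).lifts _ o ho).1) (hcardF4 f hf hK)).2
  rw [show tabF4.half = 12 * 2 by decide +kernel, pow_mul] at this
  exact Nat.pow_left_injective two_ne_zero this

theorem card_diagF4 (hK : Fintype.card K = 2 * e ^ 2) :
    Nat.card ↥((endoF4 f).fix ⊓ chevF4.diagonalSubgroup K) = (Fintype.card K - 1) ^ 2 := by
  have h := (endoF4 f).card_diag_fix fun c hc => exists_fix_paramF4 f hf hc
  have hker : Nat.card ↥((torusHom (D := chevF4) (T := tabF4) (F := K)).ker ⊓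
      (endoF4 f).fixPar) = 1 :=
    Subgroup.card_eq_one.2 (eq_bot_iff.2 fun z hz => Subgroup.mem_bot.2 (ker_trivialF4 hz.1))
  let mkC : Kˣ × Kˣ → Fin tabF4.l → Kˣ := fun p i =>
    ([p.1 ^ e, p.2 ^ e, p.2, p.1] : List Kˣ).getD i 1
  have e1 : Nat.card ↥(endoF4 f).fixPar = Nat.card (Kˣ × Kˣ) := by
    refine Nat.card_congr
      { toFun := fun c => (c.1 ⟨3, by decide⟩, c.1 ⟨2, by decide⟩)
        invFun := fun p => ⟨mkC p, (fix_paramF4_eq f hf hK).2 ⟨rfl, rfl⟩⟩
        left_inv := fun c => Subtype.ext (funext fun i => ?_)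
        right_inv := fun p => rfl }
    obtain ⟨h0, h1⟩ := (fix_paramF4_eq f hf hK).1 c.2
    obtain ⟨i, hi⟩ := i
    have hi' : i < 4 := hi
    interval_cases i
    · exact h0.symm
    · exact h1.symm
    · rfl
    · rfl
  rw [hker, one_mul, e1, Nat.card_prod, Nat.card_units, Nat.card_eq_fintype_card (α := K)] at h
  rw [h, sq]

theorem card_twistF4 (hK : Fintype.card K = 2 * e ^ 2) :
    Nat.card ↥(endoF4 f).fix = Fintype.card K ^ 12 * (Fintype.card K - 1) *
      (Fintype.card K ^ 3 + 1) * (Fintype.card K ^ 4 - 1) * (Fintype.card K ^ 6 + 1) := by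
  rw [(endoF4 f).card_fix (stdF4 f hf hK) two_ne_zero (hcardF4 f hf hK) chkElemsTwF4
      dvdElemsTwF4, card_posF4 f hf hK, card_diagF4 f hf hK,
    sum_elems (Q := Fintype.card K) leElemsTwF4 countElemsTwF4]
  have hp : ∀ i, 1 ≤ Fintype.card K ^ i := fun i => Nat.one_le_pow _ _ Fintype.card_pos
  apply Nat.cast_injective (R := ℤ)
  simp only [List.range_succ, List.range_zero, List.nil_append, List.cons_append,
    List.map_cons, List.map_nil, List.sum_cons, List.sum_nil,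
    List.getD_cons_zero, List.getD_cons_succ]
  push_cast [Nat.cast_sub (show 1 ≤ Fintype.card K from Fintype.card_pos), Nat.cast_sub (hp _)]
  ring

theorem perfect_fixF4 (hK : Fintype.card K = 2 * e ^ 2) (he : 2 ≤ e) :
    commutator ↥(endoF4 f).fix = ⊤ := by
  have heq := fix_eq_twistedF4 f hf hK
  have hstd := std_fixF4 f hf hK
  obtain ⟨g, hg⟩ := IsCyclic.exists_generator (α := Kˣ)
  have ho : orderOf g = Fintype.card K - 1 := by
    rw [orderOf_eq_card_of_forall_mem_zpowers hg, Nat.card_units, Nat.card_eq_fintype_card]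
  have hee : 4 * e ≤ 2 * e ^ 2 := by nlinarith
  have hpow : ∀ n, 0 < n → n < Fintype.card K - 1 → (g : K) ^ n ≠ 1 := fun n h0 h1 h2 => by
    have := Nat.le_of_dvd h0 (orderOf_dvd_of_pow_eq_one
      (Units.ext (by rwa [Units.val_pow_eq_pow_val, Units.val_one]) : g ^ n = 1))
    omega
  have hchar : ∀ (c : Fin tabF4.l → Kˣ) (r : ℕ), charOf tabF4 (extC tabF4 c) r =
      ∏ i : Fin 4, (c i : K) ^ tabF4.car i r := fun c r => by
    rw [charOf, show tabF4.l = 4 from rfl, Finset.prod_range]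
    exact Finset.prod_congr rfl fun i _ => by simp [extC, show tabF4.l = 4 from rfl]; rfl
  refine (endoF4 f).perfect_fix (dataOK_F4 f) hstd.reps ?_ (hcardF4 f hf hK) ?_
  · intro b hb
    have hl : (endoF4 f).Lift (endoF4 f).fix b := hstd.lift b hb
    let cA : Fin tabF4.l → Kˣ := fun i => ([g ^ e, 1, 1, g] : List Kˣ).getD i 1
    let cC : Fin tabF4.l → Kˣ := fun i => ([1, g ^ e, g, 1] : List Kˣ).getD i 1
    have hA : (endoF4 f).tor cA = cA := (fix_paramF4_eq f hf hK).2 ⟨rfl, (one_pow e).symm⟩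
    have hC : (endoF4 f).tor cC = cC := (fix_paramF4_eq f hf hK).2 ⟨(one_pow e).symm, rfl⟩
    simp only [dataTwF4, List.mem_cons, List.not_mem_nil, or_false] at hb
    rcases hb with rfl | rfl | rfl
    · refine Endo.Lift.comm _ chkBaseTwF4 (by simp [dataTwF4])
        (by decide +kernel : twistF4.rt^[2] 24 = 24) ((endoF4 f).torusHom_mem_fix hA)
        (fun i _ => extC_ne_zero cA i) rfl ?_ hl
      rw [hchar, Fin.prod_univ_four]
      simp [-sq_eq_one_iff, cA, show tabF4.car 0 24 = 0 by decide +kernel,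
        show tabF4.car 3 24 = 2 by decide +kernel, zpow_ofNat]
      exact hpow 2 two_pos (by omega)
    · refine Endo.Lift.comm _ chkBaseTwF4 (by simp [dataTwF4])
        (by decide +kernel : twistF4.rt^[2] 25 = 25) ((endoF4 f).torusHom_mem_fix hC)
        (fun i _ => extC_ne_zero cC i) rfl ?_ hl
      rw [hchar, Fin.prod_univ_four]
      simp [cC, show tabF4.car 1 25 = -2 by decide +kernel,
        show tabF4.car 2 25 = 2 by decide +kernel, zpow_ofNat, _root_.zpow_neg]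
      rw [inv_mul_eq_one₀ (pow_ne_zero _ (pow_ne_zero _ g.ne_zero)), ← pow_mul]
      intro e1
      refine hpow (e * 2 - 2) (by omega) (by omega) ?_
      exact mul_right_cancel₀ (pow_ne_zero 2 g.ne_zero)
        (by rw [one_mul, ← pow_add, Nat.sub_add_cancel (by omega)]; exact e1)
    · refine Endo.Lift.comm _ chkBaseTwF4 (by simp [dataTwF4])
        (by decide +kernel : twistF4.rt^[2] 28 = 28) ((endoF4 f).torusHom_mem_fix hC)
        (fun i _ => extC_ne_zero cC i) rfl ?_ hl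
      rw [hchar, Fin.prod_univ_four]
      simp [cC, show tabF4.car 1 28 = 0 by decide +kernel,
        show tabF4.car 2 28 = 1 by decide +kernel]
      exact fun e1 => hpow 1 one_pos (by omega) (by rw [e1, Units.val_one, one_pow])
  · refine Endo.fix_le_pos_neg _ heq.le (twistedF4_le_fix f hf hK) ?_ ?_
    · rintro w (⟨t, rfl | rfl⟩ | ⟨t, u, rfl | rfl⟩) p hp <;>
        simp only [f4PairWord, b2ClassWord, List.mem_cons, List.not_mem_nil, or_false] at hp <;>
        rcases hp with rfl | rfl | rfl | rfl <;> (dsimp only; decide +kernel)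
    · rw [show tabF4.half = 24 by decide +kernel]
      rintro w (⟨t, rfl | rfl⟩ | ⟨t, u, rfl | rfl⟩) <;>
        simp only [f4PairWord, b2ClassWord, List.mem_cons, List.not_mem_nil, or_false,
          forall_eq_or_imp, forall_eq] <;> decide

end

theorem charTwo_F4 {K : Type*} [Field K] [Fintype K] {m : ℕ}
    (hK : Fintype.card K = 2 ^ (2 * m + 1)) : CharP K 2 :=
  haveI : Fact (Nat.Prime 2) := ⟨Nat.prime_two⟩
  charP_of_card_eq_prime_pow hK

theorem setupF4 {K : Type*} [Field K] [Fintype K] [CharP K 2] {m : ℕ}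
    (hK : Fintype.card K = 2 ^ (2 * m + 1)) :
    ∃ f : K →+* K, (∀ t, f t = t ^ 2 ^ m) ∧ Fintype.card K = 2 * (2 ^ m) ^ 2 :=
  ⟨iterateFrobenius K 2 m, fun t => iterateFrobenius_def 2 m t, by rw [hK]; ring⟩

end CfsgLib.Chev
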