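import Cfsg.Agent.Lib.Chev.TwistG2Torus

/-!
The small Ree group as a group of rank one: two Bruhat cells, Sylow 3-subgroups, point stabilizers.
-/

set_option autoImplicit false
set_option maxRecDepth 100000
set_option linter.unusedSectionVars false

namespace CfsgLib.Chev

open Cfsg.Lie Matrix
open Cert (torusHom extC extC_ne_zero)
open scoped Pointwise

theorem longSwapG2 : ((List.range tabG2.n).all fun r =>
    decide (tabG2.half ≤ rword tabG2 [0, 1, 0, 1, 0, 1] r ↔ r < tabG2.half)) = true := by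
  decide +kernel

variable {K : Type*} [Field K] [Fintype K] [CharP K 3] {e : ℕ} (f : K →+* K)
  (hf : ∀ t, f t = t ^ e)
include hf

omit hf in
lemma long_word_okG2 : WordOK tabG2 [0, 1, 0, 1, 0, 1] := wordOK_of_all (by decide +kernel)

/-- The representative of the nontrivial cell. -/
noncomputable def n0G2 (K : Type*) [Field K] : GL chevG2.Idx K := nW chevG2 K [0, 1, 0, 1, 0, 1]

lemma n0G2_mem (hK : Fintype.card K = 3 * e ^ 2) : n0G2 K ∈ (endoG2 f).fix :=
  twistedG2_le_fix f hf hK (long_memG2 f hf)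

omit hf in
lemma n0G2_monomial : n0G2 K ∈ chevG2.monomialSubgroup K :=
  certG2.nW_mem_monomial long_word_okG2

omit hf in
lemma n0G2_conj_pos {x : GL chevG2.Idx K} (hx : x ∈ chevG2.posUnipotent K) :
    n0G2 K * x * (n0G2 K)⁻¹ ∈ chevG2.negUnipotent K ∧
      (n0G2 K)⁻¹ * x * n0G2 K ∈ chevG2.negUnipotent K := by
  have hs := longSwapG2
  simp only [List.all_eq_true, List.mem_range, decide_eq_true_eq] at hs
  rw [certG2.posUnipotent_eq] at hx
  rw [certG2.negUnipotent_eq]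
  have hw := long_word_okG2
  constructor
  · exact Cert.conj_gen_le (S' := {r | r < tabG2.half}) (fun r hr =>
      ⟨_, not_le.1 fun h => absurd ((hs r hr.2).1 h) (not_lt.2 hr.1),
        certG2.Maps_nW hw hr.2⟩) hx
  · have key := Cert.conj_gen_le (g := (n0G2 K)⁻¹) (S' := {r | r < tabG2.half})
      (fun r (hr : r ∈ posSet tabG2) => ?_) hx
    · rwa [inv_inv] at key
    have hwr : WordOK tabG2 [0, 1, 0, 1, 0, 1].reverse := fun i hi => hw i (List.mem_reverse.1 hi)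
    have hy := certG2.rword_lt hwr hr.2
    refine ⟨rword tabG2 [0, 1, 0, 1, 0, 1].reverse r, ?_, ?_⟩
    · exact (hs _ hy).1 (by rw [certG2.rword_reverse hw hr.2]; exact hr.1)
    · have h1 := Cert.Maps_inv (certG2.Maps_nW (F := K) hw hy)
      rwa [certG2.rword_reverse hw hr.2] at h1

omit hf in
lemma n0G2_maps : ∀ r < tabG2.n, Maps chevG2 (n0G2 K) r (rword tabG2 [0, 1, 0, 1, 0, 1] r) :=
  fun _ hr => certG2.Maps_nW long_word_okG2 hr

lemma n0G2_sq : n0G2 K * n0G2 K ∈ chevG2.diagonalSubgroup K := by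
  have hok : WordOK tabG2 ([0, 1, 0, 1, 0, 1] ++ [0, 1, 0, 1, 0, 1]) := fun a ha =>
    (List.mem_append.1 ha).elim (long_word_okG2 a) (long_word_okG2 a)
  have h := Endo.diag_of_same_perm (h := certG2) (m := (1 : GL chevG2.Idx K))
    (n := n0G2 K * n0G2 K) (w := []) (fun i hi => absurd hi List.not_mem_nil) hok (one_mem _)
    (mul_mem n0G2_monomial n0G2_monomial)
    (fun r hr => certG2.Maps_diagonal (one_mem _) hr)
    (fun r hr => by
      rw [rword_append]
      exact Cert.Maps_mul (n0G2_maps r hr) (n0G2_maps _ (certG2.rword_lt long_word_okG2 hr)))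
    (fun r hr => by
      have := (dataOK_G2 f).cls.invol ⟨[0, 1], [0, 1, 0, 1, 0, 1]⟩ (by simp [dataTwG2]) r hr
      rw [rword_append, this]; rfl)
  simpa using h

/-- The two cells. -/
theorem cellsG2 (hK : Fintype.card K = 3 * e ^ 2) {g : GL chevG2.Idx K}
    (hg : g ∈ (endoG2 f).fix) :
    g ∈ chevG2.borelSubgroup K ∨ ∃ b ∈ (endoG2 f).fix ⊓ chevG2.borelSubgroup K,
      ∃ u ∈ (endoG2 f).fix ⊓ chevG2.posUnipotent K, g = b * n0G2 K * u := by
  have hC := (dataOK_G2 f).cls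
  have hstd := std_fixG2 f hf hK
  obtain ⟨w, hw, hc, m, -, hmf, hmn, hmM, b, hb, u, hu, rfl⟩ :=
    (endoG2 f).bruhat_fix hC hstd.reps hg
  have hu' : u ∈ (endoG2 f).fix ⊓ chevG2.posUnipotent K :=
    ⟨hu.1, Endo.cellUnipotent_le_pos (h := certG2) hw hmM hu.2⟩
  obtain ⟨M, hM, es⟩ := (endoG2 f).exists_cls_list hC hw hc
  have hcases : ∀ M : List ℕ, (∀ j ∈ M, j < dataTwG2.CL.length) →
      SameAct tabG2 (clsWord dataTwG2.CL M) [] ∨
        SameAct tabG2 (clsWord dataTwG2.CL M) [0, 1, 0, 1, 0, 1] := by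
    intro M
    induction M with
    | nil => exact fun _ => Or.inl fun r _ => rfl
    | cons j M ih =>
      intro hM
      obtain rfl : j = 0 := Nat.lt_one_iff.1 (hM j List.mem_cons_self)
      have e0 : clsWord dataTwG2.CL (0 :: M) = [0, 1, 0, 1, 0, 1] ++ clsWord dataTwG2.CL M := rfl
      rcases ih (fun i hi => hM i (List.mem_cons_of_mem _ hi)) with h | h
      · refine Or.inr fun r hr => ?_
        rw [e0, rword_append, h r hr]; rfl
      · refine Or.inl fun r hr => ?_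
        rw [e0, rword_append, h r hr]
        exact hC.invol ⟨[0, 1], [0, 1, 0, 1, 0, 1]⟩ (by simp [dataTwG2]) r hr
  rcases hcases M hM with h | h
  · refine Or.inl (mul_mem (mul_mem hb.2 (Subgroup.mem_sup_right ?_)) (Subgroup.mem_sup_left hu'.2))
    simpa using Endo.diag_of_same_perm (h := certG2) (m := (1 : GL chevG2.Idx K)) (w := [])
      (fun i hi => absurd hi List.not_mem_nil) hw (one_mem _) hmn
      (fun r hr => certG2.Maps_diagonal (one_mem _) hr) hmM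
      (fun r hr => ((es r hr).trans (h r hr)).symm)
  · refine Or.inr ⟨b * (m * (n0G2 K)⁻¹), ⟨mul_mem hb.1 (mul_mem hmf ((endoG2 f).fix.inv_mem (n0G2_mem f hf hK))),
      mul_mem hb.2 (Subgroup.mem_sup_right ?_)⟩, u, hu', by group⟩
    have hd : (n0G2 K)⁻¹ * m ∈ chevG2.diagonalSubgroup K :=
      Endo.diag_of_same_perm (h := certG2) long_word_okG2 hw n0G2_monomial hmn
        n0G2_maps hmM (fun r hr => ((es r hr).trans (h r hr)).symm)
    have := Endo.diag_conj (h := certG2) n0G2_monomial hd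
    rwa [show n0G2 K * ((n0G2 K)⁻¹ * m) * (n0G2 K)⁻¹ = m * (n0G2 K)⁻¹ by group] at this

omit hf in
lemma borel_conj_posG2 {v y : GL chevG2.Idx K} (hv : v ∈ chevG2.borelSubgroup K)
    (hy : y ∈ chevG2.posUnipotent K) : v * y * v⁻¹ ∈ chevG2.posUnipotent K := by
  obtain ⟨w, hw, t, ht, rfl⟩ := certG2.mem_borel_iff.1 hv
  have h1 := (Subgroup.mem_normalizer_iff.1
    (certG2.diagonal_le_normalizer_posUnipotent ht) y).1 hy
  rw [show w * t * y * (w * t)⁻¹ = w * (t * y * t⁻¹) * w⁻¹ by group]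
  exact mul_mem (mul_mem hw h1) (inv_mem hw)

/-- A unipotent element times a torus element moves the opposite point. -/
lemma freeG2 {u d : GL chevG2.Idx K} (hu : u ∈ chevG2.posUnipotent K)
    (hd : d ∈ chevG2.diagonalSubgroup K)
    (h : (n0G2 K)⁻¹ * (u * d) * n0G2 K ∈ chevG2.borelSubgroup K) : u = 1 := by
  have hd' : (n0G2 K)⁻¹ * d * n0G2 K ∈ chevG2.diagonalSubgroup K := by
    have := Endo.diag_conj (h := certG2) (inv_mem (n0G2_monomial (K := K))) hd
    rwa [inv_inv] at this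
  have h1 := mul_mem h (inv_mem (Subgroup.mem_sup_right hd' :
    (n0G2 K)⁻¹ * d * n0G2 K ∈ chevG2.borelSubgroup K))
  rw [show (n0G2 K)⁻¹ * (u * d) * n0G2 K * ((n0G2 K)⁻¹ * d * n0G2 K)⁻¹ =
    (n0G2 K)⁻¹ * u * n0G2 K by group] at h1
  have h2 := Endo.neg_not_borel (h := certG2) (n0G2_conj_pos hu).2 h1
  calc u = n0G2 K * ((n0G2 K)⁻¹ * u * n0G2 K) * (n0G2 K)⁻¹ := by group
    _ = 1 := by rw [h2]; group

/-- Conjugates of the unipotent radical meet trivially. -/
theorem tiG2 (hK : Fintype.card K = 3 * e ^ 2) {g : GL chevG2.Idx K} (hg : g ∈ (endoG2 f).fix)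
    {x : GL chevG2.Idx K} (hx : x ∈ chevG2.posUnipotent K)
    (hxg : g⁻¹ * x * g ∈ chevG2.posUnipotent K) :
    x = 1 ∨ g ∈ chevG2.borelSubgroup K := by
  rcases cellsG2 f hf hK hg with hB | ⟨b, hb, u, hu, rfl⟩
  · exact Or.inr hB
  left
  have h1 := borel_conj_posG2 (inv_mem hb.2) hx
  rw [inv_inv] at h1
  have h2 := freeG2 f hf h1 (one_mem _) (by
    rw [mul_one, show (n0G2 K)⁻¹ * (b⁻¹ * x * b) * n0G2 K =
      u * ((b * n0G2 K * u)⁻¹ * x * (b * n0G2 K * u)) * u⁻¹ by group]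
    exact Subgroup.mem_sup_left (mul_mem (mul_mem hu.2 hxg) (inv_mem hu.2)))
  calc x = b * (b⁻¹ * x * b) * b⁻¹ := by group
    _ = 1 := by rw [h2]; group

/-- The Sylow 3-subgroups have trivial intersections. -/
theorem sylowThree_tiG2 (hK : Fintype.card K = 3 * e ^ 2)
    (P Q : Sylow 3 ↥(endoG2 f).fix) (hPQ : P ≠ Q) :
    (P : Subgroup ↥(endoG2 f).fix) ⊓ (Q : Subgroup ↥(endoG2 f).fix) = ⊥ := by
  have : Fact (Nat.Prime 3) := ⟨Nat.prime_three⟩
  obtain ⟨n, -, hn⟩ := FiniteField.card K 3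
  set U := ((endoG2 f).fix ⊓ chevG2.posUnipotent K).subgroupOf (endoG2 f).fix with hU
  have hUc : Nat.card U = Fintype.card K ^ 3 := by
    rw [Nat.card_congr (Subgroup.subgroupOfEquivOfLe inf_le_left).toEquiv, card_posG2 f hf hK]
  have h1n : 1 ≤ 3 ^ (n : ℕ) := Nat.one_le_pow _ _ (by norm_num)
  have h3n : 3 ∣ 3 ^ (n : ℕ) := dvd_pow_self 3 n.2.ne'
  have h3n' : 3 ∣ 3 ^ ((n : ℕ) * 3) := dvd_pow_self 3 (Nat.mul_ne_zero n.2.ne' (by norm_num))
  have h13n : 2 ≤ 3 ^ (n : ℕ) := Nat.le_of_dvd (by omega) h3n |>.trans' (by norm_num)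
  have hfac : Nat.card U = 3 ^ (Nat.card ↥(endoG2 f).fix).factorization 3 := by
    rw [hUc, card_twistG2 f hf hK, hn, ← pow_mul, mul_assoc (3 ^ ((n : ℕ) * 3)),
      Nat.factorization_mul (by positivity) (mul_ne_zero (by omega) (by omega)), Finsupp.add_apply,
      Nat.Prime.factorization_pow Nat.prime_three, Finsupp.single_eq_same,
      Nat.factorization_eq_zero_of_not_dvd ?_, add_zero]
    intro hd
    rcases (Nat.Prime.dvd_mul Nat.prime_three).1 hd with h | h <;> omega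
  set S := Sylow.ofCard U hfac with hS
  obtain ⟨a, rfl⟩ := MulAction.exists_smul_eq ↥(endoG2 f).fix S P
  obtain ⟨b, rfl⟩ := MulAction.exists_smul_eq ↥(endoG2 f).fix S Q
  rw [eq_bot_iff]
  rintro x ⟨hx1, hx2⟩
  change x ∈ (MulAut.conj a • U : Subgroup _) at hx1
  change x ∈ (MulAut.conj b • U : Subgroup _) at hx2
  rw [Subgroup.mem_pointwise_smul_iff_inv_smul_mem, ← map_inv, MulAut.smul_def,
    MulAut.conj_apply, inv_inv] at hx1 hx2
  have m1 : ((a⁻¹ * x * a : ↥(endoG2 f).fix) : GL chevG2.Idx K) ∈ chevG2.posUnipotent K :=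
    (Subgroup.mem_subgroupOf.1 hx1).2
  have m2 : ((b⁻¹ * x * b : ↥(endoG2 f).fix) : GL chevG2.Idx K) ∈ chevG2.posUnipotent K :=
    (Subgroup.mem_subgroupOf.1 hx2).2
  simp only [Subgroup.coe_mul, Subgroup.coe_inv] at m1 m2
  rcases tiG2 f hf hK (g := ((a⁻¹ * b : ↥(endoG2 f).fix) : GL chevG2.Idx K)) (a⁻¹ * b).2 m1
    (by simp only [Subgroup.coe_mul, Subgroup.coe_inv]; convert m2 using 1; group) with h | h
  · rw [Subgroup.mem_bot]
    refine Subtype.ext ?_
    rw [Subgroup.coe_one]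
    calc (x : GL chevG2.Idx K) = a * ((a : GL chevG2.Idx K)⁻¹ * x * a) *
          (a : GL chevG2.Idx K)⁻¹ := by group
      _ = 1 := by rw [h]; group
  · refine absurd ?_ hPQ
    have hc : (a⁻¹ * b) • S = S := by
      rw [Sylow.smul_eq_iff_mem_normalizer]
      change a⁻¹ * b ∈ Subgroup.normalizer (U : Set _)
      refine Subgroup.mem_normalizer_iff.2 fun y => ?_
      show y ∈ U ↔ a⁻¹ * b * y * (a⁻¹ * b)⁻¹ ∈ U
      set c := a⁻¹ * b with hc
      have key : ∀ d : ↥(endoG2 f).fix, (d : GL chevG2.Idx K) ∈ chevG2.borelSubgroup K →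
          ∀ z ∈ U, d * z * d⁻¹ ∈ U := fun d hd z hz =>
        Subgroup.mem_subgroupOf.2 ⟨(d * z * d⁻¹).2,
          borel_conj_posG2 hd (Subgroup.mem_subgroupOf.1 hz).2⟩
      refine ⟨key c h y, fun hy => ?_⟩
      have := key c⁻¹ (inv_mem h) _ hy
      rwa [show c⁻¹ * (c * y * c⁻¹) * c⁻¹⁻¹ = y by group] at this
    rw [mul_smul, inv_smul_eq_iff] at hc
    exact hc.symm

/-- A torus element commuting with a nontrivial unipotent element is an involution. -/
lemma sq_eq_one_of_commG2 (hK : Fintype.card K = 3 * e ^ 2) {u : GL chevG2.Idx K}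
    (hu : u ∈ (endoG2 f).fix ⊓ chevG2.posUnipotent K) (hu1 : u ≠ 1) {v : Kˣ}
    (h : torG2Hom e v * u = u * torG2Hom e v) : v ^ 2 = 1 := by
  by_contra hne
  obtain ⟨N, hN, hodd, -⟩ := half_G2 hK
  have hodd' : Odd (orderOf (torG2Hom e (v ^ 2))) := by
    rw [orderOf_injective _ (torG2Hom_injective f hf)]
    exact hodd.of_dvd_nat (orderOf_dvd_of_pow_eq_one (by
      rw [← pow_mul, ← hN, ← Nat.card_eq_fintype_card, ← Nat.card_units, pow_card_eq_one']))
  have hc := centralizer_torG2 f hf hK ((range_torG2Hom f hf hK).le ⟨v ^ 2, rfl⟩)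
    (fun h => hne (torG2Hom_injective f hf (h.trans (map_one _).symm))) hodd'
  have hm : u ∈ ((endoG2 f).fix ⊓ chevG2.posUnipotent K) ⊓
      Subgroup.centralizer {torG2Hom e (v ^ 2)} := by
    refine ⟨hu, Subgroup.mem_centralizer_singleton_iff.2 ?_⟩
    rw [pow_two, map_mul]
    exact ((Commute.mul_left (h : Commute _ _) h).eq).symm
  rw [hc, Subgroup.mem_bot] at hm
  exact hu1 hm

/-- An involution of the torus commutes with the middle root elements. -/
lemma comm_middleG2 (hK : Fintype.card K = 3 * e ^ 2) {v : Kˣ} (hv : v ^ 2 = 1) :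
    torG2Hom e v * reeElt e ((0, 1, 0) : K × K × K) =
      reeElt e ((0, 1, 0) : K × K × K) * torG2Hom e v := by
  have hv2 : (v : K) * v = 1 := by rw [← pow_two, ← Units.val_pow_eq_pow_val, hv, Units.val_one]
  have hve : (v : K) ^ e = (v : K) := by
    rcases mul_self_eq_one_iff.1 hv2 with h | h <;> rw [h]
    · exact one_pow e
    · exact (odd_e_G2 hK).neg_one_pow
  have hinv : (v : K)⁻¹ = v := inv_eq_of_mul_eq_one_right hv2
  have h3 : (v : K) ^ (3 : ℤ) = v := by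
    rw [show (3 : ℤ) = ((3 : ℕ) : ℤ) from rfl, zpow_natCast, pow_succ, pow_two, hv2, one_mul]
  rw [← mul_inv_eq_iff_eq_mul, reeElt_eq f hf, lowG2, ← conj_mul, ← conj_mul, ← conj_mul,
    ← conj_mul, ← conj_mul, torG2Hom_conj f hf v (by norm_num),
    torG2Hom_conj f hf v (by norm_num), torG2Hom_conj f hf v (by norm_num),
    torG2Hom_conj f hf v (by norm_num), torG2Hom_conj f hf v (by norm_num),
    torG2Hom_conj f hf v (by norm_num)]
  rw [show tabG2.car 0 8 = -1 by decide +kernel, show tabG2.car 1 8 = 1 by decide +kernel,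
    show tabG2.car 0 10 = 3 by decide +kernel, show tabG2.car 1 10 = -1 by decide +kernel,
    hve, zpow_one, _root_.zpow_neg_one, hinv, h3, hv2, one_mul]
  simp [zero_pow (e_ne_zero_G2 f hf), X_zeroG2]

lemma reeMiddle_ne_one : reeElt e ((0, 1, 0) : K × K × K) ≠ 1 := fun h => by
  have e2 : reeElt e ((0, 1, 0) : K × K × K) = reeElt e 0 := h.trans (by
    rw [reeElt_eq f hf]; simp [zero_pow (e_ne_zero_G2 f hf), X_zeroG2, lowG2_zero])
  exact one_ne_zero (congrArg (fun p => p.2.1) (reeElt_injective f hf e2))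

/-- The point set and the stabilizers of three points. -/
theorem three_pointG2 (hK : Fintype.card K = 3 * e ^ 2) :
    let B := (chevG2.borelSubgroup K ⊓ (endoG2 f).fix).subgroupOf (endoG2 f).fix
    (∀ x y z : ↥(endoG2 f).fix ⧸ B, x ≠ y → x ≠ z → y ≠ z →
        Nat.card ↥(MulAction.stabilizer ↥(endoG2 f).fix x ⊓ MulAction.stabilizer ↥(endoG2 f).fix y ⊓
          MulAction.stabilizer ↥(endoG2 f).fix z) ≤ 2) ∧
      ∃ x y z : ↥(endoG2 f).fix ⧸ B, x ≠ y ∧ x ≠ z ∧ y ≠ z ∧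
        Nat.card ↥(MulAction.stabilizer ↥(endoG2 f).fix x ⊓ MulAction.stabilizer ↥(endoG2 f).fix y ⊓
          MulAction.stabilizer ↥(endoG2 f).fix z) = 2 := by
  intro B
  set n : ↥(endoG2 f).fix := ⟨n0G2 K, n0G2_mem f hf hK⟩ with hn
  have hB : ∀ {g : ↥(endoG2 f).fix}, g ∈ B ↔ (g : GL chevG2.Idx K) ∈ chevG2.borelSubgroup K :=
    fun {g} => ⟨fun h => (Subgroup.mem_subgroupOf.1 h).1,
      fun h => Subgroup.mem_subgroupOf.2 ⟨h, g.2⟩⟩
  have hst : ∀ {g c : ↥(endoG2 f).fix}, g ∈ MulAction.stabilizer ↥(endoG2 f).fix (c : ↥(endoG2 f).fix ⧸ B) ↔ c⁻¹ * g * c ∈ B := by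
    intro g c
    rw [MulAction.mem_stabilizer_iff, MulAction.Quotient.smul_coe, eq_comm, QuotientGroup.eq,
      smul_eq_mul, mul_assoc]
  have hnn : n * n ∈ B := hB.2 (Subgroup.mem_sup_right (n0G2_sq f hf))
  -- the elements fixing the base points and a third one
  have hdiag : ∀ g : ↥(endoG2 f).fix, g ∈ B → n⁻¹ * g * n ∈ B →
      (g : GL chevG2.Idx K) ∈ chevG2.diagonalSubgroup K := by
    intro g hg hgn
    obtain ⟨v, hv, t, ht, e1⟩ := certG2.mem_borel_iff.1 (hB.1 hg)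
    have h1 := hB.1 hgn
    simp only [hn, Subgroup.coe_mul, Subgroup.coe_inv, e1] at h1
    rw [e1, freeG2 f hf hv ht h1, one_mul]
    exact ht
  have hfix : ∀ g : ↥(endoG2 f).fix, (g : GL chevG2.Idx K) ∈ chevG2.diagonalSubgroup K →
      g ∈ B ∧ n⁻¹ * g * n ∈ B := fun g hg =>
    ⟨hB.2 (Subgroup.mem_sup_right hg), hB.2 (Subgroup.mem_sup_right (by
      simpa [hn] using Endo.diag_conj (h := certG2) (inv_mem (n0G2_monomial (K := K))) hg))⟩
  have hcent : ∀ u g : ↥(endoG2 f).fix, (u : GL chevG2.Idx K) ∈ chevG2.posUnipotent K →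
      (g : GL chevG2.Idx K) ∈ chevG2.diagonalSubgroup K →
      ((u * n)⁻¹ * g * (u * n) ∈ B ↔
        (g : GL chevG2.Idx K) * u = (u : GL chevG2.Idx K) * g) := by
    intro u g hu hg
    constructor
    · intro h
      have h' := hB.1 h
      simp only [hn, Subgroup.coe_mul, Subgroup.coe_inv] at h'
      have h1 := freeG2 f hf (u := (u : GL chevG2.Idx K)⁻¹ * (g * u * (g : GL chevG2.Idx K)⁻¹))
        (mul_mem (inv_mem hu) ((Subgroup.mem_normalizer_iff.1
          (certG2.diagonal_le_normalizer_posUnipotent hg) _).1 hu)) hg (by convert h' using 1; group)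
      calc (g : GL chevG2.Idx K) * u = u * ((u : GL chevG2.Idx K)⁻¹ *
            (g * u * (g : GL chevG2.Idx K)⁻¹)) * g := by group
        _ = u * g := by rw [h1, mul_one]
    · intro h
      have h' : g * u = u * g := Subtype.ext h
      rw [show (u * n)⁻¹ * g * (u * n) = n⁻¹ * (u⁻¹ * (g * u)) * n by group, h',
        inv_mul_cancel_left]
      exact (hfix g hg).2
  let Stab : ↥(endoG2 f).fix → Subgroup ↥(endoG2 f).fix := fun w => MulAction.stabilizer ↥(endoG2 f).fix ((1 : ↥(endoG2 f).fix) : ↥(endoG2 f).fix ⧸ B) ⊓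
    MulAction.stabilizer ↥(endoG2 f).fix (n : ↥(endoG2 f).fix ⧸ B) ⊓ MulAction.stabilizer ↥(endoG2 f).fix ((w * n : ↥(endoG2 f).fix) : ↥(endoG2 f).fix ⧸ B)
  have hStab : ∀ w g : ↥(endoG2 f).fix, (w : GL chevG2.Idx K) ∈ chevG2.posUnipotent K →
      (g ∈ Stab w ↔ (g : GL chevG2.Idx K) ∈ chevG2.diagonalSubgroup K ∧
        (g : GL chevG2.Idx K) * w = (w : GL chevG2.Idx K) * g) := by
    intro w g hw
    simp only [Stab, Subgroup.mem_inf, hst, inv_one, one_mul, mul_one]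
    constructor
    · rintro ⟨⟨h1, h2⟩, h3⟩
      exact ⟨hdiag g h1 h2, (hcent w g hw (hdiag g h1 h2)).1 h3⟩
    · rintro ⟨h1, h2⟩
      exact ⟨hfix g h1, (hcent w g hw h1).2 h2⟩
  have htwo : Nat.card {v : Kˣ // v ^ 2 = 1} = 2 := by
    obtain ⟨N, hN, -, -⟩ := half_G2 hK
    rw [card_units_pow_eq_one, hN, Nat.gcd_eq_right (dvd_mul_right 2 N)]
  have hrange : ∀ g : ↥(endoG2 f).fix, (g : GL chevG2.Idx K) ∈ chevG2.diagonalSubgroup K →
      ∃ v, torG2Hom e v = (g : GL chevG2.Idx K) := fun g hg =>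
    (range_torG2Hom f hf hK).ge ⟨g.2, hg⟩
  have hle : ∀ w : ↥(endoG2 f).fix, (w : GL chevG2.Idx K) ∈ chevG2.posUnipotent K → w ≠ 1 →
      Nat.card (Stab w) ≤ 2 := by
    intro w hw hw1
    have hsq : ∀ g : Stab w, ∃ v : Kˣ, v ^ 2 = 1 ∧
        torG2Hom e v = ((g : ↥(endoG2 f).fix) : GL chevG2.Idx K) := by
      intro g
      obtain ⟨h1, h2⟩ := (hStab w g hw).1 g.2
      obtain ⟨v, hv⟩ := hrange g h1
      exact ⟨v, sq_eq_one_of_commG2 f hf hK ⟨w.2, hw⟩ (fun h => hw1 (Subtype.ext h))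
        (by rw [hv]; exact h2), hv⟩
    choose v hv1 hv2 using hsq
    refine htwo ▸ Nat.card_le_card_of_injective (fun g => (⟨v g, hv1 g⟩ : {v : Kˣ // v ^ 2 = 1}))
      fun g g' h => Subtype.ext (Subtype.ext ?_)
    rw [← hv2 g, ← hv2 g', show v g = v g' from congrArg Subtype.val h]
  constructor
  · intro x y z hxy hxz hyz
    have hmove : ∀ (g : ↥(endoG2 f).fix) (x y z : ↥(endoG2 f).fix ⧸ B),
        Nat.card ↥(MulAction.stabilizer ↥(endoG2 f).fix (g • x) ⊓ MulAction.stabilizer ↥(endoG2 f).fix (g • y) ⊓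
          MulAction.stabilizer ↥(endoG2 f).fix (g • z)) =
        Nat.card ↥(MulAction.stabilizer ↥(endoG2 f).fix x ⊓ MulAction.stabilizer ↥(endoG2 f).fix y ⊓
          MulAction.stabilizer ↥(endoG2 f).fix z) := by
      intro g x y z
      rw [MulAction.stabilizer_smul_eq_stabilizer_map_conj,
        MulAction.stabilizer_smul_eq_stabilizer_map_conj,
        MulAction.stabilizer_smul_eq_stabilizer_map_conj]
      rw [← Subgroup.map_inf _ _ _ (MulEquiv.injective _),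
        ← Subgroup.map_inf _ _ _ (MulEquiv.injective _)]
      exact (Nat.card_congr (Subgroup.equivMapOfInjective _ _
        (MulEquiv.injective _)).toEquiv).symm
    have hpoint : ∀ q : ↥(endoG2 f).fix ⧸ B, q ≠ ((1 : ↥(endoG2 f).fix) : ↥(endoG2 f).fix ⧸ B) → ∃ u : ↥(endoG2 f).fix,
        (u : GL chevG2.Idx K) ∈ chevG2.posUnipotent K ∧ q = ((u * n : ↥(endoG2 f).fix) : ↥(endoG2 f).fix ⧸ B) := by
      intro q hq
      obtain ⟨c, rfl⟩ := QuotientGroup.mk_surjective q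
      rcases cellsG2 f hf hK (c⁻¹).2 with h | ⟨b, hb, u, hu, e1⟩
      · exact absurd (QuotientGroup.eq.2 (by rw [mul_one]; exact hB.2 h)) hq
      refine ⟨⟨u, hu.1⟩⁻¹, inv_mem hu.2, ?_⟩
      rw [QuotientGroup.eq, show c⁻¹ = (⟨b, hb.1⟩ : ↥(endoG2 f).fix) * n * ⟨u, hu.1⟩ from Subtype.ext e1,
        show (⟨b, hb.1⟩ : ↥(endoG2 f).fix) * n * ⟨u, hu.1⟩ * (⟨u, hu.1⟩⁻¹ * n) = ⟨b, hb.1⟩ * (n * n) by group]
      exact mul_mem (hB.2 hb.2) hnn
    obtain ⟨a, rfl⟩ := QuotientGroup.mk_surjective x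
    rw [← hmove a⁻¹]
    have e1 : a⁻¹ • ((a : ↥(endoG2 f).fix) : ↥(endoG2 f).fix ⧸ B) = ((1 : ↥(endoG2 f).fix) : ↥(endoG2 f).fix ⧸ B) := by
      rw [MulAction.Quotient.smul_coe, smul_eq_mul, inv_mul_cancel]
    obtain ⟨u, hu, eu⟩ := hpoint (a⁻¹ • y) (fun h => hxy (MulAction.injective a⁻¹ (e1.trans h.symm)))
    obtain ⟨v, hv, ev⟩ := hpoint (a⁻¹ • z) (fun h => hxz (MulAction.injective a⁻¹ (e1.trans h.symm)))
    rw [← hmove u⁻¹, e1, eu, ev, MulAction.Quotient.smul_coe, MulAction.Quotient.smul_coe,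
      MulAction.Quotient.smul_coe, smul_eq_mul, smul_eq_mul, smul_eq_mul, inv_mul_cancel_left,
      ← mul_assoc, show ((u⁻¹ * 1 : ↥(endoG2 f).fix) : ↥(endoG2 f).fix ⧸ B) = ((1 : ↥(endoG2 f).fix) : ↥(endoG2 f).fix ⧸ B) from QuotientGroup.eq.2 (by
        simp only [mul_one, inv_inv]; exact hB.2 (Subgroup.mem_sup_left hu))]
    refine hle (u⁻¹ * v) (mul_mem (inv_mem hu) hv) fun h => ?_
    refine hyz (MulAction.injective a⁻¹ ?_)
    show a⁻¹ • y = a⁻¹ • z
    rw [eu, ev, inv_mul_eq_one.1 h]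
  · set w : ↥(endoG2 f).fix := ⟨reeElt e (0, 1, 0), (reeElt_mem f hf hK _).1⟩ with hw
    have hwU : (w : GL chevG2.Idx K) ∈ chevG2.posUnipotent K := (reeElt_mem f hf hK _).2
    have hw1 : (w : GL chevG2.Idx K) ≠ 1 := reeMiddle_ne_one f hf
    have hnB : n ∉ B := fun h => by
      refine hw1 (freeG2 f hf hwU (one_mem _) ?_)
      rw [mul_one]
      exact mul_mem (mul_mem (inv_mem (hB.1 h)) (Subgroup.mem_sup_left hwU)) (hB.1 h)
    refine ⟨((1 : ↥(endoG2 f).fix) : ↥(endoG2 f).fix ⧸ B), (n : ↥(endoG2 f).fix ⧸ B), ((w * n : ↥(endoG2 f).fix) : ↥(endoG2 f).fix ⧸ B), ?_, ?_, ?_, ?_⟩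
    · rw [Ne, QuotientGroup.eq, inv_one, one_mul]; exact hnB
    · rw [Ne, QuotientGroup.eq, inv_one, one_mul]
      exact fun h => hnB (by
        simpa using mul_mem (inv_mem (hB.2 (Subgroup.mem_sup_left hwU))) h)
    · rw [Ne, QuotientGroup.eq]
      intro h
      have h' := hB.1 h
      simp only [hn, Subgroup.coe_mul, Subgroup.coe_inv] at h'
      exact hw1 (freeG2 f hf hwU (one_mem _) (by rwa [mul_one, mul_assoc]))
    refine le_antisymm (hle w hwU fun h => hw1 (congrArg Subtype.val h)) ?_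
    have hmem : ∀ v : {v : Kˣ // v ^ 2 = 1}, (⟨torG2Hom e v.1,
        ((range_torG2Hom f hf hK).le ⟨v.1, rfl⟩).1⟩ : ↥(endoG2 f).fix) ∈ Stab w := fun v =>
      (hStab w _ hwU).2 ⟨((range_torG2Hom f hf hK).le ⟨v.1, rfl⟩).2, comm_middleG2 f hf hK v.2⟩
    refine htwo ▸ Nat.card_le_card_of_injective (fun v => (⟨_, hmem v⟩ : ↥(Stab w))) fun v v' h => ?_
    exact Subtype.ext (torG2Hom_injective f hf
      (congrArg (fun g : ↥(Stab w) => ((g : ↥(endoG2 f).fix) : GL chevG2.Idx K)) h))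

end CfsgLib.Chev
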