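import Cfsg.Agent.Lib.Chev.All
import Cfsg.Agent.Lib.Chev.Parabolic
import Cfsg.Prelude.Def_ChevAutomorphisms

/-!
Characters of the root lattice given on roots, and the maps fixed on the simple root elements.
-/

set_option autoImplicit false
set_option maxRecDepth 100000

namespace CfsgLib.Chev

open Cfsg.Lie Matrix

namespace Tab

/-- The `r`-chain through `u` starts with the target of the slot `v`. -/
noncomputable def linkB (T : Tab) (r u v : ℕ) : Bool :=
  force (blk (T.row r) u) fun E =>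
    cond (Nat.beq E 0) false (Nat.beq (Nat.sub (Nat.land E 511) 1) (Nat.sub (Nat.land v 511) 1))

/-- Consecutive entries of a chain are linked by chains. -/
noncomputable def chkStep (T : Tab) : Bool :=
  allBelow T.n fun r => allBelow T.n fun s => force (blk (T.row r) s) fun B =>
    cond (Nat.beq (Nat.shiftRight B 14) 0) true
      (cond (T.linkB r (Nat.sub (Nat.land B 511) 1) (Nat.shiftRight B 14))
        (cond (Nat.beq (Nat.shiftRight B 28) 0) true
          (T.linkB r (Nat.sub (Nat.land (Nat.shiftRight B 14) 511) 1) (Nat.shiftRight B 28)))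
        false)

lemma decode_succ (fuel b : ℕ) : decode (fuel + 1) b =
    if b = 0 then [] else (b % 2 ^ 9 - 1, Int.subNatNat ((b >>> 9) % 2 ^ 5) 8) :: decode fuel (b >>> 14) :=
  rfl

end Tab

lemma chkStepG2 : tabG2.chkStep = true := by decide +kernel
lemma chkStepB2 : tabB2.chkStep = true := by decide +kernel
lemma chkStepD4 : tabD4.chkStep = true := by decide +kernel
lemma chkStepF4 : tabF4.chkStep = true := by decide +kernel
lemma chkStepE6 : tabE6.chkStep = true := by decide +kernel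
lemma chkStepE7 : tabE7.chkStep = true := by decide +kernel
lemma chkStepE8 : tabE8.chkStep = true := by decide +kernel

/-- A certificate with linked chains. -/
theorem exists_cert_step {D : ChevalleyDatum}
    (hD : D ∈ [chevG2, chevB2, chevD4, chevF4, chevE6, chevE7, chevE8]) :
    ∃ T C, Cert D T C ∧ T.chkStep = true := by
  simp only [List.mem_cons, List.not_mem_nil, or_false] at hD
  rcases hD with rfl | rfl | rfl | rfl | rfl | rfl | rfl
  · exact ⟨_, _, certG2, chkStepG2⟩
  · exact ⟨_, _, certB2, chkStepB2⟩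
  · exact ⟨_, _, certD4, chkStepD4⟩
  · exact ⟨_, _, certF4, chkStepF4⟩
  · exact ⟨_, _, certE6, chkStepE6⟩
  · exact ⟨_, _, certE7, chkStepE7⟩
  · exact ⟨_, _, certE8, chkStepE8⟩

namespace Cert

variable {D : ChevalleyDatum} {T : Tab} {C : Tab.Cover} (h : Cert D T C)
include h

omit h in
lemma chain_step (hc : T.chkStep = true) {r s : ℕ} (hr : r < T.n) (hs : s < T.n) (i : ℕ)
    {a b : ℕ × ℤ} (ha : (T.entry r s)[i]? = some a) (hb : (T.entry r s)[i + 1]? = some b) :
    T.chainRoot r a.1 1 = some b.1 := by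
  have h1 := allBelow_eq_true (allBelow_eq_true hc r hr) s hs
  rw [force_eq] at h1
  have hland : ∀ x : ℕ, Nat.land x 511 = x % 2 ^ 9 := fun x => Nat.and_two_pow_sub_one_eq_mod x 9
  have hE : T.entry r s = Tab.decode 3 (Tab.blk (T.row r) s) := by rw [Tab.entry, Tab.blk_eq]
  rw [hE] at ha hb
  have key : ∀ u v : ℕ, T.linkB r u v = true → v % 2 ^ 9 - 1 = b.1 →
      T.chainRoot r u 1 = some b.1 := by
    intro u v e1 e2
    rw [Tab.linkB, force_eq] at e1
    obtain ⟨h0, e⟩ : Nat.beq (Tab.blk (T.row r) u) 0 = false ∧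
        Nat.beq (Nat.sub (Nat.land (Tab.blk (T.row r) u) 511) 1) (Nat.sub (Nat.land v 511) 1) = true := by
      cases hb0 : Nat.beq (Tab.blk (T.row r) u) 0 <;> simp_all
    have e' := Nat.eq_of_beq_eq_true e
    rw [hland, hland] at e'
    rw [Tab.chainRoot, Tab.entry, ← Tab.blk_eq, Tab.decode_succ,
      if_neg (Nat.ne_of_beq_eq_false h0), List.getElem?_cons_zero, Option.map_some]
    exact congrArg some (e'.trans e2)
  generalize Tab.blk (T.row r) s = B at *
  rw [Tab.decode_succ] at ha hb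
  split_ifs at ha hb with h0
  · simp at hb
  rw [List.getElem?_cons_succ, Tab.decode_succ] at hb
  split_ifs at hb with h14
  · simp at hb
  have hne : Nat.beq (Nat.shiftRight B 14) 0 = false :=
    Bool.eq_false_iff.2 fun e => h14 (Nat.eq_of_beq_eq_true e)
  rw [hne, cond_false] at h1
  obtain ⟨h2, h3⟩ := cond_false_eq_true h1
  rcases i with _ | i
  · rw [List.getElem?_cons_zero, Option.some_inj] at ha hb
    have := key _ _ h2 (by rw [← hb]; rfl)
    rw [← ha]
    rwa [hland] at this
  rw [List.getElem?_cons_succ, Tab.decode_succ, if_neg h14] at ha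
  rw [List.getElem?_cons_succ, Tab.decode_succ] at hb
  split_ifs at hb with h28
  · simp at hb
  rcases i with _ | i
  · rw [List.getElem?_cons_zero, Option.some_inj] at ha hb
    have hne2 : Nat.beq (Nat.shiftRight B 28) 0 = false :=
      Bool.eq_false_iff.2 fun e => h28 (by
        rw [← Nat.shiftRight_add]; exact Nat.eq_of_beq_eq_true e)
    rw [hne2, cond_false] at h3
    have := key _ _ h3 (by rw [← hb, ← Nat.shiftRight_add]; rfl)
    rw [← ha]
    rwa [hland] at this
  · simp [Tab.decode] at hb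

/-- A character given on the roots is a character of the tables. -/
lemma isChar_of_isRootCharacter (hc : T.chkStep = true) {F : Type*} [Field F] {χ : ℕ → Fˣ}
    (hχ : D.IsRootCharacter χ) : IsChar T (fun r => (χ r : F)) where
  mul_neg r hr := by
    show (χ r : F) * (χ (T.neg r) : F) = 1
    rw [← h.neg_eq hr, hχ.1 r (lt_of_lt_of_eq hr h.nroots_eq.symm), Units.mul_inv]
  chain r hr s hs q hq := by
    have hmul : ∀ u k, u < T.n → T.chainRoot r u 1 = some k → (χ k : F) = χ r * χ u := by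
      intro u k hu e
      rw [← Units.val_mul, hχ.2 r u k (lt_of_lt_of_eq hr h.nroots_eq.symm)
        (lt_of_lt_of_eq hu h.nroots_eq.symm) (by rw [h.chainRoot_eq hr hu, e])]
    obtain ⟨⟨a, m⟩, i⟩ := q
    obtain ⟨hi, hget⟩ := List.mk_mem_zipIdx_iff_le_and_getElem?_sub.1 hq
    obtain ⟨j, rfl⟩ := Nat.exists_eq_add_of_le' hi
    simp only [Nat.add_sub_cancel] at hget
    show (χ a : F) = χ s * (χ r : F) ^ (j + 1)
    clear hq hi
    induction j generalizing a m with
    | zero =>
      rw [hmul s a hs (by rw [Tab.chainRoot]; simp [hget]), pow_one, mul_comm]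
    | succ j ih =>
      obtain ⟨⟨a', m'⟩, ha'⟩ : ∃ x, (T.entry r s)[j]? = some x := by
        refine ⟨_, List.getElem?_eq_getElem ?_⟩
        have := (List.getElem?_eq_some_iff.1 hget).1
        omega
      have hlt : a' < T.n := h.entry_lt hr hs (q := ((a', m'), j + 1))
        (List.mk_mem_zipIdx_iff_le_and_getElem?_sub.2 ⟨by omega, by simpa using ha'⟩)
      rw [hmul a' a hlt (chain_step hc hr hs j ha' hget), ih a' m' ha']
      ring

variable {F : Type*} [Field F]

omit h in
lemma charDiag_eq (χ : ℕ → Fˣ) : D.charDiag F χ = torus D (fun r => (χ r : F)) := rfl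

omit h in
lemma charDiag_mul_inv (χ : ℕ → Fˣ) :
    D.charDiag F χ * D.charDiag F (fun r => (χ r)⁻¹) = 1 := by
  rw [charDiag_eq, charDiag_eq, torus_mul, ← torus_one D]
  exact torus_congr D fun s _ => Units.mul_inv _

theorem charDiag_conj (hc : T.chkStep = true) {χ : ℕ → Fˣ} (hχ : D.IsRootCharacter χ) {r : ℕ}
    (hr : r < T.n) (t : F) :
    D.charDiag F χ * D.x F r t * D.charDiag F (fun s => (χ s)⁻¹) = D.x F r ((χ r : F) * t) := by
  rw [charDiag_eq, h.torus_mul_x (h.isChar_of_isRootCharacter hc hχ) hr, ← charDiag_eq,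
    Matrix.mul_assoc, charDiag_mul_inv, Matrix.mul_one]

theorem mem_diagonal_of_charDiag (hc : T.chkStep = true) {χ : ℕ → Fˣ}
    (hχ : D.IsRootCharacter χ) {g : GL D.Idx F} (hg : g ∈ D.group F)
    (hgχ : (g : Matrix D.Idx D.Idx F) = D.charDiag F χ) : g ∈ D.diagonalSubgroup F := by
  have hinv : ((g⁻¹ : GL D.Idx F) : Matrix D.Idx D.Idx F) = D.charDiag F (fun r => (χ r)⁻¹) :=
    Units.inv_eq_of_mul_eq_one_right (by rw [hgχ, charDiag_mul_inv])
  have e1 : ∀ r, r < T.n → ∀ t : F, g * X D r t * g⁻¹ = X D r ((χ r : F) * t) := by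
    intro r hr t
    refine Units.ext ?_
    rw [Units.val_mul, Units.val_mul, hgχ, hinv, h.coe_X, h.coe_X, h.charDiag_conj hc hχ hr]
  have hrad : D.unipotentRadical F ∅ = gen D F (posSet T) := by
    rw [h.unipotentRadical_eq]
    congr 1
    ext r
    refine ⟨fun hr => hr.1, fun hr => ⟨hr, fun hin => ?_⟩⟩
    obtain ⟨k, hk, hne⟩ := h.exists_wt_ne hr.2
    exact hne ((h.inRootSub_iff.1 hin).2 k hk (Set.notMem_empty k))
  have hN : g ∈ Subgroup.normalizer (D.unipotentRadical F ∅ : Set (GL D.Idx F)) := by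
    rw [hrad, Subgroup.mem_normalizer_iff]
    have key : ∀ a ∈ gen D F (posSet T),
        g * a * g⁻¹ ∈ gen D F (posSet T) ∧ g⁻¹ * a * g ∈ gen D F (posSet T) := by
      intro a ha
      induction ha using Subgroup.closure_induction with
      | mem a ha =>
        obtain ⟨r, hr, t, rfl⟩ := ha
        refine ⟨by rw [e1 r hr.2]; exact X_mem_gen D hr _, ?_⟩
        have e2 : g * X D r (((χ r : F))⁻¹ * t) * g⁻¹ = X D r t := by
          rw [e1 r hr.2, mul_inv_cancel_left₀ (χ r).ne_zero]
        rw [← e2, show g⁻¹ * (g * X D r (((χ r : F))⁻¹ * t) * g⁻¹) * g =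
          X D r (((χ r : F))⁻¹ * t) by group]
        exact X_mem_gen D hr _
      | one => simp
      | mul a b _ _ ha hb =>
        constructor
        · rw [show g * (a * b) * g⁻¹ = g * a * g⁻¹ * (g * b * g⁻¹) by group]
          exact mul_mem ha.1 hb.1
        · rw [show g⁻¹ * (a * b) * g = g⁻¹ * a * g * (g⁻¹ * b * g) by group]
          exact mul_mem ha.2 hb.2
      | inv a _ ha =>
        constructor
        · rw [show g * a⁻¹ * g⁻¹ = (g * a * g⁻¹)⁻¹ by group]
          exact inv_mem ha.1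
        · rw [show g⁻¹ * a⁻¹ * g = (g⁻¹ * a * g)⁻¹ by group]
          exact inv_mem ha.2
    refine fun a => ⟨fun ha => (key a ha).1, fun ha => ?_⟩
    have := (key _ ha).2
    rwa [show g⁻¹ * (g * a * g⁻¹) * g = a by group] at this
  have hB : g ∈ D.borelSubgroup F := by
    have h1 : g ∈ D.parabolicSubgroup F ∅ := by
      rw [← h.normalizer_radical (F := F) ∅]; exact Subgroup.mem_inf.2 ⟨hN, hg⟩
    refine (sup_le le_rfl ((Subgroup.closure_le _).2 ?_) :
      D.parabolicSubgroup F ∅ ≤ D.borelSubgroup F) h1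
    rintro x ⟨j, hj, -⟩
    exact absurd hj (Set.notMem_empty j)
  obtain ⟨u, hu, t, ht, e⟩ := h.mem_borel_iff.1 hB
  have hu1 : u = 1 := by
    have hlow := (h.posUnipotent_le_lowGroup hu).1
    obtain ⟨c, -, ec⟩ := h.mem_diagonalSubgroup_iff.1 (inv_mem ht)
    have eu : (u : Matrix D.Idx D.Idx F) = torus D (fun r => (χ r : F) * charOf T c r) := by
      rw [show u = g * t⁻¹ by rw [e]; group, Units.val_mul, hgχ, ec, charDiag_eq, torus_mul]
    refine Units.ext (Matrix.ext fun a b => ?_)
    by_cases hab : a = b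
    · subst hab
      have := hlow a a (Nat.lt_succ_self _)
      rwa [Matrix.sub_apply, sub_eq_zero] at this
    · rw [eu, torus, Matrix.diagonal_apply_ne _ hab, Units.val_one, Matrix.one_apply_ne hab]
  rw [e, hu1, one_mul]
  exact ht

/-- The group is generated by the root elements of the simple roots and of their negatives. -/
theorem group_le_of_simple {K : Subgroup (GL D.Idx F)}
    (h1 : ∀ i < T.l, ∀ t : F, X D (T.simple i) t ∈ K)
    (h2 : ∀ i < T.l, ∀ t : F, X D (T.neg (T.simple i)) t ∈ K) : D.group F ≤ K := by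
  refine h.group_le_of h1 fun i hi => ?_
  rw [nS, h.simple_eq hi, nU, h.neg_eq (h.simple_lt hi)]
  exact mul_mem (mul_mem (h1 i hi _) (h2 i hi _)) (h1 i hi _)

theorem hom_ext_simple {G : Type*} [Group G] {f g : ↥(D.group F) →* G}
    (h1 : ∀ i < T.l, ∀ (t : F) (x : ↥(D.group F)),
      (x : GL D.Idx F) = X D (T.simple i) t → f x = g x)
    (h2 : ∀ i < T.l, ∀ (t : F) (x : ↥(D.group F)),
      (x : GL D.Idx F) = X D (T.neg (T.simple i)) t → f x = g x) : f = g := by
  refine MonoidHom.ext fun x => ?_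
  have hle : D.group F ≤ (f.eqLocus g).map (D.group F).subtype := h.group_le_of_simple
    (fun i hi t => ⟨⟨_, h.X_mem_group (h.simple_lt hi) t⟩, h1 i hi t _ rfl, rfl⟩)
    (fun i hi t => ⟨⟨_, h.X_mem_group (neg_lt (T := T) (h.simple_lt hi)) t⟩, h2 i hi t _ rfl, rfl⟩)
  obtain ⟨y, hy, e⟩ := hle x.2
  rwa [Subtype.ext e] at hy

theorem fieldAut_graphAut_comm {f g : ↥(D.group F) ≃* ↥(D.group F)} (hf : D.IsFieldAut f)
    (hg : D.IsGraphAut g) (y : ↥(D.group F)) : f (g y) = g (f y) := by
  obtain ⟨σ, hσ⟩ := hf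
  obtain ⟨π, -, hπ⟩ := hg
  suffices e : (f.toMonoidHom.comp g.toMonoidHom) = g.toMonoidHom.comp f.toMonoidHom from
    DFunLike.congr_fun e y
  refine h.hom_ext_simple (fun i hi t x hx => ?_) (fun i hi t x hx => ?_)
  all_goals
    have hi' : i < D.rank := lt_of_lt_of_eq hi h.rank_eq.symm
    have hj : (π ⟨i, hi'⟩).val < T.l := lt_of_lt_of_eq (π ⟨i, hi'⟩).isLt h.rank_eq
    refine Subtype.ext (Units.ext ?_)
    simp only [MonoidHom.comp_apply, MulEquiv.coe_toMonoidHom]
  · have hxD : ((x : GL D.Idx F) : Matrix D.Idx D.Idx F) = D.x F (D.simple i) t := by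
      rw [hx, h.coe_X, h.simple_eq hi]
    have e1 := (hπ x ⟨i, hi'⟩ t).1 hxD
    have hn : D.simple (π ⟨i, hi'⟩) < D.nroots := by
      rw [h.simple_eq hj, h.nroots_eq]; exact h.simple_lt hj
    have hn' : D.simple i < D.nroots := by
      rw [h.simple_eq hi, h.nroots_eq]; exact h.simple_lt hi
    rw [hσ _ _ _ hn e1, (hπ _ ⟨i, hi'⟩ _).1 (hσ _ _ _ hn' hxD), map_pow]
  · have hxD : ((x : GL D.Idx F) : Matrix D.Idx D.Idx F) = D.x F (D.neg (D.simple i)) t := by
      rw [hx, h.coe_X, h.simple_eq hi, h.neg_eq (h.simple_lt hi)]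
    have e1 := (hπ x ⟨i, hi'⟩ t).2 hxD
    have hn : D.neg (D.simple (π ⟨i, hi'⟩)) < D.nroots := by
      rw [h.simple_eq hj, h.neg_eq (h.simple_lt hj), h.nroots_eq]
      exact neg_lt (T := T) (h.simple_lt hj)
    have hn' : D.neg (D.simple i) < D.nroots := by
      rw [h.simple_eq hi, h.neg_eq (h.simple_lt hi), h.nroots_eq]
      exact neg_lt (T := T) (h.simple_lt hi)
    rw [hσ _ _ _ hn e1, (hπ _ ⟨i, hi'⟩ _).2 (hσ _ _ _ hn' hxD), map_pow]

end Cert

end CfsgLib.Chev
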