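import Cfsg.Agent.Lib.Chev.TwistBN

/-!
Irreducibility of the (B, N)-pair of the fixed points of a root-permuting endomorphism.
-/

set_option autoImplicit false

namespace CfsgLib.Chev

open Cfsg.Lie Matrix

namespace Endo

open Cert (cellUnipotent Maps_mul Maps_inv diagonal_le_monomial conj_gen_le mem_cellList cellList_set)

variable {D : ChevalleyDatum} {T : Tab} {C : Tab.Cover} {h : Cert D T C} {F : Type*} [Field F]
  (E : Endo h F) {d : Data T} {e Q : ℕ}

/-- The (B, N)-pair of the fixed points is irreducible. -/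
theorem exists_irreducible_bnPair_fix [Finite F] (hok : E.DataOK d) (hG : E.Reps E.fix d.CL)
    (hlift : ∀ o ∈ d.L, E.Lift E.fix o) (hQ : 2 ≤ Q)
    (hcard : ∀ o ∈ d.L, Nat.card (E.Adm o) ^ e = Q ^ o.size) (hlink : chkLink T d.CL = true)
    (hpos : 0 < d.CL.length) : ∃ P : Cfsg.BNPair ↥E.fix,
      P.B = (D.borelSubgroup F ⊓ E.fix).subgroupOf E.fix ∧ P.Irreducible := by
  simp only [chkLink, Bool.and_eq_true, List.all_eq_true, List.any_eq_true, List.mem_range,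
    Bool.or_eq_true, decide_eq_true_eq] at hlink
  obtain ⟨hne, hlnk⟩ := hlink
  obtain ⟨P, hB, hN, hcardS, hS⟩ := E.exists_bnPair_fix hok hG hlift hQ hcard hne
  refine ⟨P, hB, ?_⟩
  intro J hJS hJ hJ'
  by_contra hcomm
  push Not at hcomm
  have hidx : ∀ s : P.S, ∃ a : Fin d.CL.length, ((s : ↥E.fix) : GL D.Idx F) ∈ D.monomialSubgroup F ∧
      ∀ r < T.n, Maps D ((s : ↥E.fix) : GL D.Idx F) r (rword T (d.CL.getD a.1 ⟨[], []⟩).word r) :=
    fun s => by obtain ⟨a, ha, h1, h2⟩ := hS s s.2; exact ⟨⟨a, ha⟩, h1, h2⟩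
  choose idx hidn hidM using hidx
  have hfinS : Finite P.S := Finite.Set.subset Set.univ (Set.subset_univ _)
  have hwok : ∀ a : Fin d.CL.length, WordOK T (d.CL.getD a.1 ⟨[], []⟩).word := fun a => by
    rw [List.getD_eq_getElem _ _ a.2]; exact hok.cls.wordOK E (List.getElem_mem a.2)
  have hinj : Function.Injective idx := by
    intro s s' e1
    refine Subtype.ext (P.inj _ s.2 _ s'.2 ?_)
    rw [hB, Subgroup.mem_subgroupOf]
    refine Subgroup.mem_inf.2 ⟨Subgroup.mem_sup_right ?_,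
      ((s : ↥E.fix)⁻¹ * (s' : ↥E.fix)).2⟩
    exact diag_of_same_perm (h := h) (hwok _) (hwok _) (hidn s) (hidn s') (hidM s) (hidM s')
      (fun r _ => by rw [e1])
  have hsurj : Function.Surjective idx := by
    have := Fintype.ofFinite P.S
    refine ((Fintype.bijective_iff_injective_and_card idx).2 ⟨hinj, ?_⟩).2
    rw [← Nat.card_eq_fintype_card, hcardS, Fintype.card_fin]
  choose sel hsel using hsurj
  let Qp : Fin d.CL.length → Prop := fun a => (sel a : ↥E.fix) ∈ J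
  have hall : ∀ k, ∀ hk : k < d.CL.length, (Qp ⟨k, hk⟩ ↔ Qp ⟨0, hpos⟩) := by
    intro k
    induction k using Nat.strong_induction_on with
    | _ k ih =>
      intro hk
      rcases hlnk k hk with rfl | ⟨a, hak, r, hr, hne'⟩
      · rfl
      have ha : a < d.CL.length := lt_trans hak hk
      rw [← ih a hak ha]
      by_contra hiff
      have hor : (Qp ⟨a, ha⟩ ∧ ¬ Qp ⟨k, hk⟩) ∨ (Qp ⟨k, hk⟩ ∧ ¬ Qp ⟨a, ha⟩) := by tauto
      set sa : ↥E.fix := (sel ⟨a, ha⟩ : ↥E.fix)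
      set sk : ↥E.fix := (sel ⟨k, hk⟩ : ↥E.fix)
      have key : sa * sk * sa⁻¹ * sk⁻¹ ∈ P.B := by
        rcases hor with ⟨h1, h2⟩ | ⟨h1, h2⟩
        · exact hcomm sa h1 sk ⟨(sel ⟨k, hk⟩).2, h2⟩
        · have := inv_mem (hcomm sk h1 sa ⟨(sel ⟨a, ha⟩).2, h2⟩)
          rwa [show (sk * sa * sk⁻¹ * sa⁻¹)⁻¹ = sa * sk * sa⁻¹ * sk⁻¹ by group] at this
      rw [hB, Subgroup.mem_subgroupOf] at key
      have hMa := hidM (sel ⟨a, ha⟩)
      have hMk := hidM (sel ⟨k, hk⟩)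
      have hna := hidn (sel ⟨a, ha⟩)
      have hnk := hidn (sel ⟨k, hk⟩)
      rw [hsel] at hMa hMk
      have hd : ((sk : GL D.Idx F) * (sa : GL D.Idx F))⁻¹ * ((sa : GL D.Idx F) * (sk : GL D.Idx F)) ∈
          D.diagonalSubgroup F := by
        have hdd : ((sa * sk * sa⁻¹ * sk⁻¹ : ↥E.fix) : GL D.Idx F) ∈ D.diagonalSubgroup F := by
          rw [← h.borel_inf_monomial]
          exact Subgroup.mem_inf.2 ⟨key.1, mul_mem (mul_mem (mul_mem hna hnk) (inv_mem hna)) (inv_mem hnk)⟩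
        have := diag_conj (h := h) (inv_mem (mul_mem hnk hna)) hdd
        simp only [Subgroup.coe_mul, Subgroup.coe_inv, sa, sk] at this ⊢
        convert this using 1
        group
      have hoka := hwok ⟨a, ha⟩
      have hokk := hwok ⟨k, hk⟩
      refine hne' ((sameAct_of_diag (h := h)
        (w := (d.CL.getD k ⟨[], []⟩).word ++ (d.CL.getD a ⟨[], []⟩).word)
        (v := (d.CL.getD a ⟨[], []⟩).word ++ (d.CL.getD k ⟨[], []⟩).word)
        (fun x hx => (List.mem_append.1 hx).elim (hokk x) (hoka x))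
        (fun x hx => (List.mem_append.1 hx).elim (hoka x) (hokk x))
        (fun x hx => by rw [rword_append]; exact Maps_mul (hMa x hx) (hMk _ (h.rword_lt hoka hx)))
        (fun x hx => by rw [rword_append]; exact Maps_mul (hMk x hx) (hMa _ (h.rword_lt hokk hx)))
        hd) r hr).symm
  obtain ⟨x, hx⟩ := hJ
  obtain ⟨y, hy⟩ := hJ'
  have hx' : (sel (idx ⟨x, hJS hx⟩) : ↥E.fix) = x := by
    rw [show sel (idx ⟨x, hJS hx⟩) = ⟨x, hJS hx⟩ from hinj (hsel _)]
  have hy' : (sel (idx ⟨y, hy.1⟩) : ↥E.fix) = y := by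
    rw [show sel (idx ⟨y, hy.1⟩) = ⟨y, hy.1⟩ from hinj (hsel _)]
  have h1 : Qp (idx ⟨x, hJS hx⟩) := by simpa [Qp, hx'] using hx
  have h2 : ¬ Qp (idx ⟨y, hy.1⟩) := by simpa [Qp, hy'] using hy.2
  exact h2 ((hall _ (idx ⟨y, hy.1⟩).2).2 ((hall _ (idx ⟨x, hJS hx⟩).2).1 h1))

end Endo

end CfsgLib.Chev
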