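import Cfsg.Agent.Lib.Chev.TwistF4TwoParity
import Cfsg.Agent.Lib.Chev.TwistIrreducible
import Cfsg.Agent.Lib.BNPair.NormalSup

/-!
The Tits group: `²F₄(2)` has a commutator subgroup of index two, which is simple.
-/

set_option autoImplicit false
set_option maxRecDepth 100000
set_option maxHeartbeats 1000000

namespace CfsgLib.Chev.F4Two

open Cfsg.Lie Matrix CfsgLib.Chev

theorem gens_chk : eqChk [33, 24] (orbWord 24) = true ∧
    eqChk (wX ++ orbWord 28) [27, 25, 30] = true ∧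
    eqChk (wA ++ [33, 24] ++ wA.reverse) [14, 23] = true ∧
    eqChk (wB ++ wX ++ wB.reverse) [20, 22, 19] = true ∧
    eqChk (wB ++ [27, 25, 30] ++ wB.reverse) [20, 22, 17] = true ∧
    eqChk (wB ++ [28, 30] ++ wB.reverse) [19, 17] = true ∧
    evalW ([24, 33] ++ [14, 23]) 1 ≠ evalW ([14, 23] ++ [24, 33]) 1 ∧
    evalW ([24, 33] ++ [14, 23]) 1 < 2 ^ 52 ∧ evalW ([14, 23] ++ [24, 33]) 1 < 2 ^ 52 := by
  decide +kernel

theorem Img.one : Img [] 1 :=
  ⟨Wd_nil ▸ one_mem G2, by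
    rw [show (⟨Wd [], Wd_nil ▸ one_mem G2⟩ : ↥G2) = 1 from Subtype.ext Wd_nil, map_one]⟩

theorem Img.unique {v : List ℕ} {a b : Abelianization ↥G2} (h : Img v a) (h' : Img v b) : a = b := by
  obtain ⟨_, rfl⟩ := h
  obtain ⟨_, rfl⟩ := h'
  rfl

/-- The abelianisation is generated by the image of `x`. -/
theorem gen_abelianization (g : ↥G2) :
    Abelianization.of g = 1 ∨ Abelianization.of g = Abelianization.of xx := by
  obtain ⟨al, hal, himg⟩ := imgs
  have hal' : Abelianization.of xx = al := by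
    have h : Img wX al := himg 25 (by simp [reps12])
    exact (Img.unique ⟨mem25, rfl⟩ h)
  rw [hal']
  set H : Subgroup (GL chevF4.Idx (ZMod 2)) :=
    ((Subgroup.zpowers al).comap (Abelianization.of (G := ↥G2))).map G2.subtype with hH
  have hle : G2 ≤ H := by
    have key : ∀ {v : List ℕ} {a : Abelianization ↥G2}, Img v a → a ∈ Subgroup.zpowers al →
        Wd v ∈ H := by
      rintro v a ⟨h, rfl⟩ ha
      exact ⟨⟨Wd v, h⟩, ha, rfl⟩
    have one' := one_mem (Subgroup.zpowers al)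
    have al' := Subgroup.mem_zpowers al
    obtain ⟨c24, c25u, c14, cm1, cmu, cm0, -⟩ := gens_chk
    have i24 : Img (orbWord 24) 1 := himg 24 (by simp [reps12])
    have i25 : Img wX al := himg 25 (by simp [reps12])
    have i28 : Img (orbWord 28) 1 := himg 28 (by simp [reps12])
    have i24' : Img [33, 24] 1 := i24.congr (by decide +kernel)
    obtain ⟨ba, hA⟩ : ∃ a, Img wA a := ⟨_, memA, rfl⟩
    obtain ⟨bb, hB⟩ : ∃ a, Img wB a := ⟨_, memB, rfl⟩
    have i25u : Img [27, 25, 30] al := by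
      have h := (i25.append i28).congr c25u
      rwa [mul_one] at h
    have i14 : Img [14, 23] 1 := Img.conj hA i24' (by decide +kernel) c14
    have im1 : Img [20, 22, 19] al := Img.conj hB i25 (by decide +kernel) cm1
    have imu : Img [20, 22, 17] al := Img.conj hB i25u (by decide +kernel) cmu
    have im0 : Img [19, 17] 1 := Img.conj hB i28 (by decide +kernel) cm0
    refine certF4.genSubgroup_le fun w hw => ?_
    have hz : ∀ r < tabF4.n, X chevF4 r (0 : ZMod 2) = 1 := fun r hr => certF4.X_zero hr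
    have hn : 48 = tabF4.n := rfl
    have h01 : ∀ t : ZMod 2, t = 0 ∨ t = 1 := by decide
    have h11 : (1 : ZMod 2) + 1 = 0 := by decide
    rcases hw with ⟨t, rfl | rfl⟩ | ⟨t, u, rfl | rfl⟩
    · rcases h01 t with rfl | rfl
      · simp [f4PairWord, f4p1, f4p4, hz 33 (by omega), hz 24 (by omega)]
      · have := key i24' one'
        simpa [f4PairWord, Wd_eq_prod, f4p1, f4p4] using this
    · rcases h01 t with rfl | rfl
      · simp [f4PairWord, f4m1, f4m4, hz 14 (by omega), hz 23 (by omega)]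
      · have := key i14 one'
        simpa [f4PairWord, Wd_eq_prod, f4m1, f4m4] using this
    · rcases h01 t with rfl | rfl <;> rcases h01 u with rfl | rfl
      · simp [b2ClassWord, f4a, f4b, f4ab, f4aab, hz 25 (by omega), hz 27 (by omega),
          hz 28 (by omega), hz 30 (by omega)]
      · have := key i28 one'
        simpa [b2ClassWord, Wd_eq_prod, orbWord, f4a, f4b, f4ab, f4aab, hz 25 (by omega),
          hz 27 (by omega)] using this
      · have := key i25 al'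
        simpa [b2ClassWord, Wd_eq_prod, wX, f4a, f4b, f4ab, f4aab, hz 30 (by omega)] using this
      · have := key i25u al'
        simpa [b2ClassWord, Wd_eq_prod, f4a, f4b, f4ab, f4aab, h11, hz 28 (by omega)] using this
    · rcases h01 t with rfl | rfl <;> rcases h01 u with rfl | rfl
      · simp [b2ClassWord, f4ma, f4mb, f4mab, f4maab, hz 20 (by omega), hz 22 (by omega),
          hz 19 (by omega), hz 17 (by omega)]
      · have := key im0 one'
        simpa [b2ClassWord, Wd_eq_prod, f4ma, f4mb, f4mab, f4maab, hz 20 (by omega),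
          hz 22 (by omega)] using this
      · have := key im1 al'
        simpa [b2ClassWord, Wd_eq_prod, f4ma, f4mb, f4mab, f4maab, hz 17 (by omega)] using this
      · have := key imu al'
        simpa [b2ClassWord, Wd_eq_prod, f4ma, f4mb, f4mab, f4maab, h11, hz 19 (by omega)] using this
  obtain ⟨g', hg', e⟩ := hle g.2
  obtain rfl : g' = g := Subtype.ext e
  obtain ⟨k, hk⟩ := Subgroup.mem_zpowers_iff.1 hg'
  rw [← hk]
  rcases Int.even_or_odd' k with ⟨j, rfl | rfl⟩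
  · left
    rw [_root_.zpow_mul, zpow_two, hal, _root_.one_zpow]
  · right
    rw [_root_.zpow_add, _root_.zpow_mul, zpow_two, hal, _root_.one_zpow, one_mul, zpow_one]

theorem xx_not_mem : xx ∉ commutator ↥G2 := fun h => by
  have h1 : psi xx = 1 := Abelianization.commutator_subset_ker psi h
  rw [psi_x] at h1
  exact absurd h1 (by decide)

theorem mem_or {g : ↥G2} : g ∈ commutator ↥G2 ∨ g * xx⁻¹ ∈ commutator ↥G2 := by
  rcases gen_abelianization g with h | h
  · left; rw [← Abelianization.ker_of ↥G2, MonoidHom.mem_ker]; exact h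
  · right
    rw [← Abelianization.ker_of ↥G2, MonoidHom.mem_ker, map_mul, map_inv, h, mul_inv_cancel]

theorem index_commutator : (commutator ↥G2).index = 2 :=
  Subgroup.index_eq_two_iff.2 ⟨xx⁻¹, fun b => by
    rcases mem_or (g := b) with h | h
    · exact Or.inr ⟨h, fun h' => xx_not_mem (inv_mem_iff.1 (by
        have := mul_mem (inv_mem h) h'
        rwa [inv_mul_cancel_left] at this))⟩
    · exact Or.inl ⟨h, fun h' => xx_not_mem (by
        have := mul_mem (inv_mem h) h'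
        rwa [show (b * xx⁻¹)⁻¹ * b = xx by group] at this)⟩⟩

/-- The order of the Tits group. -/
theorem card_tits : Nat.card ↥(commutator ↥G2) = 2 ^ 11 * 3 ^ 3 * 5 ^ 2 * 13 := by
  have h := (commutator ↥G2).card_mul_index
  rw [index_commutator, card_G2] at h
  omega

/-! ### Simplicity -/

theorem fix_normal_sup (N : Subgroup ↥endo2.fix) (hN : N.Normal) (hne : N ≠ ⊥) :
    (chevF4.posUnipotent (ZMod 2)).subgroupOf endo2.fix ⊔ N = ⊤ := by
  have hs := std_fixF4 (RingHom.id (ZMod 2)) hf1 hK1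
  have hlift := fun o ho => (hs.lifts endo2 o ho).1
  have hcard := hcardF4 (RingHom.id (ZMod 2)) hf1 hK1
  have hQ : 2 ≤ Fintype.card (ZMod 2) := by simp
  obtain ⟨P, hB, hirr⟩ := endo2.exists_irreducible_bnPair_fix hs.ok hs.reps hlift hQ hcard
    chkLinkTwF4 (by simp [dataTwF4])
  have h1 := CfsgLib.BN.sup_eq_top_of_normal hirr
    (by rw [hB]; exact endo2.normalCore_fix hs.ok hs.reps hlift hQ hcard) hN hne
  refine eq_top_iff.2 (h1 ▸ sup_le_sup_right (fun b hb => ?_) N)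
  rw [hB, Subgroup.mem_subgroupOf] at hb
  obtain ⟨v, hv, t, ht, e⟩ := endo2.borel_fix.1 (⟨hb.2, hb.1⟩ : (b : GL chevF4.Idx (ZMod 2)) ∈
    endo2.fix ⊓ chevF4.borelSubgroup (ZMod 2))
  obtain rfl : t = 1 := by
    have h2 := card_diagF4 (RingHom.id (ZMod 2)) hf1 hK1
    rw [ZMod.card, show (2 - 1) ^ 2 = 1 from rfl] at h2
    exact Subgroup.mem_bot.1 (Subgroup.card_eq_one.1 h2 ▸ ht)
  rw [mul_one] at e
  rw [Subgroup.mem_subgroupOf, e]
  exact hv.2

theorem normal_sup {N : Subgroup ↥G2} (hN : N.Normal) (hne : N ≠ ⊥) : U2 ⊔ N = ⊤ := by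
  suffices h : ∀ H : Subgroup (GL chevF4.Idx (ZMod 2)), endo2.fix = H → ∀ N : Subgroup ↥H,
      N.Normal → N ≠ ⊥ → (chevF4.posUnipotent (ZMod 2)).subgroupOf H ⊔ N = ⊤ from
    h G2 fix_eq N hN hne
  rintro H rfl N hN hne
  exact fix_normal_sup N hN hne

/-- A `p`-group whose quotient by the commutator subgroup is cyclic is cyclic. -/
theorem zpowers_eq_top_of_pgroup {Q : Type*} [Group Q] [Finite Q] {p : ℕ} [Fact p.Prime]
    (hp : IsPGroup p Q) {y : Q} (hy : ∀ g : Q, ∃ k : ℤ, (y ^ k)⁻¹ * g ∈ commutator Q) :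
    Subgroup.zpowers y = ⊤ := by
  have := hp.isNilpotent
  rcases eq_top_or_exists_le_coatom (Subgroup.zpowers y) with h | ⟨M, hM, hyM⟩
  · exact h
  exfalso
  have hnorm : M.Normal := Subgroup.NormalizerCondition.normal_of_coatom M Group.normalizerCondition_of_isNilpotent hM
  obtain ⟨q, hq⟩ : ∃ q, q ∉ M := by
    by_contra hall; push Not at hall; exact hM.1 (eq_top_iff.2 fun g _ => hall g)
  have hsup : M ⊔ Subgroup.zpowers q = ⊤ :=
    hM.2 _ (lt_of_le_of_ne le_sup_left fun e => hq (by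
      rw [e]; exact Subgroup.mem_sup_right (Subgroup.mem_zpowers q)))
  have hcomm : commutator Q ≤ M := by
    refine hnorm.quotient_commutative_iff_commutator_le.1 ?_
    have hpow : ∀ a : Q ⧸ M, ∃ i : ℤ, a = (q : Q ⧸ M) ^ i := by
      intro a
      induction a using QuotientGroup.induction_on with | H g => ?_
      have hg : g ∈ M ⊔ Subgroup.zpowers q := hsup ▸ Subgroup.mem_top g
      obtain ⟨z, hz, w, hw, rfl⟩ := Subgroup.mem_sup_of_normal_left.1 hg
      obtain ⟨i, rfl⟩ := Subgroup.mem_zpowers_iff.1 hw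
      exact ⟨i, by rw [QuotientGroup.mk_mul, (QuotientGroup.eq_one_iff z).2 hz, one_mul,
        QuotientGroup.mk_zpow]⟩
    refine ⟨⟨fun a b => ?_⟩⟩
    obtain ⟨i, rfl⟩ := hpow a
    obtain ⟨j, rfl⟩ := hpow b
    rw [← _root_.zpow_add, ← _root_.zpow_add, add_comm]
  refine hM.1 (eq_top_iff.2 fun g _ => ?_)
  obtain ⟨k, hk⟩ := hy g
  have := mul_mem (zpow_mem (hyM (Subgroup.mem_zpowers y)) k) (hcomm hk)
  rwa [mul_inv_cancel_left] at this

/-- Every nontrivial normal subgroup contains the commutator subgroup. -/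
theorem commutator_le_of_normal {N : Subgroup ↥G2} (hN : N.Normal) (hne : N ≠ ⊥) :
    commutator ↥G2 ≤ N := by
  have hsup := normal_sup hN hne
  have hU : IsPGroup 2 U2 := IsPGroup.of_card card_U2
  have hsurj : Function.Surjective ((QuotientGroup.mk' N).comp U2.subtype) := by
    intro q
    induction q using QuotientGroup.induction_on with | H g => ?_
    obtain ⟨b, hb, z, hz, rfl⟩ := Subgroup.mem_sup_of_normal_right.1
      (hsup ▸ Subgroup.mem_top g : g ∈ U2 ⊔ N)
    exact ⟨⟨b, hb⟩, QuotientGroup.eq.2 (by simpa using hz)⟩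
  have hQ : IsPGroup 2 (↥G2 ⧸ N) := hU.of_surjective _ hsurj
  have hmap : (commutator ↥G2).map (QuotientGroup.mk' N) ≤ commutator (↥G2 ⧸ N) := by
    rw [commutator_def, Subgroup.map_commutator]
    exact Subgroup.commutator_mono le_top le_top
  have hcyc := zpowers_eq_top_of_pgroup hQ (y := (xx : ↥G2 ⧸ N)) fun a => by
    induction a using QuotientGroup.induction_on with | H g => ?_
    rcases mem_or (g := g) with h | h
    · exact ⟨0, hmap ⟨g, h, by simp⟩⟩
    · refine ⟨1, ?_⟩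
      have h2 := hmap ⟨_, h, rfl⟩
      have h3 := (inferInstance : (commutator (↥G2 ⧸ N)).Normal).conj_mem _ h2 ((xx : ↥G2 ⧸ N)⁻¹)
      simpa [mul_assoc] using h3
  refine hN.quotient_commutative_iff_commutator_le.1 ⟨⟨fun a b => ?_⟩⟩
  obtain ⟨i, rfl⟩ := Subgroup.mem_zpowers_iff.1 (hcyc ▸ Subgroup.mem_top a :
    a ∈ Subgroup.zpowers (xx : ↥G2 ⧸ N))
  obtain ⟨j, rfl⟩ := Subgroup.mem_zpowers_iff.1 (hcyc ▸ Subgroup.mem_top b :
    b ∈ Subgroup.zpowers (xx : ↥G2 ⧸ N))
  rw [← _root_.zpow_add, ← _root_.zpow_add, add_comm]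

theorem noncomm_tits : ¬ IsMulCommutative ↥(commutator ↥G2) := by
  intro hc
  obtain ⟨al, hal, himg⟩ := imgs
  obtain ⟨-, -, c14, -, -, -, hne, h1, h2⟩ := gens_chk
  have i24 : Img (orbWord 24) 1 := himg 24 (by simp [reps12])
  obtain ⟨ba, hA⟩ : ∃ a, Img wA a := ⟨_, memA, rfl⟩
  obtain ⟨m14, e14⟩ := Img.conj hA (i24.congr (w := [33, 24]) (by decide +kernel)) (by decide +kernel) c14
  obtain ⟨m24, e24⟩ := i24
  have k14 : (⟨_, m14⟩ : ↥G2) ∈ commutator ↥G2 := by
    rw [← Abelianization.ker_of ↥G2, MonoidHom.mem_ker]; exact e14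
  have k24 : (⟨_, m24⟩ : ↥G2) ∈ commutator ↥G2 := by
    rw [← Abelianization.ker_of ↥G2, MonoidHom.mem_ker]; exact e24
  have e := congrArg (fun z : ↥(commutator ↥G2) => ((z : ↥G2) : GL chevF4.Idx (ZMod 2)))
    (hc.is_comm.comm ⟨_, k24⟩ ⟨_, k14⟩)
  replace e : Wd (orbWord 24) * Wd [14, 23] = Wd [14, 23] * Wd (orbWord 24) := e
  rw [← Wd_append, ← Wd_append] at e
  have e' := congrArg (fun z : GL chevF4.Idx (ZMod 2) =>
    (z : Matrix chevF4.Idx chevF4.Idx (ZMod 2)) *ᵥ phi 1) e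
  rw [Wd_phi (by decide), Wd_phi (by decide)] at e'
  exact hne (phi_injOn h1 h2 e')

theorem simple_tits : IsSimpleGroup ↥(commutator ↥G2) := by
  set T : Subgroup ↥G2 := commutator ↥G2 with hT
  have hTne : T ≠ ⊥ := fun e => by
    have h := card_tits
    rw [← hT, e, Subgroup.card_bot] at h
    norm_num at h
  have hperf : ∀ M : Subgroup ↥G2, M.Normal → M ≤ T → M ≠ ⊥ → M = T := fun M hM hle hne =>
    le_antisymm hle (commutator_le_of_normal hM hne)
  have : Nontrivial ↥T := (Subgroup.nontrivial_iff_ne_bot T).2 hTne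
  refine ⟨fun N hN => ?_⟩
  -- the two conjugates
  set A : Subgroup ↥G2 := N.map T.subtype with hA
  have hAT : A ≤ T := Subgroup.map_subtype_le N
  have hAn : ∀ t ∈ T, ∀ a ∈ A, t * a * t⁻¹ ∈ A := by
    rintro t ht _ ⟨n, hn, rfl⟩
    exact ⟨_, hN.conj_mem n hn ⟨t, ht⟩, rfl⟩
  set B : Subgroup ↥G2 := A.map (MulAut.conj xx).toMonoidHom with hB
  have hBmem : ∀ b, b ∈ B ↔ xx⁻¹ * b * xx ∈ A := fun b => by
    rw [hB, Subgroup.mem_map_equiv, MulAut.conj_symm_apply]
  have hTn : T.Normal := by rw [hT]; infer_instance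
  have hxx2 : xx * xx ∈ T := by
    have := Subgroup.mul_self_mem_of_index_two index_commutator xx
    exact this
  have hBT : B ≤ T := fun b hb => by
    have := hTn.conj_mem _ (hAT ((hBmem b).1 hb)) xx
    rwa [show xx * (xx⁻¹ * b * xx) * xx⁻¹ = b by group] at this
  have hAB : ∀ a ∈ A, xx * a * xx⁻¹ ∈ B := fun a ha => (hBmem _).2 (by
    rwa [show xx⁻¹ * (xx * a * xx⁻¹) * xx = a by group])
  have hBA : ∀ b ∈ B, xx * b * xx⁻¹ ∈ A := fun b hb => by
    have := hAn _ hxx2 _ ((hBmem b).1 hb)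
    rwa [show xx * xx * (xx⁻¹ * b * xx) * (xx * xx)⁻¹ = xx * b * xx⁻¹ by group] at this
  have hBn : ∀ t ∈ T, ∀ b ∈ B, t * b * t⁻¹ ∈ B := fun t ht b hb => (hBmem _).2 (by
    have ht' : xx⁻¹ * t * xx ∈ T := by
      have := hTn.conj_mem t ht xx⁻¹; rwa [inv_inv] at this
    have := hAn _ ht' _ ((hBmem b).1 hb)
    rwa [show xx⁻¹ * t * xx * (xx⁻¹ * b * xx) * (xx⁻¹ * t * xx)⁻¹ = xx⁻¹ * (t * b * t⁻¹) * xx by
      group] at this)
  have hnorm : ∀ M : Subgroup ↥G2, (∀ t ∈ T, ∀ m ∈ M, t * m * t⁻¹ ∈ M) →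
      (∀ m ∈ M, xx * m * xx⁻¹ ∈ M) → M.Normal := fun M h1 h2 => ⟨fun m hm g => by
    rcases mem_or (g := g) with h | h
    · exact h1 g h m hm
    · have := h1 _ h _ (h2 m hm)
      rwa [show g * xx⁻¹ * (xx * m * xx⁻¹) * (g * xx⁻¹)⁻¹ = g * m * g⁻¹ by group] at this⟩
  rcases eq_or_ne (A ⊓ B) ⊥ with h | h
  swap
  · right
    have e := hperf (A ⊓ B) (hnorm _ (fun t ht m hm => ⟨hAn t ht m hm.1, hBn t ht m hm.2⟩)
      fun m hm => ⟨hBA m hm.2, hAB m hm.1⟩) (inf_le_left.trans hAT) h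
    refine eq_top_iff.2 fun t _ => ?_
    obtain ⟨n, hn, e'⟩ : (t : ↥G2) ∈ A := (inf_le_left : A ⊓ B ≤ A) (by rw [e]; exact t.2)
    rwa [← Subtype.ext e']
  left
  by_contra hne
  have hAne : A ≠ ⊥ := fun e => hne ((Subgroup.map_eq_bot_iff_of_injective N T.subtype_injective).1 e)
  have hcm : ∀ a ∈ A, ∀ b ∈ B, Commute a b := fun a ha b hb => by
    have h1 : a * b * a⁻¹ * b⁻¹ ∈ A ⊓ B := by
      refine ⟨?_, mul_mem (hBn a (hAT ha) b hb) (B.inv_mem hb)⟩
      rw [show a * b * a⁻¹ * b⁻¹ = a * (b * a⁻¹ * b⁻¹) by group]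
      exact mul_mem ha (hAn b (hBT hb) _ (A.inv_mem ha))
    rw [h, Subgroup.mem_bot, mul_inv_eq_one, mul_inv_eq_iff_eq_mul] at h1
    exact h1
  let f : ↥A × ↥B →* ↥G2 :=
    { toFun := fun p => (p.1 : ↥G2) * (p.2 : ↥G2)
      map_one' := one_mul _
      map_mul' := fun p q => by
        show ((p.1 : ↥G2) * q.1) * ((p.2 : ↥G2) * q.2) = _
        exact (hcm _ q.1.2 _ p.2.2).mul_mul_mul_comm _ _ }
  have hinj : Function.Injective f := by
    rw [injective_iff_map_eq_one]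
    rintro ⟨⟨a, ha⟩, ⟨b, hb⟩⟩ e
    have e1 : a = b⁻¹ := eq_inv_of_mul_eq_one_left e
    have : a ∈ A ⊓ B := ⟨ha, by rw [e1]; exact B.inv_mem hb⟩
    rw [h, Subgroup.mem_bot] at this
    subst this
    obtain rfl : b = 1 := inv_eq_one.1 e1.symm
    rfl
  have hconj : ∀ g : ↥G2, (∀ a ∈ A, g * a * g⁻¹ ∈ A ⊔ B) → (∀ b ∈ B, g * b * g⁻¹ ∈ A ⊔ B) →
      ∀ m ∈ A ⊔ B, g * m * g⁻¹ ∈ A ⊔ B := by
    intro g h1 h2 m hm
    have hle : A ⊔ B ≤ (A ⊔ B).comap (MulAut.conj g).toMonoidHom := by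
      refine sup_le (fun a ha => ?_) fun b hb => ?_
      · rw [Subgroup.mem_comap, MulEquiv.coe_toMonoidHom, MulAut.conj_apply]; exact h1 a ha
      · rw [Subgroup.mem_comap, MulEquiv.coe_toMonoidHom, MulAut.conj_apply]; exact h2 b hb
    have h3 := hle hm
    rwa [Subgroup.mem_comap, MulEquiv.coe_toMonoidHom, MulAut.conj_apply] at h3
  have hsup : A ⊔ B = T := hperf _ (hnorm _
      (fun t ht => hconj t (fun a ha => Subgroup.mem_sup_left (hAn t ht a ha))
        fun b hb => Subgroup.mem_sup_right (hBn t ht b hb))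
      (hconj xx (fun a ha => Subgroup.mem_sup_right (hAB a ha))
        fun b hb => Subgroup.mem_sup_left (hBA b hb)))
    (sup_le hAT hBT) fun e => hAne (eq_bot_iff.2 (le_sup_left.trans e.le))
  have hrange : f.range = T := by
    refine le_antisymm ?_ ?_
    · rintro _ ⟨p, rfl⟩; exact mul_mem (hAT p.1.2) (hBT p.2.2)
    · rw [← hsup]
      exact sup_le (fun a ha => ⟨(⟨a, ha⟩, 1), mul_one a⟩) fun b hb => ⟨(1, ⟨b, hb⟩), one_mul b⟩
  have hBcard : Nat.card ↥B = Nat.card ↥A :=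
    (Nat.card_congr (A.equivMapOfInjective (MulAut.conj xx).toMonoidHom
      (MulAut.conj xx).injective).toEquiv).symm
  have hcard : Nat.card ↥A * Nat.card ↥A = 2 ^ 11 * 3 ^ 3 * 5 ^ 2 * 13 := by
    rw [← card_tits]
    conv_lhs => arg 2; rw [← hBcard]
    rw [← Nat.card_prod, Nat.card_congr (MonoidHom.ofInjective hinj).toEquiv, hrange]
  have h13 : 13 ∣ Nat.card A := by
    have : 13 ∣ Nat.card A * Nat.card A := ⟨2 ^ 11 * 3 ^ 3 * 5 ^ 2, by rw [hcard, mul_comm]⟩
    exact ((Nat.Prime.dvd_mul (by norm_num : Nat.Prime 13)).1 this).elim id id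
  obtain ⟨k, hk⟩ := h13
  rw [hk, show 13 * k * (13 * k) = 13 * (13 * (k * k)) by ring] at hcard
  omega

end CfsgLib.Chev.F4Two
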