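import Cfsg.Agent.Lib.Chev.Cert

/-!
A certified datum: its tables, and the entries of the root elements.
-/

set_option autoImplicit false

namespace CfsgLib.Chev

open Cfsg.Lie Matrix

namespace Tab

variable (T : Tab)

lemma linBlock_spec {r s : ℕ} : ∀ (fuel k : ℕ) {B : ℕ}, T.linBlock r s fuel k B = true →
    ∀ q ∈ (decode fuel B).zipIdx k, ∀ j < T.l, T.car j q.1.1 = T.car j s + q.2 * T.car j r := by
  intro fuel
  induction fuel with
  | zero => intro k B _ q hq; simp [decode] at hq
  | succ m ih =>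
    intro k B h q hq
    change cond (Nat.beq B 0) true _ = true at h
    simp only [decode] at hq
    split at hq
    · simp at hq
    next hB =>
      have hB' : Nat.beq B 0 = false := by
        cases hb : Nat.beq B 0
        · rfl
        · exact absurd (Nat.eq_of_beq_eq_true hb) hB
      rw [hB', cond_false] at h
      obtain ⟨h1, h2⟩ := cond_false_eq_true h
      rw [List.zipIdx_cons] at hq
      rcases List.mem_cons.1 hq with rfl | hq
      · intro j hj
        have e := Nat.eq_of_beq_eq_true (allBelow_eq_true h1 j hj)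
        rw [show Nat.sub (Nat.land B 511) 1 = B % 2 ^ 9 - 1 from
          congrArg (· - 1) (Nat.and_two_pow_sub_one_eq_mod B 9)] at e
        simp only [T.car_eq']
        have e' : ((T.carF j (B % 2 ^ 9 - 1) + 3 * k : ℕ) : ℤ) =
            ((T.carF j s + k * T.carF j r : ℕ) : ℤ) := by
          exact congrArg Nat.cast e
        push_cast at e'
        linear_combination e'
      · exact ih (k + 1) h2 q hq

lemma pairing_eq_sum (r s : ℕ) :
    T.pairing r s = ∑ k ∈ Finset.range T.l, T.cor r k * T.car k s := rfl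

end Tab

namespace Cert

variable {D : ChevalleyDatum} {T : Tab} {C : Tab.Cover} (h : Cert D T C)
include h

/-! ### Translation of the datum -/

lemma neg_eq {r : ℕ} (hr : r < T.n) : D.neg r = T.neg r := h.agrees.neg_eq hr

lemma simple_eq {i : ℕ} (hi : i < T.l) : D.simple i = T.simple i := h.agrees.simple_eq hi

lemma cartan_eq {i s : ℕ} (hi : i < T.l) (hs : s < T.n) : D.cartan i s = T.car i s :=
  h.agrees.cartan_eq hi hs

lemma exists_cor_ne {r : ℕ} (hr : r < T.n) : ∃ i < T.l, T.cor r i ≠ 0 := by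
  by_contra hne
  push Not at hne
  exact one_ne_zero (h.eq_zero_of_cor_mul (R := ℤ) hr (t := 1) fun i hi => by simp [hne i hi])

lemma isPosRoot_iff {r : ℕ} : D.IsPosRoot r ↔ T.half ≤ r ∧ r < T.n := by
  unfold ChevalleyDatum.IsPosRoot
  rw [h.nroots_eq]
  constructor
  · rintro ⟨hr, hc⟩
    refine ⟨?_, hr⟩
    by_contra hlt
    obtain ⟨i, hi, hne⟩ := h.exists_cor_ne hr
    have h1 := (h.root_spec hr hi).2.1 (by omega)
    have h2 : 0 ≤ T.cor r i := hc _ (by
      rw [h.agrees.coroot_toList hr]; exact List.mem_map.2 ⟨i, List.mem_range.2 hi, rfl⟩)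
    omega
  · rintro ⟨hh, hr⟩
    refine ⟨hr, fun c hc => ?_⟩
    rw [h.agrees.coroot_toList hr] at hc
    obtain ⟨i, hi, rfl⟩ := List.mem_map.1 hc
    exact (h.root_spec hr (List.mem_range.1 hi)).1 hh

lemma isNegRoot_iff {r : ℕ} : D.IsNegRoot r ↔ r < T.half := by
  have htwo := h.two_mul_half
  unfold ChevalleyDatum.IsNegRoot
  rw [h.nroots_eq]
  constructor
  · rintro ⟨hr, hc⟩
    by_contra hlt
    obtain ⟨i, hi, hne⟩ := h.exists_cor_ne hr
    have h1 := (h.root_spec hr hi).1 (by omega)
    have h2 : T.cor r i ≤ 0 := hc _ (by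
      rw [h.agrees.coroot_toList hr]; exact List.mem_map.2 ⟨i, List.mem_range.2 hi, rfl⟩)
    omega
  · intro hh
    refine ⟨by omega, fun c hc => ?_⟩
    rw [h.agrees.coroot_toList (show r < T.n by omega)] at hc
    obtain ⟨i, hi, rfl⟩ := List.mem_map.1 hc
    exact (h.root_spec (by omega) (List.mem_range.1 hi)).2.1 hh

lemma chainRoot_eq {r : ℕ} (hr : r < T.n) {s : ℕ} (hs : s < T.n) (i : ℕ) :
    D.chainRoot r s i = T.chainRoot r s i := by
  unfold ChevalleyDatum.chainRoot Tab.chainRoot
  rw [h.agrees.chainEntry_eq hr hs]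

lemma chainM_eq {r : ℕ} (hr : r < T.n) {s : ℕ} (hs : s < T.n) (i : ℕ) :
    D.chainM r s i = T.chainM r s i := by
  unfold ChevalleyDatum.chainM Tab.chainM
  rw [h.agrees.chainEntry_eq hr hs]

lemma reflectRoot_eq {i s : ℕ} (hi : i < T.l) (hs : s < T.n) :
    D.reflectRoot i s = T.refl i s := by
  have hp := h.simple_lt hi
  rw [h.refl_eq_reflCalc hi hs]
  unfold ChevalleyDatum.reflectRoot Tab.reflCalc
  simp only [h.simple_eq hi, h.cartan_eq hi hs, h.neg_eq hp, h.chainRoot_eq hp hs,
    h.chainRoot_eq (neg_lt (T := T) hp) hs]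

lemma lin_spec {r s : ℕ} (hr : r < T.n) (hs : s < T.n) {q : (ℕ × ℤ) × ℕ}
    (hq : q ∈ (T.entry r s).zipIdx 1) {j : ℕ} (hj : j < T.l) :
    T.car j q.1.1 = T.car j s + q.2 * T.car j r := by
  have h1 := allBelow_eq_true (allBelow_eq_true h.linOk r hr) s hs
  rw [force_eq] at h1
  cases hb : Nat.beq (Tab.blk (T.row r) s) 0
  · rw [hb, cond_false] at h1
    have h2 := T.linBlock_spec 3 1 h1
    rw [Tab.blk_eq] at h2
    exact h2 q hq j hj
  · rw [(T.entry_nil_iff r s).2 (Nat.eq_of_beq_eq_true hb)] at hq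
    simp at hq

lemma pairing_lin {r s : ℕ} (hr : r < T.n) (hs : s < T.n) {q : (ℕ × ℤ) × ℕ}
    (hq : q ∈ (T.entry r s).zipIdx 1) (a : ℕ) :
    T.pairing a q.1.1 = T.pairing a s + q.2 * T.pairing a r := by
  simp only [Tab.pairing_eq_sum, Finset.mul_sum, ← Finset.sum_add_distrib]
  refine Finset.sum_congr rfl fun k hk => ?_
  rw [h.lin_spec hr hs hq (Finset.mem_range.1 hk)]
  ring

lemma entry_lt {r s : ℕ} (hr : r < T.n) (hs : s < T.n) {q : (ℕ × ℤ) × ℕ}
    (hq : q ∈ (T.entry r s).zipIdx 1) : q.1.1 < T.n := by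
  have hm : q.1 ∈ T.entry r s := List.fst_mem_of_mem_zipIdx hq
  exact ((h.chain_spec hr hs (List.ne_nil_of_mem hm)).2.2.2 _ hm).1

/-- Induction over the positive roots, by height. -/
lemma pos_induction {P : ℕ → Prop} (hs : ∀ i < T.l, P (T.simple i))
    (hw : ∀ i < T.l, ∀ r, T.half ≤ r → r < T.n → T.half ≤ T.refl i r → r ≠ T.simple i → P r →
      P (T.refl i r))
    {r : ℕ} (hh : T.half ≤ r) (hr : r < T.n) : P r := by
  induction r using Nat.strong_induction_on with
  | _ r ih =>
    have h1 := allBelow_eq_true h.descOk r hr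
    rw [Nat.ble_eq_true_of_le hh, cond_true, Bool.not_eq_true'] at h1
    have h2 : ∃ i < T.l, T.simple i = r ∨ (T.half ≤ T.refl i r ∧ T.refl i r < r) := by
      by_contra hne
      push Not at hne
      refine Bool.false_ne_true (h1.symm.trans (allBelow_of_forall fun i hi => ?_))
      obtain ⟨a, b⟩ := hne i hi
      rw [force_eq, T.reflF_eq]
      cases e1 : Nat.beq (Tab.field 8 T.simpleP i) r
      · rw [cond_false]
        cases e2 : Nat.ble T.half (T.refl i r)
        · rfl
        · rw [cond_true]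
          cases e3 : Nat.blt (T.refl i r) r
          · rfl
          · exact absurd (b (Nat.le_of_ble_eq_true e2)) (not_le.2 (Nat.le_of_ble_eq_true e3))
      · exact absurd (Nat.eq_of_beq_eq_true e1) a
    obtain ⟨i, hi, h3⟩ := h2
    rcases h3 with rfl | ⟨a, b⟩
    · exact hs i hi
    · have hne : T.refl i r ≠ T.simple i := by
        intro e
        have := congrArg (T.refl i) e
        rw [h.refl_refl hi hr, h.refl_simple hi] at this
        have hp := h.simple_spec hi
        have := (h.half_le_neg_iff hp.2.1).1 (this ▸ hh)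
        omega
      have := hw i hi (T.refl i r) a (h.refl_lt hi hr) (by rw [h.refl_refl hi hr]; exact hh) hne
        (ih _ b a (h.refl_lt hi hr))
      rwa [h.refl_refl hi hr] at this

/-- Induction over all roots from the simple ones, along simple reflections. -/
lemma root_induction {P : ℕ → Prop} (hs : ∀ i < T.l, P (T.simple i))
    (hw : ∀ i < T.l, ∀ r < T.n, P r → P (T.refl i r)) {r : ℕ} (hr : r < T.n) : P r := by
  have key : ∀ {r}, T.half ≤ r → r < T.n → P r ∧ P (T.neg r) := by
    intro r hh hr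
    refine h.pos_induction (P := fun r => r < T.n → P r ∧ P (T.neg r)) (fun i hi hp => ⟨hs i hi, ?_⟩)
      (fun i hi r _ hr _ _ ih _ => ?_) hh hr hr
    · rw [← h.refl_simple hi]; exact hw i hi _ hp (hs i hi)
    · obtain ⟨h1, h2⟩ := ih hr
      refine ⟨hw i hi r hr h1, ?_⟩
      rw [← (h.refl_spec hi hr).2.2.1]
      exact hw i hi _ (neg_lt (T := T) hr) h2
  by_cases hh : T.half ≤ r
  · exact (key hh hr).1
  · have h2 := (key ((h.half_le_neg_iff hr).2 (by omega)) (neg_lt (T := T) hr)).2
    rwa [neg_neg (T := T) hr] at h2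

/-! ### Entries of the root elements -/

variable {F : Type*} [Field F] {r : ℕ} (hr : r < T.n) (t : F)
include hr

lemma x_inl_inl (j k : Fin D.rank) :
    D.x F r t (Sum.inl j) (Sum.inl k) = if j = k then 1 else 0 := by
  have := h.nroots_eq
  simp [ChevalleyDatum.x, ChevalleyDatum.xMat, show r < D.nroots by omega]

lemma x_inr_inl (v : Fin D.nroots) (k : Fin D.rank) :
    D.x F r t (Sum.inr v) (Sum.inl k) = if v.val = r then -((T.car k r : ℤ) : F) * t else 0 := by
  have := h.nroots_eq
  have := h.rank_eq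
  have hc : (D.cartanSR.getD k.val #[]).getD r 0 = T.car k r :=
    h.agrees.cartan_eq (by omega) hr
  simp only [ChevalleyDatum.x, dif_pos (show r < D.nroots by omega), ChevalleyDatum.xMat,
    Matrix.of_apply, hc, Fin.ext_iff]

lemma x_inl_inr (j : Fin D.rank) (s : Fin D.nroots) :
    D.x F r t (Sum.inl j) (Sum.inr s) =
      if s.val = T.neg r then ((T.cor r j : ℤ) : F) * t else 0 := by
  have hn := h.nroots_eq
  have hl := h.rank_eq
  have hne := h.neg_ne hr
  simp only [ChevalleyDatum.x, dif_pos (show r < D.nroots by omega), ChevalleyDatum.xMat,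
    Matrix.of_apply, h.agrees.negIdx_eq hr, h.agrees.cor_eq hr (show j.val < T.l by omega)]
  split_ifs with a b <;> first | rfl | (exfalso; apply hne; rw [← b, a])

lemma x_inr_inr_self (v : Fin D.nroots) {s : Fin D.nroots} (hs : s.val = r) :
    D.x F r t (Sum.inr v) (Sum.inr s) = if v.val = r then 1 else 0 := by
  have hn := h.nroots_eq
  simp [ChevalleyDatum.x, ChevalleyDatum.xMat, show r < D.nroots by omega, Fin.ext_iff, hs]

lemma x_inr_inr_neg (v : Fin D.nroots) {s : Fin D.nroots} (hs : s.val = T.neg r) :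
    D.x F r t (Sum.inr v) (Sum.inr s) =
      if v.val = T.neg r then 1 else if v.val = r then -(t ^ 2) else 0 := by
  have hn := h.nroots_eq
  have hne := h.neg_ne hr
  simp [ChevalleyDatum.x, ChevalleyDatum.xMat, show r < D.nroots by omega, Fin.ext_iff,
    h.agrees.negIdx_eq hr, hs, hne]

lemma x_inr_inr (v : Fin D.nroots) {s : Fin D.nroots} (h1 : s.val ≠ r) (h2 : s.val ≠ T.neg r) :
    D.x F r t (Sum.inr v) (Sum.inr s) = (if v.val = s.val then 1 else 0) +
      (((T.entry r s).zipIdx 1).map fun q =>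
        if q.1.1 = v.val then (q.1.2 : F) * t ^ q.2 else 0).sum := by
  have hn := h.nroots_eq
  simp only [ChevalleyDatum.x, dif_pos (show r < D.nroots by omega), ChevalleyDatum.xMat,
    Matrix.of_apply, h.agrees.negIdx_eq hr, if_neg h2, Fin.ext_iff, if_neg h1,
    h.agrees.chainCoeff_eq hr (show s.val < T.n by omega)]
  congr 1
  rw [List.map_map, sum_map_filter_eq, show (T.entry r s).zipIdx 1 =
    ((T.entry r s).zipIdx 0).map (fun q => (q.1, q.2 + 1)) by
      rw [List.zipIdx_succ], List.map_map]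
  simp [Function.comp_def]

omit hr in
lemma x_zero (hr : r < T.n) : D.x F r (0 : F) = 1 := by
  ext row col
  rcases row with j | v <;> rcases col with k | s
  · rw [h.x_inl_inl hr, Matrix.one_apply]; simp
  · rw [h.x_inl_inr hr, Matrix.one_apply]; simp
  · rw [h.x_inr_inl hr, Matrix.one_apply]; simp
  · rw [Matrix.one_apply]
    by_cases h1 : s.val = r
    · rw [h.x_inr_inr_self hr _ _ h1]; simp [Fin.ext_iff, h1]
    · by_cases h2 : s.val = T.neg r
      · rw [h.x_inr_inr_neg hr _ _ h2]; simp [Fin.ext_iff, h2]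
      · rw [h.x_inr_inr hr _ _ h1 h2, List.sum_eq_zero]
        · simp [Fin.ext_iff]
        · intro a ha
          obtain ⟨q, hq, rfl⟩ := List.mem_map.1 ha
          have := List.le_snd_of_mem_zipIdx hq
          simp [show q.2 ≠ 0 by omega]

lemma x_eq_one_iff : D.x F r t = 1 ↔ t = 0 := by
  refine ⟨fun e => ?_, fun e => e ▸ h.x_zero hr⟩
  refine h.eq_zero_of_cor_mul hr fun i hi => ?_
  have hn := h.nroots_eq
  have hl := h.rank_eq
  have := congrFun (congrFun e (Sum.inl ⟨i, by omega⟩))
    (Sum.inr ⟨T.neg r, by have := neg_lt (T := T) hr; omega⟩)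
  rw [h.x_inl_inr hr] at this
  simpa using this

end Cert

end CfsgLib.Chev
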