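import Cfsg.Agent.Lib.Chev.FixClass

/-!
Blocks of the adjoint matrices stable under some root subgroups, and injectivity of a homomorphism
on the rank one subgroup of a class.
-/

set_option autoImplicit false
set_option linter.unusedSectionVars false

namespace CfsgLib.Chev

open Cfsg.Lie Matrix

/-- The columns of the root elements of `R` do not mix the coordinates of `S` with the others. -/
def chkBlock (T : Tab) (R S : List ℕ) : Bool :=
  R.all fun r => decide (r < T.n) && (List.range (T.n + T.l)).all fun c =>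
    (T.col r c).all fun q => decide (q.1 ∈ S ↔ c ∈ S)

namespace Cert

variable {D : ChevalleyDatum} {T : Tab} {C : Tab.Cover} (h : Cert D T C) {F : Type*} [Field F]

/-- The matrices respecting the block `S`. -/
def blockGroup (D : ChevalleyDatum) (F : Type*) [Field F] (S : List ℕ) :
    Subgroup (GL D.Idx F) where
  carrier := {g | (∀ row col, ¬(enc row ∈ S ↔ enc col ∈ S) →
      (g : Matrix D.Idx D.Idx F) row col = 0) ∧ ∀ row col, ¬(enc row ∈ S ↔ enc col ∈ S) →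
      ((g⁻¹ : GL D.Idx F) : Matrix D.Idx D.Idx F) row col = 0}
  one_mem' := by
    refine ⟨fun row col hne => ?_, fun row col hne => ?_⟩ <;>
    · simp only [inv_one, Units.val_one]
      exact Matrix.one_apply_ne fun e => hne (by rw [e])
  mul_mem' := by
    have key : ∀ A B : Matrix D.Idx D.Idx F,
        (∀ row col, ¬(enc row ∈ S ↔ enc col ∈ S) → A row col = 0) →
        (∀ row col, ¬(enc row ∈ S ↔ enc col ∈ S) → B row col = 0) →
        ∀ row col, ¬(enc row ∈ S ↔ enc col ∈ S) → (A * B) row col = 0 := by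
      intro A B hA hB row col hne
      rw [Matrix.mul_apply]
      refine Finset.sum_eq_zero fun j _ => ?_
      by_cases hj : enc row ∈ S ↔ enc j ∈ S
      · rw [hB j col fun hj' => hne (hj.trans hj'), mul_zero]
      · rw [hA row j hj, zero_mul]
    rintro a b ⟨ha, ha'⟩ ⟨hb, hb'⟩
    refine ⟨?_, ?_⟩
    · rw [Units.val_mul]; exact key _ _ ha hb
    · rw [_root_.mul_inv_rev, Units.val_mul]; exact key _ _ hb' ha'
  inv_mem' := by
    rintro a ⟨ha, ha'⟩
    exact ⟨ha', by rwa [inv_inv]⟩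

include h in
lemma X_mem_blockGroup {R S : List ℕ} (hc : chkBlock T R S = true) {r : ℕ} (hr : r ∈ R) (t : F) :
    X D r t ∈ blockGroup D F S := by
  simp only [chkBlock, List.all_eq_true, Bool.and_eq_true, decide_eq_true_eq, List.mem_range] at hc
  obtain ⟨hlt, hcol⟩ := hc r hr
  have key : ∀ z : F, ∀ row col, ¬(enc row ∈ S ↔ enc col ∈ S) → D.x F r z row col = 0 := by
    intro z row col hne
    rw [x_apply h.agrees hlt]
    refine List.sum_eq_zero fun v hv => ?_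
    obtain ⟨q, hq, rfl⟩ := List.mem_map.1 hv
    refine if_neg fun e => hne ?_
    rw [← e]
    exact hcol _ (lt_of_lt_of_le (enc_lt h.agrees col) le_rfl) q hq
  refine ⟨fun row col hne => ?_, fun row col hne => ?_⟩
  · rw [h.coe_X]; exact key t row col hne
  · rw [h.X_inv hlt, h.coe_X]; exact key _ row col hne

include h in
lemma gen_le_blockGroup {R S : List ℕ} (hc : chkBlock T R S = true) {P : Set ℕ}
    (hP : ∀ r ∈ P, r ∈ R) : gen D F P ≤ blockGroup D F S := by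
  refine (Subgroup.closure_le _).2 ?_
  rintro _ ⟨r, hr, t, rfl⟩
  exact h.X_mem_blockGroup hc (hP r hr) t

variable {k : ℕ} {S : List ℕ} (ι : Fin k → D.Idx)
  (hι : Function.Injective ι) (hS : ∀ i, enc (ι i) ∈ S) (honto : ∀ a : D.Idx, enc a ∈ S → ∃ i, ι i = a)

lemma submatrix_mul {A B : Matrix D.Idx D.Idx F}
    (hA : ∀ row col, ¬(enc row ∈ S ↔ enc col ∈ S) → A row col = 0)
    (hι : Function.Injective ι) (hS : ∀ i, enc (ι i) ∈ S)
    (honto : ∀ a : D.Idx, enc a ∈ S → ∃ i, ι i = a) :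
    (A * B).submatrix ι ι = A.submatrix ι ι * B.submatrix ι ι := by
  ext i j
  simp only [Matrix.submatrix_apply, Matrix.mul_apply]
  refine ((Finset.sum_subset (Finset.subset_univ (Finset.univ.map ⟨ι, hι⟩))
    fun a _ ha => ?_).symm).trans (Finset.sum_map Finset.univ ⟨ι, hι⟩
      (fun a => A (ι i) a * B a (ι j)))
  rw [hA (ι i) a fun e => ?_, zero_mul]
  obtain ⟨l, rfl⟩ := honto a (e.1 (hS i))
  exact ha (Finset.mem_map.2 ⟨l, Finset.mem_univ _, rfl⟩)

/-- The block of a matrix respecting it. -/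
noncomputable def blockHom : ↥(blockGroup D F S) →* Matrix (Fin k) (Fin k) F where
  toFun g := (g.1 : Matrix D.Idx D.Idx F).submatrix ι ι
  map_one' := by
    ext i j
    simp [Matrix.submatrix_apply, Matrix.one_apply, hι.eq_iff]
  map_mul' a b := by
    rw [Subgroup.coe_mul, Units.val_mul]
    exact submatrix_mul ι a.2.1 hι hS honto

/-- The block as an invertible matrix. -/
noncomputable def blockGL : ↥(blockGroup D F S) →* GL (Fin k) F :=
  (blockHom ι hι hS honto).toHomUnits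

lemma coe_blockGL (g : ↥(blockGroup D F S)) :
    (blockGL ι hι hS honto g : Matrix (Fin k) (Fin k) F) =
      (g.1 : Matrix D.Idx D.Idx F).submatrix ι ι := rfl

end Cert

namespace Endo

variable {D : ChevalleyDatum} {T : Tab} {C : Tab.Cover} {h : Cert D T C} {F : Type*} [Field F]
  (E : Endo h F) {CL : List Cls} (hC : E.ClsOK CL) (hG : E.Reps E.fix CL) {c : Cls} (hc : c ∈ CL)
include hC hG hc

/-- A homomorphism on a rank one subgroup separating its root subgroups and torus is injective. -/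
theorem class_injective {M : Type*} [Group M] (φ : ↥(E.clsL c) →* M) {n : ↥E.fix}
    (hn : E.IsRep c n) (hnL : n ∈ E.clsL c) (hne : ∃ x ∈ E.clsX c, x ≠ 1)
    (hH : ∀ t : ↥(E.clsL c), (t : ↥E.fix) ∈ E.diaG → φ t = 1 → t = 1)
    (hXH : ∀ a t : ↥(E.clsL c), (a : ↥E.fix) ∈ E.clsX c → (t : ↥E.fix) ∈ E.diaG →
      φ a = φ t → a = 1)
    (hXY : ∀ a b : ↥(E.clsL c), (a : ↥E.fix) ∈ E.clsX c → (b : ↥E.fix) ∈ E.clsX c →
      φ a = φ (⟨n, hnL⟩ * b * ⟨n, hnL⟩⁻¹) → a = 1) :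
    Function.Injective φ := by
  set Y : Set ↥E.fix := {g | (∃ x ∈ E.clsX c, ∃ t ∈ E.diaG, g = x * t) ∨
    ∃ x ∈ E.clsX c, ∃ t ∈ E.diaG, ∃ y ∈ E.clsX c, g = x * t * n * y} with hY
  have hXmul : ∀ a ∈ E.clsX c, ∀ g ∈ Y, a * g ∈ Y := by
    rintro a ha g (⟨x, hx, t, ht, rfl⟩ | ⟨x, hx, t, ht, y, hy, rfl⟩)
    · exact Or.inl ⟨a * x, mul_mem ha hx, t, ht, by group⟩
    · exact Or.inr ⟨a * x, mul_mem ha hx, t, ht, y, hy, by group⟩
  have hHmul : ∀ s ∈ E.diaG, ∀ g ∈ Y, s * g ∈ Y := by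
    rintro s hs g (⟨x, hx, t, ht, rfl⟩ | ⟨x, hx, t, ht, y, hy, rfl⟩)
    · exact Or.inl ⟨s * x * s⁻¹, E.diaG_clsX hC hc hs hx, s * t, mul_mem hs ht, by group⟩
    · exact Or.inr ⟨s * x * s⁻¹, E.diaG_clsX hC hc hs hx, s * t, mul_mem hs ht, y, hy, by group⟩
  have hnn := E.rep_mul_rep hC hc hn hn
  have hnH : ∀ t ∈ E.diaG, n * t * n⁻¹ ∈ E.diaG := fun t ht => by
    rw [diaG, Subgroup.mem_subgroupOf] at ht ⊢
    rw [Subgroup.coe_mul, Subgroup.coe_mul, Subgroup.coe_inv]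
    exact diag_conj (h := h) (Subgroup.mem_subgroupOf.1 hn.1) ht
  have hnH' : ∀ t ∈ E.diaG, n⁻¹ * t * n ∈ E.diaG := fun t ht => by
    have := mul_mem (mul_mem (inv_mem hnn) (hnH t ht)) hnn
    rwa [show (n * n)⁻¹ * (n * t * n⁻¹) * (n * n) = n⁻¹ * t * n by group] at this
  have hnmul : ∀ g ∈ Y, n * g ∈ Y := by
    rintro g (⟨x, hx, t, ht, rfl⟩ | ⟨x, hx, t, ht, y, hy, rfl⟩)
    · refine Or.inr ⟨1, one_mem _, n * t * n⁻¹, hnH t ht, t⁻¹ * x * t, ?_, by group⟩
      simpa using E.diaG_clsX hC hc (inv_mem ht) hx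
    · have ht' := hnH' t ht
      by_cases hx1 : x = 1
      · subst hx1
        refine Or.inl ⟨n * t * n * y * (n * t * n)⁻¹, E.diaG_clsX hC hc ?_ hy, n * t * n, ?_, by group⟩ <;>
        · have := mul_mem (hnH t ht) hnn
          rwa [show n * t * n⁻¹ * (n * n) = n * t * n by group] at this
      · obtain ⟨a, ha, m, hm, b, hb, e'⟩ := E.class_bru hC hc hG hn hx hx1
        have hmn := E.rep_mul_rep hC hc hm hn
        set t' := n⁻¹ * t * n
        rw [show n * (x * t * n * y) = a * (1 * (m * n * (n * t' * n⁻¹)) * n *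
            ((n * n * t')⁻¹ * b * (n * n * t') * y)) by
          calc n * (x * t * n * y) = (n * x * n⁻¹) * (n * n * (n⁻¹ * t * n) * y) := by group
            _ = _ := by rw [e']; simp only [t']; group]
        refine hXmul a ha _ (Or.inr ⟨1, one_mem _, m * n * (n * t' * n⁻¹),
          mul_mem hmn (hnH t' ht'), _, mul_mem ?_ hy, rfl⟩)
        simpa using E.diaG_clsX hC hc (inv_mem (mul_mem hnn ht')) hb
  have hall : ∀ g ∈ Subgroup.closure ((E.clsX c : Set ↥E.fix) ∪ {n}),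
      (∀ z ∈ Y, g * z ∈ Y) ∧ ∀ z ∈ Y, g⁻¹ * z ∈ Y := by
    intro g hg
    induction hg using Subgroup.closure_induction with
    | mem g hg =>
      rcases hg with hg | rfl
      · exact ⟨fun z hz => hXmul g hg z hz, fun z hz => hXmul _ (inv_mem hg) z hz⟩
      · refine ⟨hnmul, fun z hz => ?_⟩
        rw [show g⁻¹ * z = (g * g)⁻¹ * (g * z) by group]
        exact hHmul _ (inv_mem hnn) _ (hnmul z hz)
    | one => exact ⟨fun z hz => by rwa [one_mul], fun z hz => by rwa [inv_one, one_mul]⟩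
    | mul a b _ _ iha ihb =>
      exact ⟨fun z hz => by rw [mul_assoc]; exact iha.1 _ (ihb.1 _ hz),
        fun z hz => by rw [_root_.mul_inv_rev, mul_assoc]; exact ihb.2 _ (iha.2 _ hz)⟩
    | inv a _ ih => exact ⟨ih.2, by rw [inv_inv]; exact ih.1⟩
  have hcover : E.clsL c ≤ Subgroup.closure ((E.clsX c : Set ↥E.fix) ∪ {n}) := by
    rw [← E.clsL_eq hC hc hn]
    refine sup_le (fun x hx => Subgroup.subset_closure (Or.inl hx)) ?_
    rintro _ ⟨x, hx, rfl⟩
    simp only [MulEquiv.coe_toMonoidHom, MulAut.conj_apply]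
    exact mul_mem (mul_mem (Subgroup.subset_closure (Or.inr rfl))
      (Subgroup.subset_closure (Or.inl hx))) (inv_mem (Subgroup.subset_closure (Or.inr rfl)))
  have hXL : ∀ {x}, x ∈ E.clsX c → x ∈ E.clsL c := fun hx => Subgroup.mem_sup_left hx
  rw [injective_iff_map_eq_one]
  rintro ⟨g, hgL⟩ hg
  have hgY : g ∈ Y := by
    simpa using (hall g (hcover hgL)).1 1 (Or.inl ⟨1, one_mem _, 1, one_mem _, by group⟩)
  rcases hgY with ⟨x, hx, t, ht, e'⟩ | ⟨x, hx, t, ht, y, hy, e'⟩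
  · have htL : t ∈ E.clsL c := by
      rw [show t = x⁻¹ * g by rw [e']; group]; exact mul_mem (inv_mem (hXL hx)) hgL
    have e2 : (⟨g, hgL⟩ : ↥(E.clsL c)) = ⟨x, hXL hx⟩ * ⟨t, htL⟩ := Subtype.ext e'
    rw [e2] at hg ⊢
    rw [map_mul] at hg
    have hx1 : (⟨x, hXL hx⟩ : ↥(E.clsL c)) = 1 := by
      refine hXH _ (⟨t, htL⟩⁻¹) hx (inv_mem ht) ?_
      rw [map_inv]; exact eq_inv_of_mul_eq_one_left hg
    rw [hx1, map_one, one_mul] at hg
    rw [hx1, one_mul]; exact hH _ ht hg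
  · exfalso
    obtain ⟨z, hz, hz1⟩ := hne
    set N : ↥(E.clsL c) := ⟨n, hnL⟩ with hN
    have htL : t ∈ E.clsL c := by
      rw [show t = x⁻¹ * g * (n * y)⁻¹ by rw [e']; group]
      exact mul_mem (mul_mem (inv_mem (hXL hx)) hgL) (inv_mem (mul_mem hnL (hXL hy)))
    set T' : ↥(E.clsL c) := ⟨t, htL⟩
    set W : ↥(E.clsL c) := ⟨y * x, hXL (mul_mem hy hx)⟩
    set Z : ↥(E.clsL c) := ⟨z, hXL hz⟩
    set Y' : ↥(E.clsL c) := ⟨y, hXL hy⟩
    have e2 : W * T' * N = Y' * ⟨g, hgL⟩ * Y'⁻¹ := Subtype.ext (by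
      simp only [W, T', N, Y', Subgroup.coe_mul, Subgroup.coe_inv, e']; group)
    have hk : φ (W * T' * N) = 1 := by
      rw [e2, map_mul, map_mul, hg, mul_one, map_inv, mul_inv_cancel]
    set t' := n⁻¹ * t * n
    have hz' : t' * z * t'⁻¹ ∈ E.clsX c := E.diaG_clsX hC hc (hnH' t ht) hz
    have h1 := hXY (W⁻¹ * Z * W) ⟨_, hXL hz'⟩
      (mul_mem (mul_mem (inv_mem (mul_mem hy hx)) hz) (mul_mem hy hx)) hz' ?_
    · exact hz1 (congrArg Subtype.val
        ((conj_eq_one_iff (a := W⁻¹) (b := Z)).1 (by rwa [inv_inv])))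
    · have e3 : N * ⟨_, hXL hz'⟩ * N⁻¹ = T' * N * Z * (T' * N)⁻¹ := Subtype.ext (by
        simp only [N, T', Z, t', Subgroup.coe_mul, Subgroup.coe_inv]; group)
      rw [e3]
      have h4 : φ (T' * N) = (φ W)⁻¹ := by
        refine eq_inv_of_mul_eq_one_right ?_
        rw [← map_mul, ← mul_assoc, hk]
      simp only [map_mul, map_inv] at h4 ⊢
      rw [h4]; group

omit hG in
/-- The image of a rank one subgroup, from those of its root subgroup and representative. -/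
theorem class_hom_mem {n : ↥E.fix} (hn : E.IsRep c n) (hnL : n ∈ E.clsL c) {M : Type*} [Group M]
    (φ : ↥(E.clsL c) →* M) (S : Subgroup M)
    (hX : ∀ x (hx : x ∈ E.clsX c), φ ⟨x, Subgroup.mem_sup_left hx⟩ ∈ S) (hN : φ ⟨n, hnL⟩ ∈ S)
    (g : ↥(E.clsL c)) : φ g ∈ S := by
  have hle : E.clsL c ≤ (S.comap φ).map (E.clsL c).subtype := by
    refine (E.clsL_eq hC hc hn).ge.trans ?_
    refine sup_le (fun x hx => ⟨⟨x, Subgroup.mem_sup_left hx⟩, hX x hx, rfl⟩) ?_
    rintro _ ⟨x, hx, rfl⟩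
    refine ⟨⟨n, hnL⟩ * ⟨x, Subgroup.mem_sup_left hx⟩ * (⟨n, hnL⟩ : ↥(E.clsL c))⁻¹, ?_, rfl⟩
    rw [SetLike.mem_coe, Subgroup.mem_comap, map_mul, map_mul, map_inv]
    exact mul_mem (mul_mem hN (hX x hx)) (inv_mem hN)
  obtain ⟨g', hg', e'⟩ := hle g.2
  rwa [Subtype.ext e'] at hg'

omit hG in
/-- A homomorphism to a commutative group trivial on the root subgroup of a class is trivial. -/
theorem class_hom_eq_one {n : ↥E.fix} (hn : E.IsRep c n) (hnL : n ∈ E.clsL c) {A : Type*}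
    [CommGroup A] (δ : ↥(E.clsL c) →* A)
    (hX : ∀ x (hx : x ∈ E.clsX c), δ ⟨x, Subgroup.mem_sup_left hx⟩ = 1) (g : ↥(E.clsL c)) :
    δ g = 1 := by
  have hle : E.clsL c ≤ δ.ker.map (E.clsL c).subtype := by
    refine (E.clsL_eq hC hc hn).ge.trans ?_
    refine sup_le (fun x hx => ⟨⟨x, Subgroup.mem_sup_left hx⟩, hX x hx, rfl⟩) ?_
    rintro _ ⟨x, hx, rfl⟩
    refine ⟨⟨n, hnL⟩ * ⟨x, Subgroup.mem_sup_left hx⟩ * (⟨n, hnL⟩ : ↥(E.clsL c))⁻¹, ?_, rfl⟩
    rw [SetLike.mem_coe, MonoidHom.mem_ker, map_mul, map_mul, hX x hx, mul_one, map_inv,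
      mul_inv_cancel]
  obtain ⟨g', hg', e'⟩ := hle g.2
  rwa [Subtype.ext e'] at hg'

end Endo

end CfsgLib.Chev
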