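import Cfsg.Agent.Lib.Chev.BN

/-!
Bruhat decomposition with the unipotent factor of the cell, and the opposite unipotent subgroup.
-/

set_option autoImplicit false

namespace CfsgLib.Chev

open Cfsg.Lie Matrix

namespace Cert

variable {D : ChevalleyDatum} {T : Tab} {C : Tab.Cover} (h : Cert D T C) {F : Type*} [Field F]
include h

omit h in
lemma gen_nil : gen D F {r | r ∈ ([] : List ℕ)} = ⊥ := by simp [gen]

omit h in
lemma gen_cons_le (r : ℕ) (L : List ℕ) :
    gen D F {s | s ∈ r :: L} ≤ gen D F {r} ⊔ gen D F {s | s ∈ L} := by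
  refine (Subgroup.closure_le _).2 ?_
  rintro _ ⟨s, hs, u, rfl⟩
  rcases List.mem_cons.1 hs with rfl | hs
  · exact Subgroup.mem_sup_left (X_mem_gen D (Set.mem_singleton _) u)
  · exact Subgroup.mem_sup_right (X_mem_gen D hs u)

/-- The closed set split in two closed parts: every element is a product of one from each. -/
theorem exists_split (A : Set ℕ) :
    ∀ (L : List ℕ), L.SortedLT → (∀ r ∈ L, r ∈ posSet T) → CommClosed T {r | r ∈ L} →
      ∀ g ∈ gen D F {r | r ∈ L}, ∃ a ∈ gen D F ({r | r ∈ L} ∩ A),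
        ∃ b ∈ gen D F ({r | r ∈ L} \ A), g = a * b := by
  intro L
  induction L with
  | nil =>
    intro _ _ _ g hg
    rw [gen_nil, Subgroup.mem_bot] at hg
    exact ⟨1, one_mem _, 1, one_mem _, by simp [hg]⟩
  | cons r L ih =>
    intro hsort hpos hcl g hg
    have hrL : ∀ s ∈ L, r < s := (List.pairwise_cons.1 hsort.pairwise).1
    have hsort' : L.SortedLT := (List.pairwise_cons.1 hsort.pairwise).2.sortedLT
    have hr := hpos r List.mem_cons_self
    have hin : ∀ a ∈ r :: L, ∀ b ∈ L, a ≠ b → ∀ q ∈ T.commTerms a b, q.1 ∈ L := by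
      intro a ha b hb hab q hq
      have hpa := hpos a ha
      have hpb := hpos b (List.mem_cons_of_mem _ hb)
      rcases List.mem_cons.1 (hcl a ha b (List.mem_cons_of_mem _ hb) hab.symm q hq) with e | e
      · exfalso
        have := (h.commTerms_pos hpa.1 hpa.2 hpb.1 hpb.2 hq).1
        have := hrL b hb
        rcases List.mem_cons.1 ha with rfl | ha
        · omega
        · have := hrL a ha; omega
      · exact e
    have hcl' : CommClosed T {s | s ∈ L} := fun a ha b hb hab q hq =>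
      hin a (List.mem_cons_of_mem _ ha) b hb (Ne.symm hab) q hq
    have hnorm : gen D F {r} ≤
        Subgroup.normalizer (gen D F {s | s ∈ L} : Set (GL D.Idx F)) := by
      refine le_normalizer_closure fun g hg a ha => ?_
      obtain ⟨b, rfl⟩ := (h.gen_singleton hr.2).1 hg
      obtain ⟨s, hs, u, rfl⟩ := ha
      have hps := hpos s (List.mem_cons_of_mem _ hs)
      exact h.X_conj_mem hr.2 hps.2 (hrL s hs).ne' (posSet_neg_ne h hr hps) hs
        (fun q hq => hin r List.mem_cons_self s hs (hrL s hs).ne q hq) b u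
    have ih' := ih hsort' (fun s hs => hpos s (List.mem_cons_of_mem _ hs)) hcl'
    have hmono1 : gen D F ({s | s ∈ L} ∩ A) ≤ gen D F ({s | s ∈ r :: L} ∩ A) :=
      gen_mono D fun s hs => ⟨List.mem_cons_of_mem _ hs.1, hs.2⟩
    have hmono2 : gen D F ({s | s ∈ L} \ A) ≤ gen D F ({s | s ∈ r :: L} \ A) :=
      gen_mono D fun s hs => ⟨List.mem_cons_of_mem _ hs.1, hs.2⟩
    by_cases hrA : r ∈ A
    · have hg' := gen_cons_le r L hg
      rw [← SetLike.mem_coe, Subgroup.coe_mul_of_left_le_normalizer_right _ _ hnorm] at hg'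
      obtain ⟨x, hx, y, hy, rfl⟩ := hg'
      obtain ⟨a, ha, b, hb, rfl⟩ := ih' y hy
      refine ⟨x * a, mul_mem (gen_mono D ?_ hx) (hmono1 ha), b, hmono2 hb, (mul_assoc _ _ _).symm⟩
      rintro s rfl
      exact ⟨List.mem_cons_self, hrA⟩
    · have hg' := gen_cons_le r L hg
      rw [sup_comm, ← SetLike.mem_coe, Subgroup.coe_mul_of_right_le_normalizer_left _ _ hnorm] at hg'
      obtain ⟨y, hy, x, hx, rfl⟩ := hg'
      obtain ⟨a, ha, b, hb, rfl⟩ := ih' y hy
      refine ⟨a, hmono1 ha, b * x, mul_mem (hmono2 hb) (gen_mono D ?_ hx), mul_assoc _ _ _⟩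
      rintro s rfl
      exact ⟨List.mem_cons_self, hrA⟩

/-- The root subgroups moved into `V` by `n`. -/
lemma rootSubgroup_map_le_iff {n : GL D.Idx F} {r s : ℕ} (hs : s < T.n) (hm : Maps D n r s) :
    (D.rootSubgroup F r).map (MulAut.conj n).toMonoidHom ≤ D.negUnipotent F ↔ s < T.half := by
  obtain ⟨c, hc, e⟩ := hm
  constructor
  · intro hle
    by_contra hge
    have h1 : X D s (c * 1) ∈ D.borelSubgroup F ⊓ D.negUnipotent F := by
      refine ⟨h.X_mem_borel (not_lt.1 hge) hs _, hle ⟨X D r 1, ?_, e 1⟩⟩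
      rw [h.rootSubgroup_eq]; exact X_mem_gen D (Set.mem_singleton r) 1
    rw [h.borel_inf_negUnipotent, Subgroup.mem_bot, h.X_eq_one_iff hs, mul_one] at h1
    exact hc h1
  · intro hlt
    rw [h.rootSubgroup_eq, h.negUnipotent_eq, gen, MonoidHom.map_closure]
    refine (Subgroup.closure_le _).2 ?_
    rintro _ ⟨_, ⟨r', hr', t, rfl⟩, rfl⟩
    rw [Set.mem_singleton_iff.1 hr']
    show n * X D r t * n⁻¹ ∈ gen D F {r | r < T.half}
    rw [e t]
    exact X_mem_gen D (S := {r | r < T.half}) hlt _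

omit h in
/-- The unipotent factor of the cell of `n`. -/
def cellUnipotent (D : ChevalleyDatum) (F : Type*) [Field F] (n : GL D.Idx F) :
    Subgroup (GL D.Idx F) :=
  Subgroup.closure {x : GL D.Idx F | ∃ (r : ℕ) (t : F), D.IsPosRoot r ∧
    (D.rootSubgroup F r).map (MulAut.conj n).toMonoidHom ≤ D.negUnipotent F ∧
      (x : Matrix D.Idx D.Idx F) = D.x F r t}

lemma cellUnipotent_eq {n : GL D.Idx F} {π : ℕ → ℕ}
    (hπ : ∀ r < T.n, π r < T.n ∧ Maps D n r (π r)) :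
    cellUnipotent D F n = gen D F (posSet T \ {r | T.half ≤ π r}) := by
  unfold cellUnipotent gen
  congr 1
  ext x
  simp only [Set.mem_ofPred_eq, h.isPosRoot_iff, h.coe_eq_iff, posSet, Set.mem_sdiff]
  constructor
  · rintro ⟨r, t, hp, hle, e⟩
    have := (h.rootSubgroup_map_le_iff (hπ r hp.2).1 (hπ r hp.2).2).1 hle
    exact ⟨r, ⟨hp, not_le.2 this⟩, t, e⟩
  · rintro ⟨r, ⟨hp, hlt⟩, t, e⟩
    exact ⟨r, t, hp, (h.rootSubgroup_map_le_iff (hπ r hp.2).1 (hπ r hp.2).2).2 (not_le.1 hlt), e⟩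

theorem bruhat_exists {g : GL D.Idx F} (hg : g ∈ D.group F) :
    ∃ b ∈ D.borelSubgroup F, ∃ n ∈ D.monomialSubgroup F, ∃ u ∈ cellUnipotent D F n,
      g = b * n * u := by
  obtain ⟨P, hPB, hPN, -⟩ := h.exists_bnPair (F := F)
  obtain ⟨w, hw⟩ := CfsgLib.BN.exists_cell (P := P) ⟨g, hg⟩
  obtain ⟨⟨n, hn⟩, rfl⟩ := QuotientGroup.mk_surjective w
  obtain ⟨b, hb, b', hb', e⟩ := CfsgLib.BN.mem_cell_mk.1 hw
  rw [hPB, Subgroup.mem_subgroupOf] at hb hb'
  rw [hPN, Subgroup.mem_subgroupOf] at hn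
  have e' : g = (b : GL D.Idx F) * (n : GL D.Idx F) * (b' : GL D.Idx F) :=
    congrArg Subtype.val e
  obtain ⟨u, hu, t, ht, eb⟩ : ∃ u ∈ D.posUnipotent F, ∃ t ∈ D.diagonalSubgroup F,
      (b' : GL D.Idx F) = t * u := by
    obtain ⟨u, hu, t, ht, e1⟩ := h.mem_borel_iff.1 (inv_mem hb')
    refine ⟨u⁻¹, inv_mem hu, t⁻¹, inv_mem ht, ?_⟩
    rw [← _root_.inv_inv (b' : GL D.Idx F), e1, _root_.mul_inv_rev]
  rw [eb] at e'
  obtain ⟨π, hπ, -⟩ := h.exists_perm hn
  rw [h.posUnipotent_eq, ← posList_set] at hu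
  obtain ⟨a, ha, c, hc, rfl⟩ := h.exists_split {r | T.half ≤ π r} (posList T) sortedLT_posList
    (fun r hr => mem_posList.1 hr) (by rw [posList_set]; exact h.commClosed_posSet) u hu
  rw [posList_set] at ha hc
  have hnorm := h.monomial_le_normalizer_diagonal hn
  refine ⟨(b : GL D.Idx F) * ((n : GL D.Idx F) * t * (n : GL D.Idx F)⁻¹) *
      ((n : GL D.Idx F) * a * (n : GL D.Idx F)⁻¹),
    mul_mem (mul_mem hb (Subgroup.mem_sup_right ((Subgroup.mem_normalizer_iff.1 hnorm t).1 ht)))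
      (Subgroup.mem_sup_left ?_), n, hn, c, ?_, ?_⟩
  · rw [h.posUnipotent_eq]
    exact conj_gen_le (S' := posSet T)
      (fun r hr => ⟨π r, ⟨hr.2, (hπ r hr.1.2).1⟩, (hπ r hr.1.2).2.1⟩) ha
  · rw [h.cellUnipotent_eq fun r hr => ⟨(hπ r hr).1, (hπ r hr).2.1⟩]; exact hc
  · rw [e']; group

theorem bruhat_unique {b b' n n' u u' : GL D.Idx F} (hb : b ∈ D.borelSubgroup F)
    (hb' : b' ∈ D.borelSubgroup F) (hn : n ∈ D.monomialSubgroup F)
    (hn' : n' ∈ D.monomialSubgroup F) (hu : u ∈ cellUnipotent D F n)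
    (hu' : u' ∈ cellUnipotent D F n') (e : b * n * u = b' * n' * u') :
    n⁻¹ * n' ∈ D.diagonalSubgroup F ∧ (n = n' → b = b' ∧ u = u') := by
  have hcu : ∀ {m x : GL D.Idx F}, m ∈ D.monomialSubgroup F → x ∈ cellUnipotent D F m →
      x ∈ D.posUnipotent F ∧ m * x * m⁻¹ ∈ D.negUnipotent F := by
    intro m x hm hx
    obtain ⟨π, hπ, -⟩ := h.exists_perm hm
    rw [h.cellUnipotent_eq fun r hr => ⟨(hπ r hr).1, (hπ r hr).2.1⟩] at hx
    refine ⟨h.gen_pos_le (fun r hr => hr.1) hx, ?_⟩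
    rw [h.negUnipotent_eq]
    exact conj_gen_le (S' := {r | r < T.half})
      (fun r hr => ⟨π r, (not_le.1 (show ¬ T.half ≤ π r from hr.2)), (hπ r hr.1.2).2.1⟩) hx
  obtain ⟨P, hPB, hPN, -⟩ := h.exists_bnPair (F := F)
  have hmemU : ∀ {x}, x ∈ D.posUnipotent F → x ∈ D.borelSubgroup F := fun hx =>
    Subgroup.mem_sup_left hx
  have hmem : ∀ {x}, x ∈ D.borelSubgroup F → x ∈ D.group F := fun hx => h.borel_le_group hx
  let N₁ : P.N := ⟨⟨n, h.monomial_le_group hn⟩, by rw [hPN, Subgroup.mem_subgroupOf]; exact hn⟩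
  let N₂ : P.N := ⟨⟨n', h.monomial_le_group hn'⟩, by rw [hPN, Subgroup.mem_subgroupOf]; exact hn'⟩
  have hd : n⁻¹ * n' ∈ D.diagonalSubgroup F := by
    rw [← h.borel_inf_monomial]
    refine Subgroup.mem_inf.2 ⟨?_, mul_mem (inv_mem hn) hn'⟩
    have hu1 := hmemU (hcu hn hu).1
    have hu1' := hmemU (hcu hn' hu').1
    let g : ↥(D.group F) :=
      ⟨b * n * u, mul_mem (mul_mem (hmem hb) (h.monomial_le_group hn)) (hmem hu1)⟩
    have h1 : g ∈ CfsgLib.BN.cell P (QuotientGroup.mk N₁) :=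
      CfsgLib.BN.mem_cell_mk.2 ⟨⟨b, hmem hb⟩, by rw [hPB, Subgroup.mem_subgroupOf]; exact hb,
        ⟨u, hmem hu1⟩, by rw [hPB, Subgroup.mem_subgroupOf]; exact hu1, Subtype.ext rfl⟩
    have h2 : g ∈ CfsgLib.BN.cell P (QuotientGroup.mk N₂) :=
      CfsgLib.BN.mem_cell_mk.2 ⟨⟨b', hmem hb'⟩, by rw [hPB, Subgroup.mem_subgroupOf]; exact hb',
        ⟨u', hmem hu1'⟩, by rw [hPB, Subgroup.mem_subgroupOf]; exact hu1', Subtype.ext e⟩
    have h3 := CfsgLib.BN.mk_eq_mk.1 (CfsgLib.BN.cell_inj h1 h2)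
    rwa [hPB, Subgroup.mem_subgroupOf] at h3
  refine ⟨hd, fun hnn => ?_⟩
  subst hnn
  have h1 := hcu hn hu
  have h2 := hcu hn hu'
  have hx : b⁻¹ * b' ∈ D.borelSubgroup F ⊓ D.negUnipotent F := by
    refine Subgroup.mem_inf.2 ⟨mul_mem (inv_mem hb) hb', ?_⟩
    have h4 : b⁻¹ * b' = (n * u * n⁻¹) * (n * u' * n⁻¹)⁻¹ := by
      have h5 : b⁻¹ * b' * (n * u') = n * u := by
        rw [mul_assoc, ← mul_assoc b', ← e]; group
      calc b⁻¹ * b' = b⁻¹ * b' * (n * u') * (n * u')⁻¹ := by group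
        _ = _ := by rw [h5]; group
    rw [h4]
    exact mul_mem h1.2 (inv_mem h2.2)
  rw [h.borel_inf_negUnipotent, Subgroup.mem_bot, inv_mul_eq_one] at hx
  subst hx
  exact ⟨rfl, mul_left_cancel e⟩

/-- Some monomial element exchanges `U` and `V`. -/
theorem exists_opposite :
    ∃ n ∈ D.monomialSubgroup F,
      (D.posUnipotent F).map (MulAut.conj n).toMonoidHom = D.negUnipotent F := by
  obtain ⟨w, hw, hneg⟩ := h.exists_longest
  refine ⟨nW D F w, h.nW_mem_monomial hw, ?_⟩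
  have htwo := h.two_mul_half
  rw [h.posUnipotent_eq, h.negUnipotent_eq]
  refine le_antisymm ?_ ?_
  · rintro _ ⟨x, hx, rfl⟩
    exact conj_gen_le (S' := {r | r < T.half})
      (fun r hr => ⟨_, hneg r hr.1 hr.2, h.Maps_nW hw hr.2⟩) hx
  · intro y hy
    refine ⟨(nW D F w)⁻¹ * y * nW D F w, ?_, by simp [mul_assoc]⟩
    have hwr : WordOK T w.reverse := fun i hi => hw i (List.mem_reverse.1 hi)
    have := conj_gen_le (g := (nW D F w)⁻¹) (S' := posSet T) (fun r (hr : r < T.half) => ?_) hy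
    · simpa using this
    have hr' : r < T.n := by omega
    refine ⟨rword T w.reverse r, ⟨?_, h.rword_lt hwr hr'⟩, ?_⟩
    · by_contra hlt
      have h1 := hneg _ ((h.half_le_neg_iff (h.rword_lt hwr hr')).2 (not_le.1 hlt))
        (neg_lt (T := T) (h.rword_lt hwr hr'))
      rw [h.rword_neg hw (h.rword_lt hwr hr'), h.rword_reverse hw hr'] at h1
      unfold Tab.neg at h1
      omega
    · have h1 := Maps_inv (h.Maps_nW (F := F) hw (h.rword_lt hwr hr'))
      rwa [h.rword_reverse hw hr'] at h1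

end Cert

end CfsgLib.Chev
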