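import Cfsg.Agent.Lib.Chev.CentPair

/-!
Centralizers, in characteristic 2, of products of commuting root elements that need not be dominant.
-/

set_option autoImplicit false

namespace CfsgLib.Chev

open Cfsg.Lie Matrix

namespace Tab

variable (T : Tab)

/-- `M` spans an abelian subgroup of `U` containing the `P` roots; conjugation by `U` moves
within the roots of `M` outside `P`. -/
def chkConjSet (M P : List ℕ) : Bool :=
  M.all (fun r => decide (T.half ≤ r) && (decide (r < T.n) && M.all fun s =>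
      decide (r = s) || T.evenComm r s)) &&
    (P.all (fun a => decide (a ∈ M)) &&
      (List.range T.n).all fun r => decide (r < T.half) || M.all fun s =>
        decide (r = s) || (T.commTerms r s).all fun q =>
          decide (q.2.1 % 2 = 0) || (decide (q.1 ∈ M) && decide (q.1 ∉ P)))

/-- The roots in `CC` commute with the roots in `P`. -/
def chkCommSet (P CC : List ℕ) : Bool :=
  CC.all fun s => decide (s < T.n) && P.all fun a =>
    decide (a < T.n) && (decide (s = a) || (decide (a ≠ T.neg s) && T.evenComm s a))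

/-- The fundamental reflections either fix `P` or are seen by a combination of `P`. -/
def chkStab (P CC J : List ℕ) (q : ℕ → ℕ → ℤ) : Bool :=
  (List.range T.l).all fun i =>
    if i ∈ J then decide (T.neg (T.simple i) ∈ CC) && (decide (T.simple i ∈ CC) &&
      P.all fun a => decide (T.refl i a = a))
    else (List.range T.l).all fun j =>
      decide (((P.map fun a => q i a * T.car j a).sum) = if j = i then 1 else 0)

/-- `O` is the orbit of the tuple `P`, which meets `M` in `P` only. -/
def chkPairOrbit (P M : List ℕ) (O : List (List ℕ)) : Bool :=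
  decide (P ∈ O) && O.all fun st =>
    ((List.range T.l).all fun i => decide (st.map (T.refl i) ∈ O)) &&
      (!(st.all fun a => decide (a ∈ M)) || decide (st = P))

end Tab

namespace Cert

variable {D : ChevalleyDatum} {T : Tab} {C : Tab.Cover} (h : Cert D T C)
include h

omit h in
lemma rword_tuple_mem {P M : List ℕ} {O : List (List ℕ)} (hO : T.chkPairOrbit P M O = true) :
    ∀ {w : List ℕ}, WordOK T w → P.map (rword T w) ∈ O := by
  intro w
  simp only [Tab.chkPairOrbit, Bool.and_eq_true, List.all_eq_true, List.mem_range,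
    decide_eq_true_eq] at hO
  induction w with
  | nil =>
    intro _
    have : rword T [] = id := rfl
    rw [this, List.map_id]
    exact hO.1
  | cons i w ih =>
    intro hw
    have := (hO.2 _ (ih hw.tail)).1 i hw.head
    rw [List.map_map] at this
    exact this

/-- The coordinates of a negative root are not positive. -/
lemma cor_nonpos {r i : ℕ} (hr : r < T.half) (hi : i < T.l) : T.cor r i ≤ 0 := by
  have hr' : r < T.n := by have := h.two_mul_half; omega
  have h1 := h.wt_sign hi hr'
  have h2 := h.wt_nonpos hi hr' hr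
  rcases lt_or_eq_of_le h2 with h2 | h2
  · rw [Int.sign_eq_neg_one_of_neg h2] at h1
    exact (Int.sign_eq_neg_one_iff_neg.1 h1.symm).le
  · rw [h2, Int.sign_zero] at h1
    exact (Int.sign_eq_zero_iff_zero.1 h1.symm).le

/-- Outside `J` a coordinate is unchanged by Weyl elements fixing `P`. -/
lemma cor_rword {P CC J : List ℕ} {q : ℕ → ℕ → ℤ} (hS : T.chkStab P CC J q = true)
    (hP : ∀ a ∈ P, a < T.n) {w : List ℕ} (hw : WordOK T w) (hfix : ∀ a ∈ P, rword T w a = a)
    {i : ℕ} (hi : i < T.l) (hiJ : i ∉ J) {r : ℕ} (hr : r < T.n) :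
    T.cor (rword T w r) i = T.cor r i := by
  simp only [Tab.chkStab, List.all_eq_true, List.mem_range] at hS
  have hq := hS i hi
  rw [if_neg hiJ] at hq
  simp only [List.all_eq_true, List.mem_range, decide_eq_true_eq] at hq
  have key : ∀ s, (P.map fun a => q i a * T.pairing s a).sum = T.cor s i := by
    intro s
    have e : ∀ L : List ℕ, (L.map fun a => q i a * T.pairing s a).sum =
        ∑ k ∈ Finset.range T.l, T.cor s k * (L.map fun a => q i a * T.car k a).sum := by
      intro L
      induction L with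
      | nil => simp
      | cons b L ih =>
        rw [List.map_cons, List.sum_cons, ih, Tab.pairing_eq_sum, Finset.mul_sum,
          ← Finset.sum_add_distrib]
        exact Finset.sum_congr rfl fun k _ => by rw [List.map_cons, List.sum_cons]; ring
    rw [e, Finset.sum_eq_single i]
    · rw [hq i hi, if_pos rfl, mul_one]
    · intro k hk hne
      rw [hq k (Finset.mem_range.1 hk), if_neg hne, mul_zero]
    · intro hc; exact absurd (Finset.mem_range.2 hi) hc
  rw [← key, ← key]
  refine congrArg List.sum (List.map_congr_left fun a ha => ?_)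
  have := h.pairing_rword hw hr (hP a ha)
  rw [hfix a ha] at this
  rw [this]

variable {F : Type*} [Field F] [CharP F 2]

section Abelian

variable {M P : List ℕ} (hM : T.chkConjSet M P = true)
include hM

omit [CharP F 2] in
lemma conjSet_pos : ∀ r ∈ M, r ∈ posSet T := by
  simp only [Tab.chkConjSet, Bool.and_eq_true, List.all_eq_true, decide_eq_true_eq] at hM
  exact fun r hr => ⟨(hM.1 r hr).1, (hM.1 r hr).2.1⟩

lemma conjSet_commute {r s : ℕ} (hr : r ∈ M) (hs : s ∈ M) (t u : F) :
    Commute (X D r t) (X D s u) := by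
  have hp := h.conjSet_pos hM r hr
  have hq := h.conjSet_pos hM s hs
  rcases eq_or_ne r s with rfl | hne
  · show X D r t * X D r u = X D r u * X D r t
    rw [h.X_add hp.2, h.X_add hp.2, add_comm]
  refine h.commute_of_evenComm hp.2 hq.2 hne.symm (h.posSet_neg_ne hp hq) ?_ t u
  simp only [Tab.chkConjSet, Bool.and_eq_true, Bool.or_eq_true, List.all_eq_true,
    decide_eq_true_eq] at hM
  exact ((hM.1 r hr).2.2 s hs).resolve_left hne

lemma prodX_add_sub : ∀ {L : List ℕ}, (∀ r ∈ L, r ∈ M) → ∀ c d : ℕ → F,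
    prodX D L (c + d) = prodX D L c * prodX D L d := by
  intro L
  induction L with
  | nil => intro _ c d; simp [prodX]
  | cons r L ih =>
    intro hL c d
    have hr := hL r List.mem_cons_self
    have hcomm : Commute (prodX D L c) (X D r (d r)) := by
      refine Commute.list_prod_left _ _ fun x hx => ?_
      obtain ⟨s, hs, rfl⟩ := List.mem_map.1 hx
      exact h.conjSet_commute hM (hL s (List.mem_cons_of_mem _ hs)) hr _ _
    have e := ih (fun s hs => hL s (List.mem_cons_of_mem _ hs)) c d
    show X D r (c r + d r) * prodX D L (c + d) =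
      X D r (c r) * prodX D L c * (X D r (d r) * prodX D L d)
    rw [e, ← h.X_add (h.conjSet_pos hM r hr).2, mul_assoc (X D r (c r)) (prodX D L c),
      ← mul_assoc (prodX D L c) (X D r (d r)), hcomm.eq]
    simp only [mul_assoc]

variable (hMs : M.SortedLT)
include hMs

lemma coords_of_gen {S : Set ℕ} (hS : ∀ r ∈ S, r ∈ M) {g : GL D.Idx F} (hg : g ∈ gen D F S) :
    ∃ d : ℕ → F, g = prodX D M d ∧ ∀ r, r ∉ S → d r = 0 := by
  classical
  have hnd := hMs.nodup
  have hn : ∀ r ∈ M, r < T.n := fun r hr => (h.conjSet_pos hM r hr).2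
  have h0 : prodX D M (0 : ℕ → F) = 1 := List.prod_eq_one fun x hx => by
    obtain ⟨r, hr, rfl⟩ := List.mem_map.1 hx
    exact h.X_zero (hn r hr)
  induction hg using Subgroup.closure_induction with
  | one => exact ⟨0, h0.symm, fun _ _ => rfl⟩
  | mem x hx =>
    obtain ⟨r, hr, t, rfl⟩ := hx
    refine ⟨fun s => if s = r then t else 0, ?_, fun s hs => if_neg fun (e : s = r) => hs (e.symm ▸ hr)⟩
    have key : ∀ L : List ℕ, L.Nodup → (∀ s ∈ L, s < T.n) →
        prodX D L (fun s => if s = r then t else 0) = if r ∈ L then X D r t else 1 := by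
      intro L
      induction L with
      | nil => intros; simp [prodX]
      | cons a L ih =>
        intro hnd' hlt
        have hnd2 := List.nodup_cons.1 hnd'
        have e := ih hnd2.2 fun s hs => hlt s (List.mem_cons_of_mem _ hs)
        show X D a (if a = r then t else 0) * prodX D L _ = _
        rw [e]
        rcases eq_or_ne a r with rfl | hne
        · simp [hnd2.1]
        · simp [hne, hne.symm, h.X_zero (hlt a List.mem_cons_self)]
    rw [key M hnd hn, if_pos (hS r hr)]
  | mul x y _ _ hx hy =>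
    obtain ⟨d, rfl, hd⟩ := hx
    obtain ⟨e, rfl, he⟩ := hy
    exact ⟨d + e, (h.prodX_add_sub hM (fun r hr => hr) d e).symm,
      fun r hr => by simp [hd r hr, he r hr]⟩
  | inv x _ hx =>
    obtain ⟨d, rfl, hd⟩ := hx
    refine ⟨-d, inv_eq_of_mul_eq_one_right ?_, fun r hr => by simp [hd r hr]⟩
    rw [← h.prodX_add_sub hM (fun r hr => hr), add_neg_cancel, h0]

omit hMs in
/-- Conjugation by `U` fixes the coefficients at `P`. -/
lemma conj_X_mem {u : GL D.Idx F} (hu : u ∈ D.posUnipotent F) :
    ∀ r ∈ M, ∀ z : F, ∃ k ∈ gen D F {s | s ∈ M ∧ s ∉ P},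
      u * X D r z * u⁻¹ = X D r z * k := by
  set N := gen D F {s | s ∈ M ∧ s ∉ P}
  have hM' := hM
  simp only [Tab.chkConjSet, Bool.and_eq_true, Bool.or_eq_true, List.all_eq_true, List.mem_range,
    decide_eq_true_eq] at hM'
  have hgen : ∀ a ∈ posSet T, ∀ b : F, ∀ r ∈ M, ∀ z : F, ∃ k ∈ N,
      X D a b * X D r z * (X D a b)⁻¹ = X D r z * k := by
    intro a ha b r hr z
    have hp := h.conjSet_pos hM r hr
    rcases eq_or_ne a r with rfl | hne
    · exact ⟨1, one_mem _, by rw [h.X_add hp.2, add_comm, ← h.X_add hp.2,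
        mul_inv_cancel_right, mul_one]⟩
    have e := h.X_conj ha.2 hp.2 hne.symm (h.posSet_neg_ne ha hp) (-b) z
    rw [_root_.neg_neg, ← h.X_inv ha.2] at e
    refine ⟨_, ?_, e⟩
    refine Subgroup.list_prod_mem _ fun x hx => ?_
    obtain ⟨q, hq, rfl⟩ := List.mem_map.1 hx
    rcases ((hM'.2.2 a ha.2).resolve_left (not_lt.2 ha.1) r hr).resolve_left hne q hq with he | he
    · rw [(CharP.intCast_eq_zero_iff F 2 q.2.1).2
        (Int.dvd_of_emod_eq_zero (by exact_mod_cast he)), zero_mul, zero_mul,
        h.X_zero (h.commTerms_lt ha.2 hp.2 hq)]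
      exact one_mem _
    · exact X_mem_gen D he _
  have hnorm : D.posUnipotent F ≤ Subgroup.normalizer (N : Set (GL D.Idx F)) := by
    rw [h.posUnipotent_eq, gen, Subgroup.closure_le]
    rintro _ ⟨a, ha, b, rfl⟩
    have hz : Subgroup.zpowers (X D a b) ≤ Subgroup.normalizer (N : Set (GL D.Idx F)) := by
      refine le_normalizer_closure fun g hg x hx => ?_
      obtain ⟨r, hr, z, rfl⟩ := hx
      obtain ⟨k, rfl⟩ := Subgroup.mem_zpowers_iff.1 hg
      have hk : ∀ (k : ℤ), ∃ b' : F, (X D a b) ^ k = X D a b' := by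
        intro k
        have hmem : X D a b ^ k ∈ gen D F {a} :=
          zpow_mem (X_mem_gen D (Set.mem_singleton a) b) k
        exact (h.gen_singleton ha.2).1 hmem
      obtain ⟨b', e⟩ := hk k
      rw [e]
      obtain ⟨k', hk', e'⟩ := hgen a ha b' r hr.1 z
      rw [e']
      exact mul_mem (X_mem_gen D hr z) hk'
    exact hz (Subgroup.mem_zpowers _)
  rw [h.posUnipotent_eq] at hu
  induction hu using Subgroup.closure_induction with
  | one => exact fun r _ z => ⟨1, one_mem _, by simp⟩
  | mem x hx =>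
    obtain ⟨a, ha, b, rfl⟩ := hx
    exact hgen a ha b
  | mul x y hx hy ihx ihy =>
    intro r hr z
    obtain ⟨k, hk, e⟩ := ihx r hr z
    obtain ⟨k', hk', e'⟩ := ihy r hr z
    refine ⟨k * (x * k' * x⁻¹), mul_mem hk ?_, ?_⟩
    · exact (Subgroup.mem_normalizer_iff.1 (hnorm (by rw [h.posUnipotent_eq]; exact hx)) k').1 hk'
    · calc x * y * X D r z * (x * y)⁻¹ = x * (y * X D r z * y⁻¹) * x⁻¹ := by group
        _ = x * X D r z * x⁻¹ * (x * k' * x⁻¹) := by rw [e']; group
        _ = X D r z * (k * (x * k' * x⁻¹)) := by rw [e, mul_assoc]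
  | inv x hx ihx =>
    intro r hr z
    obtain ⟨k, hk, e⟩ := ihx r hr z
    refine ⟨x⁻¹ * k⁻¹ * x, ?_, ?_⟩
    · have := (Subgroup.mem_normalizer_iff.1
        (hnorm (inv_mem (show x ∈ D.posUnipotent F by rw [h.posUnipotent_eq]; exact hx))) k⁻¹).1
        (inv_mem hk)
      simpa using this
    · calc x⁻¹ * X D r z * x⁻¹⁻¹ = x⁻¹ * (X D r z * k) * k⁻¹ * x := by group
        _ = X D r z * (x⁻¹ * k⁻¹ * x) := by rw [← e]; group

/-- Conjugation by `U` on a product over `M`. -/
lemma conj_prodX {u : GL D.Idx F} (hu : u ∈ D.posUnipotent F) (c : ℕ → F) :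
    ∃ d : ℕ → F, u * prodX D M c * u⁻¹ = prodX D M (c + d) ∧ ∀ a ∈ P, d a = 0 := by
  have key : ∀ L : List ℕ, (∀ r ∈ L, r ∈ M) → ∃ d : ℕ → F,
      u * prodX D L c * u⁻¹ = prodX D L c * prodX D M d ∧ ∀ a ∈ P, d a = 0 := by
    intro L
    induction L with
    | nil =>
      refine fun _ => ⟨0, ?_, fun _ _ => rfl⟩
      have h0 : prodX D M (0 : ℕ → F) = 1 := List.prod_eq_one fun x hx => by
        obtain ⟨r, hr, rfl⟩ := List.mem_map.1 hx
        exact h.X_zero (h.conjSet_pos hM r hr).2
      simp [prodX] at h0 ⊢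
      exact h0.symm
    | cons r L ih =>
      intro hL
      have hr := hL r List.mem_cons_self
      obtain ⟨d, hd, hd0⟩ := ih fun s hs => hL s (List.mem_cons_of_mem _ hs)
      obtain ⟨k, hk, e⟩ := h.conj_X_mem hM hu r hr (c r)
      obtain ⟨d', rfl, hd'⟩ := h.coords_of_gen hM hMs (fun s hs => hs.1) hk
      refine ⟨d' + d, ?_, fun a ha => ?_⟩
      · have hcomm : Commute (prodX D M d') (prodX D L c) := by
          refine Commute.list_prod_left _ _ fun x hx => Commute.list_prod_right _ _ fun y hy => ?_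
          obtain ⟨s, hs, rfl⟩ := List.mem_map.1 hx
          obtain ⟨s', hs', rfl⟩ := List.mem_map.1 hy
          exact h.conjSet_commute hM hs (hL s' (List.mem_cons_of_mem _ hs')) _ _
        rw [h.prodX_add_sub hM (fun s hs => hs)]
        show u * (X D r (c r) * prodX D L c) * u⁻¹ = X D r (c r) * prodX D L c * _
        calc u * (X D r (c r) * prodX D L c) * u⁻¹
            = u * X D r (c r) * u⁻¹ * (u * prodX D L c * u⁻¹) := by group
          _ = X D r (c r) * (prodX D M d' * prodX D L c) * prodX D M d := by rw [e, hd]; group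
          _ = _ := by rw [hcomm.eq]; group
      · simp [hd0 a ha, hd' a (fun hc => hc.2 ha)]
  obtain ⟨d, hd, hd0⟩ := key M fun r hr => hr
  exact ⟨d, by rw [hd, ← h.prodX_add_sub hM fun r hr => hr], hd0⟩

/-- Where a monomial element may send the roots occurring in such a product. -/
lemma mem_of_conj_prodX {n : GL D.Idx F} {π : ℕ → ℕ} (hπ : ∀ r ∈ M, π r < T.n)
    (hinj : Set.InjOn π {r | r ∈ M}) (hmap : ∀ r ∈ M, Maps D n r (π r)) {c c' : ℕ → F}
    (e : n * prodX D M c * n⁻¹ = prodX D M c') {r : ℕ} (hr : r ∈ M) (hc : c r ≠ 0) : π r ∈ M := by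
  classical
  choose! a ha using hmap
  set L₁ := M.filter fun r => decide (T.half ≤ π r) with hL₁
  set L₂ := M.filter fun r => !decide (T.half ≤ π r) with hL₂
  have hperm : (L₁ ++ L₂).Perm M := List.filter_append_perm _ _
  have hsplit : prodX D M c = prodX D L₁ c * prodX D L₂ c := by
    rw [prodX, prodX, prodX, ← List.prod_append, ← List.map_append]
    refine (List.Perm.prod_eq' (hperm.map _) ?_).symm
    exact List.pairwise_of_forall_mem_list fun x hx y hy => by
      obtain ⟨s, hs, rfl⟩ := List.mem_map.1 hx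
      obtain ⟨s', hs', rfl⟩ := List.mem_map.1 hy
      exact h.conjSet_commute hM (hperm.mem_iff.1 hs) (hperm.mem_iff.1 hs') _ _
  have hconj : ∀ L : List ℕ, (∀ s ∈ L, s ∈ M) → n * prodX D L c * n⁻¹ =
      (L.map fun s => X D (π s) (a s * c s)).prod := by
    intro L
    induction L with
    | nil => intro _; simp [prodX]
    | cons s L ih =>
      intro hL
      rw [List.map_cons, List.prod_cons, ← ih fun s' hs' => hL s' (List.mem_cons_of_mem _ hs'),
        ← (ha s (hL s List.mem_cons_self)).2 (c s)]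
      show n * (X D s (c s) * prodX D L c) * n⁻¹ = _
      group
  have hm₁ : ∀ s ∈ L₁, s ∈ M ∧ T.half ≤ π s := fun s hs =>
    ⟨(List.mem_filter.1 hs).1, of_decide_eq_true (List.mem_filter.1 hs).2⟩
  have hm₂ : ∀ s ∈ L₂, s ∈ M ∧ π s < T.half := fun s hs => by
    obtain ⟨h1, h2⟩ := List.mem_filter.1 hs
    exact ⟨h1, by simpa using h2⟩
  have hmem : prodX D M c' ∈ D.posUnipotent F := Subgroup.list_prod_mem _ fun x hx => by
    obtain ⟨s, hs, rfl⟩ := List.mem_map.1 hx
    rw [h.posUnipotent_eq]
    exact X_mem_gen D (h.conjSet_pos hM s hs) _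
  have hneg : n * prodX D L₂ c * n⁻¹ = 1 := by
    have h1 : n * prodX D L₂ c * n⁻¹ ∈ D.negUnipotent F := by
      rw [hconj L₂ fun s hs => (hm₂ s hs).1, h.negUnipotent_eq]
      refine Subgroup.list_prod_mem _ fun x hx => ?_
      obtain ⟨s, hs, rfl⟩ := List.mem_map.1 hx
      exact X_mem_gen D (S := {q | q < T.half}) (hm₂ s hs).2 _
    have h2 : n * prodX D L₁ c * n⁻¹ ∈ D.posUnipotent F := by
      rw [hconj L₁ fun s hs => (hm₁ s hs).1, h.posUnipotent_eq]
      refine Subgroup.list_prod_mem _ fun x hx => ?_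
      obtain ⟨s, hs, rfl⟩ := List.mem_map.1 hx
      exact X_mem_gen D (⟨(hm₁ s hs).2, hπ s (hm₁ s hs).1⟩ : π s ∈ posSet T) _
    have h3 : n * prodX D L₂ c * n⁻¹ ∈ D.posUnipotent F := by
      have : n * prodX D L₂ c * n⁻¹ = (n * prodX D L₁ c * n⁻¹)⁻¹ * prodX D M c' := by
        rw [← e, hsplit]; group
      rw [this]
      exact mul_mem (inv_mem h2) hmem
    have h4 : n * prodX D L₂ c * n⁻¹ ∈ D.borelSubgroup F ⊓ D.negUnipotent F :=
      ⟨Subgroup.mem_sup_left h3, h1⟩
    rwa [h.borel_inf_negUnipotent, Subgroup.mem_bot] at h4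
  have hnd := hMs.nodup
  by_contra hnot
  rcases List.mem_append.1 (hperm.mem_iff.2 hr) with hr₁ | hr₂
  · set L' := (posList T).filter fun s => decide (∃ x ∈ L₁, π x = s) with hL'
    have hnd₁ : (L₁.map π).Nodup := (hnd.filter _).map_on fun x hx y hy exy =>
      hinj (hm₁ x hx).1 (hm₁ y hy).1 exy
    have hperm' : (L₁.map π).Perm L' := by
      refine (List.perm_ext_iff_of_nodup hnd₁ (sortedLT_posList.nodup.filter _)).2 fun s => ?_
      simp only [L', List.mem_filter, List.mem_map, decide_eq_true_eq, mem_posList]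
      exact ⟨fun ⟨x, hx, hs⟩ => ⟨hs ▸ ⟨(hm₁ x hx).2, hπ x (hm₁ x hx).1⟩, x, hx, hs⟩, fun h' => h'.2⟩
    let f : ℕ → F := fun s => if hs : ∃ x ∈ L₁, π x = s then a hs.choose * c hs.choose else 0
    have hf : ∀ x ∈ L₁, f (π x) = a x * c x := fun x hx => by
      have hs : ∃ y ∈ L₁, π y = π x := ⟨x, hx, rfl⟩
      simp only [f, dif_pos hs]
      rw [hinj (hm₁ _ hs.choose_spec.1).1 (hm₁ x hx).1 hs.choose_spec.2]
    have h1 : n * prodX D L₁ c * n⁻¹ = prodX D L' f := by
      rw [hconj L₁ fun s hs => (hm₁ s hs).1]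
      have hmapeq : (L₁.map fun s => X D (π s) (a s * c s)) =
          (L₁.map π).map fun s => X D s (f s) := by
        rw [List.map_map]
        exact List.map_congr_left fun x hx => by simp [hf x hx]
      rw [hmapeq]
      refine List.Perm.prod_eq' (hperm'.map _) (List.pairwise_of_forall_mem_list fun x hx y hy => ?_)
      obtain ⟨_, hs, rfl⟩ := List.mem_map.1 hx
      obtain ⟨_, hs', rfl⟩ := List.mem_map.1 hy
      obtain ⟨s, hs1, rfl⟩ := List.mem_map.1 hs
      obtain ⟨s', hs1', rfl⟩ := List.mem_map.1 hs'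
      rw [hf s hs1, hf s' hs1', ← (ha s (hm₁ s hs1).1).2, ← (ha s' (hm₁ s' hs1').1).2]
      exact (h.conjSet_commute hM (hm₁ s hs1).1 (hm₁ s' hs1').1 _ _).map
        (MulAut.conj n).toMonoidHom
    have h2 : prodX D (posList T) f = prodX D L' f :=
      h.prodX_filter (fun s => decide (∃ x ∈ L₁, π x = s)) (posList T) f
        (fun s hs => (mem_posList.1 hs).2)
        fun s _ hs => dif_neg (by simpa using hs)
    have h3 : prodX D (posList T) (fun s => if s ∈ M then c' s else 0) = prodX D M c' := by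
      rw [h.prodX_filter (fun s => decide (s ∈ M)) (posList T) _
        (fun s hs => (mem_posList.1 hs).2) fun s _ hs => if_neg (by simpa using hs)]
      have hLM : (posList T).filter (fun s => decide (s ∈ M)) = M :=
        List.Perm.eq_of_pairwise' (sortedLT_posList.pairwise.filter _) hMs.pairwise
          ((List.perm_ext_iff_of_nodup (sortedLT_posList.nodup.filter _) hnd).2 fun s => by
            simp only [List.mem_filter, mem_posList, decide_eq_true_eq]
            exact ⟨fun h' => h'.2, fun h' => ⟨h.conjSet_pos hM s h', h'⟩⟩)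
      rw [hLM]
      exact congrArg List.prod (List.map_congr_left fun s hs => by simp [hs])
    have h4 : prodX D (posList T) f = prodX D (posList T) fun s => if s ∈ M then c' s else 0 := by
      rw [h2, ← h1, h3, ← e, hsplit]
      calc n * prodX D L₁ c * n⁻¹ = n * prodX D L₁ c * n⁻¹ * (n * prodX D L₂ c * n⁻¹) := by
            rw [hneg, mul_one]
        _ = _ := by group
    have h5 := h.prodX_inj (posList T) sortedLT_posList (fun s hs => mem_posList.1 hs) _ _ h4
      (π r) (mem_posList.2 ⟨(hm₁ r hr₁).2, hπ r hr⟩)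
    rw [hf r hr₁, if_neg hnot] at h5
    exact mul_ne_zero (ha r hr).1 hc h5
  · have h1 : prodX D L₂ c = 1 := by
      have := congrArg (fun g => n⁻¹ * g * n) hneg
      simpa [mul_assoc] using this
    have h2 : prodX D L₂ c = prodX D L₂ fun _ => 0 := by
      rw [h1]
      refine (List.prod_eq_one fun x hx => ?_).symm
      obtain ⟨s, hs, rfl⟩ := List.mem_map.1 hx
      exact h.X_zero (h.conjSet_pos hM s (hm₂ s hs).1).2
    exact hc (h.prodX_inj L₂ ((hMs.pairwise.filter _).sortedLT)
      (fun s hs => h.conjSet_pos hM s (hm₂ s hs).1) _ _ h2 r hr₂)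

end Abelian

omit [CharP F 2] in
/-- `exists_split` for an explicit closed list. -/
lemma split_list {A : Set ℕ} {L L₁ L₂ : List ℕ} (hsort : L.SortedLT)
    (hpos : (L.all fun r => decide (T.half ≤ r ∧ r < T.n)) = true)
    (hcl : (L.all fun r => L.all fun s => (T.commTerms r s).all fun q =>
      decide (s = r) || decide (q.1 ∈ L)) = true)
    (h₁ : ∀ r ∈ L, r ∈ A → r ∈ L₁) (h₂ : ∀ r ∈ L, r ∉ A → r ∈ L₂)
    {g : GL D.Idx F} (hg : g ∈ gen D F {r | r ∈ L}) :
    ∃ a ∈ gen D F {r | r ∈ L₁}, ∃ b ∈ gen D F {r | r ∈ L₂}, g = a * b := by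
  simp only [List.all_eq_true, decide_eq_true_eq, Bool.or_eq_true] at hpos hcl
  obtain ⟨a, ha, b, hb, e⟩ := h.exists_split A L hsort hpos
    (fun r hr s hs hne q hq => (hcl r hr s hs q hq).resolve_left hne) g hg
  exact ⟨a, gen_mono D (fun r hr => h₁ r hr.1 hr.2) ha,
    b, gen_mono D (fun r hr => h₂ r hr.1 hr.2) hb, e⟩

/-- The product of a commuting pair. -/
lemma exists_pair {a b : ℕ} (ha : a < T.n) (hb : b < T.n) (hab : ∀ x y : F,
    Commute (X D a x) (X D b y)) {g : GL D.Idx F} (hg : g ∈ gen D F {r | r ∈ [a, b]}) :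
    ∃ x y : F, g = X D a x * X D b y := by
  induction hg using Subgroup.closure_induction with
  | one => exact ⟨0, 0, by rw [h.X_zero ha, h.X_zero hb, one_mul]⟩
  | mem g hg =>
    obtain ⟨r, hr, t, rfl⟩ := hg
    simp only [Set.mem_ofPred_eq, List.mem_cons, List.not_mem_nil, or_false] at hr
    rcases hr with rfl | rfl
    · exact ⟨t, 0, by rw [h.X_zero hb, mul_one]⟩
    · exact ⟨0, t, by rw [h.X_zero ha, one_mul]⟩
  | mul g g' _ _ ih ih' =>
    obtain ⟨x, y, rfl⟩ := ih
    obtain ⟨x', y', rfl⟩ := ih'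
    refine ⟨x + x', y + y', ?_⟩
    rw [← h.X_add ha, ← h.X_add hb, mul_assoc, ← mul_assoc (X D b y), ← (hab x' y).eq]
    simp only [mul_assoc]
  | inv g _ ih =>
    obtain ⟨x, y, rfl⟩ := ih
    refine ⟨-x, -y, ?_⟩
    rw [← h.X_inv ha, ← h.X_inv hb, (hab x y).eq, _root_.mul_inv_rev]

omit [CharP F 2] in
/-- The join of the root groups of a list as one `gen`. -/
lemma gen_union (S S' : Set ℕ) : gen D F (S ∪ S') = gen D F S ⊔ gen D F S' := by
  rw [gen, gen, gen, ← Subgroup.closure_union]
  congr 1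
  ext g
  simp [Set.mem_union, or_and_right, exists_or]

section Main

variable {M P CC J : List ℕ} {q : ℕ → ℕ → ℤ}

lemma commSet_le (hC : T.chkCommSet P CC = true) {a : ℕ} (ha : a ∈ P) (z : F) :
    gen D F {r | r ∈ CC} ≤ Subgroup.centralizer {X D a z} := by
  rw [gen, Subgroup.closure_le]
  rintro _ ⟨r, hr, t, rfl⟩
  simp only [Tab.chkCommSet, Bool.and_eq_true, Bool.or_eq_true, List.all_eq_true,
    decide_eq_true_eq] at hC
  obtain ⟨hrn, hall⟩ := hC r hr
  obtain ⟨han, hra⟩ := hall a ha
  refine Subgroup.mem_centralizer_singleton_iff.2 ?_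
  rcases hra with rfl | ⟨hneg, hev⟩
  · rw [h.X_add hrn, h.X_add hrn, add_comm]
  · rcases eq_or_ne a r with rfl | hne
    · rw [h.X_add hrn, h.X_add hrn, add_comm]
    · exact (h.commute_of_evenComm hrn han hne hneg hev t z).eq

lemma commSet_commute_prodX (hC : T.chkCommSet P CC = true) (hPn : ∀ r ∈ M, r < T.n)
    {g : GL D.Idx F} (hg : g ∈ gen D F {r | r ∈ CC}) {c : ℕ → F}
    (hc : ∀ r ∈ M, r ∉ P → c r = 0) : Commute g (prodX D M c) := by
  refine Commute.list_prod_right _ _ fun x hx => ?_
  obtain ⟨r, hr, rfl⟩ := List.mem_map.1 hx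
  by_cases hrP : r ∈ P
  · exact Subgroup.mem_centralizer_singleton_iff.1 (h.commSet_le hC hrP (c r) hg)
  · rw [hc r hr hrP, h.X_zero (hPn r hr)]
    exact Commute.one_right _

omit [CharP F 2] in
lemma X_simple_pair_mem (hS : T.chkStab P CC J q = true) {i : ℕ} (hi : i < T.l) (hiJ : i ∈ J)
    (t : F) : nU D (T.simple i) t ∈ gen D F {r | r ∈ CC} := by
  simp only [Tab.chkStab, List.all_eq_true, List.mem_range] at hS
  have hq := hS i hi
  rw [if_pos hiJ] at hq
  simp only [Bool.and_eq_true, decide_eq_true_eq] at hq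
  rw [nU, h.agrees.neg_eq (h.simple_lt hi)]
  exact mul_mem (mul_mem (X_mem_gen D hq.2.1 _) (X_mem_gen D hq.1 _)) (X_mem_gen D hq.2.1 _)

/-- Diagonal elements commuting with the `x_a(1)`. -/
lemma diagonal_mem_commSet (hS : T.chkStab P CC J q = true) (hP : ∀ a ∈ P, a < T.n)
    {t : GL D.Idx F} (ht : t ∈ D.diagonalSubgroup F)
    (hc : ∀ a ∈ P, Commute t (X D a 1)) : t ∈ gen D F {r | r ∈ CC} := by
  obtain ⟨c, hc0, e⟩ := h.mem_diagonalSubgroup_iff.1 ht
  have hS' := hS
  simp only [Tab.chkStab, List.all_eq_true, List.mem_range] at hS'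
  have hout : ∀ i < T.l, i ∉ J → c i = 1 := by
    intro i hi hiJ
    have hq := hS' i hi
    rw [if_neg hiJ] at hq
    simp only [List.all_eq_true, List.mem_range, decide_eq_true_eq] at hq
    have hone : ∀ a ∈ P, charOf T c a = 1 := fun a ha => by
      have key : t * X D a (1 : F) = X D a (charOf T c a * 1) * t := by
        refine Units.ext ?_
        rw [Units.val_mul, Units.val_mul, h.coe_X, h.coe_X, e,
          h.torus_mul_x (h.isChar_charOf hc0) (hP a ha)]
      rw [(hc a ha).eq, mul_one] at key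
      exact (h.X_inj (hP a ha) (mul_right_cancel key)).symm
    have hprod : ∀ L : List ℕ, (∀ a ∈ L, a ∈ P) →
        ∏ j ∈ Finset.range T.l, c j ^ (L.map fun a => q i a * T.car j a).sum = (1 : F) := by
      intro L
      induction L with
      | nil => simp
      | cons b L ih =>
        intro hL
        have h1 : charOf T c b ^ q i b = 1 := by rw [hone b (hL b List.mem_cons_self), _root_.one_zpow]
        rw [charOf, ← Finset.prod_zpow] at h1
        calc ∏ j ∈ Finset.range T.l, c j ^ ((b :: L).map fun a => q i a * T.car j a).sum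
            = (∏ j ∈ Finset.range T.l, (c j ^ T.car j b) ^ q i b) *
                ∏ j ∈ Finset.range T.l, c j ^ (L.map fun a => q i a * T.car j a).sum := by
              rw [← Finset.prod_mul_distrib]
              refine Finset.prod_congr rfl fun j hj => ?_
              rw [List.map_cons, List.sum_cons, zpow_add₀ (hc0 j (Finset.mem_range.1 hj)), mul_comm (q i b),
                _root_.zpow_mul]
          _ = 1 := by rw [h1, ih fun a ha => hL a (List.mem_cons_of_mem _ ha), mul_one]
    have h2 := hprod P fun a ha => ha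
    rw [Finset.prod_eq_single i] at h2
    · rwa [hq i hi, if_pos rfl, zpow_one] at h2
    · intro j hj hne
      rw [hq j (Finset.mem_range.1 hj), if_neg hne, zpow_zero]
    · simp [hi]
  have key : ∀ k ≤ T.l, ∃ u ∈ gen D F {r | r ∈ CC}, (u : Matrix D.Idx D.Idx F) =
      D.wordMat F ((List.range k).flatMap fun i => D.hWord (D.simple i) (c i)) := by
    intro k
    induction k with
    | zero => intro _; exact ⟨1, one_mem _, by simp [ChevalleyDatum.wordMat]⟩
    | succ k ih =>
      intro hk
      obtain ⟨u, hu, eu⟩ := ih (by omega)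
      refine ⟨u * hU D (D.simple k) (c k), mul_mem hu ?_, ?_⟩
      · rw [h.simple_eq (by omega), hU]
        by_cases hkJ : k ∈ J
        · exact mul_mem (h.X_simple_pair_mem hS (by omega) hkJ _)
            (h.X_simple_pair_mem hS (by omega) hkJ _)
        · rw [hout k (by omega) hkJ, h.nU_one_mul_neg_one (h.simple_lt (by omega))]
          exact one_mem _
      · rw [List.range_succ, List.flatMap_append, wordMat_append, Units.val_mul, eu, h.coe_hU]
        simp [ChevalleyDatum.hMat]
  obtain ⟨u, hu, eu⟩ := key T.l le_rfl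
  rw [← h.torus_charOf_eq_word hc0, ← e] at eu
  rwa [← Units.ext eu]

/-- Monomial elements fixing `P`. -/
lemma nW_mem_commSet (hC : T.chkCommSet P CC = true) (hS : T.chkStab P CC J q = true)
    (hP : ∀ a ∈ P, a < T.n) : ∀ (n : ℕ) (w : List ℕ), w.length = n → WordOK T w →
    (∀ a ∈ P, rword T w a = a) → nW D F w ∈ gen D F {r | r ∈ CC} := by
  intro n
  induction n using Nat.strong_induction_on with
  | _ n ih =>
    intro w hlen hw hfix
    by_cases hpos : ∀ i < T.l, T.half ≤ rword T w (T.simple i)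
    · exact h.diagonal_mem_commSet hS hP (h.nW_mem_diagonal hw hpos)
        fun a ha => h.nW_commute hw (hP a ha) (hfix a ha)
    · simp only [not_forall, not_le] at hpos
      obtain ⟨i, hi, hneg⟩ := hpos
      have hiJ : i ∈ J := by
        by_contra hiJ
        have h1 := h.cor_rword hS hP hw hfix hi hiJ (h.simple_lt hi)
        have h2 := h.cor_nonpos hneg hi
        rw [(h.simple_spec hi).2.2.2 i hi, if_pos rfl] at h1
        omega
      have hrefl : ∀ a ∈ P, T.refl i a = a := by
        have hS' := hS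
        simp only [Tab.chkStab, List.all_eq_true, List.mem_range] at hS'
        have hq := hS' i hi
        rw [if_pos hiJ] at hq
        simp only [Bool.and_eq_true, List.all_eq_true, decide_eq_true_eq] at hq
        exact hq.2.2
      obtain ⟨w', hw', hlen', t, ht, e⟩ := h.exchange_word (F := F) hw hi hneg
      have hfix' : ∀ a ∈ P, rword T w' a = a := by
        intro a ha
        have ha' := hP a ha
        have h1 : Maps D (nW D F w) a (rword T w' a) := by
          rw [e]
          refine Maps_mul (h.Maps_diagonal ht ha') (Maps_mul ?_ (h.Maps_nW hw' ha'))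
          have h2 := h.Maps_nS (F := F) hi ha'
          rwa [hrefl a ha] at h2
        have h2 := h.Maps_unique (h.rword_lt hw' ha') (h.rword_lt hw ha') h1 (h.Maps_nW hw ha')
        rw [h2, hfix a ha]
      have hw'R := ih w'.length (by omega) w' rfl hw' hfix'
      have hnS : nS D F i ∈ gen D F {r | r ∈ CC} := by
        rw [nS, h.simple_eq hi]
        exact h.X_simple_pair_mem hS hi hiJ 1
      rw [e]
      refine mul_mem (mul_mem hw'R hnS) (h.diagonal_mem_commSet hS hP ht fun a ha => ?_)
      have h3 := Subgroup.mem_centralizer_singleton_iff.1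
        (h.commSet_le hC ha 1 (mul_mem hw'R hnS))
      have h4 := h.nW_commute (F := F) hw (hP a ha) (hfix a ha)
      rw [e, mul_assoc _ t, ← mul_assoc (X D a 1), ← h3, mul_assoc (nW D F w' * nS D F i)] at h4
      exact mul_left_cancel h4

/-- The centralizer of a product of commuting root elements. -/
theorem centralizer_commProd (hM : T.chkConjSet M P = true) (hMs : M.SortedLT)
    (hC : T.chkCommSet P CC = true) (hS : T.chkStab P CC J q = true) {O : List (List ℕ)}
    (hO : T.chkPairOrbit P M O = true) {Y : Set ℕ}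
    (hY : ∀ r ∈ Y, r ∈ posSet T ∧ ∃ i < T.l, i ∉ J ∧ 0 < T.cor r i)
    {v : GL D.Idx F} (hv : v = prodX D M fun r => if r ∈ P then 1 else 0)
    (hsplit : ∀ u ∈ D.posUnipotent F, ∃ c ∈ gen D F {r | r ∈ CC}, ∃ y ∈ gen D F Y, u = c * y)
    (hfree : ∀ y ∈ gen D F Y, Commute y v → y ∈ gen D F {r | r ∈ CC}) :
    D.group F ⊓ Subgroup.centralizer {v} = gen D F {r | r ∈ CC} := by
  have hMn : ∀ r ∈ M, r < T.n := fun r hr => (h.conjSet_pos hM r hr).2
  have hPM : ∀ a ∈ P, a ∈ M := by
    have h' := hM
    simp only [Tab.chkConjSet, Bool.and_eq_true, List.all_eq_true, decide_eq_true_eq] at h'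
    exact h'.2.1
  have hP : ∀ a ∈ P, a < T.n := fun a ha => hMn a (hPM a ha)
  have hcC : ∀ g ∈ gen D F {r | r ∈ CC}, Commute g v := fun g hg => by
    rw [hv]
    exact h.commSet_commute_prodX hC hMn hg fun r _ hr => if_neg hr
  refine le_antisymm (fun g hg => ?_) (le_inf (h.gen_le_group fun r hr => ?_) fun g hg =>
    Subgroup.mem_centralizer_singleton_iff.2 (hcC g hg).eq)
  swap
  · simp only [Tab.chkCommSet, Bool.and_eq_true, List.all_eq_true, decide_eq_true_eq] at hC
    exact (hC r hr).1
  obtain ⟨hgG, hgc⟩ := hg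
  have hgc' : Commute g v := Subgroup.mem_centralizer_singleton_iff.1 hgc
  obtain ⟨b, hb, n, hn, u, hu, rfl⟩ := h.bruhat_exists hgG
  obtain ⟨w, hw, t₁, ht₁, rfl⟩ := h.exists_word_of_monomial hn
  have huU : u ∈ D.posUnipotent F := by
    rw [h.cellUnipotent_eq (π := rword T w) fun r hr =>
      ⟨h.rword_lt hw hr, Maps_mul (h.Maps_diagonal ht₁ hr) (h.Maps_nW hw hr)⟩] at hu
    rw [h.posUnipotent_eq]; exact gen_mono D Set.sdiff_subset hu
  obtain ⟨v₁, hv₁, t₀, ht₀, rfl⟩ := h.mem_borel_iff.1 hb
  have ht : (nW D F w)⁻¹ * t₀ * nW D F w * t₁ ∈ D.diagonalSubgroup F := by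
    refine mul_mem ?_ ht₁
    have := (Subgroup.mem_normalizer_iff.1 (h.monomial_le_normalizer_diagonal
      (inv_mem (h.nW_mem_monomial (F := F) hw))) t₀).1 ht₀
    simpa using this
  obtain ⟨t, ht', hg'⟩ : ∃ t ∈ D.diagonalSubgroup F,
      v₁ * t₀ * (nW D F w * t₁) * u = v₁ * (nW D F w * t) * u :=
    ⟨_, ht, by group⟩
  rw [hg'] at hgc' ⊢
  clear hg' ht hb ht₀ ht₁ hu hgc hgG hn
  obtain ⟨d, hd, hd0⟩ := h.conj_prodX hM hMs huU fun r => if r ∈ P then (1 : F) else 0
  rw [← hv] at hd
  obtain ⟨d', hd', -⟩ := h.conj_prodX hM hMs (inv_mem hv₁) fun r => if r ∈ P then (1 : F) else 0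
  rw [← hv, inv_inv] at hd'
  have e : nW D F w * t * prodX D M ((fun r => if r ∈ P then (1 : F) else 0) + d) *
      (nW D F w * t)⁻¹ = prodX D M ((fun r => if r ∈ P then (1 : F) else 0) + d') := by
    rw [← hd, ← hd']
    have := hgc'.eq
    calc nW D F w * t * (u * v * u⁻¹) * (nW D F w * t)⁻¹
        = v₁⁻¹ * (v₁ * (nW D F w * t) * u * v) * u⁻¹ * (nW D F w * t)⁻¹ := by group
      _ = _ := by rw [this]; group
  have hMaps : ∀ r, r < T.n → Maps D (nW D F w * t) r (rword T w r) := fun r hr =>
    Maps_mul (h.Maps_diagonal ht' hr) (h.Maps_nW hw hr)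
  have hinj : Set.InjOn (rword T w) {r | r ∈ M} := fun x hx y hy exy => by
    have hwr : WordOK T w.reverse := fun i hi => hw i (List.mem_reverse.1 hi)
    have e1 := h.rword_reverse hwr (hMn x hx)
    have e2 := h.rword_reverse hwr (hMn y hy)
    rw [List.reverse_reverse] at e1 e2
    rw [← e1, exy, e2]
  have himg : ∀ a ∈ P, rword T w a ∈ M := fun a ha =>
    h.mem_of_conj_prodX hM hMs (fun r hr => h.rword_lt hw (hMn r hr)) hinj
      (fun r hr => hMaps r (hMn r hr)) e (hPM a ha) (by simp [ha, hd0 a ha])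
  have hfix : ∀ a ∈ P, rword T w a = a := by
    have h1 := rword_tuple_mem hO hw
    simp only [Tab.chkPairOrbit, Bool.and_eq_true, Bool.or_eq_true, List.all_eq_true,
      Bool.not_eq_true', List.mem_range, decide_eq_true_eq] at hO
    have h2 := (hO.2 _ h1).2.resolve_left (by
      simp only [Bool.not_eq_false, List.all_eq_true, List.mem_map, decide_eq_true_eq]
      rintro _ ⟨a, ha, rfl⟩
      exact himg a ha)
    intro a ha
    conv_rhs => rw [← id_eq a]
    exact List.map_inj_left.1 (h2.trans (List.map_id P).symm) a ha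
  have hnC := h.nW_mem_commSet (F := F) hC hS hP w.length w rfl hw hfix
  obtain ⟨c, hc, y, hy, rfl⟩ := hsplit v₁ hv₁
  have hy' : (nW D F w)⁻¹ * y * nW D F w ∈ D.posUnipotent F := by
    refine Subgroup.closure_induction (p := fun y _ => (nW D F w)⁻¹ * y * nW D F w ∈
      D.posUnipotent F) ?_ (by simp) (fun x z _ _ hx hz => ?_) (fun x _ hx => ?_) hy
    · rintro _ ⟨r, hr, z, rfl⟩
      obtain ⟨⟨hrh, hrn⟩, i, hi, hiJ, hcor⟩ := hY r hr
      have hwr : WordOK T w.reverse := fun i hi => hw i (List.mem_reverse.1 hi)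
      have hlt := h.rword_lt hwr hrn
      have hback := h.rword_reverse hw hrn
      have hm : Maps D (nW D F w)⁻¹ r (rword T w.reverse r) := by
        have := Maps_inv (h.Maps_nW (F := F) hw hlt)
        rwa [hback] at this
      obtain ⟨a, ha, ec⟩ := hm
      rw [inv_inv] at ec
      rw [ec z, h.posUnipotent_eq]
      refine X_mem_gen D (⟨?_, hlt⟩ : rword T w.reverse r ∈ posSet T) _
      by_contra hneg
      have h1 := h.cor_rword hS hP hw hfix hi hiJ hlt
      rw [hback] at h1
      have h2 := h.cor_nonpos (not_le.1 hneg) hi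
      omega
    · simpa [mul_assoc] using mul_mem hx hz
    · simpa [mul_assoc] using inv_mem hx
  generalize hy'' : (nW D F w)⁻¹ * y * nW D F w = y' at hy'
  have hu₁ : y' * (t * u * t⁻¹) ∈ D.posUnipotent F := by
    refine mul_mem hy' ?_
    have htB : t ∈ D.borelSubgroup F := Subgroup.mem_sup_right ht'
    exact (Subgroup.mem_normalizer_iff.1 (h.diagonal_le_normalizer_posUnipotent ht') u).1 huU
  obtain ⟨u₁, hu₁', hgx⟩ : ∃ u₁ ∈ D.posUnipotent F,
      c * y * (nW D F w * t) * u = c * nW D F w * (u₁ * t) :=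
    ⟨_, hu₁, by rw [← hy'']; group⟩
  rw [hgx] at hgc' ⊢
  have hx : Commute (u₁ * t) v := by
    have := (hcC _ (inv_mem (mul_mem hc hnC))).mul_left hgc'
    rwa [inv_mul_cancel_left] at this
  have htX : ∀ a ∈ P, Commute t (X D a 1) := by
    obtain ⟨f, hf⟩ : ∃ f : ℕ → F, ∀ r < T.n, ∀ z : F, t * X D r z * t⁻¹ = X D r (f r * z) := by
      obtain ⟨k, hk0, ek⟩ := h.mem_diagonalSubgroup_iff.1 ht'
      refine ⟨fun r => charOf T k r, fun r hr z => mul_inv_eq_of_eq_mul (Units.ext ?_)⟩
      rw [Units.val_mul, Units.val_mul, h.coe_X, h.coe_X, ek,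
        h.torus_mul_x (h.isChar_charOf hk0) hr]
    have h1 : t * v * t⁻¹ = prodX D M fun r => if r ∈ P then f r else 0 := by
      rw [hv]
      have key : ∀ L : List ℕ, (∀ r ∈ L, r < T.n) →
          t * prodX D L (fun r => if r ∈ P then (1 : F) else 0) * t⁻¹ =
            prodX D L fun r => if r ∈ P then f r else 0 := by
        intro L
        induction L with
        | nil => intro _; simp [prodX]
        | cons r L ih =>
          intro hL
          show t * (X D r _ * prodX D L _) * t⁻¹ = X D r _ * prodX D L _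
          rw [← ih fun s hs => hL s (List.mem_cons_of_mem _ hs)]
          have := hf r (hL r List.mem_cons_self) (if r ∈ P then (1 : F) else 0)
          rw [mul_ite, mul_one, mul_zero] at this
          rw [← this]
          group
      exact key M hMn
    obtain ⟨d₁, hd₁, hd₁0⟩ := h.conj_prodX hM hMs hu₁' fun r => if r ∈ P then f r else 0
    have h2 : prodX D M (fun r => if r ∈ P then (1 : F) else 0) =
        prodX D M ((fun r => if r ∈ P then f r else 0) + d₁) := by
      rw [← hd₁, ← h1, ← hv]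
      have := hx.eq
      calc v = u₁ * t * v * (u₁ * t)⁻¹ := by rw [this]; group
        _ = _ := by group
    intro a ha
    have h3 := h.prodX_inj M hMs (fun r hr => h.conjSet_pos hM r hr) _ _ h2 a (hPM a ha)
    simp [ha, hd₁0 a ha] at h3
    have h4 := hf a (hP a ha) 1
    rw [← h3, one_mul] at h4
    exact mul_inv_eq_iff_eq_mul.1 h4
  have htC := h.diagonal_mem_commSet hS hP ht' htX
  have hu₁v : Commute u₁ v := by
    have := hx.mul_left (hcC _ (inv_mem htC))
    rwa [mul_inv_cancel_right] at this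
  obtain ⟨c₁, hc₁, y₁, hy₁, rfl⟩ := hsplit u₁ hu₁'
  have hy₁C : y₁ ∈ gen D F {r | r ∈ CC} := by
    refine hfree y₁ hy₁ ?_
    have := (hcC _ (inv_mem hc₁)).mul_left hu₁v
    rwa [inv_mul_cancel_left] at this
  exact mul_mem (mul_mem hc hnC) (mul_mem (mul_mem hc₁ hy₁C) htC)

end Main

end Cert

end CfsgLib.Chev
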