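import Cfsg.Agent.Lib.Chev.Functorial

/-!
Centralizers of root elements at dominant roots, in characteristic 2.
-/

set_option autoImplicit false

namespace CfsgLib.Chev

open Cfsg.Lie Matrix

namespace Tab

variable (T : Tab)

/-- All coefficients of the commutator of `x_r` and `x_s` are even. -/
def evenComm (r s : ℕ) : Bool := (T.commTerms r s).all fun q => decide (q.2.1 % 2 = 0)

/-- A dominant positive root whose root group is central in `U` in characteristic 2. -/
def chkCentral (a : ℕ) : Bool :=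
  decide (T.half ≤ a ∧ a < T.n) &&
    ((List.range T.l).all (fun i => decide (0 ≤ T.car i a)) &&
      (List.range T.n).all fun r => decide (r < T.half) || (decide (r = a) || T.evenComm r a))

/-- `L` generates the Levi factor fixing the roots in `P`. -/
def chkLevi (P L : List ℕ) : Bool :=
  P.all T.chkCentral &&
    (L.all (fun s => decide (s < T.half) && P.all fun a =>
        decide (s ≠ T.neg a) && T.evenComm s a) &&
      (List.range T.l).all fun i =>
        P.any (fun a => (List.range T.l).all fun j => decide (T.car j a = if j = i then 1 else 0)) ||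
          (decide (T.neg (T.simple i) ∈ L) && P.all fun a => decide (T.refl i a = a)))

end Tab

namespace Cert

variable {D : ChevalleyDatum} {T : Tab} {C : Tab.Cover} (h : Cert D T C)
include h

lemma pairing_rword {w : List ℕ} (hw : WordOK T w) {r s : ℕ} (hr : r < T.n) (hs : s < T.n) :
    T.pairing (rword T w r) (rword T w s) = T.pairing r s := by
  induction w with
  | nil => rfl
  | cons i w ih =>
    rw [rword_cons, rword_cons,
      h.pairing_refl hw.head (h.rword_lt hw.tail hr) (h.rword_lt hw.tail hs), ih hw.tail]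

/-- A negative root pairs non-positively with a dominant root. -/
lemma pairing_nonpos {r a : ℕ} (hr : r < T.half) (hdom : ∀ i < T.l, 0 ≤ T.car i a) :
    T.pairing r a ≤ 0 := by
  have hr' : r < T.n := by have := h.two_mul_half; omega
  rw [Tab.pairing_eq_sum]
  refine Finset.sum_nonpos fun i hi => ?_
  have hi' := Finset.mem_range.1 hi
  have h1 := h.wt_sign hi' hr'
  have h2 := h.wt_nonpos hi' hr' hr
  refine mul_nonpos_of_nonpos_of_nonneg ?_ (hdom i hi')
  rcases lt_or_eq_of_le h2 with h2 | h2
  · rw [Int.sign_eq_neg_one_of_neg h2] at h1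
    exact (Int.sign_eq_neg_one_iff_neg.1 h1.symm).le
  · rw [h2, Int.sign_zero] at h1
    exact (Int.sign_eq_zero_iff_zero.1 h1.symm).le

variable {F : Type*} [Field F] [CharP F 2]

lemma commute_of_evenComm {r s : ℕ} (hr : r < T.n) (hs : s < T.n) (hne : s ≠ r)
    (hneg : s ≠ T.neg r) (he : T.evenComm r s = true) (t u : F) :
    Commute (X D r t) (X D s u) := by
  have h1 := h.X_conj hr hs hne hneg t u
  rw [List.prod_eq_one (fun x hx => ?_), mul_one, ← h.X_inv hr] at h1
  · show X D r t * X D s u = X D s u * X D r t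
    conv_lhs => rw [← h1]
    group
  · obtain ⟨q, hq, rfl⟩ := List.mem_map.1 hx
    simp only [Tab.evenComm, List.all_eq_true, decide_eq_true_eq] at he
    have hz : ((q.2.1 : ℤ) : F) = 0 :=
      (CharP.intCast_eq_zero_iff F 2 _).2 (Int.dvd_of_emod_eq_zero (by exact_mod_cast he q hq))
    rw [hz, zero_mul, zero_mul, h.X_zero (h.commTerms_lt hr hs hq)]

lemma commute_central {r a : ℕ} (ha : T.chkCentral a = true) (hh : T.half ≤ r) (hr : r < T.n)
    (t u : F) : Commute (X D r t) (X D a u) := by
  simp only [Tab.chkCentral, Bool.and_eq_true, Bool.or_eq_true, List.all_eq_true, List.mem_range,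
    decide_eq_true_eq] at ha
  obtain ⟨⟨ha1, ha2⟩, -, hc⟩ := ha
  by_cases hra : r = a
  · subst hra
    show X D r t * X D r u = X D r u * X D r t
    rw [h.X_add hr, h.X_add hr, add_comm]
  · refine h.commute_of_evenComm hr ha2 (Ne.symm hra) (fun e => ?_) ?_ t u
    · have := (h.half_le_neg_iff hr).1 (e ▸ ha1)
      omega
    · rcases hc r hr with c | c | c
      · omega
      · exact absurd c hra
      · exact c

lemma posUnipotent_central {a : ℕ} (ha : T.chkCentral a = true) (u : F) :
    D.posUnipotent F ≤ Subgroup.centralizer {X D a u} := by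
  rw [h.posUnipotent_eq, gen, Subgroup.closure_le]
  rintro _ ⟨r, hr, t, rfl⟩
  exact Subgroup.mem_centralizer_singleton_iff.2 (h.commute_central ha hr.1 hr.2 t u).eq

lemma nW_conj_X_one' : ∀ {w : List ℕ}, WordOK T w → ∀ {r : ℕ}, r < T.n →
    ∃ e : F, e = 1 ∧ nW D F w * X D r 1 * (nW D F w)⁻¹ = X D (rword T w r) e := by
  intro w hw r hr
  obtain ⟨e, he, hc⟩ := h.nW_conj_X_one (F := F) hw hr
  refine ⟨e, ?_, hc⟩
  rcases he with rfl | rfl
  · rfl
  · rw [CharTwo.neg_eq]

/-- `U` with the root groups of `L`. -/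
def leviGen (D : ChevalleyDatum) (F : Type*) [Field F] (L : List ℕ) : Subgroup (GL D.Idx F) :=
  D.posUnipotent F ⊔ Subgroup.closure {g | ∃ s ∈ L, ∃ c : F, (g : Matrix D.Idx D.Idx F) = D.x F s c}

omit [CharP F 2] in
lemma X_mem_leviGen {L : List ℕ} {s : ℕ} (hs : s ∈ L) (c : F) : X D s c ∈ leviGen D F L :=
  Subgroup.mem_sup_right (Subgroup.subset_closure ⟨s, hs, c, h.coe_X s c⟩)

omit [CharP F 2] in
lemma nU_simple_mem {L : List ℕ} {i : ℕ} (hi : i < T.l) (hL : T.neg (T.simple i) ∈ L) (t : F) :
    nU D (T.simple i) t ∈ leviGen D F L := by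
  rw [nU, h.agrees.neg_eq (h.simple_lt hi)]
  exact mul_mem (mul_mem (Subgroup.mem_sup_left (h.X_simple_mem_posUnipotent hi t))
    (h.X_mem_leviGen hL _)) (Subgroup.mem_sup_left (h.X_simple_mem_posUnipotent hi t))

variable {P L : List ℕ} (hchk : T.chkLevi P L = true)
include hchk

lemma leviGen_le_centralizer {a : ℕ} (ha : a ∈ P) (u : F) :
    leviGen D F L ≤ D.group F ⊓ Subgroup.centralizer {X D a u} := by
  simp only [Tab.chkLevi, Bool.and_eq_true, List.all_eq_true, decide_eq_true_eq] at hchk
  have hca := hchk.1 a ha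
  have hca' := hca
  simp only [Tab.chkCentral, Bool.and_eq_true, decide_eq_true_eq] at hca'
  refine sup_le (le_inf h.posUnipotent_le_group (h.posUnipotent_central hca u)) ?_
  rw [Subgroup.closure_le]
  rintro g ⟨s, hs, c, e⟩
  obtain ⟨h1, h2⟩ := hchk.2.1 s hs
  obtain ⟨h3, h4⟩ := h2 a ha
  have hs' : s < T.n := by have := h.two_mul_half; omega
  obtain rfl : g = X D s c := h.coe_eq_iff.1 e
  refine ⟨h.X_mem_group hs' c, Subgroup.mem_centralizer_singleton_iff.2
    (h.commute_of_evenComm hs' hca'.1.2 ?_ ?_ h4 c u).eq⟩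
  · have := hca'.1.1; omega
  · intro e
    exact h3 (by rw [e, neg_neg (T := T) hs'])

omit [CharP F 2] in
/-- Diagonal elements commuting with all `x_a(1)`. -/
lemma diagonal_mem_leviGen {t : GL D.Idx F} (ht : t ∈ D.diagonalSubgroup F)
    (hc : ∀ a ∈ P, t * X D a 1 = X D a 1 * t) : t ∈ leviGen D F L := by
  simp only [Tab.chkLevi, Bool.and_eq_true, Bool.or_eq_true, List.all_eq_true, List.any_eq_true,
    List.mem_range, decide_eq_true_eq] at hchk
  obtain ⟨c, hc0, e⟩ := h.mem_diagonalSubgroup_iff.1 ht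
  have hout : ∀ i < T.l, c i = 1 ∨ T.neg (T.simple i) ∈ L := by
    intro i hi
    rcases hchk.2.2 i hi with ⟨a, ha, hone⟩ | ⟨hin, -⟩
    · refine Or.inl ?_
      have hca := hchk.1 a ha
      simp only [Tab.chkCentral, Bool.and_eq_true, decide_eq_true_eq] at hca
      have key : t * X D a (1 : F) = X D a (charOf T c a * 1) * t := by
        refine Units.ext ?_
        rw [Units.val_mul, Units.val_mul, h.coe_X, h.coe_X, e,
          h.torus_mul_x (h.isChar_charOf hc0) hca.1.2]
      rw [hc a ha, mul_one] at key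
      have h1 := (h.X_inj hca.1.2 (mul_right_cancel key)).symm
      rw [charOf, Finset.prod_eq_single i] at h1
      · rwa [hone i hi, if_pos rfl, zpow_one] at h1
      · intro j hj hne
        rw [hone j (Finset.mem_range.1 hj), if_neg hne, zpow_zero]
      · simp [hi]
    · exact Or.inr hin
  have key : ∀ k ≤ T.l, ∃ u ∈ leviGen D F L, (u : Matrix D.Idx D.Idx F) =
      D.wordMat F ((List.range k).flatMap fun i => D.hWord (D.simple i) (c i)) := by
    intro k
    induction k with
    | zero => intro _; exact ⟨1, one_mem _, by simp [ChevalleyDatum.wordMat]⟩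
    | succ k ih =>
      intro hk
      obtain ⟨u, hu, eu⟩ := ih (by omega)
      refine ⟨u * hU D (D.simple k) (c k), mul_mem hu ?_, ?_⟩
      · rw [h.simple_eq (by omega), hU]
        rcases hout k (by omega) with hk1 | hk1
        · rw [hk1, h.nU_one_mul_neg_one (h.simple_lt (by omega))]
          exact one_mem _
        · exact mul_mem (h.nU_simple_mem (by omega) hk1 _) (h.nU_simple_mem (by omega) hk1 _)
      · rw [List.range_succ, List.flatMap_append, wordMat_append, Units.val_mul, eu, h.coe_hU]
        simp [ChevalleyDatum.hMat]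
  obtain ⟨u, hu, eu⟩ := key T.l le_rfl
  rw [← h.torus_charOf_eq_word hc0, ← e] at eu
  rwa [← Units.ext eu]

omit hchk in
lemma nW_commute {w : List ℕ} (hw : WordOK T w) {a : ℕ} (ha : a < T.n) (e : rword T w a = a) :
    nW D F w * X D a 1 = X D a 1 * nW D F w := by
  obtain ⟨z, hz, hconj⟩ := h.nW_conj_X_one' (F := F) hw ha
  rw [e, hz] at hconj
  exact mul_inv_eq_iff_eq_mul.1 hconj

/-- A monomial element commuting with all `x_a(1)`. -/
lemma nW_mem_leviGen : ∀ (n : ℕ) (w : List ℕ), w.length = n → WordOK T w →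
    (∀ a ∈ P, rword T w a = a) → nW D F w ∈ leviGen D F L := by
  intro n
  induction n using Nat.strong_induction_on with
  | _ n ih =>
    intro w hlen hw hfix
    have hchk' := hchk
    simp only [Tab.chkLevi, Bool.and_eq_true, Bool.or_eq_true, List.all_eq_true, List.any_eq_true,
      List.mem_range, decide_eq_true_eq] at hchk'
    have hP : ∀ a ∈ P, a < T.n ∧ ∀ i < T.l, 0 ≤ T.car i a := fun a ha => by
      have := hchk'.1 a ha
      simp only [Tab.chkCentral, Bool.and_eq_true, List.all_eq_true, List.mem_range,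
        decide_eq_true_eq] at this
      exact ⟨this.1.2, this.2.1⟩
    by_cases hpos : ∀ i < T.l, T.half ≤ rword T w (T.simple i)
    · exact h.diagonal_mem_leviGen hchk (h.nW_mem_diagonal hw hpos)
        fun a ha => h.nW_commute hw (hP a ha).1 (hfix a ha)
    · simp only [not_forall, not_le] at hpos
      obtain ⟨i, hi, hneg⟩ := hpos
      obtain ⟨hin, hrefl⟩ : T.neg (T.simple i) ∈ L ∧ ∀ a ∈ P, T.refl i a = a := by
        rcases hchk'.2.2 i hi with ⟨a, ha, hone⟩ | hJ
        · exfalso
          have h1 := h.pairing_rword hw (h.simple_lt hi) (hP a ha).1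
          rw [hfix a ha, h.pairing_simple hi, hone i hi, if_pos rfl] at h1
          have h2 := h.pairing_nonpos hneg (hP a ha).2
          omega
        · exact hJ
      obtain ⟨w', hw', hlen', t, ht, e⟩ := h.exchange_word (F := F) hw hi hneg
      have hfix' : ∀ a ∈ P, rword T w' a = a := by
        intro a ha
        have ha' := (hP a ha).1
        have h1 : Maps D (nW D F w) a (rword T w' a) := by
          rw [e]
          refine Maps_mul (h.Maps_diagonal ht ha') (Maps_mul ?_ (h.Maps_nW hw' ha'))
          have h2 := h.Maps_nS (F := F) hi ha'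
          rwa [hrefl a ha] at h2
        have h2 := h.Maps_unique (h.rword_lt hw' ha') (h.rword_lt hw ha') h1 (h.Maps_nW hw ha')
        rw [h2, hfix a ha]
      have hw'R := ih w'.length (by omega) w' rfl hw' hfix'
      have hnS : nS D F i ∈ leviGen D F L := by
        rw [nS, h.simple_eq hi]
        exact h.nU_simple_mem hi hin 1
      rw [e]
      refine mul_mem (mul_mem hw'R hnS) (h.diagonal_mem_leviGen hchk ht fun a ha => ?_)
      have hle := (h.leviGen_le_centralizer hchk ha 1 (mul_mem hw'R hnS)).2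
      have h3 := Subgroup.mem_centralizer_singleton_iff.1 hle
      have h4 := h.nW_commute (F := F) hw (hP a ha).1 (hfix a ha)
      rw [e, mul_assoc _ t, ← mul_assoc (X D a 1), ← h3, mul_assoc (nW D F w' * nS D F i)] at h4
      exact mul_left_cancel h4

omit hchk in
/-- A root element conjugated by a Bruhat product. -/
lemma exists_conj_central {a : ℕ} (ha : T.chkCentral a = true) {b n u : GL D.Idx F}
    (hb : b ∈ D.borelSubgroup F) (hu : u ∈ D.posUnipotent F) {s : ℕ} (hM : Maps D n a s)
    {z : F} (hz : z ≠ 0) :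
    ∃ z' z'' : F, z' ≠ 0 ∧ z'' ≠ 0 ∧ n * u * X D a z * (n * u)⁻¹ = X D s z' ∧
      b⁻¹ * X D a z * b = X D a z'' := by
  have ha' := ha
  simp only [Tab.chkCentral, Bool.and_eq_true, decide_eq_true_eq] at ha'
  obtain ⟨c, hc0, hc⟩ := hM
  have hu' := Subgroup.mem_centralizer_singleton_iff.1 (h.posUnipotent_central ha z hu)
  obtain ⟨v, hv, t, ht, rfl⟩ := h.mem_borel_iff.1 hb
  have hv' := Subgroup.mem_centralizer_singleton_iff.1 (h.posUnipotent_central ha z hv)
  obtain ⟨d, hd0, hd⟩ := h.conj_X_of_mem_diagonal (inv_mem ht) ha'.1.2 z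
  refine ⟨c * z, d * z, mul_ne_zero hc0 hz, mul_ne_zero hd0 hz, ?_, ?_⟩
  · rw [← hc, _root_.mul_inv_rev, mul_assoc n, hu']; group
  · rw [← hd, _root_.mul_inv_rev, inv_inv,
      show t⁻¹ * v⁻¹ * X D a z * (v * t) = t⁻¹ * (v⁻¹ * (X D a z * v)) * t by group, ← hv']
    group

/-- An element of a cell fixing the roots in `P` and commuting with all `x_a(1)`. -/
lemma mem_leviGen_of_fix {b u t₁ : GL D.Idx F} {w : List ℕ} (hb : b ∈ D.borelSubgroup F)
    (hw : WordOK T w) (ht₁ : t₁ ∈ D.diagonalSubgroup F) (hu : u ∈ D.posUnipotent F)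
    (hfix : ∀ a ∈ P, rword T w a = a)
    (hc : ∀ a ∈ P, Commute (b * (nW D F w * t₁) * u) (X D a 1)) :
    b * (nW D F w * t₁) * u ∈ leviGen D F L := by
  obtain ⟨v, hv, t, ht, rfl⟩ := h.mem_borel_iff.1 hb
  have hwR := h.nW_mem_leviGen (F := F) hchk w.length w rfl hw hfix
  have hvR : v ∈ leviGen D F L := Subgroup.mem_sup_left hv
  have huR : u ∈ leviGen D F L := Subgroup.mem_sup_left hu
  have ht' : (nW D F w)⁻¹ * t * nW D F w ∈ D.diagonalSubgroup F := by
    have := (Subgroup.mem_normalizer_iff.1 (h.monomial_le_normalizer_diagonal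
      (inv_mem (h.nW_mem_monomial (F := F) hw))) t).1 ht
    simpa using this
  have e : v * t * (nW D F w * t₁) * u =
      v * nW D F w * ((nW D F w)⁻¹ * t * nW D F w * t₁) * u := by group
  rw [e] at hc ⊢
  refine mul_mem (mul_mem (mul_mem hvR hwR) ?_) huR
  refine h.diagonal_mem_leviGen hchk (mul_mem ht' ht₁) fun a ha => ?_
  have hcen : ∀ x ∈ leviGen D F L, Commute x (X D a 1) := fun x hx =>
    Subgroup.mem_centralizer_singleton_iff.1 (h.leviGen_le_centralizer hchk ha 1 hx).2
  have h1 := ((hcen _ (inv_mem (mul_mem hvR hwR))).mul_left (hc a ha)).mul_left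
    (hcen _ (inv_mem huR))
  rw [mul_assoc (v * nW D F w) _ u, inv_mul_cancel_left, mul_inv_cancel_right] at h1
  exact h1.eq

omit hchk in
/-- The centralizer of a root element at a dominant root. -/
theorem centralizer_X {a : ℕ} (hchk' : T.chkLevi [a] L = true) :
    D.group F ⊓ Subgroup.centralizer {X D a (1 : F)} = leviGen D F L := by
  refine le_antisymm (fun g hg => ?_) (h.leviGen_le_centralizer hchk' List.mem_cons_self 1)
  obtain ⟨hgG, hgc⟩ := hg
  have hgc' := Subgroup.mem_centralizer_singleton_iff.1 hgc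
  have hca : T.chkCentral a = true := by
    simp only [Tab.chkLevi, Bool.and_eq_true, List.all_eq_true] at hchk'
    exact hchk'.1 a List.mem_cons_self
  have ha : a < T.n := by
    simp only [Tab.chkCentral, Bool.and_eq_true, decide_eq_true_eq] at hca
    exact hca.1.2
  obtain ⟨b, hb, n, hn, u, hu, rfl⟩ := h.bruhat_exists hgG
  obtain ⟨w, hw, t₁, ht₁, rfl⟩ := h.exists_word_of_monomial hn
  have huU : u ∈ D.posUnipotent F := by
    rw [h.cellUnipotent_eq (π := rword T w) fun r hr =>
      ⟨h.rword_lt hw hr, Maps_mul (h.Maps_diagonal ht₁ hr) (h.Maps_nW hw hr)⟩] at hu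
    rw [h.posUnipotent_eq]; exact gen_mono D Set.sdiff_subset hu
  obtain ⟨z', z'', hz', -, e1, e2⟩ := h.exists_conj_central hca hb huU
    (Maps_mul (h.Maps_diagonal ht₁ ha) (h.Maps_nW hw ha)) (one_ne_zero (α := F))
  have e3 : X D (rword T w a) z' = X D a z'' := by
    rw [← e1, ← e2]
    have e4 := hgc'
    generalize nW D F w * t₁ = m at e4 ⊢
    rw [eq_inv_mul_iff_mul_eq.2 (show b * (m * u * X D a 1) = X D a 1 * (b * (m * u)) by
      simpa only [mul_assoc] using e4)]
    group
  have hfix := h.root_eq_of_X_eq (h.rword_lt hw ha) ha hz' e3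
  refine h.mem_leviGen_of_fix hchk' hb hw ht₁ huU (fun c hc => ?_) fun c hc => ?_
  · rw [List.mem_singleton] at hc; rw [hc]; exact hfix
  · rw [List.mem_singleton] at hc; rw [hc]; exact hgc'

end Cert

end CfsgLib.Chev
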