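import Cfsg.Agent.Lib.Chev.Unipotent

/-! Commutators of two generated unipotent subgroups, by the table of commutator terms. -/

set_option autoImplicit false

open scoped commutatorElement

namespace CfsgLib.Chev

open Cfsg.Lie Matrix

/-- Commutator terms of roots of `P` with roots of `S` lie in `S'`, and `S' ⊆ S ⊆ P` are positive. -/
def chkCommGen (T : Tab) (P S S' : List ℕ) : Bool :=
  (P.all fun a => decide (T.half ≤ a ∧ a < T.n)) && ((S.all fun b => P.contains b) &&
    ((S'.all fun b => S.contains b) && P.all fun a => S.all fun b =>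
      decide (a = b) || (T.commTerms a b).all fun q => S'.contains q.1))

namespace Cert

variable {D : ChevalleyDatum} {T : Tab} {C : Tab.Cover} (h : Cert D T C) {F : Type*} [Field F]
include h

/-- The commutator of the groups of `P` and `S` lies in that of `S'`. -/
theorem commutator_mem_gen {P S S' : List ℕ} (hc : chkCommGen T P S S' = true) {g n : GL D.Idx F}
    (hg : g ∈ gen D F {r | r ∈ P}) (hn : n ∈ gen D F {r | r ∈ S}) :
    ⁅g, n⁆ ∈ gen D F {r | r ∈ S'} := by
  simp only [chkCommGen, Bool.and_eq_true, List.all_eq_true, decide_eq_true_eq,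
    List.contains_iff_mem, Bool.or_eq_true] at hc
  obtain ⟨hP, hS, hS', hT⟩ := hc
  have hXc : ∀ a ∈ P, ∀ b ∈ S, ∀ t u : F, X D a t * X D b u * (X D a t)⁻¹ ∈
      gen D F {r | r = b} ⊔ gen D F {r | r ∈ S'} := by
    intro a ha b hb t u
    by_cases hab : a = b
    · subst hab
      rw [h.X_inv (hP a ha).2, h.X_add (hP a ha).2, h.X_add (hP a ha).2, add_neg_cancel_comm]
      exact Subgroup.mem_sup_left (X_mem_gen D (show a ∈ {r | r = a} from rfl) _)
    · have h1 := h.X_conj (hP a ha).2 (hP b (hS b hb)).2 (Ne.symm hab)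
        (h.posSet_neg_ne (hP a ha) (hP b (hS b hb))) (-t) u
      rw [_root_.neg_neg] at h1
      rw [h.X_inv (hP a ha).2, h1]
      refine Subgroup.mul_mem_sup (X_mem_gen D (show b ∈ {r | r = b} from rfl) u)
        (list_prod_mem fun x hx => ?_)
      obtain ⟨q, hq, rfl⟩ := List.mem_map.1 hx
      exact X_mem_gen D (show q.1 ∈ {r | r ∈ S'} from
        ((hT a ha b hb).resolve_left hab) q hq) _
  have hnorm : gen D F {r | r ∈ P} ≤
      Subgroup.normalizer (gen D F {r | r ∈ S'} : Set (GL D.Idx F)) := by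
    refine (Subgroup.closure_le _).2 ?_
    rintro _ ⟨a, ha, t, rfl⟩
    refine le_normalizer_closure (H := gen D F {a}) ?_ (X_mem_gen D (Set.mem_singleton a) t)
    rintro y hy _ ⟨b, hb, u, rfl⟩
    obtain ⟨s, rfl⟩ := (h.gen_singleton (hP a ha).2).1 hy
    have hle : gen D F {r | r = b} ⊔ gen D F {r | r ∈ S'} ≤ gen D F {r | r ∈ S'} :=
      sup_le (gen_mono D fun r (hr : r = b) => hr ▸ hb) le_rfl
    exact hle (hXc a ha b (hS' b hb) s u)
  have hnS : gen D F {r | r ∈ S} ≤ Subgroup.normalizer (gen D F {r | r ∈ S'} : Set (GL D.Idx F)) :=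
    (gen_mono D (fun r hr => hS r hr)).trans hnorm
  have hconj : ∀ y ∈ Subgroup.normalizer (gen D F {r | r ∈ S'} : Set (GL D.Idx F)),
      ∀ z ∈ gen D F {r | r ∈ S'}, y * z * y⁻¹ ∈ gen D F {r | r ∈ S'} :=
    fun y hy z hz => (Subgroup.mem_normalizer_iff.1 hy z).1 hz
  have key : ∀ a ∈ P, ∀ t : F, ∀ m ∈ gen D F {r | r ∈ S},
      ⁅X D a t, m⁆ ∈ gen D F {r | r ∈ S'} := by
    intro a ha t m hm
    induction hm using Subgroup.closure_induction with
    | mem x hx =>
      obtain ⟨b, hb, u, rfl⟩ := hx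
      by_cases hab : a = b
      · subst hab
        rw [commutatorElement_eq_one_iff_mul_comm.2 (by
          rw [h.X_add (hP a ha).2, h.X_add (hP a ha).2, add_comm])]
        exact one_mem _
      · have h1 := h.X_conj (hP a ha).2 (hP b (hS b hb)).2 (Ne.symm hab)
          (h.posSet_neg_ne (hP a ha) (hP b (hS b hb))) (-t) u
        rw [_root_.neg_neg, ← h.X_inv (hP a ha).2] at h1
        rw [commutatorElement_def, h1]
        refine hconj _ (hnS (X_mem_gen D (show b ∈ {r | r ∈ S} from hb) u)) _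
          (list_prod_mem fun y hy => ?_)
        obtain ⟨q, hq, rfl⟩ := List.mem_map.1 hy
        exact X_mem_gen D (show q.1 ∈ {r | r ∈ S'} from
          ((hT a ha b hb).resolve_left hab) q hq) _
    | one => rw [commutatorElement_one_right]; exact one_mem _
    | mul x y hx _ ihx ihy =>
      rw [show ⁅X D a t, x * y⁆ = ⁅X D a t, x⁆ * (x * ⁅X D a t, y⁆ * x⁻¹) by
        simp only [commutatorElement_def]; group]
      exact mul_mem ihx (hconj _ (hnS hx) _ ihy)
    | inv x hx ihx =>
      rw [show ⁅X D a t, x⁻¹⁆ = x⁻¹ * ⁅X D a t, x⁆⁻¹ * x⁻¹⁻¹ by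
        simp only [commutatorElement_def]; group]
      exact hconj _ (hnS (inv_mem hx)) _ (inv_mem ihx)
  induction hg using Subgroup.closure_induction with
  | mem x hx => obtain ⟨a, ha, t, rfl⟩ := hx; exact key a ha t n hn
  | one => rw [commutatorElement_one_left]; exact one_mem _
  | mul x y hx _ ihx ihy =>
    rw [show ⁅x * y, n⁆ = x * ⁅y, n⁆ * x⁻¹ * ⁅x, n⁆ by simp only [commutatorElement_def]; group]
    exact mul_mem (hconj _ (hnorm hx) _ ihy) ihx
  | inv x hx ihx =>
    rw [show ⁅x⁻¹, n⁆ = x⁻¹ * ⁅x, n⁆⁻¹ * x⁻¹⁻¹ by simp only [commutatorElement_def]; group]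
    exact hconj _ (hnorm (inv_mem hx)) _ (inv_mem ihx)

end Cert

end CfsgLib.Chev
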