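import Cfsg.Agent.Lib.Chev.Engine

/-!
The finite checks on packed tables, as Boolean functions for `decide +kernel`.
-/

set_option autoImplicit false

namespace CfsgLib.Chev

open Cfsg.Lie

/-- Evaluate `x` to a literal before using it (only for small `x`). -/
noncomputable def force (x : ℕ) (f : ℕ → Bool) : Bool :=
  Nat.rec (motive := fun _ => Bool) (f 0) (fun k _ => f (Nat.succ k)) x

@[simp] lemma force_eq (x : ℕ) (f : ℕ → Bool) : force x f = f x := by cases x <;> rfl

/-- `f k` for all `k < n`. -/
noncomputable def allBelow (n : ℕ) (f : ℕ → Bool) : Bool :=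
  Nat.rec (motive := fun _ => Bool) true (fun k ih => cond (f k) ih false) n

lemma allBelow_of_forall {n : ℕ} {f : ℕ → Bool} (h : ∀ k < n, f k = true) :
    allBelow n f = true := by
  induction n with
  | zero => rfl
  | succ n ih =>
    show cond (f n) (allBelow n f) false = true
    rw [h n (Nat.lt_succ_self n), cond_true]
    exact ih fun k hk => h k (Nat.lt_succ_of_lt hk)

lemma allBelow_eq_true {n : ℕ} {f : ℕ → Bool} (h : allBelow n f = true) :
    ∀ k < n, f k = true := by
  induction n with
  | zero => intro k hk; omega
  | succ n ih =>
    change cond (f n) (allBelow n f) false = true at h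
    cases hf : f n with
    | false => rw [hf] at h; cases h
    | true =>
      rw [hf] at h
      intro k hk
      rcases Nat.lt_succ_iff_lt_or_eq.1 hk with h' | rfl
      · exact ih h k h'
      · exact hf

namespace Tab

variable (T : Tab)

/-- `T.entry` as a chain root, like `ChevalleyDatum.chainRoot`. -/
def chainRoot (r s i : ℕ) : Option ℕ := ((T.entry r s)[i - 1]?).map Prod.fst

/-- `T.entry` as a chain constant, like `ChevalleyDatum.chainM`. -/
def chainM (r s i : ℕ) : ℤ := (((T.entry r s)[i - 1]?).map Prod.snd).getD 0

/-- The terms of the commutator formula, like `ChevalleyDatum.commTerms`. -/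
def commTerms (r s : ℕ) : List (ℕ × ℤ × ℕ × ℕ) :=
  let rs := T.chainRoot r s 1
  let cands : List (Option ℕ × ℤ × ℕ × ℕ) :=
    [ (T.chainRoot r s 1, T.chainM r s 1, 1, 1),
      (T.chainRoot r s 2, T.chainM r s 2, 2, 1),
      (T.chainRoot s r 2, T.chainM s r 2, 1, 2),
      (T.chainRoot r s 3, T.chainM r s 3, 3, 1),
      (T.chainRoot s r 3, - T.chainM s r 3, 1, 3),
      ((T.chainRoot r s 3).bind fun k => T.chainRoot k s 1,
        (rs.map fun k => T.chainM k r 2 / 3).getD 0, 3, 2),
      ((T.chainRoot s r 3).bind fun k => T.chainRoot k r 1,
        (rs.map fun k => -2 * T.chainM k s 2 / 3).getD 0, 2, 3) ]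
  cands.filterMap fun c => c.1.map fun k => (k, c.2)

/-- The reflected root, computed from the chains, like `ChevalleyDatum.reflectRoot`. -/
def reflCalc (i s : ℕ) : ℕ :=
  let p := T.simple i
  let A := T.car i s
  if s = p then T.neg p
  else if s = T.neg p then p
  else if 0 < A then (T.chainRoot (T.neg p) s A.toNat).getD s
  else if A < 0 then (T.chainRoot p s (-A).toNat).getD s
  else s

/-- `Σ_k c_k(r) A_{p_k, s}`. -/
def pairing (r s : ℕ) : ℤ := ((List.range T.l).map fun k => T.cor r k * T.car k s).sum

/-- The word of `n_p(t)`, with `u = t⁻¹`. -/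
def nWordE (i : ℕ) : List (ℕ × ℤ × ℕ × ℕ) :=
  [(T.simple i, 1, 1, 0), (T.neg (T.simple i), -1, 0, 1), (T.simple i, 1, 1, 0)]

/-- The expected column `c` of `n_p(t)`. -/
def nCol (i c : ℕ) : SVec :=
  if T.n ≤ c then [((c, 0, 0), 1), ((T.n + i, 0, 0), -T.car (c - T.n) (T.simple i))]
  else [((T.refl i c, (-T.car i c).toNat, (T.car i c).toNat), T.eta i c)]

/-- The shape of `n_p(t)`. -/
def chkN : Bool :=
  (List.range T.l).all fun i => (List.range T.dim).all fun c =>
    same true (T.appWord true (T.nWordE i) c) (T.nCol i c)

/-- Covering certificate: every step `(new, i, old)` reflects an element seen before. -/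
def covers (step : ℕ → ℕ → ℕ → Bool) : ℕ → List (ℕ × ℕ × ℕ) → Option ℕ
  | seen, [] => some seen
  | seen, (a, i, b) :: L =>
    if seen.testBit b && step a i b then covers step (seen ||| 2 ^ a) L else none

/-- The set of a list, as bits. -/
def bitsOf (L : List ℕ) : ℕ := L.foldr (fun a s => s ||| 2 ^ a) 0

/-- Every root comes from one of `base` through the tree. -/
def chkTree (base : List ℕ) (tree : List (ℕ × ℕ × ℕ)) : Bool :=
  match covers (fun a i b => decide (i < T.l ∧ b < T.n ∧ T.refl i b = a)) (bitsOf base) tree with
  | none => false
  | some seen => (List.range T.n).all fun r => seen.testBit r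

/-- Additivity for a root. -/
def chkAdd (r : ℕ) : Bool :=
  (List.range T.dim).all fun c =>
    same false (T.appWord false [(r, 1, 1, 0), (r, 1, 0, 1)] c)
      ((T.col r c).flatMap fun q => (List.range (q.2.1 + 1)).map fun k =>
        ((q.1, k, q.2.1 - k), q.2.2 * (Nat.choose q.2.1 k : ℤ)))

/-- The commutator formula for a pair. -/
def chkComm (r s : ℕ) : Bool :=
  (List.range T.dim).all fun c =>
    same false (T.appWord false [(s, 1, 0, 1), (r, 1, 1, 0)] c)
      (T.appWord false ((r, 1, 1, 0) :: (s, 1, 0, 1) ::
        (T.commTerms r s).map fun q => (q.1, q.2.1 * (-1) ^ q.2.2.1, q.2.2.1, q.2.2.2)) c)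

/-- One orbit certificate: a base root, the representatives and the tree of the others. -/
def chkOrbit (p : ℕ) (reps : List ℕ) (tree : List (ℕ × ℕ × ℕ)) : Bool :=
  match covers (fun a i b => decide (i < T.l ∧ b < T.n ∧ T.refl i b = a ∧ T.refl i p = p))
    (bitsOf reps) tree with
  | none => false
  | some seen => (List.range T.n).all fun s => decide (s = p ∨ s = T.neg p) || seen.testBit s

/-- Data for the orbit arguments. -/
structure Cover where
  /-- base roots with their representatives and stabiliser trees -/
  base : List (ℕ × List ℕ × List (ℕ × ℕ × ℕ))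
  /-- the tree on roots -/
  tree : List (ℕ × ℕ × ℕ)

/-- The `s`-block of a packed row. -/
def blk (R s : ℕ) : ℕ := Nat.land (Nat.shiftRight R (Nat.mul 42 s)) 4398046511103

/-- The sign bit. -/
def etaBit (i s : ℕ) : ℕ := Nat.land (Nat.shiftRight T.etaP (Nat.add (Nat.mul T.n i) s)) 1

/-- Fast reflection. -/
def reflF (i s : ℕ) : ℕ := Nat.land (Nat.shiftRight T.wP (Nat.mul 8 (Nat.add (Nat.mul T.n i) s))) 255

/-- Slots of a block and of its image under the reflection agree. -/
noncomputable def relBlock (i es er : ℕ) (fuel : ℕ) : ℕ → ℕ → ℕ → Bool :=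
  Nat.rec (motive := fun _ => ℕ → ℕ → ℕ → Bool) (fun _ _ _ => true)
    (fun _ ih k B C =>
      cond (Nat.beq B 0) (Nat.beq C 0)
        (cond (Nat.beq C 0) false
          (cond (Nat.beq (Nat.sub (Nat.land C 511) 1) (T.reflF i (Nat.sub (Nat.land B 511) 1)))
            (cond
              (cond
                (Nat.beq (Nat.land
                  (Nat.add (Nat.add (T.etaBit i (Nat.sub (Nat.land B 511) 1)) es) (Nat.mul k er)) 1) 0)
                (Nat.beq (Nat.land (Nat.shiftRight C 9) 31) (Nat.land (Nat.shiftRight B 9) 31))
                (Nat.beq (Nat.add (Nat.land (Nat.shiftRight C 9) 31)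
                  (Nat.land (Nat.shiftRight B 9) 31)) 16))
              (ih (Nat.succ k) (Nat.shiftRight B 14) (Nat.shiftRight C 14)) false)
            false))) fuel

/-- The conjugation check. -/
noncomputable def chkConj : Bool :=
  allBelow T.n fun r => allBelow T.n fun s => force (blk (T.row r) s) fun B =>
    cond (Nat.beq B 0) true (allBelow T.l fun i => force (blk (T.row (T.reflF i r)) (T.reflF i s))
      fun C => T.relBlock i (T.etaBit i s) (T.etaBit i r) 3 1 B C)

/-- Targets of a block satisfy the chain conditions. -/
noncomputable def goodBlock (r s : ℕ) (fuel : ℕ) : ℕ → Bool :=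
  Nat.rec (motive := fun _ => ℕ → Bool) (fun _ => true)
    (fun _ ih B => cond (Nat.beq B 0) true
      (force (Nat.sub (Nat.land B 511) 1) fun u =>
        cond (Nat.blt u T.n)
          (cond
            (cond (Nat.ble T.half r)
              (cond (Nat.blt s u)
                (cond (Nat.ble T.half s) true
                  (cond (Nat.ble r (T.neg s)) true (Nat.ble T.half u))) false)
              (Nat.blt u s))
            (ih (Nat.shiftRight B 14)) false)
          false)) fuel

/-- The chain check. -/
noncomputable def chkChains : Bool :=
  allBelow T.n fun r => allBelow T.n fun s => force (blk (T.row r) s) fun B =>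
    cond (Nat.beq B 0) true
      (cond (Nat.beq r s) false
        (cond (Nat.beq (T.neg r) s) false
          (cond (Nat.beq (blk (T.row s) r) 0) false (T.goodBlock r s 3 B))))

/-- Compare one packed row with a list of nonempty chains. -/
noncomputable def matchRow (R : ℕ) : ℕ → ℕ → List (ℕ × List (ℕ × ℤ)) → Bool
  | 0, _, L => L.isEmpty
  | fuel + 1, s, L =>
    force (blk R s) fun B =>
      bif Nat.beq B 0 then matchRow R fuel (s + 1) L
      else match L with
        | [] => false
        | a :: L' => Nat.beq a.1 s && (decide (decode 3 B = a.2) && matchRow R fuel (s + 1) L')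

/-- Raw coroot field. -/
def corF (r j : ℕ) : ℕ :=
  Nat.land (Nat.shiftRight T.corP (Nat.mul 5 (Nat.add (Nat.mul T.l r) j))) 31

/-- Raw Cartan field. -/
def carF (i s : ℕ) : ℕ :=
  Nat.land (Nat.shiftRight T.carP (Nat.mul 3 (Nat.add (Nat.mul T.n i) s))) 7

/-- Natural sums. -/
noncomputable def sumBelow (n : ℕ) (f : ℕ → ℕ) : ℕ :=
  Nat.rec (motive := fun _ => ℕ) 0 (fun k ih => Nat.add ih (f k)) n

/-- The reflection check (all but the formula for `reflectRoot`). -/
noncomputable def chkRefl : Bool :=
  allBelow T.l fun i => force (field 8 T.simpleP i) fun p => allBelow T.n fun s =>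
    force (T.reflF i s) fun w =>
      cond (Nat.blt w T.n)
        (cond (Nat.beq (T.reflF i w) s)
          (cond (Nat.beq (T.reflF i (T.neg s)) (T.neg w))
            (cond (cond (Nat.ble T.half s) (cond (Nat.beq s p) true (Nat.ble T.half w)) true)
              (cond (Nat.beq (T.etaBit i (T.neg s)) (T.etaBit i s))
                (cond (Nat.beq (Nat.land (Nat.add (Nat.add (T.etaBit i s) (T.etaBit i w))
                    (Nat.add (T.carF i s) 3)) 1) 0)
                  (cond (cond (Nat.beq s p) (Nat.beq (T.etaBit i s) 1) true)
                    (allBelow T.l fun j =>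
                      cond (Nat.beq (Nat.add (Nat.add (T.carF j w)
                              (Nat.mul (T.carF i s) (T.carF j p))) 9)
                            (Nat.add (Nat.add (T.carF j s) (Nat.mul 3 (T.carF i s)))
                              (Nat.mul 3 (T.carF j p))))
                        (cond (Nat.beq j i)
                          (Nat.beq (Nat.add (Nat.add (T.corF w j)
                              (sumBelow T.l fun k => Nat.mul (T.corF s k) (T.carF k p)))
                              (Nat.mul 48 T.l))
                            (Nat.add (Nat.add (T.corF s j)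
                              (Nat.mul 3 (sumBelow T.l fun k => T.corF s k)))
                              (Nat.mul 16 (sumBelow T.l fun k => T.carF k p))))
                          (Nat.beq (T.corF w j) (T.corF s j)))
                        false)
                    false) false) false) false) false) false) false

/-- The basic check. -/
noncomputable def chkBasic : Bool :=
  cond (Nat.beq T.n (Nat.mul 2 T.half))
    (cond (Nat.blt 0 T.l)
      (cond (allBelow T.l fun i => force (field 8 T.simpleP i) fun p =>
        cond (Nat.ble T.half p) (cond (Nat.blt p T.n)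
          (cond (Nat.beq (T.carF i p) 5)
            (allBelow T.l fun j => cond (Nat.beq j i) (Nat.beq (T.corF p j) 17)
              (Nat.beq (T.corF p j) 16)) false) false) false)
        (allBelow T.n fun r => allBelow T.l fun i => force (T.corF r i) fun c =>
          cond (cond (Nat.ble T.half r) (Nat.ble 16 c) (Nat.ble c 16))
            (cond (Nat.beq (Nat.add (T.corF (T.neg r) i) c) 32)
              (Nat.beq (Nat.add (T.carF i (T.neg r)) (T.carF i r)) 6) false) false)
        false) false) false

/-- The coroot coefficients of every root have greatest common divisor one. -/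
noncomputable def chkUnit : Bool :=
  allBelow T.n fun r =>
    Nat.beq (Nat.rec (motive := fun _ => ℕ) 0
      (fun k ih => Nat.gcd (Nat.add (Nat.sub (T.corF r k) 16) (Nat.sub 16 (T.corF r k))) ih) T.l) 1

/-- Fast edge check: only chains of length three need the comparison. -/
noncomputable def chkEdge (i r : ℕ) : Bool :=
  allBelow T.n fun s => force (blk (T.row r) s) fun B =>
    cond (Nat.beq B 0) true
      (cond (Nat.beq (Nat.shiftRight B 28) 0)
        (cond (Nat.beq (Nat.shiftRight (blk (T.row s) r) 28) 0) true
          (decide (T.commTerms (T.refl i r) (T.refl i s) = (T.commTerms r s).map fun q =>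
            (T.refl i q.1, q.2.1 * T.eta i q.1 * T.eta i r ^ q.2.2.1 * T.eta i s ^ q.2.2.2,
              q.2.2.1, q.2.2.2))))
        (decide (T.commTerms (T.refl i r) (T.refl i s) = (T.commTerms r s).map fun q =>
          (T.refl i q.1, q.2.1 * T.eta i q.1 * T.eta i r ^ q.2.2.1 * T.eta i s ^ q.2.2.2,
            q.2.2.1, q.2.2.2))))

/-- All covering checks, with fast edges. -/
noncomputable def chkCover (C : Cover) : Bool :=
  T.chkTree (C.base.map Prod.fst) C.tree &&
  (C.base.all (fun b => decide (b.1 < T.n) && (T.chkAdd b.1 &&
      (T.chkOrbit b.1 b.2.1 b.2.2 &&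
        b.2.1.all fun s => decide (s < T.n) && T.chkComm b.1 s))) &&
  (C.tree.all (fun e => T.chkEdge e.2.1 e.2.2) &&
    C.base.all fun b => allBelow T.l fun i =>
      cond (Nat.beq (T.reflF i b.1) b.1) (T.chkEdge i b.1) true))

/-- Cartan integers are linear along a block. -/
noncomputable def linBlock (r s fuel : ℕ) : ℕ → ℕ → Bool :=
  Nat.rec (motive := fun _ => ℕ → ℕ → Bool) (fun _ _ => true)
    (fun _ ih k B => cond (Nat.beq B 0) true
      (cond
        (allBelow T.l fun j =>
          Nat.beq (Nat.add (T.carF j (Nat.sub (Nat.land B 511) 1)) (Nat.mul 3 k))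
            (Nat.add (T.carF j s) (Nat.mul k (T.carF j r))))
        (ih (Nat.succ k) (Nat.shiftRight B 14)) false)) fuel

/-- Cartan integers are linear along the chains. -/
noncomputable def chkLin : Bool :=
  allBelow T.n fun r => allBelow T.n fun s => force (blk (T.row r) s) fun B =>
    cond (Nat.beq B 0) true (T.linBlock r s 3 1 B)

/-- A positive root which is not simple has a smaller positive image under some reflection. -/
noncomputable def chkDesc : Bool :=
  allBelow T.n fun r => cond (Nat.ble T.half r)
    (!allBelow T.l fun i => force (T.reflF i r) fun w =>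
      !(cond (Nat.beq (field 8 T.simpleP i) r) true
        (cond (Nat.ble T.half w) (Nat.blt w r) false))) true

/-- A linear function of the roots, given by a row of `B`. -/
def weight (B : List (List ℤ)) (k r : ℕ) : ℤ :=
  ((List.range T.l).map fun j => (B.getD k []).getD j 0 * T.car j r).sum

/-- The linear functions have the signs of the coroot coefficients; only a simple root is
supported on one index. -/
def chkWeight (B : List (List ℤ)) : Bool :=
  (List.range T.n).all fun r =>
    ((List.range T.l).all fun k => decide ((T.weight B k r).sign = (T.cor r k).sign)) &&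
      (decide (r < T.half) || (List.range T.l).all fun i => decide (T.simple i = r) ||
        (List.range T.l).any fun k => decide (k ≠ i ∧ T.cor r k ≠ 0))

/-- The formula for reflected roots. -/
def chkReflCalc : Bool :=
  (List.range T.l).all fun i => (List.range T.n).all fun s => decide (T.refl i s = T.reflCalc i s)

/-- Every packed row lists the corresponding chains of `D`. -/
noncomputable def chkRows (D : ChevalleyDatum) : Bool :=
  Nat.beq D.chain.toList.length T.n &&
  allBelow T.n fun r => matchRow (T.row r) T.n 0
    ((D.chain.toList.getD r #[]).toList.map fun e => (e.1, e.2.toList))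

end Tab

end CfsgLib.Chev
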