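import Cfsg.Agent.Lib.Chev.Sem
import Cfsg.Agent.Lib.Chev.Check

/-!
What the table checks mean.
-/

set_option autoImplicit false

namespace CfsgLib.Chev

open Cfsg.Lie

/-- A certified datum: its packed tables pass every check. -/
structure Cert (D : ChevalleyDatum) (T : Tab) (C : Tab.Cover) : Prop where
  rows : T.chkRows D = true
  smallTabs : D.rank = T.l ∧ D.nroots = T.n ∧
    D.negIdx.toList = (List.range T.n).map T.neg ∧
    D.simpleIdx.toList = (List.range T.l).map T.simple ∧
    D.coroot.toList.map Array.toList = (List.range T.n).map (fun r => (List.range T.l).map (T.cor r)) ∧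
    D.cartanSR.toList.map Array.toList =
      (List.range T.l).map (fun i => (List.range T.n).map (T.car i))
  basicOk : T.chkBasic = true
  unitOk : T.chkUnit = true
  chainsOk : T.chkChains = true
  reflOk : T.chkRefl = true
  reflCalcOk : T.chkReflCalc = true
  nOk : T.chkN = true
  conjOk : T.chkConj = true
  coverOk : T.chkCover C = true
  linOk : T.chkLin = true
  descOk : T.chkDesc = true
  weightOk : ∃ B, T.chkWeight B = true

lemma cond_false_eq_true {a b : Bool} (h : cond a b false = true) : a = true ∧ b = true := by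
  cases a <;> simp_all

lemma cond_true_eq_true {a b : Bool} (h : cond a true b = true) : a = true ∨ b = true := by
  cases a <;> simp_all

namespace Tab

variable (T : Tab)

lemma blk_eq (R s : ℕ) : blk R s = field 42 R s := by
  simp only [blk, field]
  rw [show (4398046511103 : ℕ) = 2 ^ 42 - 1 from rfl]
  exact Nat.and_two_pow_sub_one_eq_mod _ 42

lemma field_eq (w P k : ℕ) : Nat.land (Nat.shiftRight P (Nat.mul w k)) (2 ^ w - 1) = field w P k :=
  Nat.and_two_pow_sub_one_eq_mod _ w

lemma reflF_eq (i s : ℕ) : T.reflF i s = T.refl i s := field_eq 8 T.wP (T.n * i + s)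

lemma etaBit_eq (i s : ℕ) : T.etaBit i s = field 1 T.etaP (T.n * i + s) := by
  have := field_eq 1 T.etaP (T.n * i + s)
  rw [← this]
  simp [etaBit]

lemma eta_eq (i s : ℕ) : T.eta i s = (-1) ^ T.etaBit i s := by
  have h1 : field 1 T.etaP (T.n * i + s) < 2 := Nat.mod_lt _ (by norm_num)
  rw [etaBit_eq]
  unfold eta
  rcases Nat.eq_zero_or_pos (field 1 T.etaP (T.n * i + s)) with h | h
  · simp [h]
  · simp [show field 1 T.etaP (T.n * i + s) = 1 by omega]

lemma eta_sq (i s : ℕ) : T.eta i s * T.eta i s = 1 := by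
  unfold eta; split <;> rfl

lemma eta_cases (i s : ℕ) : T.eta i s = 1 ∨ T.eta i s = -1 := by
  unfold eta; split <;> simp

lemma cor_eq' (r i : ℕ) : T.cor r i = (T.corF r i : ℤ) - 16 := by
  have : T.corF r i = field 5 T.corP (T.l * r + i) := field_eq 5 T.corP (T.l * r + i)
  rw [this, cor, Int.subNatNat_eq_coe]; rfl

lemma car_eq' (i s : ℕ) : T.car i s = (T.carF i s : ℤ) - 3 := by
  have : T.carF i s = field 3 T.carP (T.n * i + s) := field_eq 3 T.carP (T.n * i + s)
  rw [this, car, Int.subNatNat_eq_coe]; rfl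

lemma sumBelow_eq (n : ℕ) (f : ℕ → ℕ) : sumBelow n f = ∑ k ∈ Finset.range n, f k := by
  induction n with
  | zero => rfl
  | succ n ih =>
    show sumBelow n f + f n = _
    rw [ih, Finset.sum_range_succ]

lemma decode_nil_iff (fuel b : ℕ) : decode (fuel + 1) b = [] ↔ b = 0 := by
  simp only [decode]; split <;> simp_all

lemma entry_nil_iff (r s : ℕ) : T.entry r s = [] ↔ blk (T.row r) s = 0 := by
  rw [entry, decode_nil_iff, blk_eq]

lemma goodBlock_succ (r s k B : ℕ) : T.goodBlock r s (k + 1) B =
    cond (Nat.beq B 0) true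
      (force (Nat.sub (Nat.land B 511) 1) fun u =>
        cond (Nat.blt u T.n)
          (cond
            (cond (Nat.ble T.half r)
              (cond (Nat.blt s u)
                (cond (Nat.ble T.half s) true
                  (cond (Nat.ble r (T.neg s)) true (Nat.ble T.half u))) false)
              (Nat.blt u s))
            (T.goodBlock r s k (Nat.shiftRight B 14)) false)
          false) := rfl

lemma goodBlock_spec {r s : ℕ} : ∀ (fuel : ℕ) {B : ℕ}, T.goodBlock r s fuel B = true →
    ∀ e ∈ decode fuel B, e.1 < T.n ∧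
      (T.half ≤ r → s < e.1 ∧ (T.half ≤ s ∨ r ≤ T.neg s ∨ T.half ≤ e.1)) ∧
      (r < T.half → e.1 < s) := by
  intro fuel
  induction fuel with
  | zero => intro B _ e he; simp [decode] at he
  | succ k ih =>
    intro B h e he
    rw [T.goodBlock_succ] at h
    simp only [decode] at he
    split at he
    · simp at he
    next hB =>
      have hB' : Nat.beq B 0 = false := by
        cases hb : Nat.beq B 0
        · rfl
        · exact absurd (Nat.eq_of_beq_eq_true hb) hB
      simp only [hB', cond_false, force_eq] at h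
      obtain ⟨h1, h2⟩ := cond_false_eq_true h
      obtain ⟨h2, h3⟩ := cond_false_eq_true h2
      have hu : Nat.sub (Nat.land B 511) 1 = B % 2 ^ 9 - 1 :=
        congrArg (· - 1) (Nat.and_two_pow_sub_one_eq_mod B 9)
      rcases List.mem_cons.1 he with rfl | he
      · rw [hu] at h1 h2
        have hlt : B % 2 ^ 9 - 1 < T.n := of_decide_eq_true (by simpa [Nat.blt] using h1)
        refine ⟨hlt, fun hr => ?_, fun hr => ?_⟩
        · rw [Nat.ble_eq_true_of_le hr] at h2
          obtain ⟨a, b⟩ := cond_false_eq_true h2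
          refine ⟨Nat.le_of_ble_eq_true a, ?_⟩
          rcases cond_true_eq_true b with c | c
          · exact Or.inl (Nat.le_of_ble_eq_true c)
          · rcases cond_true_eq_true c with c | c
            · exact Or.inr (Or.inl (Nat.le_of_ble_eq_true c))
            · exact Or.inr (Or.inr (Nat.le_of_ble_eq_true c))
        · have : Nat.ble T.half r = false := by
            cases hb : Nat.ble T.half r
            · rfl
            · exact absurd (Nat.le_of_ble_eq_true hb) (by omega)
          rw [this] at h2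
          exact Nat.le_of_ble_eq_true h2
      · exact ih (B := B >>> 14) h3 e he

lemma relBlock_spec {i s r : ℕ} : ∀ (fuel k : ℕ) {B C : ℕ},
    T.relBlock i (T.etaBit i s) (T.etaBit i r) fuel k B C = true →
    decode fuel C = ((decode fuel B).zipIdx k).map fun q =>
      (T.refl i q.1.1, q.1.2 * T.eta i q.1.1 * T.eta i s * T.eta i r ^ q.2) := by
  intro fuel
  induction fuel with
  | zero => intro k B C _; simp [decode]
  | succ fuel ih =>
    intro k B C h
    change cond (Nat.beq B 0) _ _ = true at h
    by_cases hB : B = 0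
    · subst hB
      have : C = 0 := Nat.eq_of_beq_eq_true h
      simp [decode, this]
    have hB' : Nat.beq B 0 = false := by
      cases hb : Nat.beq B 0
      · rfl
      · exact absurd (Nat.eq_of_beq_eq_true hb) hB
    rw [hB', cond_false] at h
    by_cases hC : C = 0
    · subst hC; simp at h
    have hC' : Nat.beq C 0 = false := by
      cases hb : Nat.beq C 0
      · rfl
      · exact absurd (Nat.eq_of_beq_eq_true hb) hC
    rw [hC', cond_false] at h
    obtain ⟨h1, h2⟩ := cond_false_eq_true h
    obtain ⟨h2, h3⟩ := cond_false_eq_true h2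
    have hu : ∀ X : ℕ, Nat.sub (Nat.land X 511) 1 = X % 2 ^ 9 - 1 := fun X =>
      congrArg (· - 1) (Nat.and_two_pow_sub_one_eq_mod X 9)
    have hM : ∀ X : ℕ, Nat.land (Nat.shiftRight X 9) 31 = (X >>> 9) % 2 ^ 5 := fun X =>
      Nat.and_two_pow_sub_one_eq_mod _ 5
    rw [hu, hu, T.reflF_eq] at h1
    rw [hu, hM, hM] at h2
    simp only [decode, if_neg hB, if_neg hC, List.zipIdx_cons, List.map_cons]
    refine congrArg₂ List.cons (Prod.ext (Nat.eq_of_beq_eq_true h1) ?_) (ih (k + 1) h3)
    simp only
    set u := B % 2 ^ 9 - 1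
    have hsign : T.eta i u * T.eta i s * T.eta i r ^ k =
        (-1) ^ (T.etaBit i u + T.etaBit i s + k * T.etaBit i r) := by
      rw [eta_eq, eta_eq, eta_eq, ← pow_mul, ← pow_add, ← pow_add, mul_comm k]
    rw [mul_assoc, mul_assoc, ← mul_assoc (T.eta i u), hsign, Int.subNatNat_eq_coe,
      Int.subNatNat_eq_coe]
    have hpar : Nat.land (Nat.add (Nat.add (T.etaBit i u) (T.etaBit i s))
        (Nat.mul k (T.etaBit i r))) 1 =
        (T.etaBit i u + T.etaBit i s + k * T.etaBit i r) % 2 :=
      Nat.and_two_pow_sub_one_eq_mod _ 1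
    rw [hpar] at h2
    rcases Nat.mod_two_eq_zero_or_one (T.etaBit i u + T.etaBit i s + k * T.etaBit i r) with e | e
    · rw [e] at h2
      rw [(Nat.even_iff.2 e).neg_one_pow, mul_one, Nat.eq_of_beq_eq_true h2]
    · rw [e] at h2
      rw [(Nat.odd_iff.2 e).neg_one_pow]
      have h4 : (C >>> 9) % 2 ^ 5 + (B >>> 9) % 2 ^ 5 = 16 := Nat.eq_of_beq_eq_true h2
      omega

lemma matchRow_spec (R : ℕ) : ∀ (fuel s : ℕ) {L : List (ℕ × List (ℕ × ℤ))},
    matchRow R fuel s L = true →
    L = (List.range' s fuel).filterMap fun a =>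
      match decode 3 (field 42 R a) with
      | [] => none
      | x :: L' => some (a, x :: L') := by
  intro fuel
  induction fuel with
  | zero => intro s L h; simpa [matchRow] using h
  | succ fuel ih =>
    intro s L h
    simp only [matchRow, force_eq, blk_eq] at h
    rw [List.range'_succ, List.filterMap_cons]
    by_cases hB : field 42 R s = 0
    · simp only [hB] at h ⊢
      simp only [decode, if_true]
      exact ih (s + 1) h
    · have hB' : Nat.beq (field 42 R s) 0 = false := by
        cases hb : Nat.beq (field 42 R s) 0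
        · rfl
        · exact absurd (Nat.eq_of_beq_eq_true hb) hB
      rw [hB', cond_false] at h
      cases L with
      | nil => simp at h
      | cons a L' =>
        simp only [Bool.and_eq_true, decide_eq_true_eq] at h
        obtain ⟨h1, h2, h3⟩ := h
        obtain ⟨a1, a2⟩ := a
        simp only at h1 h2
        have hd : decode 3 (field 42 R s) ≠ [] := fun h0 => hB ((decode_nil_iff 2 _).1 h0)
        obtain ⟨x, L'', hx⟩ := List.exists_cons_of_ne_nil hd
        rw [hx] at h2 ⊢
        simp only
        rw [← ih (s + 1) h3, Nat.eq_of_beq_eq_true h1, h2]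

end Tab

namespace Cert

variable {D : ChevalleyDatum} {T : Tab} {C : Tab.Cover} (h : Cert D T C)
include h

lemma agrees : T.Agrees D := by
  refine ⟨h.smallTabs.1, h.smallTabs.2.1, h.smallTabs.2.2.1, h.smallTabs.2.2.2.1,
    h.smallTabs.2.2.2.2.1, h.smallTabs.2.2.2.2.2, ?_⟩
  have h0 := h.rows
  simp only [Tab.chkRows, Bool.and_eq_true] at h0
  have hlen : D.chain.toList.length = T.n := Nat.eq_of_beq_eq_true h0.1
  refine List.ext_getElem (by simpa using hlen) fun r h1 h2 => ?_
  have hr : r < T.n := by simpa using h2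
  have h3 := Tab.matchRow_spec _ _ _ (allBelow_eq_true h0.2 r hr)
  rw [List.getD_eq_getElem _ _ (by omega)] at h3
  simp only [List.getElem_map, List.getElem_range]
  rw [h3, Tab.keys, List.range_eq_range']
  rfl

lemma nroots_eq : D.nroots = T.n := h.smallTabs.2.1
lemma rank_eq : D.rank = T.l := h.smallTabs.1

lemma two_mul_half : T.n = 2 * T.half :=
  Nat.eq_of_beq_eq_true (cond_false_eq_true h.basicOk).1

lemma rank_pos : 0 < T.l :=
  Nat.le_of_ble_eq_true (cond_false_eq_true (cond_false_eq_true h.basicOk).2).1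

omit h in
lemma neg_lt {r : ℕ} (hr : r < T.n) : T.neg r < T.n := by unfold Tab.neg; omega
omit h in
lemma neg_neg {r : ℕ} (hr : r < T.n) : T.neg (T.neg r) = r := by unfold Tab.neg; omega

lemma neg_ne {r : ℕ} (hr : r < T.n) : T.neg r ≠ r := by
  have := h.two_mul_half; unfold Tab.neg; omega

lemma half_le_neg_iff {r : ℕ} (hr : r < T.n) : T.half ≤ T.neg r ↔ r < T.half := by
  have := h.two_mul_half; unfold Tab.neg; omega

lemma simple_spec {i : ℕ} (hi : i < T.l) :
    T.half ≤ T.simple i ∧ T.simple i < T.n ∧ T.car i (T.simple i) = 2 ∧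
      ∀ j < T.l, T.cor (T.simple i) j = if i = j then 1 else 0 := by
  have h1 := (cond_false_eq_true (cond_false_eq_true (cond_false_eq_true h.basicOk).2).2).1
  have h2 := allBelow_eq_true h1 i hi
  rw [force_eq] at h2
  obtain ⟨a, h2⟩ := cond_false_eq_true h2
  obtain ⟨b, h2⟩ := cond_false_eq_true h2
  obtain ⟨c, h2⟩ := cond_false_eq_true h2
  refine ⟨Nat.le_of_ble_eq_true a, Nat.le_of_ble_eq_true b, ?_, fun j hj => ?_⟩
  · have : T.carF i (T.simple i) = 5 := Nat.eq_of_beq_eq_true c
    rw [T.car_eq', this]; rfl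
  · have h3 := allBelow_eq_true h2 j hj
    rw [T.cor_eq']
    by_cases hij : i = j
    · subst hij
      rw [show Nat.beq i i = true from Nat.beq_refl i, cond_true] at h3
      have : T.corF (T.simple i) i = 17 := Nat.eq_of_beq_eq_true h3
      rw [this, if_pos rfl]; rfl
    · have hb : Nat.beq j i = false := by
        cases hb : Nat.beq j i
        · rfl
        · exact absurd (Nat.eq_of_beq_eq_true hb).symm hij
      rw [hb, cond_false] at h3
      have : T.corF (T.simple i) j = 16 := Nat.eq_of_beq_eq_true h3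
      rw [this, if_neg hij]; rfl

lemma simple_lt {i : ℕ} (hi : i < T.l) : T.simple i < T.n := (h.simple_spec hi).2.1

lemma root_spec {r i : ℕ} (hr : r < T.n) (hi : i < T.l) :
    (T.half ≤ r → 0 ≤ T.cor r i) ∧ (r < T.half → T.cor r i ≤ 0) ∧
      T.cor (T.neg r) i = -T.cor r i ∧ T.car i (T.neg r) = -T.car i r := by
  have h1 := (cond_false_eq_true (cond_false_eq_true (cond_false_eq_true h.basicOk).2).2).2
  have h2 := allBelow_eq_true (allBelow_eq_true h1 r hr) i hi
  rw [force_eq] at h2
  obtain ⟨a, h2⟩ := cond_false_eq_true h2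
  obtain ⟨b, c⟩ := cond_false_eq_true h2
  have b' : T.corF (T.neg r) i + T.corF r i = 32 := Nat.eq_of_beq_eq_true b
  have c' : T.carF i (T.neg r) + T.carF i r = 6 := Nat.eq_of_beq_eq_true c
  simp only [T.cor_eq', T.car_eq']
  refine ⟨fun hp => ?_, fun hn => ?_, by omega, by omega⟩
  · rw [Nat.ble_eq_true_of_le hp, cond_true] at a
    have := Nat.le_of_ble_eq_true a; omega
  · have hb : Nat.ble T.half r = false := by
      cases hb : Nat.ble T.half r
      · rfl
      · exact absurd (Nat.le_of_ble_eq_true hb) (by omega)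
    rw [hb, cond_false] at a
    have := Nat.le_of_ble_eq_true a; omega

/-- Some combination of the coroot coefficients is one. -/
lemma eq_zero_of_cor_mul {R : Type*} [CommRing R] {r : ℕ} (hr : r < T.n) {t : R}
    (ht : ∀ i < T.l, (T.cor r i : R) * t = 0) : t = 0 := by
  have h1 := Nat.eq_of_beq_eq_true (allBelow_eq_true h.unitOk r hr)
  have key : ∀ m ≤ T.l, ∀ g, g = (Nat.rec (motive := fun _ => ℕ) 0
      (fun k ih => Nat.gcd (Nat.add (Nat.sub (T.corF r k) 16) (Nat.sub 16 (T.corF r k))) ih) m) →
      (g : R) * t = 0 := by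
    intro m
    induction m with
    | zero => intro _ g hg; simp [hg]
    | succ m ih =>
      intro hm g hg
      have h2 := ih (by omega) _ rfl
      set a := Nat.add (Nat.sub (T.corF r m) 16) (Nat.sub 16 (T.corF r m)) with ha
      have h3 : (a : R) * t = 0 := by
        have h4 := ht m (by omega)
        rw [T.cor_eq'] at h4
        rcases le_total 16 (T.corF r m) with hle | hle
        · have : (a : ℤ) = (T.corF r m : ℤ) - 16 := by
            simp only [ha, Nat.add_eq, Nat.sub_eq]; omega
          rw [← this] at h4; simpa using h4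
        · have : (a : ℤ) = -((T.corF r m : ℤ) - 16) := by
            simp only [ha, Nat.add_eq, Nat.sub_eq]; omega
          rw [← neg_eq_zero, ← neg_mul, ← Int.cast_neg, ← this] at h4; simpa using h4
      have hb := congrArg (Int.cast : ℤ → R) (Nat.gcd_eq_gcd_ab a (Nat.rec (motive := fun _ => ℕ) 0
        (fun k ih => Nat.gcd (Nat.add (Nat.sub (T.corF r k) 16) (Nat.sub 16 (T.corF r k))) ih) m))
      push_cast at hb
      rw [hg]
      show ((Nat.gcd a _ : ℕ) : R) * t = 0
      rw [hb, add_mul, mul_right_comm, h3, zero_mul, zero_add, mul_right_comm, h2, zero_mul]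
  simpa using key T.l le_rfl 1 h1.symm

lemma chain_spec {r s : ℕ} (hr : r < T.n) (hs : s < T.n) (hne : T.entry r s ≠ []) :
    s ≠ r ∧ s ≠ T.neg r ∧ T.entry s r ≠ [] ∧ ∀ e ∈ T.entry r s, e.1 < T.n ∧
      (T.half ≤ r → s < e.1 ∧ (T.half ≤ s ∨ r ≤ T.neg s ∨ T.half ≤ e.1)) ∧
      (r < T.half → e.1 < s) := by
  have h1 := allBelow_eq_true (allBelow_eq_true h.chainsOk r hr) s hs
  rw [force_eq] at h1
  have hB : Nat.beq (Tab.blk (T.row r) s) 0 = false := by
    cases hb : Nat.beq (Tab.blk (T.row r) s) 0
    · rfl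
    · exact absurd ((T.entry_nil_iff r s).2 (Nat.eq_of_beq_eq_true hb)) hne
  rw [hB, cond_false] at h1
  cases e1 : Nat.beq r s with
  | true => rw [e1] at h1; simp at h1
  | false =>
    cases e2 : Nat.beq (T.neg r) s with
    | true => rw [e1, e2] at h1; simp at h1
    | false =>
      cases e3 : Nat.beq (Tab.blk (T.row s) r) 0 with
      | true => rw [e1, e2, e3] at h1; simp at h1
      | false =>
        rw [e1, e2, e3] at h1
        refine ⟨fun e => Nat.ne_of_beq_eq_false e1 e.symm,
          fun e => Nat.ne_of_beq_eq_false e2 e.symm,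
          fun e => Nat.ne_of_beq_eq_false e3 ((T.entry_nil_iff s r).1 e), ?_⟩
        have := T.goodBlock_spec 3 h1
        rw [Tab.blk_eq] at this
        exact this

lemma refl_spec {i s : ℕ} (hi : i < T.l) (hs : s < T.n) :
    T.refl i s < T.n ∧ T.refl i (T.refl i s) = s ∧ T.refl i (T.neg s) = T.neg (T.refl i s) ∧
      (T.half ≤ s → s ≠ T.simple i → T.half ≤ T.refl i s) ∧
      T.eta i (T.neg s) = T.eta i s ∧
      T.eta i s * T.eta i (T.refl i s) = (-1) ^ (T.car i s).natAbs ∧
      (s = T.simple i → T.eta i s = -1) ∧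
      (∀ j < T.l, T.car j (T.refl i s) = T.car j s - T.car i s * T.car j (T.simple i)) ∧
      ∀ j < T.l, T.cor (T.refl i s) j =
        T.cor s j - if j = i then T.pairing s (T.simple i) else 0 := by
  have h0 := allBelow_eq_true h.reflOk i hi
  rw [force_eq] at h0
  have h1 := allBelow_eq_true h0 s hs
  rw [force_eq] at h1
  obtain ⟨a1, h1⟩ := cond_false_eq_true h1
  obtain ⟨a2, h1⟩ := cond_false_eq_true h1
  obtain ⟨a3, h1⟩ := cond_false_eq_true h1
  obtain ⟨a4, h1⟩ := cond_false_eq_true h1
  obtain ⟨a5, h1⟩ := cond_false_eq_true h1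
  obtain ⟨a6, h1⟩ := cond_false_eq_true h1
  obtain ⟨a7, h1⟩ := cond_false_eq_true h1
  simp only [T.reflF_eq] at a1 a2 a3 a4 a5 a6 a7 h1
  refine ⟨Nat.le_of_ble_eq_true a1, Nat.eq_of_beq_eq_true a2, Nat.eq_of_beq_eq_true a3,
    fun hp hne => ?_, ?_, ?_, fun hp => ?_, fun j hj => ?_, fun j hj => ?_⟩
  · rw [Nat.ble_eq_true_of_le hp, cond_true] at a4
    rcases cond_true_eq_true a4 with c | c
    · exact absurd (Nat.eq_of_beq_eq_true c) hne
    · exact Nat.le_of_ble_eq_true c
  · rw [T.eta_eq, T.eta_eq, Nat.eq_of_beq_eq_true a5]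
  · rw [T.eta_eq, T.eta_eq, ← pow_add, T.car_eq']
    have e : (T.etaBit i s + T.etaBit i (T.refl i s) + (T.carF i s + 3)) % 2 = 0 :=
      (Nat.and_two_pow_sub_one_eq_mod _ 1).symm.trans (Nat.eq_of_beq_eq_true a6)
    rw [neg_one_pow_eq_pow_mod_two, neg_one_pow_eq_pow_mod_two (n := Int.natAbs _)]
    congr 1
    omega
  · subst hp
    rw [show Nat.beq (T.simple i) (Tab.field 8 T.simpleP i) = true from Nat.beq_refl _,
      cond_true] at a7
    rw [T.eta_eq, show T.etaBit i (T.simple i) = 1 from Nat.eq_of_beq_eq_true a7]; rfl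
  · have h2 := (cond_false_eq_true (allBelow_eq_true h1 j hj)).1
    have e : T.carF j (T.refl i s) + T.carF i s * T.carF j (T.simple i) + 9 =
        T.carF j s + 3 * T.carF i s + 3 * T.carF j (T.simple i) := Nat.eq_of_beq_eq_true h2
    simp only [T.car_eq']
    have : ((T.carF j (T.refl i s) + T.carF i s * T.carF j (T.simple i) + 9 : ℕ) : ℤ) =
        ((T.carF j s + 3 * T.carF i s + 3 * T.carF j (T.simple i) : ℕ) : ℤ) := by rw [e]
    push_cast at this
    linear_combination this
  · have h2 := (cond_false_eq_true (allBelow_eq_true h1 j hj)).2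
    by_cases hji : j = i
    · subst hji
      rw [show Nat.beq j j = true from Nat.beq_refl j, cond_true] at h2
      have e := Nat.eq_of_beq_eq_true h2
      simp only [Tab.sumBelow_eq, Nat.add_eq, Nat.mul_eq] at e
      rw [if_pos rfl, Tab.pairing]
      rw [show ((List.range T.l).map fun k => T.cor s k * T.car k (T.simple j)).sum =
        ∑ k ∈ Finset.range T.l, T.cor s k * T.car k (T.simple j) from rfl]
      simp only [T.cor_eq', T.car_eq', sub_mul, mul_sub, Finset.sum_sub_distrib, ← Finset.mul_sum,
        ← Finset.sum_mul, Finset.sum_const, Finset.card_range, nsmul_eq_mul]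
      have e' := congrArg (Nat.cast : ℕ → ℤ) e
      push_cast at e'
      rw [show Tab.field 8 T.simpleP j = T.simple j from rfl] at e'
      linear_combination e'
    · have hb : Nat.beq j i = false := by
        cases hb : Nat.beq j i
        · rfl
        · exact absurd (Nat.eq_of_beq_eq_true hb) hji
      rw [hb, cond_false] at h2
      rw [if_neg hji, sub_zero, T.cor_eq', T.cor_eq', Nat.eq_of_beq_eq_true h2]

lemma refl_lt {i s : ℕ} (hi : i < T.l) (hs : s < T.n) : T.refl i s < T.n := (h.refl_spec hi hs).1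

lemma refl_refl {i s : ℕ} (hi : i < T.l) (hs : s < T.n) : T.refl i (T.refl i s) = s :=
  (h.refl_spec hi hs).2.1

lemma refl_eq_reflCalc {i s : ℕ} (hi : i < T.l) (hs : s < T.n) : T.refl i s = T.reflCalc i s := by
  have h1 := h.reflCalcOk
  simp only [Tab.chkReflCalc, List.all_eq_true, List.mem_range, decide_eq_true_eq] at h1
  exact h1 i hi s hs

lemma refl_simple {i : ℕ} (hi : i < T.l) : T.refl i (T.simple i) = T.neg (T.simple i) := by
  rw [h.refl_eq_reflCalc hi (h.simple_lt hi)]
  simp [Tab.reflCalc]

/-- Reflections carry chains to chains. -/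
lemma conj_entry {i r s : ℕ} (hi : i < T.l) (hr : r < T.n) (hs : s < T.n) :
    T.entry (T.refl i r) (T.refl i s) = ((T.entry r s).zipIdx 1).map fun q =>
      (T.refl i q.1.1, q.1.2 * T.eta i q.1.1 * T.eta i s * T.eta i r ^ q.2) := by
  have key : ∀ {r s : ℕ}, r < T.n → s < T.n → T.entry r s ≠ [] →
      T.entry (T.refl i r) (T.refl i s) = ((T.entry r s).zipIdx 1).map fun q =>
        (T.refl i q.1.1, q.1.2 * T.eta i q.1.1 * T.eta i s * T.eta i r ^ q.2) := by
    intro r s hr hs hne
    have h1 := allBelow_eq_true (allBelow_eq_true h.conjOk r hr) s hs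
    rw [force_eq] at h1
    have hB : Nat.beq (Tab.blk (T.row r) s) 0 = false := by
      cases hb : Nat.beq (Tab.blk (T.row r) s) 0
      · rfl
      · exact absurd ((T.entry_nil_iff r s).2 (Nat.eq_of_beq_eq_true hb)) hne
    rw [hB, cond_false] at h1
    have h2 := allBelow_eq_true h1 i hi
    rw [force_eq, T.reflF_eq, T.reflF_eq] at h2
    have h3 := T.relBlock_spec 3 1 h2
    rw [Tab.blk_eq, Tab.blk_eq] at h3
    exact h3
  by_cases hne : T.entry r s = []
  · rw [hne]
    by_contra hne'
    simp only [List.zipIdx_nil, List.map_nil] at hne'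
    have h2 := key (h.refl_lt hi hr) (h.refl_lt hi hs) hne'
    rw [h.refl_refl hi hr, h.refl_refl hi hs, hne] at h2
    have := congrArg List.length h2
    simp only [List.length_map, List.length_zipIdx, List.length_nil] at this
    exact hne' (List.length_eq_zero_iff.1 this.symm)
  · exact key hr hs hne

end Cert

end CfsgLib.Chev
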