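import Cfsg.Agent.Lib.Chev.StMinRep

/-! The minuscule representation of type E6 (generated). -/

set_option autoImplicit false
set_option maxRecDepth 100000

namespace CfsgLib.Chev

open CfsgLib.ChevOrth (SM)

/-- Root matrices. -/
def minE6A0 : List (SM (Fin 27)) :=
  [[(20, 0, 1), (21, 1, 1), (23, 2, 1), (24, 3, 1), (25, 5, 1), (26, 7, 1)],
    [(18, 0, -1), (19, 1, -1), (22, 2, -1), (24, 4, 1), (25, 6, 1), (26, 9, 1)],
    [(16, 0, 1), (17, 1, 1), (22, 3, -1), (23, 4, -1), (25, 8, 1), (26, 11, 1)],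
    [(13, 0, -1), (15, 1, -1), (22, 5, -1), (23, 6, -1), (24, 8, -1), (26, 14, 1)],
    [(10, 0, 1), (12, 1, 1), (22, 7, -1), (23, 9, -1), (24, 11, -1), (25, 14, -1)],
    [(14, 0, -1), (17, 2, 1), (19, 3, 1), (21, 4, 1), (25, 10, 1), (26, 13, 1)],
    [(11, 0, 1), (15, 2, -1), (19, 5, 1), (21, 6, 1), (24, 10, -1), (26, 16, 1)],
    [(8, 0, -1), (12, 2, 1), (19, 7, 1), (21, 9, 1), (24, 13, -1), (25, 16, -1)],
    [(9, 0, -1), (15, 3, -1), (17, 5, -1), (21, 8, 1), (23, 10, 1), (26, 18, 1)],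
    [(6, 0, 1), (12, 3, 1), (17, 7, -1), (21, 11, 1), (23, 13, 1), (25, 18, -1)],
    [(4, 0, -1), (12, 5, 1), (15, 7, 1), (21, 14, 1), (23, 16, 1), (24, 18, 1)],
    [(7, 0, 1), (15, 4, -1), (17, 6, -1), (19, 8, -1), (22, 10, -1), (26, 20, 1)],
    [(5, 0, -1), (12, 4, 1), (17, 9, -1), (19, 11, -1), (22, 13, -1), (25, 20, -1)],
    [(3, 0, 1), (12, 6, 1), (15, 9, 1), (19, 14, -1), (22, 16, -1), (24, 20, 1)],
    [(2, 0, -1), (12, 8, 1), (15, 11, 1), (17, 14, 1), (22, 18, -1), (23, 20, -1)],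
    [(1, 0, 1), (12, 10, 1), (15, 13, 1), (17, 16, 1), (19, 18, 1), (21, 20, 1)],
    [(14, 1, 1), (16, 2, 1), (18, 3, 1), (20, 4, 1), (25, 12, -1), (26, 15, -1)],
    [(11, 1, -1), (13, 2, -1), (18, 5, 1), (20, 6, 1), (24, 12, 1), (26, 17, -1)],
    [(8, 1, 1), (10, 2, 1), (18, 7, 1), (20, 9, 1), (24, 15, 1), (25, 17, 1)],
    [(9, 1, 1), (13, 3, -1), (16, 5, -1), (20, 8, 1), (23, 12, -1), (26, 19, -1)],
    [(6, 1, -1), (10, 3, 1), (16, 7, -1), (20, 11, 1), (23, 15, -1), (25, 19, 1)],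
    [(4, 1, 1), (10, 5, 1), (13, 7, 1), (20, 14, 1), (23, 17, -1), (24, 19, -1)],
    [(9, 2, 1), (11, 3, 1), (14, 5, 1), (20, 10, 1), (21, 12, 1), (26, 22, -1)],
    [(6, 2, -1), (8, 3, -1), (14, 7, 1), (20, 13, 1), (21, 15, 1), (25, 22, 1)]]

/-- Root matrices. -/
def minE6A1 : List (SM (Fin 27)) :=
  [[(4, 2, 1), (8, 5, -1), (11, 7, -1), (20, 16, 1), (21, 17, 1), (24, 22, -1)],
    [(4, 3, 1), (6, 5, 1), (9, 7, 1), (20, 18, 1), (21, 19, 1), (23, 22, 1)],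
    [(7, 1, -1), (13, 4, -1), (16, 6, -1), (18, 8, -1), (22, 12, 1), (26, 21, -1)],
    [(5, 1, 1), (10, 4, 1), (16, 9, -1), (18, 11, -1), (22, 15, 1), (25, 21, 1)],
    [(3, 1, -1), (10, 6, 1), (13, 9, 1), (18, 14, -1), (22, 17, 1), (24, 21, -1)],
    [(2, 1, 1), (10, 8, 1), (13, 11, 1), (16, 14, 1), (22, 19, 1), (23, 21, 1)],
    [(7, 2, 1), (11, 4, -1), (14, 6, -1), (18, 10, 1), (19, 12, 1), (26, 23, 1)],
    [(5, 2, -1), (8, 4, 1), (14, 9, -1), (18, 13, 1), (19, 15, 1), (25, 23, -1)],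
    [(3, 2, 1), (8, 6, 1), (11, 9, 1), (18, 16, 1), (19, 17, 1), (24, 23, 1)],
    [(7, 3, -1), (9, 4, -1), (14, 8, 1), (16, 10, 1), (17, 12, 1), (26, 24, -1)],
    [(5, 3, 1), (6, 4, 1), (14, 11, 1), (16, 13, 1), (17, 15, 1), (25, 24, 1)],
    [(7, 5, 1), (9, 6, 1), (11, 8, 1), (13, 10, 1), (15, 12, 1), (26, 25, 1)],
    [(5, 7, 1), (6, 9, 1), (8, 11, 1), (10, 13, 1), (12, 15, 1), (25, 26, 1)],
    [(3, 5, 1), (4, 6, 1), (11, 14, 1), (13, 16, 1), (15, 17, 1), (24, 25, 1)],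
    [(3, 7, -1), (4, 9, -1), (8, 14, 1), (10, 16, 1), (12, 17, 1), (24, 26, -1)],
    [(2, 3, 1), (6, 8, 1), (9, 11, 1), (16, 18, 1), (17, 19, 1), (23, 24, 1)],
    [(2, 5, -1), (4, 8, 1), (9, 14, -1), (13, 18, 1), (15, 19, 1), (23, 25, -1)],
    [(2, 7, 1), (4, 11, -1), (6, 14, -1), (10, 18, 1), (12, 19, 1), (23, 26, 1)],
    [(1, 2, 1), (8, 10, 1), (11, 13, 1), (14, 16, 1), (19, 22, 1), (21, 23, 1)],
    [(1, 3, -1), (6, 10, 1), (9, 13, 1), (14, 18, -1), (17, 22, 1), (21, 24, -1)],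
    [(1, 5, 1), (4, 10, 1), (9, 16, -1), (11, 18, -1), (15, 22, 1), (21, 25, 1)],
    [(1, 7, -1), (4, 13, -1), (6, 16, -1), (8, 18, -1), (12, 22, 1), (21, 26, -1)],
    [(3, 4, 1), (5, 6, 1), (7, 9, 1), (18, 20, 1), (19, 21, 1), (22, 23, 1)],
    [(2, 4, 1), (5, 8, -1), (7, 11, -1), (16, 20, 1), (17, 21, 1), (22, 24, -1)]]

/-- Root matrices. -/
def minE6A2 : List (SM (Fin 27)) :=
  [[(2, 6, -1), (3, 8, -1), (7, 14, 1), (13, 20, 1), (15, 21, 1), (22, 25, 1)],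
    [(2, 9, 1), (3, 11, 1), (5, 14, 1), (10, 20, 1), (12, 21, 1), (22, 26, -1)],
    [(1, 4, 1), (5, 10, 1), (7, 13, 1), (14, 20, 1), (17, 23, -1), (19, 24, -1)],
    [(1, 6, -1), (3, 10, 1), (7, 16, -1), (11, 20, 1), (15, 23, -1), (19, 25, 1)],
    [(1, 9, 1), (3, 13, -1), (5, 16, -1), (8, 20, 1), (12, 23, -1), (19, 26, -1)],
    [(1, 8, 1), (2, 10, 1), (7, 18, 1), (9, 20, 1), (15, 24, 1), (17, 25, 1)],
    [(1, 11, -1), (2, 13, -1), (5, 18, 1), (6, 20, 1), (12, 24, 1), (17, 26, -1)],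
    [(1, 14, 1), (2, 16, 1), (3, 18, 1), (4, 20, 1), (12, 25, -1), (15, 26, -1)],
    [(0, 1, 1), (10, 12, 1), (13, 15, 1), (16, 17, 1), (18, 19, 1), (20, 21, 1)],
    [(0, 2, -1), (8, 12, 1), (11, 15, 1), (14, 17, 1), (18, 22, -1), (20, 23, -1)],
    [(0, 3, 1), (6, 12, 1), (9, 15, 1), (14, 19, -1), (16, 22, -1), (20, 24, 1)],
    [(0, 5, -1), (4, 12, 1), (9, 17, -1), (11, 19, -1), (13, 22, -1), (20, 25, -1)],
    [(0, 7, 1), (4, 15, -1), (6, 17, -1), (8, 19, -1), (10, 22, -1), (20, 26, 1)],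
    [(0, 4, -1), (5, 12, 1), (7, 15, 1), (14, 21, 1), (16, 23, 1), (18, 24, 1)],
    [(0, 6, 1), (3, 12, 1), (7, 17, -1), (11, 21, 1), (13, 23, 1), (18, 25, -1)],
    [(0, 9, -1), (3, 15, -1), (5, 17, -1), (8, 21, 1), (10, 23, 1), (18, 26, 1)],
    [(0, 8, -1), (2, 12, 1), (7, 19, 1), (9, 21, 1), (13, 24, -1), (16, 25, -1)],
    [(0, 11, 1), (2, 15, -1), (5, 19, 1), (6, 21, 1), (10, 24, -1), (16, 26, 1)],
    [(0, 14, -1), (2, 17, 1), (3, 19, 1), (4, 21, 1), (10, 25, 1), (13, 26, 1)],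
    [(0, 10, 1), (1, 12, 1), (7, 22, -1), (9, 23, -1), (11, 24, -1), (14, 25, -1)],
    [(0, 13, -1), (1, 15, -1), (5, 22, -1), (6, 23, -1), (8, 24, -1), (14, 26, 1)],
    [(0, 16, 1), (1, 17, 1), (3, 22, -1), (4, 23, -1), (8, 25, 1), (11, 26, 1)],
    [(0, 18, -1), (1, 19, -1), (2, 22, -1), (4, 24, 1), (6, 25, 1), (9, 26, 1)],
    [(0, 20, 1), (1, 21, 1), (2, 23, 1), (3, 24, 1), (5, 25, 1), (7, 26, 1)]]

/-- The monomial matrices by columns. -/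
def minE6P : List ℕ :=
  [0x3432302e2c282b242720231a1c1f14161912100e0c0a0806040003, 0x3432302c2f26242b2922201e1c1a1816140e10130a0d0609040200, 0x3432302a262f282d24221c1e2116181b1012150e0c0a0806020500, 0x34322e312c2a28222027251e1c1a181214170c0e110a0804070200, 0x3430332e2c2a2826241e1a231621181d1412100e08060d0b040200, 0x3235302e2c2a2826242220181c141f101b0c170a130f0806040200]

/-- The monomial matrices by rows. -/
def minE6Q : List ℕ :=
  [0x3432302e2c292a252621221b1c1e15161812100e0c0a0806040102, 0x3432302d2e27252a2822201e1c1a1816140f10120b0c0708040200, 0x3432302b272e282c24221d1e2017181a1112140e0c0a0806030400, 0x34322f302c2a28232126241e1c1a181314160d0e100a0805060200, 0x3431322e2c2a2826241f1b221720181c1412100e09070c0a040200, 0x3334302e2c2a2826242220191c151e111a0d160b120e0806040200]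

/-- The minuscule representation of type E6. -/
def minE6 : MinRep := ⟨27, minE6A0 ++ minE6A1 ++ minE6A2, minE6P, minE6Q, 0⟩

theorem minE6_sq : minE6.chkSq = true := by decide +kernel

theorem minE6_n : minE6.chkN tabE6 = true := by decide +kernel

theorem minE6_move : minE6.chkMove tabE6 = true := by decide +kernel

theorem minE6_base : minE6.chkBase tabE6 coverE6 = true := by decide +kernel

theorem minE6_top : minE6.chkTop tabE6 0 = true := by decide +kernel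

end CfsgLib.Chev
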