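import Cfsg.Agent.Lib.Chev.All
import Cfsg.Agent.Lib.Chev.Simple

/-!
Per type: connected diagram and generators inside the derived subgroup.
-/

set_option autoImplicit false
set_option maxRecDepth 100000

namespace CfsgLib.Chev

open Cfsg.Lie

/-- The listed pairs have a simple root as only term of their commutator formula. -/
def Tab.chkPairs (T : Tab) (L : List (ℕ × ℕ)) : Bool :=
  decide (L.length = T.l) && L.zipIdx.all fun q =>
    decide (q.1.1 < T.n ∧ q.1.2 < T.n) &&
      (decide (T.commTerms q.1.1 q.1.2 = [(T.simple q.2, 1, 1, 1)]) ||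
        decide (T.commTerms q.1.1 q.1.2 = [(T.simple q.2, -1, 1, 1)]))

theorem connectedG2 : Connected tabG2 :=
  connected_of_tree tabG2 [(1, 0, 0)] (by decide +kernel)

theorem connectedB2 : Connected tabB2 :=
  connected_of_tree tabB2 [(1, 0, 0)] (by decide +kernel)

theorem connectedD4 : Connected tabD4 :=
  connected_of_tree tabD4 [(1, 0, 0), (2, 0, 1), (3, 0, 1)] (by decide +kernel)

theorem connectedF4 : Connected tabF4 :=
  connected_of_tree tabF4 [(1, 0, 0), (2, 0, 1), (3, 0, 2)] (by decide +kernel)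

theorem connectedE6 : Connected tabE6 :=
  connected_of_tree tabE6 [(2, 0, 0), (3, 0, 2), (1, 0, 3), (4, 0, 3), (5, 0, 4)] (by decide +kernel)

theorem connectedE7 : Connected tabE7 :=
  connected_of_tree tabE7 [(2, 0, 0), (3, 0, 2), (1, 0, 3), (4, 0, 3), (5, 0, 4), (6, 0, 5)] (by decide +kernel)

theorem connectedE8 : Connected tabE8 :=
  connected_of_tree tabE8 [(2, 0, 0), (3, 0, 2), (1, 0, 3), (4, 0, 3), (5, 0, 4), (6, 0, 5), (7, 0, 6)] (by decide +kernel)

theorem pairsD4 : tabD4.chkPairs [(6, 22), (1, 23), (3, 22), (2, 22)] = true := by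
  decide +kernel

theorem pairsF4 : tabF4.chkPairs [(7, 44), (8, 40), (2, 46), (1, 47)] = true := by
  decide +kernel

theorem pairsE6 : tabE6.chkPairs [(16, 66), (1, 71), (5, 69), (2, 70), (3, 69), (4, 68)] = true := by
  decide +kernel

theorem pairsE7 : tabE7.chkPairs [(1, 125), (7, 122), (2, 124), (3, 123), (4, 122), (5, 121), (6, 120)] = true := by
  decide +kernel

theorem pairsE8 : tabE8.chkPairs [(14, 233), (7, 234), (6, 234), (5, 235), (4, 236), (3, 237), (2, 238), (1, 239)] = true := by
  decide +kernel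

variable {F : Type*} [Field F]

theorem Cert.commutator_eq_top_of_pairs {D : ChevalleyDatum} {T : Tab} {C : Tab.Cover}
    (h : Cert D T C) {L : List (ℕ × ℕ)} (hL : T.chkPairs L = true) :
    commutator ↥(D.group F) = ⊤ := by
  simp only [Tab.chkPairs, Bool.and_eq_true, Bool.or_eq_true, List.all_eq_true,
    decide_eq_true_eq] at hL
  refine h.commutator_eq_top fun i hi => ?_
  have hi' : i < L.length := hL.1.symm ▸ hi
  obtain ⟨⟨ha, hb⟩, hk⟩ := hL.2 (L[i], i) (List.mem_zipIdx_iff_getElem?.2 (by simp [hi']))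
  rcases hk with hk | hk
  · exact h.inDerived_single ha hb hk (Or.inl rfl)
  · exact h.inDerived_single ha hb hk (Or.inr rfl)

theorem perfectD4 : commutator ↥(chevD4.group F) = ⊤ :=
  certD4.commutator_eq_top_of_pairs pairsD4

theorem perfectF4 : commutator ↥(chevF4.group F) = ⊤ :=
  certF4.commutator_eq_top_of_pairs pairsF4

theorem perfectE6 : commutator ↥(chevE6.group F) = ⊤ :=
  certE6.commutator_eq_top_of_pairs pairsE6

theorem perfectE7 : commutator ↥(chevE7.group F) = ⊤ :=
  certE7.commutator_eq_top_of_pairs pairsE7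

theorem perfectE8 : commutator ↥(chevE8.group F) = ⊤ :=
  certE8.commutator_eq_top_of_pairs pairsE8

theorem perfectG2 (hF : ∃ a : F, a ≠ 0 ∧ a ≠ 1) : commutator ↥(chevG2.group F) = ⊤ := by
  refine certG2.commutator_eq_top fun i hi => ?_
  obtain ⟨a, ha0, ha1⟩ := hF
  have hi2 : i < 2 := hi
  obtain rfl | rfl : i = 0 ∨ i = 1 := by omega
  · refine certG2.inDerived_torus (j := 1) (show 1 < 2 by omega) (certG2.simple_lt hi) ha0 ?_
    rw [show tabG2.car 1 (tabG2.simple 0) = -1 by decide +kernel, zpow_neg_one, ne_eq, inv_eq_one]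
    exact ha1
  · exact certG2.inDerived_single (a := 1) (b := 11) (c := -1) (by decide +kernel)
      (by decide +kernel) (by decide +kernel) (Or.inr rfl)

theorem perfectB2 (hF : ∃ a : F, a ≠ 0 ∧ a ≠ 1) : commutator ↥(chevB2.group F) = ⊤ := by
  have h0 : (0 : ℕ) < tabB2.l := by decide +kernel
  obtain ⟨a, ha0, ha1⟩ := hF
  have hs : Cert.InDerived chevB2 F (tabB2.simple 0) := by
    refine certB2.inDerived_torus (j := 1) (show 1 < tabB2.l by decide +kernel)
      (certB2.simple_lt h0) ha0 ?_
    rw [show tabB2.car 1 (tabB2.simple 0) = -1 by decide +kernel, zpow_neg_one, ne_eq, inv_eq_one]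
    exact ha1
  refine certB2.commutator_eq_top fun i hi => ?_
  have hi2 : i < 2 := hi
  obtain rfl | rfl : i = 0 ∨ i = 1 := by omega
  · exact hs
  · have h2 : Cert.InDerived chevB2 F 2 := by
      have := certB2.inDerived_refl h0 (certB2.simple_lt h0) hs (i := 0)
      rwa [show tabB2.refl 0 (tabB2.simple 0) = 2 by decide +kernel] at this
    rw [show tabB2.simple 1 = 4 by decide +kernel]
    exact certB2.inDerived_second (a := 6) (b := 0) (k₁ := 2) (c₁ := 1) (by decide +kernel)
      (by decide +kernel) (by decide +kernel) h2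

end CfsgLib.Chev
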