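import Cfsg.Agent.Lib.Chev.StKernel
import Cfsg.Agent.Lib.Chev.DiagOrder
import Cfsg.Agent.Lib.Chev.SimpleData
import Cfsg.Prelude.Def_Steinberg
import Cfsg.Prelude.Def_SteinbergCover

/-!
The groups presented by Steinberg's relators, as groups with the relations (A) and (B).
-/

set_option autoImplicit false
set_option maxRecDepth 100000

namespace CfsgLib.Chev

open Cfsg.Lie Matrix

/-- The seven types have neighbours at every node. -/
theorem exists_cert_nbr {D : ChevalleyDatum}
    (hD : D ∈ [chevG2, chevB2, chevD4, chevF4, chevE6, chevE7, chevE8]) :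
    ∃ T C, Cert D T C ∧ Rel.Nbr T := by
  simp only [List.mem_cons, List.not_mem_nil, or_false] at hD
  rcases hD with rfl | rfl | rfl | rfl | rfl | rfl | rfl
  · exact ⟨_, _, certG2, by unfold Rel.Nbr; decide +kernel⟩
  · exact ⟨_, _, certB2, by unfold Rel.Nbr; decide +kernel⟩
  · exact ⟨_, _, certD4, by unfold Rel.Nbr; decide +kernel⟩
  · exact ⟨_, _, certF4, by unfold Rel.Nbr; decide +kernel⟩
  · exact ⟨_, _, certE6, by unfold Rel.Nbr; decide +kernel⟩
  · exact ⟨_, _, certE7, by unfold Rel.Nbr; decide +kernel⟩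
  · exact ⟨_, _, certE8, by unfold Rel.Nbr; decide +kernel⟩

/-- (R1), (R2) are among Steinberg's relators. -/
theorem steinbergRelsAB_subset (D : ChevalleyDatum) (K : Type*) [Field K] :
    D.steinbergRelsAB K ⊆ D.steinbergRels K := fun _ hg => Or.inl hg

namespace Cert

variable {D : ChevalleyDatum} {T : Tab} {C : Tab.Cover} (h : Cert D T C) {K : Type*} [Field K]
include h

/-- The images of the generators. -/
noncomputable def stImg (_h : Cert D T C) (p : Fin D.nroots × K) : GL D.Idx K := X D p.1.val p.2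

lemma lift_stX {r : ℕ} (hr : r < T.n) (t : K) :
    FreeGroup.lift h.stImg (D.stX r t) = X D r t := by
  rw [ChevalleyDatum.stX, dif_pos (by rw [h.nroots_eq]; exact hr), FreeGroup.lift_apply_of]
  rfl

lemma lift_stN {r : ℕ} (hr : r < T.n) (t : K) :
    FreeGroup.lift h.stImg (D.stN r t) = nU D r t := by
  have hn : D.neg r = T.neg r := h.neg_eq hr
  simp only [ChevalleyDatum.stN, ChevalleyDatum.stWord, ChevalleyDatum.nWord, List.map_cons,
    List.map_nil, List.prod_cons, List.prod_nil, mul_one, map_mul, nU, hn,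
    h.lift_stX hr, h.lift_stX (Cert.neg_lt (T := T) hr), mul_assoc]

lemma lift_stH {r : ℕ} (hr : r < T.n) (t : K) :
    FreeGroup.lift h.stImg (D.stH r t) = hU D r t := by
  have e : D.stH r t = D.stN r t * D.stN r (-1 : K) := by
    simp [ChevalleyDatum.stH, ChevalleyDatum.stN, ChevalleyDatum.hWord, ChevalleyDatum.stWord]
  rw [e, map_mul, h.lift_stN hr, h.lift_stN hr, hU]

lemma hU_mul {r : ℕ} (hr : r < T.n) {t₁ t₂ : K} (h₁ : t₁ ≠ 0) (h₂ : t₂ ≠ 0) :
    hU D r t₁ * hU D r t₂ = hU D r (t₁ * t₂) := by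
  refine Units.ext ?_
  rw [Units.val_mul, h.coe_hU, h.coe_hU, h.coe_hU, h.hMat_root hr h₁, h.hMat_root hr h₂,
    h.hMat_root hr (mul_ne_zero h₁ h₂), torus_mul]
  exact torus_congr D fun s _ => (mul_zpow t₁ t₂ _).symm

lemma lift_rels {g : FreeGroup (Fin D.nroots × K)} (hg : g ∈ D.steinbergRels K) :
    FreeGroup.lift h.stImg g = 1 := by
  have hn := h.nroots_eq
  rcases hg with (⟨r, t₁, t₂, hr, rfl⟩ | ⟨r, s, t, u, hr, hs, hne, hneg, rfl⟩) |
    ⟨r, t₁, t₂, hr, h₁, h₂, rfl⟩
  · rw [hn] at hr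
    rw [map_mul, map_mul, map_inv, h.lift_stX hr, h.lift_stX hr, h.lift_stX hr, h.X_add hr,
      mul_inv_cancel]
  · rw [hn] at hr hs
    rw [h.neg_eq hr] at hneg
    have e := h.X_conj hr hs hne hneg t u
    rw [map_mul, map_mul, map_mul, map_mul, map_inv, map_inv, map_inv, h.lift_stX hr,
      h.lift_stX hs, h.X_inv hr, mul_inv_eq_one, mul_assoc (X D s u)⁻¹, mul_assoc (X D s u)⁻¹, e,
      inv_mul_cancel_left, ChevalleyDatum.stWord, map_list_prod, ChevalleyDatum.commWord,
      h.commTerms_eq hr hs, List.map_map, List.map_map]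
    exact congrArg List.prod (List.map_congr_left fun c hc =>
      (h.lift_stX (h.commTerms_lt hr hs hc) _).symm)
  · rw [hn] at hr
    rw [map_mul, map_mul, map_inv, h.lift_stH hr, h.lift_stH hr, h.lift_stH hr, h.hU_mul hr h₁ h₂,
      mul_inv_cancel]

variable {R : Set (FreeGroup (Fin D.nroots × K))}
variable (hlo : D.steinbergRelsAB K ⊆ R) (hhi : R ⊆ D.steinbergRels K)

/-- A group presented between (R1), (R2) and (R1), (R2), (R3). -/
noncomputable def relOf : Rel D T K (PresentedGroup R) where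
  x r t := PresentedGroup.mk R (D.stX r t)
  π := PresentedGroup.toGroup (f := h.stImg) fun g hg => h.lift_rels (hhi hg)
  π_x r hr t := by
    rw [ChevalleyDatum.stX, dif_pos (by rw [h.nroots_eq]; exact hr)]
    exact PresentedGroup.toGroup.of _
  x_add r hr t u := by
    have hm : D.stX r t * D.stX r u * (D.stX r (t + u))⁻¹ ∈ D.steinbergRelsAB K :=
      Or.inl ⟨r, t, u, by rw [h.nroots_eq]; exact hr, rfl⟩
    have := PresentedGroup.one_of_mem (hlo hm)
    rwa [map_mul, map_mul, map_inv, mul_inv_eq_one] at this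
  comm r hr s hs hne hneg t u := by
    have hr' : r < D.nroots := by rw [h.nroots_eq]; exact hr
    have hs' : s < D.nroots := by rw [h.nroots_eq]; exact hs
    have hm : (D.stX s u)⁻¹ * (D.stX r t)⁻¹ * D.stX s u * D.stX r t *
        (D.stWord (D.commWord K r s t u))⁻¹ ∈ D.steinbergRelsAB K :=
      Or.inr ⟨r, s, t, u, hr', hs', hne, by rw [h.neg_eq hr]; exact hneg, rfl⟩
    have e := PresentedGroup.one_of_mem (hlo hm)
    have ha : D.stX r t * D.stX r (-t) * (D.stX r (t + -t))⁻¹ ∈ D.steinbergRelsAB K :=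
      Or.inl ⟨r, t, -t, hr', rfl⟩
    have h0 : D.stX r (0 : K) * D.stX r 0 * (D.stX r (0 + 0))⁻¹ ∈ D.steinbergRelsAB K :=
      Or.inl ⟨r, 0, 0, hr', rfl⟩
    have ea := PresentedGroup.one_of_mem (hlo ha)
    have e0 := PresentedGroup.one_of_mem (hlo h0)
    rw [map_mul, map_mul, map_inv, add_zero, mul_inv_cancel_right] at e0
    rw [map_mul, map_mul, map_inv, add_neg_cancel, e0, inv_one, mul_one,
      mul_eq_one_iff_inv_eq] at ea
    rw [map_mul, map_mul, map_mul, map_mul, map_inv, map_inv, map_inv, ea, mul_inv_eq_one,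
      ChevalleyDatum.stWord, map_list_prod, ChevalleyDatum.commWord, h.commTerms_eq hr hs,
      List.map_map, List.map_map, mul_assoc _ _ (PresentedGroup.mk R (D.stX s u)),
      mul_assoc _ _ (PresentedGroup.mk R (D.stX r t)), inv_mul_eq_iff_eq_mul] at e
    exact e
  generate := by
    rw [eq_top_iff, ← PresentedGroup.closure_range_of R]
    refine Subgroup.closure_mono ?_
    rintro _ ⟨⟨r, t⟩, rfl⟩
    refine ⟨r.val, lt_of_lt_of_eq r.isLt h.nroots_eq, t, ?_⟩
    rw [ChevalleyDatum.stX, dif_pos r.isLt]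
    rfl

lemma relOf_x (r : ℕ) (t : K) :
    (h.relOf hlo hhi).x r t = PresentedGroup.mk R (D.stX r t) := rfl

lemma relOf_hG {r : ℕ} (hr : r < T.n) (t : K) :
    (h.relOf hlo hhi).hG r t = PresentedGroup.mk R (D.stH r t) := by
  simp only [Rel.hG, Rel.nG, h.relOf_x hlo hhi, ChevalleyDatum.stH, ChevalleyDatum.stWord,
    ChevalleyDatum.hWord, ChevalleyDatum.nWord, List.cons_append, List.nil_append, List.map_cons,
    List.map_nil, List.prod_cons, List.prod_nil, mul_one, map_mul, h.neg_eq hr, mul_assoc]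

/-- The map onto the Chevalley group. -/
lemma π_mem_group (L : Rel D T K (PresentedGroup R)) (y : PresentedGroup R) :
    L.π y ∈ D.group K := by
  have hle : Subgroup.closure {g | ∃ r, r < T.n ∧ ∃ t, g = L.x r t} ≤ (D.group K).comap L.π :=
    (Subgroup.closure_le _).2 fun g ⟨r, hr, t, e⟩ => by
      subst e
      show L.π _ ∈ D.group K
      rw [L.π_x r hr]; exact h.X_mem_group hr t
  exact hle (by rw [L.generate]; trivial)

/-- The canonical map onto the Chevalley group. -/
noncomputable def stTheta : PresentedGroup R →* ↥(D.group K) :=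
  (h.relOf hlo hhi).π.codRestrict (D.group K) (h.π_mem_group (h.relOf hlo hhi))

lemma coe_stTheta (y : PresentedGroup R) :
    (h.stTheta hlo hhi y : GL D.Idx K) = (h.relOf hlo hhi).π y := rfl

lemma stTheta_x {r : ℕ} (hr : r < T.n) (t : K) :
    ((h.stTheta hlo hhi (PresentedGroup.mk R (D.stX r t)) : GL D.Idx K) :
      Matrix D.Idx D.Idx K) = D.x K r t := by
  rw [h.coe_stTheta, ← h.relOf_x hlo hhi, (h.relOf hlo hhi).π_x r hr, h.coe_X]

lemma stTheta_surjective : Function.Surjective (h.stTheta hlo hhi) := by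
  rintro ⟨g, hg⟩
  rw [h.group_eq] at hg
  have hle : gen D K {r | r < T.n} ≤ (h.relOf hlo hhi).π.range :=
    (Subgroup.closure_le _).2 fun a ⟨r, hr, t, e⟩ => by
      subst e; exact ⟨_, (h.relOf hlo hhi).π_x r hr t⟩
  obtain ⟨y, hy⟩ := hle hg
  exact ⟨y, Subtype.ext hy⟩

lemma ker_stTheta : (h.stTheta hlo hhi).ker = (h.relOf hlo hhi).π.ker := by
  ext y
  rw [MonoidHom.mem_ker, MonoidHom.mem_ker, ← h.coe_stTheta hlo hhi, OneMemClass.coe_eq_one]

/-- Any map with the same values on the generators is the canonical one. -/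
lemma eq_stTheta (θ : PresentedGroup R →* ↥(D.group K))
    (hθ : ∀ (r : ℕ) (t : K), r < D.nroots →
      ((θ (PresentedGroup.mk R (D.stX r t)) : GL D.Idx K) : Matrix D.Idx D.Idx K) = D.x K r t) :
    θ = h.stTheta hlo hhi := by
  refine PresentedGroup.ext fun ⟨r, t⟩ => Subtype.ext (Units.ext ?_)
  have e : (PresentedGroup.of (rels := R) (r, t)) = PresentedGroup.mk R (D.stX r.val t) := by
    rw [ChevalleyDatum.stX, dif_pos r.isLt]; rfl
  rw [e, hθ r.val t r.isLt, h.stTheta_x hlo hhi (lt_of_lt_of_eq r.isLt h.nroots_eq)]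

end Cert

namespace Rel

variable {D : ChevalleyDatum} {T : Tab} {F : Type*} [Field F] {Γ : Type*} [Group Γ]

/-- The derived subgroup contains the root subgroup of `r`. -/
def InD (L : Rel D T F Γ) (r : ℕ) : Prop := ∀ t, L.x r t ∈ commutator Γ

variable (L : Rel D T F Γ)

lemma comm_mem_commutator (a b : Γ) : a * b * a⁻¹ * b⁻¹ ∈ commutator Γ :=
  Subgroup.commutator_mem_commutator (Subgroup.mem_top a) (Subgroup.mem_top b)

variable {C : Tab.Cover} (h : Cert D T C)
include h

lemma inD_single {a b k : ℕ} {c : ℤ} (ha : a < T.n) (hb : b < T.n)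
    (hne : b ≠ a) (hneg : b ≠ T.neg a)
    (hk : T.commTerms a b = [(k, c, 1, 1)]) (hc : c = 1 ∨ c = -1) : L.InD k := by
  intro z
  have e := L.comm a ha b hb hne hneg 1 (-(c : F) * z)
  rw [hk] at e
  simp only [List.map_cons, List.map_nil, List.prod_cons, List.prod_nil, mul_one, pow_one] at e
  rw [show (c : F) * -1 * (-(c : F) * z) = z by rcases hc with rfl | rfl <;> simp] at e
  have h1 := comm_mem_commutator (L.x b (-(c : F) * z))⁻¹ (L.x a (-1 : F))
  rw [inv_inv, L.x_inv ha, _root_.neg_neg,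
    show (L.x b (-(c : F) * z))⁻¹ * L.x a (-1) * L.x b (-(c : F) * z) * L.x a 1 =
      (L.x b (-(c : F) * z))⁻¹ * (L.x a (-1) * L.x b (-(c : F) * z) * L.x a 1) by group, e,
    inv_mul_cancel_left] at h1
  exact h1

lemma inD_second {a b k₁ k : ℕ} {c₁ : ℤ} (ha : a < T.n) (hb : b < T.n)
    (hne : b ≠ a) (hneg : b ≠ T.neg a)
    (hk : T.commTerms a b = [(k₁, c₁, 1, 1), (k, 1, 2, 1)]) (h1 : L.InD k₁) : L.InD k := by
  intro z
  have e := L.comm a ha b hb hne hneg 1 z
  rw [hk] at e
  simp only [List.map_cons, List.map_nil, List.prod_cons, List.prod_nil, mul_one, pow_one,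
    Int.cast_one, one_mul, show ((-1 : F)) ^ 2 * z = z by ring] at e
  have h2 := comm_mem_commutator (L.x b z)⁻¹ (L.x a (-1 : F))
  rw [inv_inv, L.x_inv ha, _root_.neg_neg,
    show (L.x b z)⁻¹ * L.x a (-1) * L.x b z * L.x a 1 =
      (L.x b z)⁻¹ * (L.x a (-1) * L.x b z * L.x a 1) by group, e, inv_mul_cancel_left] at h2
  have := mul_mem (inv_mem (h1 ((c₁ : F) * -1 * z))) h2
  rwa [inv_mul_cancel_left] at this

variable (hnb : Nbr T)
include hnb

lemma inD_refl {i r : ℕ} (hi : i < T.l) (hr : r < T.n) (hd : L.InD r) :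
    L.InD (T.refl i r) := by
  intro t
  obtain ⟨c, hc, e⟩ := L.moves_nG h hnb hi hr (one_ne_zero (α := F))
  have := e (c⁻¹ * t)
  rw [mul_inv_cancel_left₀ hc] at this
  rw [← this]
  exact Subgroup.Normal.conj_mem inferInstance _ (hd _) _

lemma π_hG {i : ℕ} (hi : i < T.l) (t : F) :
    L.π (L.hG (T.simple i) t) = hU D (T.simple i) t := by
  rw [hG, map_mul, L.π_nG h hi, L.π_nG h hi, hU]

lemma hG_conj_x {j r : ℕ} (hj : j < T.l) (hr : r < T.n) {c : F} (hc : c ≠ 0) (t : F) :
    L.hG (T.simple j) c * L.x r t * (L.hG (T.simple j) c)⁻¹ = L.x r (c ^ T.car j r * t) := by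
  obtain ⟨d, hd, e⟩ := L.moves_HH h hnb
    (Subgroup.subset_closure ⟨j, c, hj, hc, rfl⟩) hr
  have e1 := congrArg L.π (e 1)
  rw [map_mul, map_mul, map_inv, L.π_hG h hnb hj, L.π_x r hr, L.π_x r hr, mul_one,
    show hU D (T.simple j) c * X D r (1 : F) * (hU D (T.simple j) c)⁻¹ =
      X D r (c ^ T.car j r) from ?_] at e1
  · rw [e, ← h.X_param_inj hr e1]
  · rw [mul_inv_eq_iff_eq_mul]
    refine Units.ext ?_
    rw [Units.val_mul, Units.val_mul, h.coe_X, h.coe_X, h.coe_hU,
      h.hMat_mul_x (h.simple_lt hj) hc hr, h.pairing_simple hj, mul_one]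

lemma inD_torus {j r : ℕ} (hj : j < T.l) (hr : r < T.n) {c : F} (hc : c ≠ 0)
    (hne : c ^ T.car j r ≠ 1) : L.InD r := by
  intro t
  have hsub : c ^ T.car j r - 1 ≠ 0 := sub_ne_zero.2 hne
  have h1 := comm_mem_commutator (L.hG (T.simple j) c)
    (L.x r ((c ^ T.car j r - 1)⁻¹ * t))
  rw [L.hG_conj_x h hnb hj hr hc, L.x_inv hr, L.x_add r hr] at h1
  convert h1 using 2
  field_simp
  ring

/-- Perfectness from the simple roots. -/
theorem commutator_eq_top (hd : ∀ i < T.l, L.InD (T.simple i)) : commutator Γ = ⊤ := by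
  rw [eq_top_iff, ← L.generate]
  refine (Subgroup.closure_le _).2 ?_
  rintro _ ⟨r, hr, t, rfl⟩
  exact h.root_induction (P := fun r => L.InD r) hd
    (fun i hi r hr ih => L.inD_refl h hnb hi hr ih) hr t

omit hnb in
lemma ne_of_single {a b : ℕ} (ha : a < T.n) (hb : b < T.n) (hk : T.commTerms a b ≠ []) :
    b ≠ a ∧ b ≠ T.neg a := by
  by_cases he : T.entry a b = []
  · exfalso
    have hba : T.entry b a = [] := by
      by_contra hne
      exact (h.chain_spec hb ha hne).2.2.1 he
    simp [Tab.commTerms, Tab.chainRoot, he, hba] at hk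
  · exact ⟨(h.chain_spec ha hb he).1, (h.chain_spec ha hb he).2.1⟩

include L in
theorem commutator_eq_top_of_pairs {P : List (ℕ × ℕ)} (hL : T.chkPairs P = true) :
    commutator Γ = ⊤ := by
  simp only [Tab.chkPairs, Bool.and_eq_true, Bool.or_eq_true, List.all_eq_true,
    decide_eq_true_eq] at hL
  refine L.commutator_eq_top h hnb fun i hi => ?_
  have hi' : i < P.length := hL.1.symm ▸ hi
  obtain ⟨⟨ha, hb⟩, hk⟩ := hL.2 (P[i], i) (List.mem_zipIdx_iff_getElem?.2 (by simp [hi']))
  rcases hk with hk | hk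
  · obtain ⟨n1, n2⟩ := ne_of_single h ha hb (by simp [hk])
    exact L.inD_single h ha hb n1 n2 hk (Or.inl rfl)
  · obtain ⟨n1, n2⟩ := ne_of_single h ha hb (by simp [hk])
    exact L.inD_single h ha hb n1 n2 hk (Or.inr rfl)

end Rel

/-- The two small types need a field with more than two elements. -/
theorem rel_perfect {D : ChevalleyDatum} {F : Type*} [Field F]
    (hD : D ∈ [chevG2, chevB2, chevD4, chevF4, chevE6, chevE7, chevE8])
    (hK : D ∈ [chevB2, chevG2] → ∃ x : F, x ≠ 0 ∧ x ≠ 1)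
    {R : Set (FreeGroup (Fin D.nroots × F))}
    (hlo : D.steinbergRelsAB F ⊆ R) (hhi : R ⊆ D.steinbergRels F) :
    commutator (PresentedGroup R) = ⊤ := by
  simp only [List.mem_cons, List.not_mem_nil, or_false] at hD
  rcases hD with rfl | rfl | rfl | rfl | rfl | rfl | rfl
  · have hnb : Rel.Nbr tabG2 := by unfold Rel.Nbr; decide +kernel
    obtain ⟨a, ha0, ha1⟩ := hK (by simp)
    refine (certG2.relOf hlo hhi).commutator_eq_top certG2 hnb fun i hi => ?_
    have hi2 : i < 2 := hi
    obtain rfl | rfl : i = 0 ∨ i = 1 := by omega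
    · refine (certG2.relOf hlo hhi).inD_torus certG2 hnb (j := 1) (show 1 < 2 by omega)
        (certG2.simple_lt hi) ha0 ?_
      rw [show tabG2.car 1 (tabG2.simple 0) = -1 by decide +kernel, _root_.zpow_neg_one, ne_eq, inv_eq_one]
      exact ha1
    · exact (certG2.relOf hlo hhi).inD_single certG2 (a := 1) (b := 11) (c := -1)
        (by decide +kernel) (by decide +kernel) (by decide) (by decide +kernel) (by decide +kernel)
        (Or.inr rfl)
  · have hnb : Rel.Nbr tabB2 := by unfold Rel.Nbr; decide +kernel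
    have h0 : (0 : ℕ) < tabB2.l := by decide +kernel
    obtain ⟨a, ha0, ha1⟩ := hK (by simp)
    have hs : (certB2.relOf hlo hhi).InD (tabB2.simple 0) := by
      refine (certB2.relOf hlo hhi).inD_torus certB2 hnb (j := 1)
        (show 1 < tabB2.l by decide +kernel) (certB2.simple_lt h0) ha0 ?_
      rw [show tabB2.car 1 (tabB2.simple 0) = -1 by decide +kernel, _root_.zpow_neg_one, ne_eq, inv_eq_one]
      exact ha1
    refine (certB2.relOf hlo hhi).commutator_eq_top certB2 hnb fun i hi => ?_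
    have hi2 : i < 2 := hi
    obtain rfl | rfl : i = 0 ∨ i = 1 := by omega
    · exact hs
    · have h2 : (certB2.relOf hlo hhi).InD 2 := by
        have := (certB2.relOf hlo hhi).inD_refl certB2 hnb h0 (certB2.simple_lt h0) hs
        rwa [show tabB2.refl 0 (tabB2.simple 0) = 2 by decide +kernel] at this
      rw [show tabB2.simple 1 = 4 by decide +kernel]
      exact (certB2.relOf hlo hhi).inD_second certB2 (a := 6) (b := 0) (k₁ := 2) (c₁ := 1)
        (by decide +kernel) (by decide +kernel) (by decide) (by decide +kernel) (by decide +kernel) h2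
  · exact (certD4.relOf hlo hhi).commutator_eq_top_of_pairs certD4
      (by unfold Rel.Nbr; decide +kernel) pairsD4
  · exact (certF4.relOf hlo hhi).commutator_eq_top_of_pairs certF4
      (by unfold Rel.Nbr; decide +kernel) pairsF4
  · exact (certE6.relOf hlo hhi).commutator_eq_top_of_pairs certE6
      (by unfold Rel.Nbr; decide +kernel) pairsE6
  · exact (certE7.relOf hlo hhi).commutator_eq_top_of_pairs certE7
      (by unfold Rel.Nbr; decide +kernel) pairsE7
  · exact (certE8.relOf hlo hhi).commutator_eq_top_of_pairs certE8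
      (by unfold Rel.Nbr; decide +kernel) pairsE8

end CfsgLib.Chev
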