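import Cfsg.Agent.Lib.Chev.StMinRep

/-! The minuscule representation of type E7 (generated). -/

set_option autoImplicit false
set_option maxRecDepth 100000

namespace CfsgLib.Chev

open CfsgLib.ChevOrth (SM)

/-- Root matrices. -/
def minE7A0 : List (SM (Fin 56)) :=
  [[(37, 0, -1), (40, 1, -1), (43, 2, -1), (45, 3, -1), (47, 4, -1), (49, 5, -1), (50, 6, -1), (51, 7, -1), (52, 10, -1), (53, 12, -1), (54, 15, -1), (55, 18, -1)],
    [(34, 0, 1), (38, 1, 1), (41, 2, 1), (44, 3, 1), (46, 4, 1), (48, 5, 1), (50, 8, -1), (51, 9, -1), (52, 11, -1), (53, 14, -1), (54, 17, -1), (55, 21, -1)],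
    [(31, 0, -1), (35, 1, -1), (39, 2, -1), (42, 3, -1), (46, 6, 1), (47, 8, 1), (48, 7, 1), (49, 9, 1), (52, 13, -1), (53, 16, -1), (54, 20, -1), (55, 24, -1)],
    [(28, 0, 1), (32, 1, 1), (36, 2, 1), (42, 4, -1), (44, 6, -1), (45, 8, -1), (48, 10, 1), (49, 11, 1), (51, 13, 1), (53, 19, -1), (54, 23, -1), (55, 27, -1)],
    [(25, 0, -1), (29, 1, -1), (36, 3, 1), (39, 4, 1), (41, 6, 1), (43, 8, 1), (48, 12, 1), (49, 14, 1), (51, 16, 1), (52, 19, 1), (54, 26, -1), (55, 30, -1)],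
    [(22, 0, 1), (29, 2, -1), (32, 3, -1), (35, 4, -1), (38, 6, -1), (40, 8, -1), (48, 15, 1), (49, 17, 1), (51, 20, 1), (52, 23, 1), (53, 26, 1), (55, 33, -1)],
    [(22, 1, 1), (25, 2, 1), (28, 3, 1), (31, 4, 1), (34, 6, 1), (37, 8, 1), (48, 18, 1), (49, 21, 1), (51, 24, 1), (52, 27, 1), (53, 30, 1), (54, 33, 1)],
    [(26, 0, -1), (30, 1, -1), (33, 2, -1), (42, 5, -1), (44, 7, -1), (45, 9, -1), (46, 10, -1), (47, 11, -1), (50, 13, -1), (53, 22, -1), (54, 25, -1), (55, 29, -1)],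
    [(23, 0, 1), (27, 1, 1), (33, 3, -1), (39, 5, 1), (41, 7, 1), (43, 9, 1), (46, 12, -1), (47, 14, -1), (50, 16, -1), (52, 22, 1), (54, 28, -1), (55, 32, -1)],
    [(19, 0, -1), (27, 2, 1), (30, 3, 1), (35, 5, -1), (38, 7, -1), (40, 9, -1), (46, 15, -1), (47, 17, -1), (50, 20, -1), (52, 25, 1), (53, 28, 1), (55, 36, -1)],
    [(19, 1, -1), (23, 2, -1), (26, 3, -1), (31, 5, 1), (34, 7, 1), (37, 9, 1), (46, 18, -1), (47, 21, -1), (50, 24, -1), (52, 29, 1), (53, 32, 1), (54, 36, 1)],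
    [(20, 0, -1), (24, 1, -1), (33, 4, -1), (36, 5, -1), (41, 10, 1), (43, 11, 1), (44, 12, 1), (45, 14, 1), (50, 19, -1), (51, 22, -1), (54, 31, -1), (55, 35, -1)],
    [(16, 0, 1), (24, 2, -1), (30, 4, 1), (32, 5, 1), (38, 10, -1), (40, 11, -1), (44, 15, 1), (45, 17, 1), (50, 23, -1), (51, 25, -1), (53, 31, 1), (55, 39, -1)],
    [(16, 1, 1), (20, 2, 1), (26, 4, -1), (28, 5, -1), (34, 10, 1), (37, 11, 1), (44, 18, 1), (45, 21, 1), (50, 27, -1), (51, 29, -1), (53, 35, 1), (54, 39, 1)],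
    [(13, 0, -1), (24, 3, -1), (27, 4, -1), (29, 5, -1), (38, 12, -1), (40, 14, -1), (41, 15, -1), (43, 17, -1), (50, 26, -1), (51, 28, -1), (52, 31, -1), (55, 42, -1)],
    [(13, 1, -1), (20, 3, 1), (23, 4, 1), (25, 5, 1), (34, 12, 1), (37, 14, 1), (41, 18, -1), (43, 21, -1), (50, 30, -1), (51, 32, -1), (52, 35, -1), (54, 42, 1)],
    [(13, 2, -1), (16, 3, -1), (19, 4, -1), (22, 5, -1), (34, 15, 1), (37, 17, 1), (38, 18, 1), (40, 21, 1), (50, 33, -1), (51, 36, -1), (52, 39, -1), (53, 42, -1)],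
    [(17, 0, 1), (21, 1, 1), (33, 6, -1), (36, 7, -1), (39, 10, -1), (42, 12, -1), (43, 13, 1), (45, 16, 1), (47, 19, 1), (49, 22, 1), (54, 34, -1), (55, 38, -1)],
    [(14, 0, -1), (21, 2, 1), (30, 6, 1), (32, 7, 1), (35, 10, 1), (40, 13, -1), (42, 15, -1), (45, 20, 1), (47, 23, 1), (49, 25, 1), (53, 34, 1), (55, 41, -1)],
    [(14, 1, -1), (17, 2, -1), (26, 6, -1), (28, 7, -1), (31, 10, -1), (37, 13, 1), (42, 18, -1), (45, 24, 1), (47, 27, 1), (49, 29, 1), (53, 38, 1), (54, 41, 1)],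
    [(11, 0, 1), (21, 3, 1), (27, 6, -1), (29, 7, -1), (35, 12, 1), (39, 15, 1), (40, 16, -1), (43, 20, -1), (47, 26, 1), (49, 28, 1), (52, 34, -1), (55, 44, -1)],
    [(11, 1, 1), (17, 3, -1), (23, 6, 1), (25, 7, 1), (31, 12, -1), (37, 16, 1), (39, 18, 1), (43, 24, -1), (47, 30, 1), (49, 32, 1), (52, 38, -1), (54, 44, 1)],
    [(11, 2, 1), (14, 3, 1), (19, 6, -1), (22, 7, -1), (31, 15, -1), (35, 18, -1), (37, 20, 1), (40, 24, 1), (47, 33, 1), (49, 36, 1), (52, 41, -1), (53, 44, -1)],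
    [(9, 0, -1), (21, 4, 1), (24, 6, 1), (29, 10, -1), (32, 12, -1), (36, 15, -1), (40, 19, -1), (43, 23, -1), (45, 26, -1), (49, 31, 1), (51, 34, 1), (55, 46, -1)]]

/-- Root matrices. -/
def minE7A1 : List (SM (Fin 56)) :=
  [[(9, 1, -1), (17, 4, -1), (20, 6, -1), (25, 10, 1), (28, 12, 1), (36, 18, -1), (37, 19, 1), (43, 27, -1), (45, 30, -1), (49, 35, 1), (51, 38, 1), (54, 46, 1)],
    [(9, 2, -1), (14, 4, 1), (16, 6, 1), (22, 10, -1), (28, 15, 1), (32, 18, 1), (37, 23, 1), (40, 27, 1), (45, 33, -1), (49, 39, 1), (51, 41, 1), (53, 46, -1)],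
    [(9, 3, -1), (11, 4, -1), (13, 6, -1), (22, 12, -1), (25, 15, -1), (29, 18, -1), (37, 26, 1), (40, 30, 1), (43, 33, 1), (49, 42, 1), (51, 44, 1), (52, 46, 1)],
    [(8, 0, 1), (21, 5, 1), (24, 7, 1), (27, 10, 1), (30, 12, 1), (33, 15, 1), (40, 22, -1), (43, 25, -1), (45, 28, -1), (47, 31, -1), (50, 34, -1), (55, 48, -1)],
    [(8, 1, 1), (17, 5, -1), (20, 7, -1), (23, 10, -1), (26, 12, -1), (33, 18, 1), (37, 22, 1), (43, 29, -1), (45, 32, -1), (47, 35, -1), (50, 38, -1), (54, 48, 1)],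
    [(8, 2, 1), (14, 5, 1), (16, 7, 1), (19, 10, 1), (26, 15, -1), (30, 18, -1), (37, 25, 1), (40, 29, 1), (45, 36, -1), (47, 39, -1), (50, 41, -1), (53, 48, -1)],
    [(8, 3, 1), (11, 5, -1), (13, 7, -1), (19, 12, 1), (23, 15, 1), (27, 18, 1), (37, 28, 1), (40, 32, 1), (43, 36, 1), (47, 42, -1), (50, 44, -1), (52, 48, 1)],
    [(8, 4, 1), (9, 5, 1), (13, 10, -1), (16, 12, -1), (20, 15, -1), (24, 18, -1), (37, 31, 1), (40, 35, 1), (43, 39, 1), (45, 42, 1), (50, 46, -1), (51, 48, -1)],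
    [(8, 6, 1), (9, 7, 1), (11, 10, 1), (14, 12, 1), (17, 15, 1), (21, 18, 1), (37, 34, 1), (40, 38, 1), (43, 41, 1), (45, 44, 1), (47, 46, 1), (49, 48, 1)],
    [(15, 0, 1), (18, 1, 1), (33, 8, 1), (36, 9, 1), (39, 11, 1), (41, 13, 1), (42, 14, 1), (44, 16, 1), (46, 19, 1), (48, 22, 1), (54, 37, 1), (55, 40, 1)],
    [(12, 0, -1), (18, 2, 1), (30, 8, -1), (32, 9, -1), (35, 11, -1), (38, 13, -1), (42, 17, 1), (44, 20, 1), (46, 23, 1), (48, 25, 1), (53, 37, -1), (55, 43, 1)],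
    [(12, 1, -1), (15, 2, -1), (26, 8, 1), (28, 9, 1), (31, 11, 1), (34, 13, 1), (42, 21, 1), (44, 24, 1), (46, 27, 1), (48, 29, 1), (53, 40, -1), (54, 43, -1)],
    [(10, 0, 1), (18, 3, 1), (27, 8, 1), (29, 9, 1), (35, 14, -1), (38, 16, -1), (39, 17, -1), (41, 20, -1), (46, 26, 1), (48, 28, 1), (52, 37, 1), (55, 45, 1)],
    [(10, 1, 1), (15, 3, -1), (23, 8, -1), (25, 9, -1), (31, 14, 1), (34, 16, 1), (39, 21, -1), (41, 24, -1), (46, 30, 1), (48, 32, 1), (52, 40, 1), (54, 45, -1)],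
    [(10, 2, 1), (12, 3, 1), (19, 8, 1), (22, 9, 1), (31, 17, 1), (34, 20, 1), (35, 21, 1), (38, 24, 1), (46, 33, 1), (48, 36, 1), (52, 43, 1), (53, 45, 1)],
    [(7, 0, -1), (18, 4, 1), (24, 8, -1), (29, 11, 1), (32, 14, 1), (36, 17, 1), (38, 19, -1), (41, 23, -1), (44, 26, -1), (48, 31, 1), (51, 37, -1), (55, 47, 1)],
    [(7, 1, -1), (15, 4, -1), (20, 8, 1), (25, 11, -1), (28, 14, -1), (34, 19, 1), (36, 21, 1), (41, 27, -1), (44, 30, -1), (48, 35, 1), (51, 40, -1), (54, 47, -1)],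
    [(7, 2, -1), (12, 4, 1), (16, 8, -1), (22, 11, 1), (28, 17, -1), (32, 21, -1), (34, 23, 1), (38, 27, 1), (44, 33, -1), (48, 39, 1), (51, 43, -1), (53, 47, 1)],
    [(7, 3, -1), (10, 4, -1), (13, 8, 1), (22, 14, 1), (25, 17, 1), (29, 21, 1), (34, 26, 1), (38, 30, 1), (41, 33, 1), (48, 42, 1), (51, 45, -1), (52, 47, -1)],
    [(5, 0, 1), (18, 6, 1), (21, 8, 1), (29, 13, 1), (32, 16, 1), (35, 19, 1), (36, 20, 1), (39, 23, 1), (42, 26, 1), (48, 34, 1), (49, 37, 1), (55, 50, 1)],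
    [(5, 1, 1), (15, 6, -1), (17, 8, -1), (25, 13, -1), (28, 16, -1), (31, 19, -1), (36, 24, 1), (39, 27, 1), (42, 30, 1), (48, 38, 1), (49, 40, 1), (54, 50, -1)],
    [(5, 2, 1), (12, 6, 1), (14, 8, 1), (22, 13, 1), (28, 20, -1), (31, 23, -1), (32, 24, -1), (35, 27, -1), (42, 33, 1), (48, 41, 1), (49, 43, 1), (53, 50, 1)],
    [(5, 3, 1), (10, 6, -1), (11, 8, -1), (22, 16, 1), (25, 20, 1), (29, 24, 1), (31, 26, -1), (35, 30, -1), (39, 33, -1), (48, 44, 1), (49, 45, 1), (52, 50, -1)],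
    [(5, 4, 1), (7, 6, 1), (9, 8, 1), (22, 19, 1), (25, 23, 1), (28, 26, 1), (29, 27, 1), (32, 30, 1), (36, 33, 1), (48, 46, 1), (49, 47, 1), (51, 50, 1)]]

/-- Root matrices. -/
def minE7A2 : List (SM (Fin 56)) :=
  [[(6, 0, 1), (18, 5, 1), (24, 9, -1), (27, 11, -1), (30, 14, -1), (33, 17, -1), (38, 22, -1), (41, 25, -1), (44, 28, -1), (46, 31, -1), (50, 37, 1), (55, 49, 1)],
    [(6, 1, 1), (15, 5, -1), (20, 9, 1), (23, 11, 1), (26, 14, 1), (33, 21, -1), (34, 22, 1), (41, 29, -1), (44, 32, -1), (46, 35, -1), (50, 40, 1), (54, 49, -1)],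
    [(6, 2, 1), (12, 5, 1), (16, 9, -1), (19, 11, -1), (26, 17, 1), (30, 21, 1), (34, 25, 1), (38, 29, 1), (44, 36, -1), (46, 39, -1), (50, 43, 1), (53, 49, 1)],
    [(6, 3, 1), (10, 5, -1), (13, 9, 1), (19, 14, -1), (23, 17, -1), (27, 21, -1), (34, 28, 1), (38, 32, 1), (41, 36, 1), (46, 42, -1), (50, 45, 1), (52, 49, -1)],
    [(6, 4, 1), (7, 5, 1), (13, 11, 1), (16, 14, 1), (20, 17, 1), (24, 21, 1), (34, 31, 1), (38, 35, 1), (41, 39, 1), (44, 42, 1), (50, 47, 1), (51, 49, 1)],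
    [(4, 0, 1), (18, 7, -1), (21, 9, -1), (27, 13, 1), (30, 16, 1), (33, 20, 1), (35, 22, -1), (39, 25, -1), (42, 28, -1), (46, 34, 1), (47, 37, 1), (55, 51, -1)],
    [(4, 1, 1), (15, 7, 1), (17, 9, 1), (23, 13, -1), (26, 16, -1), (31, 22, 1), (33, 24, 1), (39, 29, -1), (42, 32, -1), (46, 38, 1), (47, 40, 1), (54, 51, 1)],
    [(4, 2, 1), (12, 7, -1), (14, 9, -1), (19, 13, 1), (26, 20, -1), (30, 24, -1), (31, 25, 1), (35, 29, 1), (42, 36, -1), (46, 41, 1), (47, 43, 1), (53, 51, -1)],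
    [(4, 3, 1), (10, 7, 1), (11, 9, 1), (19, 16, 1), (23, 20, 1), (27, 24, 1), (31, 28, 1), (35, 32, 1), (39, 36, 1), (46, 44, 1), (47, 45, 1), (52, 51, 1)],
    [(3, 0, 1), (18, 10, 1), (21, 11, 1), (24, 13, 1), (30, 19, -1), (32, 22, -1), (33, 23, -1), (36, 25, -1), (42, 31, 1), (44, 34, 1), (45, 37, 1), (55, 52, 1)],
    [(3, 1, 1), (15, 10, -1), (17, 11, -1), (20, 13, -1), (26, 19, 1), (28, 22, 1), (33, 27, -1), (36, 29, -1), (42, 35, 1), (44, 38, 1), (45, 40, 1), (54, 52, -1)],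
    [(3, 2, 1), (12, 10, 1), (14, 11, 1), (16, 13, 1), (26, 23, 1), (28, 25, 1), (30, 27, 1), (32, 29, 1), (42, 39, 1), (44, 41, 1), (45, 43, 1), (53, 52, 1)],
    [(2, 0, 1), (18, 12, -1), (21, 14, -1), (24, 16, -1), (27, 19, -1), (29, 22, -1), (33, 26, 1), (36, 28, 1), (39, 31, 1), (41, 34, 1), (43, 37, 1), (55, 53, -1)],
    [(2, 1, 1), (15, 12, 1), (17, 14, 1), (20, 16, 1), (23, 19, 1), (25, 22, 1), (33, 30, 1), (36, 32, 1), (39, 35, 1), (41, 38, 1), (43, 40, 1), (54, 53, 1)],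
    [(1, 0, 1), (18, 15, 1), (21, 17, 1), (24, 20, 1), (27, 23, 1), (29, 25, 1), (30, 26, 1), (32, 28, 1), (35, 31, 1), (38, 34, 1), (40, 37, 1), (55, 54, 1)],
    [(0, 1, 1), (15, 18, 1), (17, 21, 1), (20, 24, 1), (23, 27, 1), (25, 29, 1), (26, 30, 1), (28, 32, 1), (31, 35, 1), (34, 38, 1), (37, 40, 1), (54, 55, 1)],
    [(1, 2, 1), (12, 15, 1), (14, 17, 1), (16, 20, 1), (19, 23, 1), (22, 25, 1), (30, 33, 1), (32, 36, 1), (35, 39, 1), (38, 41, 1), (40, 43, 1), (53, 54, 1)],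
    [(0, 2, 1), (12, 18, -1), (14, 21, -1), (16, 24, -1), (19, 27, -1), (22, 29, -1), (26, 33, 1), (28, 36, 1), (31, 39, 1), (34, 41, 1), (37, 43, 1), (53, 55, -1)],
    [(2, 3, 1), (10, 12, 1), (11, 14, 1), (13, 16, 1), (23, 26, 1), (25, 28, 1), (27, 30, 1), (29, 32, 1), (39, 42, 1), (41, 44, 1), (43, 45, 1), (52, 53, 1)],
    [(1, 3, 1), (10, 15, -1), (11, 17, -1), (13, 20, -1), (19, 26, 1), (22, 28, 1), (27, 33, -1), (29, 36, -1), (35, 42, 1), (38, 44, 1), (40, 45, 1), (52, 54, -1)],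
    [(0, 3, 1), (10, 18, 1), (11, 21, 1), (13, 24, 1), (19, 30, -1), (22, 32, -1), (23, 33, -1), (25, 36, -1), (31, 42, 1), (34, 44, 1), (37, 45, 1), (52, 55, 1)],
    [(3, 4, 1), (7, 10, 1), (9, 11, 1), (16, 19, 1), (20, 23, 1), (24, 27, 1), (28, 31, 1), (32, 35, 1), (36, 39, 1), (44, 46, 1), (45, 47, 1), (51, 52, 1)],
    [(2, 4, 1), (7, 12, -1), (9, 14, -1), (13, 19, 1), (20, 26, -1), (24, 30, -1), (25, 31, 1), (29, 35, 1), (36, 42, -1), (41, 46, 1), (43, 47, 1), (51, 53, -1)],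
    [(1, 4, 1), (7, 15, 1), (9, 17, 1), (13, 23, -1), (16, 26, -1), (22, 31, 1), (24, 33, 1), (29, 39, -1), (32, 42, -1), (38, 46, 1), (40, 47, 1), (51, 54, 1)]]

/-- Root matrices. -/
def minE7A3 : List (SM (Fin 56)) :=
  [[(0, 4, 1), (7, 18, -1), (9, 21, -1), (13, 27, 1), (16, 30, 1), (20, 33, 1), (22, 35, -1), (25, 39, -1), (28, 42, -1), (34, 46, 1), (37, 47, 1), (51, 55, -1)],
    [(4, 6, 1), (5, 7, 1), (11, 13, 1), (14, 16, 1), (17, 20, 1), (21, 24, 1), (31, 34, 1), (35, 38, 1), (39, 41, 1), (42, 44, 1), (47, 50, 1), (49, 51, 1)],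
    [(3, 6, 1), (5, 10, -1), (9, 13, 1), (14, 19, -1), (17, 23, -1), (21, 27, -1), (28, 34, 1), (32, 38, 1), (36, 41, 1), (42, 46, -1), (45, 50, 1), (49, 52, -1)],
    [(2, 6, 1), (5, 12, 1), (9, 16, -1), (11, 19, -1), (17, 26, 1), (21, 30, 1), (25, 34, 1), (29, 38, 1), (36, 44, -1), (39, 46, -1), (43, 50, 1), (49, 53, 1)],
    [(1, 6, 1), (5, 15, -1), (9, 20, 1), (11, 23, 1), (14, 26, 1), (21, 33, -1), (22, 34, 1), (29, 41, -1), (32, 44, -1), (35, 46, -1), (40, 50, 1), (49, 54, -1)],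
    [(0, 6, 1), (5, 18, 1), (9, 24, -1), (11, 27, -1), (14, 30, -1), (17, 33, -1), (22, 38, -1), (25, 41, -1), (28, 44, -1), (31, 46, -1), (37, 50, 1), (49, 55, 1)],
    [(4, 5, 1), (6, 7, 1), (8, 9, 1), (19, 22, 1), (23, 25, 1), (26, 28, 1), (27, 29, 1), (30, 32, 1), (33, 36, 1), (46, 48, 1), (47, 49, 1), (50, 51, 1)],
    [(3, 5, 1), (6, 10, -1), (8, 11, -1), (16, 22, 1), (20, 25, 1), (24, 29, 1), (26, 31, -1), (30, 35, -1), (33, 39, -1), (44, 48, 1), (45, 49, 1), (50, 52, -1)],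
    [(2, 5, 1), (6, 12, 1), (8, 14, 1), (13, 22, 1), (20, 28, -1), (23, 31, -1), (24, 32, -1), (27, 35, -1), (33, 42, 1), (41, 48, 1), (43, 49, 1), (50, 53, 1)],
    [(1, 5, 1), (6, 15, -1), (8, 17, -1), (13, 25, -1), (16, 28, -1), (19, 31, -1), (24, 36, 1), (27, 39, 1), (30, 42, 1), (38, 48, 1), (40, 49, 1), (50, 54, -1)],
    [(0, 5, 1), (6, 18, 1), (8, 21, 1), (13, 29, 1), (16, 32, 1), (19, 35, 1), (20, 36, 1), (23, 39, 1), (26, 42, 1), (34, 48, 1), (37, 49, 1), (50, 55, 1)],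
    [(3, 7, -1), (4, 10, -1), (8, 13, 1), (14, 22, 1), (17, 25, 1), (21, 29, 1), (26, 34, 1), (30, 38, 1), (33, 41, 1), (42, 48, 1), (45, 51, -1), (47, 52, -1)],
    [(2, 7, -1), (4, 12, 1), (8, 16, -1), (11, 22, 1), (17, 28, -1), (21, 32, -1), (23, 34, 1), (27, 38, 1), (33, 44, -1), (39, 48, 1), (43, 51, -1), (47, 53, 1)],
    [(1, 7, -1), (4, 15, -1), (8, 20, 1), (11, 25, -1), (14, 28, -1), (19, 34, 1), (21, 36, 1), (27, 41, -1), (30, 44, -1), (35, 48, 1), (40, 51, -1), (47, 54, -1)],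
    [(0, 7, -1), (4, 18, 1), (8, 24, -1), (11, 29, 1), (14, 32, 1), (17, 36, 1), (19, 38, -1), (23, 41, -1), (26, 44, -1), (31, 48, 1), (37, 51, -1), (47, 55, 1)],
    [(2, 10, 1), (3, 12, 1), (8, 19, 1), (9, 22, 1), (17, 31, 1), (20, 34, 1), (21, 35, 1), (24, 38, 1), (33, 46, 1), (36, 48, 1), (43, 52, 1), (45, 53, 1)],
    [(1, 10, 1), (3, 15, -1), (8, 23, -1), (9, 25, -1), (14, 31, 1), (16, 34, 1), (21, 39, -1), (24, 41, -1), (30, 46, 1), (32, 48, 1), (40, 52, 1), (45, 54, -1)],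
    [(0, 10, 1), (3, 18, 1), (8, 27, 1), (9, 29, 1), (14, 35, -1), (16, 38, -1), (17, 39, -1), (20, 41, -1), (26, 46, 1), (28, 48, 1), (37, 52, 1), (45, 55, 1)],
    [(1, 12, -1), (2, 15, -1), (8, 26, 1), (9, 28, 1), (11, 31, 1), (13, 34, 1), (21, 42, 1), (24, 44, 1), (27, 46, 1), (29, 48, 1), (40, 53, -1), (43, 54, -1)],
    [(0, 12, -1), (2, 18, 1), (8, 30, -1), (9, 32, -1), (11, 35, -1), (13, 38, -1), (17, 42, 1), (20, 44, 1), (23, 46, 1), (25, 48, 1), (37, 53, -1), (43, 55, 1)],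
    [(0, 15, 1), (1, 18, 1), (8, 33, 1), (9, 36, 1), (11, 39, 1), (13, 41, 1), (14, 42, 1), (16, 44, 1), (19, 46, 1), (22, 48, 1), (37, 54, 1), (40, 55, 1)],
    [(6, 8, 1), (7, 9, 1), (10, 11, 1), (12, 14, 1), (15, 17, 1), (18, 21, 1), (34, 37, 1), (38, 40, 1), (41, 43, 1), (44, 45, 1), (46, 47, 1), (48, 49, 1)],
    [(4, 8, 1), (5, 9, 1), (10, 13, -1), (12, 16, -1), (15, 20, -1), (18, 24, -1), (31, 37, 1), (35, 40, 1), (39, 43, 1), (42, 45, 1), (46, 50, -1), (48, 51, -1)],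
    [(3, 8, 1), (5, 11, -1), (7, 13, -1), (12, 19, 1), (15, 23, 1), (18, 27, 1), (28, 37, 1), (32, 40, 1), (36, 43, 1), (42, 47, -1), (44, 50, -1), (48, 52, 1)]]

/-- Root matrices. -/
def minE7A4 : List (SM (Fin 56)) :=
  [[(2, 8, 1), (5, 14, 1), (7, 16, 1), (10, 19, 1), (15, 26, -1), (18, 30, -1), (25, 37, 1), (29, 40, 1), (36, 45, -1), (39, 47, -1), (41, 50, -1), (48, 53, -1)],
    [(1, 8, 1), (5, 17, -1), (7, 20, -1), (10, 23, -1), (12, 26, -1), (18, 33, 1), (22, 37, 1), (29, 43, -1), (32, 45, -1), (35, 47, -1), (38, 50, -1), (48, 54, 1)],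
    [(0, 8, 1), (5, 21, 1), (7, 24, 1), (10, 27, 1), (12, 30, 1), (15, 33, 1), (22, 40, -1), (25, 43, -1), (28, 45, -1), (31, 47, -1), (34, 50, -1), (48, 55, -1)],
    [(3, 9, -1), (4, 11, -1), (6, 13, -1), (12, 22, -1), (15, 25, -1), (18, 29, -1), (26, 37, 1), (30, 40, 1), (33, 43, 1), (42, 49, 1), (44, 51, 1), (46, 52, 1)],
    [(2, 9, -1), (4, 14, 1), (6, 16, 1), (10, 22, -1), (15, 28, 1), (18, 32, 1), (23, 37, 1), (27, 40, 1), (33, 45, -1), (39, 49, 1), (41, 51, 1), (46, 53, -1)],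
    [(1, 9, -1), (4, 17, -1), (6, 20, -1), (10, 25, 1), (12, 28, 1), (18, 36, -1), (19, 37, 1), (27, 43, -1), (30, 45, -1), (35, 49, 1), (38, 51, 1), (46, 54, 1)],
    [(0, 9, -1), (4, 21, 1), (6, 24, 1), (10, 29, -1), (12, 32, -1), (15, 36, -1), (19, 40, -1), (23, 43, -1), (26, 45, -1), (31, 49, 1), (34, 51, 1), (46, 55, -1)],
    [(2, 11, 1), (3, 14, 1), (6, 19, -1), (7, 22, -1), (15, 31, -1), (18, 35, -1), (20, 37, 1), (24, 40, 1), (33, 47, 1), (36, 49, 1), (41, 52, -1), (44, 53, -1)],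
    [(1, 11, 1), (3, 17, -1), (6, 23, 1), (7, 25, 1), (12, 31, -1), (16, 37, 1), (18, 39, 1), (24, 43, -1), (30, 47, 1), (32, 49, 1), (38, 52, -1), (44, 54, 1)],
    [(0, 11, 1), (3, 21, 1), (6, 27, -1), (7, 29, -1), (12, 35, 1), (15, 39, 1), (16, 40, -1), (20, 43, -1), (26, 47, 1), (28, 49, 1), (34, 52, -1), (44, 55, -1)],
    [(1, 14, -1), (2, 17, -1), (6, 26, -1), (7, 28, -1), (10, 31, -1), (13, 37, 1), (18, 42, -1), (24, 45, 1), (27, 47, 1), (29, 49, 1), (38, 53, 1), (41, 54, 1)],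
    [(0, 14, -1), (2, 21, 1), (6, 30, 1), (7, 32, 1), (10, 35, 1), (13, 40, -1), (15, 42, -1), (20, 45, 1), (23, 47, 1), (25, 49, 1), (34, 53, 1), (41, 55, -1)],
    [(0, 17, 1), (1, 21, 1), (6, 33, -1), (7, 36, -1), (10, 39, -1), (12, 42, -1), (13, 43, 1), (16, 45, 1), (19, 47, 1), (22, 49, 1), (34, 54, -1), (38, 55, -1)],
    [(2, 13, -1), (3, 16, -1), (4, 19, -1), (5, 22, -1), (15, 34, 1), (17, 37, 1), (18, 38, 1), (21, 40, 1), (33, 50, -1), (36, 51, -1), (39, 52, -1), (42, 53, -1)],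
    [(1, 13, -1), (3, 20, 1), (4, 23, 1), (5, 25, 1), (12, 34, 1), (14, 37, 1), (18, 41, -1), (21, 43, -1), (30, 50, -1), (32, 51, -1), (35, 52, -1), (42, 54, 1)],
    [(0, 13, -1), (3, 24, -1), (4, 27, -1), (5, 29, -1), (12, 38, -1), (14, 40, -1), (15, 41, -1), (17, 43, -1), (26, 50, -1), (28, 51, -1), (31, 52, -1), (42, 55, -1)],
    [(1, 16, 1), (2, 20, 1), (4, 26, -1), (5, 28, -1), (10, 34, 1), (11, 37, 1), (18, 44, 1), (21, 45, 1), (27, 50, -1), (29, 51, -1), (35, 53, 1), (39, 54, 1)],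
    [(0, 16, 1), (2, 24, -1), (4, 30, 1), (5, 32, 1), (10, 38, -1), (11, 40, -1), (15, 44, 1), (17, 45, 1), (23, 50, -1), (25, 51, -1), (31, 53, 1), (39, 55, -1)],
    [(0, 20, -1), (1, 24, -1), (4, 33, -1), (5, 36, -1), (10, 41, 1), (11, 43, 1), (12, 44, 1), (14, 45, 1), (19, 50, -1), (22, 51, -1), (31, 54, -1), (35, 55, -1)],
    [(1, 19, -1), (2, 23, -1), (3, 26, -1), (5, 31, 1), (7, 34, 1), (9, 37, 1), (18, 46, -1), (21, 47, -1), (24, 50, -1), (29, 52, 1), (32, 53, 1), (36, 54, 1)],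
    [(0, 19, -1), (2, 27, 1), (3, 30, 1), (5, 35, -1), (7, 38, -1), (9, 40, -1), (15, 46, -1), (17, 47, -1), (20, 50, -1), (25, 52, 1), (28, 53, 1), (36, 55, -1)],
    [(0, 23, 1), (1, 27, 1), (3, 33, -1), (5, 39, 1), (7, 41, 1), (9, 43, 1), (12, 46, -1), (14, 47, -1), (16, 50, -1), (22, 52, 1), (28, 54, -1), (32, 55, -1)],
    [(0, 26, -1), (1, 30, -1), (2, 33, -1), (5, 42, -1), (7, 44, -1), (9, 45, -1), (10, 46, -1), (11, 47, -1), (13, 50, -1), (22, 53, -1), (25, 54, -1), (29, 55, -1)],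
    [(1, 22, 1), (2, 25, 1), (3, 28, 1), (4, 31, 1), (6, 34, 1), (8, 37, 1), (18, 48, 1), (21, 49, 1), (24, 51, 1), (27, 52, 1), (30, 53, 1), (33, 54, 1)]]

/-- Root matrices. -/
def minE7A5 : List (SM (Fin 56)) :=
  [[(0, 22, 1), (2, 29, -1), (3, 32, -1), (4, 35, -1), (6, 38, -1), (8, 40, -1), (15, 48, 1), (17, 49, 1), (20, 51, 1), (23, 52, 1), (26, 53, 1), (33, 55, -1)],
    [(0, 25, -1), (1, 29, -1), (3, 36, 1), (4, 39, 1), (6, 41, 1), (8, 43, 1), (12, 48, 1), (14, 49, 1), (16, 51, 1), (19, 52, 1), (26, 54, -1), (30, 55, -1)],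
    [(0, 28, 1), (1, 32, 1), (2, 36, 1), (4, 42, -1), (6, 44, -1), (8, 45, -1), (10, 48, 1), (11, 49, 1), (13, 51, 1), (19, 53, -1), (23, 54, -1), (27, 55, -1)],
    [(0, 31, -1), (1, 35, -1), (2, 39, -1), (3, 42, -1), (6, 46, 1), (7, 48, 1), (8, 47, 1), (9, 49, 1), (13, 52, -1), (16, 53, -1), (20, 54, -1), (24, 55, -1)],
    [(0, 34, 1), (1, 38, 1), (2, 41, 1), (3, 44, 1), (4, 46, 1), (5, 48, 1), (8, 50, -1), (9, 51, -1), (11, 52, -1), (14, 53, -1), (17, 54, -1), (21, 55, -1)],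
    [(0, 37, -1), (1, 40, -1), (2, 43, -1), (3, 45, -1), (4, 47, -1), (5, 49, -1), (6, 50, -1), (7, 51, -1), (10, 52, -1), (12, 53, -1), (15, 54, -1), (18, 55, -1)]]

/-- The monomial matrices by columns. -/
def minE7P : List ℕ :=
  [0x6e6c6a68666460635c5f585b5254574c4e514448464b42403e3c3a38363432302e2c2428262b1e2023181a1d14170e0c13110a0806040200, 0x6e6c6a6864675e5c63615a58565452504e4c4a424644493c3e4136343b392e3033262a282d2422201e1c1a18161410130c0f080b06040200, 0x6e6c6a68625e6760655c5a5456594e5053464a484d3e4240453c3a383634322a2e2c31222624291c1e2116181b1412100a080f0d06040200, 0x6e6c6a66696462605a585f5d56545250484c4a4f40444247383c3a3f30343237282c2a2f202422271e1c1a18120e1710150c0a0609040200, 0x6e6c686b666462605e5c56525b4e5950554c4a484644423a3e3641323d2e3930352c2a282624221a1e1621141d1912100e0c0a0804070200, 0x6e6a6d68666462605e5c5a5850544c5746534a404f443c493e433a3836342c3026332a202f241c2918231a1f161412100e0c0a0806020500,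 0x6c6f6a68666462605e5c5a585654524a4e4451483e4d4238473432412e3d3b28372c2231261e2b20251c1a18161412100e0c0a0806040003]

/-- The monomial matrices by rows. -/
def minE7Q : List ℕ :=
  [0x6e6c6a68666461625d5e595a5354564d4e504548464a42403e3c3a38363432302e2c2528262a1f2022191a1c15160f0d12100a0806040200, 0x6e6c6a6865665f5d62605a58565452504e4c4a434644483d3e4037353a382f3032272a282c2422201e1c1a18161411120d0e090a06040200, 0x6e6c6a68635f6660645c5a5556584f5052474a484c3f4240443c3a383634322b2e2c30232624281d1e2017181a1412100b090e0c06040200, 0x6e6c6a67686462605b595e5c56545250494c4a4e41444246393c3a3e31343236292c2a2e212422261e1c1a18130f1610140c0a0708040200, 0x6e6c696a666462605e5c57535a4f5850544c4a484644423b3e3740333c2f3830342c2a282624221b1e1720151c1812100e0c0a0805060200, 0x6e6b6c68666462605e5c5a5851544d5647524a414e443d483e423a3836342d3027322a212e241d2819221a1e161412100e0c0a0806030400, 0x6d6e6a68666462605e5c5a585654524b4e4550483f4c4239463533402f3c3a29362c2330261f2a20241c1a18161412100e0c0a0806040102]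

/-- The minuscule representation of type E7. -/
def minE7 : MinRep := ⟨56, minE7A0 ++ minE7A1 ++ minE7A2 ++ minE7A3 ++ minE7A4 ++ minE7A5, minE7P, minE7Q, 0⟩

theorem minE7_sq : minE7.chkSq = true := by decide +kernel

theorem minE7_n : minE7.chkN tabE7 = true := by decide +kernel

theorem minE7_move : minE7.chkMove tabE7 = true := by decide +kernel

theorem minE7_base : minE7.chkBase tabE7 coverE7 = true := by decide +kernel

theorem minE7_top : minE7.chkTop tabE7 6 = true := by decide +kernel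

end CfsgLib.Chev
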