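import Cfsg.Agent.Lib.Chev.StMultiplier

/-!
Central extensions of E6, E7, E8 over the field with two elements: the lift of a root element is the
bracket of any two root elements whose roots add up to that root.
-/

set_option autoImplicit false
set_option maxRecDepth 100000

namespace CfsgLib.Chev

open Cfsg.Lie Matrix
open scoped commutatorElement

/-- Every chain has at most one member, with odd constant. -/
noncomputable def Tab.chkOdd (T : Tab) : Bool :=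
  allBelow T.n fun r => allBelow T.n fun s => force (blk (T.row r) s) fun B =>
    cond (Nat.beq B 0) true
      (cond (Nat.beq (Nat.shiftRight B 14) 0)
        (Nat.beq (Nat.land (Nat.shiftRight B 9) 1) 1) false)

/-- The chain through a pair ends at `k`. -/
noncomputable def Tab.hits (T : Tab) (p q k : ℕ) : Bool :=
  force (blk (T.row p) q) fun B =>
    cond (Nat.beq B 0) false (Nat.beq (Nat.sub (Nat.land B 511) 1) k)

/-- The decompositions of `b` are moved to the pair `(p₀, q₀)` by reflections fixing `b`. -/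
noncomputable def Tab.chkDecs (T : Tab) (b p₀ q₀ : ℕ) (L : List (ℕ × ℕ × List ℕ)) : Bool :=
  decide (b < T.n ∧ p₀ < T.n ∧ q₀ < T.n) && T.hits p₀ q₀ b && decide (b ≠ q₀ ∧ b ≠ T.neg q₀) &&
    decide (T.commTerms q₀ b = []) &&
  (allBelow T.n fun p => allBelow T.n fun q =>
    cond (T.hits p q b)
      (L.any fun e => Nat.beq e.1 p && Nat.beq e.2.1 q) true) &&
  L.all fun e => decide (rword T e.2.2 p₀ = e.1 ∧ rword T e.2.2 q₀ = e.2.1) &&
    e.2.2.all fun i => decide (i < T.l ∧ T.refl i b = b ∧ b ≠ T.simple i ∧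
      b ≠ T.neg (T.simple i) ∧ T.commTerms (T.simple i) b = [] ∧
      T.commTerms (T.neg (T.simple i)) b = [])

namespace Cert

variable {D : ChevalleyDatum} {T : Tab} {C : Tab.Cover} (h : Cert D T C)
include h

/-- With short chains a pair has at most one term. -/
lemma terms_of_odd (hT : T.chkOdd = true) {r s : ℕ} (hr : r < T.n) (hs : s < T.n) :
    (T.entry r s = [] ∧ T.commTerms r s = []) ∨ ∃ k M, M % 2 ≠ 0 ∧ k < T.n ∧
      T.entry r s = [(k, M)] ∧ T.commTerms r s = [(k, M, 1, 1)] ∧ T.hits r s k = true := by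
  have key : ∀ {a b : ℕ}, a < T.n → b < T.n → T.entry a b = [] ∨ ∃ k M,
      M % 2 ≠ 0 ∧ T.entry a b = [(k, M)] ∧ T.hits a b k = true := by
    intro a b ha hb
    have h1 := allBelow_eq_true (allBelow_eq_true hT a ha) b hb
    rw [force_eq] at h1
    by_cases h0 : Tab.blk (T.row a) b = 0
    · exact Or.inl ((T.entry_nil_iff a b).2 h0)
    have hB : Nat.beq (Tab.blk (T.row a) b) 0 = false := by
      cases hb : Nat.beq (Tab.blk (T.row a) b) 0
      · rfl
      · exact absurd (Nat.eq_of_beq_eq_true hb) h0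
    rw [hB, cond_false] at h1
    obtain ⟨a1, a2⟩ := cond_false_eq_true h1
    set B := Tab.blk (T.row a) b with hBdef
    have a1' : B >>> 14 = 0 := Nat.eq_of_beq_eq_true a1
    have a2' : (B >>> 9) % 2 = 1 :=
      (Nat.and_two_pow_sub_one_eq_mod (B >>> 9) 1).symm.trans (Nat.eq_of_beq_eq_true a2)
    refine Or.inr ⟨B % 2 ^ 9 - 1, Int.subNatNat ((B >>> 9) % 2 ^ 5) 8, ?_, ?_, ?_⟩
    · rw [Int.subNatNat_eq_coe]; omega
    · rw [Tab.entry, ← Tab.blk_eq, ← hBdef]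
      simp only [Tab.decode, if_neg h0, a1', if_true]
    · rw [Tab.hits, force_eq, ← hBdef, hB, cond_false]
      rw [show Nat.sub (Nat.land B 511) 1 = B % 2 ^ 9 - 1 from
        congrArg (· - 1) (Nat.and_two_pow_sub_one_eq_mod B 9)]
      exact Nat.beq_refl _
  rcases key hr hs with e | ⟨k, M, hM, e, hk⟩
  · refine Or.inl ⟨e, ?_⟩
    have e' : T.entry s r = [] := by
      by_contra hne
      exact (h.chain_spec hs hr hne).2.2.1 e
    simp [Tab.commTerms, Tab.chainRoot, e, e']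
  · refine Or.inr ⟨k, M, hM, ?_, e, ?_, hk⟩
    · exact ((h.chain_spec hr hs (by rw [e]; simp)).2.2.2 (k, M) (by rw [e]; simp)).1
    rcases key hs hr with e' | ⟨k', M', -, e', -⟩ <;>
      simp [Tab.commTerms, Tab.chainRoot, Tab.chainM, e, e']

lemma entry_of_hits (hT : T.chkOdd = true) {r s k : ℕ} (hr : r < T.n) (hs : s < T.n)
    (hk : T.hits r s k = true) : ∃ M, T.entry r s = [(k, M)] := by
  rcases h.terms_of_odd hT hr hs with ⟨e, -⟩ | ⟨k', M, -, -, e, -, hk'⟩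
  · exfalso
    have h0 := (T.entry_nil_iff r s).1 e
    rw [Tab.hits, force_eq, h0] at hk
    simp at hk
  · refine ⟨M, ?_⟩
    rw [Tab.hits, force_eq] at hk hk'
    obtain ⟨-, a⟩ : Nat.beq (Tab.blk (T.row r) s) 0 = false ∧
        Nat.beq (Nat.sub (Nat.land (Tab.blk (T.row r) s) 511) 1) k = true := by
      cases hb : Nat.beq (Tab.blk (T.row r) s) 0 <;> simp_all
    obtain ⟨-, a'⟩ : Nat.beq (Tab.blk (T.row r) s) 0 = false ∧
        Nat.beq (Nat.sub (Nat.land (Tab.blk (T.row r) s) 511) 1) k' = true := by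
      cases hb : Nat.beq (Tab.blk (T.row r) s) 0 <;> simp_all
    rw [e, ← Nat.eq_of_beq_eq_true a, Nat.eq_of_beq_eq_true a']

end Cert

namespace Ext

variable {D : ChevalleyDatum} {F : Type*} [Field F] {E : Type*} [Group E] (Y : Ext D F E)
variable {T : Tab} {C : Tab.Cover} (h : Cert D T C)

omit [Field F] in
/-- The only values. -/
lemma two_values [Field F] [Fintype F] (hF : Fintype.card F = 2) (t : F) : t = 0 ∨ t = 1 := by
  classical
  have : ({0, 1} : Finset F) = Finset.univ :=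
    Finset.eq_univ_of_card _ (by rw [Finset.card_pair zero_ne_one, hF])
  have ht := Finset.mem_univ t
  rw [← this] at ht
  simpa using ht

variable [Fintype F] (hF : Fintype.card F = 2) (hT : T.chkOdd = true)
include h hF hT

/-- The commutator of two root elements with a common chain. -/
lemma comm_odd {p q k : ℕ} {M : ℤ} (hp : p < T.n) (hq : q < T.n) (he : T.entry p q = [(k, M)]) :
    k < T.n ∧ (M : F) = 1 ∧ q ≠ p ∧ q ≠ T.neg p ∧ T.commTerms p q = [(k, M, 1, 1)] ∧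
      X D p (1 : F) * X D q 1 * X D p 1 = X D q 1 * X D k 1 := by
  have : CharP F 2 := charP_of_card Nat.prime_two (k := 1) (by rw [hF, pow_one])
  rcases h.terms_of_odd hT hp hq with ⟨e, -⟩ | ⟨k', M', hM, hk, e, ec, -⟩
  · rw [he] at e; simp at e
  rw [he] at e
  simp only [List.cons.injEq, Prod.mk.injEq, and_true] at e
  obtain ⟨rfl, rfl⟩ := e
  have hM1 : (M : F) = 1 := by
    rcases two_values hF (M : F) with e | e
    · exact absurd (Int.emod_eq_zero_of_dvd ((CharP.intCast_eq_zero_iff F 2 M).1 e)) hM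
    · exact e
  obtain ⟨hne, hneg, -⟩ := h.chain_spec hp hq (by rw [he]; simp)
  refine ⟨hk, hM1, hne, hneg, ec, ?_⟩
  have e2 := h.X_conj (F := F) hp hq hne hneg 1 1
  rw [ec] at e2
  simpa [hM1, CharTwo.neg_eq] using e2

omit hT in
/-- Root elements over two elements are involutions. -/
lemma X_inv_two {r : ℕ} (hr : r < T.n) (t : F) : (X D r t)⁻¹ = X D r t := by
  have : CharP F 2 := charP_of_card Nat.prime_two (k := 1) (by rw [hF, pow_one])
  rw [h.X_inv hr, CharTwo.neg_eq]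

lemma θ_br_odd {p q k : ℕ} {M : ℤ} (hp : p < T.n) (hq : q < T.n) (he : T.entry p q = [(k, M)])
    (hc : Commute (X D q (1 : F)) (X D k 1)) :
    Y.θ (Y.br (X D p 1) (X D q 1)) = X D k 1 := by
  obtain ⟨hk, -, -, -, -, e⟩ := comm_odd h hF hT hp hq he
  rw [Y.θ_br (h.X_mem_group hp _) (h.X_mem_group hq _), commutatorElement_def,
    X_inv_two h hF hp, X_inv_two h hF hq, e, hc.eq, mul_assoc]
  rw [show X D q (1 : F) * X D q 1 = 1 from ?_, mul_one]
  nth_rewrite 1 [← X_inv_two h hF hq]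
  exact inv_mul_cancel _

/-- The canonical element at every root. -/
theorem exists_dec {b p₀ q₀ : ℕ} {L : List (ℕ × ℕ × List ℕ)}
    (hb : C.base.map Prod.fst = [b]) (hL : T.chkDecs b p₀ q₀ L = true)
    (hZ : ∀ r < T.n, ∀ s < T.n, s ≠ r → s ≠ T.neg r →
      (∀ t u : F, Commute (X D r t) (X D s u)) → Y.Z r s) {k : ℕ} (hk : k < T.n) :
    ∃ g, Y.θ g = X D k 1 ∧ g * g = 1 ∧ ∀ p < T.n, ∀ q < T.n, ∀ M,
      T.entry p q = [(k, M)] → Y.br (X D p 1) (X D q 1) = g := by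
  have : CharP F 2 := charP_of_card Nat.prime_two (k := 1) (by rw [hF, pow_one])
  simp only [Tab.chkDecs, Bool.and_eq_true, decide_eq_true_eq, List.all_eq_true] at hL
  obtain ⟨⟨⟨⟨⟨⟨hbn, hp₀, hq₀⟩, hhit⟩, n1, n2⟩, hcomm⟩, hall⟩, hw⟩ := hL
  have hone : ∀ (i s : ℕ), (T.eta i s : F) * 1 = 1 := fun i s => by
    rcases T.eta_cases i s with e | e <;> simp [e, CharTwo.neg_eq]
  refine h.base_induction (P := fun k => ∃ g, Y.θ g = X D k 1 ∧ g * g = 1 ∧
    ∀ p < T.n, ∀ q < T.n, ∀ M, T.entry p q = [(k, M)] → Y.br (X D p 1) (X D q 1) = g)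
    (fun c hc => ?_) (fun i hi r hr _ ih => ?_) hk
  · have hcb : c.1 = b := by
      have : c.1 ∈ C.base.map Prod.fst := List.mem_map.2 ⟨c, hc, rfl⟩
      rw [hb] at this
      simpa using this
    rw [hcb]
    obtain ⟨M₀, he₀⟩ := h.entry_of_hits hT hp₀ hq₀ hhit
    have hcq := commute_of_terms_nil h (F := F) hq₀ hbn n1 n2 hcomm
    have hθ := θ_br_odd Y h hF hT hp₀ hq₀ he₀ (hcq 1 1)
    set g := Y.br (X D p₀ (1 : F)) (X D q₀ 1) with hg
    refine ⟨g, hθ, ?_, fun p hp q hq M he => ?_⟩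
    · have e1 := Y.br_mul_of_commute (h.X_mem_group hp₀ 1) (h.X_mem_group hq₀ 1)
        (h.X_mem_group hq₀ (1 : F))
        (Y.commute_of_Z h (hZ q₀ hq₀ b hbn n1 n2 hcq) (Y.θ_lft (h.X_mem_group hq₀ 1)) hθ)
      rw [h.X_add hq₀, CharTwo.add_self_eq_zero, h.X_zero hq₀] at e1
      rw [hg, ← e1, Y.br_eq (Y.θ_lft (h.X_mem_group hp₀ 1)) (map_one Y.θ),
        commutatorElement_one_right]
    · have hmem : T.hits p q b = true := by
        rcases h.terms_of_odd hT hp hq with ⟨e, -⟩ | ⟨k', M', -, -, e, -, hk'⟩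
        · rw [he] at e; simp at e
        · rw [he] at e
          simp only [List.cons.injEq, Prod.mk.injEq, and_true] at e
          rw [e.1]; exact hk'
      have h1 := allBelow_eq_true (allBelow_eq_true hall p hp) q hq
      rw [hmem, cond_true, List.any_eq_true] at h1
      obtain ⟨⟨p', q', w⟩, hmemL, hpq⟩ := h1
      simp only [Bool.and_eq_true] at hpq
      obtain ⟨⟨w1, w2⟩, wall⟩ := hw _ hmemL
      simp only at w1 w2 wall
      rw [← Nat.eq_of_beq_eq_true hpq.1, ← Nat.eq_of_beq_eq_true hpq.2, ← w1, ← w2]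
      clear hmemL w1 w2
      induction w with
      | nil => rfl
      | cons i w ih =>
        obtain ⟨hi, hfix, m1, m2, t1, t2⟩ := wall i List.mem_cons_self
        have hw' : WordOK T w := fun j hj => (wall j (List.mem_cons_of_mem _ hj)).1
        have hν : nS D F i ∈ D.group F := h.monomial_le_group (h.nS_mem_monomial hi)
        have hs := h.simple_lt hi
        have hm := Cert.neg_lt (T := T) hs
        have hmove : ∀ a, a < T.n →
            X D (T.refl i a) (1 : F) = nS D F i * X D a 1 * (nS D F i)⁻¹ :=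
          fun a ha => by rw [h.nS_conj_X hi ha, hone]
        rw [rword_cons, rword_cons, hmove _ (h.rword_lt hw' hp₀), hmove _ (h.rword_lt hw' hq₀)]
        have e2 := Y.conj_br (Y.lft (nS D F i)) (h.X_mem_group (h.rword_lt hw' hp₀) (1 : F))
          (h.X_mem_group (h.rword_lt hw' hq₀) 1)
        rw [Y.θ_lft hν] at e2
        rw [← e2, ih fun j hj => wall j (List.mem_cons_of_mem _ hj)]
        have hz1 : Y.Z (T.simple i) b :=
          hZ _ hs _ hbn m1 m2 (commute_of_terms_nil h hs hbn m1 m2 t1)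
        have m2' : b ≠ T.neg (T.neg (T.simple i)) := by rwa [Cert.neg_neg hs]
        have hz2 : Y.Z (T.neg (T.simple i)) b :=
          hZ _ hm _ hbn m2 m2' (commute_of_terms_nil h hm hbn m2 m2' t2)
        set a := Y.lft (X D (T.simple i) (1 : F))
        set a' := Y.lft (X D (T.neg (T.simple i)) (-1⁻¹ : F))
        have ea : Y.θ (a * a' * a) = nS D F i := by
          rw [map_mul, map_mul, Y.θ_lft (h.X_mem_group hs _), Y.θ_lft (h.X_mem_group hm _), nS,
            h.simple_eq hi, nU, h.neg_eq hs]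
        rw [Y.conj_congr ((Y.θ_lft hν).trans ea.symm)]
        have c1 : Commute a g := Y.commute_of_Z h hz1 (Y.θ_lft (h.X_mem_group hs _)) hθ
        have c2 : Commute a' g := Y.commute_of_Z h hz2 (Y.θ_lft (h.X_mem_group hm _)) hθ
        rw [((c1.mul_left c2).mul_left c1).eq, mul_inv_cancel_right]
  · obtain ⟨g, hθ, hg2, hdec⟩ := ih
    have hν : nS D F i ∈ D.group F := h.monomial_le_group (h.nS_mem_monomial hi)
    refine ⟨Y.lft (nS D F i) * g * (Y.lft (nS D F i))⁻¹, ?_, ?_, fun p hp q hq M he => ?_⟩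
    · rw [map_mul, map_mul, map_inv, Y.θ_lft hν, hθ, h.nS_conj_X hi hr, hone]
    · calc _ = Y.lft (nS D F i) * (g * g) * (Y.lft (nS D F i))⁻¹ := by simp [mul_assoc]
        _ = 1 := by rw [hg2, mul_one, mul_inv_cancel]
    · have e1 := h.conj_entry hi hp hq
      rw [he] at e1
      simp only [List.zipIdx_cons, List.zipIdx_nil, List.map_cons, List.map_nil,
        h.refl_refl hi hr] at e1
      have hp' := h.refl_lt hi hp
      have hq' := h.refl_lt hi hq
      rw [← hdec _ hp' _ hq' _ e1, Y.conj_br _ (h.X_mem_group hp' _) (h.X_mem_group hq' _),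
        Y.θ_lft hν, h.nS_conj_X hi hp', h.nS_conj_X hi hq', hone, hone, h.refl_refl hi hp,
        h.refl_refl hi hq]

/-- The relations over two elements. -/
theorem rel_two {b p₀ q₀ : ℕ} {L : List (ℕ × ℕ × List ℕ)}
    (hb : C.base.map Prod.fst = [b]) (hL : T.chkDecs b p₀ q₀ L = true) {P : List PairCert}
    (hP : T.chkList C P = true) (hS : ∀ e ∈ P, T.commTerms e.r e.s = [] → Y.Z e.r e.s) :
    ∃ R : Rel D T F E, R.π = Y.θ := by
  classical
  have : CharP F 2 := charP_of_card Nat.prime_two (k := 1) (by rw [hF, pow_one])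
  refine Y.rel_of_list' h hP
    (fun K => ∀ p < T.n, ∀ q < T.n, ∀ k M, T.entry p q = [(k, M)] →
      K.x k 1 = Y.br (X D p 1) (X D q 1)) (fun e he => ?_) fun hZ => ?_
  · simp only [Tab.chkList, Bool.and_eq_true, List.all_eq_true, decide_eq_true_eq] at hP
    obtain ⟨⟨hr, hs, hne, hneg⟩, -⟩ := hP.2 e he
    rcases h.terms_of_odd hT hr hs with ⟨-, ec⟩ | ⟨k, M, -, hk, ee, ec, -⟩
    · exact ⟨fun _ => hS e he ec, fun hT' => absurd ec hT'⟩
    refine ⟨fun hc => ?_, fun _ K hK _ t u => ?_⟩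
    · exfalso
      obtain ⟨-, -, -, -, -, e2⟩ := comm_odd h hF hT (F := F) hr hs ee
      rw [(hc 1 1).eq, mul_assoc, h.X_add hr, CharTwo.add_self_eq_zero, h.X_zero hr, mul_one,
        left_eq_mul, h.X_eq_one_iff hk] at e2
      exact one_ne_zero e2
    · obtain ⟨-, hM, -, -, -, -⟩ := comm_odd h hF hT (F := F) hr hs ee
      have hx0 : ∀ q, q < T.n → K.x q 0 = 1 := fun q hq => K.lift.x_zero hq
      show K.x e.r (-t) * K.x e.s u * K.x e.r t = K.x e.s u * K.lift.terms e.r e.s t u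
      rw [RootLift.terms, ec]
      simp only [List.map_cons, List.map_nil, List.prod_cons, List.prod_nil, mul_one, pow_one, hM,
        one_mul, CharTwo.neg_eq]
      show _ = K.x e.s u * K.x k (t * u)
      rcases two_values hF t with rfl | rfl
      · rw [zero_mul, hx0 _ hr, hx0 _ hk, one_mul, mul_one]
      rcases two_values hF u with rfl | rfl
      · rw [mul_zero, hx0 _ hs, hx0 _ hk, mul_one, mul_one, K.x_add _ hr,
          CharTwo.add_self_eq_zero, hx0 _ hr]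
      have inv2 : ∀ q, q < T.n → (K.x q 1)⁻¹ = K.x q 1 := fun q hq => by
        rw [inv_eq_iff_mul_eq_one, K.x_add _ hq, CharTwo.add_self_eq_zero, hx0 _ hq]
      rw [one_mul, ← inv2 k hk, hK _ hr _ hs _ _ ee, ← Y.br_swap,
        Y.br_eq (K.θ_x _ hs 1) (K.θ_x _ hr 1), commutatorElement_def, inv2 _ hs, inv2 _ hr,
        mul_assoc (K.x e.s 1), mul_assoc (K.x e.s 1), ← mul_assoc (K.x e.s 1) (K.x e.s 1)]
      rw [show K.x e.s 1 * K.x e.s 1 = 1 by rw [K.x_add _ hs, CharTwo.add_self_eq_zero, hx0 _ hs],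
        one_mul]
  choose g hθ hg2 hdec using fun k (hk : k < T.n) => exists_dec Y h hF hT hb hL hZ hk
  have hdecs : ∀ k, k < T.n → ∃ p q M, p < T.n ∧ q < T.n ∧ T.entry p q = [(k, M)] := by
    intro k hk
    simp only [Tab.chkDecs, Bool.and_eq_true, decide_eq_true_eq] at hL
    obtain ⟨⟨⟨⟨⟨⟨-, hp₀, hq₀⟩, hhit⟩, -⟩, -⟩, -⟩, -⟩ := hL
    refine h.base_induction (P := fun k => ∃ p q M, p < T.n ∧ q < T.n ∧ T.entry p q = [(k, M)])
      (fun c hc => ?_) (fun i hi r hr _ ih => ?_) hk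
    · have : c.1 ∈ C.base.map Prod.fst := List.mem_map.2 ⟨c, hc, rfl⟩
      rw [hb, List.mem_singleton] at this
      obtain ⟨M, hM⟩ := h.entry_of_hits hT hp₀ hq₀ hhit
      exact ⟨p₀, q₀, M, hp₀, hq₀, by rw [this]; exact hM⟩
    · obtain ⟨p, q, M, hp, hq, he⟩ := ih
      have e1 := h.conj_entry hi hp hq
      rw [he] at e1
      simp only [List.zipIdx_cons, List.zipIdx_nil, List.map_cons, List.map_nil] at e1
      exact ⟨_, _, _, h.refl_lt hi hp, h.refl_lt hi hq, e1⟩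
  let x : ℕ → F → E := fun r t => if hr : r < T.n then (if t = 0 then 1 else g r hr) else 1
  have x0 : ∀ r, r < T.n → x r 0 = 1 := fun r hr => by simp [x, hr]
  have x1 : ∀ r (hr : r < T.n), x r 1 = g r hr := fun r hr => by simp [x, hr]
  refine ⟨⟨x, fun r hr t => ?_, fun r hr t u => ?_, fun i hi r hr t => ?_, fun w r hr t => ?_⟩,
    fun p hp q hq k M he => ?_⟩
  · rcases two_values hF t with rfl | rfl
    · rw [x0 r hr, map_one, h.X_zero hr]
    · rw [x1 r hr, hθ]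
  · rcases two_values hF t with rfl | rfl
    · rw [x0 r hr, one_mul, zero_add]
    rcases two_values hF u with rfl | rfl
    · rw [x0 r hr, mul_one, add_zero]
    · rw [CharTwo.add_self_eq_zero, x0 r hr, x1 r hr, hg2]
  · have hη : (T.eta i r : F) = 1 := by
      rcases T.eta_cases i r with e | e <;> simp [e, CharTwo.neg_eq]
    rw [hη, one_mul]
    rcases two_values hF t with rfl | rfl
    · rw [x0 r hr, x0 _ (h.refl_lt hi hr), mul_one, mul_inv_cancel]
    rw [x1 r hr, x1 _ (h.refl_lt hi hr)]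
    obtain ⟨p, q, M, hp, hq, he⟩ := hdecs r hr
    have e1 := h.conj_entry hi hp hq
    rw [he] at e1
    simp only [List.zipIdx_cons, List.zipIdx_nil, List.map_cons, List.map_nil] at e1
    rw [← hdec r hr p hp q hq M he,
      Y.conj_br _ (h.X_mem_group hp _) (h.X_mem_group hq _),
      Y.θ_lft (h.monomial_le_group (h.nS_mem_monomial hi)), h.nS_conj_X hi hp, h.nS_conj_X hi hq,
      ← hdec _ (h.refl_lt hi hr) _ (h.refl_lt hi hp) _ (h.refl_lt hi hq) _ e1]
    rcases T.eta_cases i p with a | a <;> rcases T.eta_cases i q with b | b <;>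
      simp [a, b, CharTwo.neg_eq]
  · have hw : ∀ j, w j = 1 := fun j => Units.ext <| by
      rcases two_values hF (w j : F) with e | e
      · exact absurd e (w j).ne_zero
      · exact e
    obtain rfl : w = 1 := funext hw
    have hχ : chi T (1 : Fin T.l → Fˣ) r = 1 := by
      rw [chi, charOf]
      refine Finset.prod_eq_one fun j _ => ?_
      unfold Cert.extC
      split <;> simp
    rw [hχ, one_mul, map_one]
    rw [Y.conj_congr (g' := 1) (by rw [Y.θ_lft (one_mem _), map_one]), inv_one, one_mul, mul_one]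
  · obtain ⟨hk, -⟩ := comm_odd h hF hT (F := F) hp hq he
    show x k 1 = _
    rw [x1 k hk, hdec k hk p hp q hq M he]

end Ext

/-- The decompositions of the highest root of type E6. -/
def decsStE6 : List (ℕ × ℕ × List ℕ) :=
  [(46, 70, []),
    (47, 69, [3]),
    (50, 66, [2, 3]),
    (48, 68, [4, 3]),
    (61, 55, [0, 2, 3]),
    (51, 65, [4, 2, 3]),
    (49, 67, [5, 4, 3]),
    (62, 54, [4, 0, 2, 3]),
    (53, 63, [3, 4, 2, 3]),
    (52, 64, [5, 4, 2, 3]),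
    (64, 52, [3, 4, 0, 2, 3]),
    (63, 53, [5, 4, 0, 2, 3]),
    (54, 62, [5, 3, 4, 2, 3]),
    (67, 49, [2, 3, 4, 0, 2, 3]),
    (65, 51, [5, 3, 4, 0, 2, 3]),
    (55, 61, [4, 5, 3, 4, 2, 3]),
    (68, 48, [5, 2, 3, 4, 0, 2, 3]),
    (66, 50, [4, 5, 3, 4, 0, 2, 3]),
    (69, 47, [4, 5, 2, 3, 4, 0, 2, 3]),
    (70, 46, [3, 4, 5, 2, 3, 4, 0, 2, 3])]

theorem decsStE6_ok : tabE6.chkOdd = true ∧ tabE6.chkDecs 71 46 70 decsStE6 = true := by
  refine ⟨?_, ?_⟩ <;> decide +kernel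

/-- The decompositions of the highest root of type E7. -/
def decsStE7 : List (ℕ × ℕ × List ℕ) :=
  [(93, 124, []),
    (94, 123, [2]),
    (95, 122, [3, 2]),
    (99, 118, [1, 3, 2]),
    (96, 121, [4, 3, 2]),
    (100, 117, [4, 1, 3, 2]),
    (97, 120, [5, 4, 3, 2]),
    (103, 114, [3, 4, 1, 3, 2]),
    (101, 116, [5, 4, 1, 3, 2]),
    (98, 119, [6, 5, 4, 3, 2]),
    (109, 108, [2, 3, 4, 1, 3, 2]),
    (104, 113, [5, 3, 4, 1, 3, 2]),
    (102, 115, [6, 5, 4, 1, 3, 2]),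
    (110, 107, [5, 2, 3, 4, 1, 3, 2]),
    (106, 111, [4, 5, 3, 4, 1, 3, 2]),
    (105, 112, [6, 5, 3, 4, 1, 3, 2]),
    (112, 105, [4, 5, 2, 3, 4, 1, 3, 2]),
    (111, 106, [6, 5, 2, 3, 4, 1, 3, 2]),
    (107, 110, [6, 4, 5, 3, 4, 1, 3, 2]),
    (115, 102, [3, 4, 5, 2, 3, 4, 1, 3, 2]),
    (113, 104, [6, 4, 5, 2, 3, 4, 1, 3, 2]),
    (108, 109, [5, 6, 4, 5, 3, 4, 1, 3, 2]),
    (119, 98, [1, 3, 4, 5, 2, 3, 4, 1, 3, 2]),
    (116, 101, [6, 3, 4, 5, 2, 3, 4, 1, 3, 2]),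
    (114, 103, [5, 6, 4, 5, 2, 3, 4, 1, 3, 2]),
    (120, 97, [6, 1, 3, 4, 5, 2, 3, 4, 1, 3, 2]),
    (117, 100, [5, 6, 3, 4, 5, 2, 3, 4, 1, 3, 2]),
    (121, 96, [5, 6, 1, 3, 4, 5, 2, 3, 4, 1, 3, 2]),
    (118, 99, [4, 5, 6, 3, 4, 5, 2, 3, 4, 1, 3, 2]),
    (122, 95, [4, 5, 6, 1, 3, 4, 5, 2, 3, 4, 1, 3, 2]),
    (123, 94, [3, 4, 5, 6, 1, 3, 4, 5, 2, 3, 4, 1, 3, 2]),
    (124, 93, [2, 3, 4, 5, 6, 1, 3, 4, 5, 2, 3, 4, 1, 3, 2])]

theorem decsStE7_ok : tabE7.chkOdd = true ∧ tabE7.chkDecs 125 93 124 decsStE7 = true := by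
  refine ⟨?_, ?_⟩ <;> decide +kernel

/-- The decompositions of the highest root of type E8. -/
def decsStE8 : List (ℕ × ℕ × List ℕ) :=
  [(120, 238, []),
    (122, 237, [6]),
    (125, 236, [5, 6]),
    (129, 235, [4, 5, 6]),
    (134, 234, [3, 4, 5, 6]),
    (146, 232, [1, 3, 4, 5, 6]),
    (140, 233, [2, 3, 4, 5, 6]),
    (151, 231, [2, 1, 3, 4, 5, 6]),
    (168, 225, [0, 2, 3, 4, 5, 6]),
    (173, 224, [0, 2, 1, 3, 4, 5, 6]),
    (155, 230, [3, 2, 1, 3, 4, 5, 6]),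
    (177, 223, [3, 0, 2, 1, 3, 4, 5, 6]),
    (158, 229, [4, 3, 2, 1, 3, 4, 5, 6]),
    (187, 218, [2, 3, 0, 2, 1, 3, 4, 5, 6]),
    (180, 222, [4, 3, 0, 2, 1, 3, 4, 5, 6]),
    (160, 228, [5, 4, 3, 2, 1, 3, 4, 5, 6]),
    (190, 217, [4, 2, 3, 0, 2, 1, 3, 4, 5, 6]),
    (182, 221, [5, 4, 3, 0, 2, 1, 3, 4, 5, 6]),
    (161, 227, [6, 5, 4, 3, 2, 1, 3, 4, 5, 6]),
    (196, 213, [3, 4, 2, 3, 0, 2, 1, 3, 4, 5, 6]),
    (192, 216, [5, 4, 2, 3, 0, 2, 1, 3, 4, 5, 6]),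
    (183, 220, [6, 5, 4, 3, 0, 2, 1, 3, 4, 5, 6]),
    (206, 203, [1, 3, 4, 2, 3, 0, 2, 1, 3, 4, 5, 6]),
    (198, 212, [5, 3, 4, 2, 3, 0, 2, 1, 3, 4, 5, 6]),
    (193, 215, [6, 5, 4, 2, 3, 0, 2, 1, 3, 4, 5, 6]),
    (208, 202, [5, 1, 3, 4, 2, 3, 0, 2, 1, 3, 4, 5, 6]),
    (201, 209, [4, 5, 3, 4, 2, 3, 0, 2, 1, 3, 4, 5, 6]),
    (199, 211, [6, 5, 3, 4, 2, 3, 0, 2, 1, 3, 4, 5, 6]),
    (211, 199, [4, 5, 1, 3, 4, 2, 3, 0, 2, 1, 3, 4, 5, 6]),
    (209, 201, [6, 5, 1, 3, 4, 2, 3, 0, 2, 1, 3, 4, 5, 6]),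
    (202, 208, [6, 4, 5, 3, 4, 2, 3, 0, 2, 1, 3, 4, 5, 6]),
    (215, 193, [3, 4, 5, 1, 3, 4, 2, 3, 0, 2, 1, 3, 4, 5, 6]),
    (212, 198, [6, 4, 5, 1, 3, 4, 2, 3, 0, 2, 1, 3, 4, 5, 6]),
    (203, 206, [5, 6, 4, 5, 3, 4, 2, 3, 0, 2, 1, 3, 4, 5, 6]),
    (220, 183, [2, 3, 4, 5, 1, 3, 4, 2, 3, 0, 2, 1, 3, 4, 5, 6]),
    (216, 192, [6, 3, 4, 5, 1, 3, 4, 2, 3, 0, 2, 1, 3, 4, 5, 6]),
    (213, 196, [5, 6, 4, 5, 1, 3, 4, 2, 3, 0, 2, 1, 3, 4, 5, 6]),
    (227, 161, [0, 2, 3, 4, 5, 1, 3, 4, 2, 3, 0, 2, 1, 3, 4, 5, 6]),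
    (221, 182, [6, 2, 3, 4, 5, 1, 3, 4, 2, 3, 0, 2, 1, 3, 4, 5, 6]),
    (217, 190, [5, 6, 3, 4, 5, 1, 3, 4, 2, 3, 0, 2, 1, 3, 4, 5, 6]),
    (228, 160, [6, 0, 2, 3, 4, 5, 1, 3, 4, 2, 3, 0, 2, 1, 3, 4, 5, 6]),
    (222, 180, [5, 6, 2, 3, 4, 5, 1, 3, 4, 2, 3, 0, 2, 1, 3, 4, 5, 6]),
    (218, 187, [4, 5, 6, 3, 4, 5, 1, 3, 4, 2, 3, 0, 2, 1, 3, 4, 5, 6]),
    (229, 158, [5, 6, 0, 2, 3, 4, 5, 1, 3, 4, 2, 3, 0, 2, 1, 3, 4, 5, 6]),
    (223, 177, [4, 5, 6, 2, 3, 4, 5, 1, 3, 4, 2, 3, 0, 2, 1, 3, 4, 5, 6]),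
    (230, 155, [4, 5, 6, 0, 2, 3, 4, 5, 1, 3, 4, 2, 3, 0, 2, 1, 3, 4, 5, 6]),
    (224, 173, [3, 4, 5, 6, 2, 3, 4, 5, 1, 3, 4, 2, 3, 0, 2, 1, 3, 4, 5, 6]),
    (231, 151, [3, 4, 5, 6, 0, 2, 3, 4, 5, 1, 3, 4, 2, 3, 0, 2, 1, 3, 4, 5, 6]),
    (225, 168, [1, 3, 4, 5, 6, 2, 3, 4, 5, 1, 3, 4, 2, 3, 0, 2, 1, 3, 4, 5, 6]),
    (233, 140, [1, 3, 4, 5, 6, 0, 2, 3, 4, 5, 1, 3, 4, 2, 3, 0, 2, 1, 3, 4, 5, 6]),
    (232, 146, [2, 3, 4, 5, 6, 0, 2, 3, 4, 5, 1, 3, 4, 2, 3, 0, 2, 1, 3, 4, 5, 6]),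
    (234, 134, [2, 1, 3, 4, 5, 6, 0, 2, 3, 4, 5, 1, 3, 4, 2, 3, 0, 2, 1, 3, 4, 5, 6]),
    (235, 129, [3, 2, 1, 3, 4, 5, 6, 0, 2, 3, 4, 5, 1, 3, 4, 2, 3, 0, 2, 1, 3, 4, 5, 6]),
    (236, 125, [4, 3, 2, 1, 3, 4, 5, 6, 0, 2, 3, 4, 5, 1, 3, 4, 2, 3, 0, 2, 1, 3, 4, 5, 6]),
    (237, 122, [5, 4, 3, 2, 1, 3, 4, 5, 6, 0, 2, 3, 4, 5, 1, 3, 4, 2, 3, 0, 2, 1, 3, 4, 5, 6]),
    (238, 120, [6, 5, 4, 3, 2, 1, 3, 4, 5, 6, 0, 2, 3, 4, 5, 1, 3, 4, 2, 3, 0, 2, 1, 3, 4, 5, 6])]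

theorem decsStE8_ok : tabE8.chkOdd = true ∧ tabE8.chkDecs 239 120 238 decsStE8 = true := by
  refine ⟨?_, ?_⟩ <;> decide +kernel

/-- Two elements: the E types. -/
theorem rel_two_E.{a, b} {K : Type a} [Field K] [Fintype K] (hF : Fintype.card K = 2)
    {D : ChevalleyDatum} (hD : D ∈ [chevE6, chevE7, chevE8]) :
    ∃ T C, Cert D T C ∧ Rel.Nbr T ∧
      ∀ (Z : Type b) [Group Z] (Y : Ext D K Z), ∃ L : Rel D T K Z, L.π = Y.θ := by
  have : CharP K 2 := charP_of_card Nat.prime_two (k := 1) (by rw [hF, pow_one])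
  simp only [List.mem_cons, List.not_mem_nil, or_false] at hD
  rcases hD with rfl | rfl | rfl
  · refine ⟨_, _, certE6, by unfold Rel.Nbr; decide +kernel, fun Z _ Y => ?_⟩
    have h1 : Y.Z 71 11 := Y.Z_of_chkSplit certE6 (p := 2) (a := 12) (b := 35) (by decide +kernel)
      fun d hd => absurd hd (by
        rw [show (tabE6.commTerms 12 35).tail = [] by decide +kernel]; exact List.not_mem_nil)
    have h2 : Y.Z 71 46 := Y.Z_of_chkSplit certE6 (p := 2) (a := 11) (b := 63) (by decide +kernel)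
      fun d hd => absurd hd (by
        rw [show (tabE6.commTerms 11 63).tail = [] by decide +kernel]; exact List.not_mem_nil)
    refine Y.rel_two certE6 hF decsStE6_ok.1 (by decide +kernel) decsStE6_ok.2 pairsStE6_ok.1
      fun e he ht => ?_
    simp only [pairsStE6, List.mem_cons, List.not_mem_nil, or_false] at he
    rcases he with rfl | rfl | rfl
    · exact absurd ht (by decide +kernel)
    · exact h1
    · exact h2
  · refine ⟨_, _, certE7, by unfold Rel.Nbr; decide +kernel, fun Z _ Y => ?_⟩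
    have h1 : Y.Z 125 33 := Y.Z_of_chkSplit certE7 (p := 2) (a := 34) (b := 61) (by decide +kernel)
      fun d hd => absurd hd (by
        rw [show (tabE7.commTerms 34 61).tail = [] by decide +kernel]; exact List.not_mem_nil)
    have h2 : Y.Z 125 93 := Y.Z_of_chkSplit certE7 (p := 2) (a := 33) (b := 108) (by decide +kernel)
      fun d hd => absurd hd (by
        rw [show (tabE7.commTerms 33 108).tail = [] by decide +kernel]; exact List.not_mem_nil)
    refine Y.rel_two certE7 hF decsStE7_ok.1 (by decide +kernel) decsStE7_ok.2 pairsStE7_ok.1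
      fun e he ht => ?_
    simp only [pairsStE7, List.mem_cons, List.not_mem_nil, or_false] at he
    rcases he with rfl | rfl | rfl
    · exact absurd ht (by decide +kernel)
    · exact h1
    · exact h2
  · refine ⟨_, _, certE8, by unfold Rel.Nbr; decide +kernel, fun Z _ Y => ?_⟩
    have h1 : Y.Z 239 13 := Y.Z_of_chkSplit certE8 (p := 2) (a := 20) (b := 77) (by decide +kernel)
      fun d hd => absurd hd (by
        rw [show (tabE8.commTerms 20 77).tail = [] by decide +kernel]; exact List.not_mem_nil)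
    have h2 : Y.Z 239 120 := Y.Z_of_chkSplit certE8 (p := 2) (a := 13) (b := 227) (by decide +kernel)
      fun d hd => absurd hd (by
        rw [show (tabE8.commTerms 13 227).tail = [] by decide +kernel]; exact List.not_mem_nil)
    refine Y.rel_two certE8 hF decsStE8_ok.1 (by decide +kernel) decsStE8_ok.2 pairsStE8_ok.1
      fun e he ht => ?_
    simp only [pairsStE8, List.mem_cons, List.not_mem_nil, or_false] at he
    rcases he with rfl | rfl | rfl
    · exact absurd ht (by decide +kernel)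
    · exact h1
    · exact h2

end CfsgLib.Chev

namespace CfsgLib.Chev

open Cfsg.Lie Matrix

/-- Central extensions over a finite field satisfy the relations (types E; B2, D4 and F4 with more
than two elements). -/
theorem rel_finite.{a, b} {K : Type a} [Field K] [Fintype K] {D : ChevalleyDatum}
    (hD : D ∈ [chevB2, chevD4, chevF4, chevE6, chevE7, chevE8])
    (h2 : Fintype.card K ≠ 2 ∨ D ∈ [chevE6, chevE7, chevE8]) :
    ∃ T C, Cert D T C ∧ Rel.Nbr T ∧
      ∀ (Z : Type b) [Group Z] (Y : Ext D K Z), ∃ L : Rel D T K Z, L.π = Y.θ := by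
  by_cases hq : Fintype.card K = 2
  · exact rel_two_E hq (h2.resolve_left (not_not_intro hq))
  · exact rel_of_card_ne_two hq hD

end CfsgLib.Chev
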