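import Cfsg.Agent.Lib.Chev.StMinE6
import Cfsg.Agent.Lib.Chev.StMinE7
import Cfsg.Agent.Lib.Chev.StTwo

/-!
The centres of the covers of types E6 and E7.
-/

set_option autoImplicit false
set_option maxRecDepth 100000

namespace CfsgLib.Chev

open Cfsg.Lie Matrix

/-- The kernel of an integer matrix on a finite cyclic group, from a diagonal form. -/
theorem card_ker_matHom {l : ℕ} {G : Type*} [CommGroup G] [Finite G] [IsCyclic G]
    (M U Ui V Vi : Matrix (Fin l) (Fin l) ℤ) (d : Fin l → ℕ) (hU : U * Ui = 1) (hV : Vi * V = 1)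
    (hD : V * M * U = Matrix.diagonal fun i => (d i : ℤ)) :
    Nat.card (matHom (G := G) M).ker = ∏ i, Nat.gcd (Nat.card G) (d i) := by
  have h1 := range_matHom_diag (G := G) M U Ui V Vi d hU hV hD
  have h2 : Nat.card (matHom (G := G) M).ker * Nat.card (matHom (G := G) M).range =
      Nat.card G ^ l := by
    rw [← Subgroup.index_ker, Subgroup.card_mul_index, Nat.card_fun, Nat.card_fin]
  exact Nat.eq_of_mul_eq_mul_right Nat.card_pos (h2.trans h1.symm)

namespace Cert

variable {D : ChevalleyDatum} {T : Tab} {C : Tab.Cover} (h : Cert D T C) (hnb : Rel.Nbr T)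
variable {K : Type*} [Field K] [Fintype K]
include h hnb

/-- The centre of the cover has the order of the kernel of the Cartan matrix. -/
theorem card_center_cover (M : MinRep) (hsq : M.chkSq = true) (hN : M.chkN T = true)
    (hM : M.chkMove T = true) (hB : M.chkBase T C = true) {i₀ : ℕ} (hi₀ : i₀ < T.l)
    (hT : M.chkTop T i₀ = true) {p : ℕ} (hp : p.Prime) (v : Fin T.l → ℤ)
    (hv : ∀ j : Fin T.l, (p : ℤ) ∣ ∑ i, cartanT T j i * v i) (hv0 : v ⟨i₀, hi₀⟩ = 1)
    (hcard : Nat.card (matHom (G := Kˣ) (cartanT T)).ker = Nat.gcd p (Fintype.card K - 1)) :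
    Nat.card (Subgroup.center (D.SteinbergCover K)) = Nat.gcd p (Fintype.card K - 1) := by
  classical
  set L := h.relOf (R := D.steinbergRelsAB K) le_rfl (steinbergRelsAB_subset D K)
  have hmul := L.mult_of_finite h hnb
  set k := (matHom (G := Kˣ) (cartanT T)).ker
  have hmap : Subgroup.center (D.SteinbergCover K) = k.map (L.torG h hnb hmul) := by
    rw [← L.ker_eq_center h hnb]
    refine le_antisymm (L.ker_le_map h hnb hmul) ?_
    rintro _ ⟨c, hc, rfl⟩
    rw [MonoidHom.mem_ker, L.π_torG h hnb hmul, ← MonoidHom.mem_ker, h.ker_torusHom]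
    exact hc
  rw [hmap]
  have hdvd : Nat.card (k.map (L.torG h hnb hmul)) ∣ Nat.gcd p (Fintype.card K - 1) :=
    hcard ▸ k.card_map_dvd _
  rcases (Nat.dvd_prime hp).1 (Nat.gcd_dvd_left p (Fintype.card K - 1)) with e | e
  · rw [e] at hdvd ⊢
    exact Nat.dvd_one.1 hdvd
  rw [e] at hdvd ⊢
  refine ((Nat.dvd_prime hp).1 hdvd).resolve_left fun h1 => ?_
  have hpk : p ∣ Fintype.card Kˣ := by
    rw [Fintype.card_units, ← e]
    exact Nat.gcd_dvd_right _ _
  have := Fact.mk hp
  obtain ⟨ω, hω⟩ := exists_prime_orderOf_dvd_card p hpk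
  let c : Fin T.l → Kˣ := fun i => ω ^ v i
  have hωp : ω ^ (p : ℤ) = 1 := by rw [zpow_natCast, ← hω, pow_orderOf_eq_one]
  have hc : c ∈ k := by
    refine MonoidHom.mem_ker.2 (funext fun j => ?_)
    rw [matHom_apply, Pi.one_apply]
    obtain ⟨m, hm⟩ := hv j
    have key : ∀ (s : Finset (Fin T.l)) (f : Fin T.l → ℤ),
        ω ^ ∑ i ∈ s, f i = ∏ i ∈ s, ω ^ f i := fun s f => by
      induction s using Finset.cons_induction with
      | empty => simp
      | cons a s ha ih => rw [Finset.sum_cons, Finset.prod_cons, _root_.zpow_add, ih]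
    calc ∏ i, c i ^ cartanT T j i = ω ^ ∑ i, cartanT T j i * v i := by
          rw [key]
          exact Finset.prod_congr rfl fun i _ => by rw [mul_comm, _root_.zpow_mul]
      _ = 1 := by rw [hm, _root_.zpow_mul, hωp, _root_.one_zpow]
  have h2 : L.torG h hnb hmul c = 1 := by
    have hb := Subgroup.card_eq_one.1 h1
    have : L.torG h hnb hmul c ∈ k.map (L.torG h hnb hmul) := ⟨c, hc, rfl⟩
    rwa [hb, Subgroup.mem_bot] at this
  have h3 := M.torG_col hsq h hN hM hB hT hi₀ hnb hmul h2
  simp only [c, hv0, _root_.zpow_one] at h3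
  rw [h3, orderOf_one] at hω
  exact hp.ne_one hω.symm

end Cert

variable {K : Type*} [Field K] [Fintype K]

theorem card_center_coverE6 :
    Nat.card (Subgroup.center (chevE6.SteinbergCover K)) = Nat.gcd 3 (Fintype.card K - 1) := by
  classical
  refine certE6.card_center_cover (by unfold Rel.Nbr; decide +kernel) minE6 minE6_sq minE6_n
    minE6_move minE6_base (i₀ := 0) (by decide +kernel) minE6_top Nat.prime_three
    (fun i => [1, 0, 2, 0, 1, 2].getD i.val 0) (by decide +kernel) (by decide +kernel) ?_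
  rw [card_ker_matHom (cartanT tabE6) (matOf _ snfUE6) (matOf _ snfUiE6) (matOf _ snfVE6)
    (matOf _ snfViE6) (fun i => [1, 1, 1, 1, 1, 3].getD i.1 0) (by decide +kernel)
    (by decide +kernel) (by decide +kernel), Nat.card_eq_fintype_card, Fintype.card_units]
  show ∏ i : Fin 6, Nat.gcd (Fintype.card K - 1) ([1, 1, 1, 1, 1, 3].getD i.1 0) = _
  simp [Fin.prod_univ_succ, Nat.gcd_comm (Fintype.card K - 1)]

theorem card_center_coverE7 :
    Nat.card (Subgroup.center (chevE7.SteinbergCover K)) = Nat.gcd 2 (Fintype.card K - 1) := by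
  classical
  refine certE7.card_center_cover (by unfold Rel.Nbr; decide +kernel) minE7 minE7_sq minE7_n
    minE7_move minE7_base (i₀ := 6) (by decide +kernel) minE7_top Nat.prime_two
    (fun i => [0, 1, 0, 0, 1, 0, 1].getD i.val 0) (by decide +kernel) (by decide +kernel) ?_
  rw [card_ker_matHom (cartanT tabE7) (matOf _ snfUE7) (matOf _ snfUiE7) (matOf _ snfVE7)
    (matOf _ snfViE7) (fun i => [1, 1, 1, 1, 1, 1, 2].getD i.1 0) (by decide +kernel)
    (by decide +kernel) (by decide +kernel), Nat.card_eq_fintype_card, Fintype.card_units]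
  show ∏ i : Fin 7, Nat.gcd (Fintype.card K - 1) ([1, 1, 1, 1, 1, 1, 2].getD i.1 0) = _
  simp [Fin.prod_univ_succ, Nat.gcd_comm (Fintype.card K - 1)]

/-- A finite group of order `gcd p n` is cyclic. -/
theorem equivGcd {G : Type*} [Group G] {p m : ℕ} (hp : p.Prime) (hG : Nat.card G = Nat.gcd p m) :
    Nonempty (G ≃* Multiplicative (ZMod (Nat.gcd p m))) := by
  rcases (Nat.dvd_prime hp).1 (Nat.gcd_dvd_left p m) with e | e
  · rw [e] at hG ⊢
    have h1 : IsCyclic G := by
      have := (Nat.card_eq_one_iff_unique.1 hG).1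
      infer_instance
    exact ⟨mulEquivOfCyclicCardEq (by simp [hG])⟩
  · rw [e] at hG ⊢
    have := Fact.mk hp
    have h1 : IsCyclic G := isCyclic_of_prime_card hG
    exact ⟨mulEquivOfCyclicCardEq (by simp [hG])⟩

end CfsgLib.Chev
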