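import Cfsg.Agent.Lib.Chev.Functorial
import Cfsg.Agent.Lib.Chev.DiagOrder
import Cfsg.Prelude.Def_ChevAutomorphisms

/-!
Fixed points of field automorphisms, when the Cartan matrix is unimodular.
-/

set_option autoImplicit false

namespace CfsgLib.Chev

open Cfsg.Lie Matrix

namespace Cert

variable {D : ChevalleyDatum} {T : Tab} {C : Tab.Cover} (h : Cert D T C) {F F₀ : Type*} [Field F]
  [Field F₀]
include h

/-- The fixed points in the group are the group over the fixed field. -/
theorem fixed_iff_range' {Mi : Matrix (Fin T.l) (Fin T.l) ℤ} {N : ℕ}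
    (hM : Mi * cartanT T = (N : ℤ) • 1) (hN : Function.Injective fun x : F => x ^ N)
    {σ : F →+* F} {f : F₀ →+* F} (hf : ∀ x, σ x = x ↔ ∃ y, f y = x) {g : GL D.Idx F} :
    g ∈ D.group F ∧ mapGL D σ g = g ↔ g ∈ (D.group F₀).map (mapGL D f) := by
  constructor
  · rintro ⟨hg, e⟩
    obtain ⟨a, ha, t, ht, et, rfl⟩ := h.fixed_decomp hg e
    refine mul_mem ?_ ?_
    · refine (Subgroup.closure_le _).2 ?_ ha
      rintro _ ⟨r, s, hr, hs, rfl⟩
      obtain ⟨y, rfl⟩ := (hf s).1 hs
      exact ⟨X D r y, h.X_mem_group hr y, h.X_map f r y⟩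
    · obtain ⟨c, hc, ec⟩ := h.mem_diagonalSubgroup_iff.1 ht
      have hval : ∀ j : Fin T.l, ∃ y : F₀, f y = charOf T c (T.simple j) := fun j => by
        refine (hf _).1 ?_
        have h1 := congrArg (fun x : GL D.Idx F => (x : Matrix D.Idx D.Idx F)
          (Sum.inr ⟨T.simple j, by rw [h.nroots_eq]; exact h.simple_lt j.2⟩)
          (Sum.inr ⟨T.simple j, by rw [h.nroots_eq]; exact h.simple_lt j.2⟩)) et
        simpa [ec, torus] using h1
      choose y hy using hval
      have hy0 : ∀ j, y j ≠ 0 := fun j e0 => charOf_ne_zero hc (T.simple j) (by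
        rw [← hy j, e0, map_zero])
      let y' : Fin T.l → F₀ˣ := fun j => Units.mk0 (y j) (hy0 j)
      let cu : Fin T.l → Fˣ := fun i => Units.mk0 (c i) (hc i i.2)
      have hcu : matHom (cartanT T) cu = fun j => Units.map f.toMonoidHom (y' j) := by
        funext j
        refine Units.ext ?_
        rw [coe_matHom_cartanT]
        simp only [Units.coe_map, y', Units.val_mk0]
        refine Eq.trans ?_ (hy j).symm
        refine Finset.prod_congr rfl fun i hi => ?_
        simp [extC, cu, Finset.mem_range.1 hi]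
      have hpow : ∀ i : Fin T.l, f ((matHom Mi y') i : F₀) = c i ^ N := by
        intro i
        have h1 : matHom Mi (matHom (cartanT T) cu) i = cu i ^ N := by
          rw [← matHom_mul, hM, matHom_apply, Finset.prod_eq_single i]
          · simp [Matrix.smul_apply]
          · intro j _ hj; simp [Matrix.smul_apply, Matrix.one_apply_ne hj.symm]
          · simp
        have h2 := congrArg Units.val h1
        rw [hcu] at h2
        rw [Units.val_pow_eq_pow_val] at h2
        refine Eq.trans ?_ h2
        simp [matHom_apply, Units.coe_prod, map_prod, Units.val_zpow_eq_zpow_val, map_zpow₀]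
      have hfix : ∀ i : Fin T.l, ∃ z : F₀, f z = c i := fun i => (hf _).1 (hN (by
        show σ (c i) ^ N = c i ^ N
        rw [← map_pow, ← hpow i]
        exact (hf _).2 ⟨_, rfl⟩))
      choose z hz using hfix
      let c₀ : Fin T.l → F₀ˣ := fun i => Units.mk0 (z i) fun e0 => hc i i.2 (by
        rw [← hz i, e0, map_zero])
      have hc₀ : ∀ i : Fin T.l, f (c₀ i : F₀) = c i := fun i => hz i
      have ht₀ : t = mapGL D f (torusHom (D := D) (T := T) c₀) := by
        refine Units.ext ?_
        rw [coe_mapGL]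
        show _ = (torus D (charOf T (extC T c₀))).map f
        rw [ec, torus_map]
        refine torus_congr D fun s _ => Finset.prod_congr rfl fun i hi => ?_
        have := hc₀ ⟨i, Finset.mem_range.1 hi⟩
        simp only [extC, dif_pos (Finset.mem_range.1 hi)]
        rw [this]
      exact ⟨_, h.diagonal_le_group (h.range_torusHom.le ⟨c₀, rfl⟩), ht₀.symm⟩
  · rintro ⟨g₀, hg₀, rfl⟩
    refine ⟨h.map_mem_group f hg₀, ?_⟩
    refine Units.ext (Matrix.ext fun i j => ?_)
    exact (hf _).2 ⟨_, rfl⟩

/-- The unimodular case. -/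
theorem fixed_iff_range {Mi : Matrix (Fin T.l) (Fin T.l) ℤ} (hM : Mi * cartanT T = 1)
    {σ : F →+* F} {f : F₀ →+* F} (hf : ∀ x, σ x = x ↔ ∃ y, f y = x) {g : GL D.Idx F} :
    g ∈ D.group F ∧ mapGL D σ g = g ↔ g ∈ (D.group F₀).map (mapGL D f) :=
  h.fixed_iff_range' (N := 1) (by rw [hM]; simp) (fun a b e => by simpa using e) hf

/-- Fixed points of a field automorphism of prime order. -/
theorem fieldAut_fixed' [Fintype F] {Mi : Matrix (Fin T.l) (Fin T.l) ℤ} {N : ℕ}
    (hM : Mi * cartanT T = (N : ℤ) • 1) (hN : Function.Injective fun x : F => x ^ N)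
    (φ : MulAut ↥(D.group F)) (hφ : D.IsFieldAut φ) {r : ℕ} (hr : r.Prime) (ho : orderOf φ = r) :
    ∃ (F₀ : Type) (_ : Field F₀) (_ : Fintype F₀), Fintype.card F = Fintype.card F₀ ^ r ∧
      Nonempty (↥((MulEquiv.toMonoidHom φ).eqLocus (MonoidHom.id ↥(D.group F))) ≃*
        ↥(D.group F₀)) := by
  classical
  obtain ⟨σ, hσ⟩ := hφ
  have hgen : D.group F = gen D F {r | r < T.n} := h.group_eq
  have key : ∀ g : ↥(D.group F), (φ g : GL D.Idx F) = mapGL D σ.toRingHom g := by
    rintro ⟨g, hg⟩
    have hg' : g ∈ gen D F {r | r < T.n} := hgen ▸ hg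
    induction hg' using Subgroup.closure_induction with
    | mem g hg' =>
      obtain ⟨s, hs, t, rfl⟩ := hg'
      rw [h.X_map]
      refine Units.ext ?_
      rw [hσ _ s t (h.nroots_eq ▸ hs) (h.coe_X s t), h.coe_X]
      rfl
    | one =>
      rw [show (⟨1, hg⟩ : ↥(D.group F)) = 1 from rfl, map_one]
      exact (map_one _).symm
    | mul a b ha hb iha ihb =>
      have ha' : a ∈ D.group F := hgen.ge ha
      have hb' : b ∈ D.group F := hgen.ge hb
      rw [show (⟨a * b, hg⟩ : ↥(D.group F)) = ⟨a, ha'⟩ * ⟨b, hb'⟩ from rfl, map_mul,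
        Subgroup.coe_mul, iha ha', ihb hb', Subgroup.coe_mul, map_mul]
    | inv a ha iha =>
      have ha' : a ∈ D.group F := hgen.ge ha
      rw [show (⟨a⁻¹, hg⟩ : ↥(D.group F)) = ⟨a, ha'⟩⁻¹ from rfl, map_inv, Subgroup.coe_inv,
        iha ha', Subgroup.coe_inv, map_inv]
  have hpow : ∀ (n : ℕ) (g : ↥(D.group F)),
      ((φ ^ n) g : GL D.Idx F) = mapGL D ((σ ^ n : RingAut F) : F ≃+* F).toRingHom g := by
    intro n
    induction n with
    | zero => intro g; exact Units.ext (Matrix.ext fun i j => rfl)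
    | succ n ih =>
      intro g
      rw [pow_succ', MulAut.mul_apply, key, ih]
      refine Units.ext (Matrix.ext fun i j => ?_)
      simp [pow_succ', RingAut.mul_apply]
  have h0 : 0 < T.n := by
    by_contra h0
    refine hr.one_lt.ne' (ho ▸ orderOf_eq_one_iff.2 (MulEquiv.ext fun g => ?_))
    have htriv : ∀ x ∈ gen D F {r | r < T.n}, x = 1 := by
      intro x hx
      induction hx using Subgroup.closure_induction with
      | mem g hg => obtain ⟨s, hs, -⟩ := hg; exact absurd (Nat.zero_lt_of_lt hs) h0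
      | one => rfl
      | mul a b _ _ ha hb => rw [ha, hb, mul_one]
      | inv a _ ha => rw [ha, inv_one]
    have : (g : GL D.Idx F) = 1 := htriv _ (hgen.le g.2)
    rw [show g = 1 from Subtype.ext this]
    simp
  have hord : orderOf (σ : RingAut F) = r := by
    rw [← ho, orderOf_eq_orderOf_iff]
    intro n
    constructor
    · intro e
      refine MulEquiv.ext fun g => Subtype.ext ?_
      rw [hpow, e]
      exact Units.ext (Matrix.ext fun i j => rfl)
    · intro e
      refine RingEquiv.ext fun t => ?_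
      have := hpow n ⟨X D 0 t, h.X_mem_group h0 t⟩
      rw [e, h.X_map] at this
      exact (h.X_inj h0 this).symm
  let A : Subgroup (RingAut F) := Subgroup.zpowers σ
  have hA : Nat.card A = r := by rw [Nat.card_zpowers, hord]
  have : Finite (RingAut F) := Finite.of_injective (fun σ : F ≃+* F => (σ : F → F)) DFunLike.coe_injective
  have : Fintype A := Fintype.ofFinite A
  let S := FixedPoints.subfield A F
  let eqv : Fin (Fintype.card S) ≃ S := (Fintype.equivFin S).symm
  let inst : Field (Fin (Fintype.card S)) := eqv.field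
  let f : Fin (Fintype.card S) →+* F := S.subtype.comp eqv.ringEquiv.toRingHom
  have hf : ∀ x, σ.toRingHom x = x ↔ ∃ y, f y = x := by
    intro x
    constructor
    · intro e
      have hx : x ∈ S := by
        intro a
        obtain ⟨n, hn⟩ := Subgroup.mem_zpowers_iff.1 a.2
        have hs : σ ∈ MulAction.stabilizer (RingAut F) x := e
        have := zpow_mem hs n
        rw [hn] at this
        exact this
      exact ⟨eqv.symm ⟨x, hx⟩, congrArg Subtype.val (eqv.apply_symm_apply ⟨x, hx⟩)⟩
    · rintro ⟨y, rfl⟩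
      exact (eqv y).2 ⟨σ, Subgroup.mem_zpowers σ⟩
  refine ⟨Fin (Fintype.card S), inst, inferInstance, ?_, ⟨?_⟩⟩
  · rw [Fintype.card_fin, Module.card_eq_pow_finrank (K := S) (V := F),
      FixedPoints.finrank_eq_card A F, ← Nat.card_eq_fintype_card (α := A), hA]
  · refine MulEquiv.trans ?_
      ((D.group (Fin (Fintype.card S))).equivMapOfInjective (mapGL D f) (mapGL_injective D f)).symm
    refine MulEquiv.trans (Subgroup.equivMapOfInjective _ (D.group F).subtype
      (Subgroup.subtype_injective _)) (MulEquiv.subgroupCongr (Subgroup.ext fun g => ?_))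
    rw [← h.fixed_iff_range' hM hN hf, Subgroup.mem_map]
    constructor
    · rintro ⟨g, hg, rfl⟩
      exact ⟨g.2, (key g).symm.trans (congrArg Subtype.val hg)⟩
    · rintro ⟨hg, e⟩
      exact ⟨⟨g, hg⟩, Subtype.ext ((key ⟨g, hg⟩).trans e), rfl⟩

/-- The unimodular case. -/
theorem fieldAut_fixed [Fintype F] {Mi : Matrix (Fin T.l) (Fin T.l) ℤ} (hM : Mi * cartanT T = 1)
    (φ : MulAut ↥(D.group F)) (hφ : D.IsFieldAut φ) {r : ℕ} (hr : r.Prime) (ho : orderOf φ = r) :
    ∃ (F₀ : Type) (_ : Field F₀) (_ : Fintype F₀), Fintype.card F = Fintype.card F₀ ^ r ∧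
      Nonempty (↥((MulEquiv.toMonoidHom φ).eqLocus (MonoidHom.id ↥(D.group F))) ≃*
        ↥(D.group F₀)) :=
  h.fieldAut_fixed' (N := 1) (by rw [hM]; simp) (fun a b e => by simpa using e) φ hφ hr ho

end Cert

end CfsgLib.Chev
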