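import Cfsg.Agent.Lib.Chev.Bruhat

/-!
Maps induced by homomorphisms of fields, and the elements fixed by such a map.
-/

set_option autoImplicit false

namespace CfsgLib.Chev

open Cfsg.Lie Matrix

variable {F K : Type*} [Field F] [Field K]

/-- Entrywise map. -/
noncomputable def mapGL (D : ChevalleyDatum) (f : F →+* K) : GL D.Idx F →* GL D.Idx K :=
  Units.map (f.mapMatrix : Matrix D.Idx D.Idx F →+* Matrix D.Idx D.Idx K).toMonoidHom

@[simp] lemma coe_mapGL (D : ChevalleyDatum) (f : F →+* K) (g : GL D.Idx F) :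
    (mapGL D f g : Matrix D.Idx D.Idx K) = (g : Matrix D.Idx D.Idx F).map f := rfl

lemma mapGL_injective (D : ChevalleyDatum) (f : F →+* K) : Function.Injective (mapGL D f) := by
  intro a b e
  refine Units.ext (Matrix.ext fun i j => f.injective ?_)
  exact congrArg (fun x : GL D.Idx K => (x : Matrix D.Idx D.Idx K) i j) e

lemma mapGL_eq_self_iff (D : ChevalleyDatum) (σ : F →+* F) (g : GL D.Idx F) :
    mapGL D σ g = g ↔ ∀ i j : D.Idx, σ ((g : Matrix D.Idx D.Idx F) i j) =
      (g : Matrix D.Idx D.Idx F) i j := by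
  constructor
  · intro e i j
    exact congrArg (fun x : GL D.Idx F => (x : Matrix D.Idx D.Idx F) i j) e
  · intro e; exact Units.ext (Matrix.ext e)

/-- Root elements with parameters fixed by `σ`. -/
def fixGen (D : ChevalleyDatum) (T : Tab) (σ : F →+* F) : Subgroup (GL D.Idx F) :=
  Subgroup.closure {g | ∃ r t, r < T.n ∧ σ t = t ∧ g = X D r t}

lemma X_mem_fixGen (D : ChevalleyDatum) {T : Tab} {σ : F →+* F} {r : ℕ} (hr : r < T.n) {t : F}
    (ht : σ t = t) : X D r t ∈ fixGen D T σ :=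
  Subgroup.subset_closure ⟨r, t, hr, ht, rfl⟩

namespace Cert

variable {D : ChevalleyDatum} {T : Tab} {C : Tab.Cover} (h : Cert D T C)
include h

lemma x_map_hom (f : F →+* K) {r : ℕ} (hr : r < T.n) (t : F) :
    (D.x F r t).map f = D.x K r (f t) := by
  ext a b
  rw [Matrix.map_apply, x_apply h.agrees hr, x_apply h.agrees hr, map_list_sum, List.map_map]
  refine congrArg List.sum (List.map_congr_left fun q _ => ?_)
  simp [apply_ite f]

lemma X_map (f : F →+* K) (r : ℕ) (t : F) : mapGL D f (X D r t) = X D r (f t) := by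
  refine Units.ext ?_
  rw [coe_mapGL, h.coe_X, h.coe_X]
  rcases lt_or_ge r T.n with hr | hr
  · exact h.x_map_hom f hr t
  · rw [x_of_le h.agrees hr, x_of_le h.agrees hr, Matrix.map_one _ f.map_zero f.map_one]

lemma X_inj {r : ℕ} (hr : r < T.n) {a b : F} (e : X D r a = X D r b) : a = b := by
  have h1 : X D r (a + -b) = 1 := by
    rw [← h.X_add hr, e, h.X_add hr, add_neg_cancel, h.X_zero hr]
  rw [h.X_eq_one_iff hr, ← sub_eq_add_neg, sub_eq_zero] at h1
  exact h1

lemma gen_map_le (f : F →+* K) (S : Set ℕ) : (gen D F S).map (mapGL D f) ≤ gen D K S := by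
  rw [gen, MonoidHom.map_closure, Subgroup.closure_le]
  rintro _ ⟨_, ⟨r, hr, t, rfl⟩, rfl⟩
  rw [h.X_map]
  exact X_mem_gen D hr _

lemma map_mem_gen (f : F →+* K) {S : Set ℕ} {g : GL D.Idx F} (hg : g ∈ gen D F S) :
    mapGL D f g ∈ gen D K S :=
  h.gen_map_le f S ⟨g, hg, rfl⟩

lemma map_mem_group (f : F →+* K) {g : GL D.Idx F} (hg : g ∈ D.group F) :
    mapGL D f g ∈ D.group K := by
  rw [h.group_eq] at hg ⊢
  exact h.map_mem_gen f hg

omit h in
lemma charOf_map (f : F →+* K) (c : ℕ → F) (s : ℕ) :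
    f (charOf T c s) = charOf T (fun i => f (c i)) s := by
  simp [charOf, map_prod, map_zpow₀]

omit h in
lemma torus_map (f : F →+* K) (c : ℕ → F) :
    (torus D (charOf T c)).map f = torus D (charOf T fun i => f (c i)) := by
  rw [torus, torus, Matrix.diagonal_map f.map_zero]
  congr 1
  funext a
  rcases a with a | a <;> simp [charOf_map]

lemma map_mem_diagonal (f : F →+* K) {g : GL D.Idx F} (hg : g ∈ D.diagonalSubgroup F) :
    mapGL D f g ∈ D.diagonalSubgroup K := by
  obtain ⟨c, hc, e⟩ := h.mem_diagonalSubgroup_iff.1 hg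
  refine h.mem_diagonalSubgroup_iff.2 ⟨fun i => f (c i), fun i hi => ?_, ?_⟩
  · exact (map_ne_zero f).2 (hc i hi)
  · rw [coe_mapGL, e, torus_map]

lemma nS_map (f : F →+* K) (i : ℕ) : mapGL D f (nS D F i) = nS D K i := by
  simp only [nS, nU, map_mul, h.X_map, map_one, map_neg, inv_one]

lemma nW_map (f : F →+* K) (w : List ℕ) : mapGL D f (nW D F w) = nW D K w := by
  simp only [nW, map_list_prod, List.map_map]
  exact congrArg List.prod (List.map_congr_left fun i _ => h.nS_map f i)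

lemma map_mem_borel (f : F →+* K) {g : GL D.Idx F} (hg : g ∈ D.borelSubgroup F) :
    mapGL D f g ∈ D.borelSubgroup K := by
  obtain ⟨u, hu, t, ht, rfl⟩ := h.mem_borel_iff.1 hg
  refine h.mem_borel_iff.2 ⟨_, ?_, _, h.map_mem_diagonal f ht, map_mul _ _ _⟩
  rw [h.posUnipotent_eq] at hu ⊢
  exact h.map_mem_gen f hu

lemma nS_mem_fixGen {σ : F →+* F} {i : ℕ} (hi : i < T.l) : nS D F i ∈ fixGen D T σ := by
  rw [nS, h.simple_eq hi, nU, h.agrees.neg_eq (h.simple_lt hi)]
  refine mul_mem (mul_mem (X_mem_fixGen D (h.simple_lt hi) (map_one σ))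
    (X_mem_fixGen D (neg_lt (T := T) (h.simple_lt hi)) ?_))
    (X_mem_fixGen D (h.simple_lt hi) (map_one σ))
  · simp

lemma nW_mem_fixGen {σ : F →+* F} {w : List ℕ} (hw : WordOK T w) :
    nW D F w ∈ fixGen D T σ :=
  list_prod_mem fun x hx => by
    obtain ⟨i, hi, rfl⟩ := List.mem_map.1 hx
    exact h.nS_mem_fixGen (hw i hi)

omit h in
lemma mem_word_of_prodX {σ : F →+* F} {L : List ℕ} (hL : ∀ r ∈ L, r < T.n) {t : ℕ → F}
    (ht : ∀ r ∈ L, σ (t r) = t r) : prodX D L t ∈ fixGen D T σ :=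
  list_prod_mem fun x hx => by
    obtain ⟨r, hr, rfl⟩ := List.mem_map.1 hx
    exact X_mem_fixGen D (hL r hr) (ht r hr)

lemma prodX_map (f : F →+* K) (L : List ℕ) (t : ℕ → F) :
    mapGL D f (prodX D L t) = prodX D L fun r => f (t r) := by
  simp only [prodX, map_list_prod, List.map_map]
  exact congrArg List.prod (List.map_congr_left fun r _ => h.X_map f r (t r))

lemma fixed_prodX {σ : F →+* F} {L : List ℕ} (hL : L.SortedLT) (hpos : ∀ r ∈ L, r ∈ posSet T)
    {t : ℕ → F} (e : mapGL D σ (prodX D L t) = prodX D L t) :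
    prodX D L t ∈ fixGen D T σ := by
  rw [h.prodX_map] at e
  exact mem_word_of_prodX (fun r hr => (hpos r hr).2) (h.prodX_inj L hL hpos _ _ e)

/-- Fixed diagonal elements normalize the fixed words. -/
lemma conj_fixGen {σ : F →+* F} {t : GL D.Idx F} (ht : t ∈ D.diagonalSubgroup F)
    (et : mapGL D σ t = t) {a : GL D.Idx F} (ha : a ∈ fixGen D T σ) :
    t * a * t⁻¹ ∈ fixGen D T σ := by
  induction ha using Subgroup.closure_induction with
  | mem a ha =>
    obtain ⟨r, s, hr, hs, rfl⟩ := ha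
    obtain ⟨z, hz, ez⟩ := h.conj_X_of_mem_diagonal ht hr 1
    obtain ⟨c0, hc0, e0⟩ := h.mem_diagonalSubgroup_iff.1 ht
    have hzfix : σ z = z := by
      have := congrArg (mapGL D σ) ez
      rw [map_mul, map_mul, map_inv, et, h.X_map, map_one, ez, h.X_map, mul_one] at this
      exact (h.X_inj hr this).symm
    have key : ∀ y : F, t * X D r y * t⁻¹ = X D r (charOf T c0 r * y) := by
      intro y
      rw [mul_inv_eq_iff_eq_mul]
      refine Units.ext ?_
      rw [Units.val_mul, Units.val_mul, h.coe_X, h.coe_X, e0,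
        h.torus_mul_x (h.isChar_charOf hc0) hr]
    have hzc : z = charOf T c0 r := by
      have := h.X_inj hr (ez.symm.trans (key 1))
      rwa [mul_one, mul_one] at this
    rw [key s, ← hzc]
    exact X_mem_fixGen D hr (by rw [map_mul, hzfix, hs])
  | one => rw [mul_one, mul_inv_cancel]; exact one_mem _
  | mul a b _ _ ha hb =>
    rw [show t * (a * b) * t⁻¹ = t * a * t⁻¹ * (t * b * t⁻¹) by group]
    exact mul_mem ha hb
  | inv a _ ha =>
    rw [show t * a⁻¹ * t⁻¹ = (t * a * t⁻¹)⁻¹ by group]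
    exact inv_mem ha

lemma diagonal_comm {a b : GL D.Idx F} (ha : a ∈ D.diagonalSubgroup F)
    (hb : b ∈ D.diagonalSubgroup F) : a * b = b * a := by
  obtain ⟨c, -, ec⟩ := h.mem_diagonalSubgroup_iff.1 ha
  obtain ⟨c', -, ec'⟩ := h.mem_diagonalSubgroup_iff.1 hb
  refine Units.ext ?_
  rw [Units.val_mul, Units.val_mul, ec, ec', torus_mul, torus_mul]
  exact torus_congr D fun s _ => mul_comm _ _

/-- A fixed element is a fixed word times a fixed diagonal element. -/
theorem fixed_decomp {σ : F →+* F} {g : GL D.Idx F} (hg : g ∈ D.group F)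
    (e : mapGL D σ g = g) :
    ∃ a ∈ fixGen D T σ, ∃ t ∈ D.diagonalSubgroup F, mapGL D σ t = t ∧ g = a * t := by
  obtain ⟨b, hb, n, hn, v, hv, rfl⟩ := h.bruhat_exists hg
  obtain ⟨w, hw, t₁, ht₁, rfl⟩ := h.exists_word_of_monomial hn
  have hπ : ∀ r < T.n, rword T w r < T.n ∧ Maps D (nW D F w) r (rword T w r) := fun r hr =>
    ⟨h.rword_lt hw hr, h.Maps_nW hw hr⟩
  have hv' : v ∈ gen D F (posSet T \ {r | T.half ≤ rword T w r}) := by
    rwa [h.cellUnipotent_eq (π := rword T w) fun r hr =>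
      ⟨h.rword_lt hw hr, Maps_mul (h.Maps_diagonal ht₁ hr) (h.Maps_nW hw hr)⟩] at hv
  -- move the diagonal part to the left
  have hnw := h.nW_mem_monomial (F := F) hw
  have ht₁' : nW D F w * t₁ * (nW D F w)⁻¹ ∈ D.diagonalSubgroup F :=
    ((Subgroup.mem_normalizer_iff.1 (h.monomial_le_normalizer_diagonal hnw)) t₁).1 ht₁
  set b' := b * (nW D F w * t₁ * (nW D F w)⁻¹) with hb'
  have hbm : b' ∈ D.borelSubgroup F := mul_mem hb (Subgroup.mem_sup_right ht₁')
  have eg : b * (nW D F w * t₁) * v = b' * nW D F w * v := by rw [hb']; group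
  rw [eg] at e ⊢
  rw [map_mul, map_mul, h.nW_map] at e
  obtain ⟨-, huniq⟩ := h.bruhat_unique (h.map_mem_borel σ hbm) hbm hnw hnw
    (by rw [h.cellUnipotent_eq hπ]; exact h.map_mem_gen σ hv')
    (by rw [h.cellUnipotent_eq hπ]; exact hv') e
  obtain ⟨eb, ev⟩ := huniq rfl
  obtain ⟨u, hu, t, ht, hut⟩ := h.mem_borel_iff.1 hbm
  rw [hut, map_mul] at eb
  have hσu : mapGL D σ u ∈ D.posUnipotent F := by
    rw [h.posUnipotent_eq] at hu ⊢; exact h.map_mem_gen σ hu
  have hone : u⁻¹ * mapGL D σ u = 1 := by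
    have : u⁻¹ * mapGL D σ u ∈ D.posUnipotent F ⊓ D.diagonalSubgroup F := by
      refine Subgroup.mem_inf.2 ⟨mul_mem (inv_mem hu) hσu, ?_⟩
      rw [show u⁻¹ * mapGL D σ u = t * (mapGL D σ t)⁻¹ by
        rw [eq_mul_inv_iff_mul_eq, mul_assoc, eb, inv_mul_cancel_left]]
      exact mul_mem ht (inv_mem (h.map_mem_diagonal σ ht))
    rwa [h.posUnipotent_inf_diagonal, Subgroup.mem_bot] at this
  have eu : mapGL D σ u = u := (inv_mul_eq_one.1 hone).symm
  rw [eu] at eb
  have et : mapGL D σ t = t := mul_left_cancel eb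
  obtain ⟨c, rfl⟩ := h.mem_posUnipotent_iff.1 hu
  have hufix : prodX D (posList T) c ∈ fixGen D T σ :=
    h.fixed_prodX sortedLT_posList (fun r hr => mem_posList.1 hr) eu
  have hvfix : v ∈ fixGen D T σ := by
    have hv2 : v ∈ D.posUnipotent F := by
      rw [h.posUnipotent_eq]; exact gen_mono D Set.sdiff_subset hv'
    obtain ⟨c', rfl⟩ := h.mem_posUnipotent_iff.1 hv2
    exact h.fixed_prodX sortedLT_posList (fun r hr => mem_posList.1 hr) ev
  have hn := fun a (ha : a ∈ fixGen D T σ) => h.conj_fixGen ht et ha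
  refine ⟨_, mul_mem hufix (hn _ (mul_mem (h.nW_mem_fixGen hw) hvfix)), t, ht, et, ?_⟩
  rw [hut]
  generalize prodX D (posList T) c = x
  generalize nW D F w = y
  group

lemma nW_conj_X_one : ∀ {w : List ℕ}, WordOK T w → ∀ {r : ℕ}, r < T.n →
    ∃ e : F, (e = 1 ∨ e = -1) ∧
      nW D F w * X D r 1 * (nW D F w)⁻¹ = X D (rword T w r) e := by
  intro w
  induction w with
  | nil => intro _ r _; exact ⟨1, Or.inl rfl, by simp [nW, rword]⟩
  | cons i w ih =>
    intro hw r hr
    obtain ⟨e, he, hc⟩ := ih hw.tail hr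
    have hi := hw.head
    refine ⟨(T.eta i (rword T w r) : F) * e, ?_, ?_⟩
    · rcases T.eta_cases i (rword T w r) with a | a <;> rcases he with rfl | rfl <;> simp [a]
    · rw [nW_cons, _root_.mul_inv_rev,
        show nS D F i * nW D F w * X D r 1 * ((nW D F w)⁻¹ * (nS D F i)⁻¹) =
          nS D F i * (nW D F w * X D r 1 * (nW D F w)⁻¹) * (nS D F i)⁻¹ by group,
        hc, h.nS_conj_X hi (h.rword_lt hw.tail hr), rword_cons]

lemma mem_borel_of_commute {g : GL D.Idx F} (hg : g ∈ D.group F)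
    (hc : ∀ r < T.n, X D r (1 : F) * g = g * X D r 1) : g ∈ D.borelSubgroup F := by
  obtain ⟨b, hb, n, hn, u, hu, rfl⟩ := h.bruhat_exists hg
  obtain ⟨w, hw, t₁, ht₁, rfl⟩ := h.exists_word_of_monomial hn
  have hπ : ∀ r < T.n, rword T w r < T.n ∧ Maps D (nW D F w * t₁) r (rword T w r) := fun r hr =>
    ⟨h.rword_lt hw hr, Maps_mul (h.Maps_diagonal ht₁ hr) (h.Maps_nW hw hr)⟩
  by_cases hpos : ∀ i < T.l, T.half ≤ rword T w (T.simple i)
  · have hd : nW D F w * t₁ ∈ D.diagonalSubgroup F := mul_mem (h.nW_mem_diagonal hw hpos) ht₁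
    refine mul_mem (mul_mem hb (Subgroup.mem_sup_right hd)) (Subgroup.mem_sup_left ?_)
    rw [h.cellUnipotent_eq hπ] at hu
    rw [h.posUnipotent_eq]
    exact gen_mono D Set.sdiff_subset hu
  · exfalso
    simp only [not_forall] at hpos
    obtain ⟨i, hi, hneg⟩ := hpos
    obtain ⟨hp1, hp2, -, -⟩ := h.simple_spec hi
    have hr : T.simple i ∈ posSet T \ {r | T.half ≤ rword T w r} := ⟨⟨hp1, hp2⟩, hneg⟩
    have e : (X D (T.simple i) 1 * b) * (nW D F w * t₁) * u =
        b * (nW D F w * t₁) * (u * X D (T.simple i) 1) := by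
      have := hc _ hp2
      simp only [mul_assoc] at this ⊢
      exact this
    obtain ⟨-, huniq⟩ := h.bruhat_unique (mul_mem (h.X_mem_borel hp1 hp2 1) hb) hb hn hn hu
      (by
        rw [h.cellUnipotent_eq hπ] at hu ⊢
        exact mul_mem hu (X_mem_gen D hr 1)) e
    obtain ⟨eb, -⟩ := huniq rfl
    have : X D (T.simple i) (1 : F) = 1 := by
      rw [← mul_right_cancel (eb.trans (one_mul b).symm)]
    exact one_ne_zero ((h.X_eq_one_iff hp2 1).1 this)

/-- The elements `x_r(1)` have trivial centralizer. -/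
theorem eq_one_of_commute {g : GL D.Idx F} (hg : g ∈ D.group F)
    (hc : ∀ r < T.n, X D r (1 : F) * g = g * X D r 1) : g = 1 := by
  obtain ⟨w, hw, hneg⟩ := h.exists_longest
  have hwr : WordOK T w.reverse := fun i hi => hw i (List.mem_reverse.1 hi)
  set n := nW D F w with hnd
  have hn := h.monomial_le_group (h.nW_mem_monomial (F := F) hw)
  have hg' : n * g * n⁻¹ ∈ D.borelSubgroup F := by
    refine h.mem_borel_of_commute (mul_mem (mul_mem hn hg) (inv_mem hn)) fun r hr => ?_
    obtain ⟨e, he, hce⟩ := h.nW_conj_X_one (F := F) hw (h.rword_lt hwr hr)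
    rw [h.rword_reverse hw hr, ← hnd] at hce
    set s := rword T w.reverse r
    have hs := h.rword_lt hwr hr
    have h1 : Commute (n * X D s 1 * n⁻¹) (n * g * n⁻¹) := by
      refine Eq.trans ?_ (Eq.trans (congrArg (fun z => n * z * n⁻¹) (hc s hs)) ?_) <;> group
    rw [hce] at h1
    rcases he with rfl | rfl
    · exact h1
    · rw [← h.X_inv hr] at h1
      exact Commute.inv_left_iff.1 h1
  obtain ⟨u, hu, t, ht, e⟩ := h.mem_borel_iff.1 hg'
  have hneg' : g ∈ D.negUnipotent F ⊔ D.diagonalSubgroup F := by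
    rw [show g = (n⁻¹ * u * n) * (n⁻¹ * t * n) by
      have : g = n⁻¹ * (n * g * n⁻¹) * n := by group
      rw [e] at this
      rw [this]; group]
    refine Subgroup.mul_mem_sup ?_ ?_
    · rw [h.negUnipotent_eq]
      rw [h.posUnipotent_eq] at hu
      have := conj_gen_le (g := n⁻¹) (S' := {r | r < T.half})
        (fun r (hr : r ∈ posSet T) => ⟨rword T w.reverse r, ?_, ?_⟩) hu
      · simpa using this
      · show rword T w.reverse r < T.half
        by_contra hge
        have h1 := hneg _ (not_lt.1 hge) (h.rword_lt hwr hr.2)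
        rw [h.rword_reverse hw hr.2] at h1
        exact absurd hr.1 (not_le.2 h1)
      · have h1 := Maps_inv (h.Maps_nW (F := F) hw (h.rword_lt hwr hr.2))
        rwa [h.rword_reverse hw hr.2] at h1
    · have := (Subgroup.mem_normalizer_iff.1 (h.monomial_le_normalizer_diagonal
        (inv_mem (h.nW_mem_monomial (F := F) hw))) t).1 ht
      simpa using this
  have hgH : g ∈ D.diagonalSubgroup F := by
    rw [← h.borel_inf_negUnipotent_sup]
    exact Subgroup.mem_inf.2 ⟨h.mem_borel_of_commute hg hc, hneg'⟩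
  obtain ⟨c, hc0, ec⟩ := h.mem_diagonalSubgroup_iff.1 hgH
  have hval : ∀ r < T.n, charOf T c r = 1 := by
    intro r hr
    have key : g * X D r (1 : F) = X D r (charOf T c r * 1) * g := by
      refine Units.ext ?_
      rw [Units.val_mul, Units.val_mul, h.coe_X, h.coe_X, ec,
        h.torus_mul_x (h.isChar_charOf hc0) hr]
    rw [← hc r hr, mul_one] at key
    exact (h.X_inj hr (mul_right_cancel key)).symm
  refine Units.ext ?_
  rw [ec, Units.val_one, ← torus_one D]
  exact torus_congr D fun s hs => hval s (by rwa [← h.nroots_eq])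

/-- Fixed elements normalize every fixed group that contains the fixed words. -/
theorem fixed_normalizes {σ : F →+* F} {K : Subgroup (GL D.Idx F)} (hL : fixGen D T σ ≤ K)
    (hKG : K ≤ D.group F) (hK : ∀ k ∈ K, mapGL D σ k = k) {g : GL D.Idx F} (hg : g ∈ D.group F)
    (e : mapGL D σ g = g) {k : GL D.Idx F} (hk : k ∈ K) : g * k * g⁻¹ ∈ K := by
  obtain ⟨a, ha, t, ht, et, rfl⟩ := h.fixed_decomp hg e
  obtain ⟨b, hb, t', ht', -, rfl⟩ := h.fixed_decomp (hKG hk) (hK k hk)
  have ht'K : t' ∈ K := by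
    have := mul_mem (inv_mem (hL hb)) hk
    rwa [inv_mul_cancel_left] at this
  have hc := h.diagonal_comm ht ht'
  rw [show a * t * (b * t') * (a * t)⁻¹ = a * (t * b * t⁻¹ * (t * t' * t⁻¹)) * a⁻¹ by group,
    show t * t' * t⁻¹ = t' by rw [hc]; group]
  exact mul_mem (mul_mem (hL ha) (mul_mem (hL (h.conj_fixGen ht et hb)) ht'K)) (inv_mem (hL ha))

end Cert

end CfsgLib.Chev
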