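import Cfsg.Agent.Lib.Chev.StTorus
import Mathlib.RingTheory.IntegralDomain
import Mathlib.FieldTheory.Finite.Basic

/-!
Over a finite field the relations (R3) follow from (R1) and (R2).
-/

set_option autoImplicit false
set_option maxRecDepth 100000

namespace CfsgLib.Chev

open Cfsg.Lie Matrix

/-- In odd characteristic some non-square minus one is a non-zero square. -/
theorem exists_nonsquare_pred {F : Type*} [Field F] [Finite F] (h2 : ringChar F ≠ 2) :
    ∃ a : F, ¬ IsSquare a ∧ IsSquare (a - 1) ∧ a ≠ 1 := by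
  have : Fintype F := Fintype.ofFinite F
  by_contra hcon
  push Not at hcon
  have hsucc : ∀ s : F, IsSquare s → IsSquare (s + 1) := by
    intro s hs
    by_contra hn
    have he := hcon (s + 1) hn (by rwa [add_sub_cancel_right])
    exact hn (by rw [he]; exact IsSquare.one)
  have hadd : ∀ s u : F, IsSquare s → IsSquare u → IsSquare (s + u) := by
    intro s u hs hu
    by_cases hu0 : u = 0
    · rwa [hu0, add_zero]
    have := hu.mul (hsucc (u⁻¹ * s) (hu.inv.mul hs))
    rwa [mul_add, mul_inv_cancel_left₀ hu0, mul_one, add_comm, add_comm] at this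
  have hneg1 : IsSquare (-1 : F) := by
    have key : ∀ n : ℕ, IsSquare ((n : F)) := fun n => by
      induction n with
      | zero => simpa using IsSquare.zero
      | succ n ih => simpa using hsucc _ ih
    obtain ⟨p, hp⟩ := CharP.exists F
    have hp0 : p ≠ 0 := CharP.char_ne_zero_of_finite F p
    have := key (p - 1)
    rwa [Nat.cast_sub (by omega), CharP.cast_eq_zero, Nat.cast_one, zero_sub] at this
  obtain ⟨a, ha⟩ := FiniteField.exists_nonsquare h2
  -- every element is a difference of two squares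
  have h2' : (2 : F) ≠ 0 := Ring.two_ne_zero h2
  refine ha ?_
  have e : a = (((a + 1) / 2) * ((a + 1) / 2)) + (-1) * (((a - 1) / 2) * ((a - 1) / 2)) := by
    field_simp
    ring
  rw [e]
  exact hadd _ _ (IsSquare.mul_self _) (hneg1.mul (IsSquare.mul_self _))

namespace Rel

variable {D : ChevalleyDatum} {T : Tab} {F : Type*} [Field F] {Γ : Type*} [Group Γ]
variable (L : Rel D T F Γ) {C : Tab.Cover} (h : Cert D T C) (hnb : Nbr T)
include h hnb

lemma nG_conj_pos {i : ℕ} (hi : i < T.l) {t : F} (ht : t ≠ 0) (u : F) :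
    L.nG (T.simple i) t * L.x (T.simple i) u * (L.nG (T.simple i) t)⁻¹ =
      L.x (T.neg (T.simple i)) (-(t⁻¹ * t⁻¹) * u) := by
  have hp := h.simple_lt hi
  have hm := Cert.neg_lt (T := T) hp
  obtain ⟨c, hc, e⟩ := L.moves_nG h hnb hi hp ht
  rw [h.refl_simple hi] at e
  have e1 := congrArg L.π (e 1)
  rw [map_mul, map_mul, map_inv, L.π_nG h hi, L.π_x _ hp, L.π_x _ hm, mul_one,
    show nU D (T.simple i) t * X D (T.simple i) (1 : F) * (nU D (T.simple i) t)⁻¹ =
      X D (T.neg (T.simple i)) (-(t⁻¹ * t⁻¹)) from ?_] at e1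
  · rw [e, ← h.X_param_inj hm e1]
  · have en : nU D (T.simple i) t = hU D (T.simple i) t * nS D F i := by
      refine Units.ext ?_
      rw [Units.val_mul, h.coe_nU, h.coe_hU, h.coe_nS, ← h.simple_eq hi, h.nMat_eq_hMat_mul hi]
    rw [en, show hU D (T.simple i) t * nS D F i * X D (T.simple i) (1 : F) *
        (hU D (T.simple i) t * nS D F i)⁻¹ = hU D (T.simple i) t *
          (nS D F i * X D (T.simple i) (1 : F) * (nS D F i)⁻¹) * (hU D (T.simple i) t)⁻¹ by group,
      h.nS_conj_X hi hp, h.refl_simple hi, (h.refl_spec hi hp).2.2.2.2.2.2.1 rfl,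
      mul_inv_eq_iff_eq_mul]
    refine Units.ext ?_
    rw [Units.val_mul, Units.val_mul, h.coe_X, h.coe_X, h.coe_hU, h.hMat_mul_x hp ht hm,
      h.pairing_simple hi, (h.root_spec hp hi).2.2.2, (h.simple_spec hi).2.2.1]
    congr 2
    rw [show (-(2 : ℤ)) = -((2 : ℕ) : ℤ) from rfl, _root_.zpow_neg, zpow_natCast, pow_two, mul_inv]
    push_cast
    ring

lemma nG_conj_neg {i : ℕ} (hi : i < T.l) {t : F} (ht : t ≠ 0) (u : F) :
    L.nG (T.simple i) t * L.x (T.neg (T.simple i)) u * (L.nG (T.simple i) t)⁻¹ =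
      L.x (T.simple i) (-(t * t) * u) := by
  have := L.nG_conj_pos h hnb hi (neg_ne_zero.2 ht) (-(t * t) * u)
  rw [← L.nG_inv h hi t, inv_inv] at this
  rw [show -((-t)⁻¹ * (-t)⁻¹) * (-(t * t) * u) = u by field_simp] at this
  rw [← this]
  group

lemma hG_conj_nG {i : ℕ} (hi : i < T.l) {t : F} (ht : t ≠ 0) (u : F) :
    L.hG (T.simple i) t * L.nG (T.simple i) u * (L.hG (T.simple i) t)⁻¹ =
      L.nG (T.simple i) (t * t * u) := by
  have hp := h.simple_lt hi
  rw [nG, show L.hG (T.simple i) t * (L.x (T.simple i) u * L.x (T.neg (T.simple i)) (-u⁻¹) *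
      L.x (T.simple i) u) * (L.hG (T.simple i) t)⁻¹ =
      (L.hG (T.simple i) t * L.x (T.simple i) u * (L.hG (T.simple i) t)⁻¹) *
      (L.hG (T.simple i) t * L.x (T.neg (T.simple i)) (-u⁻¹) * (L.hG (T.simple i) t)⁻¹) *
      (L.hG (T.simple i) t * L.x (T.simple i) u * (L.hG (T.simple i) t)⁻¹) by group,
    L.hG_conj_x h hnb hi hp ht, L.hG_conj_x h hnb hi (Cert.neg_lt (T := T) hp) ht,
    (h.root_spec hp hi).2.2.2, (h.simple_spec hi).2.2.1, nG]
  have e2 : t ^ (2 : ℤ) = t * t := by rw [show (2 : ℤ) = ((2 : ℕ) : ℤ) from rfl, zpow_natCast, pow_two]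
  congr 2
  · rw [e2]
  · congr 1
    rw [_root_.zpow_neg, e2, mul_inv t t, mul_inv (t * t) u, mul_inv t t, mul_neg]
  · rw [e2]

lemma hG_conj_hG {i : ℕ} (hi : i < T.l) {t : F} (ht : t ≠ 0) (u : F) :
    L.hG (T.simple i) t * L.hG (T.simple i) u * (L.hG (T.simple i) t)⁻¹ =
      L.hG (T.simple i) (t * t * u) * (L.hG (T.simple i) (t * t))⁻¹ := by
  have e : L.hG (T.simple i) u = L.nG (T.simple i) u * L.nG (T.simple i) (-1) := rfl
  rw [e, show L.hG (T.simple i) t * (L.nG (T.simple i) u * L.nG (T.simple i) (-1)) *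
    (L.hG (T.simple i) t)⁻¹ = (L.hG (T.simple i) t * L.nG (T.simple i) u *
      (L.hG (T.simple i) t)⁻¹) * (L.hG (T.simple i) t * L.nG (T.simple i) (-1) *
      (L.hG (T.simple i) t)⁻¹) by group, L.hG_conj_nG h hnb hi ht, L.hG_conj_nG h hnb hi ht,
    mul_neg_one, ← L.nG_inv h hi (t * t), L.nG_eq_hG_mul h hi (t * t),
    L.nG_eq_hG_mul h hi (t * t * u)]
  group

/-- The key identity between the `n_p`. -/
lemma nG_identity {i : ℕ} (hi : i < T.l) {a b : F} (ha : a ≠ 0) (hb : b ≠ 0) (hab : a + b = 1) :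
    L.nG (T.simple i) (a * a) * L.nG (T.simple i) (-a) * L.nG (T.simple i) (-b) =
      L.nG (T.simple i) (-(a * b)) := by
  have hp := h.simple_lt hi
  have hm := Cert.neg_lt (T := T) hp
  have xn : ∀ e : F, L.x (T.neg (T.simple i)) e =
      L.x (T.simple i) e⁻¹ * L.nG (T.simple i) (-e⁻¹) * L.x (T.simple i) e⁻¹ := fun e => by
    rw [nG, inv_neg, _root_.neg_neg, inv_inv, ← mul_assoc, ← mul_assoc, L.x_add _ hp,
      add_neg_cancel, L.x_zero hp, one_mul, mul_assoc, L.x_add _ hp, neg_add_cancel, L.x_zero hp,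
      mul_one]
  have k0 : L.x (T.neg (T.simple i)) a⁻¹ * L.x (T.neg (T.simple i)) b⁻¹ =
      L.x (T.neg (T.simple i)) (a * b)⁻¹ := by
    rw [L.x_add _ hm]
    congr 1
    field_simp
    linear_combination hab
  rw [xn, xn, xn, inv_inv, inv_inv, inv_inv] at k0
  -- the middle
  have k1 : L.nG (T.simple i) (-a) * L.x (T.simple i) (a + b) =
      L.x (T.neg (T.simple i)) (-(a⁻¹ * a⁻¹)) * L.nG (T.simple i) (-a) := by
    rw [← mul_inv_eq_iff_eq_mul, hab, L.nG_conj_pos h hnb hi (neg_ne_zero.2 ha)]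
    congr 1
    rw [inv_neg]; ring
  have k2 : L.nG (T.simple i) (-a) * L.nG (T.simple i) (-b) * L.x (T.simple i) (-(b * b)) =
      L.x (T.simple i) (-(a * a)) * (L.nG (T.simple i) (-a) * L.nG (T.simple i) (-b)) := by
    rw [← mul_inv_eq_iff_eq_mul,
      show L.nG (T.simple i) (-a) * L.nG (T.simple i) (-b) * L.x (T.simple i) (-(b * b)) *
        (L.nG (T.simple i) (-a) * L.nG (T.simple i) (-b))⁻¹ = L.nG (T.simple i) (-a) *
          (L.nG (T.simple i) (-b) * L.x (T.simple i) (-(b * b)) * (L.nG (T.simple i) (-b))⁻¹) *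
          (L.nG (T.simple i) (-a))⁻¹ by group,
      L.nG_conj_pos h hnb hi (neg_ne_zero.2 hb), L.nG_conj_neg h hnb hi (neg_ne_zero.2 ha)]
    congr 1
    field_simp
  have k3 : L.x (T.simple i) (-(a * a)) * (L.nG (T.simple i) (-a) * L.nG (T.simple i) (-b)) *
      L.x (T.simple i) b =
      L.nG (T.simple i) (-a) * L.nG (T.simple i) (-b) * L.x (T.simple i) (a * b) := by
    rw [← k2, mul_assoc _ (L.x (T.simple i) (-(b * b))), L.x_add _ hp,
      show -(b * b) + b = a * b by linear_combination (-b) * hab]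
  have e : -(-(a⁻¹ * a⁻¹))⁻¹ = a * a := by rw [inv_neg, _root_.neg_neg, mul_inv, inv_inv]
  have e' : (-(a⁻¹ * a⁻¹))⁻¹ = -(a * a) := by rw [inv_neg, mul_inv, inv_inv]
  have k4 : L.x (T.simple i) a * L.nG (T.simple i) (-a) * L.x (T.simple i) a *
      (L.x (T.simple i) b * L.nG (T.simple i) (-b) * L.x (T.simple i) b) =
      L.x (T.simple i) (a * b) * (L.nG (T.simple i) (a * a) * L.nG (T.simple i) (-a) *
        L.nG (T.simple i) (-b)) * L.x (T.simple i) (a * b) := by
    calc L.x (T.simple i) a * L.nG (T.simple i) (-a) * L.x (T.simple i) a *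
          (L.x (T.simple i) b * L.nG (T.simple i) (-b) * L.x (T.simple i) b)
        = L.x (T.simple i) a * (L.nG (T.simple i) (-a) * (L.x (T.simple i) a *
            L.x (T.simple i) b)) * L.nG (T.simple i) (-b) * L.x (T.simple i) b := by
          simp [mul_assoc]
      _ = (L.x (T.simple i) a * L.x (T.simple i) (-(a * a))) * L.nG (T.simple i) (a * a) *
            (L.x (T.simple i) (-(a * a)) * (L.nG (T.simple i) (-a) * L.nG (T.simple i) (-b)) *
            L.x (T.simple i) b) := by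
          rw [L.x_add _ hp a b, k1, xn, e', _root_.neg_neg]
          simp [mul_assoc]
      _ = _ := by
          rw [k3, L.x_add _ hp, show a + -(a * a) = a * b by linear_combination (-a) * hab]
          simp [mul_assoc]
  rw [k4] at k0
  exact mul_left_cancel (mul_right_cancel k0)

variable [Finite F]

/-- The `h_p(t)` of one root commute. -/
lemma hG_commute {i : ℕ} (hi : i < T.l) {s t : F} (hs : s ≠ 0) (ht : t ≠ 0) :
    Commute (L.hG (T.simple i) s) (L.hG (T.simple i) t) := by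
  have hp := h.simple_lt hi
  obtain ⟨g, hg⟩ := IsCyclic.exists_generator (α := Fˣ)
  have key : ∀ u : Fˣ, ∃ k : ℕ, ∃ z ∈ Subgroup.center Γ,
      L.hG (T.simple i) (u : F) = z * L.hG (T.simple i) (g : F) ^ k := by
    intro u
    obtain ⟨k, hk⟩ := mem_powers_iff_mem_zpowers.2 (hg u)
    refine ⟨k, L.hG (T.simple i) (u : F) * (L.hG (T.simple i) (g : F) ^ k)⁻¹, ?_,
      (inv_mul_cancel_right _ _).symm⟩
    rw [← L.ker_eq_center h hnb, MonoidHom.mem_ker, map_mul, map_inv, map_pow, L.π_hG h hnb hi,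
      L.π_hG h hnb hi, mul_inv_eq_one]
    subst hk
    induction k with
    | zero =>
      have := h.hU_mul hp (one_ne_zero (α := F)) one_ne_zero
      rw [mul_one, mul_eq_left] at this
      simpa using this
    | succ k ih =>
      rw [pow_succ (hU D (T.simple i) (g : F)), ← ih,
        h.hU_mul hp (Units.ne_zero _) (Units.ne_zero _), ← Units.val_mul]
      congr 1
      simp only [pow_succ]
  obtain ⟨a, z, hz, e⟩ := key (Units.mk0 s hs)
  obtain ⟨b, z', hz', e'⟩ := key (Units.mk0 t ht)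
  simp only [Units.val_mk0] at e e'
  have c1 : ∀ y, Commute z y := fun y => (Subgroup.mem_center_iff.1 hz y).symm
  have c2 : ∀ y, Commute z' y := fun y => (Subgroup.mem_center_iff.1 hz' y).symm
  rw [e, e']
  exact (c1 _).mul_left ((c2 _).symm.mul_right ((Commute.refl _).pow_pow a b))

lemma hG_sq_mul {i : ℕ} (hi : i < T.l) {s : F} (hs : s ≠ 0) (hq : IsSquare s) {u : F} (hu : u ≠ 0) :
    L.hG (T.simple i) s * L.hG (T.simple i) u = L.hG (T.simple i) (s * u) := by
  obtain ⟨t, rfl⟩ := hq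
  have ht := (mul_ne_zero_iff.1 hs).1
  have e := L.hG_conj_hG h hnb hi ht u
  rw [(L.hG_commute h hnb hi ht hu).eq, mul_inv_cancel_right, eq_mul_inv_iff_mul_eq] at e
  rw [(L.hG_commute h hnb hi hs hu).eq, e]

/-- (R3) at the simple roots. -/
theorem mult_of_finite : L.Mult := by
  intro i hi s t hs ht
  have hc : Fintype F := Fintype.ofFinite F
  by_cases h2 : ringChar F = 2
  · exact L.hG_sq_mul h hnb hi hs (FiniteField.isSquare_of_char_two h2 s) ht
  by_cases hsq : IsSquare s
  · exact L.hG_sq_mul h hnb hi hs hsq ht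
  by_cases htq : IsSquare t
  · rw [(L.hG_commute h hnb hi hs ht).eq, L.hG_sq_mul h hnb hi ht htq hs, mul_comm]
  obtain ⟨a, haq, hbq, ha1⟩ := exists_nonsquare_pred h2
  have ha0 : a ≠ 0 := fun e => haq (e ▸ IsSquare.zero)
  have hb0 : a - 1 ≠ 0 := sub_ne_zero.2 ha1
  have key : L.hG (T.simple i) a * L.hG (T.simple i) a = L.hG (T.simple i) (a * a) := by
    have e := L.nG_identity h hnb hi ha0 (neg_ne_zero.2 hb0) (by ring : a + -(a - 1) = 1)
    rw [_root_.neg_neg, mul_neg, _root_.neg_neg, ← L.nG_inv h hi a, L.nG_eq_hG_mul h hi (a * a),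
      L.nG_eq_hG_mul h hi a, L.nG_eq_hG_mul h hi (a - 1),
      L.nG_eq_hG_mul h hi (a * (a - 1)), _root_.mul_inv_rev] at e
    have e1 : L.hG (T.simple i) (a * a) * (L.hG (T.simple i) a)⁻¹ * L.hG (T.simple i) (a - 1) =
        L.hG (T.simple i) (a * (a - 1)) := by
      refine mul_right_cancel (b := L.nG (T.simple i) 1) ?_
      rw [← e]; group
    rw [mul_comm a (a - 1), ← L.hG_sq_mul h hnb hi hb0 hbq ha0,
      (L.hG_commute h hnb hi hb0 ha0).eq, mul_left_inj, mul_inv_eq_iff_eq_mul] at e1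
    exact e1.symm
  have hq : ∀ x : F, x ≠ 0 → ¬ IsSquare x → IsSquare (x * a⁻¹) := by
    intro x hx hnx
    classical
    rw [← quadraticChar_one_iff_isSquare (mul_ne_zero hx (inv_ne_zero ha0)), map_mul,
      quadraticChar_neg_one_iff_not_isSquare.2 hnx,
      quadraticChar_neg_one_iff_not_isSquare.2 fun e => haq (by simpa using e.inv)]
    norm_num
  obtain ⟨s', hs', rfl⟩ : ∃ s', IsSquare s' ∧ s = s' * a :=
    ⟨s * a⁻¹, hq s hs hsq, by rw [inv_mul_cancel_right₀ ha0]⟩
  obtain ⟨t', ht', rfl⟩ : ∃ t', IsSquare t' ∧ t = t' * a :=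
    ⟨t * a⁻¹, hq t ht htq, by rw [inv_mul_cancel_right₀ ha0]⟩
  have hs0 := (mul_ne_zero_iff.1 hs).1
  have ht0 := (mul_ne_zero_iff.1 ht).1
  have haa : a * a ≠ 0 := mul_ne_zero ha0 ha0
  rw [← L.hG_sq_mul h hnb hi hs0 hs' ha0, ← L.hG_sq_mul h hnb hi ht0 ht' ha0,
    show s' * a * (t' * a) = s' * t' * (a * a) by ring,
    ← L.hG_sq_mul h hnb hi (mul_ne_zero hs0 ht0) (hs'.mul ht') haa,
    ← L.hG_sq_mul h hnb hi hs0 hs' ht0, ← key]
  calc L.hG (T.simple i) s' * L.hG (T.simple i) a * (L.hG (T.simple i) t' * L.hG (T.simple i) a)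
      = L.hG (T.simple i) s' * (L.hG (T.simple i) a * L.hG (T.simple i) t') *
          L.hG (T.simple i) a := by simp [mul_assoc]
    _ = _ := by rw [(L.hG_commute h hnb hi ha0 ht0).eq]; simp [mul_assoc]

omit [Finite F] in
/-- (R3) at every root. -/
theorem mult_all (hmul : L.Mult) {r : ℕ} (hr : r < T.n) {s t : F} (hs : s ≠ 0) (ht : t ≠ 0) :
    L.hG r s * L.hG r t = L.hG r (s * t) := by
  obtain ⟨g, hg, k, hk, hm⟩ : ∃ g ∈ L.NN, ∃ k < T.l, L.Moves g (T.simple k) r := by
    refine h.root_induction (P := fun r => ∃ g ∈ L.NN, ∃ k < T.l, L.Moves g (T.simple k) r)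
      (fun i hi => ⟨1, one_mem _, i, hi, L.moves_one _⟩) (fun i hi r hr ih => ?_) hr
    obtain ⟨g, hg, k, hk, hm⟩ := ih
    exact ⟨L.nG (T.simple i) 1 * g, mul_mem (Subgroup.subset_closure ⟨i, hi, 1, one_ne_zero, rfl⟩) hg,
      k, hk, hm.mul (L.moves_nG h hnb hi hr one_ne_zero)⟩
  obtain ⟨c, hc, e⟩ := L.conj_nG h hnb hg hk hr hm
  let φ : F → Γ := fun a => g * L.hG (T.simple k) a * g⁻¹
  have hn : ∀ y : F, L.nG r (-y) = (L.nG r y)⁻¹ := fun y => by
    simp only [nG, _root_.mul_inv_rev, L.x_inv hr, L.x_inv (Cert.neg_lt (T := T) hr), inv_neg,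
      mul_assoc, _root_.neg_neg]
  have hφ : ∀ a : F, φ a = L.hG r (c * a) * (L.hG r c)⁻¹ := fun a => by
    show g * L.hG (T.simple k) a * g⁻¹ = _
    rw [show g * L.hG (T.simple k) a * g⁻¹ = (g * L.nG (T.simple k) a * g⁻¹) *
      (g * L.nG (T.simple k) (-1) * g⁻¹) by rw [hG]; group, e, e, mul_neg_one, hn c, hG, hG]
    group
  have φmul : ∀ a b : F, a ≠ 0 → b ≠ 0 → φ a * φ b = φ (a * b) := fun a b ha hb => by
    show _ = g * L.hG (T.simple k) (a * b) * g⁻¹
    rw [← hmul k hk a b ha hb]; simp only [φ]; group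
  have h1 : L.hG r 1 = 1 := by rw [hG, hn, mul_inv_cancel]
  have hcφ : L.hG r c = φ c := by
    have a1 := φmul c c⁻¹ hc (inv_ne_zero hc)
    rw [mul_inv_cancel₀ hc, hφ c⁻¹, mul_inv_cancel₀ hc, h1, one_mul, hφ 1, mul_one,
      mul_inv_cancel, mul_inv_eq_one] at a1
    exact a1.symm
  have eq : ∀ y : F, y ≠ 0 → L.hG r y = φ y := by
    intro y hy
    have a1 := hφ (c⁻¹ * y)
    rw [mul_inv_cancel_left₀ hc, eq_mul_inv_iff_mul_eq, hcφ,
      φmul _ _ (mul_ne_zero (inv_ne_zero hc) hy) hc] at a1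
    rw [← a1, mul_comm (c⁻¹ * y) c, mul_inv_cancel_left₀ hc]
  rw [eq s hs, eq t ht, eq _ (mul_ne_zero hs ht), φmul s t hs ht]

end Rel

/-- Over a finite field the cover is Steinberg's group. -/
theorem cover_equiv_steinberg {K : Type*} [Field K] [Finite K] {D : ChevalleyDatum}
    (hD : D ∈ [chevG2, chevB2, chevD4, chevF4, chevE6, chevE7, chevE8]) :
    ∃ e : D.SteinbergCover K ≃* D.SteinbergGroup K,
      ∀ (r : ℕ) (t : K), e (D.scGen K r t) = D.stGen K r t := by
  obtain ⟨T, C, h, hnb⟩ := exists_cert_nbr hD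
  have hhi := steinbergRelsAB_subset D K
  set L := h.relOf (R := D.steinbergRelsAB K) le_rfl hhi
  have hmul : L.Mult := L.mult_of_finite h hnb
  have hof : ∀ g ∈ D.steinbergRels K,
      FreeGroup.lift (fun p => PresentedGroup.of (rels := D.steinbergRelsAB K) p) g = 1 := by
    intro g hg
    have e : ∀ w : FreeGroup (Fin D.nroots × K),
        FreeGroup.lift (fun p => PresentedGroup.of (rels := D.steinbergRelsAB K) p) w =
          PresentedGroup.mk (D.steinbergRelsAB K) w := fun w =>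
      DFunLike.congr_fun (FreeGroup.ext_hom
        (f := FreeGroup.lift (fun p => PresentedGroup.of (rels := D.steinbergRelsAB K) p))
        (g := PresentedGroup.mk (D.steinbergRelsAB K))
        fun a => by rw [FreeGroup.lift_apply_of]; rfl) w
    rw [e]
    rcases hg with hg | ⟨r, t₁, t₂, hr, h₁, h₂, rfl⟩
    · exact PresentedGroup.one_of_mem hg
    · have hr' : r < T.n := lt_of_lt_of_eq hr h.nroots_eq
      rw [map_mul, map_mul, map_inv, mul_inv_eq_one, ← h.relOf_hG le_rfl hhi hr',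
        ← h.relOf_hG le_rfl hhi hr', ← h.relOf_hG le_rfl hhi hr']
      exact L.mult_all h hnb hmul hr' h₁ h₂
  have hsub : ∀ g ∈ D.steinbergRelsAB K,
      FreeGroup.lift (fun p => PresentedGroup.of (rels := D.steinbergRels K) p) g = 1 := by
    intro g hg
    have e : FreeGroup.lift (fun p => PresentedGroup.of (rels := D.steinbergRels K) p) =
        PresentedGroup.mk (D.steinbergRels K) :=
      FreeGroup.ext_hom
        (f := FreeGroup.lift (fun p => PresentedGroup.of (rels := D.steinbergRels K) p))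
        (g := PresentedGroup.mk (D.steinbergRels K))
        fun a => by rw [FreeGroup.lift_apply_of]; rfl
    rw [e]
    exact PresentedGroup.one_of_mem (hhi hg)
  let f : D.SteinbergCover K →* D.SteinbergGroup K := PresentedGroup.toGroup hsub
  let g : D.SteinbergGroup K →* D.SteinbergCover K := PresentedGroup.toGroup hof
  have hgf : g.comp f = MonoidHom.id _ := PresentedGroup.ext fun x => by
    rw [MonoidHom.comp_apply, MonoidHom.id_apply]
    show g (PresentedGroup.toGroup hsub (PresentedGroup.of x)) = _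
    rw [PresentedGroup.toGroup.of]
    exact PresentedGroup.toGroup.of _
  have hfg : f.comp g = MonoidHom.id _ := PresentedGroup.ext fun x => by
    rw [MonoidHom.comp_apply, MonoidHom.id_apply]
    show f (PresentedGroup.toGroup hof (PresentedGroup.of x)) = _
    rw [PresentedGroup.toGroup.of]
    exact PresentedGroup.toGroup.of _
  refine ⟨MonoidHom.toMulEquiv f g hgf hfg, fun r t => ?_⟩
  show f (PresentedGroup.mk _ (D.stX r t)) = PresentedGroup.mk _ (D.stX r t)
  unfold ChevalleyDatum.stX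
  split
  · exact PresentedGroup.toGroup.of _
  · simp only [map_one]

end CfsgLib.Chev
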