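import Cfsg.Agent.Lib.Chev.Functorial

/-!
Fusion of diagonal elements is controlled by the monomial subgroup.
-/

set_option autoImplicit false

namespace CfsgLib.Chev.Cert

open Cfsg.Lie Matrix

variable {D : ChevalleyDatum} {T : Tab} {C : Tab.Cover} (h : Cert D T C) {F : Type*} [Field F]
include h

theorem diag_conj_in_monomial {h₁ h₂ g : GL D.Idx F} (h1 : h₁ ∈ D.diagonalSubgroup F)
    (h2 : h₂ ∈ D.diagonalSubgroup F) (hg : g ∈ D.group F) (hc : g * h₁ * g⁻¹ = h₂) :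
    ∃ n ∈ D.monomialSubgroup F, n * h₁ * n⁻¹ = h₂ := by
  obtain ⟨b, hb, n, hn, u, hu, rfl⟩ := h.bruhat_exists hg
  obtain ⟨v, hv, t, ht, rfl⟩ := h.mem_borel_iff.1 hb
  refine ⟨n, hn, ?_⟩
  have hd : n * h₁ * n⁻¹ ∈ D.diagonalSubgroup F :=
    (Subgroup.mem_normalizer_iff.1 (h.monomial_le_normalizer_diagonal hn) h₁).1 h1
  have hu' : h₁⁻¹ * u * h₁ ∈ cellUnipotent D F n := by
    obtain ⟨π, hπ, -⟩ := h.exists_perm hn
    rw [h.cellUnipotent_eq fun r hr => ⟨(hπ r hr).1, (hπ r hr).2.1⟩] at hu ⊢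
    have := (Subgroup.mem_normalizer_iff.1 (h.diagonal_le_normalizer_gen
      (fun r (hr : r ∈ posSet T \ {r | T.half ≤ π r}) => hr.1.2) (inv_mem h1)) u).1 hu
    rwa [inv_inv] at this
  have hb1 : v * t * (n * h₁ * n⁻¹) ∈ D.borelSubgroup F :=
    mul_mem hb (Subgroup.mem_sup_right hd)
  have hb2 : h₂ * (v * t) ∈ D.borelSubgroup F := mul_mem (Subgroup.mem_sup_right h2) hb
  have e : v * t * (n * h₁ * n⁻¹) * n * (h₁⁻¹ * u * h₁) = h₂ * (v * t) * n * u := by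
    rw [← hc]; group
  obtain ⟨e1, -⟩ := (h.bruhat_unique hb1 hb2 hn hn hu' hu e).2 rfl
  -- compare the two sides modulo `U`
  have hv' : h₂ * v * h₂⁻¹ ∈ D.posUnipotent F :=
    (Subgroup.mem_normalizer_iff.1 (h.diagonal_le_normalizer_posUnipotent h2) v).1 hv
  have hx : v⁻¹ * (h₂ * v * h₂⁻¹) ∈ D.posUnipotent F ⊓ D.diagonalSubgroup F := by
    refine Subgroup.mem_inf.2 ⟨mul_mem (inv_mem hv) hv', ?_⟩
    have e2 : v⁻¹ * (h₂ * v * h₂⁻¹) = t * (n * h₁ * n⁻¹) * (h₂ * t)⁻¹ := by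
      calc v⁻¹ * (h₂ * v * h₂⁻¹) = v⁻¹ * (h₂ * (v * t)) * (h₂ * t)⁻¹ := by group
        _ = _ := by rw [← e1]; group
    rw [e2]
    exact mul_mem (mul_mem ht hd) (inv_mem (mul_mem h2 ht))
  rw [h.posUnipotent_inf_diagonal, Subgroup.mem_bot, inv_mul_eq_one] at hx
  have e3 : t * (n * h₁ * n⁻¹) = h₂ * t := by
    calc t * (n * h₁ * n⁻¹) = v⁻¹ * (v * t * (n * h₁ * n⁻¹)) := by group
      _ = v⁻¹ * (h₂ * v * h₂⁻¹) * (h₂ * t) := by rw [e1]; group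
      _ = h₂ * t := by rw [← hx, inv_mul_cancel, one_mul]
  rw [h.diagonal_comm ht hd] at e3
  exact mul_right_cancel e3

end CfsgLib.Chev.Cert
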