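/-! The orbit of the pair of roots (39, 45) of type F4. -/

set_option autoImplicit false
set_option maxRecDepth 4000

namespace CfsgLib.Chev

/-- The orbit of `(39, 45)` under the Weyl group. -/
def pairOrbitF4 : List (List Nat) := [
  [3,15], [3,16], [3,17], [3,21], [3,22], [3,23], [3,24], [3,25], [3,26], [3,30], [3,31], [3,32],
  [7,4], [7,5], [7,6], [7,21], [7,22], [7,23], [7,24], [7,25], [7,26], [7,41], [7,42], [7,43],
  [8,2], [8,5], [8,6], [8,16], [8,17], [8,23], [8,24], [8,30], [8,31], [8,41], [8,42], [8,45],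
  [9,1], [9,4], [9,6], [9,15], [9,17], [9,21], [9,26], [9,30], [9,32], [9,41], [9,43], [9,46],
  [10,0], [10,4], [10,5], [10,15], [10,16], [10,22], [10,25], [10,31], [10,32], [10,42], [10,43], [10,47],
  [11,1], [11,2], [11,6], [11,15], [11,16], [11,22], [11,25], [11,31], [11,32], [11,41], [11,45], [11,46],
  [12,0], [12,2], [12,5], [12,15], [12,17], [12,21], [12,26], [12,30], [12,32], [12,42], [12,45], [12,47],
  [13,0], [13,1], [13,4], [13,16], [13,17], [13,23], [13,24], [13,30], [13,31], [13,43], [13,46], [13,47],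
  [14,0], [14,1], [14,2], [14,21], [14,22], [14,23], [14,24], [14,25], [14,26], [14,45], [14,46], [14,47],
  [18,1], [18,2], [18,4], [18,5], [18,17], [18,22], [18,25], [18,30], [18,42], [18,43], [18,45], [18,46],
  [19,0], [19,2], [19,4], [19,6], [19,16], [19,21], [19,26], [19,31], [19,41], [19,43], [19,45], [19,47],
  [20,0], [20,1], [20,5], [20,6], [20,15], [20,23], [20,24], [20,32], [20,41], [20,42], [20,46], [20,47],
  [27,0], [27,1], [27,5], [27,6], [27,15], [27,23], [27,24], [27,32], [27,41], [27,42], [27,46], [27,47],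
  [28,0], [28,2], [28,4], [28,6], [28,16], [28,21], [28,26], [28,31], [28,41], [28,43], [28,45], [28,47],
  [29,1], [29,2], [29,4], [29,5], [29,17], [29,22], [29,25], [29,30], [29,42], [29,43], [29,45], [29,46],
  [33,0], [33,1], [33,2], [33,21], [33,22], [33,23], [33,24], [33,25], [33,26], [33,45], [33,46], [33,47],
  [34,0], [34,1], [34,4], [34,16], [34,17], [34,23], [34,24], [34,30], [34,31], [34,43], [34,46], [34,47],
  [35,0], [35,2], [35,5], [35,15], [35,17], [35,21], [35,26], [35,30], [35,32], [35,42], [35,45], [35,47],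
  [36,1], [36,2], [36,6], [36,15], [36,16], [36,22], [36,25], [36,31], [36,32], [36,41], [36,45], [36,46],
  [37,0], [37,4], [37,5], [37,15], [37,16], [37,22], [37,25], [37,31], [37,32], [37,42], [37,43], [37,47],
  [38,1], [38,4], [38,6], [38,15], [38,17], [38,21], [38,26], [38,30], [38,32], [38,41], [38,43], [38,46],
  [39,2], [39,5], [39,6], [39,16], [39,17], [39,23], [39,24], [39,30], [39,31], [39,41], [39,42], [39,45],
  [40,4], [40,5], [40,6], [40,21], [40,22], [40,23], [40,24], [40,25], [40,26], [40,41], [40,42], [40,43],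
  [44,15], [44,16], [44,17], [44,21], [44,22], [44,23], [44,24], [44,25], [44,26], [44,30], [44,31], [44,32]]

end CfsgLib.Chev
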