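import Cfsg.Agent.Lib.Chev.TwistE6RankOne
import Cfsg.Agent.Lib.StemExt.Basic

/-!
Stem extensions of `²E₆(q)`, `q ≥ 3`, have kernel of order at most `gcd(3, q + 1)`.
-/

set_option autoImplicit false
set_option maxRecDepth 100000
set_option linter.unusedSectionVars false
set_option linter.style.haveILetI false

open scoped commutatorElement

namespace CfsgLib.Chev.E6Root

open Cfsg.Lie Matrix
open Cert (torusHom)
open D4Root (dia fixFld)
open CfsgLib.Schur.Canon (SplitBN Ctx closure_lift_inf_ker)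

theorem baseE6cls : ∀ b ∈ dataTwE6.base, ∃ c ∈ dataTwE6.CL,
    ((b.list twistE6.rt ++ b.tail).all fun r => (cellList tabE6 c.word).contains r) = true := by
  decide +kernel

theorem sfxPosE6 : ((List.range tabE6.n).all fun r =>
    decide (tabE6.half ≤ r) == (Endo.sfxL twistE6.rt dataTwE6.L 0).contains r) = true := by
  decide +kernel

variable {K : Type*} [Field K] [Fintype K] {q : ℕ}
variable (f : K →+* K) (hf : ∀ t, f t = t ^ q) (hK : Fintype.card K = q ^ 2)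

lemma lay0_eqE6 : (endoE6 f).lay dataTwE6.L 0 = (endoE6 f).posG := by
  rw [Endo.lay, Endo.posG, certE6.posUnipotent_eq]
  congr 2
  ext r
  have h := sfxPosE6
  simp only [List.all_eq_true, List.mem_range, beq_iff_eq, List.contains_eq_mem,
    decide_eq_decide] at h
  exact ⟨fun hr => (endoE6 f).sfxL_pos (layersE6 f) hr, fun hr => (h r hr.2).1 hr.1⟩

include hf hK

lemma splitHypE6 (hq : IsPrimePow q) : (endoE6 f).SplitHyp dataTwE6 1 q where
  ok := dataOK_E6 f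
  reps := (std_fixE6 f hf hK hq).reps
  lifts o ho := ((std_fixE6 f hf hK hq).lifts _ o ho).1
  liftBase := (std_fixE6 f hf hK hq).lift
  card := hcardE6 f hf hK hq
  two_le := hq.two_le
  exp_ne := one_ne_zero
  ne c hc := by
    simp only [dataTwE6, List.mem_cons, List.not_mem_nil, or_false] at hc
    rcases hc with rfl | rfl | rfl | rfl <;> simp
  base b hb := by
    obtain ⟨c, hc, h⟩ := baseE6cls b hb
    simp only [List.all_eq_true, List.contains_iff_mem] at h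
    exact ⟨c, hc, fun r hr => h r (List.mem_append.2 hr)⟩

lemma diaG_leE6 (hq : IsPrimePow q) : (endoE6 f).diaG ≤
    ⨆ i, (endoE6 f).clsL ((splitHypE6 f hf hK hq).cl i) ⊓ (endoE6 f).diaG := by
  intro t ht
  obtain ⟨c, hc, hz⟩ := (endoE6 f).exists_param
    (g := (t : GL chevE6.Idx K)) ⟨t.2, Subgroup.mem_subgroupOf.1 ht⟩
  obtain ⟨c', hc', e'⟩ := exists_fix_paramE6 f hf hK hz
  obtain ⟨h1, h3, h5, h4⟩ := fix_paramE6_eq f hf hc'
  obtain ⟨RA, hRA⟩ := exists_rkPair f hf hK hq (i := 0) (j := 5) (r := 56) (r' := 36) (s := 0)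
    (by simp [PairData])
  obtain ⟨RB, hRB⟩ := exists_rkPair f hf hK hq (i := 2) (j := 4) (r := 42) (r' := 37) (s := 1)
    (by simp [PairData])
  obtain ⟨RC, hRC⟩ := exists_rkOne f hf hK hq (i := 3) (r := 39) (s := 2) (by simp)
  obtain ⟨RD, hRD⟩ := exists_rkOne f hf hK hq (i := 1) (r := 46) (s := 3) (by simp)
  have hCL := (dataOK_E6 f).cls
  have hfixc : ∀ d : Fin tabE6.l → Kˣ, (endoE6 f).tor d = d →
      torusHom (D := chevE6) (T := tabE6) d ∈ (endoE6 f).fix := fun d hd =>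
    ((endoE6 f).torusHom_mem_fix hd).1
  set dA : Fin tabE6.l → Kˣ := Pi.mulSingle ⟨0, by decide⟩ (c' ⟨0, by decide⟩) *
    Pi.mulSingle ⟨5, by decide⟩ (c' ⟨0, by decide⟩ ^ q) with hdA
  set dB : Fin tabE6.l → Kˣ := Pi.mulSingle ⟨2, by decide⟩ (c' ⟨2, by decide⟩) *
    Pi.mulSingle ⟨4, by decide⟩ (c' ⟨2, by decide⟩ ^ q) with hdB
  set dC : Fin tabE6.l → Kˣ := Pi.mulSingle ⟨3, by decide⟩ (c' ⟨3, by decide⟩) with hdC
  set dD : Fin tabE6.l → Kˣ := Pi.mulSingle ⟨1, by decide⟩ (c' ⟨1, by decide⟩) with hdD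
  have hprod : c' = dA * dB * dC * dD := by
    funext i
    obtain ⟨i, hi⟩ := i
    have hi' : i < 6 := hi
    interval_cases i <;> simp [hdA, hdB, hdC, hdD, h4, h5]
  have hone : ∀ (j : Fin tabE6.l), piTwE6 j = j → ∀ u : Kˣ, (u : K) ^ q = u →
      (endoE6 f).tor (Pi.mulSingle j u) = Pi.mulSingle j u := by
    intro j hj u hu
    refine tor_fix_of f hf fun k => ?_
    have hjj : (endoE6 f).πf j = j := Fin.ext hj
    rcases eq_or_ne k j with rfl | hk
    · rw [hjj, Pi.mulSingle_eq_same]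
      exact Units.ext (by simp [hu])
    · have hk' : (endoE6 f).πf k ≠ j := fun e =>
        hk ((endoE6 f).πf_injective (e.trans hjj.symm))
      simp [hk, hk']
  have hfA := tor_pairE6 f hf hK (i := ⟨0, by decide⟩) (j := ⟨5, by decide⟩)
    (by decide) (c' ⟨0, by decide⟩)
  have hfB := tor_pairE6 f hf hK (i := ⟨2, by decide⟩) (j := ⟨4, by decide⟩)
    (by decide) (c' ⟨2, by decide⟩)
  have hfC : (endoE6 f).tor dC = dC := hone _ rfl _ h3
  have hfD : (endoE6 f).tor dD = dD := hone _ rfl _ h1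
  have et : t = ⟨_, hfixc _ hfA⟩ * ⟨_, hfixc _ hfB⟩ *
      ⟨_, hfixc _ hfC⟩ * ⟨_, hfixc _ hfD⟩ := by
    refine Subtype.ext ?_
    simp only [Subgroup.coe_mul]
    rw [← map_mul, ← map_mul, ← map_mul, ← hprod, e', hc]
  rw [et]
  have hdiag : ∀ {d : Fin tabE6.l → Kˣ} (hd : torusHom (D := chevE6) (T := tabE6) d ∈
      (endoE6 f).fix), (⟨_, hd⟩ : ↥(endoE6 f).fix) ∈ (endoE6 f).diaG := fun hd =>
    Subgroup.mem_subgroupOf.2 (certE6.range_torusHom.le ⟨_, rfl⟩)
  have hu : ∀ (u : Kˣ), (u : K) ^ q = u → ∃ e : (↥(fixFld f))ˣ,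
      Units.map (fixFld f).subtype.toMonoidHom e = u := fun u hu => by
    have hm : (u : K) ∈ fixFld f := (hf _).trans hu
    exact ⟨Units.mk0 ⟨u, hm⟩ fun h0 => u.ne_zero (congrArg Subtype.val h0), Units.ext rfl⟩
  obtain ⟨eC, heC⟩ := hu _ h3
  obtain ⟨eD, heD⟩ := hu _ h1
  have hcl : ∀ c ∈ dataTwE6.CL, c ∈ dataTwE6.CL := fun _ h => h
  refine mul_mem (mul_mem (mul_mem ?_ ?_) ?_) ?_
  · refine Subgroup.mem_iSup_of_mem (⟨0, by decide⟩ : Fin dataTwE6.CL.length) ⟨?_, hdiag _⟩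
    show _ ∈ (endoE6 f).clsL (⟨[0, 5], [0, 5]⟩ : Cls)
    rw [← RA.range_eq hCL (by simp [dataTwE6])]
    exact ⟨dia (c' ⟨0, by decide⟩), Subtype.ext (hRA _ _ _)⟩
  · refine Subgroup.mem_iSup_of_mem (⟨1, by decide⟩ : Fin dataTwE6.CL.length) ⟨?_, hdiag _⟩
    show _ ∈ (endoE6 f).clsL (⟨[2, 4], [2, 4]⟩ : Cls)
    rw [← RB.range_eq hCL (by simp [dataTwE6])]
    exact ⟨dia (c' ⟨2, by decide⟩), Subtype.ext (hRB _ _ _)⟩
  · refine Subgroup.mem_iSup_of_mem (⟨2, by decide⟩ : Fin dataTwE6.CL.length) ⟨?_, hdiag _⟩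
    show _ ∈ (endoE6 f).clsL (⟨[3], [3]⟩ : Cls)
    rw [← RC.range_eq hCL (by simp [dataTwE6])]
    exact ⟨dia eC, Subtype.ext ((hRC (by decide) eC).trans (by rw [heC]))⟩
  · refine Subgroup.mem_iSup_of_mem (⟨3, by decide⟩ : Fin dataTwE6.CL.length) ⟨?_, hdiag _⟩
    show _ ∈ (endoE6 f).clsL (⟨[1], [1]⟩ : Cls)
    rw [← RD.range_eq hCL (by simp [dataTwE6])]
    exact ⟨dia eD, Subtype.ext ((hRD (by decide) eD).trans (by rw [heD]))⟩

/-- When the characteristic does not divide it, the kernel of a stem extension has order at most `gcd(3, q + 1)`. -/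
theorem card_ker_le_of_coprime (hq : IsPrimePow q) {p₀ : ℕ} (hp₀ : p₀.Prime) (hpq₀ : p₀ ∣ q)
    {Δ : Type*} [Group Δ] [Finite Δ] (σ : Δ →* ↥(endoE6 f).fix) (hσ : Cfsg.IsStemExtension σ)
    (hcop₀ : ¬ p₀ ∣ Nat.card σ.ker) :
    Nat.card σ.ker ≤ Nat.gcd 3 (q + 1) := by
  classical
  obtain ⟨hs, hc, hd⟩ := hσ
  obtain ⟨p, n, hp', hn, hpn⟩ := (id hq : IsPrimePow q)
  have hp : p.Prime := Nat.prime_iff.2 hp'
  haveI := Fact.mk hp
  haveI : CharP K p := by
    obtain ⟨p', hp1⟩ := CharP.exists K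
    haveI := hp1
    obtain ⟨m, hpr, hcard⟩ := FiniteField.card K p'
    have h : p' ∣ (p ^ n) ^ 2 := by
      rw [hpn, ← hK, hcard]; exact dvd_pow_self p' m.ne_zero
    obtain rfl := (Nat.prime_dvd_prime_iff_eq hpr hp).1
      (hpr.dvd_of_dvd_pow (hpr.dvd_of_dvd_pow h))
    exact hp1
  have hpq : p ∣ q := hpn ▸ dvd_pow_self p hn.ne'
  have hdiv : ∀ i, i ≠ 0 → p ∣ q ^ i := fun i hi => hpq.trans (dvd_pow_self q hi)
  have hq2 := hq.two_le
  have e : p = p₀ := Eq.symm <|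
    (Nat.prime_dvd_prime_iff_eq hp₀ hp).1 (hp₀.dvd_of_dvd_pow (hpn ▸ hpq₀))
  have hcop : ¬ p ∣ Nat.card σ.ker := e ▸ hcop₀
  have c : Ctx σ p := ⟨hp, hs, hc, hcop⟩
  set P := splitHypE6 f hf hK hq
  have hQ : q = p ^ n := hpn.symm
  set S := P.split hp hQ (diaG_leE6 f hf hK hq) with hS
  have hLi : ∀ i, S.L i = (endoE6 f).clsL (P.cl i) := P.split_L hp hQ (diaG_leE6 f hf hK hq)
  -- the tori of the rank one subgroups
  have key : ∀ i {k : Type _} [Field k] [Fintype k] [CharP k p]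
      (R : (endoE6 f).RkSL (P.cl i) k), Nat.card ↥(S.Hh σ i) ≤ Nat.card kˣ := by
    intro i k _ _ _ R
    refine le_trans ?_ (R.card_tor (dataOK_E6 f).cls (P.cl_mem i))
    let ψ : ↥(S.Hh σ i) → ↥((endoE6 f).clsL (P.cl i) ⊓ (endoE6 f).diaG) := fun w =>
      ⟨σ w, by rw [← hLi]; exact S.σ_mem_L c w.2.1, w.2.2⟩
    refine Nat.card_le_card_of_injective ψ fun a b hab => ?_
    have hk : (a : Δ)⁻¹ * b ∈ σ.ker := by
      rw [MonoidHom.mem_ker, map_mul, map_inv, show σ a = σ b from congrArg Subtype.val hab,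
        inv_mul_cancel]
    have hbot := closure_lift_inf_ker c (S.T i) (fun x hx => S.isPElt_T i hx) (S.L i)
      (S.closure_T i) fun ℓ hℓ hℓp => by
        rw [hLi]; exact R.sylow (dataOK_E6 f).cls (P.cl_mem i) ℓ hℓ hℓp
    have h1 : (a : Δ)⁻¹ * b ∈ (⊥ : Subgroup Δ) :=
      hbot ▸ ⟨(S.Lh σ i).mul_mem ((S.Lh σ i).inv_mem a.2.1) b.2.1, hk⟩
    exact Subtype.ext (inv_mul_eq_one.1 (Subgroup.mem_bot.1 h1))
  haveI : CharP ↥(fixFld f) p :=
    (RingHom.charP_iff (fixFld f).subtype (fixFld f).subtype.injective p).2 ‹_›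
  haveI : Fintype ↥(fixFld f) := Fintype.ofFinite _
  have hcK : Nat.card Kˣ = q ^ 2 - 1 := by
    rw [Nat.card_units, Nat.card_eq_fintype_card, hK]
  have hcF : Nat.card (↥(fixFld f))ˣ ≤ q - 1 := by
    refine le_trans (Nat.card_le_card_of_injective
      (fun u => (⟨Units.map (fixFld f).subtype.toMonoidHom u, ?_⟩ :
        {u : Kˣ // u ^ (q - 1) = 1})) fun a b hab => ?_) ?_
    · have h : (Units.map (fixFld f).subtype.toMonoidHom u) ^ q =
          Units.map (fixFld f).subtype.toMonoidHom u :=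
        Units.ext (by simpa using (hf _).symm.trans (u : ↥(fixFld f)).2)
      rwa [show q = q - 1 + 1 by omega, pow_succ, mul_eq_right] at h
    · exact Units.map_injective (fixFld f).subtype.injective (congrArg Subtype.val hab)
    · rw [card_units_pow_eq_one]; exact Nat.gcd_le_right _ (by omega)
  obtain ⟨RA, -⟩ := exists_rkPair f hf hK hq (i := 0) (j := 5) (r := 56) (r' := 36) (s := 0)
    (by simp [PairData])
  obtain ⟨RB, -⟩ := exists_rkPair f hf hK hq (i := 2) (j := 4) (r := 42) (r' := 37) (s := 1)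
    (by simp [PairData])
  obtain ⟨RC, -⟩ := exists_rkOne f hf hK hq (i := 3) (r := 39) (s := 2) (by simp)
  obtain ⟨RD, -⟩ := exists_rkOne f hf hK hq (i := 1) (r := 46) (s := 3) (by simp)
  have b0 := (key ⟨0, by decide⟩ RA).trans hcK.le
  have b1 := (key ⟨1, by decide⟩ RB).trans hcK.le
  have b2 := (key ⟨2, by decide⟩ RC).trans hcF
  have b3 := (key ⟨3, by decide⟩ RD).trans hcF
  have hH : Nat.gcd 3 (q + 1) * Nat.card S.H = (q - 1) ^ 4 * (q + 1) ^ 2 := by
    show _ * Nat.card ↥((endoE6 f).diaG) = _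
    rw [Endo.diaG, ← Subgroup.inf_subgroupOf_left,
      Nat.card_congr (Subgroup.subgroupOfEquivOfLe inf_le_left).toEquiv]
    exact card_diagE6 f hf hK
  have hmain := S.card_ker_inf_mul_le c
  rw [inf_eq_left.2 hd] at hmain
  have hprod : ∏ i, Nat.card ↥(S.Hh σ i) ≤ (q - 1) ^ 4 * (q + 1) ^ 2 := by
    have e : (Finset.univ : Finset (Fin dataTwE6.CL.length)) =
        {⟨0, by decide⟩, ⟨1, by decide⟩, ⟨2, by decide⟩, ⟨3, by decide⟩} := by decide
    rw [e, Finset.prod_insert (by decide), Finset.prod_insert (by decide),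
      Finset.prod_insert (by decide), Finset.prod_singleton]
    refine (Nat.mul_le_mul b0 (Nat.mul_le_mul b1 (Nat.mul_le_mul b2 b3))).trans (le_of_eq ?_)
    rw [show q ^ 2 - 1 = (q + 1) * (q - 1) by simpa using Nat.sq_sub_sq q 1]
    ring
  have hpos : 0 < Nat.card S.H := Nat.pos_of_ne_zero fun h0 => by
    rw [h0, mul_zero] at hH
    exact (Nat.mul_pos (pow_pos (by omega) 4) (pow_pos (by omega) 2)).ne hH
  refine Nat.le_of_mul_le_mul_right ?_ hpos
  exact hmain.trans (hprod.trans hH.ge)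

/-- The kernels of stem extensions have order at most `gcd(3, q + 1)`. -/
theorem card_ker_le (hq : IsPrimePow q) (hq3 : 3 ≤ q) {Δ : Type*} [Group Δ] [Finite Δ]
    (σ : Δ →* ↥(endoE6 f).fix) (hσ : Cfsg.IsStemExtension σ) :
    Nat.card σ.ker ≤ Nat.gcd 3 (q + 1) := by
  classical
  obtain ⟨hs, hc, hd⟩ := hσ
  obtain ⟨p, n, hp', hn, hpn⟩ := (id hq : IsPrimePow q)
  have hp : p.Prime := Nat.prime_iff.2 hp'
  haveI := Fact.mk hp
  haveI : CharP K p := by
    obtain ⟨p', hp1⟩ := CharP.exists K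
    haveI := hp1
    obtain ⟨m, hpr, hcard⟩ := FiniteField.card K p'
    have h : p' ∣ (p ^ n) ^ 2 := by
      rw [hpn, ← hK, hcard]; exact dvd_pow_self p' m.ne_zero
    obtain rfl := (Nat.prime_dvd_prime_iff_eq hpr hp).1
      (hpr.dvd_of_dvd_pow (hpr.dvd_of_dvd_pow h))
    exact hp1
  have hpq : p ∣ q := hpn ▸ dvd_pow_self p hn.ne'
  have hdiv : ∀ i, i ≠ 0 → p ∣ q ^ i := fun i hi => hpq.trans (dvd_pow_self q hi)
  -- the characteristic does not divide the kernel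
  have hidx : ¬ p ∣ ((endoE6 f).lay dataTwE6.L 0).index := by
    have hU : Nat.card ↥((endoE6 f).lay dataTwE6.L 0) = q ^ 36 := by
      rw [lay0_eqE6, Endo.posG, ← Subgroup.inf_subgroupOf_left,
        Nat.card_congr (Subgroup.subgroupOfEquivOfLe inf_le_left).toEquiv,
        card_posE6 f hf hK hq]
    have h := ((endoE6 f).lay dataTwE6.L 0).card_mul_index
    rw [hU] at h
    have h2 := card_twistE6 f hf hK hq
    rw [← h, mul_left_comm] at h2
    simp only [mul_assoc] at h2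
    have h3 := Nat.eq_of_mul_eq_mul_left (pow_pos (by omega) _) h2
    intro hdvd
    have h4 := (dvd_mul_of_dvd_right hdvd (Nat.gcd 3 (q + 1))).trans h3.dvd
    have hm : ∀ i, i ≠ 0 → ¬ p ∣ q ^ i - 1 := fun i hi hd' => by
      have h5 := Nat.dvd_sub (hdiv i hi) hd'
      rw [Nat.sub_sub_self (Nat.one_le_pow _ _ (by omega))] at h5
      exact hp.not_dvd_one h5
    have hp1 : ∀ i, i ≠ 0 → ¬ p ∣ q ^ i + 1 := fun i hi hd' =>
      hp.not_dvd_one ((Nat.dvd_add_right (hdiv i hi)).1 hd')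
    simp only [hp.dvd_mul] at h4
    rcases h4 with d | d | d | d | d | d
    exacts [hm 2 (by norm_num) d, hp1 5 (by norm_num) d, hm 6 (by norm_num) d,
      hm 8 (by norm_num) d, hp1 9 (by norm_num) d, hm 12 (by norm_num) d]
  have hcop : ¬ p ∣ Nat.card σ.ker := fun hdvd => by
    obtain ⟨z, hz⟩ := exists_prime_orderOf_dvd_card' p hdvd
    have hzd : (z : Δ) ∈ ⁅((endoE6 f).lay dataTwE6.L 0).comap σ,
        ((endoE6 f).lay dataTwE6.L 0).comap σ⁆ :=
      CfsgLib.Schur.mem_commutator_preimage hs hp (a := 1) z.2 (hc z.2) (hd z.2)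
        (by rw [pow_one, ← hz]; exact congrArg Subtype.val (pow_orderOf_eq_one z)) _ hidx
    have hz1 : (z : Δ) = 1 :=
      (sylHypE6 f hf hK hq hq3).sylow_lift σ hs hc (by simp [dataTwE6]) z.2 hzd
    rw [OneMemClass.coe_eq_one.1 hz1, orderOf_one] at hz
    exact hp.ne_one hz.symm
  exact card_ker_le_of_coprime f hf hK hq hp hpq σ ⟨hs, hc, hd⟩ hcop

end CfsgLib.Chev.E6Root
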