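import Cfsg.Agent.Lib.Chev.StSmallTypes
import Cfsg.Agent.Lib.Chev.StFinite
import Mathlib.LinearAlgebra.Matrix.GeneralLinearGroup.Basic
import Mathlib.Algebra.CharP.Reduced

/-!
Projective representations in the defining characteristic lift to the cover.
-/

set_option autoImplicit false
set_option maxRecDepth 100000

namespace CfsgLib.Chev

open Cfsg.Lie Matrix

universe a b

/-- A scalar matrix of order dividing the characteristic is trivial. -/
theorem eq_one_of_center_pow {L : Type*} [Field L] {p : ℕ} [CharP L p] (hp : p.Prime) {n : ℕ}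
    {e : GL (Fin n) L} (hc : e ∈ Subgroup.center (GL (Fin n) L)) (he : e ^ p = 1) : e = 1 := by
  have : Fact p.Prime := ⟨hp⟩
  rcases n.eq_zero_or_pos with rfl | hn
  · exact Subsingleton.elim _ _
  rw [Matrix.GeneralLinearGroup.center_eq_range_scalar] at hc
  obtain ⟨u, rfl⟩ := hc
  rw [← map_pow] at he
  have h0 := congrArg (fun g : GL (Fin n) L => (g : Matrix (Fin n) (Fin n) L) ⟨0, hn⟩ ⟨0, hn⟩) he
  simp [Matrix.diagonal_pow] at h0
  have : u = 1 := Units.ext (frobenius_inj L p (by simpa [frobenius_def] using h0))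
  rw [this, map_one]

/-- Central elements of the cover of a finite field have no torsion of the characteristic. -/
theorem eq_one_of_center_cover {K : Type*} [Field K] [Fintype K] {D : ChevalleyDatum}
    {T : Tab} {C : Tab.Cover} (h : Cert D T C) (hnb : Rel.Nbr T) {p : ℕ} [CharP K p]
    (hp : p.Prime) {c : D.SteinbergCover K}
    (hc : c ∈ Subgroup.center (D.SteinbergCover K)) (hcp : c ^ p = 1) : c = 1 := by
  classical
  set R := h.relOf (R := D.steinbergRelsAB K) le_rfl (steinbergRelsAB_subset D K)
  have hmul := R.mult_of_finite h hnb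
  rw [← R.ker_eq_center h hnb] at hc
  obtain ⟨u, -, rfl⟩ := R.ker_le_map h hnb hmul hc
  have hu : u ^ (Fintype.card K - 1) = 1 := by
    funext i
    rw [Pi.pow_apply, Pi.one_apply, ← Fintype.card_units, pow_card_eq_one]
  have h1 : R.torG h hnb hmul u ^ (Fintype.card K - 1) = 1 := by rw [← map_pow, hu, map_one]
  obtain ⟨k, -, hk⟩ := FiniteField.card K p
  have hcop : Nat.Coprime p (Fintype.card K - 1) := by
    rw [hp.coprime_iff_not_dvd]
    intro hdvd
    have h2 : p ∣ Fintype.card K := by rw [hk]; exact dvd_pow_self _ k.pos.ne'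
    have h3 : 1 ≤ Fintype.card K := Fintype.card_pos
    have := Nat.dvd_sub h2 hdvd
    rw [Nat.sub_sub_self h3] at this
    exact hp.one_lt.ne' (Nat.dvd_one.1 this)
  have h4 := pow_gcd_eq_one.2 ⟨hcp, h1⟩
  rwa [hcop, pow_one] at h4

/-- Projective representations in the defining characteristic lift uniquely. -/
theorem projective_lift {K : Type a} [Field K] {D : ChevalleyDatum}
    (hD : D ∈ [chevG2, chevB2, chevD4, chevF4, chevE6, chevE7, chevE8])
    (hK : D ∈ [chevB2, chevG2] → ∃ x : K, x ≠ 0 ∧ x ≠ 1)
    (θ : D.SteinbergCover K →* ↥(D.group K))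
    (hθ : ∀ (r : ℕ) (t : K), r < D.nroots →
      ((θ (D.scGen K r t) : GL D.Idx K) : Matrix D.Idx D.Idx K) = D.x K r t)
    {L : Type b} [Field L] (hL : ringChar L = ringChar K) {n : ℕ}
    (φ : ↥(D.group K) →* GL (Fin n) L ⧸ Subgroup.center (GL (Fin n) L)) :
    ∃! ψ : D.SteinbergCover K →* GL (Fin n) L,
      (QuotientGroup.mk' (Subgroup.center (GL (Fin n) L))).comp ψ = φ.comp θ := by
  classical
  have hsurj : Function.Surjective (QuotientGroup.mk' (Subgroup.center (GL (Fin n) L))) :=
    QuotientGroup.mk'_surjective _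
  have hcen : (QuotientGroup.mk' (Subgroup.center (GL (Fin n) L))).ker ≤
      Subgroup.center (GL (Fin n) L) := (QuotientGroup.ker_mk' _).le
  by_cases hbig : ∃ s : Finset K, 4 < s.card
  · exact universal_big.{a, b, b} hbig hD _ hsurj hcen _
  push Not at hbig
  have : Finite K := by
    by_contra hinf
    have : Infinite K := not_finite_iff_infinite.1 hinf
    obtain ⟨s, hs⟩ := Infinite.exists_subset_card_eq K 5
    exact absurd (hbig s) (by omega)
  have : Fintype K := Fintype.ofFinite K
  set p := ringChar K with hp_def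
  have hpK : CharP K p := ringChar.charP K
  have hp : p.Prime := CharP.char_is_prime K p
  have hpL : CharP L p := hL ▸ ringChar.charP L
  have hq : D ∈ [chevB2, chevG2] → Fintype.card K ≠ 2 := fun hm e => by
    obtain ⟨x, h0, h1⟩ := hK hm
    have h3 := (Finset.card_le_univ ({0, 1, x} : Finset K)).trans e.le
    have h5 : ({0, 1, x} : Finset K).card = 3 := by
      rw [Finset.card_insert_of_notMem (by simp [h0.symm]), Finset.card_pair h1.symm]
    omega
  obtain ⟨T, C, h, hnb, hl⟩ := rel_of_no_torsion.{a, max a b} hD hq (p := p) hp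
  have hperf : commutator (D.SteinbergCover K) = ⊤ :=
    rel_perfect hD hK le_rfl (steinbergRelsAB_subset D K)
  refine universal_of_rel h hnb hperf p (fun Y hY => hl _ Y hY) _ hsurj hcen _
    fun e c hec hc he hcp => ?_
  refine ⟨?_, eq_one_of_center_cover h hnb hp hc hcp⟩
  refine eq_one_of_center_pow (p := p) hp ?_ he
  have hθc : θ c = 1 := by
    rw [h.eq_stTheta le_rfl (steinbergRelsAB_subset D K) θ hθ, ← MonoidHom.mem_ker, h.ker_stTheta,
      (h.relOf le_rfl (steinbergRelsAB_subset D K)).ker_eq_center h hnb]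
    exact hc
  rw [← QuotientGroup.eq_one_iff]
  exact hec.trans (by rw [MonoidHom.comp_apply, hθc, map_one])

end CfsgLib.Chev
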