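import Cfsg.Agent.Lib.Chev.StThree

/-!
Central extensions of B2 over the field with three elements: short lifts are torus brackets, long
lifts are brackets of short root elements.
-/

set_option autoImplicit false
set_option maxRecDepth 100000

namespace CfsgLib.Chev

open Cfsg.Lie Matrix
open scoped commutatorElement

/-- The pair `(p, q)` of roots has the single term `r`. -/
def Tab.isPair (T : Tab) (r p q : ℕ) : Bool :=
  match T.commTerms p q with
  | [(k, _, 1, 1)] => decide (k = r)
  | _ => false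

namespace B2Three

variable {F : Type*} [Field F]

/-- The torus element acting by a sign on the short roots. -/
noncomputable def signT : GL chevB2.Idx F :=
  Cert.torusHom (D := chevB2) (T := tabB2) (F := F) (powParam tabB2 (-1 : Fˣ) [0, 1])

lemma chi_sign (r : ℕ) :
    chi tabB2 (powParam tabB2 (-1 : Fˣ) [0, 1]) r = (-1 : F) ^ tabB2.cochar [0, 1] r := by
  rw [chi_powParam, Units.val_neg, Units.val_one]

lemma signT_mem : (signT : GL chevB2.Idx F) ∈ chevB2.group F := Ext.torusHom_mem certB2 _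

lemma nS_conj_sign {i : ℕ} (hi : i < tabB2.l) :
    nS chevB2 F i * signT * (nS chevB2 F i)⁻¹ = signT := by
  rw [mul_inv_eq_iff_eq_mul]
  refine Units.ext ?_
  rw [Units.val_mul, Units.val_mul, certB2.coe_nS]
  show chevB2.nMat F (chevB2.simple i) 1 * torus chevB2 _ = torus chevB2 _ * _
  rw [certB2.nMat_mul_torus hi]
  congr 1
  refine torus_congr chevB2 fun s hs => ?_
  show chi tabB2 _ (tabB2.refl i s) = chi tabB2 _ s
  rw [chi_sign, chi_sign]
  have hpar : ∀ i < tabB2.l, ∀ s < tabB2.n,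
      tabB2.cochar [0, 1] (tabB2.refl i s) % 2 = tabB2.cochar [0, 1] s % 2 := by decide +kernel
  have h2 : ∀ k : ℤ, (-1 : F) ^ k = (-1 : F) ^ (k % 2) := fun k => by
    conv_lhs => rw [← Int.mul_ediv_add_emod k 2,
      zpow_add₀ (neg_ne_zero.2 one_ne_zero), _root_.zpow_mul]
    norm_num
  rw [h2, h2 (tabB2.cochar [0, 1] s), hpar i hi s (lt_of_lt_of_eq hs certB2.nroots_eq)]

variable {E : Type*} [Group E] (Y : Ext chevB2 F E)

/-- Generators of the lifts at one root. -/
def gens (r : ℕ) : Set E :=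
  {a | (tabB2.cochar [0, 1] r % 2 ≠ 0 ∧ ∃ t : F, a = Y.br signT (X chevB2 r t)) ∨
    ∃ (p q : ℕ) (t u : F), p < tabB2.n ∧ q < tabB2.n ∧ tabB2.isPair r p q = true ∧
      a = Y.br (X chevB2 p t) (X chevB2 q u)}

lemma gens_conj {r : ℕ} (hr : r < tabB2.n) {i : ℕ} (hi : i < tabB2.l) {a : E}
    (ha : a ∈ gens Y r) :
    Y.lft (nS chevB2 F i) * a * (Y.lft (nS chevB2 F i))⁻¹ ∈ gens Y (tabB2.refl i r) := by
  have hn : nS chevB2 F i ∈ chevB2.group F := certB2.monomial_le_group (certB2.nS_mem_monomial hi)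
  rcases ha with ⟨hodd, t, rfl⟩ | ⟨p, q, t, u, hp, hq, hpq, rfl⟩
  · refine Or.inl ⟨?_, (tabB2.eta i r : F) * t, ?_⟩
    · have hpar : ∀ i < tabB2.l, ∀ s < tabB2.n,
          tabB2.cochar [0, 1] (tabB2.refl i s) % 2 = tabB2.cochar [0, 1] s % 2 := by decide +kernel
      rw [hpar i hi r hr]; exact hodd
    · rw [Y.conj_br _ signT_mem (certB2.X_mem_group hr t), Y.θ_lft hn, nS_conj_sign hi,
        certB2.nS_conj_X hi hr]
  · refine Or.inr ⟨tabB2.refl i p, tabB2.refl i q, (tabB2.eta i p : F) * t,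
      (tabB2.eta i q : F) * u, certB2.refl_lt hi hp, certB2.refl_lt hi hq, ?_, ?_⟩
    · have key : ∀ i < tabB2.l, ∀ r < tabB2.n, ∀ p < tabB2.n, ∀ q < tabB2.n,
          tabB2.isPair r p q = true →
            tabB2.isPair (tabB2.refl i r) (tabB2.refl i p) (tabB2.refl i q) = true := by
        decide +kernel
      exact key i hi r hr p hp q hq hpq
    · rw [Y.conj_br _ (certB2.X_mem_group hp t) (certB2.X_mem_group hq u), Y.θ_lft hn,
        certB2.nS_conj_X hi hp, certB2.nS_conj_X hi hq]

lemma gens_torus {r : ℕ} (hr : r < tabB2.n) (w : Fin tabB2.l → Fˣ) {a : E}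
    (ha : a ∈ gens Y r) :
    Y.lft (Cert.torusHom (D := chevB2) (T := tabB2) (F := F) w) * a *
      (Y.lft (Cert.torusHom (D := chevB2) (T := tabB2) (F := F) w))⁻¹ ∈ gens Y r := by
  have hw := Ext.torusHom_mem (F := F) certB2 w
  rcases ha with ⟨hodd, t, rfl⟩ | ⟨p, q, t, u, hp, hq, hpq, rfl⟩
  · refine Or.inl ⟨hodd, chi tabB2 w r * t, ?_⟩
    rw [Y.conj_br _ signT_mem (certB2.X_mem_group hr t), Y.θ_lft hw,
      Ext.torusHom_conj certB2 w hr]
    congr 1
    rw [signT, ← map_mul, mul_comm w, map_mul, mul_inv_cancel_right]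
  · refine Or.inr ⟨p, q, chi tabB2 w p * t, chi tabB2 w q * u, hp, hq, hpq, ?_⟩
    rw [Y.conj_br _ (certB2.X_mem_group hp t) (certB2.X_mem_group hq u), Y.θ_lft hw,
      Ext.torusHom_conj certB2 w hp, Ext.torusHom_conj certB2 w hq]

variable [Fintype F] (hF : Fintype.card F = 3)
include hF

lemma charThree : CharP F 3 := charP_of_card Nat.prime_three (k := 1) (by rw [hF, pow_one])

/-- A root element commutator as a bracket. -/
lemma θ_br_pair {p q r : ℕ} {c : ℤ} (hp : p < tabB2.n) (hq : q < tabB2.n)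
    (hc : tabB2.commTerms p q = [(r, c, 1, 1)]) (hne : q ≠ p) (hneg : q ≠ tabB2.neg p)
    (hqr : tabB2.commTerms q r = [] ∧ r ≠ q ∧ r ≠ tabB2.neg q) (t u : F) :
    Y.θ (Y.br (X chevB2 p t) (X chevB2 q u)) = X chevB2 r ((c : F) * t * u) := by
  have hr : r < tabB2.n := certB2.commTerms_lt hp hq (hc ▸ List.mem_cons_self)
  rw [Y.θ_br (certB2.X_mem_group hp t) (certB2.X_mem_group hq u)]
  have e := certB2.X_conj (F := F) hp hq hne hneg (-t) u
  rw [hc] at e
  simp only [List.map_cons, List.map_nil, List.prod_cons, List.prod_nil, mul_one, pow_one,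
    _root_.neg_neg] at e
  rw [(Ext.commute_of_terms_nil certB2 (F := F) hq hr hqr.2.1 hqr.2.2 hqr.1 u _).eq] at e
  rw [commutatorElement_def, certB2.X_inv hp, e, mul_inv_cancel_right]

/-- The generators at a root are powers of one element of order three lifting a root element. -/
lemma exists_gen
    (hZ : ∀ r < tabB2.n, ∀ s < tabB2.n, s ≠ r → s ≠ tabB2.neg r →
      (∀ t u : F, Commute (X chevB2 r t) (X chevB2 s u)) → Y.Z r s)
    {r : ℕ} (hr : r < tabB2.n) :
    ∃ g : E, g ∈ gens Y r ∧ g ^ 3 = 1 ∧ (∃ c : F, c ≠ 0 ∧ Y.θ g = X chevB2 r c) ∧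
      ∀ a ∈ gens Y r, a ∈ Subgroup.zpowers g := by
  have := charThree hF
  have hprime := natCast_surjective_of_card (F := F) hF
  by_cases hodd : tabB2.cochar [0, 1] r % 2 ≠ 0
  · have hne : chi tabB2 (powParam tabB2 (-1 : Fˣ) [0, 1]) r = -1 := by
      rw [chi_sign]
      obtain ⟨k, hk⟩ : ∃ k, tabB2.cochar [0, 1] r = 2 * k + 1 :=
        ⟨tabB2.cochar [0, 1] r / 2, by omega⟩
      rw [hk, zpow_add₀ (neg_ne_zero.2 one_ne_zero), _root_.zpow_mul]
      norm_num
    have hzr : Y.Z r r := Y.Z_self_of_prime certB2 hr hprime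
    have hθ : ∀ u, Y.θ (Y.br (signT (F := F)) (X chevB2 r u)) = X chevB2 r ((-1 - 1) * u) :=
      fun u => by rw [signT, Y.br_torus_X certB2 _ hr, hne]
    set f : F → F → E := fun t _ => Y.br signT (X chevB2 r t) with hf
    have hl : ∀ t t' u, f (t + t') u = f t u * f t' u := fun t t' u => by
      show Y.br signT (X chevB2 r (t + t')) = _
      rw [← certB2.X_add hr]
      exact Y.br_mul_of_commute signT_mem (certB2.X_mem_group hr t) (certB2.X_mem_group hr t')
        (Y.commute_of_Z certB2 hzr (Y.θ_lft (certB2.X_mem_group hr t)) (hθ t'))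
    refine ⟨f 1 0, Or.inl ⟨hodd, 1, rfl⟩, ?_, ⟨(-1 - 1) * 1, ?_, hθ 1⟩, fun a ha => ?_⟩
    · have h0 := hl 0 0 0
      rw [add_zero, left_eq_mul] at h0
      rw [← kill_nsmul hl _ (0 : F) 3, CharP.cast_eq_zero, zero_mul, h0]
    · rw [mul_one]
      intro e
      have : ((2 : ℕ) : F) = 0 := by push_cast; linear_combination -e
      exact absurd ((CharP.cast_eq_zero_iff F 3 2).1 this) (by decide)
    · rcases ha with ⟨-, t, rfl⟩ | ⟨p, q, t, u, hp, hq, hpq, rfl⟩
      · obtain ⟨m, rfl⟩ := hprime t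
        have := kill_nsmul hl 1 (0 : F) m
        rw [mul_one] at this
        show f (m : F) 0 ∈ _
        rw [this]
        exact Subgroup.npow_mem_zpowers _ m
      · exfalso
        have key : ∀ r < tabB2.n, ∀ p < tabB2.n, ∀ q < tabB2.n,
            tabB2.isPair r p q = true → tabB2.cochar [0, 1] r % 2 = 0 := by decide +kernel
        exact hodd (key r hr p hp q hq hpq)
  · obtain ⟨p₀, q₀, c, hp, hq, hc, hc3, hne, hneg, h1, h2, hall⟩ : ∃ p₀ q₀ : ℕ, ∃ c : ℤ,
        p₀ < tabB2.n ∧ q₀ < tabB2.n ∧ tabB2.commTerms p₀ q₀ = [(r, c, 1, 1)] ∧ c % 3 ≠ 0 ∧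
        q₀ ≠ p₀ ∧ q₀ ≠ tabB2.neg p₀ ∧
        (tabB2.commTerms q₀ r = [] ∧ r ≠ q₀ ∧ r ≠ tabB2.neg q₀) ∧
        (tabB2.commTerms p₀ r = [] ∧ r ≠ p₀ ∧ r ≠ tabB2.neg p₀) ∧
        ∀ p < tabB2.n, ∀ q < tabB2.n, tabB2.isPair r p q = true →
          (p = p₀ ∧ q = q₀) ∨ (p = q₀ ∧ q = p₀) := by
      have hr4 : r = 0 ∨ r = 3 ∨ r = 4 ∨ r = 7 := by
        have key : ∀ r < tabB2.n, tabB2.cochar [0, 1] r % 2 = 0 →
            r = 0 ∨ r = 3 ∨ r = 4 ∨ r = 7 := by decide +kernel
        exact key r hr (not_not.1 hodd)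
      rcases hr4 with rfl | rfl | rfl | rfl
      · exact ⟨1, 2, 2, by decide +kernel, by decide +kernel, by decide +kernel, by decide,
          by decide +kernel, by decide +kernel, by decide +kernel, by decide +kernel, by decide +kernel⟩
      · exact ⟨5, 1, 2, by decide +kernel, by decide +kernel, by decide +kernel, by decide,
          by decide +kernel, by decide +kernel, by decide +kernel, by decide +kernel, by decide +kernel⟩
      · exact ⟨6, 2, 2, by decide +kernel, by decide +kernel, by decide +kernel, by decide,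
          by decide +kernel, by decide +kernel, by decide +kernel, by decide +kernel, by decide +kernel⟩
      · exact ⟨5, 6, 2, by decide +kernel, by decide +kernel, by decide +kernel, by decide,
          by decide +kernel, by decide +kernel, by decide +kernel, by decide +kernel, by decide +kernel⟩
    have hcF : (c : F) ≠ 0 := fun e =>
      hc3 (Int.emod_eq_zero_of_dvd ((CharP.intCast_eq_zero_iff F 3 c).1 e))
    set f : F → F → E := fun t u => Y.br (X chevB2 p₀ t) (X chevB2 q₀ u) with hf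
    have hθ : ∀ t u, Y.θ (f t u) = X chevB2 r ((c : F) * t * u) :=
      θ_br_pair Y hF hp hq hc hne hneg h1
    have hzq := hZ q₀ hq r hr h1.2.1 h1.2.2
      (Ext.commute_of_terms_nil certB2 hq hr h1.2.1 h1.2.2 h1.1)
    have hzp := hZ p₀ hp r hr h2.2.1 h2.2.2
      (Ext.commute_of_terms_nil certB2 hp hr h2.2.1 h2.2.2 h2.1)
    have hrr : ∀ t u u', f t (u + u') = f t u * f t u' := fun t u u' => by
      show Y.br _ (X chevB2 q₀ (u + u')) = _
      rw [← certB2.X_add hq]
      exact Y.br_mul_of_commute (certB2.X_mem_group hp t) (certB2.X_mem_group hq u)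
        (certB2.X_mem_group hq u')
        (Y.commute_of_Z certB2 hzq (Y.θ_lft (certB2.X_mem_group hq u)) (hθ t u'))
    have hl : ∀ t t' u, f (t + t') u = f t u * f t' u := fun t t' u => by
      show Y.br (X chevB2 p₀ (t + t')) _ = _
      rw [Y.br_swap, ← certB2.X_add hp,
        Y.br_mul_of_commute (certB2.X_mem_group hq u) (certB2.X_mem_group hp t)
          (certB2.X_mem_group hp t') ?_, _root_.mul_inv_rev, ← Y.br_swap, ← Y.br_swap]
      · exact (Y.commute_of_Z certB2 (Y.Z_self_of_prime certB2 hr hprime) (hθ t' u) (hθ t u)).eq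
      · rw [Y.br_swap]
        exact (Y.commute_of_Z certB2 hzp (Y.θ_lft (certB2.X_mem_group hp t)) (hθ t' u)).inv_right
    refine ⟨f 1 1, Or.inr ⟨p₀, q₀, 1, 1, hp, hq, by simp [Tab.isPair, hc], rfl⟩, ?_,
      ⟨(c : F), hcF, by rw [hθ, mul_one, mul_one]⟩, fun a ha => ?_⟩
    · have h0 := hl 0 0 1
      rw [add_zero, left_eq_mul] at h0
      rw [← kill_nsmul hl _ (1 : F) 3, CharP.cast_eq_zero, zero_mul, h0]
    · rcases ha with ⟨h', -⟩ | ⟨p, q, t, u, hp', hq', hpq, rfl⟩
      · exact absurd h' hodd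
      have key : ∀ a b : F, f a b ∈ Subgroup.zpowers (f 1 1) := fun a b => by
        obtain ⟨m, rfl⟩ := hprime a
        obtain ⟨k, rfl⟩ := hprime b
        have a1 := kill_nsmul hl 1 (k : F) m
        have a2 := kill_nsmul (f := fun u t => f t u) (fun u u' t => hrr t u u') 1 1 k
        simp only [mul_one] at a1 a2
        rw [a1, a2, ← pow_mul]
        exact Subgroup.npow_mem_zpowers _ _
      rcases hall p hp' q hq' hpq with ⟨rfl, rfl⟩ | ⟨rfl, rfl⟩
      · exact key t u
      · rw [Y.br_swap]; exact inv_mem (key u t)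

/-- The group generated at a root maps isomorphically to the root subgroup. -/
lemma closure_spec
    (hZ : ∀ r < tabB2.n, ∀ s < tabB2.n, s ≠ r → s ≠ tabB2.neg r →
      (∀ t u : F, Commute (X chevB2 r t) (X chevB2 s u)) → Y.Z r s)
    {r : ℕ} (hr : r < tabB2.n) :
    (∀ t, ∃ a ∈ Subgroup.closure (gens Y r), Y.θ a = X chevB2 r t) ∧
      ∀ a ∈ Subgroup.closure (gens Y r), (∃ t, Y.θ a = X chevB2 r t) ∧ (Y.θ a = 1 → a = 1) := by
  have := charThree hF
  obtain ⟨g, hg, hg3, ⟨c, hc, hθg⟩, hgen⟩ := exists_gen Y hF hZ hr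
  have hpow : ∀ m : ℕ, Y.θ (g ^ m) = X chevB2 r ((m : F) * c) := fun m => by
    induction m with
    | zero => rw [pow_zero, map_one, Nat.cast_zero, zero_mul, certB2.X_zero hr]
    | succ m ih =>
      rw [pow_succ, map_mul, ih, hθg, certB2.X_add hr, Nat.cast_succ, add_mul, one_mul]
  refine ⟨fun t => ?_, fun a ha => ?_⟩
  · obtain ⟨m, hm⟩ := natCast_surjective_of_card (F := F) hF (t / c)
    exact ⟨g ^ m, pow_mem (Subgroup.subset_closure hg) m, by rw [hpow, hm, div_mul_cancel₀ t hc]⟩
  · have hof : IsOfFinOrder g := isOfFinOrder_iff_pow_eq_one.2 ⟨3, by omega, hg3⟩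
    obtain ⟨m, hm, rfl⟩ : ∃ m : ℕ, m < 3 ∧ g ^ m = a := by
      obtain ⟨m, rfl⟩ : ∃ m : ℕ, g ^ m = a :=
        Submonoid.mem_powers_iff _ _ |>.1
          (hof.mem_powers_iff_mem_zpowers.2 ((Subgroup.closure_le _).2 hgen ha))
      exact ⟨m % 3, Nat.mod_lt _ (by omega), (pow_eq_pow_mod m hg3).symm⟩
    refine ⟨⟨_, hpow m⟩, fun h1 => ?_⟩
    rw [hpow, certB2.X_eq_one_iff hr, mul_eq_zero, or_iff_left hc,
      CharP.cast_eq_zero_iff F 3] at h1
    rw [show m = 0 by omega, pow_zero]

/-- Two orthogonal long roots: the second is a bracket, respected by conjugation with the first. -/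
lemma Z_long : Y.Z 7 3 := by
  have := charThree hF
  have hprime := natCast_surjective_of_card (F := F) hF
  have E1 : Units.Enough F 1 := Units.enough_of_fintype (by omega)
  have hn : ∀ r, r < 8 → r < tabB2.n := fun r hr => lt_of_lt_of_eq hr (by decide +kernel)
  have hcom : ∀ {r s : ℕ}, r < 8 → s < 8 → s ≠ r ∧ s ≠ tabB2.neg r ∧ tabB2.commTerms r s = [] →
      ∀ t u : F, Commute (X chevB2 r t) (X chevB2 s u) := fun hr hs h =>
    Ext.commute_of_terms_nil certB2 (hn _ hr) (hn _ hs) h.1 h.2.1 h.2.2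
  have hc55 : ∀ t u : F, Commute (X chevB2 5 t) (X chevB2 5 u) :=
    Ext.commute_self (h' := certB2) (hn 5 (by omega))
  have hc53 := hcom (r := 5) (s := 3) (by omega) (by omega) (by decide +kernel)
  have hc75 := hcom (r := 7) (s := 5) (by omega) (by omega) (by decide +kernel)
  have hz55 : Y.Z 5 5 := Y.Z_self_of_prime certB2 (hn 5 (by omega)) hprime
  have hz53 : Y.Z 5 3 := by
    obtain ⟨w, hw⟩ := Ext.exists_kill_param (T := tabB2) E1
      (e := ⟨5, 3, [1, 1], []⟩) (by decide +kernel)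
    exact Y.Z_of_torus certB2 (hn 5 (by omega)) (hn 3 (by omega)) hc53 w hw
  have m : ∀ {r : ℕ} (t : F), r < 8 → X chevB2 r t ∈ chevB2.group F :=
    fun t hr => certB2.X_mem_group (hn _ hr) t
  have hθ := θ_br_pair Y hF (hn 5 (by omega)) (hn 1 (by omega))
    (show tabB2.commTerms 5 1 = [(3, 2, 1, 1)] by decide +kernel) (by omega) (by decide +kernel)
    (by decide +kernel)
  have h2 : ((2 : ℤ) : F) ≠ 0 := fun e =>
    absurd (Int.le_of_dvd two_pos ((CharP.intCast_eq_zero_iff F 3 2).1 e)) (by decide)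
  intro v z
  set c := Y.br (X chevB2 5 (z / 2)) (X chevB2 1 1) with hc
  have hθc : Y.θ c = X chevB2 3 z := by
    rw [hc, hθ, mul_one]
    congr 1
    push_cast at h2 ⊢
    field_simp
  have key : Y.lft (X chevB2 7 v) * c * (Y.lft (X chevB2 7 v))⁻¹ = c := by
    rw [hc, Y.conj_br _ (m _ (by omega)) (m _ (by omega)), Y.θ_lft (m v (by omega)),
      (hc75 v _).eq, mul_inv_cancel_right]
    have e := certB2.X_conj (F := F) (hn 7 (by omega)) (hn 1 (by omega))
      (show (1 : ℕ) ≠ 7 by omega) (show (1 : ℕ) ≠ tabB2.neg 7 by decide +kernel) (-v) 1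
    rw [show tabB2.commTerms 7 1 = [(5, 1, 1, 1), (3, 1, 1, 2)] by decide +kernel] at e
    simp only [List.map_cons, List.map_nil, List.prod_cons, List.prod_nil, mul_one,
      _root_.neg_neg] at e
    rw [certB2.X_inv (hn 7 (by omega)), e,
      Y.br_mul_right (m _ (by omega)) (m _ (by omega))
        (mul_mem (m _ (by omega)) (m _ (by omega))) ((hc55 _ _).mul_right (hc53 _ _)),
      Y.br_mul_right (m _ (by omega)) (m _ (by omega)) (m _ (by omega)) (hc53 _ _), hz55, hz53,
      mul_one, mul_one]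
  rw [Y.br_eq (Y.θ_lft (m v (by omega))) hθc, commutatorElement_def, key, mul_inv_cancel]

end B2Three

/-- Three elements: B2. -/
theorem rel_threeB2.{a, b} {K : Type a} [Field K] [Fintype K] (hF : Fintype.card K = 3)
    (Z : Type b) [Group Z] (Y : Ext chevB2 K Z) :
    ∃ L : Rel chevB2 tabB2 K Z, L.π = Y.θ := by
  have := B2Three.charThree hF
  have E1 : Units.Enough K 1 := Units.enough_of_fintype (by omega)
  have hn : ∀ r, r < 8 → r < tabB2.n := fun r hr => lt_of_lt_of_eq hr (by decide +kernel)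
  refine Y.rel_of_list' certB2 pairsStB2_ok.1
    (fun R => (∀ t, R.x 4 t ∈ Subgroup.closure (B2Three.gens Y 4)) ∧
      ∀ a ∈ Subgroup.closure (B2Three.gens Y 4), Y.θ a = 1 → a = 1) (fun e he => ?_)
    fun hZ => ?_
  · -- the pairs
    have hsep : ∀ e : PairCert, e ∈ pairsStB2 → tabB2.chkSep 1 e = true →
        ((∀ t u : K, Commute (X chevB2 e.r t) (X chevB2 e.s u)) → Y.Z e.r e.s) ∧
          (tabB2.commTerms e.r e.s ≠ [] → ∀ R : Y.Canon tabB2, R.Good e.r e.s) := by
      intro e he hs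
      have hok := pairsStB2_ok.1
      simp only [Tab.chkList, Bool.and_eq_true, List.all_eq_true, decide_eq_true_eq] at hok
      obtain ⟨⟨b1, b2, b3, b4⟩, hpair⟩ := hok.2 e he
      obtain ⟨w, hw⟩ := Ext.exists_kill_param E1 hs
      refine ⟨fun hc => Y.Z_of_torus certB2 b1 b2 hc w hw, fun hT R => ?_⟩
      simp only [Tab.chkPair, Bool.or_eq_true, Bool.and_eq_true, decide_eq_true_eq] at hpair
      obtain ⟨ha, hx⟩ := hpair.resolve_left hT
      exact R.good_of_kill certB2 b1 b2 b3 b4 ha hx (Y.kill_of_torus w hw)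
    have he' := he
    simp only [pairsStB2, List.mem_cons, List.not_mem_nil, or_false] at he'
    rcases he' with rfl | rfl | rfl | rfl | rfl | rfl
    · exact ⟨(hsep _ he (by decide +kernel)).1, fun hT R _ => (hsep _ he (by decide +kernel)).2 hT R⟩
    · -- the short pair with a long sum
      have hT6 : tabB2.commTerms 6 2 = [(4, 2, 1, 1)] := by decide +kernel
      refine ⟨fun hc => ?_, fun _ R hR _ t u => ?_⟩
      · exfalso
        have e := certB2.X_conj (F := K) (hn 6 (by omega)) (hn 2 (by omega))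
          (show (2 : ℕ) ≠ 6 by omega) (show (2 : ℕ) ≠ tabB2.neg 6 by decide +kernel) 1 1
        rw [hT6] at e
        simp only [List.map_cons, List.map_nil, List.prod_cons, List.prod_nil, mul_one, pow_one] at e
        rw [(hc (-1) 1).eq, mul_assoc, certB2.X_add (hn 6 (by omega)), neg_add_cancel,
          certB2.X_zero (hn 6 (by omega)), mul_one, left_eq_mul,
          certB2.X_eq_one_iff (hn 4 (by omega))] at e
        have h2 : ((2 : ℕ) : K) = 0 := by push_cast at e ⊢; linear_combination -e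
        exact absurd ((CharP.cast_eq_zero_iff K 3 2).1 h2) (by decide)
      · obtain ⟨hmem, hinj⟩ := hR
        have m : ∀ {r : ℕ} (t : K), r < 8 → X chevB2 r t ∈ chevB2.group K :=
          fun t hr => certB2.X_mem_group (hn _ hr) t
        have hT26 : tabB2.commTerms 2 6 = [(4, -2, 1, 1)] := by decide +kernel
        have hθ := B2Three.θ_br_pair Y hF (hn 2 (by omega)) (hn 6 (by omega)) hT26 (by omega)
          (by decide +kernel) (by decide +kernel) (-u) (-t)
        have hx : R.x 4 ((2 : K) * (-t) * u) = Y.br (X chevB2 2 (-u)) (X chevB2 6 (-t)) := by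
          refine mul_inv_eq_one.1 (hinj _ (mul_mem (hmem _) (inv_mem (Subgroup.subset_closure
            (Or.inr ⟨2, 6, -u, -t, hn 2 (by omega), hn 6 (by omega), by decide +kernel, rfl⟩)))) ?_)
          rw [map_mul, map_inv, R.θ_x 4 (hn 4 (by omega)), hθ, mul_inv_eq_one]
          congr 1
          push_cast
          ring
        show R.x 6 (-t) * R.x 2 u * R.x 6 t = R.x 2 u * R.lift.terms 6 2 t u
        rw [RootLift.terms, hT6]
        simp only [List.map_cons, List.map_nil, List.prod_cons, List.prod_nil, mul_one, pow_one]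
        push_cast
        show _ = R.x 2 u * R.x 4 ((2 : K) * (-t) * u)
        rw [hx, Y.br_eq (R.θ_x 2 (hn 2 (by omega)) (-u)) (R.θ_x 6 (hn 6 (by omega)) (-t)),
          commutatorElement_def]
        have e2 : (R.x 2 (-u))⁻¹ = R.x 2 u := by
          have := R.lift.x_inv (hn 2 (by omega)) (-u)
          rwa [_root_.neg_neg] at this
        have e6 : (R.x 6 (-t))⁻¹ = R.x 6 t := by
          have := R.lift.x_inv (hn 6 (by omega)) (-t)
          rwa [_root_.neg_neg] at this
        rw [e2, e6]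
        calc R.x 6 (-t) * R.x 2 u * R.x 6 t
            = R.x 2 u * (R.x 2 u)⁻¹ * (R.x 6 (-t) * R.x 2 u * R.x 6 t) := by
              rw [mul_inv_cancel, one_mul]
          _ = _ := by rw [← e2, inv_inv]; group
    · exact ⟨(hsep _ he (by decide +kernel)).1, fun hT R _ => (hsep _ he (by decide +kernel)).2 hT R⟩
    · exact ⟨(hsep _ he (by decide +kernel)).1, fun hT R _ => (hsep _ he (by decide +kernel)).2 hT R⟩
    · exact ⟨fun _ => B2Three.Z_long Y hF, fun hT => absurd (by decide +kernel) hT⟩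
    · exact ⟨(hsep _ he (by decide +kernel)).1, fun hT R _ => (hsep _ he (by decide +kernel)).2 hT R⟩
  · obtain ⟨R, hR⟩ := Y.exists_canon_of_subgroups certB2
      (fun r => Subgroup.closure (B2Three.gens Y r))
      (fun r hr t => (B2Three.closure_spec Y hF hZ hr).1 t)
      (fun r hr a ha => ((B2Three.closure_spec Y hF hZ hr).2 a ha).1)
      (fun r hr a ha => ((B2Three.closure_spec Y hF hZ hr).2 a ha).2)
      (fun i hi r hr a ha => by
        have hle : Subgroup.closure (B2Three.gens Y r) ≤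
            (Subgroup.closure (B2Three.gens Y (tabB2.refl i r))).comap
              (MulAut.conj (Y.lft (nS chevB2 K i))).toMonoidHom :=
          (Subgroup.closure_le _).2 fun b hb =>
            Subgroup.subset_closure (B2Three.gens_conj Y hr hi hb)
        exact hle ha)
      (fun w r hr a ha => by
        have hle : Subgroup.closure (B2Three.gens Y r) ≤
            (Subgroup.closure (B2Three.gens Y r)).comap (MulAut.conj
              (Y.lft (Cert.torusHom (D := chevB2) (T := tabB2) (F := K) w))).toMonoidHom :=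
          (Subgroup.closure_le _).2 fun b hb =>
            Subgroup.subset_closure (B2Three.gens_torus Y hr w hb)
        exact hle ha)
    exact ⟨R, hR 4 (hn 4 (by omega)),
      fun a ha => ((B2Three.closure_spec Y hF hZ (hn 4 (by omega))).2 a ha).2⟩

end CfsgLib.Chev
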