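import Cfsg.Prelude.Def_KGroupFacts
import Cfsg.Agent.Lib.Chev.StThreeB2
import Cfsg.Agent.Lib.Chev.StProjective

/-!
Schur multipliers of the Chevalley groups from the lifts of the relations.
-/

set_option autoImplicit false
set_option maxRecDepth 100000

namespace CfsgLib.Chev

open Cfsg.Lie Matrix

universe u

/-- A stem extension of a perfect group is perfect. -/
theorem commutator_eq_top_of_stem {Γ G : Type*} [Group Γ] [Group G] {σ : Γ →* G}
    (hσ : Cfsg.IsStemExtension σ) (hG : commutator G = ⊤) : commutator Γ = ⊤ := by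
  obtain ⟨hs, -, hk⟩ := hσ
  rw [← sup_of_le_left hk, ← Subgroup.comap_map_eq, commutator_def, Subgroup.map_commutator,
    Subgroup.map_top_of_surjective σ hs, ← commutator_def, hG, Subgroup.comap_top]

namespace Cert

variable {D : ChevalleyDatum} {T : Tab} {C : Tab.Cover} (h : Cert D T C) (hnb : Rel.Nbr T)
variable {K : Type u} [Field K]
include h hnb

/-- The group is perfect when the cover is. -/
theorem commutator_group_top (hperf : commutator (D.SteinbergCover K) = ⊤) :
    commutator ↥(D.group K) = ⊤ := by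
  rw [← Subgroup.map_top_of_surjective _ (h.stTheta_surjective le_rfl (steinbergRelsAB_subset D K)),
    ← hperf, commutator_def, commutator_def, Subgroup.map_commutator,
    Subgroup.map_top_of_surjective _ (h.stTheta_surjective le_rfl (steinbergRelsAB_subset D K))]

/-- The cover of a finite field is finite. -/
theorem finite_cover [Finite K] : Finite (D.SteinbergCover K) := by
  set θ := h.stTheta (K := K) le_rfl (steinbergRelsAB_subset D K)
  set L := h.relOf (R := D.steinbergRelsAB K) le_rfl (steinbergRelsAB_subset D K)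
  have hmul := L.mult_of_finite h hnb
  have h1 : Finite (L.torG h hnb hmul).range :=
    Finite.of_surjective _ (L.torG h hnb hmul).rangeRestrict_surjective
  have h2 : Finite θ.ker := by
    have hle : θ.ker ≤ (L.torG h hnb hmul).range := by
      intro z hz
      rw [h.ker_stTheta] at hz
      obtain ⟨c, -, rfl⟩ := L.ker_le_map h hnb hmul hz
      exact ⟨c, rfl⟩
    exact Finite.of_injective _ (Subgroup.inclusion_injective hle)
  have h3 : Finite (D.SteinbergCover K ⧸ θ.ker) :=
    Finite.of_equiv _ (QuotientGroup.quotientKerEquivOfSurjective θ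
      (h.stTheta_surjective le_rfl (steinbergRelsAB_subset D K))).symm.toEquiv
  exact Finite.of_equiv _ (Subgroup.groupEquivQuotientProdSubgroup (s := θ.ker)).symm

/-- Any perfect central extension receives the cover. -/
theorem exists_surjection (hlift : ∀ (Z : Type u) [Group Z] (Y : Ext D K Z),
      ∃ L : Rel D T K Z, L.π = Y.θ) {Γ : Type u} [Group Γ] (Y : Ext D K Γ) :
    ∃ ρ : D.SteinbergCover K →* Γ, Function.Surjective ρ ∧ ∀ y, Y.θ (ρ y) =
      (h.relOf (R := D.steinbergRelsAB K) le_rfl (steinbergRelsAB_subset D K)).π y := by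
  set L₀ := h.relOf (R := D.steinbergRelsAB K) le_rfl (steinbergRelsAB_subset D K)
  obtain ⟨L, hL⟩ := hlift Γ Y
  obtain ⟨ρ, hρ⟩ := L.exists_hom h
  have hρ' : ∀ y, Y.θ (ρ y) = L₀.π y := fun y => by rw [← hL]; exact hρ y
  refine ⟨ρ, ?_, hρ'⟩
  have key : ∀ e, ∃ a ∈ ρ.range, Y.θ e = Y.θ a := fun e => by
    obtain ⟨y, hy⟩ := h.stTheta_surjective le_rfl (steinbergRelsAB_subset D K) ⟨_, Y.θ_mem e⟩
    exact ⟨ρ y, ⟨y, rfl⟩, ((congrArg Subtype.val hy).symm.trans (hρ' y).symm)⟩
  have htop : ρ.range = ⊤ := by
    rw [eq_top_iff, ← Y.perfect, commutator_def, Subgroup.commutator_le]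
    intro p _ q _
    obtain ⟨a, ha, ea⟩ := key p
    obtain ⟨b, hb, eb⟩ := key q
    rw [Y.comm_congr ea eb, commutatorElement_def]
    exact mul_mem (mul_mem (mul_mem ha hb) (inv_mem ha)) (inv_mem hb)
  exact MonoidHom.range_eq_top.1 htop

/-- The adjoint group: the multiplier is the centre of the cover. -/
theorem hasSchurMultiplier_group [Finite K] (hperf : commutator (D.SteinbergCover K) = ⊤)
    (hlift : ∀ (Z : Type u) [Group Z] (Y : Ext D K Z), ∃ L : Rel D T K Z, L.π = Y.θ)
    {A : Type} [CommGroup A] (e : ↥(Subgroup.center (D.SteinbergCover K)) ≃* A) :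
    Cfsg.HasSchurMultiplier ↥(D.group K) A := by
  set θ₀ := h.stTheta (K := K) le_rfl (steinbergRelsAB_subset D K)
  have hker : θ₀.ker = Subgroup.center (D.SteinbergCover K) := by
    rw [h.ker_stTheta]
    exact (h.relOf le_rfl (steinbergRelsAB_subset D K)).ker_eq_center h hnb
  refine ⟨⟨D.SteinbergCover K, inferInstance, h.finite_cover hnb, θ₀,
    ⟨h.stTheta_surjective _ _, hker.le, by rw [hperf]; exact le_top⟩,
    ⟨(MulEquiv.subgroupCongr hker).trans e⟩⟩, fun Γ _ _ σ hσ => ?_⟩
  have hΓ := commutator_eq_top_of_stem hσ (h.commutator_group_top hnb hperf)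
  let Y : Ext D K Γ :=
    { θ := (D.group K).subtype.comp σ
      central := fun z hz => hσ.2.1 (MonoidHom.mem_ker.2 (Subtype.ext hz))
      range_eq := by
        rw [MonoidHom.range_comp, MonoidHom.range_eq_top.2 hσ.1, ← MonoidHom.range_eq_map,
          Subgroup.range_subtype]
      perfect := hΓ }
  obtain ⟨ρ, hρ, hπ⟩ := h.exists_surjection hnb hlift Y
  have hcomp : ∀ y, σ (ρ y) = θ₀ y := fun y => Subtype.ext (hπ y)
  let f : ↥(Subgroup.center (D.SteinbergCover K)) →* ↥σ.ker :=
    (ρ.comp (Subgroup.center _).subtype).codRestrict σ.ker fun z => by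
      show σ (ρ z.1) = 1
      rw [hcomp, ← MonoidHom.mem_ker, hker]
      exact z.2
  refine ⟨f.comp e.symm.toMonoidHom, fun z => ?_⟩
  obtain ⟨y, hy⟩ := hρ z.1
  have hy' : y ∈ Subgroup.center (D.SteinbergCover K) := by
    rw [← hker, MonoidHom.mem_ker, ← hcomp, hy]
    exact z.2
  exact ⟨e ⟨y, hy'⟩, Subtype.ext (by simp [f, hy])⟩

/-- Steinberg's group: the multiplier is trivial. -/
theorem hasSchurMultiplier_steinberg [Finite K] (hperf : commutator (D.SteinbergCover K) = ⊤)
    (hlift : ∀ (Z : Type u) [Group Z] (Y : Ext D K Z), ∃ L : Rel D T K Z, L.π = Y.θ)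
    (eq : D.SteinbergCover K ≃* D.SteinbergGroup K)
    {A : Type} [CommGroup A] [Subsingleton A] :
    Cfsg.HasSchurMultiplier (D.SteinbergGroup K) A := by
  set L₀ := h.relOf (R := D.steinbergRelsAB K) le_rfl (steinbergRelsAB_subset D K)
  have hcov := h.finite_cover hnb (K := K)
  have hfin : Finite (D.SteinbergGroup K) := Finite.of_equiv _ eq.toEquiv
  have hG : commutator (D.SteinbergGroup K) = ⊤ := by
    rw [← Subgroup.map_top_of_surjective eq.toMonoidHom eq.surjective, ← hperf, commutator_def,
      commutator_def, Subgroup.map_commutator,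
      Subgroup.map_top_of_surjective eq.toMonoidHom eq.surjective]
  have hid : (MonoidHom.id (D.SteinbergGroup K)).ker = ⊥ := MonoidHom.ker_id
  refine ⟨⟨D.SteinbergGroup K, inferInstance, hfin, MonoidHom.id _,
    ⟨Function.surjective_id, hid ▸ bot_le, hid ▸ bot_le⟩, ⟨?_⟩⟩, fun Γ _ _ σ hσ => ?_⟩
  · have : Subsingleton ↥(MonoidHom.id (D.SteinbergGroup K)).ker := by rw [hid]; infer_instance
    exact { toFun := fun _ => 1, invFun := fun _ => 1,
            left_inv := fun _ => Subsingleton.elim _ _, right_inv := fun _ => Subsingleton.elim _ _,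
            map_mul' := fun _ _ => Subsingleton.elim _ _ }
  have hΓ := commutator_eq_top_of_stem hσ hG
  let θ : Γ →* GL D.Idx K := L₀.π.comp (eq.symm.toMonoidHom.comp σ)
  let Y : Ext D K Γ :=
    { θ := θ
      central := fun z hz => by
        have hc : eq.symm (σ z) ∈ Subgroup.center (D.SteinbergCover K) := by
          rw [← L₀.ker_eq_center h hnb]; exact hz
        refine central_of_perfect hΓ fun y => hσ.2.1 (MonoidHom.mem_ker.2 ?_)
        apply eq.symm.injective
        rw [map_commutatorElement, map_commutatorElement, map_one,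
          commutatorElement_eq_one_iff_mul_comm]
        exact (Subgroup.mem_center_iff.1 hc _).symm
      range_eq := by
        refine le_antisymm ?_ fun g hg => ?_
        · rintro _ ⟨a, rfl⟩; exact h.π_mem_group L₀ _
        · obtain ⟨c, hc⟩ := h.stTheta_surjective le_rfl (steinbergRelsAB_subset D K) ⟨g, hg⟩
          obtain ⟨a, ha⟩ := hσ.1 (eq c)
          refine ⟨a, ?_⟩
          show L₀.π (eq.symm (σ a)) = g
          rw [ha, eq.symm_apply_apply]
          exact congrArg Subtype.val hc
      perfect := hΓ }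
  obtain ⟨ρ, hρ, hπ⟩ := h.exists_surjection hnb hlift Y
  have hid' : eq.symm.toMonoidHom.comp (σ.comp ρ) = MonoidHom.id _ :=
    hom_eq_of_perfect hperf L₀.π (le_of_eq (L₀.ker_eq_center h hnb)) _ _ (MonoidHom.ext hπ)
  refine ⟨1, fun z => ⟨1, ?_⟩⟩
  obtain ⟨y, hy⟩ := hρ z.1
  have := DFunLike.congr_fun hid' y
  simp only [MonoidHom.comp_apply, MonoidHom.id_apply] at this
  refine Subtype.ext ?_
  show 1 = z.1
  rw [← hy, show y = 1 from ?_, map_one]
  rw [← this, hy, show σ z.1 = 1 from z.2, map_one]

end Cert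

end CfsgLib.Chev

namespace CfsgLib.Chev

open Cfsg.Lie Matrix

/-- Central extensions over a finite field with more than two elements satisfy the relations. -/
theorem rel_of_card_ne_two.{a, b} {K : Type a} [Field K] [Fintype K] (hq : Fintype.card K ≠ 2)
    {D : ChevalleyDatum} (hD : D ∈ [chevB2, chevD4, chevF4, chevE6, chevE7, chevE8]) :
    ∃ T C, Cert D T C ∧ Rel.Nbr T ∧
      ∀ (Z : Type b) [Group Z] (Y : Ext D K Z), ∃ L : Rel D T K Z, L.π = Y.θ := by
  have h2 : 2 ≤ Fintype.card K := Fintype.one_lt_card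
  rcases (show Fintype.card K = 3 ∨ Fintype.card K = 4 ∨ 4 < Fintype.card K by omega) with
    h | h | h
  · rcases List.mem_cons.1 hD with rfl | hD
    · exact ⟨_, _, certB2, by unfold Rel.Nbr; decide +kernel, fun Z _ Y => rel_threeB2 h Z Y⟩
    · exact rel_three h hD
  · exact rel_four h hD
  · exact rel_of_big_field (s := (Finset.univ : Finset K)) (by rwa [Finset.card_univ])
      (List.mem_cons_of_mem _ hD)

/-- The cover over a finite field is perfect. -/
theorem perfect_cover {K : Type*} [Field K] [Fintype K] {D : ChevalleyDatum}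
    (hD : D ∈ [chevB2, chevD4, chevF4, chevE6, chevE7, chevE8])
    (hq : D = chevB2 → Fintype.card K ≠ 2) : commutator (D.SteinbergCover K) = ⊤ := by
  refine rel_perfect (List.mem_cons_of_mem _ hD) (fun hm => ?_) le_rfl (steinbergRelsAB_subset D K)
  have hB : D = chevB2 := by
    rcases List.mem_cons.1 hm with h | h
    · exact h
    · rw [List.mem_singleton] at h
      subst h
      exfalso
      have key : ∀ D ∈ [chevB2, chevD4, chevF4, chevE6, chevE7, chevE8],
          D.nroots ≠ chevG2.nroots := by decide +kernel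
      exact key _ hD rfl
  classical
  have h3 : ({0, 1} : Finset K) ≠ Finset.univ := fun e => hq hB (by
    rw [← Finset.card_univ, ← e, Finset.card_pair zero_ne_one])
  obtain ⟨x, hx⟩ : ∃ x, x ∉ ({0, 1} : Finset K) := by
    by_contra hc
    push Not at hc
    exact h3 (Finset.eq_univ_iff_forall.2 hc)
  simp only [Finset.mem_insert, Finset.mem_singleton, not_or] at hx
  exact ⟨x, hx⟩

/-- Types with trivial centre. -/
theorem center_cover_bot {K : Type*} [Field K] [Fintype K] {D : ChevalleyDatum}
    (hD : D ∈ [chevF4, chevE8]) : Subgroup.center (D.SteinbergCover K) = ⊥ := by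
  simp only [List.mem_cons, List.not_mem_nil, or_false] at hD
  rcases hD with rfl | rfl
  · have hnb : Rel.Nbr tabF4 := by unfold Rel.Nbr; decide +kernel
    exact (certF4.relOf (R := chevF4.steinbergRelsAB K) le_rfl (steinbergRelsAB_subset chevF4 K)
      ).center_eq_bot certF4 hnb
      ((certF4.relOf le_rfl (steinbergRelsAB_subset chevF4 K)).mult_of_finite certF4 hnb)
      (U := matOf _ snfUF4) (Ui := matOf _ snfUiF4) (V := matOf _ snfVF4) (Vi := matOf _ snfViF4)
      (by decide +kernel) (by decide +kernel)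
  · have hnb : Rel.Nbr tabE8 := by unfold Rel.Nbr; decide +kernel
    exact (certE8.relOf (R := chevE8.steinbergRelsAB K) le_rfl (steinbergRelsAB_subset chevE8 K)
      ).center_eq_bot certE8 hnb
      ((certE8.relOf le_rfl (steinbergRelsAB_subset chevE8 K)).mult_of_finite certE8 hnb)
      (U := matOf _ snfUE8) (Ui := matOf _ snfUiE8) (V := matOf _ snfVE8) (Vi := matOf _ snfViE8)
      (by decide +kernel) (by decide +kernel)

/-- A trivial centre as the trivial cyclic group. -/
theorem centerEquivOne {G : Type*} [Group G] (h : Subgroup.center G = ⊥) :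
    Nonempty (↥(Subgroup.center G) ≃* Multiplicative (ZMod 1)) := by
  have : Subsingleton ↥(Subgroup.center G) := by rw [h]; infer_instance
  exact ⟨{ toFun := fun _ => 1, invFun := fun _ => 1,
           left_inv := fun _ => Subsingleton.elim _ _, right_inv := fun _ => Subsingleton.elim _ _,
           map_mul' := fun _ _ => Subsingleton.elim _ _ }⟩

end CfsgLib.Chev
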