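import Cfsg.Agent.Lib.Chev.TwistE6Mult
import Cfsg.Agent.Lib.Chev.StCenterE
import Cfsg.Agent.Lib.Chev.StMultiplier
import Cfsg.Agent.Lib.StemExt.PrimeBound

/-!
The threefold cover of `²E₆(q)` inside the universal cover of `E₆(q²)`, and the multiplier.
-/

set_option autoImplicit false
set_option maxRecDepth 100000
set_option linter.unusedSectionVars false
set_option linter.style.haveILetI false

open scoped commutatorElement

namespace CfsgLib.Chev.E6Root

open Cfsg.Lie Matrix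
open Cert (torusHom)

theorem chkPairCoverE6 : ([(0, 5, 56, 36), (2, 4, 42, 37)] : List (ℕ × ℕ × ℕ × ℕ)).all (fun p =>
    let s := tabE6.neg p.2.2.1
    let s' := tabE6.neg p.2.2.2
    decide (p.1 < tabE6.l ∧ p.2.1 < tabE6.l ∧ tabE6.simple p.1 = p.2.2.1 ∧
      tabE6.simple p.2.1 = p.2.2.2 ∧
      tabE6.car p.1 p.2.2.1 = 2 ∧ tabE6.car p.2.1 p.2.2.1 = 0 ∧
      tabE6.car p.1 p.2.2.2 = 0 ∧ tabE6.car p.2.1 p.2.2.2 = 2 ∧
      tabE6.car p.1 s = -2 ∧ tabE6.car p.2.1 s = 0 ∧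
      tabE6.car p.1 s' = 0 ∧ tabE6.car p.2.1 s' = -2) &&
    ([(p.2.2.1, p.2.2.2), (p.2.2.1, s'), (s, p.2.2.2), (s, s')] : List (ℕ × ℕ)).all (fun rs =>
      decide (rs.1 < tabE6.n ∧ rs.2 < tabE6.n ∧ rs.2 ≠ rs.1 ∧ rs.2 ≠ tabE6.neg rs.1 ∧
        tabE6.commTerms rs.1 rs.2 = [])) &&
    decide (twistE6.rt p.2.2.1 = p.2.2.2 ∧ twistE6.rt p.2.2.2 = p.2.2.1 ∧ twistE6.rt s = s' ∧
      twistE6.rt s' = s ∧ twistE6.ep p.2.2.1 = 1 ∧ twistE6.ep p.2.2.2 = 1 ∧
      twistE6.ep s = 1 ∧ twistE6.ep s' = 1 ∧ twistE6.dg p.2.2.1 = 1 ∧ twistE6.dg p.2.2.2 = 1 ∧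
      twistE6.dg s = 1 ∧ twistE6.dg s' = 1 ∧ chkCommute tabE6 p.2.2.1 p.2.2.2 = true ∧
      chkCommute tabE6 s s' = true)) = true := by
  decide +kernel

section Pair

variable {K : Type*} [Field K] {Γ : Type*} [Group Γ] (L : Rel chevE6 tabE6 K Γ)

lemma commute_x {r s : ℕ} (hr : r < tabE6.n) (hs : s < tabE6.n) (hne : s ≠ r)
    (hneg : s ≠ tabE6.neg r) (hT : tabE6.commTerms r s = []) (t u : K) :
    Commute (L.x r t) (L.x s u) := by
  have e := L.comm r hr s hs hne hneg t u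
  rw [hT, List.map_nil, List.prod_nil, mul_one, ← L.x_inv hr, mul_assoc, inv_mul_eq_iff_eq_mul] at e
  exact e.symm

variable (f : K →+* K)

/-- The product of a root element and the twisted element of the opposite root. -/
def pairX (r r' : ℕ) (t : K) : Γ := L.x r t * L.x r' (f t)

lemma pair_hG_mem (hnb : Rel.Nbr tabE6) {i j r r' : ℕ}
    (hm : (i, j, r, r') ∈ ([(0, 5, 56, 36), (2, 4, 42, 37)] : List (ℕ × ℕ × ℕ × ℕ)))
    (H : Subgroup Γ) (hp : ∀ t, pairX L f r r' t ∈ H)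
    (hn : ∀ t, pairX L f (tabE6.neg r) (tabE6.neg r') t ∈ H)
    (v : K) (hv0 : v ≠ 0) (hv : v ^ 2 ≠ 1) (u : K) :
    L.hG (tabE6.simple i) u * L.hG (tabE6.simple j) (f u) ∈ ⁅H, H⁆ := by
  have h0 := chkPairCoverE6
  simp only [List.all_eq_true, Bool.and_eq_true, decide_eq_true_eq] at h0
  obtain ⟨⟨⟨hi, hj, ei, ej, a1, a2, a3, a4, a5, a6, a7, a8⟩, hcom⟩, -⟩ := h0 _ hm
  dsimp only at *
  obtain ⟨hr, hr', n1, m1, c1⟩ := hcom (r, r') (by simp)
  obtain ⟨-, hs', n2, m2, c2⟩ := hcom (r, tabE6.neg r') (by simp)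
  obtain ⟨hs, -, n3, m3, c3⟩ := hcom (tabE6.neg r, r') (by simp)
  obtain ⟨-, -, n4, m4, c4⟩ := hcom (tabE6.neg r, tabE6.neg r') (by simp)
  have k1 : ∀ a b, Commute (L.x r a) (L.x r' b) := commute_x L hr hr' n1 m1 c1
  have k2 : ∀ a b, Commute (L.x r a) (L.x (tabE6.neg r') b) := commute_x L hr hs' n2 m2 c2
  have k3 : ∀ a b, Commute (L.x (tabE6.neg r) a) (L.x r' b) := commute_x L hs hr' n3 m3 c3
  have k4 : ∀ a b, Commute (L.x (tabE6.neg r) a) (L.x (tabE6.neg r') b) :=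
    commute_x L hs hs' n4 m4 c4
  have hnG : ∀ a : K, L.nG r a * L.nG r' (f a) = pairX L f r r' a *
      pairX L f (tabE6.neg r) (tabE6.neg r') (-a⁻¹) * pairX L f r r' a := fun a => by
    simp only [pairX, Rel.nG, map_neg, map_inv₀]
    calc L.x r a * L.x (tabE6.neg r) (-a⁻¹) * L.x r a *
          (L.x r' (f a) * L.x (tabE6.neg r') (-(f a)⁻¹) * L.x r' (f a))
        = L.x r a * L.x (tabE6.neg r) (-a⁻¹) * (L.x r a * L.x r' (f a)) *
            L.x (tabE6.neg r') (-(f a)⁻¹) * L.x r' (f a) := by group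
      _ = L.x r a * (L.x (tabE6.neg r) (-a⁻¹) * L.x r' (f a)) * (L.x r a *
            L.x (tabE6.neg r') (-(f a)⁻¹)) * L.x r' (f a) := by rw [(k1 a (f a)).eq]; group
      _ = L.x r a * L.x r' (f a) * (L.x (tabE6.neg r) (-a⁻¹) * L.x (tabE6.neg r') (-(f a)⁻¹)) *
            (L.x r a * L.x r' (f a)) := by rw [(k3 _ _).eq, (k2 _ _).eq]; group
  have hnc : ∀ a b : K, Commute (L.nG r a) (L.nG r' b) := fun a b => by
    simp only [Rel.nG]
    have A : ∀ y, (∀ w, Commute y (L.x r' w)) → (∀ w, Commute y (L.x (tabE6.neg r') w)) →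
        Commute y (L.x r' b * L.x (tabE6.neg r') (-b⁻¹) * L.x r' b) := fun y h1 h2 =>
      ((h1 _).mul_right (h2 _)).mul_right (h1 _)
    exact ((A _ (k1 a) (k2 a)).mul_left (A _ (k3 _) (k4 _))).mul_left (A _ (k1 a) (k2 a))
  have hGeq : ∀ a : K, L.hG r a * L.hG r' (f a) =
      (L.nG r a * L.nG r' (f a)) * (L.nG r (-1) * L.nG r' (f (-1))) := fun a => by
    simp only [Rel.hG, map_neg, map_one]
    rw [mul_assoc (L.nG r a), ← mul_assoc (L.nG r (-1)), (hnc (-1) (f a)).eq]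
    group
  have hmemN : ∀ a : K, L.nG r a * L.nG r' (f a) ∈ H := fun a => by
    rw [hnG]; exact mul_mem (mul_mem (hp _) (hn _)) (hp _)
  have hmemG : ∀ a : K, L.hG r a * L.hG r' (f a) ∈ H := fun a => by
    rw [hGeq]; exact mul_mem (hmemN _) (hmemN _)
  have hfv : f v ≠ 0 := (map_ne_zero f).2 hv0
  have hadd : ∀ {a a' : ℕ}, a < tabE6.n → a' < tabE6.n →
      (∀ s t : K, Commute (L.x a s) (L.x a' t)) →
      ∀ s t : K, pairX L f a a' s * pairX L f a a' t = pairX L f a a' (s + t) := by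
    intro a a' ha ha' hk s t
    simp only [pairX, map_add, ← L.x_add a ha, ← L.x_add a' ha']
    rw [mul_assoc (L.x a s), ← mul_assoc (L.x a' (f s)), ← (hk t (f s)).eq]
    group
  have hD : ∀ {a a' : ℕ}, a < tabE6.n → a' < tabE6.n →
      (∀ s t : K, Commute (L.x a s) (L.x a' t)) → (∀ t, pairX L f a a' t ∈ H) →
      ∀ e : ℤ, tabE6.car i a = e → tabE6.car j a = 0 → tabE6.car i a' = 0 →
        tabE6.car j a' = e → v ^ e ≠ 1 → ∀ t, pairX L f a a' t ∈ ⁅H, H⁆ := by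
    intro a a' ha ha' hk hmem e e1 e2 e3 e4 hne t
    set g := L.hG r v * L.hG r' (f v)
    have hconj : ∀ s, g * pairX L f a a' s * g⁻¹ = pairX L f a a' (v ^ e * s) := by
      intro s
      have h1 : g * L.x a s * g⁻¹ = L.x a (v ^ e * s) := by
        calc g * L.x a s * g⁻¹ = L.hG r v * (L.hG r' (f v) * L.x a s * (L.hG r' (f v))⁻¹) *
              (L.hG r v)⁻¹ := by simp only [g]; group
          _ = _ := by
            subst ei ej
            rw [L.hG_conj_x certE6 hnb hj ha hfv, e2, _root_.zpow_zero, one_mul,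
              L.hG_conj_x certE6 hnb hi ha hv0, e1]
      have h2 : g * L.x a' (f s) * g⁻¹ = L.x a' (f (v ^ e * s)) := by
        calc g * L.x a' (f s) * g⁻¹ = L.hG r v * (L.hG r' (f v) * L.x a' (f s) *
              (L.hG r' (f v))⁻¹) * (L.hG r v)⁻¹ := by simp only [g]; group
          _ = _ := by
            subst ei ej
            rw [L.hG_conj_x certE6 hnb hj ha' hfv, e4, L.hG_conj_x certE6 hnb hi ha' hv0, e3,
              _root_.zpow_zero, one_mul, map_mul, map_zpow₀]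
      rw [pairX, pairX, ← h1, ← h2]
      group
    have hs : v ^ e - 1 ≠ 0 := sub_ne_zero.2 hne
    have hc := Subgroup.commutator_mem_commutator (hmemG v) (hmem (t / (v ^ e - 1)))
    rw [commutatorElement_def, hconj] at hc
    convert hc using 1
    rw [eq_mul_inv_iff_mul_eq, hadd ha ha' hk]
    congr 1
    field_simp
    ring
  have hp' := hD hr hr' k1 hp 2 a1 a2 a3 a4 (by exact_mod_cast hv)
  have hn' := hD hs hs' k4 hn (-2) a5 a6 a7 a8 (by
    rw [_root_.zpow_neg, ne_eq, inv_eq_one]; exact_mod_cast hv)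
  have hN' : ∀ a : K, L.nG r a * L.nG r' (f a) ∈ ⁅H, H⁆ := fun a => by
    rw [hnG]; exact mul_mem (mul_mem (hp' _) (hn' _)) (hp' _)
  rw [ei, ej, hGeq]
  exact mul_mem (hN' _) (hN' _)

end Pair

universe u

variable {K : Type u} [Field K] [Fintype K] {q : ℕ}
variable (f : K →+* K) (hf : ∀ t, f t = t ^ q) (hK : Fintype.card K = q ^ 2)
include hf hK

/-- The centre of the cover lies in the derived group of the preimage of the twisted group. -/
theorem center_le_derived (hq : IsPrimePow q) (hd : 3 ∣ q + 1) :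
    Subgroup.center (chevE6.SteinbergCover K) ≤
      ⁅(endoE6 f).fix.comap (certE6.relOf (R := chevE6.steinbergRelsAB K) le_rfl
          (steinbergRelsAB_subset chevE6 K)).π,
        (endoE6 f).fix.comap (certE6.relOf (R := chevE6.steinbergRelsAB K) le_rfl
          (steinbergRelsAB_subset chevE6 K)).π⁆ := by
  classical
  set L := certE6.relOf (R := chevE6.steinbergRelsAB K) le_rfl (steinbergRelsAB_subset chevE6 K)
  set H := (endoE6 f).fix.comap L.π
  have hnb : Rel.Nbr tabE6 := by unfold Rel.Nbr; decide +kernel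
  have hmul := L.mult_of_finite certE6 hnb
  have h2 := hq.two_le
  obtain ⟨v, hv⟩ := exists_sq_ne_one (F := K) (by rw [hK]; nlinarith)
  intro z hz
  rw [← L.ker_eq_center certE6 hnb] at hz
  obtain ⟨c, hc, rfl⟩ := L.ker_le_map certE6 hnb hmul hz
  have hc' : c ∈ (torusHom (D := chevE6) (T := tabE6) (F := K)).ker := by
    rw [certE6.ker_torusHom]; exact hc
  have h3 : c ⟨0, by decide⟩ ^ 3 = 1 := certE6.ker_pow invCartanE6_mul_smul hc' _
  have hq2 : ∀ n, (c ⟨0, by decide⟩ ^ n) ^ q = c ⟨0, by decide⟩ ^ (2 * n) := fun n => by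
    obtain ⟨m, hm⟩ := hd
    rw [← pow_mul, pow_eq_pow_mod (n * q) h3, pow_eq_pow_mod (2 * n) h3]
    congr 1
    rw [Nat.mul_mod, show q % 3 = 2 by omega, ← Nat.mul_mod_mod]
    simp [Nat.mul_mod, mul_comm]
  set w := c ⟨0, by decide⟩
  have ec : c = Pi.mulSingle ⟨0, by decide⟩ w * Pi.mulSingle ⟨5, by decide⟩ (w ^ q) *
      (Pi.mulSingle ⟨2, by decide⟩ (w ^ 2) * Pi.mulSingle ⟨4, by decide⟩ ((w ^ 2) ^ q)) := by
    funext i
    rw [certE6.ker_eq_pow kerRowsE6 hc' i]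
    obtain ⟨i, hi⟩ := i
    have hi' : i < 6 := hi
    have e1 : w ^ q = w ^ 2 := by simpa using hq2 1
    have e2 : (w ^ 2) ^ q = w := by
      rw [hq2 2, pow_eq_pow_mod _ h3]; simp
    interval_cases i <;> simp [kerVecE6, e1, e2] <;> rfl
  have hpair : ∀ {i j r r' : ℕ}
      (hm : (i, j, r, r') ∈ ([(0, 5, 56, 36), (2, 4, 42, 37)] : List (ℕ × ℕ × ℕ × ℕ)))
      (u : Kˣ), L.hG (tabE6.simple i) (u : K) * L.hG (tabE6.simple j) ((u ^ q : Kˣ) : K) ∈
        ⁅H, H⁆ := by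
    intro i j r r' hm u
    have h0 := chkPairCoverE6
    simp only [List.all_eq_true, Bool.and_eq_true, decide_eq_true_eq] at h0
    obtain ⟨⟨-, hcom⟩, e1, e2, e3, e4, p1, p2, p3, p4, d1, d2, d3, d4, k1, k2⟩ := h0 _ hm
    dsimp only at *
    obtain ⟨hr, hr', -⟩ := hcom (r, r') (by simp)
    obtain ⟨hs, hs', -⟩ := hcom (tabE6.neg r, tabE6.neg r') (by simp)
    have hmem : ∀ {a a' : ℕ}, (a < tabE6.n ∧ twistE6.rt a = a' ∧ twistE6.ep a = 1 ∧
        twistE6.dg a = 1) → (a' < tabE6.n ∧ twistE6.rt a' = a ∧ twistE6.ep a' = 1 ∧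
        twistE6.dg a' = 1) → chkCommute tabE6 a a' = true → ∀ t, pairX L f a a' t ∈ H := by
      intro a a' ha ha' hc t
      rw [Subgroup.mem_comap, pairX, map_mul, L.π_x a ha.1, L.π_x a' ha'.1, hf]
      exact pair_mem_fixE6 f hf hK ha ha' hc t
    rw [Units.val_pow_eq_pow_val, ← hf]
    exact pair_hG_mem L f hnb hm H (hmem ⟨hr, e1, p1, d1⟩ ⟨hr', e2, p2, d2⟩ k1)
      (hmem ⟨hs, e3, p3, d3⟩ ⟨hs', e4, p4, d4⟩ k2) v v.ne_zero
      (fun e => hv (Units.ext (by simpa using e))) u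
  rw [ec, map_mul, map_mul, map_mul, L.torG_single certE6 hnb hmul, L.torG_single certE6 hnb hmul,
    L.torG_single certE6 hnb hmul, L.torG_single certE6 hnb hmul]
  exact mul_mem (hpair (r := 56) (r' := 36) (by simp) w)
    (hpair (r := 42) (r' := 37) (by simp) (w ^ 2))

/-- A stem extension of `²E₆(q)` with kernel of order divisible by three, when `3 ∣ q + 1`. -/
theorem exists_threefold (hq : IsPrimePow q) (hd : 3 ∣ q + 1) :
    ∃ (Γ : Type u) (_ : Group Γ) (_ : Finite Γ) (σ : Γ →* ↥(endoE6 f).fix),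
      Cfsg.IsStemExtension σ ∧ 3 ∣ Nat.card σ.ker := by
  classical
  set L := certE6.relOf (R := chevE6.steinbergRelsAB K) le_rfl (steinbergRelsAB_subset chevE6 K)
    with hL
  have hnb : Rel.Nbr tabE6 := by unfold Rel.Nbr; decide +kernel
  haveI : Finite (chevE6.SteinbergCover K) := certE6.finite_cover hnb
  set H := (endoE6 f).fix.comap L.π
  let π₁ : ↥H →* ↥(endoE6 f).fix := L.π.subgroupComap (endoE6 f).fix
  have hs₁ : Function.Surjective π₁ := by
    rintro ⟨g, hg⟩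
    obtain ⟨y, hy⟩ := certE6.stTheta_surjective (R := chevE6.steinbergRelsAB K) le_rfl
      (steinbergRelsAB_subset chevE6 K) ⟨g, ((endoE6 f).mem_fix.1 hg).1⟩
    have hy' : L.π y = g := congrArg Subtype.val hy
    exact ⟨⟨y, show L.π y ∈ _ from hy'.symm ▸ hg⟩, Subtype.ext hy'⟩
  have hc₁ : π₁.ker ≤ Subgroup.center _ := by
    intro x hx
    have hx' : (x : chevE6.SteinbergCover K) ∈ L.π.ker := congrArg Subtype.val hx
    rw [L.ker_eq_center certE6 hnb] at hx'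
    exact Subgroup.mem_center_iff.2 fun y => Subtype.ext (Subgroup.mem_center_iff.1 hx' y)
  have hG := perfect_fixE6 f hf hK hq
  obtain ⟨hD, hDs⟩ := OmegaSevenMult.derived_perfect hs₁ hc₁ hG
  refine ⟨↥(commutator ↥H), inferInstance, inferInstance,
    π₁.comp (commutator _).subtype, ⟨hDs, fun x hx => Subgroup.mem_center_iff.2 fun y =>
      Subtype.ext (Subgroup.mem_center_iff.1 (hc₁ hx) y.1), by rw [hD]; exact le_top⟩, ?_⟩
  have hcard : Nat.card (Subgroup.center (chevE6.SteinbergCover K)) = 3 := by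
    rw [card_center_coverE6, hK]
    refine Nat.gcd_eq_left (hd.trans ⟨q - 1, ?_⟩)
    rw [← Nat.sq_sub_sq, one_pow]
  rw [← hcard]
  have hπ : ∀ z ∈ Subgroup.center (chevE6.SteinbergCover K), L.π z = 1 := fun z hz => by
    rwa [← L.ker_eq_center certE6 hnb, MonoidHom.mem_ker] at hz
  have hH : ∀ z ∈ Subgroup.center (chevE6.SteinbergCover K), z ∈ H := fun z hz => by
    refine Subgroup.mem_comap.2 ?_
    rw [hπ z hz]; exact one_mem (endoE6 f).fix
  have hder : ∀ z (hz : z ∈ Subgroup.center (chevE6.SteinbergCover K)),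
      (⟨z, hH z hz⟩ : ↥H) ∈ commutator ↥H := by
    intro z hz
    have hm := center_le_derived f hf hK hq hd hz
    rw [← Subgroup.map_subtype_commutator] at hm
    obtain ⟨y, hy, ey⟩ := Subgroup.mem_map.1 hm
    exact (show y = ⟨z, hH z hz⟩ from Subtype.ext ey) ▸ hy
  let ι : ↥(Subgroup.center (chevE6.SteinbergCover K)) →*
      ↥(π₁.comp (commutator ↥H).subtype).ker :=
    MonoidHom.mk' (fun z => ⟨⟨⟨z.1, hH _ z.2⟩, hder _ z.2⟩, Subtype.ext (hπ _ z.2)⟩) fun a b => rfl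
  refine Subgroup.card_dvd_of_injective ι fun a b hab => Subtype.ext ?_
  exact congrArg (fun t : ↥(π₁.comp (commutator ↥H).subtype).ker => t.1.1.1) hab

/-- The multiplier of `²E₆(q)` for `q ≥ 3`. -/
theorem multiplier_fix (hq : IsPrimePow q) (hq3 : 3 ≤ q) :
    Cfsg.HasCyclicSchurMultiplier ↥(endoE6 f).fix (Nat.gcd 3 (q + 1)) := by
  classical
  rcases (Nat.dvd_prime Nat.prime_three).1 (Nat.gcd_dvd_left 3 (q + 1)) with e | e
  · rw [e]
    refine StemExt.hasCyclicSchurMultiplier_one fun Δ _ _ σ hσ => ?_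
    have := card_ker_le f hf hK hq hq3 σ hσ
    rw [e] at this
    exact Subgroup.eq_bot_of_card_le _ this
  rw [e]
  have hd : 3 ∣ q + 1 := by rw [← e]; exact Nat.gcd_dvd_right _ _
  obtain ⟨Γ, _, _, σ₀, hσ₀, h3⟩ := exists_threefold f hf hK hq hd
  exact StemExt.hasCyclicSchurMultiplier_of_prime_bound (perfect_fixE6 f hf hK hq) Nat.prime_three
    σ₀ hσ₀ h3 fun Δ _ _ σ hσ => e ▸ card_ker_le f hf hK hq hq3 σ hσ

end CfsgLib.Chev.E6Root
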