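import Cfsg.Agent.Lib.Chev.WeylGroup
import Cfsg.Agent.Lib.Chev.All
import Cfsg.Prelude.Def_ChevStructure
import Cfsg.Agent.Lib.Chev.WeylG2
import Cfsg.Agent.Lib.Chev.WeylB2
import Cfsg.Agent.Lib.Chev.WeylD4
import Cfsg.Agent.Lib.Chev.WeylF4
import Cfsg.Agent.Lib.Chev.WeylE6
import Cfsg.Agent.Lib.Chev.WeylE7
import Cfsg.Agent.Lib.Chev.WeylE8

/-!
The Weyl groups, type by type: presentation, order, order of a Coxeter element (generated).
-/

set_option autoImplicit false
set_option maxRecDepth 100000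

namespace CfsgLib.Chev

open Cfsg.Lie CfsgLib.Coxeter

theorem exists_weylG2 :
    ∃ e : CoxeterMatrix.Group (CoxeterMatrix.G₂) ≃* certG2.WeylGrp,
      ∀ i : Fin 2, e (CoxeterMatrix.simple (CoxeterMatrix.G₂) i) = certG2.sgen i := by
  exact certG2.exists_iso (CoxeterMatrix.G₂ : CoxeterMatrix (Fin 2)) (by decide +kernel)

theorem card_coxeterG2 : Nat.card (CoxeterMatrix.Group (CoxeterMatrix.G₂)) = 12 := by
  obtain ⟨e, -⟩ := exists_weylG2
  rw [Nat.card_congr e.toEquiv, certG2.card_weylGrp chkLevelsG2]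
  decide +kernel

theorem orderOf_coxeterG2 :
    orderOf ((List.finRange 2).map (CoxeterMatrix.simple (CoxeterMatrix.G₂))).prod = 6 := by
  obtain ⟨e, he⟩ := exists_weylG2
  rw [← orderOf_injective e.toMonoidHom e.injective, map_list_prod, List.map_map]
  have key := certG2.orderOf_eq_of_ordChk (L := List.finRange 2) (k := 6) (by decide +kernel)
  rw [← key]
  exact congrArg (fun L => orderOf L.prod) (List.map_congr_left fun i _ => he i)

theorem exists_monomial_weylG2 (F : Type*) [Field F] :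
    ∃ φ : ↥(chevG2.monomialSubgroup F) →* CoxeterMatrix.Group (CoxeterMatrix.G₂),
      Function.Surjective φ ∧
      φ.ker = (chevG2.diagonalSubgroup F).subgroupOf (chevG2.monomialSubgroup F) ∧
      ∀ (i : Fin 2) (g : ↥(chevG2.monomialSubgroup F)),
        ((g : GL chevG2.Idx F) : Matrix chevG2.Idx chevG2.Idx F) =
          chevG2.nMat F (chevG2.simple i) 1 → φ g = CoxeterMatrix.simple (CoxeterMatrix.G₂) i := by
  obtain ⟨e, he⟩ := exists_weylG2
  obtain ⟨φ, hsurj, hker, hgen⟩ := certG2.exists_monomial_hom (F := F)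
  refine ⟨e.symm.toMonoidHom.comp φ, e.symm.surjective.comp hsurj, ?_, fun i g hg => ?_⟩
  · rw [← hker]; ext g; simp
  · rw [MonoidHom.comp_apply, hgen i g (Units.ext (hg.trans (certG2.coe_nS _).symm))]
    exact e.symm_apply_eq.2 (he i).symm

theorem exists_weylB2 :
    ∃ e : CoxeterMatrix.Group ((CoxeterMatrix.B 2)) ≃* certB2.WeylGrp,
      ∀ i : Fin 2, e (CoxeterMatrix.simple ((CoxeterMatrix.B 2)) i) = certB2.sgen i := by
  exact certB2.exists_iso ((CoxeterMatrix.B 2) : CoxeterMatrix (Fin 2)) (by decide +kernel)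

theorem card_coxeterB2 : Nat.card (CoxeterMatrix.Group ((CoxeterMatrix.B 2))) = 8 := by
  obtain ⟨e, -⟩ := exists_weylB2
  rw [Nat.card_congr e.toEquiv, certB2.card_weylGrp chkLevelsB2]
  decide +kernel

theorem orderOf_coxeterB2 :
    orderOf ((List.finRange 2).map (CoxeterMatrix.simple ((CoxeterMatrix.B 2)))).prod = 4 := by
  obtain ⟨e, he⟩ := exists_weylB2
  rw [← orderOf_injective e.toMonoidHom e.injective, map_list_prod, List.map_map]
  have key := certB2.orderOf_eq_of_ordChk (L := List.finRange 2) (k := 4) (by decide +kernel)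
  rw [← key]
  exact congrArg (fun L => orderOf L.prod) (List.map_congr_left fun i _ => he i)

theorem exists_monomial_weylB2 (F : Type*) [Field F] :
    ∃ φ : ↥(chevB2.monomialSubgroup F) →* CoxeterMatrix.Group ((CoxeterMatrix.B 2)),
      Function.Surjective φ ∧
      φ.ker = (chevB2.diagonalSubgroup F).subgroupOf (chevB2.monomialSubgroup F) ∧
      ∀ (i : Fin 2) (g : ↥(chevB2.monomialSubgroup F)),
        ((g : GL chevB2.Idx F) : Matrix chevB2.Idx chevB2.Idx F) =
          chevB2.nMat F (chevB2.simple i) 1 → φ g = CoxeterMatrix.simple ((CoxeterMatrix.B 2)) i := by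
  obtain ⟨e, he⟩ := exists_weylB2
  obtain ⟨φ, hsurj, hker, hgen⟩ := certB2.exists_monomial_hom (F := F)
  refine ⟨e.symm.toMonoidHom.comp φ, e.symm.surjective.comp hsurj, ?_, fun i g hg => ?_⟩
  · rw [← hker]; ext g; simp
  · rw [MonoidHom.comp_apply, hgen i g (Units.ext (hg.trans (certB2.coe_nS _).symm))]
    exact e.symm_apply_eq.2 (he i).symm

theorem exists_weylD4 :
    ∃ e : CoxeterMatrix.Group (Cfsg.Lie.coxeterD4) ≃* certD4.WeylGrp,
      ∀ i : Fin 4, e (CoxeterMatrix.simple (Cfsg.Lie.coxeterD4) i) = certD4.sgen i := by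
  exact certD4.exists_iso (Cfsg.Lie.coxeterD4 : CoxeterMatrix (Fin 4)) (by decide +kernel)

theorem card_coxeterD4 : Nat.card (CoxeterMatrix.Group (Cfsg.Lie.coxeterD4)) = 192 := by
  obtain ⟨e, -⟩ := exists_weylD4
  rw [Nat.card_congr e.toEquiv, certD4.card_weylGrp chkLevelsD4]
  decide +kernel

theorem orderOf_coxeterD4 :
    orderOf ((List.finRange 4).map (CoxeterMatrix.simple (Cfsg.Lie.coxeterD4))).prod = 6 := by
  obtain ⟨e, he⟩ := exists_weylD4
  rw [← orderOf_injective e.toMonoidHom e.injective, map_list_prod, List.map_map]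
  have key := certD4.orderOf_eq_of_ordChk (L := List.finRange 4) (k := 6) (by decide +kernel)
  rw [← key]
  exact congrArg (fun L => orderOf L.prod) (List.map_congr_left fun i _ => he i)

theorem exists_monomial_weylD4 (F : Type*) [Field F] :
    ∃ φ : ↥(chevD4.monomialSubgroup F) →* CoxeterMatrix.Group (Cfsg.Lie.coxeterD4),
      Function.Surjective φ ∧
      φ.ker = (chevD4.diagonalSubgroup F).subgroupOf (chevD4.monomialSubgroup F) ∧
      ∀ (i : Fin 4) (g : ↥(chevD4.monomialSubgroup F)),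
        ((g : GL chevD4.Idx F) : Matrix chevD4.Idx chevD4.Idx F) =
          chevD4.nMat F (chevD4.simple i) 1 → φ g = CoxeterMatrix.simple (Cfsg.Lie.coxeterD4) i := by
  obtain ⟨e, he⟩ := exists_weylD4
  obtain ⟨φ, hsurj, hker, hgen⟩ := certD4.exists_monomial_hom (F := F)
  refine ⟨e.symm.toMonoidHom.comp φ, e.symm.surjective.comp hsurj, ?_, fun i g hg => ?_⟩
  · rw [← hker]; ext g; simp
  · rw [MonoidHom.comp_apply, hgen i g (Units.ext (hg.trans (certD4.coe_nS _).symm))]
    exact e.symm_apply_eq.2 (he i).symm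

theorem exists_weylF4 :
    ∃ e : CoxeterMatrix.Group (CoxeterMatrix.F₄) ≃* certF4.WeylGrp,
      ∀ i : Fin 4, e (CoxeterMatrix.simple (CoxeterMatrix.F₄) i) = certF4.sgen i := by
  exact certF4.exists_iso (CoxeterMatrix.F₄ : CoxeterMatrix (Fin 4)) (by decide +kernel)

theorem card_coxeterF4 : Nat.card (CoxeterMatrix.Group (CoxeterMatrix.F₄)) = 1152 := by
  obtain ⟨e, -⟩ := exists_weylF4
  rw [Nat.card_congr e.toEquiv, certF4.card_weylGrp chkLevelsF4]
  decide +kernel

theorem orderOf_coxeterF4 :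
    orderOf ((List.finRange 4).map (CoxeterMatrix.simple (CoxeterMatrix.F₄))).prod = 12 := by
  obtain ⟨e, he⟩ := exists_weylF4
  rw [← orderOf_injective e.toMonoidHom e.injective, map_list_prod, List.map_map]
  have key := certF4.orderOf_eq_of_ordChk (L := List.finRange 4) (k := 12) (by decide +kernel)
  rw [← key]
  exact congrArg (fun L => orderOf L.prod) (List.map_congr_left fun i _ => he i)

theorem exists_monomial_weylF4 (F : Type*) [Field F] :
    ∃ φ : ↥(chevF4.monomialSubgroup F) →* CoxeterMatrix.Group (CoxeterMatrix.F₄),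
      Function.Surjective φ ∧
      φ.ker = (chevF4.diagonalSubgroup F).subgroupOf (chevF4.monomialSubgroup F) ∧
      ∀ (i : Fin 4) (g : ↥(chevF4.monomialSubgroup F)),
        ((g : GL chevF4.Idx F) : Matrix chevF4.Idx chevF4.Idx F) =
          chevF4.nMat F (chevF4.simple i) 1 → φ g = CoxeterMatrix.simple (CoxeterMatrix.F₄) i := by
  obtain ⟨e, he⟩ := exists_weylF4
  obtain ⟨φ, hsurj, hker, hgen⟩ := certF4.exists_monomial_hom (F := F)
  refine ⟨e.symm.toMonoidHom.comp φ, e.symm.surjective.comp hsurj, ?_, fun i g hg => ?_⟩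
  · rw [← hker]; ext g; simp
  · rw [MonoidHom.comp_apply, hgen i g (Units.ext (hg.trans (certF4.coe_nS _).symm))]
    exact e.symm_apply_eq.2 (he i).symm

theorem exists_weylE6 :
    ∃ e : CoxeterMatrix.Group (CoxeterMatrix.E₆) ≃* certE6.WeylGrp,
      ∀ i : Fin 6, e (CoxeterMatrix.simple (CoxeterMatrix.E₆) i) = certE6.sgen i := by
  exact certE6.exists_iso (CoxeterMatrix.E₆ : CoxeterMatrix (Fin 6)) (by decide +kernel)

theorem card_coxeterE6 : Nat.card (CoxeterMatrix.Group (CoxeterMatrix.E₆)) = 51840 := by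
  obtain ⟨e, -⟩ := exists_weylE6
  rw [Nat.card_congr e.toEquiv, certE6.card_weylGrp chkLevelsE6]
  decide +kernel

theorem orderOf_coxeterE6 :
    orderOf ((List.finRange 6).map (CoxeterMatrix.simple (CoxeterMatrix.E₆))).prod = 12 := by
  obtain ⟨e, he⟩ := exists_weylE6
  rw [← orderOf_injective e.toMonoidHom e.injective, map_list_prod, List.map_map]
  have key := certE6.orderOf_eq_of_ordChk (L := List.finRange 6) (k := 12) (by decide +kernel)
  rw [← key]
  exact congrArg (fun L => orderOf L.prod) (List.map_congr_left fun i _ => he i)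

theorem exists_monomial_weylE6 (F : Type*) [Field F] :
    ∃ φ : ↥(chevE6.monomialSubgroup F) →* CoxeterMatrix.Group (CoxeterMatrix.E₆),
      Function.Surjective φ ∧
      φ.ker = (chevE6.diagonalSubgroup F).subgroupOf (chevE6.monomialSubgroup F) ∧
      ∀ (i : Fin 6) (g : ↥(chevE6.monomialSubgroup F)),
        ((g : GL chevE6.Idx F) : Matrix chevE6.Idx chevE6.Idx F) =
          chevE6.nMat F (chevE6.simple i) 1 → φ g = CoxeterMatrix.simple (CoxeterMatrix.E₆) i := by
  obtain ⟨e, he⟩ := exists_weylE6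
  obtain ⟨φ, hsurj, hker, hgen⟩ := certE6.exists_monomial_hom (F := F)
  refine ⟨e.symm.toMonoidHom.comp φ, e.symm.surjective.comp hsurj, ?_, fun i g hg => ?_⟩
  · rw [← hker]; ext g; simp
  · rw [MonoidHom.comp_apply, hgen i g (Units.ext (hg.trans (certE6.coe_nS _).symm))]
    exact e.symm_apply_eq.2 (he i).symm

theorem exists_weylE7 :
    ∃ e : CoxeterMatrix.Group (CoxeterMatrix.E₇) ≃* certE7.WeylGrp,
      ∀ i : Fin 7, e (CoxeterMatrix.simple (CoxeterMatrix.E₇) i) = certE7.sgen i := by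
  exact certE7.exists_iso (CoxeterMatrix.E₇ : CoxeterMatrix (Fin 7)) (by decide +kernel)

theorem card_coxeterE7 : Nat.card (CoxeterMatrix.Group (CoxeterMatrix.E₇)) = 2903040 := by
  obtain ⟨e, -⟩ := exists_weylE7
  rw [Nat.card_congr e.toEquiv, certE7.card_weylGrp chkLevelsE7]
  decide +kernel

theorem orderOf_coxeterE7 :
    orderOf ((List.finRange 7).map (CoxeterMatrix.simple (CoxeterMatrix.E₇))).prod = 18 := by
  obtain ⟨e, he⟩ := exists_weylE7
  rw [← orderOf_injective e.toMonoidHom e.injective, map_list_prod, List.map_map]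
  have key := certE7.orderOf_eq_of_ordChk (L := List.finRange 7) (k := 18) (by decide +kernel)
  rw [← key]
  exact congrArg (fun L => orderOf L.prod) (List.map_congr_left fun i _ => he i)

theorem exists_monomial_weylE7 (F : Type*) [Field F] :
    ∃ φ : ↥(chevE7.monomialSubgroup F) →* CoxeterMatrix.Group (CoxeterMatrix.E₇),
      Function.Surjective φ ∧
      φ.ker = (chevE7.diagonalSubgroup F).subgroupOf (chevE7.monomialSubgroup F) ∧
      ∀ (i : Fin 7) (g : ↥(chevE7.monomialSubgroup F)),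
        ((g : GL chevE7.Idx F) : Matrix chevE7.Idx chevE7.Idx F) =
          chevE7.nMat F (chevE7.simple i) 1 → φ g = CoxeterMatrix.simple (CoxeterMatrix.E₇) i := by
  obtain ⟨e, he⟩ := exists_weylE7
  obtain ⟨φ, hsurj, hker, hgen⟩ := certE7.exists_monomial_hom (F := F)
  refine ⟨e.symm.toMonoidHom.comp φ, e.symm.surjective.comp hsurj, ?_, fun i g hg => ?_⟩
  · rw [← hker]; ext g; simp
  · rw [MonoidHom.comp_apply, hgen i g (Units.ext (hg.trans (certE7.coe_nS _).symm))]
    exact e.symm_apply_eq.2 (he i).symm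

theorem exists_weylE8 :
    ∃ e : CoxeterMatrix.Group (CoxeterMatrix.E₈) ≃* certE8.WeylGrp,
      ∀ i : Fin 8, e (CoxeterMatrix.simple (CoxeterMatrix.E₈) i) = certE8.sgen i := by
  exact certE8.exists_iso (CoxeterMatrix.E₈ : CoxeterMatrix (Fin 8)) (by decide +kernel)

theorem card_coxeterE8 : Nat.card (CoxeterMatrix.Group (CoxeterMatrix.E₈)) = 696729600 := by
  obtain ⟨e, -⟩ := exists_weylE8
  rw [Nat.card_congr e.toEquiv, certE8.card_weylGrp chkLevelsE8]
  decide +kernel

theorem orderOf_coxeterE8 :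
    orderOf ((List.finRange 8).map (CoxeterMatrix.simple (CoxeterMatrix.E₈))).prod = 30 := by
  obtain ⟨e, he⟩ := exists_weylE8
  rw [← orderOf_injective e.toMonoidHom e.injective, map_list_prod, List.map_map]
  have key := certE8.orderOf_eq_of_ordChk (L := List.finRange 8) (k := 30) (by decide +kernel)
  rw [← key]
  exact congrArg (fun L => orderOf L.prod) (List.map_congr_left fun i _ => he i)

theorem exists_monomial_weylE8 (F : Type*) [Field F] :
    ∃ φ : ↥(chevE8.monomialSubgroup F) →* CoxeterMatrix.Group (CoxeterMatrix.E₈),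
      Function.Surjective φ ∧
      φ.ker = (chevE8.diagonalSubgroup F).subgroupOf (chevE8.monomialSubgroup F) ∧
      ∀ (i : Fin 8) (g : ↥(chevE8.monomialSubgroup F)),
        ((g : GL chevE8.Idx F) : Matrix chevE8.Idx chevE8.Idx F) =
          chevE8.nMat F (chevE8.simple i) 1 → φ g = CoxeterMatrix.simple (CoxeterMatrix.E₈) i := by
  obtain ⟨e, he⟩ := exists_weylE8
  obtain ⟨φ, hsurj, hker, hgen⟩ := certE8.exists_monomial_hom (F := F)
  refine ⟨e.symm.toMonoidHom.comp φ, e.symm.surjective.comp hsurj, ?_, fun i g hg => ?_⟩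
  · rw [← hker]; ext g; simp
  · rw [MonoidHom.comp_apply, hgen i g (Units.ext (hg.trans (certE8.coe_nS _).symm))]
    exact e.symm_apply_eq.2 (he i).symm

end CfsgLib.Chev
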