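import Cfsg.Agent.Lib.Chev.Tab

/-!
Sparse symbolic evaluation of words in root elements.

A vector is a list of monomials `((row, a, b), c)`, standing for `c * t ^ a * u ^ b` at coordinate
`row` (roots first, then the fundamental coroots).  With `red = true` monomials are reduced by
`t * u = 1`, which is how `t⁻¹` is handled.
-/

set_option autoImplicit false

namespace CfsgLib.Chev

open Cfsg.Lie

/-- Sparse vectors. -/
abbrev SVec := List ((ℕ × ℕ × ℕ) × ℤ)

/-- Equality of monomial keys. -/
def keyEq (k k' : ℕ × ℕ × ℕ) : Bool :=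
  Nat.beq k.1 k'.1 && (Nat.beq k.2.1 k'.2.1 && Nat.beq k.2.2 k'.2.2)

lemma keyEq_eq {k k' : ℕ × ℕ × ℕ} (h : keyEq k k' = true) : k = k' := by
  simp only [keyEq, Bool.and_eq_true] at h
  exact Prod.ext (Nat.eq_of_beq_eq_true h.1)
    (Prod.ext (Nat.eq_of_beq_eq_true h.2.1) (Nat.eq_of_beq_eq_true h.2.2))

/-- Add a monomial. -/
def addTerm (k : ℕ × ℕ × ℕ) (c : ℤ) : SVec → SVec
  | [] => if c = 0 then [] else [(k, c)]
  | e :: V =>
    if keyEq k e.1 then (if c + e.2 = 0 then V else (k, c + e.2) :: V) else e :: addTerm k c V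

/-- Reduce an exponent pair by `t * u = 1`. -/
def redKey (red : Bool) (k : ℕ × ℕ × ℕ) : ℕ × ℕ × ℕ :=
  if red then (k.1, k.2.1 - k.2.2, k.2.2 - k.2.1) else k

/-- Merge. -/
def norm (red : Bool) (V : SVec) : SVec :=
  V.foldr (fun e W => addTerm (redKey red e.1) e.2 W) []

/-- Negate a vector. -/
def negVec (V : SVec) : SVec := V.map fun e => (e.1, -e.2)

/-- Two vectors represent the same polynomial vector. -/
def same (red : Bool) (V W : SVec) : Bool := (norm red (V ++ negVec W)).isEmpty

namespace Tab

variable (T : Tab)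

/-- A coordinate, in the numbering of the engine. -/
def dim : ℕ := T.n + T.l

/-- The column `c` of `x_r(t)` as monomials `(row, degree, coefficient)`. -/
def col (r c : ℕ) : List (ℕ × ℕ × ℤ) :=
  (c, 0, 1) ::
    if T.n ≤ c then [(r, 1, -T.car (c - T.n) r)]
    else if c = r then []
    else if c = T.neg r then
      (r, 2, -1) :: (List.range T.l).map fun i => (T.n + i, 1, T.cor r i)
    else ((T.entry r c).zipIdx.filter fun q => decide (q.1.1 < T.n)).map fun q => (q.1.1, q.2 + 1, q.1.2)

/-- Multiply by `x_r(c t^a u^b)`. -/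
def step (red : Bool) (r : ℕ) (c : ℤ) (a b : ℕ) (V : SVec) : SVec :=
  if T.n ≤ r then V else
  norm red (V.flatMap fun e =>
    if T.dim ≤ e.1.1 then [] else
      (T.col r e.1.1).map fun q =>
        ((q.1, e.1.2.1 + a * q.2.1, e.1.2.2 + b * q.2.1), e.2 * (q.2.2 * c ^ q.2.1)))

/-- Apply a word `[(r, c, a, b), …]` to the basis vector `col`. -/
def appWord (red : Bool) (w : List (ℕ × ℤ × ℕ × ℕ)) (c : ℕ) : SVec :=
  w.foldr (fun g V => T.step red g.1 g.2.1 g.2.2.1 g.2.2.2 V) [((c, 0, 0), 1)]

end Tab

/-! ### Semantics -/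

section Sem

variable {F : Type*} [Field F]

/-- The contribution of one monomial. -/
def evTerm (t u : F) (row : ℕ) (e : (ℕ × ℕ × ℕ) × ℤ) : F :=
  if e.1.1 = row then (e.2 : F) * t ^ e.1.2.1 * u ^ e.1.2.2 else 0

/-- Value of a sparse vector. -/
def ev (t u : F) (V : SVec) (row : ℕ) : F := (V.map (evTerm t u row)).sum

variable (t u : F) (row : ℕ)

@[simp] lemma ev_nil : ev t u [] row = 0 := rfl

@[simp] lemma ev_cons (e : (ℕ × ℕ × ℕ) × ℤ) (V : SVec) :
    ev t u (e :: V) row = evTerm t u row e + ev t u V row := by simp [ev]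

@[simp] lemma ev_append (V W : SVec) : ev t u (V ++ W) row = ev t u V row + ev t u W row := by
  simp [ev]

lemma ev_addTerm (k : ℕ × ℕ × ℕ) (c : ℤ) (V : SVec) :
    ev t u (addTerm k c V) row = evTerm t u row (k, c) + ev t u V row := by
  induction V with
  | nil =>
    simp only [addTerm]
    split
    · next h => simp [h, evTerm]
    · simp
  | cons e V ih =>
    simp only [addTerm]
    split
    · next h =>
      have hk := keyEq_eq h
      have hadd : evTerm t u row (k, c) + evTerm t u row e = evTerm t u row (k, c + e.2) := by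
        subst hk
        simp only [evTerm]
        split
        · push_cast; ring
        · simp
      split
      · next h0 =>
        rw [ev_cons, ← add_assoc, hadd, h0]
        simp [evTerm]
      · rw [ev_cons, ev_cons, ← add_assoc, hadd]
    · rw [ev_cons, ev_cons, ih]; ring

lemma evTerm_redKey (red : Bool) (h : red = true → t * u = 1) (e : (ℕ × ℕ × ℕ) × ℤ) :
    evTerm t u row (redKey red e.1, e.2) = evTerm t u row e := by
  cases red
  · rfl
  · obtain ⟨⟨r, a, b⟩, c⟩ := e
    simp only [evTerm, redKey, if_true]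
    split
    · rcases le_total a b with hab | hab
      · obtain ⟨d, rfl⟩ := Nat.exists_eq_add_of_le hab
        rw [Nat.sub_eq_zero_of_le hab, Nat.add_sub_cancel_left, pow_zero, mul_one, mul_assoc,
          pow_add, ← mul_assoc (t ^ a), ← mul_pow, h rfl, one_pow, one_mul]
      · obtain ⟨d, rfl⟩ := Nat.exists_eq_add_of_le hab
        rw [Nat.sub_eq_zero_of_le hab, Nat.add_sub_cancel_left, pow_zero, mul_one, mul_assoc,
          pow_add, mul_right_comm (t ^ b), ← mul_pow, h rfl, one_pow, one_mul]
    · rfl

lemma ev_norm (red : Bool) (h : red = true → t * u = 1) (V : SVec) :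
    ev t u (norm red V) row = ev t u V row := by
  induction V with
  | nil => rfl
  | cons e V ih =>
    show ev t u (addTerm (redKey red e.1) e.2 (norm red V)) row = _
    rw [ev_addTerm, ih, ev_cons, evTerm_redKey t u row red h]

lemma ev_negVec (V : SVec) : ev t u (negVec V) row = -ev t u V row := by
  induction V with
  | nil => simp [negVec]
  | cons e V ih =>
    show ev t u ((e.1, -e.2) :: negVec V) row = _
    rw [ev_cons, ev_cons, ih]
    simp only [evTerm]
    split
    · push_cast; ring
    · simp

lemma ev_eq_of_same (red : Bool) (h : red = true → t * u = 1) {V W : SVec}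
    (hs : same red V W = true) : ev t u V row = ev t u W row := by
  have h2 := ev_norm t u row red h (V ++ negVec W)
  rw [show norm red (V ++ negVec W) = [] from List.isEmpty_iff.1 hs, ev_nil, ev_append,
    ev_negVec] at h2
  linear_combination -h2

end Sem

end CfsgLib.Chev
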