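import Cfsg.Agent.Lib.Chev.Order
import Cfsg.Agent.Lib.Chev.Parabolic

/-!
The order of a standard parabolic subgroup.
-/

set_option autoImplicit false

namespace CfsgLib.Chev

open Cfsg.Lie Matrix

/-- The words of `W` that map the roots in `R` into `R`. -/
def Tab.stabWords (T : Tab) (R : List ℕ) (W : List (List ℕ)) : List (List ℕ) :=
  W.filter fun w => R.all fun r => decide (rword T w r ∈ R)

namespace Cert

variable {D : ChevalleyDatum} {T : Tab} {C : Tab.Cover} (h : Cert D T C)
include h
variable {F : Type*} [Field F]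

lemma parabolic_le_group (J : Set ℕ) : D.parabolicSubgroup F J ≤ D.group F :=
  (h.normalizer_radical (F := F) J).ge.trans inf_le_right

/-- The order of a parabolic subgroup, as a sum over the stabilizer of the roots of its radical. -/
theorem card_parabolic [Fintype F] {Lv : List Level} (hLv : T.chkLevels Lv = true) {J : Set ℕ}
    {R : List ℕ} (hR : ∀ r, r ∈ R ↔ r ∈ radSet D T J)
    (hJ : ∀ w ∈ T.stabWords R (transversal Lv T.l), ∀ i ∈ w, i ∈ J) :
    Nat.card (D.parabolicSubgroup F J) = Fintype.card F ^ T.half *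
      Nat.card (D.diagonalSubgroup F) *
      ((T.stabWords R (transversal Lv T.l)).map fun w => Fintype.card F ^ T.negCount w).sum := by
  classical
  set S := T.stabWords R (transversal Lv T.l) with hS
  set W := S.toFinset with hW
  have hmem : ∀ w ∈ S, w ∈ transversal Lv T.l := fun w hw => (List.mem_filter.1 hw).1
  have hok : ∀ w : W, WordOK T w.1 := fun w =>
    h.transversal_ok hLv le_rfl (hmem _ (List.mem_toFinset.1 w.2))
  have hP : ∀ w : W, nW D F w.1 ∈ D.parabolicSubgroup F J := fun w => by
    refine list_prod_mem fun x hx => ?_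
    obtain ⟨i, hi, rfl⟩ := List.mem_map.1 hx
    exact h.nS_mem_parabolic (hok w i hi) (hJ _ (List.mem_toFinset.1 w.2) i hi)
  have hU : ∀ w : W, cellUnipotent D F (nW D F w.1) ≤ D.parabolicSubgroup F J := fun w => by
    rw [h.cellUnipotent_word (hok w)]
    refine le_trans ?_ (le_sup_left.trans le_sup_left :
      D.posUnipotent F ≤ D.parabolicSubgroup F J)
    exact h.gen_pos_le fun r hr => (mem_cellList.1 hr).1
  let e : D.borelSubgroup F × (Σ w : W, cellUnipotent D F (nW D F w.1)) →
      D.parabolicSubgroup F J := fun p =>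
    ⟨p.1.1 * nW D F p.2.1.1 * p.2.2.1,
      mul_mem (mul_mem (Subgroup.mem_sup_left p.1.2) (hP _)) (hU _ p.2.2.2)⟩
  have hb : Function.Bijective e := by
    constructor
    · rintro ⟨⟨b, hb⟩, w, ⟨u, hu⟩⟩ ⟨⟨b', hb'⟩, w', ⟨u', hu'⟩⟩ hpp
      obtain ⟨h1, h2⟩ := h.bruhat_unique hb hb' (h.nW_mem_monomial (hok w))
        (h.nW_mem_monomial (hok w')) hu hu' (congrArg Subtype.val hpp)
      have hs : SameAct T w'.1 w.1 := by
        intro r hr
        have h3 : Maps D (nW D F w'.1) r (rword T w.1 r) := by
          have := Maps_mul (h.Maps_diagonal h1 hr) (h.Maps_nW (F := F) (hok w) hr)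
          rwa [mul_inv_cancel_left] at this
        exact h.Maps_unique (h.rword_lt (hok w') hr) (h.rword_lt (hok w) hr)
          (h.Maps_nW (hok w') hr) h3
      have hw : w = w' := by
        by_contra hne
        have hne' : w'.1 ≠ w.1 := fun e => hne (Subtype.ext e.symm)
        obtain ⟨i, hi, ei⟩ := List.getElem_of_mem (hmem _ (List.mem_toFinset.1 w'.2))
        obtain ⟨j, hj, ej⟩ := List.getElem_of_mem (hmem _ (List.mem_toFinset.1 w.2))
        have hpw := List.pairwise_iff_getElem.1 (h.transversal_inj hLv T.l le_rfl)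
        rcases lt_trichotomy i j with hij | rfl | hij
        · exact hpw i j hi hj hij (by rw [ei, ej]; exact hs)
        · exact hne' (ei.symm.trans ej)
        · exact hpw j i hj hi hij (by rw [ei, ej]; exact fun r hr => (hs r hr).symm)
      subst hw
      obtain ⟨rfl, rfl⟩ := h2 rfl
      rfl
    · rintro ⟨g, hg⟩
      obtain ⟨b, hb, n, hn, u, hu, rfl⟩ := h.bruhat_exists (h.parabolic_le_group J hg)
      obtain ⟨w, hw, t, ht, rfl⟩ := h.exists_transversal_monomial hLv hn
      have hwok := h.transversal_ok hLv le_rfl hw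
      have hu' : u ∈ cellUnipotent D F (nW D F w) := by
        rw [h.cellUnipotent_eq (π := rword T w)
          fun r hr => ⟨h.rword_lt hwok hr, h.Maps_nW hwok hr⟩]
        rwa [h.cellUnipotent_eq (π := rword T w) fun r hr => ⟨h.rword_lt hwok hr,
          Maps_mul (h.Maps_nW hwok hr) (h.Maps_diagonal ht (h.rword_lt hwok hr))⟩] at hu
      have huP : u ∈ D.parabolicSubgroup F J := by
        rw [h.cellUnipotent_word hwok] at hu'
        exact Subgroup.mem_sup_left (Subgroup.mem_sup_left
          (h.gen_pos_le (fun r hr => (mem_cellList.1 hr).1) hu'))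
      have hbt : b * t ∈ D.borelSubgroup F :=
        mul_mem hb (Subgroup.mem_sup_right ht)
      have hnP : nW D F w ∈ D.parabolicSubgroup F J := by
        have h1 := mul_mem (mul_mem (inv_mem (Subgroup.mem_sup_left hbt :
          b * t ∈ D.parabolicSubgroup F J)) hg) (inv_mem huP)
        rwa [show (b * t)⁻¹ * (b * (t * nW D F w) * u) * u⁻¹ = nW D F w by group] at h1
      have hwS : w ∈ S := by
        refine List.mem_filter.2 ⟨hw, List.all_eq_true.2 fun r hr => decide_eq_true ?_⟩
        rw [hR] at hr ⊢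
        obtain ⟨c, hc, e⟩ := h.Maps_nW (F := F) hwok hr.1.2
        refine h.root_mem_of_X_mem (h.rword_lt hwok hr.1.2) (mul_ne_zero hc one_ne_zero) ?_
        rw [← e 1, ← h.unipotentRadical_eq]
        refine (Subgroup.mem_normalizer_iff.1 (h.parabolic_le_normalizer J hnP) _).1 ?_
        rw [h.unipotentRadical_eq]
        exact X_mem_gen D hr 1
      refine ⟨(⟨b * t, hbt⟩, ⟨⟨w, List.mem_toFinset.2 hwS⟩, ⟨u, hu'⟩⟩), Subtype.ext ?_⟩
      show b * t * nW D F w * u = b * (t * nW D F w) * u
      rw [mul_assoc b t]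
  rw [← Nat.card_eq_of_bijective e hb, Nat.card_prod, Nat.card_sigma, h.card_borel,
    h.card_posUnipotent]
  congr 1
  have hnd : S.Nodup :=
    ((h.transversal_inj hLv T.l le_rfl).imp fun hab e => hab fun r _ => by rw [e]).filter _
  simp only [fun w : W => h.card_cellUnipotent (F := F) (hok w)]
  rw [Finset.sum_coe_sort W fun w => Fintype.card F ^ T.negCount w, hW,
    List.sum_toFinset _ hnd]

end Cert

end CfsgLib.Chev
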