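import Cfsg.Agent.Lib.Chev.StRoutes
import Mathlib.Algebra.Polynomial.Roots

/-!
Central extensions over a field with more than four elements.
-/

set_option autoImplicit false
set_option maxRecDepth 100000

namespace CfsgLib.Chev

open Cfsg.Lie Matrix
open scoped commutatorElement

universe u v

variable {F : Type*} [Field F]

open Polynomial in
/-- More than `K + 1` elements give units avoiding exponents up to `K`. -/
theorem Units.enough_of_card {K : ℕ} {s : Finset F} (hs : K + 1 < s.card) : Units.Enough F K := by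
  classical
  intro k hk0 hk
  by_contra hcon
  push Not at hcon
  have hpow : ∀ c : F, c ≠ 0 → c ^ k.natAbs = 1 := by
    intro c hc
    have e := hcon (Units.mk0 c hc)
    rcases Int.natAbs_eq k with e' | e' <;> rw [e', Units.val_mk0] at e
    · rwa [zpow_natCast] at e
    · rwa [_root_.zpow_neg, zpow_natCast, inv_eq_one] at e
  have hne : k.natAbs ≠ 0 := Int.natAbs_ne_zero.2 hk0
  have hsub : s.erase 0 ⊆ (Polynomial.X ^ k.natAbs - 1 : F[X]).roots.toFinset := by
    intro c hc
    have hne0 : (Polynomial.X ^ k.natAbs - 1 : F[X]) ≠ 0 := by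
      simpa using Polynomial.X_pow_sub_C_ne_zero (R := F) (Nat.pos_of_ne_zero hne) 1
    rw [Multiset.mem_toFinset, Polynomial.mem_roots hne0]
    simp [hpow c (Finset.ne_of_mem_erase hc)]
  have h1 := Finset.card_le_card hsub
  have h2 := (Polynomial.X ^ k.natAbs - 1 : F[X]).roots.toFinset_card_le
  have h3 := Polynomial.card_roots' (Polynomial.X ^ k.natAbs - 1 : F[X])
  have h4 : (Polynomial.X ^ k.natAbs - 1 : F[X]).natDegree = k.natAbs := by
    rw [← Polynomial.C_1, Polynomial.natDegree_X_pow_sub_C]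
  have := Finset.pred_card_le_card_erase (s := s) (a := (0 : F))
  omega

open Polynomial in
/-- More than four elements give a scalar for the commutativity argument. -/
theorem exists_scalar_of_card {s : Finset F} (hs : 4 < s.card) :
    ∃ v : F, v ≠ 0 ∧ v ≠ 1 ∧ v + v⁻¹ - 1 ≠ 0 := by
  classical
  set q : F[X] := Polynomial.X ^ 2 - Polynomial.X + 1 with hq
  have hdeg : q.natDegree = 2 := by rw [hq]; compute_degree!
  have hq0 : q ≠ 0 := fun e => by rw [e, Polynomial.natDegree_zero] at hdeg; omega
  obtain ⟨v, hv, hbad⟩ : ∃ v ∈ s, v ∉ ({0, 1} : Finset F) ∪ q.roots.toFinset := by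
    by_contra hcon
    push Not at hcon
    have h1 := Finset.card_le_card hcon
    have h2 := Finset.card_union_le ({0, 1} : Finset F) q.roots.toFinset
    have h3 : ({0, 1} : Finset F).card ≤ 2 := Finset.card_le_two
    have h4 := q.roots.toFinset_card_le
    have h5 := Polynomial.card_roots' q
    omega
  simp only [Finset.mem_union, Finset.mem_insert, Finset.mem_singleton, Multiset.mem_toFinset,
    Polynomial.mem_roots hq0, not_or, Polynomial.IsRoot.def] at hbad
  obtain ⟨⟨h0, h1⟩, h2⟩ := hbad
  refine ⟨v, h0, h1, fun e => h2 ?_⟩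
  have : (v + v⁻¹ - 1) * v = 0 := by rw [e, zero_mul]
  rw [sub_mul, add_mul, inv_mul_cancel₀ h0] at this
  rw [hq]
  simp only [Polynomial.eval_add, Polynomial.eval_sub, Polynomial.eval_pow, Polynomial.eval_X,
    Polynomial.eval_one]
  linear_combination this

namespace Ext

variable {D : ChevalleyDatum} {E : Type*} [Group E] (Y : Ext D F E)
variable {T : Tab} {C : Tab.Cover} (h : Cert D T C)
include h

/-- A root with a cocharacter of value one. -/
lemma Z_self_of_unit_car {r j : ℕ} (hr : r < T.n) (hj : j < T.l) (hcar : T.car j r = 1)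
    {v : F} (hv0 : v ≠ 0) (hv1 : v ≠ 1) (hv : v + v⁻¹ - 1 ≠ 0) : Y.Z r r := by
  set e : List ℤ := (List.range T.l).map fun m => if m = j then 1 else 0
  have he : T.cochar e r = 1 := by
    show ∑ m ∈ Finset.range T.l, _ = _
    rw [Finset.sum_eq_single j]
    · simp [e, hj, hcar]
    · intro m hm hmj
      simp [e, Finset.mem_range.1 hm, hmj]
    · intro hn
      exact absurd (Finset.mem_range.2 hj) hn
  refine Y.Z_self_of_scalar h hr (powParam T (Units.mk0 v hv0) e)
    (powParam T (Units.mk0 (1 - v) (sub_ne_zero.2 (Ne.symm hv1))) e) ?_ ?_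
  · rw [chi_powParam, chi_powParam, he, _root_.zpow_one, _root_.zpow_one, Units.val_mk0,
      Units.val_mk0]
    ring
  · rw [chi_powParam, he, _root_.zpow_one, Units.val_mk0]
    exact hv

/-- The root `k` of a pair with terms `[(k₁, c₁, 1, 1), (k, ±1, 2, 1)]`. -/
lemma X_mem_second {a b k₁ k : ℕ} {c₁ c : ℤ} (ha : a < T.n) (hb : b < T.n) (hne : b ≠ a)
    (hneg : b ≠ T.neg a) (hk : T.commTerms a b = [(k₁, c₁, 1, 1), (k, c, 2, 1)])
    (hc : c = 1 ∨ c = -1) (z : F) : X D k z ∈ gen D F {q | q = a ∨ q = b ∨ q = k₁} := by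
  have e := h.X_conj (F := F) ha hb hne hneg 1 ((c : F) * z)
  rw [hk] at e
  simp only [List.map_cons, List.map_nil, List.prod_cons, List.prod_nil, mul_one, pow_one] at e
  rw [show (c : F) * (-1) ^ 2 * ((c : F) * z) = z by rcases hc with rfl | rfl <;> simp] at e
  have key : X D k z = (X D k₁ ((c₁ : F) * -1 * ((c : F) * z)))⁻¹ * ((X D b ((c : F) * z))⁻¹ *
      (X D a (-1) * X D b ((c : F) * z) * X D a 1)) := by
    rw [e]; group
  rw [key]
  have m : ∀ q, (q = a ∨ q = b ∨ q = k₁) → ∀ w : F, X D q w ∈ gen D F {q | q = a ∨ q = b ∨ q = k₁} :=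
    fun q hq w => X_mem_gen D (show q ∈ {q | q = a ∨ q = b ∨ q = k₁} from hq) w
  exact mul_mem (inv_mem (m k₁ (by simp) _)) (mul_mem (inv_mem (m b (by simp) _))
    (mul_mem (mul_mem (m a (by simp) _) (m b (by simp) _)) (m a (by simp) _)))

end Ext

/-- The long roots of type B2 commute with themselves. -/
theorem Ext.Z_self_longB2 {E : Type*} [Group E] (Y : Ext chevB2 F E)
    (hZ : ∀ r < tabB2.n, ∀ s < tabB2.n, s ≠ r → s ≠ tabB2.neg r →
      (∀ t u : F, Commute (X chevB2 r t) (X chevB2 s u)) → Y.Z r s) : Y.Z 7 7 := by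
  have h4 : (4 : ℕ) < tabB2.n := by decide +kernel
  have h44 : Y.Z 4 4 := by
    refine Y.Z_of_gen certB2 h4 (S := {q | q = 6 ∨ q = 0 ∨ q = 2}) ?_ ?_
      (Ext.X_mem_second certB2 (a := 6) (b := 0) (k₁ := 2) (c₁ := 1) (c := 1) (by decide +kernel)
        (by decide +kernel) (by decide +kernel) (by decide +kernel) (by decide +kernel) (Or.inl rfl))
    · rintro q (rfl | rfl | rfl) <;> decide +kernel
    · intro q hq
      have key : q < tabB2.n ∧ q ≠ 4 ∧ q ≠ tabB2.neg 4 ∧ tabB2.commTerms 4 q = [] := by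
        rcases hq with rfl | rfl | rfl <;> decide +kernel
      exact hZ 4 h4 q key.1 key.2.1 key.2.2.1
        (Ext.commute_of_terms_nil certB2 h4 key.1 key.2.1 key.2.2.1 key.2.2.2)
  have := Y.Z_refl certB2 (i := 0) (by decide +kernel) h4 h4
    (Ext.commute_self (h' := certB2) h4) h44
  rwa [show tabB2.refl 0 4 = 7 by decide +kernel] at this

/-- Central extensions over a big field satisfy the relations. -/
theorem rel_of_big_field.{a, b} {K : Type a} [Field K] {s : Finset K} (hs : 4 < s.card)
    {D : ChevalleyDatum} (hD : D ∈ [chevG2, chevB2, chevD4, chevF4, chevE6, chevE7, chevE8]) :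
    ∃ T C, Cert D T C ∧ Rel.Nbr T ∧
      ∀ (Z : Type b) [Group Z] (Y : Ext D K Z), ∃ L : Rel D T K Z, L.π = Y.θ := by
  obtain ⟨v, hv0, hv1, hv⟩ := exists_scalar_of_card hs
  have E3 : Units.Enough K 3 := Units.enough_of_card hs
  have E2 : Units.Enough K 2 := fun k h1 h2 => E3 k h1 (by omega)
  have E1 : Units.Enough K 1 := fun k h1 h2 => E3 k h1 (by omega)
  simp only [List.mem_cons, List.not_mem_nil, or_false] at hD
  rcases hD with rfl | rfl | rfl | rfl | rfl | rfl | rfl
  · refine ⟨_, _, certG2, by unfold Rel.Nbr; decide +kernel, fun Z _ Y => ?_⟩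
    refine Y.rel_of_torus certG2 E3 pairsStG2_ok.1 (List.all_eq_true.1 pairsStG2_ok.2.1)
      (by decide +kernel) fun _ r hr => Y.Z_self_all certG2 (fun b hb => ?_) hr
    simp only [coverG2, List.mem_cons, List.not_mem_nil, or_false] at hb
    rcases hb with rfl | rfl
    · exact Y.Z_self_of_unit_car certG2 (j := 0) (by decide +kernel) (by decide +kernel)
        (by decide +kernel) hv0 hv1 hv
    · exact Y.Z_self_of_unit_car certG2 (j := 1) (by decide +kernel) (by decide +kernel)
        (by decide +kernel) hv0 hv1 hv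
  · refine ⟨_, _, certB2, by unfold Rel.Nbr; decide +kernel, fun Z _ Y => ?_⟩
    refine Y.rel_of_torus certB2 E2 pairsStB2_ok.1 (List.all_eq_true.1 pairsStB2_ok.2.1)
      pairsStB2_ok.2.2 fun hZ r hr => Y.Z_self_all certB2 (fun b hb => ?_) hr
    simp only [coverB2, List.mem_cons, List.not_mem_nil, or_false] at hb
    rcases hb with rfl | rfl
    · exact Y.Z_self_of_unit_car certB2 (j := 1) (by decide +kernel) (by decide +kernel)
        (by decide +kernel) hv0 hv1 hv
    · exact Y.Z_self_longB2 hZ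
  · refine ⟨_, _, certD4, by unfold Rel.Nbr; decide +kernel, fun Z _ Y => ?_⟩
    refine Y.rel_of_torus certD4 E2 pairsStD4_ok.1 (List.all_eq_true.1 pairsStD4_ok.2.1)
      (by decide +kernel) fun _ r hr => Y.Z_self_all certD4 (fun b hb => ?_) hr
    simp only [coverD4, List.mem_cons, List.not_mem_nil, or_false] at hb
    subst hb
    exact Y.Z_self_of_unit_car certD4 (j := 1) (by decide +kernel) (by decide +kernel)
      (by decide +kernel) hv0 hv1 hv
  · refine ⟨_, _, certF4, by unfold Rel.Nbr; decide +kernel, fun Z _ Y => ?_⟩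
    refine Y.rel_of_torus certF4 E2 pairsStF4_ok.1 (List.all_eq_true.1 pairsStF4_ok.2.1)
      (by decide +kernel) fun _ r hr => Y.Z_self_all certF4 (fun b hb => ?_) hr
    simp only [coverF4, List.mem_cons, List.not_mem_nil, or_false] at hb
    rcases hb with rfl | rfl
    · exact Y.Z_self_of_unit_car certF4 (j := 0) (by decide +kernel) (by decide +kernel)
        (by decide +kernel) hv0 hv1 hv
    · exact Y.Z_self_of_unit_car certF4 (j := 3) (by decide +kernel) (by decide +kernel)
        (by decide +kernel) hv0 hv1 hv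
  · refine ⟨_, _, certE6, by unfold Rel.Nbr; decide +kernel, fun Z _ Y => ?_⟩
    refine Y.rel_of_torus certE6 E1 pairsStE6_ok.1 (List.all_eq_true.1 pairsStE6_ok.2.1)
      pairsStE6_ok.2.2 fun _ r hr => Y.Z_self_all certE6 (fun b hb => ?_) hr
    simp only [coverE6, List.mem_cons, List.not_mem_nil, or_false] at hb
    subst hb
    exact Y.Z_self_of_unit_car certE6 (j := 1) (by decide +kernel) (by decide +kernel)
      (by decide +kernel) hv0 hv1 hv
  · refine ⟨_, _, certE7, by unfold Rel.Nbr; decide +kernel, fun Z _ Y => ?_⟩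
    refine Y.rel_of_torus certE7 E1 pairsStE7_ok.1 (List.all_eq_true.1 pairsStE7_ok.2.1)
      pairsStE7_ok.2.2 fun _ r hr => Y.Z_self_all certE7 (fun b hb => ?_) hr
    simp only [coverE7, List.mem_cons, List.not_mem_nil, or_false] at hb
    subst hb
    exact Y.Z_self_of_unit_car certE7 (j := 0) (by decide +kernel) (by decide +kernel)
      (by decide +kernel) hv0 hv1 hv
  · refine ⟨_, _, certE8, by unfold Rel.Nbr; decide +kernel, fun Z _ Y => ?_⟩
    refine Y.rel_of_torus certE8 E1 pairsStE8_ok.1 (List.all_eq_true.1 pairsStE8_ok.2.1)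
      pairsStE8_ok.2.2 fun _ r hr => Y.Z_self_all certE8 (fun b hb => ?_) hr
    simp only [coverE8, List.mem_cons, List.not_mem_nil, or_false] at hb
    subst hb
    exact Y.Z_self_of_unit_car certE8 (j := 7) (by decide +kernel) (by decide +kernel)
      (by decide +kernel) hv0 hv1 hv

/-- The cover is universal over a big field. -/
theorem universal_big.{a, b, c} {K : Type a} [Field K] (hs : ∃ s : Finset K, 4 < s.card)
    {D : ChevalleyDatum} (hD : D ∈ [chevG2, chevB2, chevD4, chevF4, chevE6, chevE7, chevE8])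
    {G₁ : Type c} {E : Type b} [Group G₁] [Group E] (π₁ : E →* G₁) (hπ : Function.Surjective π₁)
    (hc : π₁.ker ≤ Subgroup.center E) (σ : D.SteinbergCover K →* G₁) :
    ∃! τ : D.SteinbergCover K →* E, π₁.comp τ = σ := by
  obtain ⟨s, hs⟩ := hs
  obtain ⟨T, C, h, hnb, hl⟩ := rel_of_big_field.{a, max a b} hs hD
  have hperf : commutator (D.SteinbergCover K) = ⊤ := rel_perfect hD
    (fun _ => by
      obtain ⟨v, h0, h1, -⟩ := exists_scalar_of_card hs
      exact ⟨v, h0, h1⟩) le_rfl (steinbergRelsAB_subset D K)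
  refine universal_of_rel h hnb hperf 1 (fun Y _ => hl _ Y) π₁ hπ hc σ fun e c _ _ he hc' => ?_
  exact ⟨by simpa using he, by simpa using hc'⟩

end CfsgLib.Chev
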