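import Cfsg.Agent.Lib.Chev.StDerived
import Cfsg.Agent.Lib.Chev.StBigField

/-!
Central extensions over the fields with three and four elements, and extensions without torsion of
the characteristic over small fields.
-/

set_option autoImplicit false
set_option maxRecDepth 100000

namespace CfsgLib.Chev

open Cfsg.Lie Matrix
open scoped commutatorElement

/-- The sign of a word at a root. -/
def Tab.etaW (T : Tab) : List ℕ → ℕ → ℤ
  | [], _ => 1
  | i :: w, r => T.eta i (rword T w r) * T.etaW w r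

/-- Two root subgroups commute because all their structure constants vanish modulo `p`. -/
def Tab.chkZero (T : Tab) (p r s : ℕ) : Bool :=
  decide (r < T.n ∧ s < T.n ∧ s ≠ r ∧ s ≠ T.neg r) &&
    (T.commTerms r s).all fun c => decide (c.2.1 % (p : ℤ) = 0)

/-- A decomposition of `s` whose parts commute with `r` modulo `p`. -/
def Tab.chkSplit (T : Tab) (p r s a b : ℕ) : Bool :=
  decide (a < T.n ∧ b < T.n ∧ b ≠ a ∧ b ≠ T.neg a) && T.chkZero p r a && T.chkZero p r b &&
    match T.commTerms a b with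
    | (k, c, 1, 1) :: l => decide (k = s ∧ c % (p : ℤ) ≠ 0) && l.all fun d => T.chkZero p r d.1
    | _ => false

/-- A single-term bracket for the root `k`, whose second part commutes with `k` modulo `p`. -/
def Tab.chkBracket (T : Tab) (p a b k : ℕ) : Bool :=
  decide (a < T.n ∧ b < T.n ∧ b ≠ a ∧ b ≠ T.neg a) && T.chkZero p b k &&
    match T.commTerms a b with
    | [(k', c, 1, 1)] => decide (k' = k ∧ c % (p : ℤ) ≠ 0)
    | _ => false

namespace Cert

variable {D : ChevalleyDatum} {T : Tab} {C : Tab.Cover} (h : Cert D T C) {F : Type*} [Field F]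
include h

lemma nW_conj_X {w : List ℕ} (hw : WordOK T w) {r : ℕ} (hr : r < T.n) (t : F) :
    nW D F w * X D r t * (nW D F w)⁻¹ = X D (rword T w r) ((T.etaW w r : F) * t) := by
  induction w with
  | nil => simp [nW, rword, Tab.etaW]
  | cons i w ih =>
    rw [nW_cons, rword_cons, Tab.etaW,
      show nS D F i * nW D F w * X D r t * (nS D F i * nW D F w)⁻¹ =
        nS D F i * (nW D F w * X D r t * (nW D F w)⁻¹) * (nS D F i)⁻¹ by group, ih hw.tail,
      h.nS_conj_X hw.head (h.rword_lt hw.tail hr)]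
    push_cast
    rw [mul_assoc]

end Cert

namespace Ext

variable {D : ChevalleyDatum} {F : Type*} [Field F] {E : Type*} [Group E] (Y : Ext D F E)
variable {T : Tab} {C : Tab.Cover} (h : Cert D T C)
include h

omit h in
lemma commute_of_chkZero (h : Cert D T C) {p : ℕ} [CharP F p] {r s : ℕ}
    (hz : T.chkZero p r s = true) : ∀ t u : F, Commute (X D r t) (X D s u) := by
  simp only [Tab.chkZero, Bool.and_eq_true, List.all_eq_true, decide_eq_true_eq] at hz
  obtain ⟨⟨hr, hs, hne, hneg⟩, hT⟩ := hz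
  exact commute_of_terms_zero h hr hs hne hneg fun c hc =>
    (CharP.intCast_eq_zero_iff F p _).2 (Int.dvd_of_emod_eq_zero (hT c hc))

/-- Commutation from a checked decomposition. -/
lemma Z_of_chkSplit {p : ℕ} [CharP F p] {r s a b : ℕ} (hS : T.chkSplit p r s a b = true)
    (hl : ∀ d ∈ (T.commTerms a b).tail, d.1 < T.n → d.1 ≠ r → d.1 ≠ T.neg r →
      (∀ t u : F, Commute (X D r t) (X D d.1 u)) → Y.Z r d.1) : Y.Z r s := by
  simp only [Tab.chkSplit, Bool.and_eq_true, decide_eq_true_eq] at hS
  obtain ⟨⟨⟨⟨ha, hb, hne, hneg⟩, hza⟩, hzb⟩, hm⟩ := hS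
  have hr : r < T.n := by
    simp only [Tab.chkZero, Bool.and_eq_true, decide_eq_true_eq] at hza
    exact hza.1.1
  split at hm
  next k c l hk =>
    simp only [Bool.and_eq_true, List.all_eq_true, decide_eq_true_eq] at hm
    obtain ⟨⟨rfl, hc⟩, hls⟩ := hm
    have hc0 : (c : F) ≠ 0 := fun e => hc (Int.emod_eq_zero_of_dvd
      ((CharP.intCast_eq_zero_iff F p c).1 e))
    refine Y.Z_of_split h hr ha hb hne hneg hk hc0 (commute_of_chkZero h hza)
      (commute_of_chkZero h hzb) fun d hd => ?_
    have hzd := hls d hd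
    have hcd := commute_of_chkZero h (F := F) hzd
    simp only [Tab.chkZero, Bool.and_eq_true, decide_eq_true_eq] at hzd
    obtain ⟨⟨-, hd1, hd2, hd3⟩, -⟩ := hzd
    exact hl d (by rw [hk]; exact hd) hd1 hd2 hd3 hcd
  next => cases hm

/-- A bracket gives lifts of order dividing the characteristic. -/
lemma exists_exp_of_bracket {p : ℕ} [CharP F p] {a b k : ℕ} (hB : T.chkBracket p a b k = true)
    (hp : ∀ z, Y.θ z = 1 → z ^ p = 1 → z = 1) (t : F) :
    ∃ g, Y.θ g = X D k t ∧ g ^ p = 1 := by
  simp only [Tab.chkBracket, Bool.and_eq_true, decide_eq_true_eq] at hB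
  obtain ⟨⟨⟨ha, hb, hne, hneg⟩, hzk⟩, hm⟩ := hB
  have hcom := commute_of_chkZero h (F := F) hzk
  split at hm
  next k' c hk =>
    simp only [decide_eq_true_eq] at hm
    obtain ⟨rfl, hc⟩ := hm
    have hkn : k' < T.n := h.commTerms_lt ha hb (hk ▸ List.mem_cons_self)
    have hc0 : (c : F) ≠ 0 := fun e => hc (Int.emod_eq_zero_of_dvd
      ((CharP.intCast_eq_zero_iff F p c).1 e))
    have hθ : ∀ u, Y.θ (Y.br (X D a (-1)) (X D b u)) = X D k' (-((c : F) * u)) := by
      intro u
      rw [Y.θ_br (h.X_mem_group ha _) (h.X_mem_group hb _)]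
      have e := h.X_conj (F := F) ha hb hne hneg 1 u
      rw [hk] at e
      simp only [List.map_cons, List.map_nil, List.prod_cons, List.prod_nil, mul_one, pow_one] at e
      have hbk : Commute (X D b u) (X D k' ((c : F) * -1 * u)) := hcom u _
      rw [hbk.eq] at e
      rw [commutatorElement_def, h.X_inv ha, _root_.neg_neg, e, mul_inv_cancel_right]
      congr 1
      ring
    set f : F → F → E := fun u _ => Y.br (X D a (-1)) (X D b u) with hf
    have hl : ∀ u u' v, f (u + u') v = f u v * f u' v := fun u u' v => by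
      show Y.br (X D a (-1)) (X D b (u + u')) = _
      rw [← h.X_add hb]
      exact Y.br_mul_of_commute (h.X_mem_group ha _) (h.X_mem_group hb u) (h.X_mem_group hb u')
        (Y.commute_of_Z h (Y.Z_of_char h (p := p) hp hb hkn hcom) (Y.θ_lft (h.X_mem_group hb u))
          (hθ u'))
    refine ⟨f (-(t / (c : F))) 0, ?_, ?_⟩
    · show Y.θ (Y.br _ _) = _
      rw [hθ]
      congr 1
      field_simp
    · have h0 := hl 0 0 0
      rw [add_zero, left_eq_mul] at h0
      rw [← kill_nsmul hl _ (0 : F) p, CharP.cast_eq_zero, zero_mul, h0]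
  next => cases hm

/-- Two orthogonal roots swapped with sign one, over a prime field of odd order. -/
lemma Z_of_swap {p : ℕ} [CharP F p] (hodd : ¬ 2 ∣ p) (hF : ∀ t : F, ∃ m : ℕ, (m : F) = t)
    {r s : ℕ} (hr : r < T.n) (hs : s < T.n)
    (hc : ∀ t u : F, Commute (X D r t) (X D s u)) {w : List ℕ} (hw : WordOK T w)
    (h1 : rword T w r = s) (h2 : rword T w s = r) (hsg : T.etaW w r * T.etaW w s = 1) :
    Y.Z r s := by
  set f : F → F → E := fun t u => Y.br (X D r t) (X D s u) with hf
  have hl : ∀ t t' u, f (t + t') u = f t u * f t' u := Y.br_X_add_left h hr hs hc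
  have hrr : ∀ t u u', f t (u + u') = f t u * f t u' := Y.br_X_add_right h hr hs hc
  have hsw : ∀ t u, (f ((T.etaW w s : F) * u) ((T.etaW w r : F) * t))⁻¹ = f t u := by
    intro t u
    have hn : nW D F w ∈ D.group F := h.monomial_le_group (h.nW_mem_monomial hw)
    have := Y.br_X_map h hn hr hs (fun v => h.nW_conj_X hw hr v) (fun v => h.nW_conj_X hw hs v) hc t u
    rw [h1, h2] at this
    show (Y.br _ _)⁻¹ = Y.br _ _
    rw [← Y.br_swap]
    exact this
  have hpow : ∀ m k : ℕ, f (m : F) (k : F) = f 1 1 ^ (k * m) := fun m k => by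
    have a1 := kill_nsmul hl 1 (k : F) m
    have a2 := kill_nsmul (f := fun u t => f t u) (fun u u' t => hrr t u u') 1 1 k
    simp only [mul_one] at a1 a2
    rw [a1, a2, ← pow_mul]
  have hsq : f 1 1 ^ 2 = 1 := by
    have e := hsw 1 1
    rw [mul_one, mul_one] at e
    have hcases : (T.etaW w r = 1 ∧ T.etaW w s = 1) ∨ (T.etaW w r = -1 ∧ T.etaW w s = -1) :=
      Int.mul_eq_one_iff_eq_one_or_neg_one.1 hsg
    have e11 : f ((T.etaW w s : F)) ((T.etaW w r : F)) = f 1 1 := by
      rcases hcases with ⟨a, b⟩ | ⟨a, b⟩ <;> rw [a, b]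
      · simp
      · obtain ⟨m, hm⟩ := hF (-1)
        push_cast
        rw [← hm, hpow]
        have hmm : ((m * m : ℕ) : F) = ((1 : ℕ) : F) := by push_cast; rw [hm]; ring
        have hmod := (CharP.natCast_eq_natCast F p).1 hmm
        have hp1 : f 1 1 ^ p = 1 := by
          have a1 := kill_nsmul hl 1 (1 : F) p
          have h0 := hl 0 0 1
          rw [add_zero, left_eq_mul] at h0
          rw [CharP.cast_eq_zero, zero_mul, h0] at a1
          exact a1.symm
        have := pow_eq_pow_mod (m * m) hp1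
        rw [this, hmod, ← pow_eq_pow_mod 1 hp1, pow_one]
    rw [e11, inv_eq_iff_mul_eq_one] at e
    rw [pow_two, e]
  have hp1 : f 1 1 ^ p = 1 := by
    have a1 := kill_nsmul hl 1 (1 : F) p
    have h0 := hl 0 0 1
    rw [add_zero, left_eq_mul] at h0
    rw [CharP.cast_eq_zero, zero_mul, h0] at a1
    exact a1.symm
  have h11 : f 1 1 = 1 := by
    obtain ⟨q, rfl⟩ : ∃ q, p = 2 * q + 1 := ⟨p / 2, by omega⟩
    rw [pow_succ, pow_mul, hsq, one_pow, one_mul] at hp1
    exact hp1
  intro t u
  obtain ⟨m, rfl⟩ := hF t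
  obtain ⟨k, rfl⟩ := hF u
  show f _ _ = 1
  rw [hpow, h11, one_pow]

end Ext

end CfsgLib.Chev
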