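import Cfsg.Agent.Lib.Chev.StSmall
import Mathlib.Algebra.CharP.CharAndCard

/-!
The small fields, type by type.
-/

set_option autoImplicit false
set_option maxRecDepth 100000

namespace CfsgLib.Chev

open Cfsg.Lie Matrix
open scoped commutatorElement

variable {F : Type*} [Field F] [Fintype F]

/-- A field with a prime number of elements. -/
theorem natCast_surjective_of_card {p : ℕ} [CharP F p] (hF : Fintype.card F = p) :
    ∀ t : F, ∃ m : ℕ, (m : F) = t := by
  have hinj : Function.Injective (fun m : Fin p => ((m : ℕ) : F)) := fun a b e =>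
    Fin.ext (CharP.natCast_injOn_Iio F p a.isLt b.isLt e)
  have hbij := (Fintype.bijective_iff_injective_and_card _).2
    ⟨hinj, by rw [Fintype.card_fin, hF]⟩
  intro t
  obtain ⟨m, hm⟩ := hbij.2 t
  exact ⟨m, hm⟩

/-- The characteristic of a field with `p ^ k` elements. -/
theorem charP_of_card {p k : ℕ} (hp : p.Prime) (hF : Fintype.card F = p ^ k) : CharP F p := by
  have : Fact p.Prime := ⟨hp⟩
  exact charP_of_card_eq_prime_pow (f := k) hF

/-- Enough units from the number of elements. -/
theorem Units.enough_of_fintype {K : ℕ} (hK : K + 1 < Fintype.card F) : Units.Enough F K :=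
  Units.enough_of_card (s := Finset.univ) (by rwa [Finset.card_univ])

namespace Ext

variable {D : ChevalleyDatum} {E : Type*} [Group E] (Y : Ext D F E)
variable {T : Tab} {C : Tab.Cover} (h : Cert D T C)
include h

/-- Lifts of order `p` at a root moved by some fundamental cocharacter. -/
lemma exists_exp_of_car {p : ℕ} [CharP F p] {r j : ℕ} {K : ℕ} (hK : Units.Enough F K)
    (hr : r < T.n) (hj : j < T.l) (hcar : T.car j r ≠ 0 ∧ (T.car j r).natAbs ≤ K) (hz : Y.Z r r)
    (t : F) : ∃ a, Y.θ a = X D r t ∧ a ^ p = 1 := by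
  obtain ⟨c, hc⟩ := hK _ hcar.1 hcar.2
  refine Y.exists_exp_of_torus h hr hz (powParam T c
    ((List.range T.l).map fun m => if m = j then 1 else 0)) ?_ t
  rw [chi_powParam, show T.cochar ((List.range T.l).map fun m => if m = j then 1 else 0) r =
    T.car j r from ?_]
  · exact hc
  show ∑ m ∈ Finset.range T.l, _ = _
  rw [Finset.sum_eq_single j]
  · simp [hj]
  · intro m hm hmj
    simp [Finset.mem_range.1 hm, hmj]
  · intro hn
    exact absurd (Finset.mem_range.2 hj) hn

end Ext

/-- Relations in an extension without torsion of the characteristic. -/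
theorem rel_of_no_torsion.{a, b} {K : Type a} [Field K] [Fintype K]
    {D : ChevalleyDatum} (hD : D ∈ [chevG2, chevB2, chevD4, chevF4, chevE6, chevE7, chevE8])
    (hK : D ∈ [chevB2, chevG2] → Fintype.card K ≠ 2) {p : ℕ} (hp : p.Prime) [CharP K p] :
    ∃ T C, Cert D T C ∧ Rel.Nbr T ∧ ∀ (Z : Type b) [Group Z] (Y : Ext D K Z),
      (∀ z, Y.θ z = 1 → z ^ p = 1 → z = 1) → ∃ L : Rel D T K Z, L.π = Y.θ := by
  by_cases hbig : 4 < Fintype.card K
  · obtain ⟨T, C, h, hnb, hl⟩ := rel_of_big_field.{a, b} (s := (Finset.univ : Finset K))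
      (by rwa [Finset.card_univ]) hD
    exact ⟨T, C, h, hnb, fun Z _ Y _ => hl Z Y⟩
  have h2 : 2 ≤ Fintype.card K := Fintype.one_lt_card
  have hcases : Fintype.card K = 2 ∧ p = 2 ∨ Fintype.card K = 3 ∧ p = 3 ∨
      Fintype.card K = 4 ∧ p = 2 := by
    obtain ⟨n, -, hn⟩ := FiniteField.card K p
    have hpp := hp.two_le
    have hle : p ≤ p ^ (n : ℕ) := Nat.le_self_pow n.pos.ne' p
    have hp4 : p ≤ 4 := by omega
    interval_cases p
    · rcases Nat.lt_or_ge (n : ℕ) 3 with h3 | h3
      · have := n.pos
        interval_cases (n : ℕ) <;> omega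
      · have := Nat.pow_le_pow_right (show 2 > 0 by omega) h3
        omega
    · rcases Nat.lt_or_ge (n : ℕ) 2 with h3 | h3
      · have := n.pos
        interval_cases (n : ℕ)
        omega
      · have := Nat.pow_le_pow_right (show 3 > 0 by omega) h3
        omega
    · norm_num at hp
  simp only [List.mem_cons, List.not_mem_nil, or_false] at hD
  rcases hD with rfl | rfl | rfl | rfl | rfl | rfl | rfl
  · refine ⟨_, _, certG2, by unfold Rel.Nbr; decide +kernel, fun Z _ Y hY => ?_⟩
    have hq := hK (by simp)
    have hN : Units.Enough K 1 := Units.enough_of_fintype (by omega)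
    refine Y.rel_of_char certG2 (p := p) hY pairsStG2_ok.1 fun hz b hb => ?_
    simp only [coverG2, List.mem_cons, List.not_mem_nil, or_false] at hb
    rcases hb with rfl | rfl
    · exact Y.exists_exp_of_car certG2 (j := 0) hN (by decide +kernel) (by decide +kernel)
        (by decide +kernel) (hz _ (by decide +kernel))
    · exact Y.exists_exp_of_car certG2 (j := 1) hN (by decide +kernel) (by decide +kernel)
        (by decide +kernel) (hz _ (by decide +kernel))
  · refine ⟨_, _, certB2, by unfold Rel.Nbr; decide +kernel, fun Z _ Y hY => ?_⟩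
    have hq := hK (by simp)
    have hN : Units.Enough K 1 := Units.enough_of_fintype (by omega)
    refine Y.rel_of_char certB2 (p := p) hY pairsStB2_ok.1 fun hz b hb => ?_
    simp only [coverB2, List.mem_cons, List.not_mem_nil, or_false] at hb
    rcases hb with rfl | rfl
    · exact Y.exists_exp_of_car certB2 (j := 1) hN (by decide +kernel) (by decide +kernel)
        (by decide +kernel) (hz _ (by decide +kernel))
    · rcases hcases with ⟨hc, rfl⟩ | ⟨hc, rfl⟩ | ⟨hc, rfl⟩
      · exact absurd hc hq
      · exact Y.exists_exp_of_bracket certB2 (a := 5) (b := 6) (k := 7) (by decide +kernel) hY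
      · exact Y.exists_exp_of_car certB2 (j := 0) (Units.enough_of_fintype (K := 2) (by omega))
          (by decide +kernel) (by decide +kernel) (by decide +kernel) (hz _ (by decide +kernel))
  · refine ⟨_, _, certD4, by unfold Rel.Nbr; decide +kernel, fun Z _ Y hY => ?_⟩
    refine Y.rel_of_char certD4 (p := p) hY pairsStD4_ok.1 fun hz b hb => ?_
    simp only [coverD4, List.mem_cons, List.not_mem_nil, or_false] at hb
    subst hb
    by_cases hq : Fintype.card K = 2
    · obtain rfl : p = 2 := by omega
      exact Y.exists_exp_of_bracket certD4 (a := 14) (b := 22) (k := 23) (by decide +kernel) hY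
    · exact Y.exists_exp_of_car certD4 (j := 1) (Units.enough_of_fintype (K := 1) (by omega))
        (by decide +kernel) (by decide +kernel) (by decide +kernel) (hz _ (by decide +kernel))
  · refine ⟨_, _, certF4, by unfold Rel.Nbr; decide +kernel, fun Z _ Y hY => ?_⟩
    refine Y.rel_of_char certF4 (p := p) hY pairsStF4_ok.1 fun hz b hb => ?_
    simp only [coverF4, List.mem_cons, List.not_mem_nil, or_false] at hb
    rcases hb with rfl | rfl <;> by_cases hq : Fintype.card K = 2
    · obtain rfl : p = 2 := by omega
      exact Y.exists_exp_of_bracket certF4 (a := 33) (b := 40) (k := 44) (by decide +kernel) hY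
    · exact Y.exists_exp_of_car certF4 (j := 0) (Units.enough_of_fintype (K := 1) (by omega))
        (by decide +kernel) (by decide +kernel) (by decide +kernel) (hz _ (by decide +kernel))
    · obtain rfl : p = 2 := by omega
      exact Y.exists_exp_of_bracket certF4 (a := 24) (b := 46) (k := 47) (by decide +kernel) hY
    · exact Y.exists_exp_of_car certF4 (j := 3) (Units.enough_of_fintype (K := 1) (by omega))
        (by decide +kernel) (by decide +kernel) (by decide +kernel) (hz _ (by decide +kernel))
  · refine ⟨_, _, certE6, by unfold Rel.Nbr; decide +kernel, fun Z _ Y hY => ?_⟩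
    refine Y.rel_of_char certE6 (p := p) hY pairsStE6_ok.1 fun hz b hb => ?_
    simp only [coverE6, List.mem_cons, List.not_mem_nil, or_false] at hb
    subst hb
    by_cases hq : Fintype.card K = 2
    · obtain rfl : p = 2 := by omega
      exact Y.exists_exp_of_bracket certE6 (a := 46) (b := 70) (k := 71) (by decide +kernel) hY
    · exact Y.exists_exp_of_car certE6 (j := 1) (Units.enough_of_fintype (K := 1) (by omega))
        (by decide +kernel) (by decide +kernel) (by decide +kernel) (hz _ (by decide +kernel))
  · refine ⟨_, _, certE7, by unfold Rel.Nbr; decide +kernel, fun Z _ Y hY => ?_⟩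
    refine Y.rel_of_char certE7 (p := p) hY pairsStE7_ok.1 fun hz b hb => ?_
    simp only [coverE7, List.mem_cons, List.not_mem_nil, or_false] at hb
    subst hb
    by_cases hq : Fintype.card K = 2
    · obtain rfl : p = 2 := by omega
      exact Y.exists_exp_of_bracket certE7 (a := 93) (b := 124) (k := 125) (by decide +kernel) hY
    · exact Y.exists_exp_of_car certE7 (j := 0) (Units.enough_of_fintype (K := 1) (by omega))
        (by decide +kernel) (by decide +kernel) (by decide +kernel) (hz _ (by decide +kernel))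
  · refine ⟨_, _, certE8, by unfold Rel.Nbr; decide +kernel, fun Z _ Y hY => ?_⟩
    refine Y.rel_of_char certE8 (p := p) hY pairsStE8_ok.1 fun hz b hb => ?_
    simp only [coverE8, List.mem_cons, List.not_mem_nil, or_false] at hb
    subst hb
    by_cases hq : Fintype.card K = 2
    · obtain rfl : p = 2 := by omega
      exact Y.exists_exp_of_bracket certE8 (a := 120) (b := 238) (k := 239) (by decide +kernel) hY
    · exact Y.exists_exp_of_car certE8 (j := 7) (Units.enough_of_fintype (K := 1) (by omega))
        (by decide +kernel) (by decide +kernel) (by decide +kernel) (hz _ (by decide +kernel))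

/-- Four elements: every type but G2. -/
theorem rel_four.{a, b} {K : Type a} [Field K] [Fintype K] (hF : Fintype.card K = 4)
    {D : ChevalleyDatum} (hD : D ∈ [chevB2, chevD4, chevF4, chevE6, chevE7, chevE8]) :
    ∃ T C, Cert D T C ∧ Rel.Nbr T ∧
      ∀ (Z : Type b) [Group Z] (Y : Ext D K Z), ∃ L : Rel D T K Z, L.π = Y.θ := by
  have : CharP K 2 := charP_of_card Nat.prime_two (k := 2) hF
  have E2 : Units.Enough K 2 := Units.enough_of_fintype (by omega)
  have E1 : Units.Enough K 1 := Units.enough_of_fintype (by omega)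
  simp only [List.mem_cons, List.not_mem_nil, or_false] at hD
  rcases hD with rfl | rfl | rfl | rfl | rfl | rfl
  · refine ⟨_, _, certB2, by unfold Rel.Nbr; decide +kernel, fun Z _ Y => ?_⟩
    refine Y.rel_of_torus certB2 E2 pairsStB2_ok.1 (List.all_eq_true.1 pairsStB2_ok.2.1)
      pairsStB2_ok.2.2 fun hZ r hr => Y.Z_self_all certB2 (fun b hb => ?_) hr
    simp only [coverB2, List.mem_cons, List.not_mem_nil, or_false] at hb
    rcases hb with rfl | rfl
    · exact Y.Z_of_chkSplit certB2 (p := 2) (a := 2) (b := 7) (by decide +kernel)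
        fun d _ d1 d2 d3 hc => hZ 6 (by decide +kernel) d.1 d1 d2 d3 hc
    · exact Y.Z_self_longB2 hZ
  · refine ⟨_, _, certD4, by unfold Rel.Nbr; decide +kernel, fun Z _ Y => ?_⟩
    refine Y.rel_of_torus certD4 E2 pairsStD4_ok.1 (List.all_eq_true.1 pairsStD4_ok.2.1)
      (by decide +kernel) fun hZ r hr => Y.Z_self_all certD4 (fun b hb => ?_) hr
    simp only [coverD4, List.mem_cons, List.not_mem_nil, or_false] at hb
    subst hb
    exact Y.Z_of_chkSplit certD4 (p := 2) (a := 14) (b := 22) (by decide +kernel)
      fun d _ d1 d2 d3 hc => hZ 23 (by decide +kernel) d.1 d1 d2 d3 hc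
  · refine ⟨_, _, certF4, by unfold Rel.Nbr; decide +kernel, fun Z _ Y => ?_⟩
    refine Y.rel_of_torus certF4 E2 pairsStF4_ok.1 (List.all_eq_true.1 pairsStF4_ok.2.1)
      (by decide +kernel) fun hZ r hr => Y.Z_self_all certF4 (fun b hb => ?_) hr
    simp only [coverF4, List.mem_cons, List.not_mem_nil, or_false] at hb
    rcases hb with rfl | rfl
    · exact Y.Z_of_chkSplit certF4 (p := 2) (a := 18) (b := 47) (by decide +kernel)
        fun d _ d1 d2 d3 hc => hZ 44 (by decide +kernel) d.1 d1 d2 d3 hc
    · exact Y.Z_of_chkSplit certF4 (p := 2) (a := 24) (b := 46) (by decide +kernel)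
        fun d _ d1 d2 d3 hc => hZ 47 (by decide +kernel) d.1 d1 d2 d3 hc
  · refine ⟨_, _, certE6, by unfold Rel.Nbr; decide +kernel, fun Z _ Y => ?_⟩
    refine Y.rel_of_torus certE6 E1 pairsStE6_ok.1 (List.all_eq_true.1 pairsStE6_ok.2.1)
      pairsStE6_ok.2.2 fun hZ r hr => Y.Z_self_all certE6 (fun b hb => ?_) hr
    simp only [coverE6, List.mem_cons, List.not_mem_nil, or_false] at hb
    subst hb
    exact Y.Z_of_chkSplit certE6 (p := 2) (a := 46) (b := 70) (by decide +kernel)
      fun d _ d1 d2 d3 hc => hZ 71 (by decide +kernel) d.1 d1 d2 d3 hc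
  · refine ⟨_, _, certE7, by unfold Rel.Nbr; decide +kernel, fun Z _ Y => ?_⟩
    refine Y.rel_of_torus certE7 E1 pairsStE7_ok.1 (List.all_eq_true.1 pairsStE7_ok.2.1)
      pairsStE7_ok.2.2 fun hZ r hr => Y.Z_self_all certE7 (fun b hb => ?_) hr
    simp only [coverE7, List.mem_cons, List.not_mem_nil, or_false] at hb
    subst hb
    exact Y.Z_of_chkSplit certE7 (p := 2) (a := 93) (b := 124) (by decide +kernel)
      fun d _ d1 d2 d3 hc => hZ 125 (by decide +kernel) d.1 d1 d2 d3 hc
  · refine ⟨_, _, certE8, by unfold Rel.Nbr; decide +kernel, fun Z _ Y => ?_⟩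
    refine Y.rel_of_torus certE8 E1 pairsStE8_ok.1 (List.all_eq_true.1 pairsStE8_ok.2.1)
      pairsStE8_ok.2.2 fun hZ r hr => Y.Z_self_all certE8 (fun b hb => ?_) hr
    simp only [coverE8, List.mem_cons, List.not_mem_nil, or_false] at hb
    subst hb
    exact Y.Z_of_chkSplit certE8 (p := 2) (a := 120) (b := 238) (by decide +kernel)
      fun d _ d1 d2 d3 hc => hZ 239 (by decide +kernel) d.1 d1 d2 d3 hc

end CfsgLib.Chev
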