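import Cfsg.Agent.Lib.Chev.TwistBN
import Cfsg.Agent.Lib.Chev.Parabolic

/-!
The rank one subgroups of the classes of the fixed points of an endomorphism, inside the Levi
factors of their parabolic subgroups.
-/

set_option autoImplicit false
set_option linter.unusedSectionVars false

namespace CfsgLib.Chev

open Cfsg.Lie Matrix

namespace Endo

open Cert (Maps_mul Maps_inv conj_gen_le mem_cellList diagonal_le_monomial sortedLT_posList
  mem_posList)

variable {D : ChevalleyDatum} {T : Tab} {C : Tab.Cover} {h : Cert D T C} {F : Type*} [Field F]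
  (E : Endo h F)

/-- The positive roots of a class. -/
def clsPos (T : Tab) (c : Cls) : Set ℕ := {r | r ∈ cellList T c.word}

/-- The negative roots of a class. -/
def clsNeg (T : Tab) (c : Cls) : Set ℕ := {r | r < T.n ∧ T.neg r ∈ cellList T c.word}

/-- The members of a class. -/
def clsSet (c : Cls) : Set ℕ := {i | i ∈ c.mem}

/-- The positive root subgroup of a class. -/
noncomputable def clsX (c : Cls) : Subgroup ↥E.fix := (gen D F (clsPos T c)).subgroupOf E.fix

/-- The negative root subgroup of a class. -/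
noncomputable def clsY (c : Cls) : Subgroup ↥E.fix := (gen D F (clsNeg T c)).subgroupOf E.fix

/-- The rank one subgroup of a class. -/
noncomputable def clsL (c : Cls) : Subgroup ↥E.fix := E.clsX c ⊔ E.clsY c

/-- The unipotent group of the fixed points. -/
noncomputable def posG : Subgroup ↥E.fix := (D.posUnipotent F).subgroupOf E.fix

/-- The torus of the fixed points. -/
noncomputable def diaG : Subgroup ↥E.fix := (D.diagonalSubgroup F).subgroupOf E.fix

/-- The monomial fixed points. -/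
noncomputable def monG : Subgroup ↥E.fix := (D.monomialSubgroup F).subgroupOf E.fix

/-- `g` is a monomial fixed element permuting the roots by the word of the class. -/
def IsRep (c : Cls) (g : ↥E.fix) : Prop :=
  g ∈ E.monG ∧ ∀ r < T.n, Maps D (g : GL D.Idx F) r (rword T c.word r)

include h in
lemma longest_neg_iff : ∃ w, WordOK T w ∧ ∀ x < T.n, (rword T w x < T.half ↔ T.half ≤ x) := by
  obtain ⟨w, hw, hneg⟩ := h.exists_longest
  refine ⟨w, hw, fun x hx => ⟨fun h1 => ?_, fun h1 => hneg x h1 hx⟩⟩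
  by_contra hn
  have h2 := hneg _ ((h.half_le_neg_iff hx).2 (not_le.1 hn)) (Cert.neg_lt (T := T) hx)
  rw [h.rword_neg hw hx] at h2
  exact absurd ((h.half_le_neg_iff (h.rword_lt hw hx)).2 h1) (not_le.2 h2)

variable {CL : List Cls} (hC : E.ClsOK CL) {c : Cls} (hc : c ∈ CL)
include hC hc

lemma clsPos_iff {r : ℕ} :
    r ∈ clsPos T c ↔ r ∈ posSet T ∧ D.InRootSub (clsSet c) r := by
  rw [clsPos, Set.mem_ofPred_eq, mem_cellList]
  constructor
  · rintro ⟨hr, hneg⟩
    refine ⟨hr, h.inRootSub_iff.2 ⟨hr.2, fun m hm hmJ => ?_⟩⟩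
    exact (h.wt_eq_zero_iff hm hr.2).2 (hC.supp c hc r hr.2 hr.1 hneg m hm hmJ)
  · rintro ⟨hr, hin⟩
    refine ⟨hr, neg_of_class (h := h) (hC.wordOK E hc) (fun i hi _ => hC.negs c hc i hi) hr.1 hr.2
      fun m hm hmc => ?_⟩
    exact (h.wt_eq_zero_iff hm hr.2).1 ((h.inRootSub_iff.1 hin).2 m hm hmc)

lemma clsNeg_lt {r : ℕ} (hr : r ∈ clsNeg T c) : r < T.half := by
  by_contra hn
  exact absurd ((mem_cellList.1 hr.2).1.1) (not_le.2 (by
    by_contra hge
    exact absurd ((h.half_le_neg_iff hr.1).1 (not_lt.1 hge)) hn))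

lemma word_clsPos {r : ℕ} (hr : r ∈ clsPos T c) : rword T c.word r ∈ clsNeg T c := by
  obtain ⟨⟨hh, hlt⟩, hneg⟩ := mem_cellList.1 hr
  have hv := hC.wordOK E hc
  have hy := h.rword_lt hv hlt
  refine ⟨hy, mem_cellList.2 ⟨⟨(h.half_le_neg_iff hy).2 hneg, Cert.neg_lt (T := T) hy⟩, ?_⟩⟩
  rw [h.rword_neg hv hy, hC.invol c hc r hlt]
  exact not_le.1 fun e => absurd ((h.half_le_neg_iff hlt).1 e) (not_lt.2 hh)

lemma word_clsNeg {r : ℕ} (hr : r ∈ clsNeg T c) : rword T c.word r ∈ clsPos T c := by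
  have hv := hC.wordOK E hc
  obtain ⟨h1, h2⟩ := hr
  have h3 : T.neg r ∈ clsPos T c := h2
  obtain ⟨h4, h5⟩ := E.word_clsPos hC hc h3
  rw [h.rword_neg hv h1, Cert.neg_neg (T := T) (h.rword_lt hv h1)] at h5
  exact h5

lemma word_rad {r : ℕ} (hr : r ∈ posSet T) (hn : r ∉ clsPos T c) :
    rword T c.word r ∈ posSet T ∧ rword T c.word r ∉ clsPos T c := by
  have hv := hC.wordOK E hc
  refine ⟨⟨not_lt.1 fun hlt => hn (mem_cellList.2 ⟨hr, hlt⟩), h.rword_lt hv hr.2⟩, fun hin => ?_⟩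
  have := (mem_cellList.1 hin).2
  rw [hC.invol c hc r hr.2] at this
  exact absurd hr.1 (not_le.2 this)

lemma mem_radSet_of_not_mem {r : ℕ} (hr : r ∈ posSet T) (hn : r ∉ clsPos T c) :
    r ∈ radSet D T (clsSet c) := ⟨hr, fun hin => hn ((E.clsPos_iff hC hc).2 ⟨hr, hin⟩)⟩

/-- A word keeping the simple roots of the class positive keeps the roots of the class positive. -/
lemma pos_of_class {w : List ℕ} (hw : WordOK T w)
    (hpos : ∀ i ∈ c.mem, T.half ≤ rword T w (T.simple i)) {r : ℕ} (hr : r ∈ clsPos T c) :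
    T.half ≤ rword T w r := by
  obtain ⟨w0, hw0, hw0n⟩ := longest_neg_iff (h := h)
  obtain ⟨⟨hh, hlt⟩, hneg⟩ := mem_cellList.1 hr
  have h1 := neg_of_class (h := h) (w := w0 ++ w)
    (fun a ha => (List.mem_append.1 ha).elim (hw0 a) (hw a))
    (fun i hi hil => by
      rw [rword_append]
      exact (hw0n _ (h.rword_lt hw (h.simple_lt hil))).2 (hpos i hi))
    hh hlt (hC.supp c hc r hlt hh hneg)
  rw [rword_append] at h1
  exact (hw0n _ (h.rword_lt hw hlt)).1 h1

/-- A commuting word maps the roots of a class all to positive or all to negative roots. -/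
lemma class_dichotomy {w : List ℕ} (hw : WordOK T w) (hwc : E.Comm w) :
    (∀ r ∈ clsPos T c, T.half ≤ rword T w r) ∨ ∀ r ∈ clsPos T c, rword T w r < T.half := by
  by_cases hcase : ∀ i ∈ c.mem, T.half ≤ rword T w (T.simple i)
  · exact Or.inl fun r hr => E.pos_of_class hC hc hw hcase hr
  · push Not at hcase
    obtain ⟨i, hic, hneg⟩ := hcase
    refine Or.inr fun r hr => ?_
    obtain ⟨⟨hh, hlt⟩, hn⟩ := mem_cellList.1 hr
    refine neg_of_class (h := h) hw (fun m hm _ => ?_) hh hlt (hC.supp c hc r hlt hh hn)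
    obtain ⟨k, rfl⟩ := hC.cyc c hc i hic m hm
    clear hm
    have hpil : ∀ n, E.π^[n] i < T.l := fun n => by
      induction n with
      | zero => exact hC.lt c hc i hic
      | succ n ih => rw [Function.iterate_succ_apply']; exact E.sym.pi_lt _ ih
    have : ∀ n, rword T w (T.simple (E.π^[n] i)) < T.half := fun n => by
      induction n with
      | zero => exact hneg
      | succ n ih =>
        rw [Function.iterate_succ_apply']
        exact (E.pos_iff_of_comm hw hwc (hpil n)).2 ih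
    exact this k

lemma clsX_le_posG : E.clsX c ≤ E.posG := by
  refine Subgroup.comap_mono ?_
  rw [h.posUnipotent_eq]
  exact gen_mono D fun r hr => (mem_cellList.1 hr).1

lemma conj_diaG_gen {S : Set ℕ} (hS : ∀ r ∈ S, r < T.n) {t x : ↥E.fix} (ht : t ∈ E.diaG)
    (hx : x ∈ (gen D F S).subgroupOf E.fix) : t * x * t⁻¹ ∈ (gen D F S).subgroupOf E.fix := by
  rw [Subgroup.mem_subgroupOf, Subgroup.coe_mul, Subgroup.coe_mul, Subgroup.coe_inv]
  exact (Subgroup.mem_normalizer_iff.1 (h.diagonal_le_normalizer_gen hS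
    (Subgroup.mem_subgroupOf.1 ht)) _).1 (Subgroup.mem_subgroupOf.1 hx)

lemma diaG_clsX {t x : ↥E.fix} (ht : t ∈ E.diaG) (hx : x ∈ E.clsX c) :
    t * x * t⁻¹ ∈ E.clsX c :=
  E.conj_diaG_gen hC hc (S := clsPos T c) (fun r hr => (mem_cellList.1 hr).1.2) ht hx

lemma conj_rep_X {n : ↥E.fix} (hn : E.IsRep c n) {x : ↥E.fix} (hx : x ∈ E.clsX c) :
    n * x * n⁻¹ ∈ E.clsY c := by
  rw [clsY, Subgroup.mem_subgroupOf, Subgroup.coe_mul, Subgroup.coe_mul, Subgroup.coe_inv]
  exact conj_gen_le (fun r hr => ⟨_, E.word_clsPos hC hc hr, hn.2 r (mem_cellList.1 hr).1.2⟩)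
    (Subgroup.mem_subgroupOf.1 hx)

lemma map_clsX {n : ↥E.fix} (hn : E.IsRep c n) :
    (E.clsX c).map (MulAut.conj n).toMonoidHom = E.clsY c := by
  refine le_antisymm ?_ fun y hy => ⟨n⁻¹ * y * n, ?_, by simp [mul_assoc]⟩
  · rintro _ ⟨x, hx, rfl⟩
    exact E.conj_rep_X hC hc hn hx
  · show n⁻¹ * y * n ∈ E.clsX c
    rw [clsX, Subgroup.mem_subgroupOf, Subgroup.coe_mul, Subgroup.coe_mul, Subgroup.coe_inv]
    have key := conj_gen_le (g := (n : GL D.Idx F)⁻¹) (S' := clsPos T c) (fun r hr => ?_)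
      (Subgroup.mem_subgroupOf.1 hy)
    · simpa using key
    have hv := hC.wordOK E hc
    refine ⟨_, E.word_clsNeg hC hc hr, ?_⟩
    have h1 := Maps_inv (hn.2 _ (h.rword_lt hv hr.1))
    rwa [hC.invol c hc r hr.1] at h1

lemma clsL_eq {n : ↥E.fix} (hn : E.IsRep c n) :
    E.clsX c ⊔ (E.clsX c).map (MulAut.conj n).toMonoidHom = E.clsL c := by
  rw [E.map_clsX hC hc hn, clsL]

lemma rep_mul_diag {n : ↥E.fix} (hn : E.IsRep c n) {t t' : ↥E.fix} (ht : t ∈ E.diaG)
    (ht' : t' ∈ E.diaG) : E.IsRep c (t * n * t') := by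
  have hv := hC.wordOK E hc
  have ht1 := Subgroup.mem_subgroupOf.1 ht
  have ht2 := Subgroup.mem_subgroupOf.1 ht'
  refine ⟨mul_mem (mul_mem (Subgroup.comap_mono diagonal_le_monomial ht) hn.1)
    (Subgroup.comap_mono diagonal_le_monomial ht'), fun r hr => ?_⟩
  rw [Subgroup.coe_mul, Subgroup.coe_mul]
  exact Maps_mul (h.Maps_diagonal ht2 hr)
    (Maps_mul (hn.2 r hr) (h.Maps_diagonal ht1 (h.rword_lt hv hr)))

lemma rep_inv {n : ↥E.fix} (hn : E.IsRep c n) : E.IsRep c n⁻¹ := by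
  have hv := hC.wordOK E hc
  refine ⟨inv_mem hn.1, fun r hr => ?_⟩
  rw [Subgroup.coe_inv]
  have h1 := Maps_inv (hn.2 _ (h.rword_lt hv hr))
  rwa [hC.invol c hc r hr] at h1

lemma rep_mul_rep {n n' : ↥E.fix} (hn : E.IsRep c n) (hn' : E.IsRep c n') :
    n * n' ∈ E.diaG := by
  have hv := hC.wordOK E hc
  have h1 := diag_of_same_perm (h := h) hv hv
    (Subgroup.mem_subgroupOf.1 (E.rep_inv hC hc hn).1) (Subgroup.mem_subgroupOf.1 hn'.1)
    (E.rep_inv hC hc hn).2 hn'.2 fun _ _ => rfl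
  rw [diaG, Subgroup.mem_subgroupOf, Subgroup.coe_mul]
  rw [Subgroup.coe_inv, inv_inv] at h1
  exact h1

lemma not_mem_posG {n x : ↥E.fix} (hn : E.IsRep c n) (hx : x ∈ E.clsX c) (hx1 : x ≠ 1) :
    n * x * n⁻¹ ∉ (D.borelSubgroup F).subgroupOf E.fix := fun hB => by
  rw [Subgroup.mem_subgroupOf, Subgroup.coe_mul, Subgroup.coe_mul, Subgroup.coe_inv] at hB
  have := neg_not_borel (h := h) (conj_cellList_neg (h := h) hn.2
    (Subgroup.mem_subgroupOf.1 hx)) hB
  rw [conj_eq_one_iff] at this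
  exact hx1 (Subtype.ext this)

lemma gen_le_levi {S : Set ℕ} (hS : ∀ r ∈ S, D.InRootSub (clsSet c) r) :
    gen D F S ≤ D.leviSubgroup F (clsSet c) := by
  rw [h.leviSubgroup_eq]
  exact le_trans (gen_mono D hS) le_sup_right

lemma clsNeg_inRootSub {r : ℕ} (hr : r ∈ clsNeg T c) : D.InRootSub (clsSet c) r := by
  have := h.inRootSub_neg ((E.clsPos_iff hC hc).1 hr.2).2
  rwa [Cert.neg_neg (T := T) hr.1] at this

lemma clsL_le_levi :
    (E.clsL c).map E.fix.subtype ≤ D.leviSubgroup F (clsSet c) := by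
  rw [clsL, Subgroup.map_sup]
  refine sup_le ?_ ?_
  · rintro _ ⟨x, hx, rfl⟩
    exact E.gen_le_levi hC hc (fun r hr => ((E.clsPos_iff hC hc).1 hr).2)
      (Subgroup.mem_subgroupOf.1 hx)
  · rintro _ ⟨x, hx, rfl⟩
    exact E.gen_le_levi hC hc (fun r hr => E.clsNeg_inRootSub hC hc hr)
      (Subgroup.mem_subgroupOf.1 hx)

lemma rep_mem_levi {n : ↥E.fix} (hn : E.IsRep c n) :
    (n : GL D.Idx F) ∈ D.leviSubgroup F (clsSet c) := by
  have hv := hC.wordOK E hc
  have hW : ∀ {u : List ℕ}, WordOK T u → (∀ j ∈ u, j ∈ c.mem) →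
      nW D F u ∈ D.leviSubgroup F (clsSet c) := by
    intro u
    induction u with
    | nil => intro _ _; simp [nW]
    | cons j u ih =>
      intro hu hj
      rw [nW_cons]
      refine mul_mem ?_ (ih hu.tail fun a ha => hj a (List.mem_cons_of_mem _ ha))
      have hs : D.InRootSub (clsSet c) (T.simple j) :=
        h.inRootSub_simple hu.head (hj j List.mem_cons_self)
      rw [h.leviSubgroup_eq]
      refine Subgroup.mem_sup_right ?_
      rw [nS, h.simple_eq hu.head, nU, h.neg_eq (h.simple_lt hu.head)]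
      exact mul_mem (mul_mem (X_mem_gen D (show T.simple j ∈ {r | D.InRootSub (clsSet c) r} from hs) _)
        (X_mem_gen D (show T.neg (T.simple j) ∈ {r | D.InRootSub (clsSet c) r} from
          h.inRootSub_neg hs) _))
        (X_mem_gen D (show T.simple j ∈ {r | D.InRootSub (clsSet c) r} from hs) _)
  have hd := diag_of_same_perm (h := h) hv hv (h.nW_mem_monomial hv)
    (Subgroup.mem_subgroupOf.1 hn.1) (fun r hr => h.Maps_nW hv hr) hn.2 fun _ _ => rfl
  have h1 := mul_mem (hW hv (hC.sub c hc))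
    (show _ ∈ D.leviSubgroup F (clsSet c) by
      rw [h.leviSubgroup_eq]; exact Subgroup.mem_sup_left hd)
  rwa [mul_inv_cancel_left] at h1

lemma levi_normalizes {l : GL D.Idx F} (hl : l ∈ D.leviSubgroup F (clsSet c)) {a : GL D.Idx F}
    (ha : a ∈ gen D F (radSet D T (clsSet c))) :
    l * a * l⁻¹ ∈ gen D F (radSet D T (clsSet c)) := by
  have hp : l ∈ D.parabolicSubgroup F (clsSet c) :=
    (le_sup_right.trans (h.radical_sup_levi (clsSet c)).le) hl
  rw [← h.unipotentRadical_eq] at ha ⊢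
  exact (Subgroup.mem_normalizer_iff.1 (h.parabolic_le_normalizer (clsSet c) hp) _).1 ha

/-- The fixed unipotent elements split along the radical of a class. -/
theorem split_class {u : ↥E.fix} (hu : u ∈ E.posG) :
    ∃ a : ↥E.fix, (a : GL D.Idx F) ∈ gen D F (radSet D T (clsSet c)) ∧
      ∃ x ∈ E.clsX c, u = a * x := by
  obtain ⟨w0, hw0, hw0c, hw0n⟩ := E.exists_longest_comm
  have hv := hC.wordOK E hc
  set A : Set ℕ := {r | r ∈ cellList T c.word} with hA
  set A' : Set ℕ := {r | r ∈ cellList T (w0 ++ c.word)} with hA'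
  have hApos : A ⊆ posSet T := fun r hr => (mem_cellList.1 hr).1
  have hA'pos : A' ⊆ posSet T := fun r hr => (mem_cellList.1 hr).1
  have hAc : CommClosed T A := h.commClosed_cellList hv
  have hw0v : WordOK T (w0 ++ c.word) := fun a ha => (List.mem_append.1 ha).elim (hw0 a) (hv a)
  have hA'c : CommClosed T A' := h.commClosed_cellList hw0v
  have hw0neg : ∀ x < T.n, (rword T w0 x < T.half ↔ T.half ≤ x) := by
    intro x hx
    refine ⟨fun h1 => ?_, fun h1 => hw0n x h1 hx⟩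
    by_contra hn
    have h2 := hw0n _ ((h.half_le_neg_iff hx).2 (not_le.1 hn)) (Cert.neg_lt (T := T) hx)
    rw [h.rword_neg hw0 hx] at h2
    exact absurd ((h.half_le_neg_iff (h.rword_lt hw0 hx)).2 h1) (not_le.2 h2)
  have hA'iff : ∀ r ∈ posSet T, r ∈ A' ↔ r ∉ A := by
    intro r hr
    rw [hA', hA, Set.mem_ofPred_eq, Set.mem_ofPred_eq, mem_cellList, mem_cellList, rword_append,
      hw0neg _ (h.rword_lt hv hr.2)]
    simp [hr]
  have hu' : (u : GL D.Idx F) ∈ D.posUnipotent F := Subgroup.mem_subgroupOf.1 hu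
  rw [h.posUnipotent_eq, ← Cert.posList_set] at hu'
  obtain ⟨a, ha, x, hx, eu⟩ := h.exists_split A' (posList T) sortedLT_posList
    (fun r hr => mem_posList.1 hr) (by rw [Cert.posList_set]; exact h.commClosed_posSet) _ hu'
  rw [Cert.posList_set] at ha hx
  have ha' : a ∈ gen D F A' := gen_mono D Set.inter_subset_right ha
  have hx' : x ∈ gen D F A := gen_mono D (fun r hr => by
    by_contra hn; exact hr.2 ((hA'iff r hr.1).2 hn)) hx
  have haG := h.gen_le_group (F := F) (fun r hr => (hA'pos hr).2) ha'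
  have hxG := h.gen_le_group (F := F) (fun r hr => (hApos hr).2) hx'
  have ha1 : E.act a ∈ gen D F A' := E.act_mem_gen (fun r hr => (hA'pos hr).2)
    (fun r hr => E.cellList_stable hw0v (Comm.append E hv hw0c (hC.comm c hc)) hr) ha'
  have hx1 : E.act x ∈ gen D F A := E.act_mem_gen (fun r hr => (hApos hr).2)
    (fun r hr => E.cellList_stable hv (hC.comm c hc) hr) hx'
  have e1 : E.act a * E.act x = a * x := by
    rw [← E.act_mul haG hxG, ← eu, E.act_of_fix u.2]
  have h2 : a⁻¹ * E.act a ∈ gen D F (A' ∩ A) := by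
    refine gen_inter (h := h) hA'pos hA'c hApos hAc (mul_mem (inv_mem ha') ha1) ?_
    rw [show a⁻¹ * E.act a = x * (E.act x)⁻¹ by
      rw [eq_mul_inv_iff_mul_eq, mul_assoc, e1, inv_mul_cancel_left]]
    exact mul_mem hx' (inv_mem hx1)
  rw [show A' ∩ A = ∅ from Set.eq_empty_iff_forall_notMem.2 fun r hr =>
    ((hA'iff r (hApos hr.2)).1 hr.1) hr.2, show gen D F (∅ : Set ℕ) = ⊥ by simp [gen],
    Subgroup.mem_bot, inv_mul_eq_one] at h2
  rw [← h2] at e1
  exact ⟨⟨a, E.mem_fix.2 ⟨haG, h2.symm⟩⟩,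
    gen_mono D (fun r hr => E.mem_radSet_of_not_mem hC hc (hA'pos hr)
      ((hA'iff r (hA'pos hr)).1 hr)) ha',
    ⟨x, E.mem_fix.2 ⟨hxG, mul_left_cancel e1⟩⟩, Subgroup.mem_subgroupOf.2 hx', Subtype.ext eu⟩

/-- The Bruhat decomposition inside the rank one subgroup. -/
theorem class_bru (hG : E.Reps E.fix CL) {s : ↥E.fix} (hs : E.IsRep c s) {x : ↥E.fix}
    (hx : x ∈ E.clsX c) (hx1 : x ≠ 1) :
    ∃ a ∈ E.clsX c, ∃ m, E.IsRep c m ∧ ∃ b ∈ E.clsX c, s * x * s⁻¹ = a * m * b := by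
  have hxB : (x : GL D.Idx F) ∈ E.fix ⊓ D.borelSubgroup F :=
    ⟨x.2, Subgroup.mem_sup_left (E.clsX_le_posG hC hc hx)⟩
  have hnB := E.not_mem_posG hC hc hs hx hx1
  rcases E.class_mul hC hG hc s.2 (Subgroup.mem_subgroupOf.1 hs.1) hs.2 (inv_mem s.2)
    (inv_mem (Subgroup.mem_subgroupOf.1 hs.1)) hxB with ⟨p, hp, q, hq, e'⟩ | ⟨p, hp, q, hq, e'⟩
  · refine absurd (Subgroup.mem_subgroupOf.2 ?_) hnB
    rw [Subgroup.coe_mul, Subgroup.coe_mul, Subgroup.coe_inv, e', mul_inv_cancel, mul_one]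
    exact mul_mem hp.2 hq.2
  obtain ⟨u, hu, t, ht, rfl⟩ := E.borel_fix.1 hp
  obtain ⟨u2, hu2, t2, ht2, rfl⟩ := E.borel_fix.1 hq
  obtain ⟨a1, ha1, x1, hx1', e1⟩ :=
    E.split_class hC hc (u := ⟨u, hu.1⟩) (Subgroup.mem_subgroupOf.2 hu.2)
  obtain ⟨a2, ha2, x2, hx2', e2⟩ :=
    E.split_class hC hc (u := ⟨u2, hu2.1⟩) (Subgroup.mem_subgroupOf.2 hu2.2)
  set t' : ↥E.fix := ⟨t, ht.1⟩
  set t2' : ↥E.fix := ⟨t2, ht2.1⟩
  have hdt : t' ∈ E.diaG := Subgroup.mem_subgroupOf.2 ht.2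
  have hdt2 : t2' ∈ E.diaG := Subgroup.mem_subgroupOf.2 ht2.2
  have etot : s * x * s⁻¹ = a1 * x1 * t' * s⁻¹ * (a2 * x2 * t2') := by
    refine Subtype.ext ?_
    have f1 : u = (a1 : GL D.Idx F) * x1 := congrArg Subtype.val e1
    have f2 : u2 = (a2 : GL D.Idx F) * x2 := congrArg Subtype.val e2
    simp only [Subgroup.coe_mul, Subgroup.coe_inv]
    rw [e', f1, f2]
  set l : ↥E.fix := x1 * t' * s⁻¹
  set a : ↥E.fix := a1 * (l * a2 * l⁻¹)
  have hlev : ∀ g : ↥E.fix, g ∈ E.clsX c →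
      (g : GL D.Idx F) ∈ D.leviSubgroup F (clsSet c) := fun g hg =>
    E.clsL_le_levi hC hc ⟨g, Subgroup.mem_sup_left hg, rfl⟩
  have hdia : ∀ g : ↥E.fix, g ∈ E.diaG →
      (g : GL D.Idx F) ∈ D.leviSubgroup F (clsSet c) := fun g hg => by
    rw [h.leviSubgroup_eq]; exact Subgroup.mem_sup_left (Subgroup.mem_subgroupOf.1 hg)
  have hl : (l : GL D.Idx F) ∈ D.leviSubgroup F (clsSet c) := by
    simp only [l, Subgroup.coe_mul]
    exact mul_mem (mul_mem (hlev _ hx1') (hdia _ hdt))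
      (E.rep_mem_levi hC hc (E.rep_inv hC hc hs))
  have ea : a = s * x * s⁻¹ * (l * x2 * t2')⁻¹ := by
    rw [etot]; simp only [a, l]; group
  have ha : (a : GL D.Idx F) ∈ gen D F (radSet D T (clsSet c)) := by
    simp only [a, Subgroup.coe_mul, Subgroup.coe_inv]
    exact mul_mem ha1 (E.levi_normalizes hC hc hl ha2)
  have ha' : (a : GL D.Idx F) ∈ D.leviSubgroup F (clsSet c) := by
    rw [ea]
    simp only [Subgroup.coe_mul, Subgroup.coe_inv]
    exact mul_mem (mul_mem (mul_mem (E.rep_mem_levi hC hc hs) (hlev _ hx))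
      (inv_mem (E.rep_mem_levi hC hc hs)))
      (inv_mem (mul_mem (mul_mem hl (hlev _ hx2')) (hdia _ hdt2)))
  have ha0 : (a : GL D.Idx F) ∈ D.unipotentRadical F (clsSet c) ⊓ D.leviSubgroup F (clsSet c) :=
    ⟨by rw [h.unipotentRadical_eq]; exact ha, ha'⟩
  rw [h.radical_inf_levi, Subgroup.mem_bot] at ha0
  have ha1' : a = 1 := Subtype.ext ha0
  rw [ea, mul_inv_eq_one] at ha1'
  refine ⟨x1, hx1', t' * s⁻¹ * t2', E.rep_mul_diag hC hc (E.rep_inv hC hc hs) hdt hdt2,
    t2'⁻¹ * x2 * t2', ?_, ?_⟩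
  · simpa using E.diaG_clsX hC hc (inv_mem hdt2) hx2'
  · rw [ha1']; simp only [l]; group

end Endo

end CfsgLib.Chev
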