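import Cfsg.Agent.Lib.Chev.TwistBN
import Cfsg.Agent.Lib.Chev.CentralGenMod

/-!
The layers of the unipotent fixed points of an endomorphism, orbit by orbit, with their leading
coordinates.
-/

set_option autoImplicit false
set_option linter.unusedSectionVars false

open scoped commutatorElement

namespace CfsgLib.Chev

open Cfsg.Lie Matrix
open Cert (torusHom extC extC_ne_zero)

lemma chkLayers_drop {T : Tab} {ρ : ℕ → ℕ} : ∀ {L : List Orb} (k : ℕ),
    chkLayers T ρ L = true → chkLayers T ρ (L.drop k) = true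
  | [], k, _ => by simp [chkLayers]
  | o :: L, 0, h => h
  | o :: L, k + 1, h => by
    simp only [chkLayers, Bool.and_eq_true] at h
    exact chkLayers_drop k h.2

namespace Endo

/-- The roots from the layer `k` on. -/
def sfxL (ρ : ℕ → ℕ) (L : List Orb) (k : ℕ) : List ℕ := flatOrbs ρ (L.drop k)

/-- The orbit of a layer. -/
def orbL (L : List Orb) (k : ℕ) : Orb := L.getD k ⟨0, 0, [], 0, []⟩

lemma sfxL_eq {ρ : ℕ → ℕ} {L : List Orb} {k : ℕ} (hk : k < L.length) :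
    sfxL ρ L k = (orbL L k).list ρ ++ sfxL ρ L (k + 1) := by
  rw [sfxL, sfxL, List.drop_eq_getElem_cons hk, orbL, List.getD_eq_getElem _ _ hk,
    flatOrbs, List.flatMap_cons]
  rfl

variable {D : ChevalleyDatum} {T : Tab} {C : Tab.Cover} {h : Cert D T C} {F : Type*} [Field F]
  (E : Endo h F)

variable (L : List Orb)

/-- The fixed elements from the layer `k` on. -/
noncomputable def lay (k : ℕ) : Subgroup ↥E.fix :=
  (gen D F {r | r ∈ sfxL E.ρ L k}).subgroupOf E.fix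

lemma mem_lay {k : ℕ} {g : ↥E.fix} :
    g ∈ E.lay L k ↔ (g : GL D.Idx F) ∈ gen D F {r | r ∈ sfxL E.ρ L k} := Subgroup.mem_subgroupOf

/-- The torus of the fixed points. -/
noncomputable def torG : Subgroup ↥E.fix := (D.diagonalSubgroup F).subgroupOf E.fix

open Classical in
/-- The leading coordinate in a layer. -/
noncomputable def crd (k : ℕ) (g : ↥E.fix) : F :=
  if hg : ∃ t, InC D {r | r ∈ sfxL E.ρ L k} (orbL L k).root (g : GL D.Idx F) t then hg.choose
  else 0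

lemma lay_anti {i j : ℕ} (hij : i ≤ j) : E.lay L j ≤ E.lay L i := by
  refine Subgroup.comap_mono (gen_mono _ fun r hr => ?_)
  obtain ⟨o, ho, hro⟩ := List.mem_flatMap.1 hr
  refine List.mem_flatMap.2 ⟨o, ?_, hro⟩
  have e : L.drop j = (L.drop i).drop (j - i) := by rw [List.drop_drop]; congr 1; omega
  exact List.mem_of_mem_drop (e ▸ ho)

lemma lay_of_length_le {k : ℕ} (hk : L.length ≤ k) : E.lay L k = ⊥ := by
  have e : {r | r ∈ sfxL E.ρ L k} = (∅ : Set ℕ) := Set.eq_empty_iff_forall_notMem.2 fun r hr => by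
    rw [Set.mem_ofPred_eq, sfxL, List.drop_eq_nil_of_le hk] at hr
    exact List.not_mem_nil hr
  rw [lay, e, show gen D F (∅ : Set ℕ) = ⊥ by simp [gen]]
  simp

lemma lay_comm {p : ℕ} [Kills F p] {i j k : ℕ}
    (hc : chkCommGenMod T p (sfxL E.ρ L i) (sfxL E.ρ L j) (sfxL E.ρ L k) = true) {g n : ↥E.fix}
    (hg : g ∈ E.lay L i) (hn : n ∈ E.lay L j) : ⁅g, n⁆ ∈ E.lay L k := by
  rw [mem_lay]
  have h1 := h.commutator_mem_gen_mod hc ((E.mem_lay L).1 hg) ((E.mem_lay L).1 hn)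
  simpa [commutatorElement_def] using h1

lemma torG_comm {a b : ↥E.fix} (ha : a ∈ E.torG) (hb : b ∈ E.torG) : a * b = b * a := by
  obtain ⟨c, hc⟩ := h.range_torusHom.ge (Subgroup.mem_subgroupOf.1 ha)
  obtain ⟨c', hc'⟩ := h.range_torusHom.ge (Subgroup.mem_subgroupOf.1 hb)
  refine Subtype.ext ?_
  rw [Subgroup.coe_mul, Subgroup.coe_mul, ← hc, ← hc', ← map_mul, ← map_mul, mul_comm]

variable {L} (hL : chkLayers T E.ρ L = true)
include hL

lemma sfxL_pos {k r : ℕ} (hr : r ∈ sfxL E.ρ L k) : r ∈ posSet T :=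
  ((flatOrbs_spec (chkLayers_drop k hL)).2.1 r hr).1

lemma lay_conj {t n : ↥E.fix} (ht : t ∈ E.torG) {k : ℕ} (hn : n ∈ E.lay L k) :
    t * n * t⁻¹ ∈ E.lay L k := by
  rw [mem_lay, Subgroup.coe_mul, Subgroup.coe_mul, Subgroup.coe_inv]
  exact (Subgroup.mem_normalizer_iff.1 (h.diagonal_le_normalizer_gen (F := F)
    (S := {r | r ∈ sfxL E.ρ L k}) (fun r hr => (E.sfxL_pos hL hr).2)
    (Subgroup.mem_subgroupOf.1 ht)) _).1 ((E.mem_lay L).1 hn)

variable {k : ℕ} (hk : k < L.length)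
include hk

lemma layer_of_lt : Layer T E.ρ (orbL L k) (L.drop (k + 1)) := by
  have h1 := chkLayers_drop k hL
  rw [List.drop_eq_getElem_cons hk] at h1
  simp only [chkLayers, Bool.and_eq_true] at h1
  rw [orbL, List.getD_eq_getElem _ _ hk]
  exact Layer.of_chk h1.1

lemma free_sfx {a : ℕ} (ha : a ∈ (orbL L k).list E.ρ) :
    Free T {r | r ∈ sfxL E.ρ L k} a := by
  have hl := E.layer_of_lt hL hk
  obtain ⟨-, h2, h3⟩ := flatOrbs_spec (chkLayers_drop (k + 1) hL)
  refine ⟨fun r hr => E.sfxL_pos hL hr, (flatOrbs_spec (chkLayers_drop k hL)).2.2,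
    show a ∈ sfxL E.ρ L k by rw [sfxL_eq hk]; exact List.mem_append_left _ ha, ?_⟩
  intro x hx y hy hne q hq e
  rw [Set.mem_ofPred_eq, sfxL_eq hk] at hx hy
  have : q.1 ∈ sfxL E.ρ L (k + 1) := by
    rcases List.mem_append.1 hx with hx' | hx'
    · exact (hl.terms x hx' y hy hne.symm).1 q hq
    · rcases List.mem_append.1 hy with hy' | hy'
      · exact (hl.terms y hy' x hx hne).2 q hq
      · exact h3 x hx' y hy' hne q hq
  exact hl.disj a ha (e ▸ this)

lemma free_root : Free T {r | r ∈ sfxL E.ρ L k} (orbL L k).root :=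
  E.free_sfx hL hk (E.layer_of_lt hL hk).mem_root

lemma sfx_stable {s : ℕ} (hs : s ∈ sfxL E.ρ L k) : E.ρ s ∈ sfxL E.ρ L k :=
  ((flatOrbs_spec (chkLayers_drop k hL)).2.1 s hs).2

lemma crd_eq {g : ↥E.fix} {t : F}
    (ht : InC D {r | r ∈ sfxL E.ρ L k} (orbL L k).root (g : GL D.Idx F) t) :
    E.crd L k g = t := by
  classical
  rw [crd, dif_pos ⟨t, ht⟩]
  exact InC.unique (h := h) (E.free_root hL hk) (Exists.choose_spec (p := fun t =>
    InC D {r | r ∈ sfxL E.ρ L k} (orbL L k).root (g : GL D.Idx F) t) ⟨t, ht⟩) ht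

lemma inC_crd {g : ↥E.fix} (hg : g ∈ E.lay L k) :
    InC D {r | r ∈ sfxL E.ρ L k} (orbL L k).root (g : GL D.Idx F) (E.crd L k g) := by
  obtain ⟨t, ht⟩ := exists_inC (h := h) (E.free_root hL hk) ((E.mem_lay L).1 hg)
  rwa [E.crd_eq hL hk ht]

lemma crd_mul {a b : ↥E.fix} (ha : a ∈ E.lay L k) (hb : b ∈ E.lay L k) :
    E.crd L k (a * b) = E.crd L k a + E.crd L k b := by
  refine E.crd_eq hL hk ?_
  rw [Subgroup.coe_mul]
  exact InC.mul (h := h) (E.free_root hL hk) (E.inC_crd hL hk ha) (E.inC_crd hL hk hb)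

lemma crd_one : E.crd L k 1 = 0 :=
  E.crd_eq hL hk (by rw [OneMemClass.coe_one]; exact inC_one (h := h) (E.free_root hL hk))

lemma crd_inv {a : ↥E.fix} (ha : a ∈ E.lay L k) : E.crd L k a⁻¹ = -E.crd L k a := by
  refine eq_neg_of_add_eq_zero_left ?_
  rw [← E.crd_mul hL hk (inv_mem ha) ha, inv_mul_cancel, E.crd_one hL hk]

lemma crd_of_mem_succ {g : ↥E.fix} (hg : g ∈ E.lay L (k + 1)) : E.crd L k g = 0 := by
  have hf := E.free_root hL hk
  refine E.crd_eq hL hk ?_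
  rw [InC, h.X_zero (hf.sub hf.mem).2, inv_one, one_mul]
  refine gen_mono D (S := {r | r ∈ sfxL E.ρ L (k + 1)}) (fun r hr => ?_) ((E.mem_lay L).1 hg)
  refine ⟨show r ∈ sfxL E.ρ L k by rw [sfxL_eq hk]; exact List.mem_append_right _ hr, ?_⟩
  rintro rfl
  exact (E.layer_of_lt hL hk).disj _ (E.layer_of_lt hL hk).mem_root hr

/-- An element with vanishing leading coordinate lies deeper. -/
lemma mem_succ_of_crd {g : ↥E.fix} (hg : g ∈ E.lay L k) (h0 : E.crd L k g = 0) :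
    g ∈ E.lay L (k + 1) := by
  have hf0 := E.free_root hL hk
  have hl := E.layer_of_lt hL hk
  have hc := E.inC_crd hL hk hg
  rw [h0] at hc
  set S : Set ℕ := {r | r ∈ sfxL E.ρ L k}
  have hz : ∀ a ∈ (orbL L k).list E.ρ, (g : GL D.Idx F) ∈ gen D F (S \ {a}) := by
    intro a ha
    obtain ⟨j, -, rfl⟩ := List.mem_map.1 ha
    obtain ⟨h1, h2⟩ := E.inC_iterate hf0.sub (fun s hs => E.sfx_stable hL hk hs) hf0.mem g.2 hc j
    rw [InC, E.τn_zero j (hf0.sub hf0.mem).2, h.X_zero (hf0.sub h1).2, inv_one, one_mul] at h2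
    exact h2
  have hrec : ∀ M : List ℕ, (∀ a ∈ M, a ∈ (orbL L k).list E.ρ) →
      (g : GL D.Idx F) ∈ gen D F (S \ {a | a ∈ M}) ∧ CommClosed T (S \ {a | a ∈ M}) := by
    intro M
    induction M with
    | nil =>
      intro _
      simp only [List.not_mem_nil, Set.ofPred_false, Set.sdiff_empty]
      exact ⟨(E.mem_lay L).1 hg, hf0.closed⟩
    | cons a M ihM =>
      intro hM
      obtain ⟨g1, g2⟩ := ihM fun x hx => hM x (List.mem_cons_of_mem _ hx)
      have ha := hM a List.mem_cons_self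
      have eS : S \ {x | x ∈ a :: M} = (S \ {x | x ∈ M}) ∩ (S \ {a}) := by
        ext x; simp only [Set.mem_sdiff, Set.mem_ofPred_eq, List.mem_cons, Set.mem_inter_iff,
          Set.mem_singleton_iff]; tauto
      rw [eS]
      refine ⟨gen_inter (h := h) (Set.sdiff_subset.trans hf0.sub) g2
        (Set.sdiff_subset.trans hf0.sub) (E.free_sfx hL hk ha).closed' g1 (hz a ha), ?_⟩
      exact fun x hx y hy hne q hq => ⟨g2 x hx.1 y hy.1 hne q hq,
        (E.free_sfx hL hk ha).closed' x hx.2 y hy.2 hne q hq⟩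
  rw [mem_lay]
  refine gen_mono D ?_ (hrec _ fun a ha => ha).1
  rintro a ⟨ha, hn⟩
  have ha' : a ∈ sfxL E.ρ L k := ha
  rw [sfxL_eq hk] at ha'
  exact (List.mem_append.1 ha').resolve_left hn

lemma crd_congr {a b : ↥E.fix} (ha : a ∈ E.lay L k) (hb : b ∈ E.lay L k)
    (e : E.crd L k a = E.crd L k b) : a⁻¹ * b ∈ E.lay L (k + 1) :=
  E.mem_succ_of_crd hL hk (mul_mem (inv_mem ha) hb)
    (by rw [E.crd_mul hL hk (inv_mem ha) hb, E.crd_inv hL hk ha, e, neg_add_cancel])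

lemma crd_adm {g : ↥E.fix} (hg : g ∈ E.lay L k) : E.crd L k g ∈ E.Adm (orbL L k) := by
  have hf0 := E.free_root hL hk
  have hc := E.inC_crd hL hk hg
  have h1 := (E.inC_iterate hf0.sub (fun s hs => E.sfx_stable hL hk hs) hf0.mem g.2 hc
    (orbL L k).size).2
  rw [(E.layer_of_lt hL hk).cyc] at h1
  exact InC.unique (h := h) hf0 h1 hc

/-- Every admissible coordinate occurs. -/
lemma exists_crd {K : Subgroup (GL D.Idx F)} (hlift : E.Lift K (orbL L k)) {t : F}
    (ht : t ∈ E.Adm (orbL L k)) : ∃ g ∈ E.lay L k, E.crd L k g = t := by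
  have hl := E.layer_of_lt hL hk
  have hcl := (flatOrbs_spec (chkLayers_drop k hL)).2.2
  have hcls : (orbL L k).cls E.ρ ⊆ {r | r ∈ sfxL E.ρ L k} := by
    have hin : ∀ a ∈ (orbL L k).list E.ρ, a ∈ sfxL E.ρ L k := fun a ha => by
      rw [sfxL_eq hk]; exact List.mem_append_left _ ha
    rintro a (ha | ha)
    · exact hin a ha
    · obtain ⟨x, hx, y, hy, hne, c, hc', rfl⟩ := hl.tail a ha
      rcases hc' with hc' | hc'
      · exact hcl x (hin x hx) y (hin y hy) hne.symm c hc'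
      · exact hcl y (hin y hy) x (hin x hx) hne c hc'
  obtain ⟨u, -, huF, huG, huC⟩ := hlift t ht
  exact ⟨⟨u, huF⟩, (E.mem_lay L).2 (gen_mono D hcls huG),
    E.crd_eq hL hk (InC.mono hcls huC)⟩

/-- The torus multiplies the coordinate by its character. -/
lemma crd_conj {c : Fin T.l → Fˣ} {t g : ↥E.fix}
    (ht : (t : GL D.Idx F) = torusHom (D := D) (T := T) c) (hg : g ∈ E.lay L k) :
    E.crd L k (t * g * t⁻¹) = charOf T (extC T c) (orbL L k).root * E.crd L k g := by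
  refine E.crd_eq hL hk ?_
  rw [Subgroup.coe_mul, Subgroup.coe_mul, Subgroup.coe_inv]
  have hf0 := E.free_root hL hk
  exact InC.diag_conj (h := h) (ht ▸ h.range_torusHom.le ⟨c, rfl⟩) (fun i _ => extC_ne_zero c i)
    (by rw [ht]; rfl) hf0.sub hf0.mem (E.inC_crd hL hk hg)

lemma crd_comm {c : Fin T.l → Fˣ} {t g : ↥E.fix}
    (ht : (t : GL D.Idx F) = torusHom (D := D) (T := T) c) (hg : g ∈ E.lay L k) :
    ⁅t, g⁆ ∈ E.lay L k ∧
      E.crd L k ⁅t, g⁆ = (charOf T (extC T c) (orbL L k).root - 1) * E.crd L k g := by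
  have htT : t ∈ E.torG := by
    rw [torG, Subgroup.mem_subgroupOf, ht]; exact h.range_torusHom.le ⟨c, rfl⟩
  have h1 := E.lay_conj hL htT hg
  rw [commutatorElement_def]
  exact ⟨mul_mem h1 (inv_mem hg), by
    rw [E.crd_mul hL hk h1 (inv_mem hg), E.crd_inv hL hk hg, E.crd_conj hL hk ht hg]; ring⟩

end Endo

end CfsgLib.Chev
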