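import Cfsg.Agent.Lib.Chev.TwistD4Layers
import Cfsg.Agent.Lib.Chev.TorusD4.Basic

/-!
The two rank one subgroups of `³D₄(q)` as images of `SL₂`.
-/

set_option autoImplicit false
set_option maxRecDepth 100000
set_option linter.unusedSectionVars false
set_option linter.unnecessarySeqFocus false

namespace CfsgLib.Chev.D4Root

open Cfsg.Lie Matrix
open Cert (torusHom extC extC_ne_zero)
open TorusD4 (up low sl2_closure hom_ext)
open scoped MatrixGroups

variable {K : Type*} [Field K] [Fintype K] {q : ℕ}

/-- The diagonal element. -/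
def dia {k : Type*} [Field k] (e : kˣ) : SL(2, k) :=
  ⟨!![(e : k), 0; 0, (e : k)⁻¹], by simp [Matrix.det_fin_two]⟩

/-- The Weyl element. -/
def wel (k : Type*) [Field k] : SL(2, k) := up 1 * low (-1) * up 1

lemma wel_val (k : Type*) [Field k] : (wel k).1 = !![(0 : k), 1; -1, 0] := by
  rw [wel, Matrix.SpecialLinearGroup.coe_mul, Matrix.SpecialLinearGroup.coe_mul, TorusD4.up_val,
    TorusD4.low_val]
  ext i j; fin_cases i <;> fin_cases j <;> simp [Matrix.mul_apply, Fin.sum_univ_two]

lemma wel_mul_low {k : Type*} [Field k] (t : k) : low t = wel k * up (-t) * (wel k)⁻¹ := by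
  rw [eq_mul_inv_iff_mul_eq]
  refine Subtype.ext ?_
  rw [Matrix.SpecialLinearGroup.coe_mul, Matrix.SpecialLinearGroup.coe_mul, TorusD4.up_val,
    TorusD4.low_val, wel_val]
  ext i j; fin_cases i <;> fin_cases j <;> simp [Matrix.mul_apply, Fin.sum_univ_two]

/-- The two cells of `SL₂`. -/
lemma sl2_cases {k : Type*} [Field k] (M : SL(2, k)) :
    (∃ (e : kˣ) (x : k), M = dia e * up x) ∨
      ∃ (x y : k) (e : kˣ), M = up x * dia e * wel k * up y := by
  have hd : M.1 0 0 * M.1 1 1 - M.1 0 1 * M.1 1 0 = 1 := by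
    have h := M.2
    rwa [Matrix.det_fin_two] at h
  by_cases hc : M.1 1 0 = 0
  · have ha : M.1 0 0 ≠ 0 := fun e => by simp [hc, e] at hd
    refine Or.inl ⟨Units.mk0 _ ha, M.1 0 1 / M.1 0 0, Subtype.ext ?_⟩
    rw [Matrix.SpecialLinearGroup.coe_mul, dia, TorusD4.up_val]
    rw [hc, mul_zero, sub_zero] at hd
    ext i j; fin_cases i <;> fin_cases j <;> simp [Matrix.mul_apply, Fin.sum_univ_two, hc]
    · field_simp
    · exact eq_inv_of_mul_eq_one_right hd
  · refine Or.inr ⟨M.1 0 0 / M.1 1 0, M.1 1 1 / M.1 1 0,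
      Units.mk0 (-(M.1 1 0)⁻¹) (by simp [hc]), Subtype.ext ?_⟩
    rw [Matrix.SpecialLinearGroup.coe_mul, Matrix.SpecialLinearGroup.coe_mul,
      Matrix.SpecialLinearGroup.coe_mul, dia, TorusD4.up_val, TorusD4.up_val, wel_val]
    ext i j; fin_cases i <;> fin_cases j <;> simp [Matrix.mul_apply, Fin.sum_univ_two] <;>
      field_simp <;> linear_combination -hd

variable (f : K →+* K)

/-- A rank one subgroup: an injective image of `SL₂` with root group the layer `i` and
representative over the word `v`. -/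
structure Rk (q : ℕ) (i : Fin 6) (v : List ℕ) (k : Type*) [Field k] where
  /-- the homomorphism -/
  φ : SL(2, k) →* ↥(endoD4 f).fix
  /-- the parameter of an element of the small field -/
  emb : k →+* K
  par : ∀ t, Par q i (emb t)
  up_eq : ∀ t, φ (up t) = el f q i (emb t)
  onto : ∀ t, Par q i t → ∃ s, emb s = t
  diag_mem : ∀ e, φ (dia e) ∈ tor' f
  diag_inj : ∀ e, φ (dia e) = 1 → e = 1
  wel_mon : (φ (wel k) : GL chevD4.Idx K) ∈ chevD4.monomialSubgroup K
  wel_maps : ∀ r < tabD4.n, Maps chevD4 (φ (wel k) : GL chevD4.Idx K) r (rword tabD4 v r)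

/-- The `SL₂` of a root. -/
noncomputable def psi (r : Fin 24) : SL(2, K) →* GL chevD4.Idx K :=
  (certD4.exists_sl2_hom (F := K) (r := r.val) r.isLt).choose

lemma psi_up (r : Fin 24) (t : K) : psi r (up t) = X chevD4 r.val t :=
  (certD4.exists_sl2_hom (F := K) (r := r.val) r.isLt).choose_spec.2.1 _ t rfl

lemma psi_low (r : Fin 24) (t : K) : psi r (low t) = X chevD4 (tabD4.neg r.val) t :=
  (certD4.exists_sl2_hom (F := K) (r := r.val) r.isLt).choose_spec.2.2 _ t rfl

lemma psi_wel (r : Fin 24) : psi r (wel K) = nU chevD4 r.val 1 := by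
  rw [wel, map_mul, map_mul, psi_up, psi_low, nU, certD4.neg_eq r.isLt, inv_one]

lemma psi_diag {i : ℕ} (hi : i < tabD4.l) (r : Fin 24) (hr : tabD4.simple i = r.val) (e : Kˣ) :
    psi r (dia e) = torusHom (D := chevD4) (T := tabD4) (Pi.mulSingle ⟨i, hi⟩ e) := by
  rw [Endo.torusHom_mulSingle (h := certD4)]
  show _ = hU chevD4 (tabD4.simple i) (e : K)
  rw [hr]
  have hn : ∀ t : K, nU chevD4 r.val t = psi r (up t * low (-t⁻¹) * up t) := fun t => by
    rw [nU, certD4.neg_eq r.isLt, map_mul, map_mul, psi_up, psi_low]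
  rw [hU, hn, hn, ← map_mul]
  congr 1
  refine Subtype.ext ?_
  simp only [Matrix.SpecialLinearGroup.coe_mul, TorusD4.up_val, TorusD4.low_val, dia]
  ext a b
  fin_cases a <;> fin_cases b <;> simp [Matrix.mul_apply, Fin.sum_univ_two]

lemma psi_commute (r s : Fin 24) (h : chkPairwise tabD4 [r.val, s.val] = true) (g g' : SL(2, K)) :
    psi r g * psi s g' = psi s g' * psi r g := by
  simp only [chkPairwise, List.all_cons, List.all_nil, Bool.and_true, Bool.true_and,
    Bool.and_eq_true] at h
  obtain ⟨h1, h2, h3, h4⟩ := h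
  suffices hmem : psi r g ∈ Subgroup.centralizer ((psi (K := K) s).range : Set (GL chevD4.Idx K)) by
    exact (Subgroup.mem_centralizer_iff.1 hmem _ ⟨g', rfl⟩).symm
  have key : ∀ y : GL chevD4.Idx K, (∀ u, Commute y (X chevD4 s.val u)) →
      (∀ u, Commute y (X chevD4 (tabD4.neg s.val) u)) →
      y ∈ Subgroup.centralizer ((psi (K := K) s).range : Set (GL chevD4.Idx K)) := by
    intro y hu hl
    rw [Subgroup.mem_centralizer_iff]
    rintro _ ⟨w, rfl⟩
    have htop : (Subgroup.centralizer {y}).comap (psi s) = (⊤ : Subgroup SL(2, K)) := sl2_closure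
      (fun u => Subgroup.mem_comap.2 (Subgroup.mem_centralizer_singleton_iff.2
        (by rw [psi_up]; exact (hu u).eq.symm)))
      (fun u => Subgroup.mem_comap.2 (Subgroup.mem_centralizer_singleton_iff.2
        (by rw [psi_low]; exact (hl u).eq.symm)))
    exact Subgroup.mem_centralizer_singleton_iff.1
      (htop ▸ Subgroup.mem_top w : w ∈ (Subgroup.centralizer {y}).comap (psi s))
  have htop : (Subgroup.centralizer ((psi (K := K) s).range : Set (GL chevD4.Idx K))).comap (psi r) =
      (⊤ : Subgroup SL(2, K)) := sl2_closure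
    (fun t => Subgroup.mem_comap.2 (by
      rw [psi_up]; exact key _ (certD4.commute_X h1 t) (certD4.commute_X h2 t)))
    (fun t => Subgroup.mem_comap.2 (by
      rw [psi_low]; exact key _ (certD4.commute_X h3 t) (certD4.commute_X h4 t)))
  exact (htop ▸ Subgroup.mem_top g :
    g ∈ (Subgroup.centralizer ((psi (K := K) s).range : Set (GL chevD4.Idx K))).comap (psi r))

/-- The field map on `SL₂`. -/
noncomputable def frob : SL(2, K) →* SL(2, K) := Matrix.SpecialLinearGroup.map f

lemma frob_up (t : K) : frob f (up t) = up (f t) := by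
  refine Subtype.ext ?_
  rw [frob, Matrix.SpecialLinearGroup.map_apply_coe, TorusD4.up_val, TorusD4.up_val]
  ext i j; fin_cases i <;> fin_cases j <;> simp

lemma frob_low (t : K) : frob f (low t) = low (f t) := by
  refine Subtype.ext ?_
  rw [frob, Matrix.SpecialLinearGroup.map_apply_coe, TorusD4.low_val, TorusD4.low_val]
  ext i j; fin_cases i <;> fin_cases j <;> simp

lemma frob_dia (e : Kˣ) : frob f (dia e) = dia (Units.map f.toMonoidHom e) := by
  refine Subtype.ext ?_
  rw [frob, Matrix.SpecialLinearGroup.map_apply_coe]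
  simp only [dia]
  ext i j; fin_cases i <;> fin_cases j <;> simp

lemma frob_wel : frob f (wel K) = wel K := by
  rw [wel, map_mul, map_mul, frob_up, frob_low, map_one, map_neg, map_one]

/-- The product of the homomorphisms of the orbit of the outer simple roots. -/
noncomputable def tri : SL(2, K) →* GL chevD4.Idx K :=
  MonoidHom.mk' (fun g => psi ⟨18, by decide⟩ g * psi ⟨13, by decide⟩ (frob f g) *
      psi ⟨12, by decide⟩ (frob f (frob f g))) fun a b => by
    have c1 := psi_commute (K := K) ⟨13, by decide⟩ ⟨18, by decide⟩ (by decide +kernel) (frob f a) b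
    have c2 := psi_commute (K := K) ⟨12, by decide⟩ ⟨18, by decide⟩ (by decide +kernel)
      (frob f (frob f a)) b
    have c3 := psi_commute (K := K) ⟨12, by decide⟩ ⟨13, by decide⟩ (by decide +kernel)
      (frob f (frob f a)) (frob f b)
    simp only [map_mul]
    generalize psi (K := K) ⟨18, by decide⟩ a = A, psi (K := K) ⟨13, by decide⟩ (frob f a) = B,
      psi (K := K) ⟨12, by decide⟩ (frob f (frob f a)) = C,
      psi (K := K) ⟨18, by decide⟩ b = A', psi (K := K) ⟨13, by decide⟩ (frob f b) = B',
      psi (K := K) ⟨12, by decide⟩ (frob f (frob f b)) = C' at c1 c2 c3 ⊢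
    calc A * A' * (B * B') * (C * C') = A * (A' * B) * (B' * C) * C' := by group
      _ = A * (B * A') * (C * B') * C' := by rw [c1, c3]
      _ = A * B * (A' * C) * B' * C' := by group
      _ = A * B * (C * A') * B' * C' := by rw [c2]
      _ = _ := by group

variable (hf : ∀ t, f t = t ^ q) (hK : Fintype.card K = q ^ 3)
include hf hK

lemma tri_up (t : K) : tri f (up t) = ev q 0 t := by
  show psi _ (up t) * psi _ (frob f (up t)) * psi _ (frob f (frob f (up t))) = _
  rw [frob_up, frob_up, psi_up, psi_up, psi_up, hf, hf]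
  simp [ev, word, mul_assoc]

lemma tri_low (t : K) : tri f (low t) =
    X chevD4 d4m1 t * X chevD4 d4m3 (t ^ q) * X chevD4 d4m4 ((t ^ q) ^ q) := by
  show psi _ (low t) * psi _ (frob f (low t)) * psi _ (frob f (frob f (low t))) = _
  rw [frob_low, frob_low, psi_low, psi_low, psi_low, hf, hf,
    show tabD4.neg 18 = d4m1 by decide +kernel, show tabD4.neg 13 = d4m3 by decide +kernel,
    show tabD4.neg 12 = d4m4 by decide +kernel]

lemma tri_dia (e : Kˣ) : tri f (dia e) = th q e 1 := by
  show psi _ (dia e) * psi _ (frob f (dia e)) * psi _ (frob f (frob f (dia e))) = _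
  rw [frob_dia, frob_dia, psi_diag (i := 0) (by decide) _ (by decide +kernel),
    psi_diag (i := 2) (by decide) _ (by decide +kernel),
    psi_diag (i := 3) (by decide) _ (by decide +kernel), ← map_mul, ← map_mul, th]
  congr 1
  funext j
  obtain ⟨j, hj⟩ := j
  have hj' : j < 4 := hj
  interval_cases j <;> simp [par, Pi.mulSingle, Function.update] <;>
    exact Units.ext (by simp [hf])

lemma tri_wel : tri f (wel K) = nW chevD4 K [0, 2, 3] := by
  show psi _ (wel K) * psi _ (frob f (wel K)) * psi _ (frob f (frob f (wel K))) = _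
  rw [frob_wel, frob_wel, psi_wel, psi_wel, psi_wel]
  simp [nW, mul_assoc, nS_simpleD4 f hf (show 0 < tabD4.l by decide),
    nS_simpleD4 f hf (show 2 < tabD4.l by decide), nS_simpleD4 f hf (show 3 < tabD4.l by decide),
    show tabD4.simple 0 = 18 by decide +kernel, show tabD4.simple 2 = 13 by decide +kernel,
    show tabD4.simple 3 = 12 by decide +kernel]

lemma tri_mem (g : SL(2, K)) : tri f g ∈ (endoD4 f).fix := by
  have hle := twistedD4_le_fix f hf (pow_cubeD4 hK)
  have htop : (endoD4 f).fix.comap (tri f) = (⊤ : Subgroup SL(2, K)) := sl2_closure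
    (fun t => Subgroup.mem_comap.2 (by
      rw [tri_up f hf hK]; exact ev_mem_fix f hf (pow_cubeD4 hK) (fun h => absurd h (by decide))))
    (fun t => Subgroup.mem_comap.2 (by
      rw [tri_low f hf hK]; exact hle (wordD4_mem f hf (by simp) t)))
  exact (htop ▸ Subgroup.mem_top g : g ∈ (endoD4 f).fix.comap (tri f))

omit hK in
lemma th_eq_one {v u : Kˣ} (hc : (endoD4 f).tor (par q v u) = par q v u) (h : th q v u = 1) :
    v = 1 ∧ u = 1 := by
  have h1 : par q v u ∈ (torusHom (D := chevD4) (T := tabD4) (F := K)).ker ⊓ (endoD4 f).fixPar :=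
    ⟨h, hc⟩
  have h2 := card_ker_fixD4 (q := q) f hf
  rw [Subgroup.card_eq_one] at h2
  rw [h2, Subgroup.mem_bot] at h1
  exact ⟨congrFun h1 ⟨0, by decide⟩, congrFun h1 ⟨1, by decide⟩⟩

lemma par_fix {v u : Kˣ} (hu : u ^ q = u) : (endoD4 f).tor (par q v u) = par q v u := by
  refine tor_fix_ofD4 f hf fun i => ?_
  obtain ⟨i, hi⟩ := i
  have hi' : i < 4 := hi
  interval_cases i
  · rfl
  · exact hu.symm
  · rfl
  · show v = ((v ^ q) ^ q) ^ q
    exact (Units.ext (by simp [pow_cubeD4 hK])).symm

/-- The rank one subgroup of the outer class. -/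
noncomputable def rkA : Rk f q 0 [0, 2, 3] K where
  φ := (tri f).codRestrict _ (tri_mem f hf hK)
  emb := RingHom.id K
  par t h := absurd h (by decide)
  up_eq t := Subtype.ext (by
    rw [coe_el f hf hK (fun h => absurd h (by decide))]
    exact tri_up f hf hK t)
  onto t _ := ⟨t, rfl⟩
  diag_mem e := by
    rw [tor', Subgroup.mem_subgroupOf]
    show tri f (dia e) ∈ _
    rw [tri_dia f hf hK]
    exact (th_mem f hf (pow_cubeD4 hK) (one_pow q)).2
  diag_inj e he := by
    have h : tri f (dia e) = 1 := congrArg Subtype.val he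
    rw [tri_dia f hf hK] at h
    exact (th_eq_one f hf (par_fix f hf hK (one_pow q)) h).1
  wel_mon := by
    show tri f (wel K) ∈ _
    rw [tri_wel f hf hK]
    exact certD4.nW_mem_monomial (wordOK_of_all (by decide +kernel))
  wel_maps r hr := by
    show Maps chevD4 (tri f (wel K)) r _
    rw [tri_wel f hf hK]
    exact certD4.Maps_nW (wordOK_of_all (by decide +kernel)) hr

omit hf hK in
/-- The fixed field. -/
@[reducible] def fixFld : Subfield K := f.eqLocusField (RingHom.id K)

omit hK in
lemma mem_fixFld {t : K} : t ∈ fixFld f ↔ t ^ q = t := by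
  rw [← hf t]; rfl

omit hf hK in
/-- The homomorphism of the middle node over the fixed field. -/
noncomputable def mid : SL(2, ↥(fixFld f)) →* GL chevD4.Idx K :=
  (psi ⟨14, by decide⟩).comp (Matrix.SpecialLinearGroup.map (fixFld f).subtype)

omit hK in
lemma mid_up (t : ↥(fixFld f)) : mid f (up t) = ev q 1 (t : K) := by
  show psi _ (Matrix.SpecialLinearGroup.map (fixFld f).subtype (up t)) = _
  rw [show Matrix.SpecialLinearGroup.map (fixFld f).subtype (up t) = up (t : K) from
    Subtype.ext (by
      rw [Matrix.SpecialLinearGroup.map_apply_coe, TorusD4.up_val, TorusD4.up_val]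
      ext i j; fin_cases i <;> fin_cases j <;> simp), psi_up]
  simp [ev, word]

omit hf hK in
lemma mid_low (t : ↥(fixFld f)) : mid f (low t) = X chevD4 d4m2 (t : K) := by
  show psi _ (Matrix.SpecialLinearGroup.map (fixFld f).subtype (low t)) = _
  rw [show Matrix.SpecialLinearGroup.map (fixFld f).subtype (low t) = low (t : K) from
    Subtype.ext (by
      rw [Matrix.SpecialLinearGroup.map_apply_coe, TorusD4.low_val, TorusD4.low_val]
      ext i j; fin_cases i <;> fin_cases j <;> simp), psi_low,
    show tabD4.neg 14 = d4m2 by decide +kernel]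

omit hf hK in
lemma mid_wel : mid f (wel ↥(fixFld f)) = nU chevD4 14 1 := by
  rw [← psi_wel (K := K) ⟨14, by decide⟩]
  show psi _ (Matrix.SpecialLinearGroup.map (fixFld f).subtype (wel ↥(fixFld f))) = _
  congr 1
  refine Subtype.ext ?_
  rw [Matrix.SpecialLinearGroup.map_apply_coe, wel_val, wel_val]
  ext i j; fin_cases i <;> fin_cases j <;> simp

omit hK in
lemma mid_dia (e : (↥(fixFld f))ˣ) :
    mid f (dia e) = th q 1 (Units.map (fixFld f).subtype.toMonoidHom e) := by
  show psi _ (Matrix.SpecialLinearGroup.map (fixFld f).subtype (dia e)) = _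
  rw [show Matrix.SpecialLinearGroup.map (fixFld f).subtype (dia e) =
      dia (Units.map (fixFld f).subtype.toMonoidHom e) from Subtype.ext (by
      rw [Matrix.SpecialLinearGroup.map_apply_coe]
      simp only [dia]
      ext i j; fin_cases i <;> fin_cases j <;> simp),
    psi_diag (i := 1) (by decide) _ (by decide +kernel), th]
  congr 1
  funext j
  obtain ⟨j, hj⟩ := j
  have hj' : j < 4 := hj
  interval_cases j <;> simp [par, Pi.mulSingle, Function.update]

omit hK in
lemma unit_fix (e : (↥(fixFld f))ˣ) :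
    (Units.map (fixFld f).subtype.toMonoidHom e) ^ q = Units.map (fixFld f).subtype.toMonoidHom e :=
  Units.ext (by simpa using (mem_fixFld f hf).1 (e : ↥(fixFld f)).2)

lemma mid_mem (g : SL(2, ↥(fixFld f))) : mid f g ∈ (endoD4 f).fix := by
  have htop : (endoD4 f).fix.comap (mid f) = (⊤ : Subgroup SL(2, ↥(fixFld f))) := sl2_closure
    (fun t => Subgroup.mem_comap.2 (by
      rw [mid_up f hf]
      exact ev_mem_fix f hf (pow_cubeD4 hK) (fun _ => (mem_fixFld f hf).1 t.2)))
    (fun t => Subgroup.mem_comap.2 (by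
      rw [mid_low]
      exact single_mem_fixD4 f hf (by decide +kernel) ((mem_fixFld f hf).1 t.2)))
  exact (htop ▸ Subgroup.mem_top g : g ∈ (endoD4 f).fix.comap (mid f))

/-- The rank one subgroup of the middle class. -/
noncomputable def rkB : Rk f q 1 [1] ↥(fixFld f) where
  φ := (mid f).codRestrict _ (mid_mem f hf hK)
  emb := (fixFld f).subtype
  par t := fun _ => (mem_fixFld f hf).1 t.2
  up_eq t := Subtype.ext (by
    rw [coe_el f hf hK (t := (fixFld f).subtype t) (fun _ => (mem_fixFld f hf).1 t.2)]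
    exact mid_up f hf t)
  onto t ht := ⟨⟨t, (mem_fixFld f hf).2 (ht rfl)⟩, rfl⟩
  diag_mem e := by
    rw [tor', Subgroup.mem_subgroupOf]
    show mid f (dia e) ∈ _
    rw [mid_dia f hf]
    exact (th_mem f hf (pow_cubeD4 hK) (unit_fix f hf e)).2
  diag_inj e he := by
    have h : mid f (dia e) = 1 := congrArg Subtype.val he
    rw [mid_dia f hf] at h
    have h1 := (th_eq_one f hf (par_fix f hf hK (unit_fix f hf e)) h).2
    exact Units.ext (Subtype.ext (congrArg Units.val h1))
  wel_mon := by
    show mid f (wel _) ∈ _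
    rw [mid_wel]
    have h := certD4.nW_mem_monomial (F := K) (w := [1]) (wordOK_of_all (by decide +kernel))
    simpa [nW, nS_simpleD4 f hf (show 1 < tabD4.l by decide),
      show tabD4.simple 1 = 14 by decide +kernel] using h
  wel_maps r hr := by
    show Maps chevD4 (mid f (wel _)) r _
    rw [mid_wel]
    have h := certD4.Maps_nW (F := K) (w := [1]) (wordOK_of_all (by decide +kernel)) hr
    simpa [nW, nS_simpleD4 f hf (show 1 < tabD4.l by decide),
      show tabD4.simple 1 = 14 by decide +kernel] using h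

end CfsgLib.Chev.D4Root
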