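import Cfsg.Agent.Lib.Chev.FixSplit
import Cfsg.Agent.Lib.Chev.TwistD4RankOne
import Cfsg.Agent.Lib.Schur.SLTwo
import Cfsg.Agent.Lib.SL2.Facts

/-!
Rank one subgroups of fixed points which are images of `SL₂`.
-/

set_option autoImplicit false
set_option linter.unusedSectionVars false
set_option linter.style.haveILetI false

namespace CfsgLib.Chev

open Cfsg.Lie Matrix
open D4Root (dia wel wel_mul_low sl2_cases)
open TorusD4 (up low sl2_closure)
open scoped MatrixGroups

/-- The homomorphism of `SL₂` of a root. -/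
noncomputable def slRoot {D : ChevalleyDatum} {T : Tab} {C : Tab.Cover} (h : Cert D T C)
    {F : Type*} [Field F] (r : Fin T.n) : SL(2, F) →* GL D.Idx F :=
  (h.exists_sl2_hom (F := F) (r := r.val) r.isLt).choose

section

variable {D : ChevalleyDatum} {T : Tab} {C : Tab.Cover} (h : Cert D T C) {F : Type*} [Field F]

lemma slRoot_up (r : Fin T.n) (t : F) : slRoot h r (up t) = X D r.val t :=
  (h.exists_sl2_hom (F := F) (r := r.val) r.isLt).choose_spec.2.1 _ t rfl

lemma slRoot_low (r : Fin T.n) (t : F) : slRoot h r (low t) = X D (T.neg r.val) t :=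
  (h.exists_sl2_hom (F := F) (r := r.val) r.isLt).choose_spec.2.2 _ t rfl

lemma slRoot_wel (r : Fin T.n) : slRoot h r (wel F) = nU D r.val 1 := by
  rw [wel, map_mul, map_mul, slRoot_up, slRoot_low, nU, h.neg_eq r.isLt, inv_one]

lemma slRoot_dia {i : ℕ} (hi : i < T.l) (r : Fin T.n) (hr : T.simple i = r.val) (e : Fˣ) :
    slRoot h r (dia e) =
      Cert.torusHom (D := D) (T := T) (Pi.mulSingle ⟨i, hi⟩ e) := by
  rw [Endo.torusHom_mulSingle (h := h)]
  show _ = hU D (T.simple i) (e : F)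
  rw [hr]
  have hn : ∀ t : F, nU D r.val t = slRoot h r (up t * low (-t⁻¹) * up t) := fun t => by
    rw [nU, h.neg_eq r.isLt, map_mul, map_mul, slRoot_up, slRoot_low]
  rw [hU, hn, hn, ← map_mul]
  congr 1
  refine Subtype.ext ?_
  simp only [Matrix.SpecialLinearGroup.coe_mul, TorusD4.up_val, TorusD4.low_val, dia]
  ext a b
  fin_cases a <;> fin_cases b <;> simp [Matrix.mul_apply, Fin.sum_univ_two]

lemma slRoot_commute (r s : Fin T.n) (hc : chkPairwise T [r.val, s.val] = true) (g g' : SL(2, F)) :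
    slRoot h r g * slRoot h s g' = slRoot h s g' * slRoot h r g := by
  simp only [chkPairwise, List.all_cons, List.all_nil, Bool.and_true, Bool.true_and,
    Bool.and_eq_true] at hc
  obtain ⟨h1, h2, h3, h4⟩ := hc
  have key : ∀ (a : ℕ) (t : F), (∀ u, Commute (X D a t) (X D s.val u)) →
      (∀ u, Commute (X D a t) (X D (T.neg s.val) u)) →
      ∀ g', Commute (X D a t) (slRoot h s g') := by
    intro a t hu hl g'
    have htop : (Subgroup.centralizer {X D a t}).comap (slRoot h s) = (⊤ : Subgroup SL(2, F)) :=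
      sl2_closure
        (fun u => Subgroup.mem_comap.2 (Subgroup.mem_centralizer_singleton_iff.2
          (by rw [slRoot_up]; exact (hu u).eq.symm)))
        (fun u => Subgroup.mem_comap.2 (Subgroup.mem_centralizer_singleton_iff.2
          (by rw [slRoot_low]; exact (hl u).eq.symm)))
    exact (Subgroup.mem_centralizer_singleton_iff.1
      (htop ▸ Subgroup.mem_top g' : g' ∈ (Subgroup.centralizer {X D a t}).comap (slRoot h s))).symm
  have htop : (Subgroup.centralizer {slRoot h s g'}).comap (slRoot h r) =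
      (⊤ : Subgroup SL(2, F)) := sl2_closure
    (fun t => Subgroup.mem_comap.2 (Subgroup.mem_centralizer_singleton_iff.2 (by
      rw [slRoot_up]; exact (key _ t (h.commute_X h1 t) (h.commute_X h2 t) g').eq)))
    (fun t => Subgroup.mem_comap.2 (Subgroup.mem_centralizer_singleton_iff.2 (by
      rw [slRoot_low]; exact (key _ t (h.commute_X h3 t) (h.commute_X h4 t) g').eq)))
  exact Subgroup.mem_centralizer_singleton_iff.1
    (htop ▸ Subgroup.mem_top g : g ∈ (Subgroup.centralizer {slRoot h s g'}).comap (slRoot h r))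

end

namespace Endo

variable {D : ChevalleyDatum} {T : Tab} {C : Tab.Cover} {h : Cert D T C} {F : Type*} [Field F]
  (E : Endo h F)

/-- A class whose rank one subgroup is parametrised by `SL₂`. -/
structure RkSL (c : Cls) (k : Type*) [Field k] where
  /-- the homomorphism -/
  φ : SL(2, k) →* ↥E.fix
  up_mem : ∀ t, φ (up t) ∈ E.clsX c
  up_inj : ∀ t, φ (up t) = 1 → t = 0
  onto : ∀ x ∈ E.clsX c, ∃ t, φ (up t) = x
  dia_mem : ∀ e, φ (dia e) ∈ E.diaG
  dia_inj : ∀ e, φ (dia e) = 1 → e = 1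
  wel_rep : E.IsRep c (φ (wel k))

variable {E} {c : Cls} {k : Type*} [Field k] (R : E.RkSL c k)
variable {CL : List Cls} (hC : E.ClsOK CL) (hc : c ∈ CL)
include R hC hc

namespace RkSL

omit R hC hc in
lemma diag_pos {g : ↥E.fix} (h1 : g ∈ E.diaG) (h2 : g ∈ E.posG) : g = 1 := by
  have h3 : (g : GL D.Idx F) ∈ D.posUnipotent F ⊓ D.monomialSubgroup F :=
    ⟨Subgroup.mem_subgroupOf.1 h2, Cert.diagonal_le_monomial (Subgroup.mem_subgroupOf.1 h1)⟩
  rw [h.posUnipotent_inf_monomial, Subgroup.mem_bot] at h3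
  exact Subtype.ext h3

lemma wel_not_borel {b : ↥E.fix} (hb : b ∈ (D.borelSubgroup F).subgroupOf E.fix) :
    R.φ (wel k) ≠ b := by
  intro e
  have hx1 : R.φ (up (1 : k)) ≠ 1 := fun h1 => one_ne_zero (R.up_inj 1 h1)
  refine E.not_mem_posG hC hc R.wel_rep (R.up_mem 1) hx1 ?_
  rw [e]
  have hxB : R.φ (up (1 : k)) ∈ (D.borelSubgroup F).subgroupOf E.fix :=
    Subgroup.mem_subgroupOf.2 (Subgroup.mem_sup_left
      (Subgroup.mem_subgroupOf.1 (E.clsX_le_posG hC hc (R.up_mem 1))))
  exact mul_mem (mul_mem hb hxB) (inv_mem hb)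

omit hC hc in
lemma dia_borel (e : kˣ) : R.φ (dia e) ∈ (D.borelSubgroup F).subgroupOf E.fix :=
  Subgroup.mem_subgroupOf.2 (Subgroup.mem_sup_right (Subgroup.mem_subgroupOf.1 (R.dia_mem e)))

lemma up_borel (t : k) : R.φ (up t) ∈ (D.borelSubgroup F).subgroupOf E.fix :=
  Subgroup.mem_subgroupOf.2 (Subgroup.mem_sup_left
    (Subgroup.mem_subgroupOf.1 (E.clsX_le_posG hC hc (R.up_mem t))))

theorem injective : Function.Injective R.φ := by
  rw [injective_iff_map_eq_one]
  intro M hM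
  rcases sl2_cases M with ⟨e, x, rfl⟩ | ⟨x, y, e, rfl⟩
  · rw [map_mul] at hM
    have h1 : R.φ (up x) = (R.φ (dia e))⁻¹ := eq_inv_of_mul_eq_one_right hM
    have h2 : R.φ (up x) = 1 := diag_pos (by rw [h1]; exact inv_mem (R.dia_mem e))
      (E.clsX_le_posG hC hc (R.up_mem x))
    rw [h2, mul_one] at hM
    rw [R.up_inj x h2, R.dia_inj e hM, show up (0 : k) = 1 from Subtype.ext (by rw [TorusD4.up_val]; ext i j; fin_cases i <;> fin_cases j <;> simp), mul_one]
    refine Subtype.ext ?_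
    simp only [dia]
    ext a b; fin_cases a <;> fin_cases b <;> simp
  · exfalso
    rw [map_mul, map_mul, map_mul] at hM
    refine R.wel_not_borel hC hc (b := (R.φ (up x) * R.φ (dia e))⁻¹ * (R.φ (up y))⁻¹) ?_ ?_
    · exact mul_mem (inv_mem (mul_mem (R.up_borel hC hc x) (R.dia_borel e)))
        (inv_mem (R.up_borel hC hc y))
    · rw [← eq_inv_of_mul_eq_one_left (a := R.φ (up x) * R.φ (dia e) * R.φ (wel k)) hM]; group

theorem range_eq : R.φ.range = E.clsL c := by
  refine le_antisymm ?_ ?_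
  · rw [MonoidHom.range_eq_map, ← show (E.clsL c).comap R.φ = ⊤ from sl2_closure
      (fun t => Subgroup.mem_comap.2 (Subgroup.mem_sup_left (R.up_mem t)))
      (fun t => Subgroup.mem_comap.2 (by
        rw [wel_mul_low, map_mul, map_mul, map_inv]
        exact Subgroup.mem_sup_right (E.conj_rep_X hC hc R.wel_rep (R.up_mem _))))]
    exact Subgroup.map_comap_le _ _
  · have hX : E.clsX c ≤ R.φ.range := fun x hx => by
      obtain ⟨t, rfl⟩ := R.onto x hx
      exact ⟨_, rfl⟩
    refine sup_le hX ?_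
    rw [← E.map_clsX hC hc R.wel_rep]
    rintro _ ⟨x, hx, rfl⟩
    exact mul_mem (mul_mem ⟨_, rfl⟩ (hX hx)) (inv_mem ⟨_, rfl⟩)

/-- The torus of the rank one subgroup. -/
theorem card_tor [Finite k] : Nat.card ↥(E.clsL c ⊓ E.diaG) ≤ Nat.card kˣ := by
  refine Nat.card_le_card_of_surjective (fun e : kˣ => (⟨R.φ (dia e),
    by rw [← R.range_eq hC hc]; exact ⟨_, rfl⟩, R.dia_mem e⟩ : ↥(E.clsL c ⊓ E.diaG))) ?_
  rintro ⟨t, hL, ht⟩
  rw [← R.range_eq hC hc] at hL
  obtain ⟨M, rfl⟩ := hL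
  rcases sl2_cases M with ⟨e, x, rfl⟩ | ⟨x, y, e, rfl⟩
  · refine ⟨e, Subtype.ext ?_⟩
    rw [map_mul] at ht
    have h2 : R.φ (up x) = 1 := diag_pos (by
      have := mul_mem (inv_mem (R.dia_mem e)) ht
      rwa [inv_mul_cancel_left] at this) (E.clsX_le_posG hC hc (R.up_mem x))
    show R.φ (dia e) = R.φ (dia e * up x)
    rw [map_mul, h2, mul_one]
  · exfalso
    rw [map_mul, map_mul, map_mul] at ht
    refine R.wel_not_borel hC hc (b := (R.φ (up x) * R.φ (dia e))⁻¹ *
      (R.φ (up x) * R.φ (dia e) * R.φ (wel k) * R.φ (up y)) * (R.φ (up y))⁻¹) ?_ (by group)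
    exact mul_mem (mul_mem (inv_mem (mul_mem (R.up_borel hC hc x) (R.dia_borel e)))
      (Subgroup.mem_subgroupOf.2 (Subgroup.mem_sup_right (Subgroup.mem_subgroupOf.1 ht))))
      (inv_mem (R.up_borel hC hc y))

/-- The Sylow subgroups are cyclic or generalised quaternion outside the characteristic. -/
theorem sylow [Fintype k] {p : ℕ} [Fact p.Prime] [CharP k p] (ℓ : ℕ) (hℓ : ℓ.Prime) (hℓp : ℓ ≠ p) :
    ∃ U : Subgroup ↥(E.clsL c), ¬ ℓ ∣ U.index ∧
      (IsCyclic U ∨ ∃ n : ℕ, n ≠ 0 ∧ Nonempty (U ≃* QuaternionGroup n)) := by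
  haveI := Fact.mk hℓ
  let e : SL(2, k) ≃* ↥(E.clsL c) :=
    (MonoidHom.ofInjective (R.injective hC hc)).trans (MulEquiv.subgroupCongr (R.range_eq hC hc))
  obtain ⟨P⟩ : Nonempty (Sylow ℓ SL(2, k)) := inferInstance
  refine ⟨(P : Subgroup SL(2, k)).map e.toMonoidHom, ?_, ?_⟩
  · rw [Subgroup.index_map_of_bijective e.bijective]
    exact P.not_dvd_index
  · set g := (e.subgroupMap (P : Subgroup SL(2, k))).symm
    by_cases h2 : ℓ = 2
    · subst h2
      have hodd : Odd (Nat.card k) := by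
        obtain ⟨m, -, hcard⟩ := FiniteField.card k p
        rw [Nat.card_eq_fintype_card, hcard]
        exact ((Fact.out : p.Prime).odd_of_ne_two (Ne.symm hℓp)).pow
      obtain ⟨j, -, ⟨e'⟩⟩ := CfsgLib.SL2.sylow_two_quaternion hodd P
      exact Or.inr ⟨2 ^ j, by positivity, ⟨g.trans e'⟩⟩
    · haveI := CfsgLib.Schur.isCyclic_sylow_odd p ℓ h2 hℓp P
      exact Or.inl (isCyclic_of_surjective g.symm.toMonoidHom g.symm.surjective)

end RkSL

end Endo

end CfsgLib.Chev
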