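import Cfsg.Agent.Lib.Chev.FixClass
import Cfsg.Agent.Lib.Schur.SplitLift

/-!
The split (B, N) decomposition of the fixed points of an endomorphism.
-/

set_option autoImplicit false
set_option linter.unusedSectionVars false
set_option linter.style.haveILetI false

namespace CfsgLib.Chev

open Cfsg.Lie Matrix

namespace Endo

open Cert (Maps_mul Maps_inv conj_gen_le mem_cellList diagonal_le_monomial)
open CfsgLib.Schur.Canon (SplitBN)

variable {D : ChevalleyDatum} {T : Tab} {C : Tab.Cover} {h : Cert D T C} {F : Type*} [Field F]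
  [Finite F] (E : Endo h F) (d : Data T) (e Q : ℕ)

/-- The hypotheses of the split decomposition. -/
structure SplitHyp : Prop where
  ok : E.DataOK d
  reps : E.Reps E.fix d.CL
  lifts : ∀ o ∈ d.L, E.Lift E.fix o
  liftBase : ∀ b ∈ d.base, E.Lift E.fix b
  card : ∀ o ∈ d.L, Nat.card (E.Adm o) ^ e = Q ^ o.size
  two_le : 2 ≤ Q
  exp_ne : e ≠ 0
  ne : ∀ c ∈ d.CL, c.mem ≠ []
  base : ∀ b ∈ d.base, ∃ c ∈ d.CL, ∀ r ∈ b.cls E.ρ, r ∈ cellList T c.word

variable {E d e Q} (P : E.SplitHyp d e Q)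
include P

namespace SplitHyp

/-- The class of an index. -/
def cl (_P : E.SplitHyp d e Q) (i : Fin d.CL.length) : Cls := d.CL[i.val]

omit [Finite F] in
lemma cl_mem (i : Fin d.CL.length) : P.cl i ∈ d.CL := List.getElem_mem i.2

lemma exists_ne_one (i : Fin d.CL.length) : ∃ x ∈ E.clsX (P.cl i), x ≠ 1 := by
  obtain ⟨u, hu, hu1, hu2⟩ := E.exists_class_elt P.ok P.lifts P.two_le P.card (P.cl_mem i)
    (P.ne _ (P.cl_mem i))
  exact ⟨⟨u, hu⟩, Subgroup.mem_subgroupOf.2 hu2, fun h => hu1 (congrArg Subtype.val h)⟩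

omit [Finite F] in
lemma exists_rep0 (i : Fin d.CL.length) : ∃ s, E.IsRep (P.cl i) s := by
  obtain ⟨m, -, hm, hmn, hM⟩ := P.reps _ (P.cl_mem i)
  exact ⟨⟨m, hm⟩, hmn, hM⟩

lemma exists_rep_L (i : Fin d.CL.length) :
    ∃ n ∈ E.clsL (P.cl i), E.IsRep (P.cl i) n := by
  obtain ⟨s, hs⟩ := P.exists_rep0 i
  obtain ⟨x, hx, hx1⟩ := P.exists_ne_one i
  obtain ⟨a, ha, m, hm, b, hb, e'⟩ := E.class_bru P.ok.cls (P.cl_mem i) P.reps hs hx hx1
  refine ⟨m, ?_, hm⟩
  have hy : s * x * s⁻¹ ∈ E.clsY (P.cl i) := E.conj_rep_X P.ok.cls (P.cl_mem i) hs hx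
  rw [show m = a⁻¹ * (s * x * s⁻¹) * b⁻¹ by rw [e']; group]
  exact mul_mem (mul_mem (inv_mem (Subgroup.mem_sup_left ha)) (Subgroup.mem_sup_right hy))
    (inv_mem (Subgroup.mem_sup_left hb))

/-- The representative of a class in its rank one subgroup. -/
noncomputable def rep (i : Fin d.CL.length) : ↥E.fix := (P.exists_rep_L i).choose

lemma rep_mem (i : Fin d.CL.length) : P.rep i ∈ E.clsL (P.cl i) :=
  (P.exists_rep_L i).choose_spec.1

lemma rep_isRep (i : Fin d.CL.length) : E.IsRep (P.cl i) (P.rep i) :=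
  (P.exists_rep_L i).choose_spec.2

lemma mem_monG {g : ↥E.fix} (hg : g ∈ E.diaG ⊔ Subgroup.closure (Set.range P.rep)) :
    g ∈ E.monG :=
  sup_le (Subgroup.comap_mono diagonal_le_monomial) ((Subgroup.closure_le _).2 (by
    rintro _ ⟨i, rfl⟩; exact (P.rep_isRep i).1)) hg

omit [Finite F] P in
lemma exists_word {g : ↥E.fix} (hg : g ∈ E.monG) :
    ∃ w, WordOK T w ∧ E.Comm w ∧ ∀ r < T.n, Maps D (g : GL D.Idx F) r (rword T w r) := by
  obtain ⟨w, hw, t, ht, e'⟩ := h.exists_word_of_monomial (Subgroup.mem_subgroupOf.1 hg)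
  have hM : ∀ r < T.n, Maps D (g : GL D.Idx F) r (rword T w r) := fun r hr => by
    rw [e']; exact Maps_mul (h.Maps_diagonal ht hr) (h.Maps_nW hw hr)
  exact ⟨w, hw, E.comm_of_fix hw g.2 (Subgroup.mem_subgroupOf.1 hg) hM, hM⟩

omit [Finite F] P in
lemma conj_mem {g x : ↥E.fix} {w : List ℕ}
    (hM : ∀ r < T.n, Maps D (g : GL D.Idx F) r (rword T w r)) {S S' : Set ℕ}
    (hS : ∀ r ∈ S, r < T.n ∧ rword T w r ∈ S') (hx : x ∈ (gen D F S).subgroupOf E.fix) :
    g * x * g⁻¹ ∈ (gen D F S').subgroupOf E.fix := by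
  rw [Subgroup.mem_subgroupOf, Subgroup.coe_mul, Subgroup.coe_mul, Subgroup.coe_inv]
  exact conj_gen_le (fun r hr => ⟨_, (hS r hr).2, hM r (hS r hr).1⟩) (Subgroup.mem_subgroupOf.1 hx)

omit [Finite F] P in
lemma posG_eq : E.posG = (gen D F (posSet T)).subgroupOf E.fix := by
  rw [posG, h.posUnipotent_eq]

omit [Finite F] P in
lemma eq_one_of_neg {x : ↥E.fix} (hx : x ∈ E.posG) {S : Set ℕ} (hS : ∀ r ∈ S, r < T.half)
    (hx' : x ∈ (gen D F S).subgroupOf E.fix) : x = 1 := by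
  refine Subtype.ext ?_
  have h1 : (x : GL D.Idx F) ∈ D.borelSubgroup F ⊓ D.negUnipotent F :=
    ⟨Subgroup.mem_sup_left (Subgroup.mem_subgroupOf.1 hx),
      h.gen_neg_le hS (Subgroup.mem_subgroupOf.1 hx')⟩
  rw [h.borel_inf_negUnipotent, Subgroup.mem_bot] at h1
  exact h1

theorem dich {m : ↥E.fix} (hm : m ∈ E.monG) (i : Fin d.CL.length) :
    (∀ x ∈ E.clsX (P.cl i), m * x * m⁻¹ ∈ E.posG) ∨
      ∀ x ∈ E.clsX (P.cl i), m * P.rep i * x * (m * P.rep i)⁻¹ ∈ E.posG := by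
  obtain ⟨w, hw, hwc, hM⟩ := exists_word hm
  rcases E.class_dichotomy P.ok.cls (P.cl_mem i) hw hwc with hpos | hneg
  · refine Or.inl fun x hx => ?_
    rw [posG_eq]
    exact conj_mem hM (S := clsPos T (P.cl i)) (fun r hr => ⟨(mem_cellList.1 hr).1.2,
      hpos r hr, h.rword_lt hw (mem_cellList.1 hr).1.2⟩) hx
  · refine Or.inr fun x hx => ?_
    rw [posG_eq, show m * P.rep i * x * (m * P.rep i)⁻¹ =
      m * (P.rep i * x * (P.rep i)⁻¹) * m⁻¹ by group]
    refine conj_mem hM (S := clsNeg T (P.cl i)) (fun r hr => ⟨hr.1, ?_, h.rword_lt hw hr.1⟩)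
      (E.conj_rep_X P.ok.cls (P.cl_mem i) (P.rep_isRep i) hx)
    have h1 := hneg _ hr.2
    rw [h.rword_neg hw hr.1] at h1
    by_contra hn
    exact absurd ((h.half_le_neg_iff (h.rword_lt hw hr.1)).2 (not_le.1 hn)) (not_le.2 h1)

theorem uniq {m : ↥E.fix} (hm : m ∈ E.monG) (i j : Fin d.CL.length)
    (h1 : ∀ x ∈ E.clsX (P.cl i), m * x * m⁻¹ ∈ E.posG)
    (h2 : ∃ x ∈ E.clsX (P.cl i), P.rep j * m * x * (P.rep j * m)⁻¹ ∉ E.posG)
    {g : ↥E.fix} (hg : g ∈ E.clsL (P.cl i)) : m * g * m⁻¹ ∈ E.clsL (P.cl j) := by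
  obtain ⟨w, hw, hwc, hM⟩ := exists_word hm
  have hci := P.cl_mem i
  have hcj := P.cl_mem j
  have hvj := P.ok.cls.wordOK E hcj
  have hpos : ∀ r ∈ clsPos T (P.cl i), T.half ≤ rword T w r := by
    refine (E.class_dichotomy P.ok.cls hci hw hwc).resolve_right fun hneg => ?_
    obtain ⟨x, hx, hx1⟩ := P.exists_ne_one i
    refine hx1 (conj_eq_one_iff.1 (eq_one_of_neg (h1 x hx) (S := {r | r < T.half})
      (fun r hr => hr) (conj_mem hM (S := clsPos T (P.cl i))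
        (fun r hr => ⟨(mem_cellList.1 hr).1.2, hneg r hr⟩) hx)))
  have hwv : WordOK T ((P.cl j).word ++ w) := fun a ha =>
    (List.mem_append.1 ha).elim (hvj a) (hw a)
  have hto : ∀ r ∈ clsPos T (P.cl i), rword T w r ∈ clsPos T (P.cl j) := by
    rcases E.class_dichotomy P.ok.cls hci hwv
      (Comm.append E hw (P.ok.cls.comm _ hcj) hwc) with hp | hn
    · exfalso
      obtain ⟨x, hx, hneg⟩ := h2
      refine hneg ?_
      rw [posG_eq]
      refine conj_mem (w := (P.cl j).word ++ w) (fun r hr => ?_) (S := clsPos T (P.cl i))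
        (fun r hr => ⟨(mem_cellList.1 hr).1.2, hp r hr, h.rword_lt hwv (mem_cellList.1 hr).1.2⟩) hx
      rw [Subgroup.coe_mul, rword_append]
      exact Maps_mul (hM r hr) ((P.rep_isRep j).2 _ (h.rword_lt hw hr))
    · intro r hr
      have h3 := hn r hr
      rw [rword_append] at h3
      exact mem_cellList.2 ⟨⟨hpos r hr, h.rword_lt hw (mem_cellList.1 hr).1.2⟩, h3⟩
  have hle : E.clsL (P.cl i) ≤ (E.clsL (P.cl j)).comap (MulAut.conj m).toMonoidHom := by
    refine sup_le (fun x hx => ?_) (fun x hx => ?_)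
    · exact Subgroup.mem_sup_left (conj_mem hM (S := clsPos T (P.cl i)) (S' := clsPos T (P.cl j))
        (fun r hr => ⟨(mem_cellList.1 hr).1.2, hto r hr⟩) hx)
    · refine Subgroup.mem_sup_right (conj_mem hM (S := clsNeg T (P.cl i))
        (S' := clsNeg T (P.cl j)) (fun r hr => ⟨hr.1, h.rword_lt hw hr.1, ?_⟩) hx)
      rw [← h.rword_neg hw hr.1]
      exact hto _ hr.2
  exact hle hg

theorem L_N (i : Fin d.CL.length) {g : ↥E.fix} (hg : g ∈ E.clsL (P.cl i)) (hm : g ∈ E.monG) :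
    g ∈ E.diaG ∨ (P.rep i)⁻¹ * g ∈ E.diaG := by
  obtain ⟨w, hw, hwc, hM⟩ := exists_word hm
  set c := P.cl i
  have hc := P.cl_mem i
  have hv := P.ok.cls.wordOK E hc
  have hC := P.ok.cls
  have hgL : (g : GL D.Idx F) ∈ D.leviSubgroup F (clsSet c) :=
    E.clsL_le_levi hC hc ⟨g, hg, rfl⟩
  have hrad : ∀ r ∈ radSet D T (clsSet c), rword T w r ∈ radSet D T (clsSet c) := by
    intro r hr
    obtain ⟨z, hz, ez⟩ := hM r hr.1.2
    refine h.root_mem_of_X_mem (h.rword_lt hw hr.1.2) (mul_ne_zero hz one_ne_zero) ?_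
    rw [← ez 1]
    exact E.levi_normalizes hC hc hgL (X_mem_gen D hr 1)
  rcases E.class_dichotomy hC hc hw hwc with hpos | hneg
  · refine Or.inl ?_
    have hid : ∀ r < T.n, rword T w r = r := fun r hr => by
      refine h.rword_eq_self hw (fun k hk => ?_) hr
      have hs : T.simple k ∈ posSet T := ⟨(h.simple_spec hk).1, h.simple_lt hk⟩
      by_cases hkA : T.simple k ∈ clsPos T c
      · exact hpos _ hkA
      · exact (hrad _ (E.mem_radSet_of_not_mem hC hc hs hkA)).1.1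
    have h1 := diag_of_same_perm (h := h) (v := w) (w := []) (fun a ha => absurd ha List.not_mem_nil)
      hw (one_mem _) (Subgroup.mem_subgroupOf.1 hm)
      (fun r hr => h.Maps_diagonal (one_mem _) hr) hM (fun r hr => (hid r hr).symm)
    rw [inv_one, one_mul] at h1
    exact Subgroup.mem_subgroupOf.2 h1
  · refine Or.inr ?_
    have hwv : WordOK T (w ++ c.word) := fun a ha => (List.mem_append.1 ha).elim (hw a) (hv a)
    have hid : ∀ r < T.n, rword T w (rword T c.word r) = r := fun r hr => by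
      rw [← rword_append]
      refine h.rword_eq_self hwv (fun k hk => ?_) hr
      have hs : T.simple k ∈ posSet T := ⟨(h.simple_spec hk).1, h.simple_lt hk⟩
      rw [rword_append]
      by_cases hkA : T.simple k ∈ clsPos T c
      · obtain ⟨h4, h5⟩ := E.word_clsPos hC hc hkA
        have h1 := hneg _ h5
        rw [h.rword_neg hw h4] at h1
        by_contra hn
        exact absurd ((h.half_le_neg_iff (h.rword_lt hw h4)).2 (not_le.1 hn)) (not_le.2 h1)
      · obtain ⟨h4, h5⟩ := E.word_rad hC hc hs hkA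
        exact (hrad _ (E.mem_radSet_of_not_mem hC hc h4 h5)).1.1
    have hsame : SameAct T c.word w := fun r hr => by
      have := hid _ (h.rword_lt hv hr)
      rwa [hC.invol c hc r hr, eq_comm] at this
    exact Subgroup.mem_subgroupOf.2 (by
      simpa using diag_of_same_perm (h := h) hv hw (Subgroup.mem_subgroupOf.1 (P.rep_isRep i).1)
        (Subgroup.mem_subgroupOf.1 hm) (P.rep_isRep i).2 hM hsame)

theorem decomp (i : Fin d.CL.length) {u : ↥E.fix} (hu : u ∈ E.posG) :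
    ∃ a ∈ E.posG, ∃ b ∈ E.clsX (P.cl i), u = a * b ∧ P.rep i * a * (P.rep i)⁻¹ ∈ E.posG := by
  obtain ⟨a, ha, x, hx, e'⟩ := E.split_class P.ok.cls (P.cl_mem i) hu
  have ha' : a ∈ (gen D F (radSet D T (clsSet (P.cl i)))).subgroupOf E.fix := ha
  refine ⟨a, ?_, x, hx, e', ?_⟩
  · rw [posG_eq]; exact Subgroup.comap_mono (gen_mono D fun r hr => hr.1) ha'
  · rw [posG_eq]
    refine conj_mem (P.rep_isRep i).2 (fun r hr => ⟨hr.1.2, (E.word_rad P.ok.cls (P.cl_mem i) hr.1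
      fun hin => hr.2 ((E.clsPos_iff P.ok.cls (P.cl_mem i)).1 hin).2).1⟩) ha'

theorem gen_top (hH : E.diaG ≤ ⨆ i, E.clsL (P.cl i) ⊓ E.diaG) :
    (⨆ i, E.clsL (P.cl i)) = ⊤ := by
  set M := ⨆ i, E.clsL (P.cl i)
  have hle : ∀ i, E.clsL (P.cl i) ≤ M := fun i => le_iSup (fun i => E.clsL (P.cl i)) i
  have hidx : ∀ c ∈ d.CL, ∃ i, P.cl i = c := fun c hc => by
    obtain ⟨k, hk, rfl⟩ := List.getElem_of_mem hc
    exact ⟨⟨k, hk⟩, rfl⟩
  have hS : E.Std d (M.map E.fix.subtype) := by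
    refine ⟨P.ok, fun c hc => ?_, fun g hg => ?_, fun b hb t ht => ?_⟩
    · obtain ⟨i, rfl⟩ := hidx c hc
      exact ⟨_, ⟨_, hle i (P.rep_mem i), rfl⟩, (P.rep i).2, (P.rep_isRep i).1, (P.rep_isRep i).2⟩
    · have h1 : (⟨g, hg.1⟩ : ↥E.fix) ∈ E.diaG := Subgroup.mem_subgroupOf.2 hg.2
      exact ⟨_, (iSup_le fun i => inf_le_left.trans (hle i) :
        (⨆ i, E.clsL (P.cl i) ⊓ E.diaG) ≤ M) (hH h1), rfl⟩
    · obtain ⟨u, -, huF, huG, huC⟩ := P.liftBase b hb t ht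
      obtain ⟨c, hc, hcls⟩ := P.base b hb
      obtain ⟨i, rfl⟩ := hidx c hc
      exact ⟨u, ⟨⟨u, huF⟩, hle i (Subgroup.mem_sup_left
        (Subgroup.mem_subgroupOf.2 (gen_mono D hcls huG))), rfl⟩, huF, huG, huC⟩
  refine eq_top_iff.2 fun g _ => ?_
  obtain ⟨g', hg', e'⟩ := E.fix_le hS P.card g.2
  rwa [← Subtype.ext e']

theorem isPGroup {p k : ℕ} (hp : p.Prime) (hQ : Q = p ^ k) : IsPGroup p ↥E.posG := by
  haveI := Fact.mk hp
  have h1 := (E.fix_posUnipotent P.ok (K := E.fix) P.lifts P.card).2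
  rw [hQ, ← pow_mul] at h1
  have h2 : Nat.card ↥(E.fix ⊓ D.posUnipotent F) ∣ p ^ (k * T.half) :=
    h1 ▸ dvd_pow_self _ P.exp_ne
  obtain ⟨j, -, hj⟩ := (Nat.dvd_prime_pow hp).1 h2
  refine IsPGroup.of_card (n := j) ?_
  rw [posG, ← hj, ← Subgroup.inf_subgroupOf_left,
    Nat.card_congr (Subgroup.subgroupOfEquivOfLe inf_le_left).toEquiv]

/-- The split decomposition of the fixed points. -/
noncomputable def split {p k : ℕ} (hp : p.Prime) (hQ : Q = p ^ k)
    (hH : E.diaG ≤ ⨆ i, E.clsL (P.cl i) ⊓ E.diaG) :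
    SplitBN ↥E.fix (Fin d.CL.length) p where
  U := E.posG
  H := E.diaG
  n := P.rep
  X i := E.clsX (P.cl i)
  pU := P.isPGroup hp hQ
  X_le i := E.clsX_le_posG P.ok.cls (P.cl_mem i)
  H_U t ht u hu := by
    rw [posG_eq] at hu ⊢
    rw [Subgroup.mem_subgroupOf, Subgroup.coe_mul, Subgroup.coe_mul, Subgroup.coe_inv]
    exact (Subgroup.mem_normalizer_iff.1 (h.diagonal_le_normalizer_gen (fun r hr => hr.2)
      (Subgroup.mem_subgroupOf.1 ht)) _).1 (Subgroup.mem_subgroupOf.1 hu)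
  H_X i t ht x hx := E.diaG_clsX P.ok.cls (P.cl_mem i) ht hx
  n_H i t ht := by
    rw [diaG, Subgroup.mem_subgroupOf] at ht ⊢
    rw [Subgroup.coe_mul, Subgroup.coe_mul, Subgroup.coe_inv]
    exact diag_conj (h := h) (Subgroup.mem_subgroupOf.1 (P.rep_isRep i).1) ht
  n_sq i := E.rep_mul_rep P.ok.cls (P.cl_mem i) (P.rep_isRep i) (P.rep_isRep i)
  n_mem i := by
    rw [E.clsL_eq P.ok.cls (P.cl_mem i) (P.rep_isRep i)]; exact P.rep_mem i
  decomp i u hu := P.decomp i hu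
  bru i x hx := by
    have hsq := E.rep_mul_rep P.ok.cls (P.cl_mem i) (P.rep_isRep i) (P.rep_isRep i)
    by_cases hx1 : x = 1
    · exact ⟨1, one_mem _, 1, one_mem _, _, hsq, Or.inl (by rw [hx1]; group)⟩
    · obtain ⟨a, ha, m, hm, b, hb, e'⟩ :=
        E.class_bru P.ok.cls (P.cl_mem i) P.reps (P.rep_isRep i) hx hx1
      refine ⟨a, ha, (P.rep i * P.rep i)⁻¹ * b * (P.rep i * P.rep i), ?_, m * P.rep i,
        E.rep_mul_rep P.ok.cls (P.cl_mem i) hm (P.rep_isRep i), Or.inr ?_⟩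
      · simpa using E.diaG_clsX P.ok.cls (P.cl_mem i) (inv_mem hsq) hb
      · rw [show P.rep i * x * P.rep i = P.rep i * x * (P.rep i)⁻¹ * (P.rep i * P.rep i) by group,
          e']
        group
  dich m hm i := P.dich (P.mem_monG hm) i
  neg i := by
    obtain ⟨x, hx, hx1⟩ := P.exists_ne_one i
    exact ⟨x, hx, fun hU => E.not_mem_posG P.ok.cls (P.cl_mem i) (P.rep_isRep i) hx hx1
      (Subgroup.mem_subgroupOf.2 (Subgroup.mem_sup_left (Subgroup.mem_subgroupOf.1 hU)))⟩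
  uniq m hm i j h1 h2 g hg := by
    rw [E.clsL_eq P.ok.cls (P.cl_mem i) (P.rep_isRep i)] at hg
    rw [E.clsL_eq P.ok.cls (P.cl_mem j) (P.rep_isRep j)]
    exact P.uniq (P.mem_monG hm) i j h1 h2 hg
  L_N i g hg hN := by
    rw [E.clsL_eq P.ok.cls (P.cl_mem i) (P.rep_isRep i)] at hg
    exact P.L_N i hg (P.mem_monG hN)
  U_N := (Subgroup.eq_bot_iff_forall _).2 fun g hg => Subtype.ext (by
    have h1 : (g : GL D.Idx F) ∈ D.posUnipotent F ⊓ D.monomialSubgroup F :=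
      ⟨Subgroup.mem_subgroupOf.1 hg.1, Subgroup.mem_subgroupOf.1 (P.mem_monG hg.2)⟩
    rwa [h.posUnipotent_inf_monomial, Subgroup.mem_bot] at h1)
  gen := by
    simp only [E.clsL_eq P.ok.cls (P.cl_mem _) (P.rep_isRep _)]
    exact P.gen_top hH
  H_le := by
    simp only [E.clsL_eq P.ok.cls (P.cl_mem _) (P.rep_isRep _)]
    exact hH

lemma split_L {p k : ℕ} (hp : p.Prime) (hQ : Q = p ^ k)
    (hH : E.diaG ≤ ⨆ i, E.clsL (P.cl i) ⊓ E.diaG) (i : Fin d.CL.length) :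
    (P.split hp hQ hH).L i = E.clsL (P.cl i) :=
  E.clsL_eq P.ok.cls (P.cl_mem i) (P.rep_isRep i)

end SplitHyp

end Endo

end CfsgLib.Chev
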