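import Cfsg.Agent.Lib.Chev.FixLayer
import Cfsg.Agent.Lib.Schur.ChainSplit

/-!
Central extensions split over the unipotent fixed points when the torus separates the simple layers
from all layers.
-/

set_option autoImplicit false
set_option linter.unusedSectionVars false
set_option linter.style.haveILetI false

open scoped commutatorElement

namespace CfsgLib.Chev

open Cfsg.Lie Matrix
open Cert (torusHom extC extC_ne_zero)
open CfsgLib.Schur

namespace Endo

variable {D : ChevalleyDatum} {T : Tab} {C : Tab.Cover} {h : Cert D T C} {F : Type*} [Field F]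
  (E : Endo h F)

/-- The fixed elements supported by the orbit of a layer. -/
noncomputable def exL (L : List Orb) (k : ℕ) : Subgroup ↥E.fix :=
  (gen D F {r | r ∈ (orbL L k).list E.ρ}).subgroupOf E.fix

/-- `c` is the parameter of a fixed torus element. -/
def TorPar (c : Fin T.l → Fˣ) : Prop := torusHom (D := D) (T := T) c ∈ E.fix

/-- The character of a layer. -/
def chiL (L : List Orb) (k : ℕ) (c : Fin T.l → Fˣ) : F := charOf T (extC T c) (orbL L k).root

/-- The fixed torus element of a parameter. -/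
noncomputable def torEl {c : Fin T.l → Fˣ} (hc : E.TorPar c) : ↥E.fix := ⟨_, hc⟩

lemma torEl_mem {c : Fin T.l → Fˣ} (hc : E.TorPar c) : E.torEl hc ∈ E.torG :=
  Subgroup.mem_subgroupOf.2 (h.range_torusHom.le ⟨c, rfl⟩)

/-- The generators of the simple layers. -/
noncomputable def simpS (L : List Orb) (simp : List ℕ) : Set ↥E.fix := {g | ∃ s ∈ simp, g ∈ E.exL L s}

/-- The simple layers with the commutators. -/
noncomputable def genM (L : List Orb) (simp : List ℕ) : Subgroup ↥E.fix :=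
  Subgroup.closure (E.simpS L simp ∪ {x | ∃ a ∈ E.lay L 0, ∃ b ∈ E.lay L 0, x = ⁅a, b⁆})

/-- The hypotheses. -/
structure SylHyp (p : ℕ) (L : List Orb) (simp : List ℕ) : Prop where
  layers : chkLayers T E.ρ L = true
  comm : ∀ k < L.length,
    chkCommGenMod T p (sfxL E.ρ L 0) (sfxL E.ρ L k) (sfxL E.ρ L (k + 1)) = true
  orb : ∀ k < L.length, ∀ a ∈ (orbL L k).list E.ρ, ∀ b ∈ (orbL L k).list E.ρ,
    a = b ∨ T.commTerms a b = []
  tail : ∀ k < L.length, (orbL L k).tail = []
  lifts : ∀ k < L.length, E.Lift E.fix (orbL L k)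
  simp_lt : ∀ s ∈ simp, s < L.length
  move : ∀ k < L.length, ∃ c, E.TorPar c ∧ chiL L k c ≠ 1
  sep : ∀ s ∈ simp, ∀ k < L.length, k ≠ s → ∃ c, E.TorPar c ∧
    ((chiL L s c = 1 ∧ chiL L k c ≠ 1) ∨ (chiL L k c = 1 ∧ chiL L s c ≠ 1))
  self : ∀ s ∈ simp, ∃ m : ↥E.fix, ∀ a ∈ (orbL L s).list E.ρ,
    ∃ b ∈ sfxL E.ρ L (s + 1), Maps D (m : GL D.Idx F) a b
  scale : ∀ k < L.length, k ∉ simp → ∀ x ∈ E.Adm (orbL L k), x ≠ 0 →
    ∃ u ∈ E.genM L simp ⊓ E.lay L k, ∃ c, E.TorPar c ∧ chiL L k c * E.crd L k u = x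

variable {E} {p : ℕ} [Kills F p] {L : List Orb} {simp : List ℕ} (P : E.SylHyp p L simp)
include P

namespace SylHyp

lemma exL_le_lay {k : ℕ} (hk : k < L.length) : E.exL L k ≤ E.lay L k :=
  Subgroup.comap_mono (gen_mono D fun r hr => by
    show r ∈ sfxL E.ρ L k
    rw [sfxL_eq hk]; exact List.mem_append_left _ hr)

lemma orb_closed {k : ℕ} (hk : k < L.length) : CommClosed T {r | r ∈ (orbL L k).list E.ρ} :=
  fun a ha b hb hne q hq => by
    rcases P.orb k hk a ha b hb with e | e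
    · exact absurd e.symm hne
    · rw [e] at hq; exact absurd hq List.not_mem_nil

lemma exL_ext {k : ℕ} (hk : k < L.length) {a b : ↥E.fix} (ha : a ∈ E.exL L k)
    (hb : b ∈ E.exL L k) (e : E.crd L k a = E.crd L k b) : a = b := by
  have hl := E.layer_of_lt P.layers hk
  have h1 := E.crd_congr P.layers hk (P.exL_le_lay hk ha) (P.exL_le_lay hk hb) e
  have h2 := gen_inter (h := h) (P := {r | r ∈ (orbL L k).list E.ρ})
    (P' := {r | r ∈ sfxL E.ρ L (k + 1)}) (fun r hr => hl.pos r hr) (P.orb_closed hk)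
    (fun r hr => E.sfxL_pos P.layers hr) (flatOrbs_spec (chkLayers_drop (k + 1) P.layers)).2.2
    (u := ((a⁻¹ * b : ↥E.fix) : GL D.Idx F))
    (Subgroup.mem_subgroupOf.1 (mul_mem (inv_mem ha) hb)) ((E.mem_lay L).1 h1)
  rw [show {r | r ∈ (orbL L k).list E.ρ} ∩ {r | r ∈ sfxL E.ρ L (k + 1)} = ∅ from
    Set.eq_empty_iff_forall_notMem.2 fun r hr => hl.disj r hr.1 hr.2,
    show gen D F (∅ : Set ℕ) = ⊥ by simp [gen], Subgroup.mem_bot] at h2
  exact inv_mul_eq_one.1 (Subtype.ext h2)

lemma exists_exL {k : ℕ} (hk : k < L.length) {g : ↥E.fix} (hg : g ∈ E.lay L k) :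
    ∃ u ∈ E.exL L k, u⁻¹ * g ∈ E.lay L (k + 1) := by
  obtain ⟨u, -, huF, huG, huC⟩ := P.lifts k hk _ (E.crd_adm P.layers hk hg)
  have hcls : (orbL L k).cls E.ρ ⊆ {r | r ∈ (orbL L k).list E.ρ} := fun r hr => hr.elim id
    fun h1 => absurd (P.tail k hk ▸ h1) List.not_mem_nil
  have hu : (⟨u, huF⟩ : ↥E.fix) ∈ E.exL L k :=
    Subgroup.mem_subgroupOf.2 (gen_mono D hcls huG)
  refine ⟨_, hu, E.crd_congr P.layers hk (P.exL_le_lay hk hu) hg ?_⟩
  refine E.crd_eq P.layers hk (InC.mono (fun r hr => ?_) huC)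
  show r ∈ sfxL E.ρ L k
  rw [sfxL_eq hk]; exact List.mem_append_left _ (hcls hr)

lemma exL_conj {k : ℕ} (hk : k < L.length) {t x : ↥E.fix} (ht : t ∈ E.torG)
    (hx : x ∈ E.exL L k) : t * x * t⁻¹ ∈ E.exL L k := by
  rw [exL, Subgroup.mem_subgroupOf, Subgroup.coe_mul, Subgroup.coe_mul, Subgroup.coe_inv]
  exact (Subgroup.mem_normalizer_iff.1 (h.diagonal_le_normalizer_gen (F := F)
    (fun r hr => ((E.layer_of_lt P.layers hk).pos r hr).2)
    (Subgroup.mem_subgroupOf.1 ht)) _).1 (Subgroup.mem_subgroupOf.1 hx)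

lemma exL_fix {k : ℕ} (hk : k < L.length) {c : Fin T.l → Fˣ} (hc : E.TorPar c)
    (h1 : chiL L k c = 1) {x : ↥E.fix} (hx : x ∈ E.exL L k) :
    E.torEl hc * x * (E.torEl hc)⁻¹ = x := by
  refine P.exL_ext hk (P.exL_conj hk (E.torEl_mem hc) hx) hx ?_
  rw [E.crd_conj P.layers hk (c := c) rfl (P.exL_le_lay hk hx)]
  exact (congrArg (· * _) h1).trans (one_mul _)

lemma exL_surj [Finite F] {k : ℕ} (hk : k < L.length) {c : Fin T.l → Fˣ} (hc : E.TorPar c)
    (h1 : chiL L k c ≠ 1) {g : ↥E.fix} (hg : g ∈ E.exL L k) :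
    ∃ x ∈ E.exL L k, ⁅E.torEl hc, x⁆ = g := by
  have hmem : ∀ x : E.exL L k, ⁅E.torEl hc, (x : ↥E.fix)⁆ ∈ E.exL L k := fun x => by
    rw [commutatorElement_def]
    exact mul_mem (P.exL_conj hk (E.torEl_mem hc) x.2) (inv_mem x.2)
  have hinj : Function.Injective fun x : E.exL L k => (⟨_, hmem x⟩ : E.exL L k) := by
    intro x y hxy
    have e : ∀ x : E.exL L k, E.crd L k ⁅E.torEl hc, (x : ↥E.fix)⁆ =
        (chiL L k c - 1) * E.crd L k x := fun x =>
      (E.crd_comm P.layers hk (c := c) rfl (P.exL_le_lay hk x.2)).2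
    have h2 : E.crd L k ⁅E.torEl hc, (x : ↥E.fix)⁆ = E.crd L k ⁅E.torEl hc, (y : ↥E.fix)⁆ :=
      congrArg (fun z : E.exL L k => E.crd L k (z : ↥E.fix)) hxy
    rw [e, e] at h2
    exact Subtype.ext (P.exL_ext hk x.2 y.2 (mul_left_cancel₀ (sub_ne_zero.2 h1) h2))
  haveI : Finite ↥E.fix := Finite.of_injective Subtype.val Subtype.val_injective
  obtain ⟨x, hx⟩ := Finite.surjective_of_injective hinj ⟨g, hg⟩
  exact ⟨x, x.2, congrArg Subtype.val hx⟩

lemma act : Chain.Act (E.lay L 0) E.torG :=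
  ⟨fun _ hh _ hu => E.lay_conj P.layers hh hu, fun _ ha _ hb => E.torG_comm ha hb⟩

lemma layer {k : ℕ} (hk : k < L.length) :
    Chain.Layer (E.lay L 0) E.torG (E.lay L k) (E.lay L (k + 1)) :=
  ⟨E.lay_anti _ (Nat.le_succ k), E.lay_anti _ (Nat.zero_le k),
    fun _ hh _ hn => E.lay_conj P.layers hh hn,
    fun _ hh _ hn => E.lay_conj P.layers hh hn,
    fun _ hg _ hn => E.lay_comm L (P.comm k hk) hg hn⟩

lemma genM_conj {t m : ↥E.fix} (ht : t ∈ E.torG) (hm : m ∈ E.genM L simp) :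
    t * m * t⁻¹ ∈ E.genM L simp := by
  refine (Subgroup.closure_le ((E.genM L simp).comap (MulAut.conj t).toMonoidHom)).2 ?_ hm
  rintro _ (⟨s, hs, hg⟩ | ⟨a, ha, b, hb, rfl⟩) <;>
    simp only [Subgroup.coe_comap, Set.mem_preimage, MulEquiv.coe_toMonoidHom, MulAut.conj_apply,
      SetLike.mem_coe]
  · exact Subgroup.subset_closure (Or.inl ⟨s, hs, P.exL_conj (P.simp_lt s hs) ht hg⟩)
  · refine Subgroup.subset_closure (Or.inr ⟨_, E.lay_conj P.layers ht ha,
      _, E.lay_conj P.layers ht hb, ?_⟩)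
    simp only [commutatorElement_def]; group

lemma lay_le_genM : E.lay L 0 ≤ E.genM L simp := by
  suffices ∀ d k, L.length ≤ k + d → E.lay L k ≤ E.genM L simp from this L.length 0 (by omega)
  intro d
  induction d with
  | zero =>
    intro k hk
    rw [E.lay_of_length_le L (by omega)]; exact bot_le
  | succ d ih =>
    intro k hk
    have ih' := ih (k + 1) (by omega)
    by_cases hlt : k < L.length
    swap
    · rw [E.lay_of_length_le L (by omega)]; exact bot_le
    intro n hn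
    by_cases hsimp : k ∈ simp
    · obtain ⟨u, hu, hun⟩ := P.exists_exL hlt hn
      have h1 := mul_mem (show u ∈ E.genM L simp from
        Subgroup.subset_closure (Or.inl ⟨k, hsimp, hu⟩)) (ih' hun)
      rwa [mul_inv_cancel_left] at h1
    · by_cases h0 : E.crd L k n = 0
      · exact ih' (E.mem_succ_of_crd P.layers hlt hn h0)
      obtain ⟨u, ⟨huM, huL⟩, c, hc, hcu⟩ :=
        P.scale k hlt hsimp _ (E.crd_adm P.layers hlt hn) h0
      have h1 := E.crd_congr P.layers hlt (E.lay_conj P.layers (E.torEl_mem hc) huL) hn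
        ((E.crd_conj P.layers hlt (c := c) rfl huL).trans hcu)
      have h2 := mul_mem (P.genM_conj (E.torEl_mem hc) huM) (ih' h1)
      rwa [mul_inv_cancel_left] at h2

variable [Finite F] {Δ : Type*} [Group Δ] (σ : Δ →* ↥E.fix) (hs : Function.Surjective σ)
  (hc : σ.ker ≤ Subgroup.center Δ)
include hs hc

theorem dead_all {k : ℕ} (hk : k < L.length) {M : Subgroup Δ}
    (hG : Chain.Good σ (E.lay L 0) E.torG (E.lay L (k + 1)) M) :
    ∀ g ∈ E.lay L 0, ∀ n ∈ E.lay L k, Chain.Dead σ M g n := by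
  have hA := P.act
  have hL := P.layer hk
  refine Chain.dead_of_gens hc hA hL hG hs (S := E.simpS L simp) (T := E.exL L k) P.lay_le_genM
    (fun g ⟨s, hs', hg⟩ => E.lay_anti L (Nat.zero_le s) (P.exL_le_lay (P.simp_lt s hs') hg))
    (fun n hn => ?_) (P.exL_le_lay hk) ?_
  · obtain ⟨u, hu, hun⟩ := P.exists_exL hk hn
    simpa using mul_mem (Subgroup.subset_closure (Or.inl hu) :
      u ∈ Subgroup.closure ((E.exL L k : Set ↥E.fix) ∪ (E.lay L (k + 1) : Set ↥E.fix)))
      (Subgroup.subset_closure (Or.inr hun))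
  rintro g ⟨s, hs', hg⟩ n hn
  have hslt := P.simp_lt s hs'
  have hg0 : g ∈ E.lay L 0 := E.lay_anti L (Nat.zero_le s) (P.exL_le_lay hslt hg)
  by_cases hks : k = s
  · subst hks
    obtain ⟨m, hm⟩ := P.self k hs'
    obtain ⟨m', hm'⟩ := hs m
    obtain ⟨g', hg'⟩ := hs g
    obtain ⟨n', hn'⟩ := hs n
    have hcom : g * n = n * g := by
      have hab : ∀ a ∈ (orbL L k).list E.ρ, ∀ b ∈ (orbL L k).list E.ρ, ∀ t u : F,
          X D a t * X D b u = X D b u * X D a t := by
        intro a ha b hb t u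
        have hla := (E.layer_of_lt P.layers hk).pos a ha
        have hlb := (E.layer_of_lt P.layers hk).pos b hb
        by_cases hab : b = a
        · subst hab
          rw [h.X_add hla.2, h.X_add hla.2, add_comm]
        have h1 := h.X_conj hla.2 hlb.2 hab (h.posSet_neg_ne hla hlb) (-t) u
        rw [_root_.neg_neg, (P.orb k hk a ha b hb).resolve_left (Ne.symm hab)] at h1
        simp only [List.map_nil, List.prod_nil, mul_one] at h1
        rw [← h.X_inv hla.2, mul_inv_eq_iff_eq_mul] at h1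
        exact h1
      refine Subtype.ext ?_
      rw [Subgroup.coe_mul, Subgroup.coe_mul]
      have hle : gen D F {r | r ∈ (orbL L k).list E.ρ} ≤
          Subgroup.centralizer {(g : GL D.Idx F)} := by
        refine (Subgroup.closure_le _).2 ?_
        rintro _ ⟨b, hb, u, rfl⟩
        refine Subgroup.mem_centralizer_singleton_iff.2 ?_
        have hle' : gen D F {r | r ∈ (orbL L k).list E.ρ} ≤
            Subgroup.centralizer {X D b u} := by
          refine (Subgroup.closure_le _).2 ?_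
          rintro _ ⟨a, ha, t, rfl⟩
          exact Subgroup.mem_centralizer_singleton_iff.2 (hab a ha b hb t u)
        exact (Subgroup.mem_centralizer_singleton_iff.1
          (hle' (Subgroup.mem_subgroupOf.1 hg))).symm
      exact (Subgroup.mem_centralizer_singleton_iff.1 (hle (Subgroup.mem_subgroupOf.1 hn))).symm
    have hconj : ∀ x ∈ E.exL L k, ∀ x', σ x' = x → σ (m' * x' * m'⁻¹) ∈ E.lay L (k + 1) := by
      intro x hx x' hx'
      rw [map_mul, map_mul, map_inv, hm', hx', mem_lay]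
      simp only [Subgroup.coe_mul, Subgroup.coe_inv]
      exact Cert.conj_gen_le (fun r hr => hm r hr) (Subgroup.mem_subgroupOf.1 hx)
    exact Chain.dead_of_commute hc hA hL hG hs hg' hn' (Chain.commute_of_conj hc hG
      (E.lay_anti L (Nat.zero_le _)) (by rw [hg', hn', hcom]) (hconj g hg g' hg')
      (hconj n hn n' hn'))
  · obtain ⟨c, hcp, hcase⟩ := P.sep s hs' k hk hks
    rcases hcase with ⟨h1, h2⟩ | ⟨h1, h2⟩
    · obtain ⟨x, hx, rfl⟩ := P.exL_surj hk hcp h2 hn
      exact Chain.dead_of_fix_left hc hA hL hG hs (E.torEl_mem hcp) hg0 (P.exL_le_lay hk hx)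
        (P.exL_fix hslt hcp h1 hg)
    · obtain ⟨x, hx, rfl⟩ := P.exL_surj hslt hcp h2 hg
      refine Chain.dead_of_fix_right hc hA hL hG hs (E.torEl_mem hcp)
        (E.lay_anti L (Nat.zero_le s) (P.exL_le_lay hslt hx)) (P.exL_le_lay hk hn) ?_
      rw [commutatorElement_def, P.exL_fix hk hcp h1 hn, mul_inv_cancel]
      exact one_mem _

/-- The preimage of the unipotent group has derived subgroup meeting the kernel trivially. -/
theorem sylow_lift (hne : L ≠ []) {z : Δ} (hz : z ∈ σ.ker)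
    (hzd : z ∈ ⁅(E.lay L 0).comap σ, (E.lay L 0).comap σ⁆) : z = 1 := by
  have hpos : 0 < L.length := List.length_pos_of_ne_nil hne
  have hgood : ∀ d, d < L.length →
      ∃ M, Chain.Good σ (E.lay L 0) E.torG (E.lay L (L.length - d)) M := by
    intro d hd
    induction d with
    | zero =>
      rw [Nat.sub_zero, E.lay_of_length_le L le_rfl]
      exact ⟨⊥, Chain.good_bot hc⟩
    | succ d ih =>
      obtain ⟨M, hM⟩ := ih (by omega)
      have hk : L.length - (d + 1) < L.length := by omega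
      rw [show L.length - d = L.length - (d + 1) + 1 by omega] at hM
      obtain ⟨c, hcp, hne'⟩ := P.move _ hk
      refine Chain.Good.step hc P.act (P.layer hk) hM hs (P.dead_all σ hs hc hk hM)
        (E.torEl_mem hcp) (fun x hx h1 => ?_) (fun n hn => ?_)
      · have h2 := (E.crd_comm P.layers hk (c := c) (t := E.torEl hcp) rfl hx).2
        rw [E.crd_of_mem_succ P.layers hk h1, eq_comm, mul_eq_zero] at h2
        exact E.mem_succ_of_crd P.layers hk hx (h2.resolve_left (sub_ne_zero.2 hne'))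
      · obtain ⟨u, hu, hun⟩ := P.exists_exL hk hn
        obtain ⟨x, hx, rfl⟩ := P.exL_surj hk hcp hne' hu
        exact ⟨x, P.exL_le_lay hk hx, hun⟩
  obtain ⟨M, hM⟩ := hgood (L.length - 1) (by omega)
  rw [show L.length - (L.length - 1) = 0 + 1 by omega] at hM
  exact Chain.top_inf_ker hc P.act (P.layer hpos) hM hs rfl (P.dead_all σ hs hc hpos hM) hz hzd

end SylHyp

end Endo

end CfsgLib.Chev
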