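import Cfsg.Agent.Lib.Chev.StTorus

/-!
Perfect central extensions of a Chevalley group: commutators of lifts of root elements.
-/

set_option autoImplicit false
set_option maxRecDepth 100000

namespace CfsgLib.Chev

open Cfsg.Lie Matrix
open scoped commutatorElement

/-! ### Biadditive functions fixed by scalars -/

section Kill

variable {F : Type*} [Field F] {M : Type*} [Group M] {f : F → F → M}
  (hl : ∀ t t' u, f (t + t') u = f t u * f t' u) (hr : ∀ t u u', f t (u + u') = f t u * f t u')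

include hl in
lemma kill_left {c : F} (hc : c ≠ 1) (hinv : ∀ t u, f (c * t) u = f t u) (t u : F) : f t u = 1 := by
  have hsub : c - 1 ≠ 0 := sub_ne_zero.2 hc
  have h1 := hinv ((c - 1)⁻¹ * t) u
  rw [show c * ((c - 1)⁻¹ * t) = t + (c - 1)⁻¹ * t by field_simp; ring, hl, mul_eq_right] at h1
  exact h1

include hr in
lemma kill_right {c : F} (hc : c ≠ 1) (hinv : ∀ t u, f t (c * u) = f t u) (t u : F) : f t u = 1 :=
  kill_left (f := fun a b => f b a) (fun a a' b => hr b a a') hc (fun a b => hinv b a) u t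

include hl in
lemma kill_nsmul (t u : F) (n : ℕ) : f ((n : F) * t) u = f t u ^ n := by
  induction n with
  | zero =>
    have h0 := hl 0 0 u
    rw [add_zero, left_eq_mul] at h0
    simpa using h0
  | succ n ih => rw [Nat.cast_succ, add_mul, one_mul, hl, ih, pow_succ]

include hl in
lemma kill_char {p : ℕ} [CharP F p] (hp : ∀ t u, f t u ^ p = 1 → f t u = 1) (t u : F) :
    f t u = 1 := by
  have h0 := hl 0 0 u
  rw [add_zero, left_eq_mul] at h0
  refine hp t u ?_
  rw [← kill_nsmul hl, CharP.cast_eq_zero, zero_mul, h0]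

end Kill

/-! ### Characters of the torus -/

/-- The value at a root of the torus element with parameters `w`. -/
noncomputable def chi (T : Tab) {F : Type*} [Field F] (w : Fin T.l → Fˣ) (r : ℕ) : F :=
  charOf T (Cert.extC T w) r

/-- The parameters `u ^ v_j`. -/
noncomputable def powParam (T : Tab) {F : Type*} [Field F] (u : Fˣ) (v : List ℤ) : Fin T.l → Fˣ :=
  fun j => u ^ v.getD j 0

/-- The exponent of a cocharacter at a root. -/
def Tab.cochar (T : Tab) (v : List ℤ) (r : ℕ) : ℤ :=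
  ((List.range T.l).map fun j => v.getD j 0 * T.car j r).sum

lemma chi_powParam (T : Tab) {F : Type*} [Field F] (u : Fˣ) (v : List ℤ) (r : ℕ) :
    chi T (powParam T u v) r = (u : F) ^ T.cochar v r := by
  rw [chi, charOf, show T.cochar v r = ∑ j ∈ Finset.range T.l, v.getD j 0 * T.car j r from rfl]
  have key : ∀ (s : Finset ℕ) (f : ℕ → ℤ), ∏ j ∈ s, (u : F) ^ f j = (u : F) ^ ∑ j ∈ s, f j := by
    intro s f
    induction s using Finset.cons_induction with
    | empty => simp
    | cons j s hj ih => rw [Finset.prod_cons, Finset.sum_cons, ih, zpow_add₀ u.ne_zero]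
  rw [← key]
  refine Finset.prod_congr rfl fun j hj => ?_
  simp [Cert.extC, Finset.mem_range.1 hj, powParam, Units.val_zpow_eq_zpow_val, ← _root_.zpow_mul]

/-- A perfect central extension of a Chevalley group. -/
structure Ext (D : ChevalleyDatum) (F : Type*) [Field F] (E : Type*) [Group E] where
  θ : E →* GL D.Idx F
  central : θ.ker ≤ Subgroup.center E
  range_eq : θ.range = D.group F
  perfect : commutator E = ⊤

namespace Ext

variable {D : ChevalleyDatum} {F : Type*} [Field F] {E : Type*} [Group E]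

open Classical in
/-- Some preimage. -/
noncomputable def lft (X : Ext D F E) (g : GL D.Idx F) : E :=
  if hg : g ∈ X.θ.range then hg.choose else 1

/-- The commutator of preimages. -/
noncomputable def br (X : Ext D F E) (a b : GL D.Idx F) : E := ⁅X.lft a, X.lft b⁆

/-- The lifts of the root elements of two roots commute. -/
def Z (X : Ext D F E) (r s : ℕ) : Prop :=
  ∀ t u : F, X.br (CfsgLib.Chev.X D r t) (CfsgLib.Chev.X D s u) = 1

variable (Y : Ext D F E)

lemma θ_lft {g : GL D.Idx F} (hg : g ∈ D.group F) : Y.θ (Y.lft g) = g := by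
  have hr : g ∈ Y.θ.range := by rw [Y.range_eq]; exact hg
  rw [lft, dif_pos hr]
  exact hr.choose_spec

lemma commute_of_θ_eq_one {z : E} (hz : Y.θ z = 1) (y : E) : Commute z y :=
  (Subgroup.mem_center_iff.1 (Y.central hz) y).symm

lemma conj_congr {g g' : E} (e : Y.θ g = Y.θ g') (y : E) : g * y * g⁻¹ = g' * y * g'⁻¹ := by
  have hz : Y.θ (g'⁻¹ * g) = 1 := by rw [map_mul, map_inv, e, inv_mul_cancel]
  have hc := (Y.commute_of_θ_eq_one hz y).eq
  calc g * y * g⁻¹ = g' * (g'⁻¹ * g * y) * g⁻¹ := by group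
    _ = g' * (y * (g'⁻¹ * g)) * g⁻¹ := by rw [hc]
    _ = g' * y * g'⁻¹ := by group

lemma θ_mem (e : E) : Y.θ e ∈ D.group F := Y.range_eq ▸ ⟨e, rfl⟩

lemma comm_congr {a a' b b' : E} (ea : Y.θ a = Y.θ a') (eb : Y.θ b = Y.θ b') :
    ⁅a, b⁆ = ⁅a', b'⁆ := by
  have h1 : ⁅a, b⁆ = ⁅a', b⁆ := by
    rw [commutatorElement_def, commutatorElement_def, Y.conj_congr ea]
  have h2 : ⁅b, a'⁆ = ⁅b', a'⁆ := by
    rw [commutatorElement_def, commutatorElement_def, Y.conj_congr eb]
  rw [h1, ← commutatorElement_inv b a', h2, commutatorElement_inv]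

lemma br_eq {a b : E} {g k : GL D.Idx F} (ea : Y.θ a = g) (eb : Y.θ b = k) :
    Y.br g k = ⁅a, b⁆ :=
  Y.comm_congr (by rw [Y.θ_lft (ea ▸ Y.θ_mem a), ea]) (by rw [Y.θ_lft (eb ▸ Y.θ_mem b), eb])

lemma θ_br {g k : GL D.Idx F} (hg : g ∈ D.group F) (hk : k ∈ D.group F) :
    Y.θ (Y.br g k) = ⁅g, k⁆ := by
  rw [br, map_commutatorElement, Y.θ_lft hg, Y.θ_lft hk]

lemma θ_br_eq_one {g k : GL D.Idx F} (hg : g ∈ D.group F) (hk : k ∈ D.group F)
    (hc : Commute g k) : Y.θ (Y.br g k) = 1 := by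
  rw [Y.θ_br hg hk]; exact commutatorElement_eq_one_iff_commute.2 hc

lemma conj_br (a : E) {g k : GL D.Idx F} (hg : g ∈ D.group F) (hk : k ∈ D.group F) :
    a * Y.br g k * a⁻¹ = Y.br (Y.θ a * g * (Y.θ a)⁻¹) (Y.θ a * k * (Y.θ a)⁻¹) := by
  refine Eq.trans ?_ (Y.br_eq (a := a * Y.lft g * a⁻¹) (b := a * Y.lft k * a⁻¹)
    (by rw [map_mul, map_mul, map_inv, Y.θ_lft hg])
    (by rw [map_mul, map_mul, map_inv, Y.θ_lft hk])).symm
  exact map_commutatorElement (MulAut.conj a) (Y.lft g) (Y.lft k)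

lemma br_swap (g k : GL D.Idx F) : Y.br k g = (Y.br g k)⁻¹ := (commutatorElement_inv _ _).symm

lemma br_mul_left {g g' k : GL D.Idx F} (hg : g ∈ D.group F) (hg' : g' ∈ D.group F)
    (hk : k ∈ D.group F) (hc : Commute g' k) : Y.br (g * g') k = Y.br g k * Y.br g' k := by
  have hz := Y.commute_of_θ_eq_one (Y.θ_br_eq_one hg' hk hc)
  rw [Y.br_eq (a := Y.lft g * Y.lft g') (b := Y.lft k) (by rw [map_mul, Y.θ_lft hg, Y.θ_lft hg'])
    (Y.θ_lft hk)]
  have e : ⁅Y.lft g * Y.lft g', Y.lft k⁆ = Y.lft g * Y.br g' k * (Y.lft g)⁻¹ * Y.br g k := by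
    simp only [br, commutatorElement_def]; group
  rw [e, ← (hz (Y.lft g)).eq, mul_inv_cancel_right, (hz _).eq]

lemma br_mul_right {g k k' : GL D.Idx F} (hg : g ∈ D.group F) (hk : k ∈ D.group F)
    (hk' : k' ∈ D.group F) (hc : Commute g k') : Y.br g (k * k') = Y.br g k * Y.br g k' := by
  rw [Y.br_swap (k * k') g, Y.br_mul_left hk hk' hg hc.symm, _root_.mul_inv_rev, ← Y.br_swap k g,
    ← Y.br_swap k' g]
  exact (Y.commute_of_θ_eq_one (Y.θ_br_eq_one hg hk' hc) _).eq

lemma commute_of_br {a b : E} (e : Y.br (Y.θ a) (Y.θ b) = 1) : Commute a b :=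
  commutatorElement_eq_one_iff_commute.1 ((Y.br_eq rfl rfl).symm.trans e)

variable {T : Tab} {C : Tab.Cover} (h : Cert D T C)
include h

lemma br_X_add_left {r s : ℕ} (hr : r < T.n) (hs : s < T.n)
    (hc : ∀ t u : F, Commute (X D r t) (X D s u)) (t t' u : F) :
    Y.br (X D r (t + t')) (X D s u) = Y.br (X D r t) (X D s u) * Y.br (X D r t') (X D s u) := by
  rw [← h.X_add hr, Y.br_mul_left (h.X_mem_group hr _) (h.X_mem_group hr _) (h.X_mem_group hs _)
    (hc _ _)]

lemma br_X_add_right {r s : ℕ} (hr : r < T.n) (hs : s < T.n)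
    (hc : ∀ t u : F, Commute (X D r t) (X D s u)) (t u u' : F) :
    Y.br (X D r t) (X D s (u + u')) = Y.br (X D r t) (X D s u) * Y.br (X D r t) (X D s u') := by
  rw [← h.X_add hs, Y.br_mul_right (h.X_mem_group hr _) (h.X_mem_group hs _) (h.X_mem_group hs _)
    (hc _ _)]

lemma br_X_map {g : GL D.Idx F} (hg : g ∈ D.group F) {r s r' s' : ℕ} (hr : r < T.n) (hs : s < T.n)
    {a b : F} (e₁ : ∀ t, g * X D r t * g⁻¹ = X D r' (a * t))
    (e₂ : ∀ t, g * X D s t * g⁻¹ = X D s' (b * t))
    (hc : ∀ t u : F, Commute (X D r t) (X D s u)) (t u : F) :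
    Y.br (X D r' (a * t)) (X D s' (b * u)) = Y.br (X D r t) (X D s u) := by
  rw [← e₁, ← e₂]
  have key := Y.conj_br (Y.lft g) (h.X_mem_group hr t) (h.X_mem_group hs u)
  rw [Y.θ_lft hg] at key
  rw [← key, ← (Y.commute_of_θ_eq_one
    (Y.θ_br_eq_one (h.X_mem_group hr t) (h.X_mem_group hs u) (hc t u)) (Y.lft g)).eq,
    mul_inv_cancel_right]

lemma torusHom_mem (w : Fin T.l → Fˣ) :
    Cert.torusHom (D := D) (T := T) (F := F) w ∈ D.group F :=
  h.diagonal_le_group (by rw [← h.range_torusHom]; exact ⟨w, rfl⟩)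

lemma torusHom_conj (w : Fin T.l → Fˣ) {r : ℕ} (hr : r < T.n) (t : F) :
    Cert.torusHom (D := D) (T := T) (F := F) w * X D r t *
      (Cert.torusHom (D := D) (T := T) (F := F) w)⁻¹ = X D r (chi T w r * t) := by
  rw [mul_inv_eq_iff_eq_mul]
  refine Units.ext ?_
  rw [Units.val_mul, Units.val_mul, h.coe_X, h.coe_X]
  exact h.torus_mul_x (h.isChar_charOf fun i _ => Cert.extC_ne_zero w i) hr t

lemma br_X_torus (w : Fin T.l → Fˣ) {r s : ℕ} (hr : r < T.n) (hs : s < T.n)
    (hc : ∀ t u : F, Commute (X D r t) (X D s u)) (t u : F) :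
    Y.br (X D r (chi T w r * t)) (X D s (chi T w s * u)) = Y.br (X D r t) (X D s u) :=
  Y.br_X_map h (torusHom_mem h w) hr hs (torusHom_conj h w hr) (torusHom_conj h w hs) hc t u

/-! ### Sufficient conditions for `Z` -/

omit h in
lemma Z_symm {r s : ℕ} (hz : Y.Z r s) : Y.Z s r := fun t u => by
  rw [Y.br_swap, hz, inv_one]

/-- A torus element fixing one root and moving the other. -/
lemma Z_of_torus {r s : ℕ} (hr : r < T.n) (hs : s < T.n)
    (hc : ∀ t u : F, Commute (X D r t) (X D s u)) (w : Fin T.l → Fˣ)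
    (hw : chi T w r ≠ 1 ∧ chi T w s = 1 ∨ chi T w r = 1 ∧ chi T w s ≠ 1) : Y.Z r s := by
  intro t u
  have hinv := Y.br_X_torus h w hr hs hc
  rcases hw with ⟨a, b⟩ | ⟨a, b⟩
  · exact kill_left (f := fun t u => Y.br (X D r t) (X D s u)) (Y.br_X_add_left h hr hs hc) a
      (fun t u => by have := hinv t u; rwa [b, one_mul] at this) t u
  · exact kill_right (f := fun t u => Y.br (X D r t) (X D s u)) (Y.br_X_add_right h hr hs hc) b
      (fun t u => by have := hinv t u; rwa [a, one_mul] at this) t u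

/-- No torsion of the characteristic in the kernel. -/
lemma Z_of_char {p : ℕ} [CharP F p] (hp : ∀ z, Y.θ z = 1 → z ^ p = 1 → z = 1) {r s : ℕ}
    (hr : r < T.n) (hs : s < T.n) (hc : ∀ t u : F, Commute (X D r t) (X D s u)) : Y.Z r s :=
  fun t u => kill_char (f := fun t u => Y.br (X D r t) (X D s u)) (Y.br_X_add_left h hr hs hc)
    (p := p) (fun t u => hp _ (Y.θ_br_eq_one (h.X_mem_group hr t) (h.X_mem_group hs u) (hc t u)))
    t u

/-- A root subgroup inside a group generated by root subgroups already commuting with `r`. -/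
lemma Z_of_gen {r s : ℕ} (hr : r < T.n) {S : Set ℕ} (hS : ∀ q ∈ S, q < T.n)
    (hz : ∀ q ∈ S, Y.Z r q) (hgen : ∀ u, X D s u ∈ gen D F S) : Y.Z r s := by
  intro t u
  have key : gen D F S ≤ (Subgroup.centralizer {Y.lft (X D r t)}).map Y.θ := by
    refine (Subgroup.closure_le _).2 ?_
    rintro _ ⟨q, hq, v, rfl⟩
    refine ⟨Y.lft (X D q v), Subgroup.mem_centralizer_singleton_iff.2 ?_,
      Y.θ_lft (h.X_mem_group (hS q hq) v)⟩
    refine ((Y.commute_of_br ?_).eq).symm
    rw [Y.θ_lft (h.X_mem_group hr t), Y.θ_lft (h.X_mem_group (hS q hq) v)]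
    exact hz q hq t v
  obtain ⟨b, hb, eb⟩ := key (hgen u)
  rw [Y.br_eq (Y.θ_lft (h.X_mem_group hr t)) eb, commutatorElement_eq_one_iff_commute]
  exact (Subgroup.mem_centralizer_singleton_iff.1 hb).symm

omit h in
lemma commute_self {r : ℕ} {h' : Cert D T C} (hr : r < T.n) (t u : F) :
    Commute (X D r t) (X D r u) := by
  show _ = _
  rw [h'.X_add hr, h'.X_add hr, add_comm]

/-- Two scalars adding to one. -/
lemma Z_self_of_scalar {r : ℕ} (hr : r < T.n) (w w' : Fin T.l → Fˣ)
    (hsum : chi T w r + chi T w' r = 1) (hne : chi T w r + (chi T w r)⁻¹ - 1 ≠ 0) : Y.Z r r := by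
  intro t u
  have hc := Ext.commute_self (F := F) (h' := h) hr
  set f : F → F → E := fun t u => Y.br (X D r t) (X D r u) with hf
  have hl := Y.br_X_add_left h hr hr hc
  have hrr := Y.br_X_add_right h hr hr hc
  have hcen : ∀ a b y, Commute (f a b) y := fun a b y => Y.commute_of_θ_eq_one
    (Y.θ_br_eq_one (h.X_mem_group hr a) (h.X_mem_group hr b) (hc a b)) y
  set v := chi T w r with hv
  have hv0 : v ≠ 0 := Cert.charOf_ne_zero (fun i _ => Cert.extC_ne_zero w i) r
  have i1 : ∀ a b, f (v * a) (v * b) = f a b := fun a b => Y.br_X_torus h w hr hr hc a b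
  have i2 : ∀ a b, f ((1 - v) * a) ((1 - v) * b) = f a b := fun a b => by
    rw [show 1 - v = chi T w' r by rw [← hsum]; ring]
    exact Y.br_X_torus h w' hr hr hc a b
  have l' : ∀ a a' b, f (a + a') b = f a b * f a' b := hl
  have r' : ∀ a b b', f a (b + b') = f a b * f a b' := hrr
  have key : ∀ a b, f (v * a) b * f a (v * b) = f a b := by
    intro a b
    have h1 : f a b = f (v * a) b * f ((1 - v) * a) b := by
      rw [← l', show v * a + (1 - v) * a = a by ring]
    have h2 : f ((1 - v) * a) b = f ((1 - v) * a) (v * b) * f a b := by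
      conv_rhs => rw [← i2 a b, ← r', show v * b + (1 - v) * b = b by ring]
    have h3 : f (v * a) b * f ((1 - v) * a) (v * b) = 1 := by
      rw [h2, ← mul_assoc] at h1
      exact mul_right_cancel (h1.symm.trans (one_mul _).symm)
    have h4 : f a (v * b) = f a b * f ((1 - v) * a) (v * b) := by
      conv_rhs => rw [← i1 a b, ← l', show v * a + (1 - v) * a = a by ring]
    rw [h4, ← mul_assoc, (hcen (v * a) b (f a b)).eq, mul_assoc, h3, mul_one]
  have key2 : ∀ a b, f ((v + v⁻¹ - 1) * a) b = 1 := fun a b => by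
    have e1 : f a (v * b) = f (v⁻¹ * a) b := by
      have := i1 (v⁻¹ * a) b
      rwa [mul_inv_cancel_left₀ hv0] at this
    have e2 := key a b
    rw [e1, ← l'] at e2
    have e3 := l' ((v + v⁻¹ - 1) * a) a b
    rw [show (v + v⁻¹ - 1) * a + a = v * a + v⁻¹ * a by ring, e2, right_eq_mul] at e3
    exact e3
  have := key2 ((v + v⁻¹ - 1)⁻¹ * t) u
  rwa [mul_inv_cancel_left₀ hne] at this

/-- A prime field. -/
lemma Z_self_of_prime {r : ℕ} (hr : r < T.n) (hF : ∀ t : F, ∃ m : ℕ, (m : F) = t) : Y.Z r r := by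
  intro t u
  have hc := Ext.commute_self (F := F) (h' := h) hr
  obtain ⟨m, rfl⟩ := hF t
  obtain ⟨k, rfl⟩ := hF u
  have h1 := kill_nsmul (f := fun t u => Y.br (X D r t) (X D r u)) (Y.br_X_add_left h hr hr hc) 1
    (k : F) m
  have h2 := kill_nsmul (f := fun u t => Y.br (X D r t) (X D r u))
    (fun u u' t => Y.br_X_add_right h hr hr hc t u u') 1 1 k
  simp only [mul_one] at h1 h2
  rw [h1, h2, show Y.br (X D r 1) (X D r 1) = 1 from commutatorElement_self _, one_pow, one_pow]

/-! ### Transport -/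

/-- Commuting root subgroups stay commuting. -/
lemma commute_refl {i r s : ℕ} (hi : i < T.l) (hr : r < T.n) (hs : s < T.n)
    (hc : ∀ t u : F, Commute (X D r t) (X D s u)) :
    ∀ t u : F, Commute (X D (T.refl i r) t) (X D (T.refl i s) u) := by
  intro t u
  have hη : ∀ a : ℕ, (T.eta i a : F) * (T.eta i a : F) = 1 := fun a => by
    exact_mod_cast congrArg (Int.cast : ℤ → F) (T.eta_sq i a)
  have := (hc ((T.eta i r : F) * t) ((T.eta i s : F) * u)).map (MulAut.conj (nS D F i))
  simpa [MulAut.conj_apply, h.nS_conj_X hi hr, h.nS_conj_X hi hs, ← mul_assoc, hη] using this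

lemma Z_refl {i r s : ℕ} (hi : i < T.l) (hr : r < T.n) (hs : s < T.n)
    (hc : ∀ t u : F, Commute (X D r t) (X D s u)) (hz : Y.Z r s) :
    Y.Z (T.refl i r) (T.refl i s) := by
  intro t u
  have hη : ∀ a : ℕ, (T.eta i a : F) * (T.eta i a : F) = 1 := fun a => by
    exact_mod_cast congrArg (Int.cast : ℤ → F) (T.eta_sq i a)
  have := Y.br_X_map h (h.monomial_le_group (h.nS_mem_monomial hi)) hr hs (h.nS_conj_X hi hr)
    (h.nS_conj_X hi hs) hc ((T.eta i r : F) * t) ((T.eta i s : F) * u)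
  rw [← mul_assoc, hη, one_mul, ← mul_assoc, hη, one_mul] at this
  rw [this]
  exact hz _ _

end Ext

namespace Cert

variable {D : ChevalleyDatum} {T : Tab} {C : Tab.Cover} (h : Cert D T C)
include h

/-- Induction from the representative pairs. -/
theorem pair_induction {P : ℕ → ℕ → Prop}
    (hrefl : ∀ i r s, i < T.l → r < T.n → s < T.n → s ≠ r → s ≠ T.neg r →
      T.chkEdge i r = true → P r s → P (T.refl i r) (T.refl i s))
    (hbase : ∀ b ∈ C.base, ∀ a ∈ b.2.1, a ≠ b.1 → a ≠ T.neg b.1 → P b.1 a)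
    {r s : ℕ} (hr : r < T.n) (hs : s < T.n) (hne : s ≠ r) (hneg : s ≠ T.neg r) : P r s := by
  have h0 := h.coverOk
  simp only [Tab.chkCover, Bool.and_eq_true, List.all_eq_true] at h0
  obtain ⟨-, hbs, htree, hfix⟩ := h0
  refine h.base_induction
    (P := fun r => ∀ s < T.n, s ≠ r → s ≠ T.neg r → P r s)
    (fun b hb => ?_) (fun i hi r hr hmem ih s hs hne hneg => ?_) hr s hs hne hneg
  · intro s hs hne hneg
    obtain ⟨hblt, -, horb, -⟩ := hbs b hb
    simp only [decide_eq_true_eq] at hblt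
    simp only [Tab.chkOrbit] at horb
    split at horb
    · cases horb
    next seen hseen =>
      rw [List.all_eq_true] at horb
      have hs' := horb s (List.mem_range.2 hs)
      simp only [Bool.or_eq_true, decide_eq_true_eq] at hs'
      rcases hs' with (e | e) | hbit
      · exact absurd e hne
      · exact absurd e hneg
      refine covers_spec (P := fun s => s < T.n → s ≠ b.1 → s ≠ T.neg b.1 → P b.1 s)
        _ _ hseen (fun a ha _ h1 h2 => ?_) (fun e he hst ih ha1 ha2 ha3 => ?_) s hbit hs hne hneg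
      · rw [testBit_bitsOf] at ha
        exact hbase b hb a ha h1 h2
      · simp only [decide_eq_true_eq] at hst
        obtain ⟨hi, hx, hax, hbb⟩ := hst
        have hedge : T.chkEdge e.2.1 b.1 = true := by
          have h2 := allBelow_eq_true (hfix b hb) e.2.1 hi
          rwa [T.reflF_eq, hbb, show Nat.beq b.1 b.1 = true from Nat.beq_refl _, cond_true] at h2
        have n1 : e.2.2 ≠ b.1 := fun e' => ha2 (by rw [← hax, e', hbb])
        have n2 : e.2.2 ≠ T.neg b.1 := fun e' =>
          ha3 (by rw [← hax, e', (h.refl_spec hi hblt).2.2.1, hbb])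
        have := hrefl _ _ _ hi hblt hx n1 n2 hedge (ih hx n1 n2)
        rwa [hbb, hax] at this
  · obtain ⟨e, he, he'⟩ := List.mem_map.1 hmem
    simp only [Prod.mk.injEq] at he'
    have hedge := htree e he
    rw [he'.1, he'.2] at hedge
    have n1 : T.refl i s ≠ r := fun e' => hne (by rw [← h.refl_refl hi hs, e'])
    have n2 : T.refl i s ≠ T.neg r := fun e' =>
      hneg (by rw [← h.refl_refl hi hs, e', (h.refl_spec hi hr).2.2.1])
    have := hrefl i r (T.refl i s) hi hr (h.refl_lt hi hs) n1 n2 hedge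
      (ih _ (h.refl_lt hi hs) n1 n2)
    rwa [h.refl_refl hi hs] at this

end Cert

namespace Ext

variable {D : ChevalleyDatum} {F : Type*} [Field F] {E : Type*} [Group E] (Y : Ext D F E)
variable {T : Tab} {C : Tab.Cover} (h : Cert D T C)
include h

/-- All commuting pairs from the representative ones. -/
theorem Z_all
    (hbase : ∀ b ∈ C.base, ∀ a ∈ b.2.1, (∀ t u : F, Commute (X D b.1 t) (X D a u)) → Y.Z b.1 a)
    {r s : ℕ} (hr : r < T.n) (hs : s < T.n) (hne : s ≠ r) (hneg : s ≠ T.neg r)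
    (hc : ∀ t u : F, Commute (X D r t) (X D s u)) : Y.Z r s := by
  refine h.pair_induction
    (P := fun r s => (∀ t u : F, Commute (X D r t) (X D s u)) → Y.Z r s)
    (fun i r s hi hr hs _ _ _ ih hc' => ?_) (fun b hb a ha _ _ => hbase b hb a ha) hr hs hne hneg hc
  have hc0 : ∀ t u : F, Commute (X D r t) (X D s u) := by
    have := commute_refl h (F := F) hi (h.refl_lt hi hr) (h.refl_lt hi hs) hc'
    rwa [h.refl_refl hi hr, h.refl_refl hi hs] at this
  exact Y.Z_refl h hi hr hs hc0 (ih hc0)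

/-- All roots from the base roots. -/
theorem Z_self_all (hbase : ∀ b ∈ C.base, Y.Z b.1 b.1) {r : ℕ} (hr : r < T.n) : Y.Z r r :=
  h.base_induction (P := fun r => Y.Z r r) hbase
    (fun i hi r hr _ ih => Y.Z_refl h hi hr hr (Ext.commute_self (h' := h) hr) ih) hr

end Ext

end CfsgLib.Chev
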