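import Cfsg.Agent.Lib.Chev.CharacterAut

/-!
Graph automorphisms of simply laced types on all root elements.
-/

set_option autoImplicit false
set_option maxRecDepth 100000

namespace CfsgLib.Chev

open Cfsg.Lie Matrix

namespace Tab

/-- Off-diagonal Cartan integers are the negated bond numbers. -/
def chkSingle (T : Tab) : Bool :=
  (List.range T.l).all fun i => (List.range T.l).all fun j =>
    decide (i = j) || decide (T.car i (T.simple j) = -(T.car i (T.simple j) * T.car j (T.simple i)))

/-- Roots are determined by the coroot coefficients. -/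
noncomputable def chkCorInj (T : Tab) : Bool :=
  allBelow T.n fun r => allBelow T.n fun s =>
    cond (Nat.beq r s) true (!(allBelow T.l fun k => Nat.beq (T.corF r k) (T.corF s k)))

end Tab

lemma chkSingleD4 : tabD4.chkSingle = true := by decide +kernel
lemma chkSingleE6 : tabE6.chkSingle = true := by decide +kernel
lemma chkCorInjD4 : tabD4.chkCorInj = true := by decide +kernel
lemma chkCorInjE6 : tabE6.chkCorInj = true := by decide +kernel

/-- A certificate of a simply laced type with a nontrivial symmetry. -/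
theorem exists_cert_single {D : ChevalleyDatum} (hD : D ∈ [chevD4, chevE6]) :
    ∃ T C, Cert D T C ∧ T.chkSingle = true ∧ T.chkCorInj = true := by
  simp only [List.mem_cons, List.not_mem_nil, or_false] at hD
  rcases hD with rfl | rfl
  · exact ⟨_, _, certD4, chkSingleD4, chkCorInjD4⟩
  · exact ⟨_, _, certE6, chkSingleE6, chkCorInjE6⟩

namespace Cert

variable {D : ChevalleyDatum} {T : Tab} {C : Tab.Cover} (h : Cert D T C)
include h

omit h in
lemma cor_inj (hc : T.chkCorInj = true) {r s : ℕ} (hr : r < T.n) (hs : s < T.n)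
    (e : ∀ k < T.l, T.cor r k = T.cor s k) : r = s := by
  have h1 := allBelow_eq_true (allBelow_eq_true hc r hr) s hs
  by_contra hne
  rw [Bool.eq_false_iff.2 fun e => hne (Nat.eq_of_beq_eq_true e), cond_false] at h1
  rw [allBelow_of_forall (n := T.l) fun k hk => by
    have := e k hk
    rw [T.cor_eq', T.cor_eq'] at this
    rw [show T.corF r k = T.corF s k by omega]
    exact Nat.beq_refl _] at h1
  exact Bool.false_ne_true h1

lemma car_perm (hs : T.chkSingle = true) {π : Equiv.Perm (Fin D.rank)}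
    (hπ : D.IsDiagramSymmetry π) (i j : Fin D.rank) :
    T.car (π i).val (T.simple (π j).val) = T.car i.val (T.simple j.val) := by
  have hl : ∀ a : Fin D.rank, a.val < T.l := fun a => lt_of_lt_of_eq a.isLt h.rank_eq
  by_cases e : i = j
  · subst e
    rw [(h.simple_spec (hl _)).2.2.1, (h.simple_spec (hl _)).2.2.1]
  · have hb := hπ i j e
    have key : ∀ a b : Fin D.rank, a ≠ b → T.car a.val (T.simple b.val) = -D.bonds a b := by
      intro a b hab
      rw [ChevalleyDatum.bonds, h.simple_eq (hl b), h.simple_eq (hl a),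
        h.cartan_eq (hl a) (h.simple_lt (hl b)), h.cartan_eq (hl b) (h.simple_lt (hl a))]
      simp only [Tab.chkSingle, List.all_eq_true, List.mem_range, Bool.or_eq_true,
        decide_eq_true_eq] at hs
      exact (hs _ (hl a) _ (hl b)).resolve_left fun e => hab (Fin.ext e)
    rw [key _ _ (fun e' => e (π.injective e')), key _ _ e, hb]

lemma permRoot_eq (hc : T.chkCorInj = true) (π : Equiv.Perm (Fin D.rank)) {r s : ℕ} (hr : r < T.n)
    (hs : s < T.n) (he : ∀ k : Fin D.rank, T.cor s (π k).val = T.cor r k.val) :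
    D.permRoot π r = s := by
  have hl : ∀ a : Fin D.rank, a.val < T.l := fun a => lt_of_lt_of_eq a.isLt h.rank_eq
  have hval : ∀ u, u < T.n → ∀ a : Fin D.rank, (D.coroot.getD u #[]).getD a.val 0 = T.cor u a.val :=
    fun u hu a => h.agrees.cor_eq hu (hl a)
  set p : ℕ → Bool := fun u => (List.finRange D.rank).all fun i =>
      (D.coroot.getD u #[]).getD (π i).val 0 == (D.coroot.getD r #[]).getD i.val 0 with hp
  have hps : p s = true := by
    simp only [hp, List.all_eq_true, beq_iff_eq]
    intro i _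
    rw [hval s hs, hval r hr, he]
  show ((List.range D.nroots).find? p).getD r = s
  rcases hfind : (List.range D.nroots).find? p with _ | u
  · exfalso
    exact List.find?_eq_none.1 hfind s (List.mem_range.2 (lt_of_lt_of_eq hs h.nroots_eq.symm)) hps
  · have hpu := List.find?_some hfind
    have hu : u < T.n :=
      lt_of_lt_of_eq (List.mem_range.1 (List.mem_of_find?_eq_some hfind)) h.nroots_eq
    show u = s
    refine cor_inj hc hu hs fun k hk => ?_
    obtain ⟨i, hi⟩ := π.surjective ⟨k, lt_of_lt_of_eq hk h.rank_eq.symm⟩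
    simp only [hp, List.all_eq_true, beq_iff_eq] at hpu
    have h1 := hpu i (List.mem_finRange i)
    rw [hval u hu, hval r hr, ← he, hi] at h1
    exact h1

variable {F : Type*} [Field F]

theorem graph_root_elem (hsl : T.chkSingle = true) (hc : T.chkCorInj = true)
    {π : Equiv.Perm (Fin D.rank)} (hπ : D.IsDiagramSymmetry π) (φ : ↥(D.group F) →* ↥(D.group F))
    (hφ : ∀ (g : ↥(D.group F)) (i : Fin D.rank) (t : F),
      (((g : GL D.Idx F) : Matrix D.Idx D.Idx F) = D.x F (D.simple i) t →
        ((φ g : GL D.Idx F) : Matrix D.Idx D.Idx F) = D.x F (D.simple (π i)) t) ∧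
      (((g : GL D.Idx F) : Matrix D.Idx D.Idx F) = D.x F (D.neg (D.simple i)) t →
        ((φ g : GL D.Idx F) : Matrix D.Idx D.Idx F) = D.x F (D.neg (D.simple (π i))) t))
    {r : ℕ} (hr : r < T.n) :
    ∃ ε : F, (ε = 1 ∨ ε = -1) ∧ ∀ (g : ↥(D.group F)) (t : F),
      ((g : GL D.Idx F) : Matrix D.Idx D.Idx F) = D.x F r t →
        ((φ g : GL D.Idx F) : Matrix D.Idx D.Idx F) = D.x F (D.permRoot π r) (ε * t) := by
  have hl : ∀ a : Fin D.rank, a.val < T.l := fun a => lt_of_lt_of_eq a.isLt h.rank_eq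
  have hsimple : ∀ (i : Fin D.rank) (t : F) (g : ↥(D.group F)),
      (g : GL D.Idx F) = X D (T.simple i) t → (φ g : GL D.Idx F) = X D (T.simple (π i)) t := by
    intro i t g hg
    refine Units.ext ?_
    rw [h.coe_X, (hφ g i t).1 (by rw [hg, h.coe_X, h.simple_eq (hl i)]), h.simple_eq (hl _)]
  have hneg : ∀ (i : Fin D.rank) (t : F) (g : ↥(D.group F)),
      (g : GL D.Idx F) = X D (T.neg (T.simple i)) t →
        (φ g : GL D.Idx F) = X D (T.neg (T.simple (π i))) t := by
    intro i t g hg
    refine Units.ext ?_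
    rw [h.coe_X, (hφ g i t).2 (by
      rw [hg, h.coe_X, h.simple_eq (hl i), h.neg_eq (h.simple_lt (hl i))]),
      h.simple_eq (hl _), h.neg_eq (h.simple_lt (hl _))]
  have hnS : ∀ (i : Fin D.rank) (g : ↥(D.group F)),
      (g : GL D.Idx F) = nS D F i → (φ g : GL D.Idx F) = nS D F (π i) := by
    intro i g hg
    have key : ∀ j : Fin D.rank, nS D F j.val = X D (T.simple j) 1 * X D (T.neg (T.simple j)) (-1) *
        X D (T.simple j) (1 : F) := by
      intro j
      rw [nS, h.simple_eq (hl j), nU, h.neg_eq (h.simple_lt (hl j)), inv_one]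
    let a : ↥(D.group F) := ⟨_, h.X_mem_group (h.simple_lt (hl i)) 1⟩
    let b : ↥(D.group F) := ⟨_, h.X_mem_group (neg_lt (T := T) (h.simple_lt (hl i))) (-1)⟩
    have e : g = a * b * a := Subtype.ext (by rw [hg, key]; rfl)
    rw [e, map_mul, map_mul, Subgroup.coe_mul, Subgroup.coe_mul, hsimple i 1 a rfl,
      hneg i (-1) b rfl, key]
  suffices key : ∃ s < T.n, (∀ k : Fin D.rank, T.cor s (π k).val = T.cor r k.val) ∧
      ∃ ε : F, (ε = 1 ∨ ε = -1) ∧ ∀ (g : ↥(D.group F)) (t : F),
        (g : GL D.Idx F) = X D r t → (φ g : GL D.Idx F) = X D s (ε * t) by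
    obtain ⟨s, hs, he, ε, hε, hmap⟩ := key
    refine ⟨ε, hε, fun g t hg => ?_⟩
    rw [h.permRoot_eq hc π hr hs he, ← h.coe_X s, hmap g t (h.coe_eq_iff.1 hg)]
  refine h.root_induction (P := fun r => ∃ s < T.n, (∀ k : Fin D.rank,
      T.cor s (π k).val = T.cor r k.val) ∧ ∃ ε : F, (ε = 1 ∨ ε = -1) ∧
      ∀ (g : ↥(D.group F)) (t : F), (g : GL D.Idx F) = X D r t →
        (φ g : GL D.Idx F) = X D s (ε * t)) (fun i hi => ?_) (fun i hi r hr ih => ?_) hr
  · obtain ⟨i', rfl⟩ : ∃ i' : Fin D.rank, i'.val = i := ⟨⟨i, lt_of_lt_of_eq hi h.rank_eq.symm⟩, rfl⟩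
    refine ⟨_, h.simple_lt (hl (π i')), fun k => ?_, 1, Or.inl rfl, fun g t hg => ?_⟩
    · rw [(h.simple_spec (hl (π i'))).2.2.2 _ (hl _), (h.simple_spec hi).2.2.2 _ (hl _)]
      simp [Fin.val_inj]
    · rw [hsimple i' t g hg, one_mul]
  · obtain ⟨i', rfl⟩ : ∃ i' : Fin D.rank, i'.val = i := ⟨⟨i, lt_of_lt_of_eq hi h.rank_eq.symm⟩, rfl⟩
    obtain ⟨s, hs, he, ε, hε, hmap⟩ := ih
    refine ⟨T.refl (π i') s, h.refl_lt (hl _) hs, fun k => ?_,
      (T.eta i' r : F) * (T.eta (π i') s : F) * ε, ?_, fun g t hg => ?_⟩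
    · rw [(h.refl_spec (hl (π i')) hs).2.2.2.2.2.2.2.2 _ (hl _),
        (h.refl_spec hi hr).2.2.2.2.2.2.2.2 _ (hl _), he]
      congr 1
      simp only [Fin.val_inj, π.injective.eq_iff]
      split_ifs
      · simp only [Tab.pairing_eq_sum]
        rw [← h.rank_eq, ← Fin.sum_univ_eq_sum_range, ← Fin.sum_univ_eq_sum_range]
        rw [← Equiv.sum_comp π]
        exact Finset.sum_congr rfl fun m _ => by rw [he, h.car_perm hsl hπ]
      · rfl
    · rcases T.eta_cases i' r with e1 | e1 <;> rcases T.eta_cases (π i') s with e2 | e2 <;>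
        rcases hε with e3 | e3 <;> simp [e1, e2, e3]
    · have hn : nS D F i'.val ∈ D.group F := h.monomial_le_group (h.nS_mem_monomial hi)
      let n : ↥(D.group F) := ⟨_, hn⟩
      let x : ↥(D.group F) := ⟨_, h.X_mem_group hr ((T.eta i' r : F) * t)⟩
      have hη : (T.eta i' r : F) * (T.eta i' r : F) = 1 := by
        rw [← Int.cast_mul, T.eta_sq, Int.cast_one]
      have e : g = n * x * n⁻¹ := by
        refine Subtype.ext ?_
        rw [hg]
        show _ = nS D F i'.val * X D r ((T.eta i' r : F) * t) * (nS D F i'.val)⁻¹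
        rw [h.nS_conj_X hi hr, ← mul_assoc, hη, one_mul]
      rw [e, map_mul, map_mul, map_inv, Subgroup.coe_mul, Subgroup.coe_mul, Subgroup.coe_inv,
        hnS i' n rfl, hmap x _ rfl, h.nS_conj_X (hl _) hs]
      congr 1
      ring

end Cert

end CfsgLib.Chev
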