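import Cfsg.Agent.Lib.Chev.Unipotent

/-!
The group generated by all root elements and its standard subgroups.
-/

set_option autoImplicit false

namespace CfsgLib.Chev

open Cfsg.Lie Matrix

/-- `n_p` for the `i`-th simple root, as a unit. -/
noncomputable def nS (D : ChevalleyDatum) (F : Type*) [Field F] (i : ℕ) : GL D.Idx F :=
  nU D (D.simple i) (1 : F)

namespace Cert

variable {D : ChevalleyDatum} {T : Tab} {C : Tab.Cover} (h : Cert D T C) {F : Type*} [Field F]
include h

lemma group_eq : D.group F = gen D F {r | r < T.n} := by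
  have hn := h.nroots_eq
  unfold ChevalleyDatum.group gen
  congr 1
  ext g
  simp only [Set.mem_ofPred_eq]
  constructor
  · rintro ⟨r, t, e⟩
    refine ⟨r.val, by omega, t, ?_⟩
    rw [← h.coe_eq_iff, e]
    simp [ChevalleyDatum.x, r.isLt]
  · rintro ⟨r, hr, t, rfl⟩
    refine ⟨⟨r, by omega⟩, t, ?_⟩
    rw [h.coe_X]
    simp [ChevalleyDatum.x, show r < D.nroots by omega]

lemma X_mem_group {r : ℕ} (hr : r < T.n) (t : F) : X D r t ∈ D.group F := by
  rw [h.group_eq]; exact X_mem_gen D (S := {r | r < T.n}) hr t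

lemma nU_mem_group {r : ℕ} (hr : r < T.n) (t : F) : nU D r t ∈ D.group F := by
  unfold nU
  rw [h.neg_eq hr]
  exact mul_mem (mul_mem (h.X_mem_group hr t) (h.X_mem_group (neg_lt (T := T) hr) _))
    (h.X_mem_group hr t)

theorem diagonal_le_group : D.diagonalSubgroup F ≤ D.group F := by
  refine (Subgroup.closure_le _).2 ?_
  rintro g ⟨r, t, hr, -, e⟩
  rw [h.nroots_eq] at hr
  rw [show g = hU D r t from Units.ext (e.trans (h.coe_hU r t).symm)]
  exact mul_mem (h.nU_mem_group hr t) (h.nU_mem_group hr _)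

theorem monomial_le_group : D.monomialSubgroup F ≤ D.group F := by
  refine sup_le h.diagonal_le_group ((Subgroup.closure_le _).2 ?_)
  rintro g ⟨r, hr, e⟩
  rw [h.nroots_eq] at hr
  rw [show g = nU D r 1 from Units.ext (e.trans (h.coe_nU r 1).symm)]
  exact h.nU_mem_group hr 1

theorem posUnipotent_le_group : D.posUnipotent F ≤ D.group F := by
  rw [h.posUnipotent_eq, h.group_eq]; exact gen_mono D fun r hr => hr.2

theorem negUnipotent_le_group : D.negUnipotent F ≤ D.group F := by
  rw [h.negUnipotent_eq, h.group_eq]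
  refine gen_mono D fun r hr => ?_
  have := h.two_mul_half
  have : r < T.half := hr
  show r < T.n
  omega

theorem borel_le_group : D.borelSubgroup F ≤ D.group F :=
  sup_le h.posUnipotent_le_group h.diagonal_le_group

theorem posUnipotent_sup_negUnipotent : D.posUnipotent F ⊔ D.negUnipotent F = D.group F := by
  refine le_antisymm (sup_le h.posUnipotent_le_group h.negUnipotent_le_group) ?_
  rw [h.group_eq]
  refine (Subgroup.closure_le _).2 ?_
  rintro _ ⟨r, hr, t, rfl⟩
  by_cases hh : T.half ≤ r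
  · refine Subgroup.mem_sup_left ?_
    rw [h.posUnipotent_eq]; exact X_mem_gen D (S := posSet T) ⟨hh, hr⟩ t
  · refine Subgroup.mem_sup_right ?_
    rw [h.negUnipotent_eq]; exact X_mem_gen D (S := {r | r < T.half}) (not_le.1 hh) t

lemma coe_nS (i : ℕ) : (nS D F i : Matrix D.Idx D.Idx F) = D.nMat F (D.simple i) 1 := h.coe_nU _ _

lemma nS_conj_X {i : ℕ} (hi : i < T.l) {r : ℕ} (hr : r < T.n) (t : F) :
    nS D F i * X D r t * (nS D F i)⁻¹ = X D (T.refl i r) ((T.eta i r : F) * t) := by
  rw [mul_inv_eq_iff_eq_mul]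
  refine Units.ext ?_
  rw [Units.val_mul, Units.val_mul, h.coe_nS, h.coe_X, h.coe_X, h.nMat_mul_x hi hr]

lemma nS_mem_monomial {i : ℕ} (hi : i < T.l) : nS D F i ∈ D.monomialSubgroup F := by
  refine Subgroup.mem_sup_right (Subgroup.subset_closure ⟨D.simple i, ?_, h.coe_nS i⟩)
  rw [h.simple_eq hi, h.nroots_eq]; exact h.simple_lt hi

/-- Two subgroups containing the positive root elements and all `n_p` contain the group. -/
theorem group_le_of {K : Subgroup (GL D.Idx F)}
    (hX : ∀ i < T.l, ∀ t : F, X D (T.simple i) t ∈ K) (hN : ∀ i < T.l, nS D F i ∈ K) :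
    D.group F ≤ K := by
  rw [h.group_eq]
  refine (Subgroup.closure_le _).2 ?_
  rintro _ ⟨r, hr, t, rfl⟩
  refine h.root_induction (P := fun r => ∀ t : F, X D r t ∈ K) hX (fun i hi r hr ih t => ?_) hr t
  have := mul_mem (mul_mem (hN i hi) (ih ((T.eta i r : F) * t))) (inv_mem (hN i hi))
  rw [h.nS_conj_X hi hr, ← mul_assoc] at this
  rcases T.eta_cases i r with e | e <;> simpa [e] using this

lemma X_simple_mem_posUnipotent {i : ℕ} (hi : i < T.l) (t : F) :
    X D (T.simple i) t ∈ D.posUnipotent F := by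
  rw [h.posUnipotent_eq]
  exact X_mem_gen D (S := posSet T) ⟨(h.simple_spec hi).1, h.simple_lt hi⟩ t

theorem borel_sup_monomial : D.borelSubgroup F ⊔ D.monomialSubgroup F = D.group F :=
  le_antisymm (sup_le h.borel_le_group h.monomial_le_group)
    (h.group_le_of (fun _ hi t => Subgroup.mem_sup_left (Subgroup.mem_sup_left
      (h.X_simple_mem_posUnipotent hi t))) fun _ hi => Subgroup.mem_sup_right (h.nS_mem_monomial hi))

/-- Field automorphisms act on the root elements. -/
lemma x_map (f : F →+* F) {r : ℕ} (hr : r < T.n) (t : F) :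
    (D.x F r t).map f = D.x F r (f t) := by
  ext a b
  rw [Matrix.map_apply, x_apply h.agrees hr, x_apply h.agrees hr, map_list_sum, List.map_map]
  refine congrArg List.sum (List.map_congr_left fun q _ => ?_)
  simp [apply_ite f]

end Cert

end CfsgLib.Chev
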