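import Cfsg.Agent.Lib.Chev.Unipotent
import Cfsg.Agent.Lib.Chev.All

/-!
Gradings of the coordinates by height.
-/

set_option autoImplicit false
set_option maxRecDepth 100000

namespace CfsgLib.Chev

open Cfsg.Lie Matrix

/-- The coordinates numbered by `Q`, the coroots by `mid`. -/
def numbering (D : ChevalleyDatum) (Q : List ℕ) (mid : ℕ) : D.Idx → ℕ
  | Sum.inl _ => mid
  | Sum.inr v => Q.getD v.val 0

/-- `Q` strictly increases along positive root elements. -/
def Tab.chkNumbering (T : Tab) (Q : List ℕ) (mid : ℕ) : Bool :=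
  (List.range T.n).all fun r => decide (r < T.half) ||
    (decide (mid < Q.getD r 0 ∧ Q.getD (T.neg r) 0 < mid) &&
      (List.range T.n).all fun s => (T.entry r s).all fun q =>
        decide (Q.getD s 0 < Q.getD q.1 0))

namespace Cert

variable {D : ChevalleyDatum} {T : Tab} {C : Tab.Cover} (h : Cert D T C) {F : Type*} [Field F]
include h

lemma low_x_numbering {Q : List ℕ} {mid : ℕ} (hQ : T.chkNumbering Q mid = true) {r : ℕ}
    (hh : T.half ≤ r) (hr : r < T.n) (t : F) :
    Low (numbering D Q mid) 1 (D.x F r t - 1) := by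
  simp only [Tab.chkNumbering, Bool.and_eq_true, Bool.or_eq_true, List.all_eq_true, List.mem_range,
    decide_eq_true_eq] at hQ
  rcases hQ r hr with hlt | ⟨⟨h1, h2⟩, h3⟩
  · omega
  intro a b hab
  by_cases e : a = b
  · subst e; rw [Matrix.sub_apply, h.x_diag hr, Matrix.one_apply_eq, sub_self]
  rw [Matrix.sub_apply, Matrix.one_apply_ne e, sub_zero]
  by_contra he
  rcases a with j | v <;> rcases b with k | s
  · rw [h.x_inl_inl hr] at he
    exact absurd (if_neg fun e' => e (congrArg Sum.inl e')) he
  · rw [h.x_inl_inr hr] at he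
    split_ifs at he with e'
    · simp only [numbering, e'] at hab; omega
    · exact absurd rfl he
  · rw [h.x_inr_inl hr] at he
    split_ifs at he with e'
    · simp only [numbering, e'] at hab; omega
    · exact absurd rfl he
  · have hv : v.val ≠ s.val := fun e' => e (congrArg Sum.inr (Fin.ext e'))
    simp only [numbering] at hab
    by_cases e1 : s.val = r
    · rw [h.x_inr_inr_self hr _ _ e1, if_neg (by omega)] at he
      exact absurd rfl he
    by_cases e2 : s.val = T.neg r
    · rw [h.x_inr_inr_neg hr _ _ e2, if_neg (by omega)] at he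
      split_ifs at he with e3
      · rw [e3, e2] at hab; omega
      · exact absurd rfl he
    rw [h.x_inr_inr hr _ _ e1 e2, if_neg hv, zero_add] at he
    refine he (List.sum_eq_zero fun z hz => ?_)
    obtain ⟨q, hq, rfl⟩ := List.mem_map.1 hz
    refine if_neg fun e3 => ?_
    have := h3 s.val (lt_of_lt_of_eq s.isLt h.nroots_eq) q.1 (List.fst_mem_of_mem_zipIdx hq)
    rw [e3] at this
    omega

lemma posUnipotent_le_lowGroup_numbering {Q : List ℕ} {mid : ℕ}
    (hQ : T.chkNumbering Q mid = true) :
    D.posUnipotent F ≤ lowGroup F (numbering D Q mid) 1 := by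
  rw [h.posUnipotent_eq, gen, Subgroup.closure_le]
  rintro _ ⟨r, hr, t, rfl⟩
  exact ⟨by rw [h.coe_X]; exact h.low_x_numbering hQ hr.1 hr.2 t,
    by rw [h.X_inv hr.2, h.coe_X]; exact h.low_x_numbering hQ hr.1 hr.2 _⟩

end Cert

/-- Heights in type F4. -/
def heightF4 : List ℕ :=
  [0, 1, 2, 3, 4, 5, 6, 4, 5, 6, 7, 7, 8, 9, 10, 6, 7, 8, 8, 9, 10, 9, 10, 10,
   12, 12, 13, 12, 13, 14, 14, 15, 16, 12, 13, 14, 15, 15, 16, 17, 18, 16, 17, 18, 19, 20, 21, 22]

theorem chkNumberingF4 : tabF4.chkNumbering heightF4 11 = true := by decide +kernel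

lemma heightF4_lt (a : chevF4.Idx) : numbering chevF4 heightF4 11 a < 23 := by
  rcases a with j | v
  · show 11 < 23
    omega
  · simp only [numbering]
    rcases lt_or_ge v.val heightF4.length with hv | hv
    · rw [List.getD_eq_getElem _ _ hv]
      exact (by decide +kernel : ∀ x ∈ heightF4, x < 23) _ (List.getElem_mem hv)
    · rw [List.getD_eq_default _ _ hv]
      omega

/-- In characteristic 2 the positive unipotent group of F4 has exponent dividing 32. -/
theorem pow_eq_one_of_mem_posUnipotentF4 {F : Type*} [Field F] [CharP F 2]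
    {g : GL chevF4.Idx F} (hg : g ∈ chevF4.posUnipotent F) : g ^ 32 = 1 := by
  have h1 := (certF4.posUnipotent_le_lowGroup_numbering chkNumberingF4 hg).1
  have h2 := (h1.pow 32).eq_zero heightF4_lt (by omega)
  refine Units.ext ?_
  rw [Units.val_pow_eq_pow_val, Units.val_one]
  have : Nonempty chevF4.Idx := ⟨Sum.inl ⟨0, by decide⟩⟩
  have : CharP (Matrix chevF4.Idx chevF4.Idx F) 2 :=
    charP_of_injective_ringHom (f := Matrix.scalar chevF4.Idx)
      (fun a b e => Matrix.scalar_inj.1 e) 2
  have h3 := sub_pow_char_pow_of_commute (R := Matrix chevF4.Idx chevF4.Idx F) 2 5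
    (Commute.one_right (g : Matrix chevF4.Idx chevF4.Idx F))
  rw [show (2 : ℕ) ^ 5 = 32 from rfl, h2, one_pow] at h3
  exact sub_eq_zero.1 h3.symm

end CfsgLib.Chev
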