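import Cfsg.Agent.Lib.Chev.InvolCert
import Cfsg.Agent.Lib.Chev.SteinbergChar
import Cfsg.Agent.Lib.Chev.CentPair

/-!
Involutions of a Chevalley group in characteristic 2: conjugation into `U`, targets, invariants.
-/

set_option autoImplicit false

namespace CfsgLib.Chev

open Cfsg.Lie Matrix

namespace Tab

variable (T : Tab)

/-- A root state covering the unipotent group. -/
noncomputable def chkRoot (s : InvState) : Bool :=
  decide (s.N = []) && allBelow T.n fun r => cond (Nat.ble T.half r) (bmem s.S r) true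

/-- A target with its rank. -/
noncomputable def chkTarget (t : List ℕ) (k : ℕ) : Bool :=
  T.okN t && Nat.blt 0 k && T.chkRank t k

end Tab

namespace Cert

variable {D : ChevalleyDatum} {T : Tab} {C : Tab.Cover} (h : Cert D T C) {F : Type*} [Field F]
include h

/-- An element of 2-power order is conjugate into `U`. -/
lemma exists_conj_mem_posUnipotent [Fintype F] [CharP F 2] {g : GL D.Idx F} (hg : g ∈ D.group F)
    (hord : orderOf g = 2) : ∃ x ∈ D.group F, x * g * x⁻¹ ∈ D.posUnipotent F := by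
  classical
  have : Fact (Nat.Prime 2) := ⟨Nat.prime_two⟩
  have hUG : D.posUnipotent F ≤ D.group F := h.posUnipotent_le_group
  have hcU : Nat.card ((D.posUnipotent F).subgroupOf (D.group F)) =
      2 ^ (Nat.card ↥(D.group F)).factorization 2 := by
    rw [Nat.card_congr (Subgroup.subgroupOfEquivOfLe hUG).toEquiv, h.card_posUnipotent,
      h.factorization_card_group]
  let P : Sylow 2 ↥(D.group F) := Sylow.ofCard _ hcU
  have hz : IsPGroup 2 (Subgroup.zpowers (⟨g, hg⟩ : ↥(D.group F))) := by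
    refine IsPGroup.of_card (n := 1) ?_
    rw [Nat.card_zpowers, ← Subgroup.orderOf_coe, pow_one]
    exact hord
  obtain ⟨Q, hQ⟩ := hz.exists_le_sylow
  obtain ⟨x, hx⟩ := MulAction.exists_smul_eq ↥(D.group F) Q P
  refine ⟨x, x.2, ?_⟩
  have h1 : MulAut.conj x ⟨g, hg⟩ ∈ (P : Subgroup ↥(D.group F)) := by
    rw [← hx, Sylow.coe_subgroup_smul]
    exact Subgroup.smul_mem_pointwise_smul _ (MulAut.conj x) _ (hQ (Subgroup.mem_zpowers _))
  rwa [Sylow.coe_ofCard] at h1

/-- A checked certificate meets every class of involutions. -/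
theorem invol_exists [Fintype F] [CharP F 2] {tg : List (List ℕ)}
    {W : List (List ℕ × List ℕ × List ℕ)} {st : ℕ → InvState} {k : ℕ} (hW : T.chkRel W = true)
    (hchk : ∀ j < k, T.chkInvState tg W st j = true) {r : ℕ} (hr : r < k)
    (hroot : T.chkRoot (st r) = true) {g : GL D.Idx F} (hg : g ∈ D.group F)
    (hord : orderOf g = 2) :
    ∃ t ∈ tg, t ≠ [] ∧ ∃ x ∈ D.group F, x * g * x⁻¹ = oneProd D F t := by
  obtain ⟨x, hx, hu⟩ := h.exists_conj_mem_posUnipotent hg hord
  obtain ⟨-, hgood⟩ := h.chkInvState_sound (F := F) hW hchk r hr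
  simp only [Tab.chkRoot, Bool.and_eq_true, decide_eq_true_eq] at hroot
  obtain ⟨hN, hS⟩ := hroot
  rw [hN] at hgood
  have hsub : posSet T ⊆ maskSet T (st r).S := fun a ha => by
    have := allBelow_eq_true hS a ha.2
    rw [Nat.ble_eq_true_of_le ha.1, cond_true, bmem_eq] at this
    exact ⟨ha.2, this⟩
  have hsq : g * g = 1 := by rw [← pow_two, ← hord, pow_orderOf_eq_one]
  have hone : oneProd D F [] = 1 := by simp [oneProd]
  rw [h.posUnipotent_eq] at hu
  obtain ⟨t, ht, z, hz, e⟩ := hgood (x * g * x⁻¹) (gen_mono D hsub hu) (by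
    rw [hone, one_mul, show x * g * x⁻¹ * (x * g * x⁻¹) = x * (g * g) * x⁻¹ by group, hsq]
    group)
  rw [hone, one_mul] at e
  refine ⟨t, ht, fun ht0 => ?_, z * x, mul_mem hz hx, by rw [← e]; group⟩
  rw [ht0, hone] at e
  have : g = 1 := by
    have h1 : z * x * g * (z * x)⁻¹ = 1 := by rw [← e]; group
    rwa [mul_inv_eq_one, mul_eq_left] at h1
  rw [this, orderOf_one] at hord
  exact absurd hord (by norm_num)

/-- A target is an involution of the group. -/
theorem target_spec [CharP F 2] {t : List ℕ} {k : ℕ} (e : T.chkTarget t k = true) :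
    oneProd D F t ∈ D.group F ∧ orderOf (oneProd D F t) = 2 ∧
      ((oneProd D F t : Matrix D.Idx D.Idx F) - 1).rank = k := by
  have : Fact (Nat.Prime 2) := ⟨Nat.prime_two⟩
  simp only [Tab.chkTarget, Bool.and_eq_true] at e
  obtain ⟨⟨e1, e2⟩, e3⟩ := e
  have hlt := (h.okN_spec (F := F) e1).1
  have hk : 0 < k := Nat.le_of_ble_eq_true e2
  have hrank := h.rank_oneProd (F := F) hlt e3
  refine ⟨h.oneProd_mem_group hlt, orderOf_eq_prime (by rw [pow_two]; exact h.oneProd_sq e1) ?_,
    hrank⟩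
  intro h1
  rw [h1, Units.val_one, sub_self, Matrix.rank_zero] at hrank
  omega

omit h in
/-- Conjugates have equal rank of `g - 1`. -/
lemma rank_sub_one_conj {n : Type*} [Fintype n] [DecidableEq n] (x g : GL n F) :
    ((x * g * x⁻¹ : GL n F) - 1 : Matrix n n F).rank = ((g : Matrix n n F) - 1).rank := by
  have e : ((x * g * x⁻¹ : GL n F) : Matrix n n F) - 1 =
      (x : Matrix n n F) * ((g : Matrix n n F) - 1) * (x⁻¹ : GL n F) := by
    rw [mul_sub, sub_mul, mul_one, Units.val_mul, Units.val_mul, ← Units.val_mul x x⁻¹,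
      mul_inv_cancel, Units.val_one]
  rw [e, Matrix.rank_mul_eq_left_of_isUnit_det _ _
      ((Matrix.isUnit_iff_isUnit_det _).1 (x⁻¹).isUnit),
    Matrix.rank_mul_eq_right_of_isUnit_det _ _ ((Matrix.isUnit_iff_isUnit_det _).1 x.isUnit)]

/-- Different ranks, different classes. -/
theorem target_rank_eq [CharP F 2] {t t' : List ℕ} {k k' : ℕ} (e : T.chkTarget t k = true)
    (e' : T.chkTarget t' k' = true) {x : GL D.Idx F}
    (hx : x * oneProd D F t * x⁻¹ = oneProd D F t') : k = k' := by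
  obtain ⟨-, -, r1⟩ := h.target_spec (F := F) e
  obtain ⟨-, -, r2⟩ := h.target_spec (F := F) e'
  rw [← hx, rank_sub_one_conj, r1] at r2
  exact r2

/-- A root element at a dominant root is conjugate only to those at its orbit. -/
theorem central_not_conj [CharP F 2] {a b : ℕ} {O : List ℕ} (ha : T.chkCentral a = true)
    (hb : b ∈ posSet T) (haO : a ∈ O) (hbO : b ∉ O)
    (hO : ∀ r ∈ O, ∀ i < T.l, T.refl i r ∈ O)
    (hab : ∀ r < T.n, T.half ≤ r → ∀ s < T.n, b ≤ s → T.half ≤ s → s ≠ r →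
      ∀ q ∈ T.oddTerms r s, b < q.1)
    {g : GL D.Idx F} (hg : g ∈ D.group F) : g * X D a 1 * g⁻¹ ≠ X D b 1 := by
  intro e
  obtain ⟨b₀, hb₀, n, hn, u, hu, rfl⟩ := h.bruhat_exists hg
  obtain ⟨w, hw, t, ht, rfl⟩ := h.exists_word_of_monomial hn
  have huU : u ∈ D.posUnipotent F := by
    rw [h.cellUnipotent_eq (π := rword T w) fun r hr =>
      ⟨h.rword_lt hw hr, Maps_mul (h.Maps_diagonal ht hr) (h.Maps_nW hw hr)⟩] at hu
    rw [h.posUnipotent_eq]; exact gen_mono D Set.sdiff_subset hu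
  have ha' : a < T.n := by
    simp only [Tab.chkCentral, Bool.and_eq_true, decide_eq_true_eq] at ha
    exact ha.1.2
  have hM := Maps_mul (h.Maps_diagonal (F := F) ht ha') (h.Maps_nW hw ha')
  obtain ⟨z', z'', hz', -, e1, -⟩ := h.exists_conj_central ha hb₀ huU hM (one_ne_zero (α := F))
  obtain ⟨v, hv, d, hd, rfl⟩ := h.mem_borel_iff.1 hb₀
  have hs : rword T w a ∈ O := by
    clear hM e e1 huU hu hn ht hg
    induction w with
    | nil => exact haO
    | cons i w ih => exact hO _ (ih hw.tail) i hw.head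
  have hsn := h.rword_lt hw ha'
  obtain ⟨c, hc, hdc⟩ := h.conj_X_of_mem_diagonal hd hsn z'
  set Q := gen D F {r | r ∈ posSet T ∧ b < r}
  have step : ∀ r ∈ posSet T, ∀ s ∈ posSet T, b ≤ s → ∀ x y : F,
      ModQ Q (X D r x * X D s y * (X D r x)⁻¹) (X D s y) := by
    intro r hr s hs hbs x y
    by_cases hrs : s = r
    · subst hrs
      exact ModQ.of_eq (by rw [h.X_add hr.2, h.X_inv hr.2, h.X_add hr.2]; congr 1; ring)
    rw [h.X_conj_odd hr.2 hs.2 hrs (Cert.posSet_neg_ne h hr hs)]
    show (X D s y)⁻¹ * (X D s y * _) ∈ Q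
    rw [inv_mul_cancel_left]
    refine list_prod_mem fun z hz => ?_
    obtain ⟨q, hq, rfl⟩ := List.mem_map.1 hz
    exact X_mem_gen D (show q.1 ∈ {r | r ∈ posSet T ∧ b < r} from
      ⟨h.commClosed_posSet r hr s hs hrs q (List.mem_filter.1 hq).1,
        hab r hr.2 hr.1 s hs.2 hbs hs.1 hrs q hq⟩) _
  have hbQ : ∀ x ∈ D.posUnipotent F, x ∈ Subgroup.normalizer (Q : Set (GL D.Idx F)) ∧
      ModQ Q (x * X D b 1 * x⁻¹) (X D b 1) := by
    intro x hx
    rw [h.posUnipotent_eq] at hx
    induction hx using Subgroup.closure_induction with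
    | mem x hx =>
      obtain ⟨r, hr, p, rfl⟩ := hx
      refine ⟨le_normalizer_closure (H := gen D F {r}) ?_ (X_mem_gen D (Set.mem_singleton r) p),
        step r hr b hb le_rfl p 1⟩
      rintro g hg y ⟨s, ⟨hs', hsb⟩, z, rfl⟩
      obtain ⟨x, rfl⟩ := (h.gen_singleton hr.2).1 hg
      have h1 := mul_mem (X_mem_gen D (F := F)
        (show s ∈ {r | r ∈ posSet T ∧ b < r} from ⟨hs', hsb⟩) z)
        (step r hr s hs' hsb.le x z)
      rwa [mul_inv_cancel_left] at h1
    | one => exact ⟨one_mem _, ModQ.of_eq (by group)⟩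
    | mul x y _ _ ix iy =>
      exact ⟨mul_mem ix.1 iy.1,
        (ModQ.of_eq (by group)).trans ((iy.2.conj ix.1).trans ix.2)⟩
    | inv x _ ix =>
      exact ⟨inv_mem ix.1,
        ((ix.2.conj (inv_mem ix.1)).symm).trans (ModQ.of_eq (by group))⟩
  obtain ⟨-, hm⟩ := hbQ v⁻¹ (inv_mem hv)
  have e2 : v⁻¹ * X D b 1 * v⁻¹⁻¹ = X D (rword T w a) (c * z') := by
    rw [← hdc, ← e1, ← e]
    group
  rw [e2] at hm
  set s := rword T w a
  have hsb : s ≠ b := fun e' => hbO (e' ▸ hs)
  have hpos : T.half ≤ s := by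
    by_contra hneg
    have hU : X D s (c * z') ∈ D.posUnipotent F := by
      rw [← e2]
      have hXb : X D b (1 : F) ∈ D.posUnipotent F := by
        rw [h.posUnipotent_eq]; exact X_mem_gen D hb 1
      exact mul_mem (mul_mem (inv_mem hv) hXb)
        (inv_mem (inv_mem hv))
    have hV : X D s (c * z') ∈ D.negUnipotent F := by
      rw [h.negUnipotent_eq]; exact X_mem_gen D (show s ∈ {r | r < T.half} from not_le.1 hneg) _
    have h1 := Subgroup.mem_inf.2 ⟨(Subgroup.mem_sup_left hU : _ ∈ D.borelSubgroup F), hV⟩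
    change _ ∈ D.borelSubgroup F ⊓ D.negUnipotent F at h1
    rw [h.borel_inf_negUnipotent, Subgroup.mem_bot, ← h.X_zero (F := F) hsn] at h1
    exact mul_ne_zero hc hz' (h.X_inj hsn h1)
  have hsP : s ∈ posSet T := ⟨hpos, hsn⟩
  -- coordinates in `U`
  set L := posList T
  have hL : L.SortedLT := sortedLT_posList
  have hlt : ∀ r ∈ L, r < T.n := fun r hr => (mem_posList.1 hr).2
  obtain ⟨f, hf⟩ := h.exists_prodX_odd (L.filter fun r => decide (b < r))
    (hL.pairwise.filter _).sortedLT (fun r hr => mem_posList.1 (List.mem_filter.1 hr).1)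
    (fun r hr s' hs' hlt' q hq => by
      have hne : s' ≠ r := hlt'.ne'
      obtain ⟨hr1, hr2⟩ := List.mem_filter.1 hr
      obtain ⟨hs1, hs2⟩ := List.mem_filter.1 hs'
      have p1 := mem_posList.1 hr1
      have p2 := mem_posList.1 hs1
      exact List.mem_filter.2 ⟨mem_posList.2
        (h.commClosed_posSet r p1 s' p2 hne q (List.mem_filter.1 hq).1),
        decide_eq_true (hab r p1.2 p1.1 s' p2.2 (of_decide_eq_true hs2).le p2.1 hne q hq)⟩)
    ((X D b 1)⁻¹ * X D s (c * z')) (gen_mono D (fun r hr =>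
      List.mem_filter.2 ⟨mem_posList.2 hr.1, decide_eq_true hr.2⟩) hm)
  set φ : ℕ → F := fun r => if r = b then 1 else if b < r then f r else 0
  have hsplit : L.filter (fun r => decide (b ≤ r)) = b :: L.filter (fun r => decide (b < r)) := by
    refine List.Perm.eq_of_pairwise' (hL.pairwise.filter _) (List.pairwise_cons.2
      ⟨fun r hr => of_decide_eq_true (List.mem_filter.1 hr).2, hL.pairwise.filter _⟩) ?_
    refine (List.perm_ext_iff_of_nodup (hL.nodup.filter _)
      (List.nodup_cons.2 ⟨fun hmem => by simp at hmem, hL.nodup.filter _⟩)).2 fun r => ?_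
    simp only [List.mem_filter, List.mem_cons, decide_eq_true_eq]
    constructor
    · rintro ⟨hr, hbr⟩
      rcases eq_or_lt_of_le hbr with e' | e'
      · exact Or.inl e'.symm
      · exact Or.inr ⟨hr, e'⟩
    · rintro (rfl | ⟨hr, hbr⟩)
      · exact ⟨mem_posList.2 hb, le_rfl⟩
      · exact ⟨hr, hbr.le⟩
  have h3 : prodX D L φ = X D s (c * z') := by
    rw [h.prodX_filter (fun r => decide (b ≤ r)) L φ hlt (fun r _ hr => by
      have : ¬ b ≤ r := of_decide_eq_false hr
      simp only [φ]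
      rw [if_neg (by omega), if_neg (by omega)]), hsplit]
    simp only [prodX, List.map_cons, List.prod_cons]
    rw [← mul_inv_cancel_left (X D b (1 : F)) (X D s (c * z')), hf]
    simp only [φ, if_true]
    refine congrArg _ (congrArg List.prod (List.map_congr_left fun r hr => ?_))
    have : b < r := of_decide_eq_true (List.mem_filter.1 hr).2
    rw [if_neg (by omega), if_pos this]
  have h4 : prodX D L (Function.update 0 s (c * z')) = X D s (c * z') := by
    rw [h.prodX_filter (fun r => decide (r = s)) L _ hlt (fun r _ hr => by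
      rw [Function.update_of_ne (of_decide_eq_false hr)]; rfl)]
    have hone : L.filter (fun r => decide (r = s)) = [s] := by
      rw [List.filter_eq, List.count_eq_one_of_mem hL.nodup (mem_posList.2 hsP)]
      rfl
    simp [hone, prodX]
  have := h.prodX_inj L hL (fun r hr => mem_posList.1 hr) _ _ (h3.trans h4.symm) b
    (mem_posList.2 hb)
  simp [φ, Function.update_of_ne (Ne.symm hsb)] at this

end Cert

end CfsgLib.Chev

namespace CfsgLib.Chev

open Cfsg.Lie Matrix

namespace Cert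

variable {D : ChevalleyDatum} {T : Tab} {C : Tab.Cover} (h : Cert D T C) {F : Type*} [Field F]
  [CharP F 2]
include h

omit [CharP F 2] in
/-- The matrix of a product of `x_r(1)`. -/
lemma coe_oneProd_one (a : ℕ) :
    ((oneProd D F [a] : GL D.Idx F) : Matrix D.Idx D.Idx F) = D.x F a 1 := by
  simp [oneProd, h.coe_X]

omit [CharP F 2] in
lemma coe_oneProd_two (a b : ℕ) :
    ((oneProd D F [a, b] : GL D.Idx F) : Matrix D.Idx D.Idx F) = D.x F a 1 * D.x F b 1 := by
  simp [oneProd, h.coe_X]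

omit [CharP F 2] in
lemma coe_oneProd_three (a b c : ℕ) :
    ((oneProd D F [a, b, c] : GL D.Idx F) : Matrix D.Idx D.Idx F) =
      D.x F a 1 * D.x F b 1 * D.x F c 1 := by
  simp [oneProd, h.coe_X, mul_assoc]

omit [CharP F 2] in
lemma coe_oneProd_four (a b c d : ℕ) :
    ((oneProd D F [a, b, c, d] : GL D.Idx F) : Matrix D.Idx D.Idx F) =
      D.x F a 1 * D.x F b 1 * D.x F c 1 * D.x F d 1 := by
  simp [oneProd, h.coe_X, mul_assoc]

/-- The three parts of a classification by the targets `tg`, `M` being their matrices. -/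
theorem classes_of_cert [Fintype F] {tg : List (List ℕ)} {M : List (Matrix D.Idx D.Idx F)}
    (hM : M = tg.map fun t => ((oneProd D F t : GL D.Idx F) : Matrix D.Idx D.Idx F))
    (hrk : ∀ t ∈ tg, ∃ k, T.chkTarget t k = true)
    (hdist : ∀ t ∈ tg, ∀ t' ∈ tg, (∃ x ∈ D.group F, x * oneProd D F t * x⁻¹ = oneProd D F t') →
      t = t')
    {tgl : List (List ℕ)} (htgl : tgl = [] :: tg)
    {W : List (List ℕ × List ℕ × List ℕ)} {st : ℕ → InvState} {k : ℕ} (hW : T.chkRel W = true)
    (hchk : ∀ j < k, T.chkInvState tgl W st j = true) {r : ℕ} (hr : r < k)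
    (hroot : T.chkRoot (st r) = true) :
    (∀ y : GL D.Idx F, ((y : GL D.Idx F) : Matrix D.Idx D.Idx F) ∈ M →
      y ∈ D.group F ∧ orderOf y = 2) ∧
    (∀ g ∈ D.group F, orderOf g = 2 → ∃ y ∈ D.group F,
      ((y : GL D.Idx F) : Matrix D.Idx D.Idx F) ∈ M ∧ ∃ x ∈ D.group F, x * g * x⁻¹ = y) ∧
    (∀ y₁ ∈ D.group F, ∀ y₂ ∈ D.group F, ((y₁ : GL D.Idx F) : Matrix D.Idx D.Idx F) ∈ M →
      ((y₂ : GL D.Idx F) : Matrix D.Idx D.Idx F) ∈ M →
      (∃ x ∈ D.group F, x * y₁ * x⁻¹ = y₂) →
        ((y₁ : GL D.Idx F) : Matrix D.Idx D.Idx F) = ((y₂ : GL D.Idx F) : Matrix D.Idx D.Idx F)) := by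
  subst hM
  have key : ∀ y : GL D.Idx F, ((y : GL D.Idx F) : Matrix D.Idx D.Idx F) ∈
      (tg.map fun t => ((oneProd D F t : GL D.Idx F) : Matrix D.Idx D.Idx F)) →
      ∃ t ∈ tg, oneProd D F t = y := by
    intro y hy
    obtain ⟨t, ht, e⟩ := List.mem_map.1 hy
    exact ⟨t, ht, Units.ext e⟩
  refine ⟨fun y hy => ?_, fun g hg hord => ?_, fun y₁ _ y₂ _ h₁ h₂ hc => ?_⟩
  · obtain ⟨t, ht, rfl⟩ := key y hy
    obtain ⟨m, hm⟩ := hrk t ht
    exact ⟨(h.target_spec (F := F) hm).1, (h.target_spec (F := F) hm).2.1⟩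
  · obtain ⟨t, ht, hne, x, hx, e⟩ := h.invol_exists hW hchk hr hroot hg hord
    rw [htgl] at ht
    rcases List.mem_cons.1 ht with e0 | ht
    · exact absurd e0 hne
    obtain ⟨m, hm⟩ := hrk t ht
    exact ⟨oneProd D F t, (h.target_spec (F := F) hm).1, List.mem_map.2 ⟨t, ht, rfl⟩, x, hx, e⟩
  · obtain ⟨t, ht, rfl⟩ := key y₁ h₁
    obtain ⟨t', ht', rfl⟩ := key y₂ h₂
    rw [hdist t ht t' ht' hc]

/-- The number of classes of involutions, from targets of different ranks. -/
theorem ncard_classes_of_cert [Fintype F] {tg : List (List ℕ)} (rk : List ℕ)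
    (hlen : rk.length = tg.length) (hnd : rk.Nodup)
    (hrk : ((List.range tg.length).all fun i => T.chkTarget (tg.getD i []) (rk.getD i 0)) = true)
    {tgl : List (List ℕ)} (htgl : tgl = [] :: tg)
    {W : List (List ℕ × List ℕ × List ℕ)} {st : ℕ → InvState} {k : ℕ} (hW : T.chkRel W = true)
    (hchk : ∀ j < k, T.chkInvState tgl W st j = true) {r : ℕ} (hr : r < k)
    (hroot : T.chkRoot (st r) = true) :
    (ConjClasses.mk '' {g : ↥(D.group F) | orderOf g = 2}).ncard = tg.length := by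
  simp only [List.all_eq_true, List.mem_range] at hrk
  have hsp := fun i : Fin tg.length => h.target_spec (F := F) (hrk i i.2)
  let f : Fin tg.length → ConjClasses ↥(D.group F) := fun i =>
    ConjClasses.mk ⟨oneProd D F (tg.getD i []), (hsp i).1⟩
  have hinj : Function.Injective f := by
    intro i j e
    obtain ⟨x, hx⟩ := isConj_iff.1 (ConjClasses.mk_eq_mk_iff_isConj.1 e)
    have e' := congrArg Subtype.val hx
    simp only [Subgroup.coe_mul, Subgroup.coe_inv] at e'
    have := h.target_rank_eq (F := F) (hrk i i.2) (hrk j j.2) e'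
    rw [List.getD_eq_getElem _ _ (by omega : (i : ℕ) < rk.length),
      List.getD_eq_getElem _ _ (by omega : (j : ℕ) < rk.length)] at this
    exact Fin.ext (hnd.getElem_inj_iff.1 this)
  have himg : ConjClasses.mk '' {g : ↥(D.group F) | orderOf g = 2} = Set.range f := by
    ext c
    constructor
    · rintro ⟨g, hg, rfl⟩
      have hg' : orderOf (g : GL D.Idx F) = 2 := by rw [Subgroup.orderOf_coe]; exact hg
      obtain ⟨t, ht, hne, x, hx, e⟩ := h.invol_exists hW hchk hr hroot g.2 hg'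
      rw [htgl] at ht
      rcases List.mem_cons.1 ht with e0 | ht
      · exact absurd e0 hne
      obtain ⟨i, hi, rfl⟩ := List.getElem_of_mem ht
      refine ⟨⟨i, hi⟩, ConjClasses.mk_eq_mk_iff_isConj.2 (isConj_iff.2 ⟨⟨x⁻¹, inv_mem hx⟩, ?_⟩)⟩
      refine Subtype.ext ?_
      simp only [Subgroup.coe_mul, Subgroup.coe_inv, List.getD_eq_getElem _ _ hi]
      rw [← e]; group
    · rintro ⟨i, rfl⟩
      refine ⟨_, ?_, rfl⟩
      show orderOf (⟨oneProd D F (tg.getD i []), (hsp i).1⟩ : ↥(D.group F)) = 2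
      rw [← Subgroup.orderOf_coe]
      exact (hsp i).2.1
  rw [himg, ← Set.image_univ, Set.ncard_image_of_injective _ hinj, Set.ncard_univ, Nat.card_fin]

end Cert

end CfsgLib.Chev
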