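import Cfsg.Agent.Lib.Chev.InvolGF2
import Cfsg.Agent.Lib.Chev.BN
import Mathlib.FieldTheory.Finite.Basic

/-!
Certificates that sort the involutions of the unipotent radical of a Borel subgroup in
characteristic 2 into conjugacy classes.

A state `(N, S)` stands for the involutions `∏_{n ∈ N} x_n(1) · y`, `y` in the subgroup generated by
the root groups of the mask `S`; a move replaces it by states nearer to the targets.
-/

set_option autoImplicit false

namespace CfsgLib.Chev

open Cfsg.Lie Matrix

/-- A move of a certificate; `c`, `c₀`, `c₁` are earlier states. -/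
inductive InvMove where
  | leaf (k : ℕ)
  | kill (v s c : ℕ)
  | forced (v w : ℕ) (L : List ℕ) (c : ℕ)
  | branch (v : ℕ) (m : List ℤ) (c₀ c₁ : ℕ)
  | weyl (w : List ℕ) (c : ℕ)
  | toggle (s c : ℕ)
  | word (k : ℕ) (B : List ℕ) (c : ℕ)

/-- A state with its move. -/
structure InvState where
  N : List ℕ
  S : ℕ
  mv : InvMove

/-- States indexed by the bits of the index. -/
inductive InvTree where
  | leaf (v : InvState)
  | node (a b : InvTree)

/-- Lookup, least significant bit first. -/
noncomputable def InvTree.get (t : InvTree) : ℕ → InvState :=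
  InvTree.rec (motive := fun _ => ℕ → InvState) (fun v _ => v)
    (fun _ _ ga gb r => cond (Nat.beq (Nat.land r 1) 0) (ga (Nat.shiftRight r 1))
      (gb (Nat.shiftRight r 1))) t

namespace Tab

variable (T : Tab)

/-- Terms with an odd coefficient. -/
def oddTerms (r s : ℕ) : List (ℕ × ℤ × ℕ × ℕ) :=
  (T.commTerms r s).filter fun q => decide (q.2.1 % 2 = 1)

/-- The odd terms lie in the mask. -/
noncomputable def oddIn (r s R : ℕ) : Bool :=
  cond (Nat.beq (Nat.shiftRight (blk (T.row r) s) 14) 0 &&
      Nat.beq (Nat.shiftRight (blk (T.row s) r) 14) 0)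
    (cond (bmem (blk (T.row r) s) 9) (bmem R (Nat.sub (Nat.land (blk (T.row r) s) 511) 1)) true)
    ((T.oddTerms r s).all fun q => bmem R q.1)

/-- `x_r` fixes `x_s` modulo the mask. -/
noncomputable def modC (r s R : ℕ) : Bool :=
  Nat.beq s r || (!(Nat.beq s (T.neg r)) && T.oddIn r s R)

/-- `f` at all members of a mask below `k`. -/
noncomputable def allBits (k S : ℕ) (f : ℕ → Bool) : Bool :=
  allBelow k fun r => cond (bmem S r) (f r) true

/-- `x_z` normalises the group of the mask. -/
noncomputable def normal (z R : ℕ) : Bool :=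
  allBits T.n R fun r => T.modC z r R

/-- The roots of `N` are roots, with pairwise commuting root groups. -/
noncomputable def okN (N : List ℕ) : Bool :=
  N.all fun a => decide (a < T.n) && N.all fun b => T.modC a b 0

/-- The exponents of `c` at `v` after conjugating by `x_s(c)`. -/
noncomputable def killHits (N : List ℕ) (v s : ℕ) : List ℕ :=
  N.flatMap fun a => cond (Nat.beq a s) []
    (((T.oddTerms s a).filter fun q => Nat.beq q.1 v).map fun q => q.2.2.1)

/-- The exponents of `a` at `w` in the square. -/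
noncomputable def forcedHits (N : List ℕ) (v w : ℕ) : List ℕ :=
  N.flatMap fun b => cond (Nat.beq v b) []
    (((T.oddTerms b v).filter fun q => Nat.beq q.1 w).map fun q => q.2.2.2)

/-- The product after conjugating by `x_s(1)`. -/
noncomputable def toggled (N : List ℕ) (s : ℕ) : List ℕ :=
  N.flatMap fun a => a :: cond (Nat.beq a s) [] ((T.oddTerms s a).map fun q => q.1)

/-- The value of a cocharacter at a root. -/
def mval (m : List ℤ) (r : ℕ) : ℤ :=
  ((List.range T.l).map fun i => m.getD i 0 * T.car i r).sum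

/-- A state carries the given product and contains the given mask. -/
noncomputable def childOK (st : ℕ → InvState) (i c : ℕ) (N' : List ℕ) (S' : ℕ) : Bool :=
  Nat.blt c i && decide (N'.Perm (st c).N) && Nat.beq (Nat.land S' (st c).S) S'

/-- The identities `g A g⁻¹ = A'` a certificate may use. -/
noncomputable def chkRel (W : List (List ℕ × List ℕ × List ℕ)) : Bool :=
  W.all fun e => (e.1.all fun a => Nat.blt a T.n) && (e.2.1.all fun a => Nat.blt a T.n) &&
    (e.2.2.all fun a => Nat.blt a T.n) && T.eq2 (e.1 ++ (e.2.1 ++ e.1.reverse)) e.2.2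

/-- One move. -/
noncomputable def chkInvMove (tg : List (List ℕ)) (W : List (List ℕ × List ℕ × List ℕ)) (st : ℕ → InvState) (i : ℕ) (N : List ℕ) (S : ℕ) :
    InvMove → Bool
  | .leaf k =>
      allBits T.n S (fun _ => false) && Nat.blt k tg.length && T.okN (tg.getD k []) &&
        decide (N.Perm (tg.getD k []))
  | .kill v s c =>
      Nat.blt v T.n && Nat.blt s T.n && bmem S v &&
        (decide (T.killHits N v s = [1]) || decide (T.killHits N v s = [2]) ||
          decide (T.killHits N v s = [4])) &&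
        (N.all fun a => T.modC a v (Nat.xor S (2 ^ v)) && T.normal a (Nat.xor S (2 ^ v)) &&
          T.modC s a S) &&
        T.modC s v (Nat.xor S (2 ^ v)) && T.normal s (Nat.xor S (2 ^ v)) &&
        T.normal v (Nat.xor S (2 ^ v)) &&
        childOK st i c N (Nat.xor S (2 ^ v))
  | .forced v w L c =>
      Nat.ble T.half v && Nat.blt v T.n && Nat.ble T.half w && Nat.blt w T.n &&
        bmem S v && bmem (Nat.xor S (2 ^ v)) w &&
        (match T.forcedHits N v w with | [j] => Nat.blt 0 j | _ => false) &&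
        (N.all fun a => T.modC a v (Nat.xor S (2 ^ v)) &&
          T.modC a w (Nat.xor (Nat.xor S (2 ^ v)) (2 ^ w)) &&
          T.normal a (Nat.xor (Nat.xor S (2 ^ v)) (2 ^ w))) &&
        T.modC v w (Nat.xor (Nat.xor S (2 ^ v)) (2 ^ w)) &&
        T.normal v (Nat.xor (Nat.xor S (2 ^ v)) (2 ^ w)) &&
        T.normal w (Nat.xor (Nat.xor S (2 ^ v)) (2 ^ w)) &&
        Nat.beq (xmask L) (Nat.xor (Nat.xor S (2 ^ v)) (2 ^ w)) &&
        (L.all fun r => Nat.ble T.half r && L.all fun s =>
          Nat.ble s r || T.modC r s (Nat.xor (Nat.xor S (2 ^ v)) (2 ^ w))) &&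
        childOK st i c N (Nat.xor S (2 ^ v))
  | .branch v m c₀ c₁ =>
      Nat.blt v T.n && bmem S v && (N.all fun a => T.modC a v 0 && decide (T.mval m a = 0)) &&
        ((List.range 9).any fun k => decide ((T.mval m v).natAbs = 2 ^ k)) &&
        T.normal v (Nat.xor S (2 ^ v)) &&
        childOK st i c₀ N (Nat.xor S (2 ^ v)) && childOK st i c₁ (v :: N) (Nat.xor S (2 ^ v))
  | .weyl w c =>
      (w.all fun j => Nat.blt j T.l) &&
        allBits T.n S (fun r => bmem (st c).S (rword T w r)) &&
        childOK st i c (N.map (rword T w)) 0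
  | .toggle s c =>
      Nat.blt s T.n && (N.all fun a => Nat.beq a s || !(Nat.beq a (T.neg s))) &&
        T.okN (T.toggled N s) && T.normal s S &&
        childOK st i c (parity (T.toggled N s)) S
  | .word k B c =>
      Nat.blt k W.length &&
        decide (((W.getD k ([], [], [])).2.1 ++ B).Perm N) &&
        ((W.getD k ([], [], [])).1.all fun x => T.normal x S && B.all fun b => T.modC x b 0) &&
        childOK st i c ((W.getD k ([], [], [])).2.2 ++ B) S

/-- A state of a certificate is sound. -/
noncomputable def chkInvState (tg : List (List ℕ)) (W : List (List ℕ × List ℕ × List ℕ))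
    (st : ℕ → InvState) (i : ℕ) : Bool :=
  T.okN (st i).N && T.chkInvMove tg W st i (st i).N (st i).S (st i).mv

end Tab

section Sem

variable {D : ChevalleyDatum} {T : Tab} {F : Type*} [Field F]

/-- The roots of a mask. -/
def maskSet (T : Tab) (S : ℕ) : Set ℕ := {r | r < T.n ∧ S.testBit r = true}

/-- Every involution of the state is conjugate to a target product. -/
def GoodState (D : ChevalleyDatum) (T : Tab) (F : Type*) [Field F] (tg : List (List ℕ))
    (N : List ℕ) (S : ℕ) : Prop :=
  ∀ y ∈ gen D F (maskSet T S), (oneProd D F N * y) * (oneProd D F N * y) = 1 →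
    ∃ t ∈ tg, ∃ g ∈ D.group F, g * (oneProd D F N * y) * g⁻¹ = oneProd D F t

variable {G : Type*} [Group G] {Q : Subgroup G}

/-- Equality modulo a subgroup. -/
def ModQ (Q : Subgroup G) (a b : G) : Prop := b⁻¹ * a ∈ Q

lemma ModQ.refl (a : G) : ModQ Q a a := by simp [ModQ]

lemma ModQ.trans {a b c : G} (h₁ : ModQ Q a b) (h₂ : ModQ Q b c) : ModQ Q a c := by
  have := mul_mem h₂ h₁
  simpa [ModQ, mul_assoc] using this

lemma ModQ.of_eq {a b : G} (e : a = b) : ModQ Q a b := e ▸ ModQ.refl a

lemma ModQ.mul {a b a' b' : G} (h₁ : ModQ Q a b) (h₂ : ModQ Q a' b')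
    (hb : b' ∈ Subgroup.normalizer (Q : Set G)) : ModQ Q (a * a') (b * b') := by
  show (b * b')⁻¹ * (a * a') ∈ Q
  rw [show (b * b')⁻¹ * (a * a') = (b'⁻¹ * (b⁻¹ * a) * b'⁻¹⁻¹) * (b'⁻¹ * a') by group]
  exact mul_mem ((Subgroup.mem_normalizer_iff.1 (inv_mem hb) _).1 h₁) h₂

lemma ModQ.mul_left {a b : G} (h₁ : ModQ Q a b) (c : G) : ModQ Q (c * a) (c * b) := by
  show (c * b)⁻¹ * (c * a) ∈ Q
  rw [show (c * b)⁻¹ * (c * a) = b⁻¹ * a by group]
  exact h₁

lemma ModQ.mul_right {a b c : G} (h₁ : ModQ Q a b)
    (hc : c ∈ Subgroup.normalizer (Q : Set G)) : ModQ Q (a * c) (b * c) :=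
  h₁.mul (ModQ.refl c) hc

lemma ModQ.conj {a b g : G} (h₁ : ModQ Q a b) (hg : g ∈ Subgroup.normalizer (Q : Set G)) :
    ModQ Q (g * a * g⁻¹) (g * b * g⁻¹) :=
  (h₁.mul_left g).mul_right (inv_mem hg)

lemma ModQ.swap {a b : G} (h₁ : ModQ Q (a * b * a⁻¹) b)
    (ha : a ∈ Subgroup.normalizer (Q : Set G)) : ModQ Q (a * b) (b * a) := by
  have := h₁.mul_right ha
  rwa [inv_mul_cancel_right] at this

lemma ModQ.symm {a b : G} (h₁ : ModQ Q a b) : ModQ Q b a := by
  have := inv_mem h₁
  simpa [ModQ] using this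

variable {C : Tab.Cover} (h : Cert D T C)

omit h in
lemma maskSet_xor {S v : ℕ} (hv : S.testBit v = true) :
    maskSet T (Nat.xor S (2 ^ v)) = maskSet T S \ {v} := by
  ext r
  show r < T.n ∧ (S ^^^ 2 ^ v).testBit r = true ↔ (r < T.n ∧ S.testBit r = true) ∧ r ≠ v
  rw [Nat.testBit_xor, Nat.testBit_two_pow]
  by_cases e : r = v
  · subst e; simp [hv]
  · simp [Ne.symm e, e]

omit h in
lemma allBits_spec {k S : ℕ} {f : ℕ → Bool} (e : Tab.allBits k S f = true) :
    ∀ r < k, S.testBit r = true → f r = true := by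
  intro r hr hS
  have := allBelow_eq_true e r hr
  rwa [bmem_eq, hS, cond_true] at this

omit h in
lemma mem_of_testBit_xmask {x : ℕ} : ∀ {L : List ℕ}, (xmask L).testBit x = true → x ∈ L
  | [], hx => by simp [xmask] at hx
  | a :: L, hx => by
    rw [show xmask (a :: L) = 2 ^ a ^^^ xmask L from rfl, Nat.testBit_xor, Nat.testBit_two_pow] at hx
    by_cases e : a = x
    · exact e ▸ List.mem_cons_self
    · rw [decide_eq_false e, Bool.false_xor] at hx
      exact List.mem_cons_of_mem _ (mem_of_testBit_xmask hx)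

omit h in
lemma oneProd_cons (a : ℕ) (L : List ℕ) :
    oneProd D F (a :: L) = X D a 1 * oneProd D F L := by simp [oneProd]

omit h in
lemma oneProd_append (L L' : List ℕ) :
    oneProd D F (L ++ L') = oneProd D F L * oneProd D F L' := by simp [oneProd]

include h

lemma Cert.oneProd_mem_group {L : List ℕ} (hL : ∀ a ∈ L, a < T.n) :
    oneProd D F L ∈ D.group F := by
  refine list_prod_mem fun g hg => ?_
  obtain ⟨a, ha, rfl⟩ := List.mem_map.1 hg
  exact h.X_mem_group (hL a ha) 1

variable [CharP F 2]

lemma Cert.oddIn_spec {r s R : ℕ} (hr : r < T.n) (hs : s < T.n) (e : T.oddIn r s R = true) :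
    ∀ q ∈ T.oddTerms r s, q.1 ∈ maskSet T R := by
  intro q hq
  have hq' := List.mem_filter.1 hq
  refine ⟨h.commTerms_lt hr hs hq'.1, ?_⟩
  unfold Tab.oddIn at e
  cases hb : (Nat.beq (Nat.shiftRight (Tab.blk (T.row r) s) 14) 0 &&
      Nat.beq (Nat.shiftRight (Tab.blk (T.row s) r) 14) 0)
  · rw [hb, cond_false, List.all_eq_true] at e
    rw [← bmem_eq]; exact e q hq
  · rw [hb, cond_true] at e
    rw [Bool.and_eq_true] at hb
    have d1 : ∀ B : ℕ, Nat.beq (Nat.shiftRight B 14) 0 = true →
        Tab.decode 3 B = if B = 0 then [] else [(B % 2 ^ 9 - 1, Int.subNatNat ((B >>> 9) % 2 ^ 5) 8)] := by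
      intro B hB
      simp only [Tab.decode]
      rw [show B >>> 14 = 0 from Nat.eq_of_beq_eq_true hB]
      simp
    obtain ⟨hq1, hq2⟩ := hq'
    have h1 : T.entry r s = _ := (congrArg (Tab.decode 3) (Tab.blk_eq (T.row r) s).symm).trans (d1 _ hb.1)
    have h2 : T.entry s r = _ := (congrArg (Tab.decode 3) (Tab.blk_eq (T.row s) r).symm).trans (d1 _ hb.2)
    generalize Tab.blk (T.row r) s = B at e h1
    generalize Tab.blk (T.row s) r = B' at h2
    by_cases hB : B = 0
    · subst hB
      by_cases hB' : B' = 0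
      · subst hB'; simp [Tab.commTerms, Tab.chainRoot, h1, h2] at hq1
      · simp [Tab.commTerms, Tab.chainRoot, h1, h2, hB'] at hq1
    · have hq3 : q = (B % 2 ^ 9 - 1, Int.subNatNat ((B >>> 9) % 2 ^ 5) 8, 1, 1) := by
        by_cases hB' : B' = 0
        · subst hB'; simpa [Tab.commTerms, Tab.chainRoot, Tab.chainM, h1, h2, hB] using hq1
        · simpa [Tab.commTerms, Tab.chainRoot, Tab.chainM, h1, h2, hB, hB'] using hq1
      subst hq3
      simp only [decide_eq_true_eq, Int.subNatNat_eq_coe] at hq2
      have hbit : bmem B 9 = true := by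
        rw [bmem_eq, Nat.testBit_eq_decide_div_mod_eq, decide_eq_true_eq]
        rw [Nat.shiftRight_eq_div_pow] at hq2
        omega
      rw [hbit, cond_true, show Nat.sub (Nat.land B 511) 1 = B % 2 ^ 9 - 1 from
        congrArg (· - 1) (Nat.and_two_pow_sub_one_eq_mod B 9)] at e
      rw [← bmem_eq]; exact e

/-- The commutator word keeps the odd terms only. -/
lemma Cert.X_conj_odd {r s : ℕ} (hr : r < T.n) (hs : s < T.n) (hne : s ≠ r) (hneg : s ≠ T.neg r)
    (t u : F) : X D r t * X D s u * (X D r t)⁻¹ = X D s u *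
      ((T.oddTerms r s).map fun c => X D c.1 (t ^ c.2.2.1 * u ^ c.2.2.2)).prod := by
  have h1 := h.X_conj hr hs hne hneg (-t) u
  rw [_root_.neg_neg] at h1
  rw [h.X_inv hr, h1]
  congr 1
  have hlt : ∀ q ∈ T.commTerms r s, q.1 < T.n := fun q => h.commTerms_lt hr hs
  unfold Tab.oddTerms
  revert hlt
  generalize T.commTerms r s = L0
  intro hlt
  induction L0 with
  | nil => rfl
  | cons q L ih =>
    rw [List.map_cons, List.prod_cons, ih fun p hp => hlt p (List.mem_cons_of_mem _ hp),
      List.filter_cons, intCast_odd]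
    by_cases e : q.2.1 % 2 = 1
    · simp [e]
    · rw [if_neg e, decide_eq_false e, zero_mul, zero_mul, h.X_zero (hlt q List.mem_cons_self),
        one_mul]
      rfl

lemma Cert.modC_spec {r s R : ℕ} (hr : r < T.n) (hs : s < T.n) (e : T.modC r s R = true)
    (t u : F) : ModQ (gen D F (maskSet T R)) (X D r t * X D s u * (X D r t)⁻¹) (X D s u) := by
  simp only [Tab.modC, Bool.or_eq_true, Bool.and_eq_true, Bool.not_eq_true'] at e
  by_cases hsr : s = r
  · subst hsr
    exact ModQ.of_eq (by rw [h.X_add hr, h.X_inv hr, h.X_add hr]; congr 1; ring)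
  rcases e with e | ⟨e1, e2⟩
  · exact absurd (Nat.eq_of_beq_eq_true e) hsr
  · have hneg : s ≠ T.neg r := fun e' => by
      rw [e'] at e1; simp at e1
    rw [h.X_conj_odd hr hs hsr hneg]
    show (X D s u)⁻¹ * (X D s u * _) ∈ _
    rw [inv_mul_cancel_left]
    refine list_prod_mem fun g hg => ?_
    obtain ⟨q, hq, rfl⟩ := List.mem_map.1 hg
    exact X_mem_gen D (h.oddIn_spec hr hs e2 q hq) _

lemma Cert.normal_spec {z R : ℕ} (hz : z < T.n) (e : T.normal z R = true) (t : F) :
    X D z t ∈ Subgroup.normalizer (gen D F (maskSet T R) : Set (GL D.Idx F)) := by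
  refine le_normalizer_closure (H := gen D F {z}) ?_ (X_mem_gen D (Set.mem_singleton z) t)
  rintro g hg a ⟨r, ⟨hr, hrS⟩, u, rfl⟩
  obtain ⟨b, rfl⟩ := (h.gen_singleton hz).1 hg
  have h1 : (X D r u)⁻¹ * (X D z b * X D r u * (X D z b)⁻¹) ∈ gen D F (maskSet T R) :=
    h.modC_spec hz hr (allBits_spec e r hr hrS) b u
  have := mul_mem (X_mem_gen D (F := F) (show r ∈ maskSet T R from ⟨hr, hrS⟩) u) h1
  rwa [mul_inv_cancel_left] at this

omit [CharP F 2] in
lemma Cert.gen_empty {R : ℕ} (hR : ∀ r < T.n, R.testBit r = false) :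
    gen D F (maskSet T R) = ⊥ := by
  rw [gen, Subgroup.closure_eq_bot_iff]
  rintro g ⟨r, ⟨hr, hr'⟩, -⟩
  rw [hR r hr] at hr'; cases hr'

lemma Cert.commute_of_modC {a b : ℕ} (ha : a < T.n) (hb : b < T.n) (e : T.modC a b 0 = true)
    (t u : F) : Commute (X D a t) (X D b u) := by
  have h1 : _ ∈ gen D F (maskSet T 0) := h.modC_spec (F := F) ha hb e t u
  rw [h.gen_empty (fun r _ => Nat.zero_testBit r), Subgroup.mem_bot, inv_mul_eq_one] at h1
  exact (mul_inv_eq_iff_eq_mul.1 h1.symm)

lemma Cert.okN_spec {N : List ℕ} (e : T.okN N = true) :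
    (∀ a ∈ N, a < T.n) ∧ ∀ a ∈ N, ∀ b ∈ N, Commute (X D a (1 : F)) (X D b 1) := by
  simp only [Tab.okN, List.all_eq_true, Bool.and_eq_true, decide_eq_true_eq] at e
  exact ⟨fun a ha => (e a ha).1,
    fun a ha b hb => h.commute_of_modC (e a ha).1 (e b hb).1 ((e a ha).2 b hb) 1 1⟩

lemma Cert.oneProd_perm {N N' : List ℕ} (e : T.okN N' = true) (p : N.Perm N') :
    oneProd D F N = oneProd D F N' := by
  refine ((p.map fun r => X D r (1 : F)).symm.prod_eq' ?_).symm
  rw [List.pairwise_map]
  exact List.pairwise_of_forall_mem_list fun a ha b hb => (h.okN_spec e).2 a ha b hb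

lemma Cert.oneProd_sq {N : List ℕ} (e : T.okN N = true) :
    oneProd D F N * oneProd D F N = 1 := by
  obtain ⟨h1, h2⟩ := h.okN_spec (F := F) e
  have key : ∀ L : List ℕ, (∀ a ∈ L, a ∈ N) →
      oneProd D F L * oneProd D F L = 1 ∧ ∀ a ∈ N, Commute (X D a (1 : F)) (oneProd D F L) := by
    intro L
    induction L with
    | nil => intro _; exact ⟨by simp [oneProd], fun a _ => by simp [oneProd]⟩
    | cons b L ih =>
      intro hL
      obtain ⟨i1, i2⟩ := ih fun a ha => hL a (List.mem_cons_of_mem _ ha)
      have hb := hL b List.mem_cons_self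
      refine ⟨?_, fun a ha => by rw [oneProd_cons]; exact (h2 a ha b hb).mul_right (i2 a ha)⟩
      rw [oneProd_cons, mul_assoc, ← mul_assoc (oneProd D F L), ← (i2 b hb).eq, mul_assoc (X D b 1),
        i1, mul_one, h.X_add (h1 b hb), CharTwo.add_self_eq_zero, h.X_zero (h1 b hb)]
  exact (key N fun a ha => ha).1

lemma Cert.oneProd_mem_normalizer {N : List ℕ} {R : ℕ} (hN : ∀ a ∈ N, a < T.n)
    (hn : ∀ a ∈ N, T.normal a R = true) :
    oneProd D F N ∈ Subgroup.normalizer (gen D F (maskSet T R) : Set (GL D.Idx F)) := by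
  refine list_prod_mem fun g hg => ?_
  obtain ⟨a, ha, rfl⟩ := List.mem_map.1 hg
  exact h.normal_spec (hN a ha) (hn a ha) 1

/-- A root element moves past the product of `N`, modulo the mask. -/
lemma Cert.oneProd_swap {N : List ℕ} {v R : ℕ} (hv : v < T.n) (hN : ∀ a ∈ N, a < T.n)
    (hn : ∀ a ∈ N, T.normal a R = true) (hvn : T.normal v R = true)
    (hm : ∀ a ∈ N, T.modC a v R = true) (d : F) :
    ModQ (gen D F (maskSet T R)) (oneProd D F N * X D v d) (X D v d * oneProd D F N) := by
  induction N with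
  | nil => exact ModQ.of_eq (by simp [oneProd])
  | cons a N ih =>
    have ha := hN a List.mem_cons_self
    have hN' : ∀ b ∈ N, b < T.n := fun b hb => hN b (List.mem_cons_of_mem _ hb)
    have hn' : ∀ b ∈ N, T.normal b R = true := fun b hb => hn b (List.mem_cons_of_mem _ hb)
    have h1 := (ih hN' hn' fun b hb => hm b (List.mem_cons_of_mem _ hb)).mul_left (X D a (1 : F))
    have h2 := ((h.modC_spec ha hv (hm a List.mem_cons_self) (1 : F) d).swap
      (h.normal_spec ha (hn a List.mem_cons_self) 1)).mul_right (h.oneProd_mem_normalizer hN' hn')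
    rw [oneProd_cons, mul_assoc]
    exact h1.trans ((ModQ.of_eq (mul_assoc _ _ _).symm).trans
      (h2.trans (ModQ.of_eq (mul_assoc _ _ _))))

omit [CharP F 2] in
lemma Cert.gen_split {v S : ℕ} (hv : v < T.n) (hS : S.testBit v = true)
    (hn : ∀ t : F, X D v t ∈ Subgroup.normalizer
      (gen D F (maskSet T (Nat.xor S (2 ^ v))) : Set (GL D.Idx F)))
    {y : GL D.Idx F} (hy : y ∈ gen D F (maskSet T S)) :
    ∃ a : F, ∃ r ∈ gen D F (maskSet T (Nat.xor S (2 ^ v))), y = X D v a * r := by
  have hle : gen D F (maskSet T S) ≤ gen D F {v} ⊔ gen D F (maskSet T (Nat.xor S (2 ^ v))) := by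
    rw [← gen_union_eq]
    refine gen_mono D fun r hr => ?_
    rw [maskSet_xor hS]
    by_cases e : r = v
    · exact Or.inl e
    · exact Or.inr ⟨hr, e⟩
  have hy' := hle hy
  rw [← SetLike.mem_coe, Subgroup.coe_mul_of_left_le_normalizer_right] at hy'
  · obtain ⟨a, ha, r, hr, rfl⟩ := hy'
    obtain ⟨c, rfl⟩ := (h.gen_singleton hv).1 ha
    exact ⟨c, r, hr, rfl⟩
  · intro x hx
    obtain ⟨t, rfl⟩ := (h.gen_singleton hv).1 hx
    exact hn t
where
  gen_union_eq {S S' : Set ℕ} : gen D F (S ∪ S') = gen D F S ⊔ gen D F S' := by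
    rw [gen, gen, gen, ← Subgroup.closure_union]
    congr 1
    ext g
    simp [Set.mem_union, or_and_right, exists_or]

omit h in
lemma exists_pow_two_pow [Finite F] (k : ℕ) (a : F) : ∃ c : F, c ^ (2 ^ k) = a := by
  induction k generalizing a with
  | zero => exact ⟨a, by simp⟩
  | succ k ih =>
    obtain ⟨b, hb⟩ := FiniteField.isSquare_of_char_two (ringChar.eq F 2) a
    obtain ⟨c, hc⟩ := ih b
    exact ⟨c, by rw [pow_succ, pow_mul, hc, hb, pow_two]⟩

/-- Conjugating one factor by `x_s(c)`. -/
lemma Cert.kill_factor {s a v S : ℕ} (hs : s < T.n) (ha : a < T.n) (hv : v < T.n)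
    (hS : S.testBit v = true) (hvn : T.normal v (Nat.xor S (2 ^ v)) = true)
    (e : T.modC s a S = true) (c : F) :
    ModQ (gen D F (maskSet T (Nat.xor S (2 ^ v)))) (X D s c * X D a 1 * (X D s c)⁻¹)
      (X D a 1 * X D v ((T.killHits [a] v s).map fun i => c ^ i).sum) := by
  by_cases has : a = s
  · subst has
    refine ModQ.of_eq ?_
    simp only [Tab.killHits, List.flatMap_cons, List.flatMap_nil, Nat.beq_refl, cond_true,
      List.append_nil, List.map_nil, List.sum_nil]
    rw [h.X_zero hv, mul_one, h.X_add ha, h.X_inv ha, h.X_add ha]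
    congr 1; ring
  · have hb : Nat.beq a s = false := by
      cases hb : Nat.beq a s
      · rfl
      · exact absurd (Nat.eq_of_beq_eq_true hb) has
    simp only [Tab.modC, hb, Bool.false_or, Bool.and_eq_true, Bool.not_eq_true'] at e
    have hneg : a ≠ T.neg s := fun e' => by
      rw [e'] at e; simp at e
    rw [h.X_conj_odd hs ha has hneg]
    refine ModQ.mul_left ?_ _
    simp only [Tab.killHits, List.flatMap_cons, List.flatMap_nil, hb, cond_false, List.append_nil,
      one_pow, mul_one]
    have hmem := h.oddIn_spec hs ha e.2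
    revert hmem
    generalize T.oddTerms s a = L0
    intro hmem
    induction L0 with
    | nil => exact ModQ.of_eq (by simp [h.X_zero hv])
    | cons q L ih =>
      have h1 := (ih fun p hp => hmem p (List.mem_cons_of_mem _ hp)).mul_left
        (X D q.1 (c ^ q.2.2.1))
      rw [List.map_cons, List.prod_cons, List.filter_cons]
      by_cases eq : q.1 = v
      · simp only [eq, Nat.beq_refl, if_true, List.map_cons, List.sum_cons]
        rw [eq] at h1
        exact h1.trans (ModQ.of_eq (h.X_add hv _ _))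
      · have hb' : Nat.beq q.1 v = false := by
          cases hb' : Nat.beq q.1 v
          · rfl
          · exact absurd (Nat.eq_of_beq_eq_true hb') eq
        simp only [hb', Bool.false_eq_true, if_false]
        refine h1.trans ?_
        have hq : q.1 ∈ maskSet T (Nat.xor S (2 ^ v)) := by
          rw [maskSet_xor hS]; exact ⟨hmem q List.mem_cons_self, eq⟩
        have h2 := (ModQ.of_eq (Q := gen D F (maskSet T (Nat.xor S (2 ^ v))))
          (mul_one (X D q.1 (c ^ q.2.2.1))).symm)
        have h3 : ModQ (gen D F (maskSet T (Nat.xor S (2 ^ v)))) (X D q.1 (c ^ q.2.2.1)) 1 := by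
          show (1 : GL D.Idx F)⁻¹ * _ ∈ _
          rw [inv_one, one_mul]; exact X_mem_gen D hq _
        exact (h3.mul_right (h.normal_spec hv hvn _)).trans (ModQ.of_eq (one_mul _))

/-- Conjugating the product of `N` by `x_s(c)`. -/
lemma Cert.kill_prod {s v S : ℕ} (hs : s < T.n) (hv : v < T.n) (hS : S.testBit v = true)
    (hvn : T.normal v (Nat.xor S (2 ^ v)) = true) {N : List ℕ} (hN : ∀ a ∈ N, a < T.n)
    (hn : ∀ a ∈ N, T.normal a (Nat.xor S (2 ^ v)) = true)
    (hm : ∀ a ∈ N, T.modC a v (Nat.xor S (2 ^ v)) = true)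
    (hc : ∀ a ∈ N, T.modC s a S = true) (c : F) :
    ModQ (gen D F (maskSet T (Nat.xor S (2 ^ v)))) (X D s c * oneProd D F N * (X D s c)⁻¹)
      (oneProd D F N * X D v ((T.killHits N v s).map fun i => c ^ i).sum) := by
  induction N with
  | nil => exact ModQ.of_eq (by simp [oneProd, Tab.killHits, h.X_zero hv])
  | cons a N ih =>
    have ha := hN a List.mem_cons_self
    have hN' : ∀ b ∈ N, b < T.n := fun b hb => hN b (List.mem_cons_of_mem _ hb)
    have hn' : ∀ b ∈ N, T.normal b (Nat.xor S (2 ^ v)) = true :=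
      fun b hb => hn b (List.mem_cons_of_mem _ hb)
    have hm' : ∀ b ∈ N, T.modC b v (Nat.xor S (2 ^ v)) = true :=
      fun b hb => hm b (List.mem_cons_of_mem _ hb)
    have e1 := h.kill_factor hs ha hv hS hvn (hc a List.mem_cons_self) c
    have e2 := ih hN' hn' hm' fun b hb => hc b (List.mem_cons_of_mem _ hb)
    set d := ((T.killHits [a] v s).map fun i => c ^ i).sum
    set f := ((T.killHits N v s).map fun i => c ^ i).sum
    have e3 := e1.mul e2
      (mul_mem (h.oneProd_mem_normalizer hN' hn') (h.normal_spec hv hvn f))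
    have e4 := (((h.oneProd_swap hv hN' hn' hvn hm' d).symm).mul_left (X D a 1)).mul_right
      (h.normal_spec hv hvn f)
    have hsum : ((T.killHits (a :: N) v s).map fun i => c ^ i).sum = d + f := by
      show _ = ((T.killHits [a] v s).map fun i => c ^ i).sum +
        ((T.killHits N v s).map fun i => c ^ i).sum
      rw [← List.sum_append, ← List.map_append]
      simp [Tab.killHits]
    rw [hsum, oneProd_cons]
    refine (ModQ.of_eq (by group)).trans (e3.trans ?_)
    refine (ModQ.of_eq (by simp only [mul_assoc])).trans (e4.trans (ModQ.of_eq ?_))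
    rw [← h.X_add hv]; simp only [mul_assoc]

/-- Conjugating `x_v(a)` by one factor. -/
lemma Cert.forced_factor {b v w R : ℕ} (hb : b < T.n) (hv : v < T.n) (hw : w < T.n)
    {S : ℕ} (hR : maskSet T R = maskSet T S \ {w}) (hwn : T.normal w R = true)
    (e : T.modC b v S = true) (a : F) :
    ModQ (gen D F (maskSet T R)) (X D b 1 * X D v a * (X D b 1)⁻¹)
      (X D v a * X D w ((T.forcedHits [b] v w).map fun j => a ^ j).sum) := by
  by_cases hvb : v = b
  · subst hvb
    refine ModQ.of_eq ?_
    simp only [Tab.forcedHits, List.flatMap_cons, List.flatMap_nil, Nat.beq_refl, cond_true,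
      List.append_nil, List.map_nil, List.sum_nil]
    rw [h.X_zero hw, mul_one, h.X_add hb, h.X_inv hb, h.X_add hb]
    congr 1; ring
  · have hbb : Nat.beq v b = false := by
      cases hbb : Nat.beq v b
      · rfl
      · exact absurd (Nat.eq_of_beq_eq_true hbb) hvb
    simp only [Tab.modC, hbb, Bool.false_or, Bool.and_eq_true, Bool.not_eq_true'] at e
    have hneg : v ≠ T.neg b := fun e' => by
      rw [e'] at e; simp at e
    rw [h.X_conj_odd hb hv hvb hneg]
    refine ModQ.mul_left ?_ _
    simp only [Tab.forcedHits, List.flatMap_cons, List.flatMap_nil, hbb, cond_false,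
      List.append_nil, one_pow, one_mul]
    have hmem := h.oddIn_spec hb hv e.2
    revert hmem
    generalize T.oddTerms b v = L0
    intro hmem
    induction L0 with
    | nil => exact ModQ.of_eq (by simp [h.X_zero hw])
    | cons q L ih =>
      have h1 := (ih fun p hp => hmem p (List.mem_cons_of_mem _ hp)).mul_left
        (X D q.1 (a ^ q.2.2.2))
      rw [List.map_cons, List.prod_cons, List.filter_cons]
      by_cases eq : q.1 = w
      · simp only [eq, Nat.beq_refl, if_true, List.map_cons, List.sum_cons]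
        rw [eq] at h1
        exact h1.trans (ModQ.of_eq (h.X_add hw _ _))
      · have hb' : Nat.beq q.1 w = false := by
          cases hb' : Nat.beq q.1 w
          · rfl
          · exact absurd (Nat.eq_of_beq_eq_true hb') eq
        simp only [hb', Bool.false_eq_true, if_false]
        refine h1.trans ?_
        have hq : q.1 ∈ maskSet T R := by
          rw [hR]; exact ⟨hmem q List.mem_cons_self, eq⟩
        have h3 : ModQ (gen D F (maskSet T R)) (X D q.1 (a ^ q.2.2.2)) 1 := by
          show (1 : GL D.Idx F)⁻¹ * _ ∈ _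
          rw [inv_one, one_mul]; exact X_mem_gen D hq _
        exact (h3.mul_right (h.normal_spec hw hwn _)).trans (ModQ.of_eq (one_mul _))

/-- Conjugating `x_v(a)` by the product of `N`. -/
lemma Cert.forced_prod {v w R S : ℕ} (hv : v < T.n) (hw : w < T.n)
    (hR : maskSet T R = maskSet T S \ {w}) (hwn : T.normal w R = true)
    {N : List ℕ} (hN : ∀ b ∈ N, b < T.n) (hn : ∀ b ∈ N, T.normal b R = true)
    (hmw : ∀ b ∈ N, T.modC b w R = true) (hm : ∀ b ∈ N, T.modC b v S = true) (a : F) :
    ModQ (gen D F (maskSet T R)) (oneProd D F N * X D v a * (oneProd D F N)⁻¹)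
      (X D v a * X D w ((T.forcedHits N v w).map fun j => a ^ j).sum) := by
  induction N with
  | nil => exact ModQ.of_eq (by simp [oneProd, Tab.forcedHits, h.X_zero hw])
  | cons b N ih =>
    have hb := hN b List.mem_cons_self
    have hbn := h.normal_spec (F := F) hb (hn b List.mem_cons_self) 1
    have e1 := (ih (fun c hc => hN c (List.mem_cons_of_mem _ hc))
      (fun c hc => hn c (List.mem_cons_of_mem _ hc))
      (fun c hc => hmw c (List.mem_cons_of_mem _ hc))
      (fun c hc => hm c (List.mem_cons_of_mem _ hc))).conj hbn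
    set f := ((T.forcedHits N v w).map fun j => a ^ j).sum
    set d := ((T.forcedHits [b] v w).map fun j => a ^ j).sum
    have e2 := (h.forced_factor hb hv hw hR hwn (hm b List.mem_cons_self) a).mul
      (h.modC_spec hb hw (hmw b List.mem_cons_self) (1 : F) f) (h.normal_spec hw hwn f)
    have hsum : ((T.forcedHits (b :: N) v w).map fun j => a ^ j).sum = d + f := by
      show _ = ((T.forcedHits [b] v w).map fun j => a ^ j).sum +
        ((T.forcedHits N v w).map fun j => a ^ j).sum
      rw [← List.sum_append, ← List.map_append]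
      simp [Tab.forcedHits]
    rw [hsum, oneProd_cons]
    refine (ModQ.of_eq (by group)).trans (e1.trans ?_)
    refine (ModQ.of_eq (by group)).trans (e2.trans (ModQ.of_eq ?_))
    rw [← h.X_add hw]; simp only [mul_assoc, d]

/-- Ordered products exhaust the group of a set of positive roots closed under the odd terms. -/
lemma Cert.exists_prodX_odd : ∀ (L : List ℕ), L.SortedLT → (∀ r ∈ L, r ∈ posSet T) →
    (∀ r ∈ L, ∀ s ∈ L, r < s → ∀ q ∈ T.oddTerms r s, q.1 ∈ L) →
    ∀ g ∈ gen D F {r | r ∈ L}, ∃ t : ℕ → F, g = prodX D L t := by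
  intro L
  induction L with
  | nil =>
    intro _ _ _ g hg
    refine ⟨0, ?_⟩
    have : gen D F {r | r ∈ ([] : List ℕ)} = ⊥ := by simp [gen]
    rw [this, Subgroup.mem_bot] at hg
    simp [hg, prodX]
  | cons r L ih =>
    intro hsort hpos hcl
    have hrL : ∀ s ∈ L, r < s := (List.pairwise_cons.1 hsort.pairwise).1
    have hsort' : L.SortedLT := (List.pairwise_cons.1 hsort.pairwise).2.sortedLT
    have hr := hpos r List.mem_cons_self
    have hcl' : ∀ a ∈ L, ∀ b ∈ L, a < b → ∀ q ∈ T.oddTerms a b, q.1 ∈ L := by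
      intro a ha b hb hab q hq
      rcases List.mem_cons.1 (hcl a (List.mem_cons_of_mem _ ha) b (List.mem_cons_of_mem _ hb)
        hab q hq) with e | e
      · exfalso
        have hpa := hpos a (List.mem_cons_of_mem _ ha)
        have hpb := hpos b (List.mem_cons_of_mem _ hb)
        have := (h.commTerms_pos hpa.1 hpa.2 hpb.1 hpb.2 (List.mem_filter.1 hq).1).1
        have := hrL a ha
        have := hrL b hb
        omega
      · exact e
    have hnorm : ∀ t : F, X D r t ∈
        Subgroup.normalizer (gen D F {s | s ∈ L} : Set (GL D.Idx F)) := by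
      intro t
      refine (le_normalizer_closure (H := gen D F {r}) ?_) (X_mem_gen D (Set.mem_singleton r) t)
      intro g hg a ha
      obtain ⟨b, rfl⟩ := (h.gen_singleton hr.2).1 hg
      obtain ⟨s, hs, u, rfl⟩ := ha
      have hps := hpos s (List.mem_cons_of_mem _ hs)
      rw [h.X_conj_odd hr.2 hps.2 (hrL s hs).ne' (Cert.posSet_neg_ne h hr hps)]
      refine mul_mem (X_mem_gen D hs u) (list_prod_mem fun x hx => ?_)
      obtain ⟨q, hq, rfl⟩ := List.mem_map.1 hx
      rcases List.mem_cons.1 (hcl r List.mem_cons_self s (List.mem_cons_of_mem _ hs)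
        (hrL s hs) q hq) with e | e
      · exfalso
        have := (h.commTerms_pos hr.1 hr.2 hps.1 hps.2 (List.mem_filter.1 hq).1).1
        have := hrL s hs
        omega
      · exact X_mem_gen D e _
    intro g hg
    have hle : gen D F {s | s ∈ r :: L} ≤ gen D F {r} ⊔ gen D F {s | s ∈ L} := by
      refine (Subgroup.closure_le _).2 ?_
      rintro _ ⟨s, hs, u, rfl⟩
      rcases List.mem_cons.1 hs with rfl | hs
      · exact Subgroup.mem_sup_left (X_mem_gen D (Set.mem_singleton _) u)
      · exact Subgroup.mem_sup_right (X_mem_gen D hs u)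
    have hg' := hle hg
    rw [← SetLike.mem_coe, Subgroup.coe_mul_of_left_le_normalizer_right] at hg'
    swap
    · intro x hx
      obtain ⟨t, rfl⟩ := (h.gen_singleton hr.2).1 hx
      exact hnorm t
    obtain ⟨a, ha, b, hb, rfl⟩ := hg'
    obtain ⟨c, rfl⟩ := (h.gen_singleton hr.2).1 ha
    obtain ⟨t, rfl⟩ := ih hsort' (fun s hs => hpos s (List.mem_cons_of_mem _ hs)) hcl' b hb
    refine ⟨Function.update t r c, ?_⟩
    simp only [prodX, List.map_cons, List.prod_cons, Function.update_self]
    congr 2
    exact List.map_congr_left fun s hs => by rw [Function.update_of_ne (hrL s hs).ne']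

/-- A root element outside a closed set of positive roots avoids its group. -/
lemma Cert.X_not_mem_gen {R w : ℕ} (hw : w ∈ posSet T) (hwR : R.testBit w = false)
    (hpos : ∀ r ∈ maskSet T R, r ∈ posSet T)
    (hn : ∀ r ∈ maskSet T R, ∀ s ∈ maskSet T R, r < s → T.modC r s R = true)
    {e : F} (he : X D w e ∈ gen D F (maskSet T R)) : e = 0 := by
  have hset : maskSet T R = {r | r ∈ (posList T).filter fun r => R.testBit r} := by
    ext r
    rw [Set.mem_ofPred_eq, List.mem_filter, mem_posList]
    exact ⟨fun hr => ⟨hpos r hr, hr.2⟩, fun hr => ⟨hr.1.2, hr.2⟩⟩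
  have hmem : ∀ r, r ∈ (posList T).filter (fun r => R.testBit r) → r ∈ maskSet T R :=
    fun r hr => by rw [hset]; exact hr
  rw [hset] at he
  obtain ⟨t, ht⟩ := h.exists_prodX_odd _ (sortedLT_posList.pairwise.filter _).sortedLT
    (fun r hr => mem_posList.1 (List.mem_filter.1 hr).1) (fun r hr s hs hne q hq => by
      have e1 := hn r (hmem r hr) s (hmem s hs) hne
      simp only [Tab.modC, Bool.or_eq_true, Bool.and_eq_true] at e1
      rcases e1 with e1 | ⟨-, e1⟩
      · exact absurd (Nat.eq_of_beq_eq_true e1) hne.ne'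
      · have := h.oddIn_spec (hmem r hr).1 (hmem s hs).1 e1 q hq
        rw [hset] at this; exact this) _ he
  have hL : ((posList T).filter fun r => R.testBit r || decide (r = w)).SortedLT :=
    (sortedLT_posList.pairwise.filter _).sortedLT
  have drop : ∀ (L : List ℕ) (p q : ℕ → Bool) (f : ℕ → F), (∀ r ∈ L, r < T.n) →
      (∀ r ∈ L, p r = true → q r = true) → (∀ r ∈ L, q r = true → p r = false → f r = 0) →
      prodX D (L.filter p) f = prodX D (L.filter q) f := by
    intro L p q f
    induction L with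
    | nil => intros; rfl
    | cons r L ih =>
      intro hlt hpq hz
      have ih' := ih (fun s hs => hlt s (List.mem_cons_of_mem _ hs))
        (fun s hs => hpq s (List.mem_cons_of_mem _ hs)) (fun s hs => hz s (List.mem_cons_of_mem _ hs))
      cases hp : p r <;> cases hq : q r
      · simpa [List.filter_cons, hp, hq] using ih'
      · have := hz r List.mem_cons_self hq hp
        simpa [List.filter_cons, hp, hq, prodX, this, h.X_zero (hlt r List.mem_cons_self)] using ih'
      · exact absurd (hpq r List.mem_cons_self hp) (by simp [hq])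
      · simp only [List.filter_cons, hp, hq, if_true, prodX, List.map_cons, List.prod_cons]
        exact congrArg _ ih'
  set t' := Function.update t w 0
  have h1 : prodX D ((posList T).filter fun r => R.testBit r || decide (r = w)) t' = X D w e := by
    rw [← drop (posList T) (fun r => R.testBit r) _ t' (fun r hr => (mem_posList.1 hr).2)
      (fun r _ hr => by simp [hr])
      (fun r _ hq hp => by
        rw [hp, Bool.false_or, decide_eq_true_eq] at hq
        simp [t', hq]), ht]
    refine congrArg List.prod (List.map_congr_left fun r hr => ?_)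
    have : r ≠ w := fun e' => by
      have := (List.mem_filter.1 hr).2
      rw [e', hwR] at this; cases this
    simp [t', this]
  have h2 : prodX D ((posList T).filter fun r => R.testBit r || decide (r = w))
      (Function.update 0 w e) = X D w e := by
    rw [← drop (posList T) (fun r => decide (r = w)) _ _ (fun r hr => (mem_posList.1 hr).2)
      (fun r _ hr => by simp [hr])
      (fun r _ _ hp => by simp [of_decide_eq_false hp])]
    have hone : (posList T).filter (fun r => decide (r = w)) = [w] := by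
      rw [List.filter_eq]
      rw [List.count_eq_one_of_mem sortedLT_posList.nodup (mem_posList.2 hw)]
      rfl
    simp [hone, prodX]
  have := h.prodX_inj _ hL (fun r hr => mem_posList.1 (List.mem_filter.1 hr).1) _ _
    (h2.trans h1.symm) w (List.mem_filter.2 ⟨mem_posList.2 hw, by simp⟩)
  simpa [t'] using this

lemma Cert.oneProd_tog {q : ℕ} (hq : q < T.n) : ∀ {L : List ℕ},
    (∀ a ∈ L, Commute (X D q (1 : F)) (X D a 1)) →
      oneProd D F (tog q L) = X D q 1 * oneProd D F L
  | [], _ => by simp [tog, oneProd]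
  | a :: L, hL => by
    unfold tog
    split
    · next e =>
      obtain rfl := Nat.eq_of_beq_eq_true e
      rw [oneProd_cons, ← mul_assoc, h.X_add hq, CharTwo.add_self_eq_zero, h.X_zero hq, one_mul]
    · rw [oneProd_cons, Cert.oneProd_tog hq fun b hb => hL b (List.mem_cons_of_mem _ hb),
        oneProd_cons, ← mul_assoc, ← mul_assoc, (hL a List.mem_cons_self).eq]

lemma Cert.oneProd_parity {L : List ℕ} (e : T.okN L = true) :
    oneProd D F (parity L) = oneProd D F L := by
  obtain ⟨h1, h2⟩ := h.okN_spec (F := F) e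
  suffices ∀ L' : List ℕ, (∀ a ∈ L', a ∈ L) → oneProd D F (parity L') = oneProd D F L' from
    this L fun a ha => ha
  intro L'
  induction L' with
  | nil => intro _; rfl
  | cons a L' ih =>
    intro hL
    show oneProd D F (tog a (parity L')) = _
    rw [h.oneProd_tog (h1 a (hL a List.mem_cons_self)) fun b hb => h2 a (hL a List.mem_cons_self) b
      (hL b (List.mem_cons_of_mem _ (mem_parity hb))), ih fun b hb => hL b (List.mem_cons_of_mem _ hb),
      oneProd_cons]

lemma Cert.conj_oneProd_toggle {s : ℕ} (hs : s < T.n) {N : List ℕ} (hN : ∀ a ∈ N, a < T.n)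
    (hne : ∀ a ∈ N, a = s ∨ a ≠ T.neg s) :
    X D s (1 : F) * oneProd D F N * (X D s 1)⁻¹ = oneProd D F (T.toggled N s) := by
  induction N with
  | nil => simp [oneProd, Tab.toggled]
  | cons a N ih =>
    have e1 := ih (fun b hb => hN b (List.mem_cons_of_mem _ hb))
      (fun b hb => hne b (List.mem_cons_of_mem _ hb))
    have ha := hN a List.mem_cons_self
    rw [show T.toggled (a :: N) s = a :: cond (Nat.beq a s) []
      ((T.oddTerms s a).map fun q => q.1) ++ T.toggled N s from rfl, oneProd_append, oneProd_cons,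
      oneProd_cons, ← e1]
    have e2 : X D s (1 : F) * X D a 1 * (X D s 1)⁻¹ =
        X D a 1 * oneProd D F (cond (Nat.beq a s) [] ((T.oddTerms s a).map fun q => q.1)) := by
      by_cases has : a = s
      · subst has
        simp [oneProd]
      · have hb : Nat.beq a s = false := by
          cases hb : Nat.beq a s
          · rfl
          · exact absurd (Nat.eq_of_beq_eq_true hb) has
        rw [h.X_conj_odd hs ha has ((hne a List.mem_cons_self).resolve_left has), hb, cond_false]
        simp [oneProd, List.map_map, Function.comp_def]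
    rw [← mul_assoc, ← e2]
    group

omit h [CharP F 2] in
lemma childOK_spec {st : ℕ → InvState} {i c : ℕ} {N' : List ℕ} {S' : ℕ}
    (e : Tab.childOK st i c N' S' = true) :
    c < i ∧ N'.Perm (st c).N ∧ maskSet T S' ⊆ maskSet T (st c).S := by
  simp only [Tab.childOK, Bool.and_eq_true, decide_eq_true_eq] at e
  obtain ⟨⟨e1, e2⟩, e3⟩ := e
  refine ⟨Nat.le_of_ble_eq_true e1, e2, fun r hr => ⟨hr.1, ?_⟩⟩
  have h1 : (S' &&& (st c).S).testBit r = true := by
    rw [show S' &&& (st c).S = S' from Nat.eq_of_beq_eq_true e3]; exact hr.2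
  rw [Nat.testBit_and, hr.2, Bool.true_and] at h1
  exact h1

variable [Finite F] {tg : List (List ℕ)} {W : List (List ℕ × List ℕ × List ℕ)} {st : ℕ → InvState}
  {i : ℕ}
  (IH : ∀ c < i, T.okN (st c).N = true ∧ GoodState D T F tg (st c).N (st c).S)
include IH

omit [Finite F] in
lemma Cert.use_child {c : ℕ} {N' : List ℕ} {S' : ℕ} (e : Tab.childOK st i c N' S' = true)
    {N : List ℕ} {y : GL D.Idx F} {g z : GL D.Idx F} (hg : g ∈ D.group F)
    (hz : z ∈ gen D F (maskSet T S'))
    (hsq : (oneProd D F N * y) * (oneProd D F N * y) = 1)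
    (heq : g * (oneProd D F N * y) * g⁻¹ = oneProd D F N' * z) :
    ∃ t ∈ tg, ∃ g ∈ D.group F, g * (oneProd D F N * y) * g⁻¹ = oneProd D F t := by
  obtain ⟨hc, hp, hsub⟩ := childOK_spec (T := T) e
  obtain ⟨hok, hgood⟩ := IH c hc
  rw [h.oneProd_perm hok hp] at heq
  obtain ⟨t, ht, k, hk, e'⟩ := hgood z (gen_mono D hsub hz) (by
    rw [← heq, show g * (oneProd D F N * y) * g⁻¹ * (g * (oneProd D F N * y) * g⁻¹) =
      g * ((oneProd D F N * y) * (oneProd D F N * y)) * g⁻¹ by group, hsq]
    group)
  refine ⟨t, ht, k * g, mul_mem hk hg, ?_⟩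
  rw [← e', ← heq]
  group

/-- A checked move is sound. -/
theorem Cert.chkMove_sound {N : List ℕ} {S : ℕ} (hW : T.chkRel W = true)
    (hok : T.okN N = true) (mv : InvMove) (e : T.chkInvMove tg W st i N S mv = true) : GoodState D T F tg N S := by
  obtain ⟨hN, hNc⟩ := h.okN_spec (F := F) hok
  intro y hy hsq
  cases mv with
  | leaf k =>
    simp only [Tab.chkInvMove, Bool.and_eq_true, decide_eq_true_eq] at e
    obtain ⟨⟨⟨e1, e2⟩, e3⟩, e4⟩ := e
    have hk : k < tg.length := Nat.le_of_ble_eq_true e2
    rw [h.gen_empty fun r hr => by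
      cases hh : S.testBit r
      · rfl
      · exact absurd (allBits_spec e1 r hr hh) Bool.false_ne_true, Subgroup.mem_bot] at hy
    refine ⟨tg.getD k [], ?_, 1, one_mem _, ?_⟩
    · rw [List.getD_eq_getElem _ _ hk]; exact List.getElem_mem hk
    · rw [hy, h.oneProd_perm e3 e4]; group
  | kill v s c =>
    simp only [Tab.chkInvMove, Bool.and_eq_true, Bool.or_eq_true, decide_eq_true_eq, List.all_eq_true,
      bmem_eq] at e
    obtain ⟨⟨⟨⟨⟨⟨⟨⟨hv, hs⟩, hS⟩, hhit⟩, hN3⟩, hsv⟩, hsn⟩, hvn⟩, hc⟩ := e
    have hv : v < T.n := Nat.le_of_ble_eq_true hv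
    have hs : s < T.n := Nat.le_of_ble_eq_true hs
    obtain ⟨a, r, hr, rfl⟩ := h.gen_split hv hS (h.normal_spec hv hvn) hy
    obtain ⟨j, hj, k, rfl⟩ : ∃ j, T.killHits N v s = [j] ∧ ∃ k, j = 2 ^ k := by
      rcases hhit with (e' | e') | e'
      · exact ⟨1, e', 0, rfl⟩
      · exact ⟨2, e', 1, rfl⟩
      · exact ⟨4, e', 2, rfl⟩
    obtain ⟨b, hb⟩ := exists_pow_two_pow k a
    have e1 := h.kill_prod hs hv hS hvn hN (fun x hx => (hN3 x hx).1.2) (fun x hx => (hN3 x hx).1.1)
      (fun x hx => (hN3 x hx).2) b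
    rw [hj, List.map_singleton, List.sum_singleton, hb] at e1
    have hsN := h.normal_spec (F := F) hs hsn b
    have hvN := h.normal_spec (F := F) hv hvn a
    have e2 := e1.mul (h.modC_spec hs hv hsv b a) hvN
    have e3 : ModQ (gen D F (maskSet T (Nat.xor S (2 ^ v))))
        (X D s b * (oneProd D F N * X D v a) * (X D s b)⁻¹) (oneProd D F N) := by
      refine (ModQ.of_eq (by group)).trans (e2.trans (ModQ.of_eq ?_))
      rw [mul_assoc, h.X_add hv, CharTwo.add_self_eq_zero, h.X_zero hv, mul_one]
    refine h.use_child IH hc (h.X_mem_group hs b)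
      (mul_mem e3 ((Subgroup.mem_normalizer_iff.1 hsN r).1 hr)) hsq ?_
    group
  | forced v w L c =>
    simp only [Tab.chkInvMove, Bool.and_eq_true, List.all_eq_true, bmem_eq] at e
    obtain ⟨⟨⟨⟨⟨⟨⟨⟨⟨⟨⟨⟨⟨hv0, hv⟩, hw0⟩, hw⟩, hS⟩, hSw⟩, hhit⟩, hN3⟩, hvw⟩, hvn⟩, hwn⟩, hRm⟩, hRp⟩, hc⟩ := e
    have hv0 : T.half ≤ v := Nat.le_of_ble_eq_true hv0
    have hw0 : T.half ≤ w := Nat.le_of_ble_eq_true hw0
    have hv : v < T.n := Nat.le_of_ble_eq_true hv
    have hw : w < T.n := Nat.le_of_ble_eq_true hw
    generalize hS₁ : Nat.xor S (2 ^ v) = S₁ at hSw hN3 hvw hvn hwn hRm hRp hc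
    generalize hR₀ : Nat.xor S₁ (2 ^ w) = R at hN3 hvw hvn hwn hRm hRp
    have hR : maskSet T R = maskSet T S₁ \ {w} := by rw [← hR₀]; exact maskSet_xor hSw
    obtain ⟨j, hj, hj0⟩ : ∃ j, T.forcedHits N v w = [j] ∧ 0 < j := by
      split at hhit
      · next j hj => exact ⟨j, hj, Nat.le_of_ble_eq_true hhit⟩
      · cases hhit
    have hvR : ∀ t : F, X D v t ∈
        Subgroup.normalizer (gen D F (maskSet T R) : Set (GL D.Idx F)) := h.normal_spec hv hvn
    have hwR : ∀ t : F, X D w t ∈
        Subgroup.normalizer (gen D F (maskSet T R) : Set (GL D.Idx F)) := h.normal_spec hw hwn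
    have hvS : ∀ t : F, X D v t ∈
        Subgroup.normalizer (gen D F (maskSet T S₁) : Set (GL D.Idx F)) := fun t => by
      refine le_normalizer_closure (H := gen D F {v}) ?_ (X_mem_gen D (Set.mem_singleton v) t)
      rintro g hg x ⟨r, hr, u, rfl⟩
      obtain ⟨b, rfl⟩ := (h.gen_singleton hv).1 hg
      have hsub : maskSet T R ⊆ maskSet T S₁ := by rw [hR]; exact Set.sdiff_subset
      have h1 : (X D r u)⁻¹ * (X D v b * X D r u * (X D v b)⁻¹) ∈ gen D F (maskSet T R) := by
        by_cases hrw : r = w
        · subst hrw; exact h.modC_spec hv hw hvw b u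
        · have hrR : r ∈ maskSet T R := by rw [hR]; exact ⟨hr, hrw⟩
          exact h.modC_spec hv hr.1 (allBits_spec hvn r hr.1 hrR.2) b u
      have := mul_mem (X_mem_gen D (F := F) hr u) (gen_mono D hsub h1)
      rwa [mul_inv_cancel_left] at this
    have hP := h.oneProd_mem_normalizer (F := F) hN fun x hx => (hN3 x hx).2
    obtain ⟨a, r, hr, rfl⟩ := h.gen_split hv hS (by rw [hS₁]; exact hvS) hy
    rw [hS₁] at hr
    obtain ⟨b, r', hr', rfl⟩ := h.gen_split hw hSw (by rw [hR₀]; exact hwR) hr
    rw [hR₀] at hr'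
    have e1 := h.forced_prod hv hw hR hwn hN (fun x hx => (hN3 x hx).2)
      (fun x hx => (hN3 x hx).1.2) (fun x hx => (hN3 x hx).1.1) a
    rw [hj, List.map_singleton, List.sum_singleton] at e1
    have e2 := (h.oneProd_swap hw hN (fun x hx => (hN3 x hx).2) hwn (fun x hx => (hN3 x hx).1.2) b)
    have hinv : (oneProd D F N)⁻¹ = oneProd D F N := inv_eq_of_mul_eq_one_right (h.oneProd_sq hok)
    have e3 : ModQ (gen D F (maskSet T R))
        (oneProd D F N * X D w b * (oneProd D F N)⁻¹) (X D w b) := by
      have := e2.mul_right (inv_mem hP)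
      rwa [mul_inv_cancel_right] at this
    have hx : ModQ (gen D F (maskSet T R)) (oneProd D F N * (X D v a * (X D w b * r')))
        (oneProd D F N * (X D v a * X D w b)) := by
      show (oneProd D F N * (X D v a * X D w b))⁻¹ * _ ∈ _
      rw [show (oneProd D F N * (X D v a * X D w b))⁻¹ *
        (oneProd D F N * (X D v a * (X D w b * r'))) = r' by group]
      exact hr'
    have hX : oneProd D F N * (X D v a * X D w b) ∈
        Subgroup.normalizer (gen D F (maskSet T R) : Set (GL D.Idx F)) :=
      mul_mem hP (mul_mem (hvR a) (hwR b))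
    have e4 : ModQ (gen D F (maskSet T R))
        (oneProd D F N * (X D v a * X D w b) * (oneProd D F N * (X D v a * X D w b)))
        (X D w (a ^ j)) := by
      refine (ModQ.of_eq (show _ = (oneProd D F N * X D v a * (oneProd D F N)⁻¹) *
        (oneProd D F N * X D w b * (oneProd D F N)⁻¹) * (X D v a * X D w b) by
        simp only [hinv]
        rw [mul_assoc (oneProd D F N * X D v a * oneProd D F N),
          show oneProd D F N * X D w b * oneProd D F N * (X D v a * X D w b) =
            oneProd D F N * (X D w b * oneProd D F N * (X D v a * X D w b)) by group,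
          mul_assoc (oneProd D F N * X D v a), ← mul_assoc (oneProd D F N) (oneProd D F N),
          h.oneProd_sq hok, one_mul]
        group)).trans ?_
      refine ((e1.mul e3 (hwR b)).mul_right (mul_mem (hvR a) (hwR b))).trans ?_
      have c1 : ModQ (gen D F (maskSet T R)) (X D w (a ^ j + b) * X D v a)
          (X D v a * X D w (a ^ j + b)) :=
        ((h.modC_spec hv hw hvw a (a ^ j + b)).swap (hvR a)).symm
      refine (ModQ.of_eq ?_).trans
        (((c1.mul_left (X D v a)).mul_right (hwR b)).trans (ModQ.of_eq ?_))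
      · rw [← h.X_add hw]; simp only [mul_assoc]
      · rw [← mul_assoc (X D v a), h.X_add hv, CharTwo.add_self_eq_zero, h.X_zero hv, one_mul,
          h.X_add hw, add_assoc, CharTwo.add_self_eq_zero, add_zero]
    have e5 : ModQ (gen D F (maskSet T R)) 1 (X D w (a ^ j)) :=
      ((ModQ.of_eq hsq.symm).trans (hx.mul hx hX)).trans e4
    have e6 : X D w (a ^ j) ∈ gen D F (maskSet T R) := by
      have := inv_mem (show (X D w (a ^ j))⁻¹ * 1 ∈ gen D F (maskSet T R) from e5)
      rwa [mul_one, inv_inv] at this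
    have hmemL : ∀ x ∈ maskSet T R, x ∈ L := fun x hx' => by
      have h1 := hx'.2
      rw [← Nat.eq_of_beq_eq_true hRm] at h1
      exact mem_of_testBit_xmask h1
    have hRpos : ∀ x ∈ maskSet T R, x ∈ posSet T := fun x hx' =>
      ⟨Nat.le_of_ble_eq_true (hRp x (hmemL x hx')).1, hx'.1⟩
    have hRcl : ∀ x ∈ maskSet T R, ∀ z ∈ maskSet T R, x < z → T.modC x z R = true :=
      fun x hx' z hz hxz => by
        rcases Bool.or_eq_true _ _ ▸ (hRp x (hmemL x hx')).2 z (hmemL z hz) with e' | e'
        · exact absurd (Nat.le_of_ble_eq_true e') (by omega)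
        · exact e'
    have hwnR : R.testBit w = false := by
      rw [← hR₀, show Nat.xor S₁ (2 ^ w) = S₁ ^^^ 2 ^ w from rfl, Nat.testBit_xor,
        Nat.testBit_two_pow, hSw]
      simp
    have ha := h.X_not_mem_gen ⟨hw0, hw⟩ hwnR hRpos hRcl e6
    rw [pow_eq_zero_iff hj0.ne'] at ha
    subst ha
    rw [h.X_zero hv, one_mul] at hsq ⊢
    refine h.use_child IH hc (one_mem _) hr hsq ?_
    group
  | branch v m c₀ c₁ =>
    simp only [Tab.chkInvMove, Bool.and_eq_true, decide_eq_true_eq, List.all_eq_true, List.any_eq_true,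
      List.mem_range, bmem_eq] at e
    obtain ⟨⟨⟨⟨⟨⟨hv, hS⟩, hN3⟩, hk⟩, hvn⟩, hc0⟩, hc1⟩ := e
    have hv : v < T.n := Nat.le_of_ble_eq_true hv
    obtain ⟨k, -, hk⟩ := hk
    obtain ⟨a, r, hr, rfl⟩ := h.gen_split hv hS (h.normal_spec hv hvn) hy
    by_cases ha : a = 0
    · subst ha
      rw [h.X_zero hv, one_mul] at hsq ⊢
      refine h.use_child IH hc0 (one_mem _) hr hsq ?_
      group
    obtain ⟨μ, hμ, hμ'⟩ : ∃ μ : F, μ ≠ 0 ∧ μ ^ (T.mval m v) = a⁻¹ := by
      rcases Int.natAbs_eq (T.mval m v) with e' | e' <;> rw [hk] at e'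
      · obtain ⟨c, hc⟩ := exists_pow_two_pow k a⁻¹
        refine ⟨c, fun e'' => ?_, ?_⟩
        · rw [e'', zero_pow (by positivity)] at hc
          exact inv_ne_zero ha hc.symm
        · rw [e', zpow_natCast, hc]
      · obtain ⟨c, hc⟩ := exists_pow_two_pow k a
        refine ⟨c, fun e'' => ?_, ?_⟩
        · rw [e'', zero_pow (by positivity)] at hc
          exact ha hc.symm
        · rw [e', _root_.zpow_neg, zpow_natCast, hc]
    obtain ⟨u, hu, eu⟩ : ∃ u : GL D.Idx F, u ∈ D.diagonalSubgroup F ∧
        (u : Matrix D.Idx D.Idx F) = torus D (charOf T fun k => μ ^ m.getD k 0) := by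
      have hne : ∀ k < T.l, (fun k => μ ^ m.getD k 0) k ≠ 0 := fun k _ => zpow_ne_zero _ hμ
      have hd : IsUnit (torus D (charOf T fun k => μ ^ m.getD k 0)) := by
        refine IsUnit.of_mul_eq_one (torus D (charOf T fun k => (μ ^ m.getD k 0)⁻¹)) ?_
        rw [torus_mul, ← torus_one D]
        refine torus_congr D fun s _ => ?_
        rw [charOf, charOf, ← Finset.prod_mul_distrib]
        refine Finset.prod_eq_one fun k hk => ?_
        rw [_root_.inv_zpow, mul_inv_cancel₀ (zpow_ne_zero _ (zpow_ne_zero _ hμ))]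
      exact ⟨hd.unit, h.mem_diagonalSubgroup_iff.2 ⟨_, hne, hd.unit_spec⟩, hd.unit_spec⟩
    have hchar : ∀ x, charOf T (fun k => μ ^ m.getD k 0) x = μ ^ T.mval m x := by
      intro x
      rw [charOf, Tab.mval]
      induction T.l with
      | zero => simp
      | succ l ih =>
        rw [Finset.prod_range_succ, ih, List.range_succ, List.map_append, List.sum_append,
          List.map_singleton, List.sum_singleton, zpow_add₀ hμ, ← _root_.zpow_mul]
    have hconj : ∀ x < T.n, ∀ z : F, u * X D x z * u⁻¹ = X D x (μ ^ T.mval m x * z) := by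
      intro x hx z
      rw [mul_inv_eq_iff_eq_mul]
      refine Units.ext ?_
      rw [Units.val_mul, Units.val_mul, h.coe_X, h.coe_X, eu,
        h.torus_mul_x (h.isChar_charOf fun k _ => zpow_ne_zero _ hμ) hx, hchar]
    have hPconj : ∀ L : List ℕ, (∀ x ∈ L, x ∈ N) → u * oneProd D F L * u⁻¹ = oneProd D F L := by
      intro L
      induction L with
      | nil => intro _; simp [oneProd]
      | cons x L ih =>
        intro hL
        have hx := hL x List.mem_cons_self
        rw [oneProd_cons, show u * (X D x 1 * oneProd D F L) * u⁻¹ =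
          u * X D x 1 * u⁻¹ * (u * oneProd D F L * u⁻¹) by group,
          ih fun y hy => hL y (List.mem_cons_of_mem _ hy), hconj x (hN x hx), (hN3 x hx).2,
          zpow_zero, one_mul]
    have hcomm : Commute (oneProd D F N) (X D v (1 : F)) := by
      refine Commute.list_prod_left _ _ fun g hg => ?_
      obtain ⟨x, hx, rfl⟩ := List.mem_map.1 hg
      exact h.commute_of_modC (hN x hx) hv (hN3 x hx).1 1 1
    have hur : u * r * u⁻¹ ∈ gen D F (maskSet T (Nat.xor S (2 ^ v))) :=
      (Subgroup.mem_normalizer_iff.1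
        (h.diagonal_le_normalizer_gen (fun x hx => hx.1) hu) r).1 hr
    refine h.use_child IH hc1 (h.diagonal_le_group hu) hur hsq ?_
    rw [show u * (oneProd D F N * (X D v a * r)) * u⁻¹ =
      u * oneProd D F N * u⁻¹ * (u * X D v a * u⁻¹) * (u * r * u⁻¹) by group,
      hPconj N fun x hx => hx, hconj v hv, hμ', inv_mul_cancel₀ ha, hcomm.eq, oneProd_cons]
  | weyl w c =>
    simp only [Tab.chkInvMove, Bool.and_eq_true, List.all_eq_true] at e
    obtain ⟨⟨hw, himg⟩, hc⟩ := e
    have hw : WordOK T w := fun j hj => Nat.le_of_ble_eq_true (hw j hj)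
    obtain ⟨hci, hp, -⟩ := childOK_spec (T := T) hc
    have hc' : Tab.childOK st i c (N.map (rword T w)) (st c).S = true := by
      simp only [Tab.childOK, Bool.and_eq_true] at hc ⊢
      exact ⟨hc.1, by rw [show Nat.land (st c).S (st c).S = (st c).S from Nat.and_self _,
        Nat.beq_refl]⟩
    have hPconj : ∀ L : List ℕ, (∀ x ∈ L, x ∈ N) →
        nW D F w * oneProd D F L * (nW D F w)⁻¹ = oneProd D F (L.map (rword T w)) := by
      intro L
      induction L with
      | nil => intro _; simp [oneProd]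
      | cons x L ih =>
        intro hL
        obtain ⟨z, hz, hz'⟩ := h.nW_conj_X_one' (F := F) hw (hN x (hL x List.mem_cons_self))
        rw [List.map_cons, oneProd_cons, oneProd_cons,
          ← ih fun y hy => hL y (List.mem_cons_of_mem _ hy)]
        rw [hz] at hz'
        rw [← hz']
        group
    have hyz : nW D F w * y * (nW D F w)⁻¹ ∈ gen D F (maskSet T (st c).S) := by
      refine Cert.conj_gen_le (S' := maskSet T (st c).S) (fun r hr =>
        ⟨rword T w r, ⟨h.rword_lt hw hr.1, ?_⟩, h.Maps_nW hw hr.1⟩) hy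
      rw [← bmem_eq]; exact allBits_spec himg r hr.1 hr.2
    refine h.use_child IH hc' (h.monomial_le_group (h.nW_mem_monomial hw)) hyz hsq ?_
    rw [← hPconj N fun x hx => hx]
    group
  | toggle s c =>
    simp only [Tab.chkInvMove, Bool.and_eq_true, List.all_eq_true, Bool.or_eq_true,
      Bool.not_eq_true'] at e
    obtain ⟨⟨⟨⟨hs, hne⟩, hok'⟩, hsn⟩, hc⟩ := e
    have hs : s < T.n := Nat.le_of_ble_eq_true hs
    have hne' : ∀ a ∈ N, a = s ∨ a ≠ T.neg s := fun a ha => by
      rcases hne a ha with e' | e'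
      · exact Or.inl (Nat.eq_of_beq_eq_true e')
      · exact Or.inr fun e'' => by rw [e''] at e'; simp at e'
    refine h.use_child IH hc (h.X_mem_group hs 1)
      ((Subgroup.mem_normalizer_iff.1 (h.normal_spec hs hsn 1) y).1 hy) hsq ?_
    rw [h.oneProd_parity hok', ← h.conj_oneProd_toggle hs hN hne']
    group
  | word k B c =>
    simp only [Tab.chkInvMove, Bool.and_eq_true, List.all_eq_true, decide_eq_true_eq] at e
    obtain ⟨⟨⟨hk, hp⟩, hg⟩, hc⟩ := e
    have hk : k < W.length := Nat.le_of_ble_eq_true hk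
    rw [List.getD_eq_getElem _ _ hk] at hp hg hc
    generalize hWk : W[k] = x at hp hg hc
    have hx : x ∈ W := hWk ▸ List.getElem_mem hk
    simp only [Tab.chkRel, Bool.and_eq_true, List.all_eq_true] at hW
    obtain ⟨⟨⟨hg', hA⟩, hA'⟩, heq⟩ := hW x hx
    obtain ⟨g, A, A'⟩ := x
    simp only at hp hg hc hg' hA hA' heq
    have hg'' : ∀ s ∈ g, s < T.n := fun s hs => Nat.le_of_ble_eq_true (hg' s hs)
    have hA'' : ∀ a ∈ A', a < T.n := fun a ha => Nat.le_of_ble_eq_true (hA' a ha)
    have hall : ∀ a ∈ g ++ (A ++ g.reverse), a < T.n := fun a ha => by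
      rcases List.mem_append.1 ha with ha | ha
      · exact hg'' a ha
      rcases List.mem_append.1 ha with ha | ha
      · exact Nat.le_of_ble_eq_true (hA a ha)
      · exact hg'' a (List.mem_reverse.1 ha)
    have e1 := h.oneProd_eq_of_eq2 (F := F) hall hA'' heq
    rw [oneProd_append, oneProd_append] at e1
    have hrev : ∀ L : List ℕ, (∀ s ∈ L, s < T.n) →
        oneProd D F L.reverse = (oneProd D F L)⁻¹ := by
      intro L
      induction L with
      | nil => intro _; simp [oneProd]
      | cons a L ih =>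
        intro hL
        rw [List.reverse_cons, oneProd_append, ih fun s hs => hL s (List.mem_cons_of_mem _ hs),
          show oneProd D F [a] = X D a 1 by simp [oneProd], oneProd_cons, _root_.mul_inv_rev,
          h.X_inv (hL a List.mem_cons_self), CharTwo.neg_eq]
    rw [hrev g hg'', ← mul_assoc] at e1
    have hB : ∀ b ∈ B, b < T.n := fun b hb => hN b (hp.subset (List.mem_append_right _ hb))
    have hcomm : Commute (oneProd D F g) (oneProd D F B) := by
      refine Commute.list_prod_left _ _ fun u hu => ?_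
      obtain ⟨s, hs, rfl⟩ := List.mem_map.1 hu
      refine Commute.list_prod_right _ _ fun u hu => ?_
      obtain ⟨b, hb, rfl⟩ := List.mem_map.1 hu
      exact h.commute_of_modC (hg'' s hs) (hB b hb) ((hg s hs).2 b hb) 1 1
    have hn : oneProd D F g ∈ Subgroup.normalizer (gen D F (maskSet T S) : Set (GL D.Idx F)) :=
      h.oneProd_mem_normalizer hg'' fun s hs => (hg s hs).1
    refine h.use_child IH hc (h.oneProd_mem_group hg'')
      ((Subgroup.mem_normalizer_iff.1 hn y).1 hy) hsq ?_
    have e2 : oneProd D F N = oneProd D F A * oneProd D F B := by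
      rw [← oneProd_append, h.oneProd_perm hok hp]
    rw [e2, oneProd_append, ← e1]
    rw [show oneProd D F g * oneProd D F A * (oneProd D F g)⁻¹ * oneProd D F B =
      oneProd D F g * oneProd D F A * ((oneProd D F g)⁻¹ * oneProd D F B) by group,
      hcomm.inv_left.eq]
    group

omit IH

/-- Checked certificates are sound. -/
theorem Cert.chkInvState_sound {k : ℕ} (hW : T.chkRel W = true)
    (e : ∀ j < k, T.chkInvState tg W st j = true) :
    ∀ j < k, T.okN (st j).N = true ∧ GoodState D T F tg (st j).N (st j).S := by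
  intro j
  induction j using Nat.strong_induction_on with
  | _ j ih =>
    intro hj
    have h1 := e j hj
    rw [Tab.chkInvState, Bool.and_eq_true] at h1
    exact ⟨h1.1, h.chkMove_sound (fun c hc => ih c hc (lt_trans hc hj)) hW h1.1 _ h1.2⟩

end Sem

end CfsgLib.Chev
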