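import Cfsg.Agent.Lib.Chev.InvolCert

/-! The certificate for the involution classes of type E6 in characteristic 2 (generated). -/

set_option autoImplicit false
set_option maxRecDepth 100000

namespace CfsgLib.Chev

def invE6T0 : InvTree :=
 .node (.node (.node (.node (.node (.leaf ⟨[55, 65, 67], 0x0, .leaf 3⟩)
 (.leaf ⟨[], 0xffe0f8000000000000, .branch 51 [0, 0, 0, 0, 0, (-1)] 255 225⟩))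
 (.node (.leaf ⟨[58], 0xffc0ffb31000000000, .forced 48 64 [36, 40, 41, 44, 45, 47, 49, 50, 51, 52, 53, 54, 55, 62, 63, 65, 66, 67, 68, 69, 70, 71] 127⟩)
 (.leaf ⟨[55, 65, 67], 0x0, .leaf 3⟩)))
 (.node (.node (.leaf ⟨[46, 57], 0xc70018000000000000, .kill 51 44 63⟩)
 (.leaf ⟨[55, 65, 67], 0x0, .leaf 3⟩))
 (.node (.leaf ⟨[46, 54], 0x3f0080000000000000, .weyl [3, 2, 0, 4, 3, 2, 5, 4, 3, 1, 2, 0, 4, 5, 5, 4, 0, 1, 3, 4, 5, 2, 3, 4, 0, 2, 3] 190⟩)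
 (.leaf ⟨[55, 65, 67], 0x0, .leaf 3⟩))))
 (.node (.node (.node (.leaf ⟨[43, 57], 0x830018000000000000, .branch 51 [0, 0, 0, 0, 0, (-1)] 31 18⟩)
 (.leaf ⟨[55, 65, 67], 0x0, .leaf 3⟩))
 (.node (.leaf ⟨[60], 0x8960d2000000000000, .weyl [3, 4, 5] 88⟩)
 (.leaf ⟨[55, 65, 67], 0x0, .leaf 3⟩)))
 (.node (.node (.leaf ⟨[57], 0xe7009c787000000000, .forced 55 69 [36, 37, 38, 43, 44, 45, 46, 50, 51, 52, 64, 65, 66, 70, 71] 95⟩)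
 (.leaf ⟨[55, 65, 67], 0x0, .leaf 3⟩))
 (.node (.leaf ⟨[49], 0xffe0f8000000000000, .weyl [3, 2, 0, 4, 3, 2, 5, 4, 3, 1, 1, 3, 4, 2, 3, 0, 2] 218⟩)
 (.leaf ⟨[55, 65, 67], 0x0, .leaf 3⟩)))))
 (.node (.node (.node (.node (.leaf ⟨[43, 51, 57], 0x810000000000000000, .kill 71 65 15⟩)
 (.leaf ⟨[], 0xfffcfffb7000000000, .branch 43 [0, 0, 0, 0, (-1), 0] 271 138⟩))
 (.node (.leaf ⟨[59], 0xf6a0f9224000000000, .forced 52 69 [38, 41, 45, 48, 51, 53, 54, 55, 61, 63, 65, 66, 68, 70, 71] 143⟩)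
 (.leaf ⟨[55, 65, 67], 0x0, .leaf 3⟩)))
 (.node (.node (.leaf ⟨[57], 0x800000000000000000, .branch 71 [0, 1, 0, 0, 0, 0] 79 77⟩)
 (.leaf ⟨[55, 65, 67], 0x0, .leaf 3⟩))
 (.node (.leaf ⟨[46], 0x3f00c0000000000000, .branch 54 [0, 0, 0, 0, 0, 1] 207 192⟩)
 (.leaf ⟨[55, 65, 67], 0x0, .leaf 3⟩))))
 (.node (.node (.node (.leaf ⟨[36, 57], 0xc70014400000000000, .kill 52 51 47⟩)
 (.leaf ⟨[55, 65, 67], 0x0, .leaf 3⟩))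
 (.node (.leaf ⟨[36], 0xfff0ffe20000000000, .kill 41 40 175⟩)
 (.leaf ⟨[55, 65, 67], 0x0, .leaf 3⟩)))
 (.node (.node (.leaf ⟨[57], 0xfffcfffbf000000000, .forced 39 58 [36, 37, 38, 40, 41, 43, 44, 45, 46, 47, 48, 49, 50, 51, 52, 53, 54, 55, 59, 60, 61, 62, 63, 64, 65, 66, 67, 68, 69, 70, 71] 111⟩)
 (.leaf ⟨[55, 65, 67], 0x0, .leaf 3⟩))
 (.node (.leaf ⟨[], 0x0, .leaf 0⟩)
 (.leaf ⟨[55, 65, 67], 0x0, .leaf 3⟩)))))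

def invE6T1 : InvTree :=
 .node (.node (.node (.node (.node (.leaf ⟨[44, 60, 71], 0x0, .weyl [0, 2, 3, 1, 0] 0⟩)
 (.leaf ⟨[], 0xffe0fa000000000000, .branch 49 [0, 0, 0, 0, 0, 1] 256 224⟩))
 (.node (.leaf ⟨[58], 0xffe0ffb31000000000, .kill 61 46 128⟩)
 (.leaf ⟨[55, 65, 67], 0x0, .leaf 3⟩)))
 (.node (.node (.leaf ⟨[46, 57], 0xc7001c000000000000, .kill 50 43 64⟩)
 (.leaf ⟨[55, 65, 67], 0x0, .leaf 3⟩))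
 (.node (.leaf ⟨[46, 64], 0x3e0080000000000000, .weyl [3, 2, 0, 4, 3, 2, 5, 4, 3, 1, 2, 0, 4, 5, 5, 0, 2, 1, 3, 4, 5, 2, 3, 4, 0, 2, 3] 191⟩)
 (.leaf ⟨[55, 65, 67], 0x0, .leaf 3⟩))))
 (.node (.node (.node (.leaf ⟨[43, 57], 0x830018001000000000, .branch 36 [0, 1, 1, 1, 1, 1] 32 10⟩)
 (.leaf ⟨[55, 65, 67], 0x0, .leaf 3⟩))
 (.node (.leaf ⟨[60], 0xc960d2000000000000, .kill 70 53 160⟩)
 (.leaf ⟨[55, 65, 67], 0x0, .leaf 3⟩)))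
 (.node (.node (.leaf ⟨[57], 0xf7009c787000000000, .kill 68 54 96⟩)
 (.leaf ⟨[55, 65, 67], 0x0, .leaf 3⟩))
 (.node (.leaf ⟨[51], 0xffe0f0000000000000, .weyl [3, 2, 0, 4, 3, 2, 5, 4, 3, 1, 1, 3, 4, 5, 2, 3, 0] 217⟩)
 (.leaf ⟨[55, 65, 67], 0x0, .leaf 3⟩)))))
 (.node (.node (.node (.node (.leaf ⟨[43, 51, 57], 0x830000000000000000, .forced 65 71 [64] 16⟩)
 (.leaf ⟨[], 0xfffcfffbf000000000, .branch 39 [0, 0, 0, 0, (-1), 0] 272 137⟩))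
 (.node (.leaf ⟨[59], 0xfea0f9224000000000, .kill 67 50 144⟩)
 (.leaf ⟨[55, 65, 67], 0x0, .leaf 3⟩)))
 (.node (.node (.leaf ⟨[57], 0xc00000000000000000, .branch 70 [0, 0, 1, 1, 0, 0] 80 76⟩)
 (.leaf ⟨[55, 65, 67], 0x0, .leaf 3⟩))
 (.node (.leaf ⟨[46], 0x3f00e0000000000000, .branch 53 [0, 0, 0, 0, 0, (-1)] 208 191⟩)
 (.leaf ⟨[55, 65, 67], 0x0, .leaf 3⟩))))
 (.node (.node (.node (.leaf ⟨[36, 57], 0xc7001c400000000000, .forced 51 52 [46, 50, 64, 65, 66, 70, 71] 48⟩)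
 (.leaf ⟨[55, 65, 67], 0x0, .leaf 3⟩))
 (.node (.leaf ⟨[36], 0xfff0ffe24000000000, .kill 38 37 176⟩)
 (.leaf ⟨[55, 65, 67], 0x0, .leaf 3⟩)))
 (.node (.node (.leaf ⟨[56], 0xfffcfffbf000000000, .weyl [2] 112⟩)
 (.leaf ⟨[55, 65, 67], 0x0, .leaf 3⟩))
 (.node (.leaf ⟨[], 0x800000000000000000, .branch 71 [0, 1, 0, 0, 0, 0] 240 78⟩)
 (.leaf ⟨[55, 65, 67], 0x0, .leaf 3⟩)))))

def invE6T2 : InvTree :=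
 .node (.node (.node (.node (.node (.leaf ⟨[44, 60, 71], 0x0, .weyl [5, 0, 1, 3, 4, 2, 3, 1, 5, 0] 1⟩)
 (.leaf ⟨[], 0xffe0fe000000000000, .branch 50 [0, 0, 0, 0, (-1), 0] 257 223⟩))
 (.node (.leaf ⟨[58], 0xffe0fff31000000000, .forced 46 61 [36, 40, 41, 44, 45, 47, 48, 49, 50, 51, 52, 53, 54, 55, 62, 63, 64, 65, 66, 67, 68, 69, 70, 71] 129⟩)
 (.leaf ⟨[55, 65, 67], 0x0, .leaf 3⟩)))
 (.node (.node (.leaf ⟨[50, 57], 0xc70018000000000000, .weyl [3, 2, 0, 4, 3, 2, 5, 4, 3, 1, 3, 2, 0, 5, 0, 2, 3, 1, 3, 4, 5, 2, 3, 4, 0] 64⟩)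
 (.leaf ⟨[55, 65, 67], 0x0, .leaf 3⟩))
 (.node (.leaf ⟨[46, 55], 0x3e0000000000000000, .weyl [3, 2, 0, 4, 3, 2, 5, 4, 3, 1, 2, 0, 4, 5, 5, 4, 1, 3, 4, 5, 2, 3, 4, 0, 2, 3] 190⟩)
 (.leaf ⟨[55, 65, 67], 0x0, .leaf 3⟩))))
 (.node (.node (.node (.leaf ⟨[43, 57], 0xc30018001000000000, .kill 70 66 33⟩)
 (.leaf ⟨[55, 65, 67], 0x0, .leaf 3⟩))
 (.node (.leaf ⟨[60], 0xe960d2000000000000, .kill 69 51 161⟩)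
 (.leaf ⟨[55, 65, 67], 0x0, .leaf 3⟩)))
 (.node (.node (.leaf ⟨[57], 0xf700dc787000000000, .forced 54 68 [36, 37, 38, 43, 44, 45, 46, 50, 51, 52, 55, 64, 65, 66, 69, 70, 71] 97⟩)
 (.leaf ⟨[55, 65, 67], 0x0, .leaf 3⟩))
 (.node (.leaf ⟨[61], 0xffc0f0000000000000, .weyl [3, 2, 0, 4, 3, 2, 5, 4, 3, 1, 1, 3, 4, 5, 2, 3, 4] 219⟩)
 (.leaf ⟨[55, 65, 67], 0x0, .leaf 3⟩)))))
 (.node (.node (.node (.node (.leaf ⟨[43, 51, 57], 0x830010000000000000, .kill 52 36 17⟩)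
 (.leaf ⟨[], 0xfffefffbf000000000, .branch 57 [0, 0, 0, (-1), 0, 0] 273 112⟩))
 (.node (.leaf ⟨[59], 0xfea0fb224000000000, .forced 49 66 [38, 41, 45, 48, 51, 52, 53, 54, 55, 61, 63, 65, 67, 68, 69, 70, 71] 145⟩)
 (.leaf ⟨[55, 65, 67], 0x0, .leaf 3⟩)))
 (.node (.node (.leaf ⟨[57], 0xc40000000000000000, .branch 66 [0, 0, 0, 0, 1, 0] 81 75⟩)
 (.leaf ⟨[55, 65, 67], 0x0, .leaf 3⟩))
 (.node (.leaf ⟨[46], 0xbf00e0000000000000, .kill 71 70 209⟩)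
 (.leaf ⟨[55, 65, 67], 0x0, .leaf 3⟩))))
 (.node (.node (.node (.leaf ⟨[36, 57], 0xc7001c600000000000, .kill 45 44 49⟩)
 (.leaf ⟨[55, 65, 67], 0x0, .leaf 3⟩))
 (.node (.leaf ⟨[38], 0xfff0ffe20000000000, .weyl [4, 3, 2, 0, 0, 2, 3] 176⟩)
 (.leaf ⟨[55, 65, 67], 0x0, .leaf 3⟩)))
 (.node (.node (.leaf ⟨[56], 0xfffefffbf000000000, .kill 57 42 113⟩)
 (.leaf ⟨[55, 65, 67], 0x0, .leaf 3⟩))
 (.node (.leaf ⟨[], 0xc00000000000000000, .branch 70 [0, 0, 0, 1, 0, 0] 241 239⟩)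
 (.leaf ⟨[55, 65, 67], 0x0, .leaf 3⟩)))))

def invE6T3 : InvTree :=
 .node (.node (.node (.node (.node (.leaf ⟨[39, 44, 60, 71], 0x0, .word 0 [] 2⟩)
 (.leaf ⟨[], 0xffe0ff000000000000, .branch 48 [0, 0, 0, 0, 0, (-1)] 258 222⟩))
 (.node (.leaf ⟨[58], 0xfff0fff31000000000, .kill 60 38 130⟩)
 (.leaf ⟨[55, 65, 67], 0x0, .leaf 3⟩)))
 (.node (.node (.leaf ⟨[51, 57], 0xc70010000000000000, .weyl [3, 2, 0, 4, 3, 2, 5, 4, 3, 1, 3, 2, 0, 5, 0, 2, 3, 1, 3, 4, 5, 2, 3, 0] 63⟩)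
 (.leaf ⟨[55, 65, 67], 0x0, .leaf 3⟩))
 (.node (.leaf ⟨[46, 65], 0x3c0000000000000000, .weyl [3, 2, 0, 4, 3, 2, 5, 4, 3, 1, 2, 0, 4, 5, 5, 0, 1, 3, 4, 5, 2, 3, 4, 0, 2, 3] 189⟩)
 (.leaf ⟨[55, 65, 67], 0x0, .leaf 3⟩))))
 (.node (.node (.node (.leaf ⟨[43, 57], 0xc70018001000000000, .forced 66 70 [36, 51, 52, 64, 65, 71] 34⟩)
 (.leaf ⟨[55, 65, 67], 0x0, .leaf 3⟩))
 (.node (.leaf ⟨[60], 0xf960d2000000000000, .kill 68 50 162⟩)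
 (.leaf ⟨[55, 65, 67], 0x0, .leaf 3⟩)))
 (.node (.node (.leaf ⟨[57], 0xff00dc787000000000, .kill 67 53 98⟩)
 (.leaf ⟨[55, 65, 67], 0x0, .leaf 3⟩))
 (.node (.leaf ⟨[52], 0xffc0e0000000000000, .weyl [3, 2, 0, 4, 3, 2, 5, 4, 3, 1, 1, 3, 4, 2, 3, 0] 216⟩)
 (.leaf ⟨[55, 65, 67], 0x0, .leaf 3⟩)))))
 (.node (.node (.node (.node (.leaf ⟨[43, 52, 57], 0x830000000000000000, .weyl [0, 4, 5, 1, 3, 2, 4, 3, 1, 2, 3, 4, 5, 2, 4, 4, 2, 5, 4, 3, 1, 3, 4, 2, 3, 1, 5, 4, 0] 17⟩)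
 (.leaf ⟨[], 0xfffefffff000000000, .branch 42 [0, 0, 0, (-1), 0, 0] 274 117⟩))
 (.node (.leaf ⟨[59], 0xffa0fb224000000000, .kill 64 47 146⟩)
 (.leaf ⟨[55, 65, 67], 0x0, .leaf 3⟩)))
 (.node (.node (.leaf ⟨[57], 0xc60000000000000000, .branch 65 [0, 0, 0, 0, 0, 1] 82 74⟩)
 (.leaf ⟨[55, 65, 67], 0x0, .leaf 3⟩))
 (.node (.leaf ⟨[46], 0xff00e0000000000000, .forced 70 71 [53, 54, 55, 64, 65, 66, 67, 68, 69] 210⟩)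
 (.leaf ⟨[55, 65, 67], 0x0, .leaf 3⟩))))
 (.node (.node (.node (.leaf ⟨[36, 57], 0xc7001c604000000000, .kill 38 37 50⟩)
 (.leaf ⟨[55, 65, 67], 0x0, .leaf 3⟩))
 (.node (.leaf ⟨[41], 0xfff0ffe00000000000, .weyl [4, 3, 2, 0, 0, 2] 175⟩)
 (.leaf ⟨[55, 65, 67], 0x0, .leaf 3⟩)))
 (.node (.node (.leaf ⟨[56], 0xfffefffff000000000, .forced 42 57 [36, 37, 38, 39, 40, 41, 43, 44, 45, 46, 47, 48, 49, 50, 51, 52, 53, 54, 55, 58, 59, 60, 61, 62, 63, 64, 65, 66, 67, 68, 69, 70, 71] 114⟩)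
 (.leaf ⟨[55, 65, 67], 0x0, .leaf 3⟩))
 (.node (.leaf ⟨[], 0xe00000000000000000, .branch 69 [0, 0, 0, 0, 1, 0] 242 238⟩)
 (.leaf ⟨[55, 65, 67], 0x0, .leaf 3⟩)))))

def invE6T4 : InvTree :=
 .node (.node (.node (.node (.node (.leaf ⟨[36, 43, 57, 71], 0x0, .weyl [4, 2, 5, 4, 0, 1, 3, 4, 2, 3, 1, 0, 2, 3, 4] 3⟩)
 (.leaf ⟨[], 0xffe0ff800000000000, .branch 47 [0, 0, 0, 0, (-1), 0] 259 221⟩))
 (.node (.leaf ⟨[58], 0xfff0fff35000000000, .forced 38 60 [36, 40, 41, 44, 45, 46, 47, 48, 49, 50, 51, 52, 53, 54, 55, 61, 62, 63, 64, 65, 66, 67, 68, 69, 70, 71] 131⟩)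
 (.leaf ⟨[55, 65, 67], 0x0, .leaf 3⟩)))
 (.node (.node (.leaf ⟨[52, 57], 0xc70000000000000000, .weyl [3, 2, 0, 4, 3, 2, 5, 4, 3, 1, 3, 2, 0, 5, 0, 2, 3, 1, 3, 4, 2, 3, 0] 62⟩)
 (.leaf ⟨[55, 65, 67], 0x0, .leaf 3⟩))
 (.node (.leaf ⟨[46, 67], 0x340000000000000000, .weyl [3, 2, 0, 4, 3, 2, 5, 4, 3, 1, 2, 0, 4, 5, 0, 2, 1, 3, 4, 5, 2, 3, 4, 0, 2, 3] 191⟩)
 (.leaf ⟨[55, 65, 67], 0x0, .leaf 3⟩))))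
 (.node (.node (.node (.leaf ⟨[43, 57], 0xc7001c001000000000, .kill 50 46 35⟩)
 (.leaf ⟨[55, 65, 67], 0x0, .leaf 3⟩))
 (.node (.leaf ⟨[60], 0xfd60d2000000000000, .kill 66 48 163⟩)
 (.leaf ⟨[55, 65, 67], 0x0, .leaf 3⟩)))
 (.node (.node (.leaf ⟨[57], 0xff80dc787000000000, .kill 63 49 99⟩)
 (.leaf ⟨[55, 65, 67], 0x0, .leaf 3⟩))
 (.node (.leaf ⟨[53], 0xffc0c0000000000000, .weyl [3, 2, 0, 4, 3, 2, 5, 4, 3, 1, 1, 3, 4, 5, 2, 0] 217⟩)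
 (.leaf ⟨[55, 65, 67], 0x0, .leaf 3⟩)))))
 (.node (.node (.node (.node (.leaf ⟨[43, 57, 64], 0x0, .weyl [2, 3, 5, 0, 2, 3, 1, 3, 4, 2, 3, 1, 5, 4, 0] 1⟩)
 (.leaf ⟨[], 0xfffffffff000000000, .branch 56 [0, 0, (-1), 0, 0, 0] 275 115⟩))
 (.node (.leaf ⟨[59], 0xffe0fb224000000000, .kill 62 46 147⟩)
 (.leaf ⟨[55, 65, 67], 0x0, .leaf 3⟩)))
 (.node (.node (.leaf ⟨[57], 0xc70000000000000000, .branch 64 [0, 0, 0, 0, 0, (-1)] 83 73⟩)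
 (.leaf ⟨[55, 65, 67], 0x0, .leaf 3⟩))
 (.node (.leaf ⟨[46], 0xff80e0000000000000, .kill 63 60 211⟩)
 (.leaf ⟨[55, 65, 67], 0x0, .leaf 3⟩))))
 (.node (.node (.node (.leaf ⟨[38, 57], 0xc7001c600000000000, .weyl [4, 3, 2, 0, 4, 4, 0, 2, 3] 50⟩)
 (.leaf ⟨[55, 65, 67], 0x0, .leaf 3⟩))
 (.node (.leaf ⟨[45], 0xfff0ffc00000000000, .weyl [4, 3, 2, 0, 0] 174⟩)
 (.leaf ⟨[55, 65, 67], 0x0, .leaf 3⟩)))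
 (.node (.node (.leaf ⟨[42], 0xfffcfffbf000000000, .weyl [0] 112⟩)
 (.leaf ⟨[55, 65, 67], 0x0, .leaf 3⟩))
 (.node (.leaf ⟨[], 0xf00000000000000000, .branch 68 [0, 0, 0, 0, 0, 1] 243 237⟩)
 (.leaf ⟨[55, 65, 67], 0x0, .leaf 3⟩)))))

def invE6T5 : InvTree :=
 .node (.node (.node (.node (.node (.leaf ⟨[36, 43, 57], 0x0, .weyl [4, 2, 5, 4, 0, 1, 3, 4, 2, 3, 1, 0, 2, 3, 4] 1⟩)
 (.leaf ⟨[], 0xffe0ffc00000000000, .branch 46 [0, 0, 0, (-1), 0, 0] 260 220⟩))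
 (.node (.leaf ⟨[58], 0xfff8fff35000000000, .kill 59 37 132⟩)
 (.leaf ⟨[55, 65, 67], 0x0, .leaf 3⟩)))
 (.node (.node (.leaf ⟨[57, 64], 0x0, .weyl [5, 4, 3, 2, 1, 3, 4, 2, 3, 1, 5, 4, 3] 26⟩)
 (.leaf ⟨[55, 65, 67], 0x0, .leaf 3⟩))
 (.node (.leaf ⟨[46, 66], 0x300000000000000000, .weyl [3, 2, 0, 4, 3, 2, 5, 4, 3, 1, 2, 0, 4, 5, 5, 1, 3, 4, 5, 2, 3, 4, 0, 2, 3] 188⟩)
 (.leaf ⟨[55, 65, 67], 0x0, .leaf 3⟩))))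
 (.node (.node (.node (.leaf ⟨[43, 57], 0xc7001c401000000000, .forced 46 50 [36, 51, 52, 64, 65, 66, 70, 71] 36⟩)
 (.leaf ⟨[55, 65, 67], 0x0, .leaf 3⟩))
 (.node (.leaf ⟨[60], 0xff60d2000000000000, .kill 65 47 164⟩)
 (.leaf ⟨[55, 65, 67], 0x0, .leaf 3⟩)))
 (.node (.node (.leaf ⟨[57], 0xff80fc787000000000, .forced 53 67 [36, 37, 38, 43, 44, 45, 46, 50, 51, 52, 54, 55, 63, 64, 65, 66, 68, 69, 70, 71] 100⟩)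
 (.leaf ⟨[55, 65, 67], 0x0, .leaf 3⟩))
 (.node (.leaf ⟨[62], 0xff80c0000000000000, .weyl [3, 2, 0, 4, 3, 2, 5, 4, 3, 1, 1, 3, 4, 5, 2, 3] 217⟩)
 (.leaf ⟨[55, 65, 67], 0x0, .leaf 3⟩)))))
 (.node (.node (.node (.node (.leaf ⟨[43, 57, 64], 0x800000000000000000, .kill 71 52 20⟩)
 (.leaf ⟨[55, 65, 67], 0x0, .leaf 3⟩))
 (.node (.leaf ⟨[59], 0xffe0ff224000000000, .forced 50 67 [38, 41, 45, 48, 49, 51, 52, 53, 54, 55, 61, 62, 63, 64, 65, 66, 68, 69, 70, 71] 148⟩)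
 (.leaf ⟨[55, 65, 67], 0x0, .leaf 3⟩)))
 (.node (.node (.leaf ⟨[57], 0xc70010000000000000, .branch 52 [0, 0, 0, 0, 0, 1] 84 68⟩)
 (.leaf ⟨[55, 65, 67], 0x0, .leaf 3⟩))
 (.node (.leaf ⟨[46], 0xffc0e0000000000000, .kill 62 59 212⟩)
 (.leaf ⟨[55, 65, 67], 0x0, .leaf 3⟩))))
 (.node (.node (.node (.leaf ⟨[45, 57], 0xc7001c400000000000, .weyl [4, 3, 2, 0, 4, 4, 3, 0] 49⟩)
 (.leaf ⟨[55, 65, 67], 0x0, .leaf 3⟩))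
 (.node (.leaf ⟨[46, 53, 65], 0x200000000000000000, .weyl [0, 4, 5, 1, 3, 2, 4, 3, 1, 2, 3, 4, 5, 2, 4, 4, 2, 5, 4, 0, 2, 1, 3, 4, 5, 2, 3, 4, 0, 2, 3] 15⟩)
 (.leaf ⟨[55, 65, 67], 0x0, .leaf 3⟩)))
 (.node (.node (.leaf ⟨[42], 0xfffefffbf000000000, .kill 57 56 116⟩)
 (.leaf ⟨[55, 65, 67], 0x0, .leaf 3⟩))
 (.node (.leaf ⟨[], 0xf40000000000000000, .branch 66 [0, 0, 0, 0, 1, 0] 244 236⟩)
 (.leaf ⟨[55, 65, 67], 0x0, .leaf 3⟩)))))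

def invE6T6 : InvTree :=
 .node (.node (.node (.node (.node (.leaf ⟨[36, 43, 57], 0x800000000000000000, .branch 71 [0, 2, 2, 2, 2, 1] 5 4⟩)
 (.leaf ⟨[], 0xfff0ffc00000000000, .branch 60 [0, 0, 0, 0, 0, 1] 261 172⟩))
 (.node (.leaf ⟨[58], 0xfff8fff37000000000, .forced 37 59 [36, 38, 40, 41, 44, 45, 46, 47, 48, 49, 50, 51, 52, 53, 54, 55, 60, 61, 62, 63, 64, 65, 66, 67, 68, 69, 70, 71] 133⟩)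
 (.leaf ⟨[55, 65, 67], 0x0, .leaf 3⟩)))
 (.node (.node (.leaf ⟨[57, 64], 0x800000000000000000, .kill 71 52 69⟩)
 (.leaf ⟨[55, 65, 67], 0x0, .leaf 3⟩))
 (.node (.leaf ⟨[46, 68], 0x200000000000000000, .weyl [3, 2, 0, 4, 3, 2, 5, 4, 3, 1, 2, 0, 4, 5, 0, 1, 3, 4, 5, 2, 3, 4, 0, 2, 3] 189⟩)
 (.leaf ⟨[55, 65, 67], 0x0, .leaf 3⟩))))
 (.node (.node (.node (.leaf ⟨[43, 57], 0xc7001c601000000000, .kill 45 38 37⟩)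
 (.leaf ⟨[55, 65, 67], 0x0, .leaf 3⟩))
 (.node (.leaf ⟨[60], 0xffe0d2000000000000, .kill 63 46 165⟩)
 (.leaf ⟨[55, 65, 67], 0x0, .leaf 3⟩)))
 (.node (.node (.leaf ⟨[57], 0xff80fe787000000000, .forced 49 63 [36, 37, 38, 43, 44, 45, 46, 50, 51, 52, 53, 54, 55, 64, 65, 66, 67, 68, 69, 70, 71] 101⟩)
 (.leaf ⟨[55, 65, 67], 0x0, .leaf 3⟩))
 (.node (.leaf ⟨[54], 0xff8080000000000000, .weyl [3, 2, 0, 4, 3, 2, 5, 4, 3, 1, 1, 3, 4, 2, 0] 215⟩)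
 (.leaf ⟨[55, 65, 67], 0x0, .leaf 3⟩)))))
 (.node (.node (.node (.node (.leaf ⟨[43, 57, 64], 0x820000000000000000, .kill 65 36 21⟩)
 (.leaf ⟨[55, 65, 67], 0x0, .leaf 3⟩))
 (.node (.leaf ⟨[59], 0xffe0ffa24000000000, .forced 47 64 [38, 41, 45, 48, 49, 50, 51, 52, 53, 54, 55, 61, 62, 63, 65, 66, 67, 68, 69, 70, 71] 149⟩)
 (.leaf ⟨[55, 65, 67], 0x0, .leaf 3⟩)))
 (.node (.node (.leaf ⟨[57], 0xc70018000000000000, .branch 51 [0, 0, 0, 0, 0, (-1)] 85 67⟩)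
 (.leaf ⟨[55, 65, 67], 0x0, .leaf 3⟩))
 (.node (.leaf ⟨[46], 0xffc0f0000000000000, .kill 52 45 213⟩)
 (.leaf ⟨[55, 65, 67], 0x0, .leaf 3⟩))))
 (.node (.node (.node (.leaf ⟨[46, 57, 64], 0x60000000000000000, .weyl [0, 4, 5, 1, 3, 2, 4, 3, 1, 3, 2, 0, 5, 3, 2, 2, 3, 0, 2, 3, 1, 3, 4, 5, 2, 3, 4, 0, 2, 3] 22⟩)
 (.leaf ⟨[55, 65, 67], 0x0, .leaf 3⟩))
 (.node (.leaf ⟨[46, 53, 65], 0x300000000000000000, .kill 68 42 181⟩)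
 (.leaf ⟨[55, 65, 67], 0x0, .leaf 3⟩)))
 (.node (.node (.leaf ⟨[58], 0xa4c064b31000000000, .weyl [3] 93⟩)
 (.leaf ⟨[55, 65, 67], 0x0, .leaf 3⟩))
 (.node (.leaf ⟨[], 0xfc0000000000000000, .branch 67 [0, 0, 0, 0, 0, (-1)] 245 235⟩)
 (.leaf ⟨[55, 65, 67], 0x0, .leaf 3⟩)))))

def invE6T7 : InvTree :=
 .node (.node (.node (.node (.node (.leaf ⟨[36, 43, 57], 0x820000000000000000, .kill 65 64 6⟩)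
 (.leaf ⟨[], 0xfff0ffe00000000000, .branch 45 [0, 0, 0, 0, 0, 1] 262 180⟩))
 (.node (.leaf ⟨[39], 0xfff8fff37000000000, .weyl [0, 2] 134⟩)
 (.leaf ⟨[55, 65, 67], 0x0, .leaf 3⟩)))
 (.node (.node (.leaf ⟨[57, 64], 0xc00000000000000000, .kill 70 45 70⟩)
 (.leaf ⟨[55, 65, 67], 0x0, .leaf 3⟩))
 (.node (.leaf ⟨[46, 69], 0x0, .weyl [1, 3, 4, 5, 2, 3, 4, 0, 2, 3] 26⟩)
 (.leaf ⟨[55, 65, 67], 0x0, .leaf 3⟩))))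
 (.node (.node (.node (.leaf ⟨[43, 57], 0xc7001c605000000000, .forced 38 45 [36, 46, 50, 51, 52, 64, 65, 66, 70, 71] 38⟩)
 (.leaf ⟨[55, 65, 67], 0x0, .leaf 3⟩))
 (.node (.leaf ⟨[60], 0xffe0f2000000000000, .forced 53 70 [49, 52, 54, 55, 61, 62, 63, 64, 65, 66, 67, 68, 69, 71] 166⟩)
 (.leaf ⟨[55, 65, 67], 0x0, .leaf 3⟩)))
 (.node (.node (.leaf ⟨[57], 0xffc0fe787000000000, .kill 62 48 102⟩)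
 (.leaf ⟨[55, 65, 67], 0x0, .leaf 3⟩))
 (.node (.leaf ⟨[63], 0xff0080000000000000, .weyl [3, 2, 0, 4, 3, 2, 5, 4, 3, 1, 1, 3, 4, 2, 3] 216⟩)
 (.leaf ⟨[55, 65, 67], 0x0, .leaf 3⟩)))))
 (.node (.node (.node (.node (.leaf ⟨[43, 57, 65], 0x800000000000000000, .weyl [0, 4, 5, 1, 3, 2, 4, 3, 1, 3, 2, 0, 5, 3, 2, 2, 5, 0, 2, 3, 1, 3, 4, 2, 3, 1, 5, 4, 0] 21⟩)
 (.leaf ⟨[55, 65, 67], 0x0, .leaf 3⟩))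
 (.node (.leaf ⟨[59], 0xffe0ffe24000000000, .forced 46 62 [38, 41, 45, 47, 48, 49, 50, 51, 52, 53, 54, 55, 61, 63, 64, 65, 66, 67, 68, 69, 70, 71] 150⟩)
 (.leaf ⟨[55, 65, 67], 0x0, .leaf 3⟩)))
 (.node (.node (.leaf ⟨[57], 0xc7001c000000000000, .branch 50 [0, 0, 0, 0, (-1), 0] 86 66⟩)
 (.leaf ⟨[55, 65, 67], 0x0, .leaf 3⟩))
 (.node (.leaf ⟨[46], 0xffe0f0000000000000, .kill 61 58 214⟩)
 (.leaf ⟨[55, 65, 67], 0x0, .leaf 3⟩))))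
 (.node (.node (.node (.leaf ⟨[46, 57, 65], 0x40000000000000000, .weyl [0, 4, 5, 1, 3, 2, 4, 3, 1, 3, 2, 0, 5, 3, 2, 2, 0, 2, 3, 1, 3, 4, 5, 2, 3, 4, 0, 2, 3] 21⟩)
 (.leaf ⟨[55, 65, 67], 0x0, .leaf 3⟩))
 (.node (.leaf ⟨[46, 53, 65], 0x340000000000000000, .kill 66 37 182⟩)
 (.leaf ⟨[55, 65, 67], 0x0, .leaf 3⟩)))
 (.node (.node (.leaf ⟨[58], 0xe4c064b31000000000, .kill 70 55 118⟩)
 (.leaf ⟨[55, 65, 67], 0x0, .leaf 3⟩))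
 (.node (.leaf ⟨[], 0xfe0000000000000000, .branch 65 [0, 0, 0, 0, 0, 1] 246 234⟩)
 (.leaf ⟨[55, 65, 67], 0x0, .leaf 3⟩)))))

def invE6T8 : InvTree :=
 .node (.node (.node (.node (.node (.leaf ⟨[36, 43, 57], 0x830000000000000000, .forced 64 65 [71] 7⟩)
 (.leaf ⟨[], 0xfff0ffe20000000000, .branch 41 [0, 0, 0, 0, 0, 1] 263 179⟩))
 (.node (.leaf ⟨[39], 0xfffcfff37000000000, .kill 58 57 135⟩)
 (.leaf ⟨[55, 65, 67], 0x0, .leaf 3⟩)))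
 (.node (.node (.leaf ⟨[57, 64], 0xc40000000000000000, .kill 66 38 71⟩)
 (.leaf ⟨[55, 65, 67], 0x0, .leaf 3⟩))
 (.node (.leaf ⟨[46], 0x0, .weyl [1, 3, 4, 5, 2, 3, 4, 0, 2, 3] 78⟩)
 (.leaf ⟨[55, 65, 67], 0x0, .leaf 3⟩))))
 (.node (.node (.node (.leaf ⟨[43, 57], 0xc7001c705000000000, .kill 44 37 39⟩)
 (.leaf ⟨[55, 65, 67], 0x0, .leaf 3⟩))
 (.node (.leaf ⟨[60], 0xffe0fa000000000000, .forced 51 69 [49, 52, 53, 54, 55, 61, 62, 63, 64, 65, 66, 67, 68, 70, 71] 167⟩)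
 (.leaf ⟨[55, 65, 67], 0x0, .leaf 3⟩)))
 (.node (.node (.leaf ⟨[57], 0xffc0ff787000000000, .forced 48 62 [36, 37, 38, 43, 44, 45, 46, 49, 50, 51, 52, 53, 54, 55, 63, 64, 65, 66, 67, 68, 69, 70, 71] 103⟩)
 (.leaf ⟨[55, 65, 67], 0x0, .leaf 3⟩))
 (.node (.leaf ⟨[64], 0xfe0080000000000000, .weyl [3, 2, 0, 4, 3, 2, 5, 4, 3, 1, 1, 3, 4, 5, 2] 217⟩)
 (.leaf ⟨[55, 65, 67], 0x0, .leaf 3⟩)))))
 (.node (.node (.node (.node (.leaf ⟨[43, 57, 71], 0x0, .weyl [5, 0, 2, 3, 1, 3, 4, 2, 3, 1, 5, 4, 0] 1⟩)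
 (.leaf ⟨[55, 65, 67], 0x0, .leaf 3⟩))
 (.node (.leaf ⟨[59], 0xfff0ffe24000000000, .kill 60 36 151⟩)
 (.leaf ⟨[55, 65, 67], 0x0, .leaf 3⟩)))
 (.node (.node (.leaf ⟨[57], 0xc7001c400000000000, .branch 46 [0, 0, (-1), (-1), 0, 0] 87 65⟩)
 (.leaf ⟨[55, 65, 67], 0x0, .leaf 3⟩))
 (.node (.leaf ⟨[46], 0xffe0f8000000000000, .kill 51 44 215⟩)
 (.leaf ⟨[55, 65, 67], 0x0, .leaf 3⟩))))
 (.node (.node (.node (.leaf ⟨[46, 57, 66], 0x0, .weyl [0, 2, 3, 1, 3, 4, 5, 2, 3, 4, 0, 2, 3] 1⟩)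
 (.leaf ⟨[55, 65, 67], 0x0, .leaf 3⟩))
 (.node (.leaf ⟨[46, 53, 66], 0x300000000000000000, .weyl [3, 2, 0, 4, 3, 2, 5, 4, 3, 1, 2, 0, 4, 5, 2, 4, 4, 5, 4, 0, 2, 1, 3, 4, 5, 2, 3, 4, 0, 2, 3] 182⟩)
 (.leaf ⟨[55, 65, 67], 0x0, .leaf 3⟩)))
 (.node (.node (.leaf ⟨[58], 0xe4c0e4b31000000000, .forced 55 70 [36, 40, 41, 44, 45, 47, 50, 53, 54, 62, 63, 66, 69, 71] 119⟩)
 (.leaf ⟨[55, 65, 67], 0x0, .leaf 3⟩))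
 (.node (.leaf ⟨[], 0xfe0080000000000000, .branch 55 [0, 0, 0, 0, 1, 0] 247 233⟩)
 (.leaf ⟨[55, 65, 67], 0x0, .leaf 3⟩)))))

def invE6T9 : InvTree :=
 .node (.node (.node (.node (.node (.leaf ⟨[36, 43, 57], 0x830010000000000000, .kill 52 51 8⟩)
 (.leaf ⟨[], 0xfff0ffe24000000000, .branch 38 [0, 0, 0, 0, 0, 1] 264 178⟩))
 (.node (.leaf ⟨[39], 0xfffcfffb7000000000, .kill 43 42 136⟩)
 (.leaf ⟨[55, 65, 67], 0x0, .leaf 3⟩)))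
 (.node (.node (.leaf ⟨[57, 64], 0xc60000000000000000, .kill 65 36 72⟩)
 (.leaf ⟨[55, 65, 67], 0x0, .leaf 3⟩))
 (.node (.leaf ⟨[46], 0x200000000000000000, .branch 69 [0, 0, 0, 0, 1, 0] 200 199⟩)
 (.leaf ⟨[55, 65, 67], 0x0, .leaf 3⟩))))
 (.node (.node (.node (.leaf ⟨[43, 57], 0xc7001c707000000000, .forced 37 44 [36, 38, 45, 46, 50, 51, 52, 64, 65, 66, 70, 71] 40⟩)
 (.leaf ⟨[55, 65, 67], 0x0, .leaf 3⟩))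
 (.node (.leaf ⟨[60], 0xffe0fe000000000000, .forced 50 68 [49, 51, 52, 53, 54, 55, 61, 62, 63, 64, 65, 66, 67, 69, 70, 71] 168⟩)
 (.leaf ⟨[55, 65, 67], 0x0, .leaf 3⟩)))
 (.node (.node (.leaf ⟨[57], 0xffe0ff787000000000, .kill 61 47 104⟩)
 (.leaf ⟨[55, 65, 67], 0x0, .leaf 3⟩))
 (.node (.leaf ⟨[55], 0xfe0000000000000000, .weyl [3, 2, 0, 4, 3, 2, 5, 4, 3, 1, 1, 3, 2, 0] 215⟩)
 (.leaf ⟨[55, 65, 67], 0x0, .leaf 3⟩)))))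
 (.node (.node (.node (.node (.leaf ⟨[66, 68], 0x0, .leaf 2⟩)
 (.leaf ⟨[55, 65, 67], 0x0, .leaf 3⟩))
 (.node (.leaf ⟨[59], 0xfff0ffe25000000000, .forced 36 60 [38, 41, 45, 46, 47, 48, 49, 50, 51, 52, 53, 54, 55, 61, 62, 63, 64, 65, 66, 67, 68, 69, 70, 71] 152⟩)
 (.leaf ⟨[55, 65, 67], 0x0, .leaf 3⟩)))
 (.node (.node (.leaf ⟨[57], 0xc7001c600000000000, .branch 45 [0, 0, 0, 0, 0, 1] 88 53⟩)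
 (.leaf ⟨[55, 65, 67], 0x0, .leaf 3⟩))
 (.node (.leaf ⟨[46], 0xffe0fa000000000000, .kill 49 41 216⟩)
 (.leaf ⟨[55, 65, 67], 0x0, .leaf 3⟩))))
 (.node (.node (.node (.leaf ⟨[46, 57], 0x0, .weyl [0, 2, 3, 1, 3, 4, 5, 2, 3, 4, 0, 2, 3] 26⟩)
 (.leaf ⟨[55, 65, 67], 0x0, .leaf 3⟩))
 (.node (.leaf ⟨[46, 53], 0x300000000000000000, .weyl [3, 2, 0, 4, 3, 2, 5, 4, 3, 1, 3, 2, 0, 5, 4, 0, 2, 1, 3, 4, 5, 2, 3, 4, 0, 2, 3] 59⟩)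
 (.leaf ⟨[55, 65, 67], 0x0, .leaf 3⟩)))
 (.node (.node (.leaf ⟨[58], 0xf4c0e4b31000000000, .kill 68 52 120⟩)
 (.leaf ⟨[55, 65, 67], 0x0, .leaf 3⟩))
 (.node (.leaf ⟨[], 0xff0080000000000000, .branch 64 [0, 0, 0, 0, 0, (-1)] 248 232⟩)
 (.leaf ⟨[55, 65, 67], 0x0, .leaf 3⟩)))))

def invE6T10 : InvTree :=
 .node (.node (.node (.node (.node (.leaf ⟨[36, 43, 57], 0x830018000000000000, .forced 51 52 [64, 65, 71] 9⟩)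
 (.leaf ⟨[], 0xfff0ffe25000000000, .branch 36 [0, 0, 0, 0, 1, 1] 265 177⟩))
 (.node (.leaf ⟨[43], 0xfffcfff37000000000, .weyl [2, 0, 0] 136⟩)
 (.leaf ⟨[55, 65, 67], 0x0, .leaf 3⟩)))
 (.node (.node (.leaf ⟨[57, 65], 0xc40000000000000000, .weyl [3, 4, 5, 1, 3, 2, 4, 3, 1, 2, 3, 4, 5, 5, 4, 3, 1, 3, 4, 2, 3, 1, 5, 4, 3] 72⟩)
 (.leaf ⟨[55, 65, 67], 0x0, .leaf 3⟩))
 (.node (.leaf ⟨[46], 0x300000000000000000, .branch 68 [0, 0, 0, 0, 0, 1] 201 198⟩)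
 (.leaf ⟨[55, 65, 67], 0x0, .leaf 3⟩))))
 (.node (.node (.node (.leaf ⟨[37, 57], 0xc7001c605000000000, .weyl [0, 4, 3, 0, 2, 3] 39⟩)
 (.leaf ⟨[55, 65, 67], 0x0, .leaf 3⟩))
 (.node (.leaf ⟨[60], 0xffe0ff000000000000, .forced 48 66 [49, 50, 51, 52, 53, 54, 55, 61, 62, 63, 64, 65, 67, 68, 69, 70, 71] 169⟩)
 (.leaf ⟨[55, 65, 67], 0x0, .leaf 3⟩)))
 (.node (.node (.leaf ⟨[57], 0xffe0fff87000000000, .forced 47 61 [36, 37, 38, 43, 44, 45, 46, 48, 49, 50, 51, 52, 53, 54, 55, 62, 63, 64, 65, 66, 67, 68, 69, 70, 71] 105⟩)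
 (.leaf ⟨[55, 65, 67], 0x0, .leaf 3⟩))
 (.node (.leaf ⟨[65], 0xfc0000000000000000, .weyl [3, 2, 0, 4, 3, 2, 5, 4, 3, 1, 1, 3, 4, 2] 214⟩)
 (.leaf ⟨[55, 65, 67], 0x0, .leaf 3⟩)))))
 (.node (.node (.node (.node (.leaf ⟨[60, 71], 0x0, .weyl [2, 3, 1] 25⟩)
 (.leaf ⟨[55, 65, 67], 0x0, .leaf 3⟩))
 (.node (.leaf ⟨[37], 0xfff0ffe25000000000, .weyl [0, 2, 3] 153⟩)
 (.leaf ⟨[55, 65, 67], 0x0, .leaf 3⟩)))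
 (.node (.node (.leaf ⟨[57], 0xc7001c604000000000, .branch 38 [0, 0, 0, 0, 0, 1] 89 52⟩)
 (.leaf ⟨[55, 65, 67], 0x0, .leaf 3⟩))
 (.node (.leaf ⟨[46], 0xffe0fe000000000000, .kill 50 43 217⟩)
 (.leaf ⟨[55, 65, 67], 0x0, .leaf 3⟩))))
 (.node (.node (.node (.leaf ⟨[46, 57], 0x40000000000000000, .branch 66 [0, 0, 0, 0, 1, 0] 57 56⟩)
 (.leaf ⟨[55, 65, 67], 0x0, .leaf 3⟩))
 (.node (.leaf ⟨[46, 53], 0x340000000000000000, .branch 66 [1, 0, 0, 0, 0, (-1)] 185 184⟩)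
 (.leaf ⟨[55, 65, 67], 0x0, .leaf 3⟩)))
 (.node (.node (.leaf ⟨[58], 0xf4c0f4b31000000000, .forced 52 68 [36, 40, 41, 44, 45, 47, 50, 53, 54, 55, 62, 63, 66, 69, 70, 71] 121⟩)
 (.leaf ⟨[55, 65, 67], 0x0, .leaf 3⟩))
 (.node (.leaf ⟨[], 0xff8080000000000000, .branch 63 [0, 0, 0, 0, 0, 1] 249 231⟩)
 (.leaf ⟨[55, 65, 67], 0x0, .leaf 3⟩)))))

def invE6T11 : InvTree :=
 .node (.node (.node (.node (.node (.leaf ⟨[44, 60, 71], 0x0, .weyl [5, 0, 1, 3, 4, 2, 3, 1, 5, 0] 1⟩)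
 (.leaf ⟨[], 0xfff8ffe25000000000, .branch 59 [0, 0, 0, 0, 0, (-1)] 266 153⟩))
 (.node (.leaf ⟨[59], 0x92a0a9224000000000, .weyl [3, 4] 91⟩)
 (.leaf ⟨[55, 65, 67], 0x0, .leaf 3⟩)))
 (.node (.node (.leaf ⟨[57, 66], 0xc00000000000000000, .weyl [3, 4, 5, 1, 3, 2, 4, 3, 1, 2, 3, 4, 5, 5, 4, 1, 3, 4, 2, 3, 1, 5, 4, 3] 71⟩)
 (.leaf ⟨[55, 65, 67], 0x0, .leaf 3⟩))
 (.node (.leaf ⟨[46], 0x340000000000000000, .branch 66 [0, 0, 0, 0, 1, 0] 202 197⟩)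
 (.leaf ⟨[55, 65, 67], 0x0, .leaf 3⟩))))
 (.node (.node (.node (.leaf ⟨[37, 57], 0xc7001c705000000000, .kill 44 43 42⟩)
 (.leaf ⟨[55, 65, 67], 0x0, .leaf 3⟩))
 (.node (.leaf ⟨[60], 0xffe0ff800000000000, .forced 47 65 [48, 49, 50, 51, 52, 53, 54, 55, 61, 62, 63, 64, 66, 67, 68, 69, 70, 71] 170⟩)
 (.leaf ⟨[55, 65, 67], 0x0, .leaf 3⟩)))
 (.node (.node (.leaf ⟨[57], 0xfff0fff87000000000, .kill 60 41 106⟩)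
 (.leaf ⟨[55, 65, 67], 0x0, .leaf 3⟩))
 (.node (.leaf ⟨[67], 0xf40000000000000000, .weyl [3, 2, 0, 4, 3, 2, 5, 4, 3, 1, 1, 3, 4, 5] 217⟩)
 (.leaf ⟨[55, 65, 67], 0x0, .leaf 3⟩)))))
 (.node (.node (.node (.node (.leaf ⟨[43, 57], 0x0, .weyl [5, 0, 2, 3, 1, 3, 4, 2, 3, 1, 5, 4, 0] 26⟩)
 (.leaf ⟨[55, 65, 67], 0x0, .leaf 3⟩))
 (.node (.leaf ⟨[37], 0xfff8ffe25000000000, .kill 59 58 154⟩)
 (.leaf ⟨[55, 65, 67], 0x0, .leaf 3⟩)))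
 (.node (.node (.leaf ⟨[57], 0xc7001c605000000000, .branch 36 [0, 0, 0, 0, 1, 1] 90 51⟩)
 (.leaf ⟨[55, 65, 67], 0x0, .leaf 3⟩))
 (.node (.leaf ⟨[46], 0xffe0ff000000000000, .kill 48 40 218⟩)
 (.leaf ⟨[55, 65, 67], 0x0, .leaf 3⟩))))
 (.node (.node (.node (.leaf ⟨[46, 57], 0x60000000000000000, .branch 65 [0, 0, 0, 0, 0, 1] 58 55⟩)
 (.leaf ⟨[55, 65, 67], 0x0, .leaf 3⟩))
 (.node (.leaf ⟨[46, 53], 0x360000000000000000, .branch 65 [0, 0, 0, 0, (-1), 0] 186 183⟩)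
 (.leaf ⟨[55, 65, 67], 0x0, .leaf 3⟩)))
 (.node (.node (.leaf ⟨[58], 0xfcc0f4b31000000000, .kill 67 51 122⟩)
 (.leaf ⟨[55, 65, 67], 0x0, .leaf 3⟩))
 (.node (.leaf ⟨[], 0xff80c0000000000000, .branch 54 [0, 0, 0, 0, 0, 1] 250 230⟩)
 (.leaf ⟨[55, 65, 67], 0x0, .leaf 3⟩)))))

def invE6T12 : InvTree :=
 .node (.node (.node (.node (.node (.leaf ⟨[39, 44, 60, 71], 0x0, .word 0 [] 11⟩)
 (.leaf ⟨[], 0xfff8fff25000000000, .branch 44 [0, 0, 0, 0, 0, (-1)] 267 159⟩))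
 (.node (.leaf ⟨[59], 0xd2a0a9224000000000, .kill 70 54 139⟩)
 (.leaf ⟨[55, 65, 67], 0x0, .leaf 3⟩)))
 (.node (.node (.leaf ⟨[57, 70], 0x800000000000000000, .weyl [3, 4, 5, 1, 3, 2, 4, 3, 1, 2, 3, 4, 5, 5, 1, 3, 4, 2, 3, 1, 5, 4, 3] 70⟩)
 (.leaf ⟨[55, 65, 67], 0x0, .leaf 3⟩))
 (.node (.leaf ⟨[46], 0x3c0000000000000000, .branch 67 [0, 0, 0, 0, 0, (-1)] 203 196⟩)
 (.leaf ⟨[55, 65, 67], 0x0, .leaf 3⟩))))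
 (.node (.node (.node (.leaf ⟨[44, 57], 0xc7001c605000000000, .weyl [0, 4, 3, 3, 0] 39⟩)
 (.leaf ⟨[55, 65, 67], 0x0, .leaf 3⟩))
 (.node (.leaf ⟨[60], 0xffe0ffc00000000000, .forced 46 63 [47, 48, 49, 50, 51, 52, 53, 54, 55, 61, 62, 64, 65, 66, 67, 68, 69, 70, 71] 171⟩)
 (.leaf ⟨[55, 65, 67], 0x0, .leaf 3⟩)))
 (.node (.node (.leaf ⟨[57], 0xfff0fffa7000000000, .forced 41 60 [36, 37, 38, 43, 44, 45, 46, 47, 48, 49, 50, 51, 52, 53, 54, 55, 61, 62, 63, 64, 65, 66, 67, 68, 69, 70, 71] 107⟩)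
 (.leaf ⟨[55, 65, 67], 0x0, .leaf 3⟩))
 (.node (.leaf ⟨[66], 0xf00000000000000000, .weyl [3, 2, 0, 4, 3, 2, 5, 4, 3, 1, 1, 3, 2] 213⟩)
 (.leaf ⟨[55, 65, 67], 0x0, .leaf 3⟩)))))
 (.node (.node (.node (.node (.leaf ⟨[43, 57], 0x800000000000000000, .branch 71 [0, 1, 1, 1, 1, 0] 27 24⟩)
 (.leaf ⟨[55, 65, 67], 0x0, .leaf 3⟩))
 (.node (.leaf ⟨[37], 0xfff8fff25000000000, .kill 44 43 155⟩)
 (.leaf ⟨[55, 65, 67], 0x0, .leaf 3⟩)))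
 (.node (.node (.leaf ⟨[57], 0xc7001c705000000000, .branch 44 [0, 0, 0, 0, 0, (-1)] 91 44⟩)
 (.leaf ⟨[55, 65, 67], 0x0, .leaf 3⟩))
 (.node (.leaf ⟨[46], 0xffe0ff800000000000, .kill 47 39 219⟩)
 (.leaf ⟨[55, 65, 67], 0x0, .leaf 3⟩))))
 (.node (.node (.node (.leaf ⟨[46, 57], 0x70000000000000000, .branch 64 [0, 0, 0, 0, 0, (-1)] 59 54⟩)
 (.leaf ⟨[55, 65, 67], 0x0, .leaf 3⟩))
 (.node (.leaf ⟨[46, 53], 0x3e0000000000000000, .kill 67 57 187⟩)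
 (.leaf ⟨[55, 65, 67], 0x0, .leaf 3⟩)))
 (.node (.node (.leaf ⟨[58], 0xfec0f4b31000000000, .kill 65 49 123⟩)
 (.leaf ⟨[55, 65, 67], 0x0, .leaf 3⟩))
 (.node (.leaf ⟨[], 0xffc0c0000000000000, .branch 62 [0, 0, 0, 0, 0, (-1)] 251 229⟩)
 (.leaf ⟨[55, 65, 67], 0x0, .leaf 3⟩)))))

def invE6T13 : InvTree :=
 .node (.node (.node (.node (.node (.leaf ⟨[43, 51, 57, 64], 0x0, .weyl [4, 2, 5, 4, 3, 2, 1, 3, 4, 2, 3, 1, 5, 4, 0] 12⟩)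
 (.leaf ⟨[], 0xfff8fff35000000000, .branch 40 [0, 0, 0, 0, 0, (-1)] 268 158⟩))
 (.node (.leaf ⟨[59], 0xf2a0a9224000000000, .kill 69 52 140⟩)
 (.leaf ⟨[55, 65, 67], 0x0, .leaf 3⟩)))
 (.node (.node (.leaf ⟨[57, 71], 0x0, .weyl [1, 3, 4, 2, 3, 1, 5, 4, 3] 26⟩)
 (.leaf ⟨[55, 65, 67], 0x0, .leaf 3⟩))
 (.node (.leaf ⟨[46], 0x3e0000000000000000, .branch 65 [0, 0, 0, 0, 0, 1] 204 195⟩)
 (.leaf ⟨[55, 65, 67], 0x0, .leaf 3⟩))))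
 (.node (.node (.node (.leaf ⟨[36, 57], 0xc40004400000000000, .weyl [0, 4, 5, 3, 4, 4, 0, 2, 3, 4] 32⟩)
 (.leaf ⟨[55, 65, 67], 0x0, .leaf 3⟩))
 (.node (.leaf ⟨[36], 0xffe0ffc00000000000, .weyl [0, 2, 3, 4] 172⟩)
 (.leaf ⟨[55, 65, 67], 0x0, .leaf 3⟩)))
 (.node (.node (.leaf ⟨[57], 0xfff8fffa7000000000, .kill 59 40 108⟩)
 (.leaf ⟨[55, 65, 67], 0x0, .leaf 3⟩))
 (.node (.leaf ⟨[68], 0xe00000000000000000, .weyl [3, 2, 0, 4, 3, 2, 5, 4, 3, 1, 1, 3, 4] 214⟩)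
 (.leaf ⟨[55, 65, 67], 0x0, .leaf 3⟩)))))
 (.node (.node (.node (.node (.leaf ⟨[43, 57], 0x820000000000000000, .branch 65 [0, 0, 0, 0, 0, 1] 28 23⟩)
 (.leaf ⟨[55, 65, 67], 0x0, .leaf 3⟩))
 (.node (.leaf ⟨[37], 0xfff8fff35000000000, .kill 40 39 156⟩)
 (.leaf ⟨[55, 65, 67], 0x0, .leaf 3⟩)))
 (.node (.node (.leaf ⟨[57], 0xc7001c707000000000, .branch 37 [0, 0, 0, 0, 0, (-1)] 92 43⟩)
 (.leaf ⟨[55, 65, 67], 0x0, .leaf 3⟩))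
 (.node (.leaf ⟨[47], 0xffe0ff000000000000, .weyl [3, 2, 0, 4, 3, 2, 5, 4, 3, 1, 1, 3, 4, 5, 2, 3, 4, 0, 2] 219⟩)
 (.leaf ⟨[55, 65, 67], 0x0, .leaf 3⟩))))
 (.node (.node (.node (.leaf ⟨[46, 57], 0x870000000000000000, .kill 71 70 60⟩)
 (.leaf ⟨[55, 65, 67], 0x0, .leaf 3⟩))
 (.node (.leaf ⟨[46, 53], 0x3e0080000000000000, .kill 55 38 188⟩)
 (.leaf ⟨[55, 65, 67], 0x0, .leaf 3⟩)))
 (.node (.node (.leaf ⟨[58], 0xfec0f6b31000000000, .forced 49 65 [36, 40, 41, 44, 45, 47, 50, 52, 53, 54, 55, 62, 63, 66, 67, 68, 69, 70, 71] 124⟩)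
 (.leaf ⟨[55, 65, 67], 0x0, .leaf 3⟩))
 (.node (.leaf ⟨[], 0xffc0e0000000000000, .branch 53 [0, 0, 0, 0, 0, (-1)] 252 228⟩)
 (.leaf ⟨[55, 65, 67], 0x0, .leaf 3⟩)))))

def invE6T14 : InvTree :=
 .node (.node (.node (.node (.node (.leaf ⟨[43, 51, 57], 0x0, .weyl [4, 2, 5, 4, 3, 2, 1, 3, 4, 2, 3, 1, 5, 4, 0] 1⟩)
 (.leaf ⟨[], 0xfff8fff37000000000, .branch 37 [0, 0, 0, 0, 0, (-1)] 269 157⟩))
 (.node (.leaf ⟨[59], 0xf6a0a9224000000000, .kill 66 49 141⟩)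
 (.leaf ⟨[55, 65, 67], 0x0, .leaf 3⟩)))
 (.node (.node (.leaf ⟨[71], 0x0, .leaf 1⟩)
 (.leaf ⟨[55, 65, 67], 0x0, .leaf 3⟩))
 (.node (.leaf ⟨[46], 0x3e0080000000000000, .branch 55 [0, 0, 0, 0, 1, 0] 205 194⟩)
 (.leaf ⟨[55, 65, 67], 0x0, .leaf 3⟩))))
 (.node (.node (.node (.leaf ⟨[36, 57], 0xc60004400000000000, .kill 65 64 45⟩)
 (.leaf ⟨[55, 65, 67], 0x0, .leaf 3⟩))
 (.node (.leaf ⟨[36], 0xfff0ffc00000000000, .kill 60 59 173⟩)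
 (.leaf ⟨[55, 65, 67], 0x0, .leaf 3⟩)))
 (.node (.node (.leaf ⟨[57], 0xfff8fffb7000000000, .forced 40 59 [36, 37, 38, 41, 43, 44, 45, 46, 47, 48, 49, 50, 51, 52, 53, 54, 55, 60, 61, 62, 63, 64, 65, 66, 67, 68, 69, 70, 71] 109⟩)
 (.leaf ⟨[55, 65, 67], 0x0, .leaf 3⟩))
 (.node (.leaf ⟨[69], 0xc00000000000000000, .weyl [3, 2, 0, 4, 3, 2, 5, 4, 3, 1, 1, 3] 212⟩)
 (.leaf ⟨[55, 65, 67], 0x0, .leaf 3⟩)))))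
 (.node (.node (.node (.node (.leaf ⟨[43, 57], 0x830000000000000000, .branch 64 [0, 0, 0, 0, 0, (-1)] 29 22⟩)
 (.leaf ⟨[55, 65, 67], 0x0, .leaf 3⟩))
 (.node (.leaf ⟨[40], 0xfff8fff25000000000, .weyl [3, 2, 0, 0, 2] 156⟩)
 (.leaf ⟨[55, 65, 67], 0x0, .leaf 3⟩)))
 (.node (.node (.leaf ⟨[57], 0xc7001c787000000000, .branch 43 [0, 0, 0, 0, (-1), 0] 93 41⟩)
 (.leaf ⟨[55, 65, 67], 0x0, .leaf 3⟩))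
 (.node (.leaf ⟨[48], 0xffe0fe000000000000, .weyl [3, 2, 0, 4, 3, 2, 5, 4, 3, 1, 1, 3, 4, 5, 2, 3, 0, 2] 218⟩)
 (.leaf ⟨[55, 65, 67], 0x0, .leaf 3⟩))))
 (.node (.node (.node (.leaf ⟨[46, 57], 0xc70000000000000000, .forced 70 71 [64, 65, 66] 61⟩)
 (.leaf ⟨[55, 65, 67], 0x0, .leaf 3⟩))
 (.node (.leaf ⟨[46, 53], 0x3f0080000000000000, .kill 64 56 189⟩)
 (.leaf ⟨[55, 65, 67], 0x0, .leaf 3⟩)))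
 (.node (.node (.leaf ⟨[58], 0xffc0f6b31000000000, .kill 64 48 125⟩)
 (.leaf ⟨[55, 65, 67], 0x0, .leaf 3⟩))
 (.node (.leaf ⟨[], 0xffc0f0000000000000, .branch 52 [0, 0, 0, 0, 0, 1] 253 227⟩)
 (.leaf ⟨[55, 65, 67], 0x0, .leaf 3⟩)))))

def invE6T15 : InvTree :=
 .node (.node (.node (.node (.node (.leaf ⟨[43, 51, 57], 0x10000000000000000, .branch 64 [0, 0, (-1), (-1), (-2), (-2)] 14 13⟩)
 (.leaf ⟨[], 0xfffcfff37000000000, .branch 58 [0, 0, 0, 0, (-1), 0] 270 134⟩))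
 (.node (.leaf ⟨[59], 0xf6a0e9224000000000, .forced 54 70 [38, 41, 45, 48, 51, 53, 55, 61, 63, 65, 66, 68, 69, 71] 142⟩)
 (.leaf ⟨[55, 65, 67], 0x0, .leaf 3⟩)))
 (.node (.node (.leaf ⟨[57], 0x0, .weyl [1, 3, 4, 2, 3, 1, 5, 4, 3] 78⟩)
 (.leaf ⟨[55, 65, 67], 0x0, .leaf 3⟩))
 (.node (.leaf ⟨[46], 0x3f0080000000000000, .branch 64 [0, 0, 0, 0, 0, (-1)] 206 193⟩)
 (.leaf ⟨[55, 65, 67], 0x0, .leaf 3⟩))))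
 (.node (.node (.node (.leaf ⟨[36, 57], 0xc70004400000000000, .forced 64 65 [46, 50, 66, 70, 71] 46⟩)
 (.leaf ⟨[55, 65, 67], 0x0, .leaf 3⟩))
 (.node (.leaf ⟨[36], 0xfff0ffe00000000000, .kill 45 44 174⟩)
 (.leaf ⟨[55, 65, 67], 0x0, .leaf 3⟩)))
 (.node (.node (.leaf ⟨[57], 0xfffcfffb7000000000, .kill 58 39 110⟩)
 (.leaf ⟨[55, 65, 67], 0x0, .leaf 3⟩))
 (.node (.leaf ⟨[70], 0x800000000000000000, .weyl [3, 2, 0, 4, 3, 2, 5, 4, 3, 1, 1] 210⟩)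
 (.leaf ⟨[55, 65, 67], 0x0, .leaf 3⟩)))))
 (.node (.node (.node (.node (.leaf ⟨[43, 57], 0x830010000000000000, .branch 52 [0, 0, 0, 0, 0, 1] 30 19⟩)
 (.leaf ⟨[55, 65, 67], 0x0, .leaf 3⟩))
 (.node (.leaf ⟨[44], 0xfff8ffe25000000000, .weyl [3, 2, 0, 0] 155⟩)
 (.leaf ⟨[55, 65, 67], 0x0, .leaf 3⟩)))
 (.node (.node (.leaf ⟨[57], 0xe7001c787000000000, .kill 69 55 94⟩)
 (.leaf ⟨[55, 65, 67], 0x0, .leaf 3⟩))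
 (.node (.leaf ⟨[50], 0xffe0fa000000000000, .weyl [3, 2, 0, 4, 3, 2, 5, 4, 3, 1, 1, 3, 4, 5, 2, 3, 4, 0] 219⟩)
 (.leaf ⟨[55, 65, 67], 0x0, .leaf 3⟩))))
 (.node (.node (.node (.leaf ⟨[46, 57], 0xc70010000000000000, .kill 52 45 62⟩)
 (.leaf ⟨[55, 65, 67], 0x0, .leaf 3⟩))
 (.node (.leaf ⟨[46, 53], 0x3f00c0000000000000, .kill 54 36 190⟩)
 (.leaf ⟨[55, 65, 67], 0x0, .leaf 3⟩)))
 (.node (.node (.leaf ⟨[58], 0xffc0feb31000000000, .forced 51 67 [36, 40, 41, 44, 45, 47, 49, 50, 52, 53, 54, 55, 62, 63, 64, 65, 66, 68, 69, 70, 71] 126⟩)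
 (.leaf ⟨[55, 65, 67], 0x0, .leaf 3⟩))
 (.node (.leaf ⟨[], 0xffe0f0000000000000, .branch 61 [0, 0, 0, 0, (-1), 0] 254 226⟩)
 (.leaf ⟨[55, 65, 67], 0x0, .leaf 3⟩)))))

def invE6Tree : InvTree :=
 .node (.node (.node (.node (invE6T0)
 (invE6T8))
 (.node (invE6T4)
 (invE6T12)))
 (.node (.node (invE6T2)
 (invE6T10))
 (.node (invE6T6)
 (invE6T14))))
 (.node (.node (.node (invE6T1)
 (invE6T9))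
 (.node (invE6T5)
 (invE6T13)))
 (.node (.node (invE6T3)
 (invE6T11))
 (.node (invE6T7)
 (invE6T15))))

def invE6Tg : List (List ℕ) := [[], [71], [68, 66], [55, 65, 67]]

def invE6W : List (List ℕ × List ℕ × List ℕ) := [([47, 25, 20, 8], [39, 44, 60, 71], [44, 60, 71])]

end CfsgLib.Chev
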