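import Cfsg.Agent.Lib.Chev.Invol
import Cfsg.Agent.Lib.Chev.InvolDataE6

/-! The certificate for type E6 checks (generated). -/

set_option autoImplicit false
set_option maxRecDepth 100000

namespace CfsgLib.Chev

theorem invE6_all0 : allBelow 50 (fun j =>
    tabE6.chkInvState invE6Tg invE6W invE6Tree.get (0 + j)) = true := by
  decide +kernel

theorem invE6_all50 : allBelow 50 (fun j =>
    tabE6.chkInvState invE6Tg invE6W invE6Tree.get (50 + j)) = true := by
  decide +kernel

theorem invE6_all100 : allBelow 50 (fun j =>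
    tabE6.chkInvState invE6Tg invE6W invE6Tree.get (100 + j)) = true := by
  decide +kernel

theorem invE6_all150 : allBelow 50 (fun j =>
    tabE6.chkInvState invE6Tg invE6W invE6Tree.get (150 + j)) = true := by
  decide +kernel

theorem invE6_all200 : allBelow 50 (fun j =>
    tabE6.chkInvState invE6Tg invE6W invE6Tree.get (200 + j)) = true := by
  decide +kernel

theorem invE6_all250 : allBelow 27 (fun j =>
    tabE6.chkInvState invE6Tg invE6W invE6Tree.get (250 + j)) = true := by
  decide +kernel

theorem invE6_rel : tabE6.chkRel invE6W = true := by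
  decide +kernel

/-- Every state checks. -/
theorem invE6_chk : ∀ j < 277, tabE6.chkInvState invE6Tg invE6W invE6Tree.get j = true := by
  intro j hj
  rcases Nat.lt_or_ge j 50 with h | h
  · obtain ⟨d, rfl⟩ : ∃ d, j = 0 + d := ⟨j - 0, by omega⟩
    exact allBelow_eq_true invE6_all0 d (by omega)
  rcases Nat.lt_or_ge j 100 with h | h
  · obtain ⟨d, rfl⟩ : ∃ d, j = 50 + d := ⟨j - 50, by omega⟩
    exact allBelow_eq_true invE6_all50 d (by omega)
  rcases Nat.lt_or_ge j 150 with h | h
  · obtain ⟨d, rfl⟩ : ∃ d, j = 100 + d := ⟨j - 100, by omega⟩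
    exact allBelow_eq_true invE6_all100 d (by omega)
  rcases Nat.lt_or_ge j 200 with h | h
  · obtain ⟨d, rfl⟩ : ∃ d, j = 150 + d := ⟨j - 150, by omega⟩
    exact allBelow_eq_true invE6_all150 d (by omega)
  rcases Nat.lt_or_ge j 250 with h | h
  · obtain ⟨d, rfl⟩ : ∃ d, j = 200 + d := ⟨j - 200, by omega⟩
    exact allBelow_eq_true invE6_all200 d (by omega)
  obtain ⟨d, rfl⟩ : ∃ d, j = 250 + d := ⟨j - 250, by omega⟩
  exact allBelow_eq_true invE6_all250 d (by omega)

/-- The root state. -/
theorem invE6_root : tabE6.chkRoot (invE6Tree.get 276) = true := by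
  decide +kernel

end CfsgLib.Chev
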