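import Cfsg.Agent.Lib.Chev.Invol
import Cfsg.Agent.Lib.Chev.InvolDataE7

/-! The certificate for type E7 checks (generated). -/

set_option autoImplicit false
set_option maxRecDepth 100000

namespace CfsgLib.Chev

theorem invE7_all0 : allBelow 50 (fun j =>
    tabE7.chkInvState invE7Tg invE7W invE7Tree.get (0 + j)) = true := by
  decide +kernel

theorem invE7_all50 : allBelow 50 (fun j =>
    tabE7.chkInvState invE7Tg invE7W invE7Tree.get (50 + j)) = true := by
  decide +kernel

theorem invE7_all100 : allBelow 50 (fun j =>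
    tabE7.chkInvState invE7Tg invE7W invE7Tree.get (100 + j)) = true := by
  decide +kernel

theorem invE7_all150 : allBelow 50 (fun j =>
    tabE7.chkInvState invE7Tg invE7W invE7Tree.get (150 + j)) = true := by
  decide +kernel

theorem invE7_all200 : allBelow 50 (fun j =>
    tabE7.chkInvState invE7Tg invE7W invE7Tree.get (200 + j)) = true := by
  decide +kernel

theorem invE7_all250 : allBelow 50 (fun j =>
    tabE7.chkInvState invE7Tg invE7W invE7Tree.get (250 + j)) = true := by
  decide +kernel

theorem invE7_all300 : allBelow 50 (fun j =>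
    tabE7.chkInvState invE7Tg invE7W invE7Tree.get (300 + j)) = true := by
  decide +kernel

theorem invE7_all350 : allBelow 50 (fun j =>
    tabE7.chkInvState invE7Tg invE7W invE7Tree.get (350 + j)) = true := by
  decide +kernel

theorem invE7_all400 : allBelow 50 (fun j =>
    tabE7.chkInvState invE7Tg invE7W invE7Tree.get (400 + j)) = true := by
  decide +kernel

theorem invE7_all450 : allBelow 50 (fun j =>
    tabE7.chkInvState invE7Tg invE7W invE7Tree.get (450 + j)) = true := by
  decide +kernel

theorem invE7_all500 : allBelow 50 (fun j =>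
    tabE7.chkInvState invE7Tg invE7W invE7Tree.get (500 + j)) = true := by
  decide +kernel

theorem invE7_all550 : allBelow 50 (fun j =>
    tabE7.chkInvState invE7Tg invE7W invE7Tree.get (550 + j)) = true := by
  decide +kernel

theorem invE7_all600 : allBelow 41 (fun j =>
    tabE7.chkInvState invE7Tg invE7W invE7Tree.get (600 + j)) = true := by
  decide +kernel

theorem invE7_rel : tabE7.chkRel invE7W = true := by
  decide +kernel

/-- Every state checks. -/
theorem invE7_chk : ∀ j < 641, tabE7.chkInvState invE7Tg invE7W invE7Tree.get j = true := by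
  intro j hj
  rcases Nat.lt_or_ge j 50 with h | h
  · obtain ⟨d, rfl⟩ : ∃ d, j = 0 + d := ⟨j - 0, by omega⟩
    exact allBelow_eq_true invE7_all0 d (by omega)
  rcases Nat.lt_or_ge j 100 with h | h
  · obtain ⟨d, rfl⟩ : ∃ d, j = 50 + d := ⟨j - 50, by omega⟩
    exact allBelow_eq_true invE7_all50 d (by omega)
  rcases Nat.lt_or_ge j 150 with h | h
  · obtain ⟨d, rfl⟩ : ∃ d, j = 100 + d := ⟨j - 100, by omega⟩
    exact allBelow_eq_true invE7_all100 d (by omega)
  rcases Nat.lt_or_ge j 200 with h | h
  · obtain ⟨d, rfl⟩ : ∃ d, j = 150 + d := ⟨j - 150, by omega⟩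
    exact allBelow_eq_true invE7_all150 d (by omega)
  rcases Nat.lt_or_ge j 250 with h | h
  · obtain ⟨d, rfl⟩ : ∃ d, j = 200 + d := ⟨j - 200, by omega⟩
    exact allBelow_eq_true invE7_all200 d (by omega)
  rcases Nat.lt_or_ge j 300 with h | h
  · obtain ⟨d, rfl⟩ : ∃ d, j = 250 + d := ⟨j - 250, by omega⟩
    exact allBelow_eq_true invE7_all250 d (by omega)
  rcases Nat.lt_or_ge j 350 with h | h
  · obtain ⟨d, rfl⟩ : ∃ d, j = 300 + d := ⟨j - 300, by omega⟩
    exact allBelow_eq_true invE7_all300 d (by omega)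
  rcases Nat.lt_or_ge j 400 with h | h
  · obtain ⟨d, rfl⟩ : ∃ d, j = 350 + d := ⟨j - 350, by omega⟩
    exact allBelow_eq_true invE7_all350 d (by omega)
  rcases Nat.lt_or_ge j 450 with h | h
  · obtain ⟨d, rfl⟩ : ∃ d, j = 400 + d := ⟨j - 400, by omega⟩
    exact allBelow_eq_true invE7_all400 d (by omega)
  rcases Nat.lt_or_ge j 500 with h | h
  · obtain ⟨d, rfl⟩ : ∃ d, j = 450 + d := ⟨j - 450, by omega⟩
    exact allBelow_eq_true invE7_all450 d (by omega)
  rcases Nat.lt_or_ge j 550 with h | h
  · obtain ⟨d, rfl⟩ : ∃ d, j = 500 + d := ⟨j - 500, by omega⟩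
    exact allBelow_eq_true invE7_all500 d (by omega)
  rcases Nat.lt_or_ge j 600 with h | h
  · obtain ⟨d, rfl⟩ : ∃ d, j = 550 + d := ⟨j - 550, by omega⟩
    exact allBelow_eq_true invE7_all550 d (by omega)
  obtain ⟨d, rfl⟩ : ∃ d, j = 600 + d := ⟨j - 600, by omega⟩
  exact allBelow_eq_true invE7_all600 d (by omega)

/-- The root state. -/
theorem invE7_root : tabE7.chkRoot (invE7Tree.get 640) = true := by
  decide +kernel

end CfsgLib.Chev
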