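import Cfsg.Agent.Lib.Chev.Invol
import Cfsg.Agent.Lib.Chev.InvolDataE8

/-! The certificate for type E8 checks (generated). -/

set_option autoImplicit false
set_option maxRecDepth 100000

namespace CfsgLib.Chev

theorem invE8_all0 : allBelow 50 (fun j =>
    tabE8.chkInvState invE8Tg invE8W invE8Tree.get (0 + j)) = true := by
  decide +kernel

theorem invE8_all50 : allBelow 50 (fun j =>
    tabE8.chkInvState invE8Tg invE8W invE8Tree.get (50 + j)) = true := by
  decide +kernel

theorem invE8_all100 : allBelow 50 (fun j =>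
    tabE8.chkInvState invE8Tg invE8W invE8Tree.get (100 + j)) = true := by
  decide +kernel

theorem invE8_all150 : allBelow 50 (fun j =>
    tabE8.chkInvState invE8Tg invE8W invE8Tree.get (150 + j)) = true := by
  decide +kernel

theorem invE8_all200 : allBelow 50 (fun j =>
    tabE8.chkInvState invE8Tg invE8W invE8Tree.get (200 + j)) = true := by
  decide +kernel

theorem invE8_all250 : allBelow 50 (fun j =>
    tabE8.chkInvState invE8Tg invE8W invE8Tree.get (250 + j)) = true := by
  decide +kernel

theorem invE8_all300 : allBelow 50 (fun j =>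
    tabE8.chkInvState invE8Tg invE8W invE8Tree.get (300 + j)) = true := by
  decide +kernel

theorem invE8_all350 : allBelow 50 (fun j =>
    tabE8.chkInvState invE8Tg invE8W invE8Tree.get (350 + j)) = true := by
  decide +kernel

theorem invE8_all400 : allBelow 50 (fun j =>
    tabE8.chkInvState invE8Tg invE8W invE8Tree.get (400 + j)) = true := by
  decide +kernel

theorem invE8_all450 : allBelow 50 (fun j =>
    tabE8.chkInvState invE8Tg invE8W invE8Tree.get (450 + j)) = true := by
  decide +kernel

theorem invE8_all500 : allBelow 50 (fun j =>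
    tabE8.chkInvState invE8Tg invE8W invE8Tree.get (500 + j)) = true := by
  decide +kernel

theorem invE8_all550 : allBelow 50 (fun j =>
    tabE8.chkInvState invE8Tg invE8W invE8Tree.get (550 + j)) = true := by
  decide +kernel

theorem invE8_all600 : allBelow 50 (fun j =>
    tabE8.chkInvState invE8Tg invE8W invE8Tree.get (600 + j)) = true := by
  decide +kernel

theorem invE8_all650 : allBelow 50 (fun j =>
    tabE8.chkInvState invE8Tg invE8W invE8Tree.get (650 + j)) = true := by
  decide +kernel

theorem invE8_all700 : allBelow 50 (fun j =>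
    tabE8.chkInvState invE8Tg invE8W invE8Tree.get (700 + j)) = true := by
  decide +kernel

theorem invE8_all750 : allBelow 50 (fun j =>
    tabE8.chkInvState invE8Tg invE8W invE8Tree.get (750 + j)) = true := by
  decide +kernel

theorem invE8_all800 : allBelow 50 (fun j =>
    tabE8.chkInvState invE8Tg invE8W invE8Tree.get (800 + j)) = true := by
  decide +kernel

theorem invE8_all850 : allBelow 50 (fun j =>
    tabE8.chkInvState invE8Tg invE8W invE8Tree.get (850 + j)) = true := by
  decide +kernel

theorem invE8_all900 : allBelow 50 (fun j =>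
    tabE8.chkInvState invE8Tg invE8W invE8Tree.get (900 + j)) = true := by
  decide +kernel

theorem invE8_all950 : allBelow 50 (fun j =>
    tabE8.chkInvState invE8Tg invE8W invE8Tree.get (950 + j)) = true := by
  decide +kernel

theorem invE8_all1000 : allBelow 50 (fun j =>
    tabE8.chkInvState invE8Tg invE8W invE8Tree.get (1000 + j)) = true := by
  decide +kernel

theorem invE8_all1050 : allBelow 50 (fun j =>
    tabE8.chkInvState invE8Tg invE8W invE8Tree.get (1050 + j)) = true := by
  decide +kernel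

theorem invE8_all1100 : allBelow 50 (fun j =>
    tabE8.chkInvState invE8Tg invE8W invE8Tree.get (1100 + j)) = true := by
  decide +kernel

theorem invE8_all1150 : allBelow 50 (fun j =>
    tabE8.chkInvState invE8Tg invE8W invE8Tree.get (1150 + j)) = true := by
  decide +kernel

theorem invE8_all1200 : allBelow 50 (fun j =>
    tabE8.chkInvState invE8Tg invE8W invE8Tree.get (1200 + j)) = true := by
  decide +kernel

theorem invE8_all1250 : allBelow 50 (fun j =>
    tabE8.chkInvState invE8Tg invE8W invE8Tree.get (1250 + j)) = true := by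
  decide +kernel

theorem invE8_all1300 : allBelow 50 (fun j =>
    tabE8.chkInvState invE8Tg invE8W invE8Tree.get (1300 + j)) = true := by
  decide +kernel

theorem invE8_all1350 : allBelow 50 (fun j =>
    tabE8.chkInvState invE8Tg invE8W invE8Tree.get (1350 + j)) = true := by
  decide +kernel

theorem invE8_all1400 : allBelow 50 (fun j =>
    tabE8.chkInvState invE8Tg invE8W invE8Tree.get (1400 + j)) = true := by
  decide +kernel

theorem invE8_all1450 : allBelow 50 (fun j =>
    tabE8.chkInvState invE8Tg invE8W invE8Tree.get (1450 + j)) = true := by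
  decide +kernel

theorem invE8_all1500 : allBelow 50 (fun j =>
    tabE8.chkInvState invE8Tg invE8W invE8Tree.get (1500 + j)) = true := by
  decide +kernel

theorem invE8_all1550 : allBelow 50 (fun j =>
    tabE8.chkInvState invE8Tg invE8W invE8Tree.get (1550 + j)) = true := by
  decide +kernel

theorem invE8_all1600 : allBelow 41 (fun j =>
    tabE8.chkInvState invE8Tg invE8W invE8Tree.get (1600 + j)) = true := by
  decide +kernel

theorem invE8_rel : tabE8.chkRel invE8W = true := by
  decide +kernel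

/-- Every state checks. -/
theorem invE8_chk : ∀ j < 1641, tabE8.chkInvState invE8Tg invE8W invE8Tree.get j = true := by
  intro j hj
  rcases Nat.lt_or_ge j 50 with h | h
  · obtain ⟨d, rfl⟩ : ∃ d, j = 0 + d := ⟨j - 0, by omega⟩
    exact allBelow_eq_true invE8_all0 d (by omega)
  rcases Nat.lt_or_ge j 100 with h | h
  · obtain ⟨d, rfl⟩ : ∃ d, j = 50 + d := ⟨j - 50, by omega⟩
    exact allBelow_eq_true invE8_all50 d (by omega)
  rcases Nat.lt_or_ge j 150 with h | h
  · obtain ⟨d, rfl⟩ : ∃ d, j = 100 + d := ⟨j - 100, by omega⟩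
    exact allBelow_eq_true invE8_all100 d (by omega)
  rcases Nat.lt_or_ge j 200 with h | h
  · obtain ⟨d, rfl⟩ : ∃ d, j = 150 + d := ⟨j - 150, by omega⟩
    exact allBelow_eq_true invE8_all150 d (by omega)
  rcases Nat.lt_or_ge j 250 with h | h
  · obtain ⟨d, rfl⟩ : ∃ d, j = 200 + d := ⟨j - 200, by omega⟩
    exact allBelow_eq_true invE8_all200 d (by omega)
  rcases Nat.lt_or_ge j 300 with h | h
  · obtain ⟨d, rfl⟩ : ∃ d, j = 250 + d := ⟨j - 250, by omega⟩
    exact allBelow_eq_true invE8_all250 d (by omega)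
  rcases Nat.lt_or_ge j 350 with h | h
  · obtain ⟨d, rfl⟩ : ∃ d, j = 300 + d := ⟨j - 300, by omega⟩
    exact allBelow_eq_true invE8_all300 d (by omega)
  rcases Nat.lt_or_ge j 400 with h | h
  · obtain ⟨d, rfl⟩ : ∃ d, j = 350 + d := ⟨j - 350, by omega⟩
    exact allBelow_eq_true invE8_all350 d (by omega)
  rcases Nat.lt_or_ge j 450 with h | h
  · obtain ⟨d, rfl⟩ : ∃ d, j = 400 + d := ⟨j - 400, by omega⟩
    exact allBelow_eq_true invE8_all400 d (by omega)
  rcases Nat.lt_or_ge j 500 with h | h
  · obtain ⟨d, rfl⟩ : ∃ d, j = 450 + d := ⟨j - 450, by omega⟩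
    exact allBelow_eq_true invE8_all450 d (by omega)
  rcases Nat.lt_or_ge j 550 with h | h
  · obtain ⟨d, rfl⟩ : ∃ d, j = 500 + d := ⟨j - 500, by omega⟩
    exact allBelow_eq_true invE8_all500 d (by omega)
  rcases Nat.lt_or_ge j 600 with h | h
  · obtain ⟨d, rfl⟩ : ∃ d, j = 550 + d := ⟨j - 550, by omega⟩
    exact allBelow_eq_true invE8_all550 d (by omega)
  rcases Nat.lt_or_ge j 650 with h | h
  · obtain ⟨d, rfl⟩ : ∃ d, j = 600 + d := ⟨j - 600, by omega⟩
    exact allBelow_eq_true invE8_all600 d (by omega)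
  rcases Nat.lt_or_ge j 700 with h | h
  · obtain ⟨d, rfl⟩ : ∃ d, j = 650 + d := ⟨j - 650, by omega⟩
    exact allBelow_eq_true invE8_all650 d (by omega)
  rcases Nat.lt_or_ge j 750 with h | h
  · obtain ⟨d, rfl⟩ : ∃ d, j = 700 + d := ⟨j - 700, by omega⟩
    exact allBelow_eq_true invE8_all700 d (by omega)
  rcases Nat.lt_or_ge j 800 with h | h
  · obtain ⟨d, rfl⟩ : ∃ d, j = 750 + d := ⟨j - 750, by omega⟩
    exact allBelow_eq_true invE8_all750 d (by omega)
  rcases Nat.lt_or_ge j 850 with h | h
  · obtain ⟨d, rfl⟩ : ∃ d, j = 800 + d := ⟨j - 800, by omega⟩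
    exact allBelow_eq_true invE8_all800 d (by omega)
  rcases Nat.lt_or_ge j 900 with h | h
  · obtain ⟨d, rfl⟩ : ∃ d, j = 850 + d := ⟨j - 850, by omega⟩
    exact allBelow_eq_true invE8_all850 d (by omega)
  rcases Nat.lt_or_ge j 950 with h | h
  · obtain ⟨d, rfl⟩ : ∃ d, j = 900 + d := ⟨j - 900, by omega⟩
    exact allBelow_eq_true invE8_all900 d (by omega)
  rcases Nat.lt_or_ge j 1000 with h | h
  · obtain ⟨d, rfl⟩ : ∃ d, j = 950 + d := ⟨j - 950, by omega⟩
    exact allBelow_eq_true invE8_all950 d (by omega)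
  rcases Nat.lt_or_ge j 1050 with h | h
  · obtain ⟨d, rfl⟩ : ∃ d, j = 1000 + d := ⟨j - 1000, by omega⟩
    exact allBelow_eq_true invE8_all1000 d (by omega)
  rcases Nat.lt_or_ge j 1100 with h | h
  · obtain ⟨d, rfl⟩ : ∃ d, j = 1050 + d := ⟨j - 1050, by omega⟩
    exact allBelow_eq_true invE8_all1050 d (by omega)
  rcases Nat.lt_or_ge j 1150 with h | h
  · obtain ⟨d, rfl⟩ : ∃ d, j = 1100 + d := ⟨j - 1100, by omega⟩
    exact allBelow_eq_true invE8_all1100 d (by omega)
  rcases Nat.lt_or_ge j 1200 with h | h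
  · obtain ⟨d, rfl⟩ : ∃ d, j = 1150 + d := ⟨j - 1150, by omega⟩
    exact allBelow_eq_true invE8_all1150 d (by omega)
  rcases Nat.lt_or_ge j 1250 with h | h
  · obtain ⟨d, rfl⟩ : ∃ d, j = 1200 + d := ⟨j - 1200, by omega⟩
    exact allBelow_eq_true invE8_all1200 d (by omega)
  rcases Nat.lt_or_ge j 1300 with h | h
  · obtain ⟨d, rfl⟩ : ∃ d, j = 1250 + d := ⟨j - 1250, by omega⟩
    exact allBelow_eq_true invE8_all1250 d (by omega)
  rcases Nat.lt_or_ge j 1350 with h | h
  · obtain ⟨d, rfl⟩ : ∃ d, j = 1300 + d := ⟨j - 1300, by omega⟩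
    exact allBelow_eq_true invE8_all1300 d (by omega)
  rcases Nat.lt_or_ge j 1400 with h | h
  · obtain ⟨d, rfl⟩ : ∃ d, j = 1350 + d := ⟨j - 1350, by omega⟩
    exact allBelow_eq_true invE8_all1350 d (by omega)
  rcases Nat.lt_or_ge j 1450 with h | h
  · obtain ⟨d, rfl⟩ : ∃ d, j = 1400 + d := ⟨j - 1400, by omega⟩
    exact allBelow_eq_true invE8_all1400 d (by omega)
  rcases Nat.lt_or_ge j 1500 with h | h
  · obtain ⟨d, rfl⟩ : ∃ d, j = 1450 + d := ⟨j - 1450, by omega⟩
    exact allBelow_eq_true invE8_all1450 d (by omega)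
  rcases Nat.lt_or_ge j 1550 with h | h
  · obtain ⟨d, rfl⟩ : ∃ d, j = 1500 + d := ⟨j - 1500, by omega⟩
    exact allBelow_eq_true invE8_all1500 d (by omega)
  rcases Nat.lt_or_ge j 1600 with h | h
  · obtain ⟨d, rfl⟩ : ∃ d, j = 1550 + d := ⟨j - 1550, by omega⟩
    exact allBelow_eq_true invE8_all1550 d (by omega)
  obtain ⟨d, rfl⟩ : ∃ d, j = 1600 + d := ⟨j - 1600, by omega⟩
  exact allBelow_eq_true invE8_all1600 d (by omega)

/-- The root state. -/
theorem invE8_root : tabE8.chkRoot (invE8Tree.get 1640) = true := by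
  decide +kernel

end CfsgLib.Chev
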