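import Cfsg.Agent.Lib.Chev.InvolCert

/-! The certificate for the involution classes of type F4 in characteristic 2 (generated). -/

set_option autoImplicit false
set_option maxRecDepth 100000

namespace CfsgLib.Chev

def invF4T0 : InvTree :=
 .node (.node (.node (.node (.node (.leaf ⟨[39, 45], 0x0, .leaf 4⟩)
 (.leaf ⟨[33, 41, 45], 0xc00000000000, .kill 46 25 255⟩))
 (.node (.leaf ⟨[26, 44], 0x400000000000, .weyl [1, 2, 0, 1, 2, 3, 2, 0, 1, 3, 2, 1, 0, 2, 1] 108⟩)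
 (.leaf ⟨[39, 45], 0x0, .leaf 4⟩)))
 (.node (.node (.leaf ⟨[28, 46, 47], 0x0, .weyl [1, 0, 3] 63⟩)
 (.leaf ⟨[], 0xf90000000000, .branch 40 [0, 1, 0, 0] 319 309⟩))
 (.node (.leaf ⟨[27, 30], 0xe20100000000, .kill 45 42 191⟩)
 (.leaf ⟨[39, 45], 0x0, .leaf 4⟩))))
 (.node (.node (.node (.leaf ⟨[29, 46], 0x0, .weyl [1, 0, 3] 1⟩)
 (.leaf ⟨[33], 0xfffc00000000, .kill 34 27 287⟩))
 (.node (.leaf ⟨[34, 44, 47], 0x0, .weyl [1, 2] 159⟩)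
 (.leaf ⟨[39, 45], 0x0, .leaf 4⟩)))
 (.node (.node (.leaf ⟨[30, 40, 44], 0x0, .weyl [3, 2, 1, 0, 2, 3] 95⟩)
 (.leaf ⟨[39, 45], 0x0, .leaf 4⟩))
 (.node (.leaf ⟨[27], 0xe60000000000, .branch 41 [0, 0, 0, (-1)] 223 204⟩)
 (.leaf ⟨[39, 45], 0x0, .leaf 4⟩)))))
 (.node (.node (.node (.node (.leaf ⟨[28, 41, 47], 0x0, .toggle 18 15⟩)
 (.leaf ⟨[33, 46], 0x800000000000, .weyl [3, 2, 1, 2, 3, 2, 0, 1, 1, 2, 1, 3] 202⟩))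
 (.node (.leaf ⟨[26], 0xfd4a90000000, .kill 43 41 143⟩)
 (.leaf ⟨[39, 45], 0x0, .leaf 4⟩)))
 (.node (.node (.leaf ⟨[26, 31], 0x540000000000, .branch 42 [0, (-1), (-2), 0] 79 51⟩)
 (.leaf ⟨[], 0xfffffc000000, .branch 26 [0, 0, 0, 1] 335 153⟩))
 (.node (.leaf ⟨[27, 45, 46], 0x0, .weyl [1, 0, 2, 3, 2] 207⟩)
 (.leaf ⟨[39, 45], 0x0, .leaf 4⟩))))
 (.node (.node (.node (.leaf ⟨[30, 41, 47], 0x0, .toggle 11 47⟩)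
 (.leaf ⟨[41], 0xf18000000000, .kill 44 29 303⟩))
 (.node (.leaf ⟨[37, 42, 44, 47], 0x0, .weyl [3, 2, 1, 2] 175⟩)
 (.leaf ⟨[39, 45], 0x0, .leaf 4⟩)))
 (.node (.node (.leaf ⟨[26, 33], 0x554800000000, .kill 35 28 111⟩)
 (.leaf ⟨[39, 45], 0x0, .leaf 4⟩))
 (.node (.leaf ⟨[28], 0xffffe0000000, .weyl [2, 3, 3] 238⟩)
 (.leaf ⟨[39, 45], 0x0, .leaf 4⟩)))))

def invF4T1 : InvTree :=
 .node (.node (.node (.node (.node (.leaf ⟨[37, 47], 0x0, .weyl [2, 3] 0⟩)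
 (.leaf ⟨[33, 41, 46], 0x800000000000, .weyl [3, 2, 0, 1, 2, 3, 1, 3, 2, 1, 2, 3] 182⟩))
 (.node (.leaf ⟨[41, 47], 0x0, .toggle 18 75⟩)
 (.leaf ⟨[39, 45], 0x0, .leaf 4⟩)))
 (.node (.node (.leaf ⟨[28, 44, 47], 0x0, .toggle 42 64⟩)
 (.leaf ⟨[], 0xfd0000000000, .branch 42 [0, 0, 0, 1] 320 308⟩))
 (.node (.leaf ⟨[27, 30], 0xe60100000000, .forced 42 45 [32, 41, 46, 47] 192⟩)
 (.leaf ⟨[39, 45], 0x0, .leaf 4⟩))))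
 (.node (.node (.node (.leaf ⟨[29, 44, 46, 47], 0x0, .toggle 41 32⟩)
 (.leaf ⟨[34], 0xfff800000000, .weyl [1, 2, 3, 1, 2, 1, 0, 0, 1, 2, 1, 3, 2] 287⟩))
 (.node (.leaf ⟨[34, 44, 46, 47], 0x0, .toggle 23 160⟩)
 (.leaf ⟨[39, 45], 0x0, .leaf 4⟩)))
 (.node (.node (.leaf ⟨[30, 44, 47], 0x0, .toggle 36 96⟩)
 (.leaf ⟨[39, 45], 0x0, .leaf 4⟩))
 (.node (.leaf ⟨[27], 0xe60100000000, .branch 32 [(-1), (-1), (-1), 0] 224 200⟩)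
 (.leaf ⟨[39, 45], 0x0, .leaf 4⟩)))))
 (.node (.node (.node (.node (.leaf ⟨[26, 28, 31], 0x0, .weyl [2, 0, 1, 3, 2, 1, 0, 2, 1] 16⟩)
 (.leaf ⟨[33, 47], 0x0, .weyl [1, 2, 1] 1⟩))
 (.node (.leaf ⟨[26], 0xfdca90000000, .kill 39 37 144⟩)
 (.leaf ⟨[39, 45], 0x0, .leaf 4⟩)))
 (.node (.node (.leaf ⟨[26, 31], 0x550000000000, .kill 40 35 80⟩)
 (.leaf ⟨[], 0xfffffe000000, .branch 25 [0, 0, 0, (-1)] 336 158⟩))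
 (.node (.leaf ⟨[27, 45, 46], 0x800000000000, .kill 47 24 208⟩)
 (.leaf ⟨[39, 45], 0x0, .leaf 4⟩))))
 (.node (.node (.node (.leaf ⟨[26, 31, 42], 0x0, .weyl [1, 0, 1, 3, 2, 1, 0, 2, 1] 48⟩)
 (.leaf ⟨[41], 0xf98000000000, .kill 43 26 304⟩))
 (.node (.leaf ⟨[37, 42, 46, 47], 0x0, .toggle 28 176⟩)
 (.leaf ⟨[39, 45], 0x0, .leaf 4⟩)))
 (.node (.node (.leaf ⟨[26, 35], 0x554000000000, .weyl [1, 2, 0, 1, 2, 3, 2, 0, 1, 1, 2, 3, 2, 1, 0, 2, 1] 111⟩)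
 (.leaf ⟨[39, 45], 0x0, .leaf 4⟩))
 (.node (.leaf ⟨[29], 0xffffc0000000, .weyl [2, 3] 237⟩)
 (.leaf ⟨[39, 45], 0x0, .leaf 4⟩)))))

def invF4T2 : InvTree :=
 .node (.node (.node (.node (.node (.leaf ⟨[29, 46], 0x0, .weyl [1, 0, 3] 1⟩)
 (.leaf ⟨[37, 44, 47], 0x0, .toggle 36 1⟩))
 (.node (.leaf ⟨[26, 46], 0x0, .weyl [3, 2, 1, 0, 2, 1] 129⟩)
 (.leaf ⟨[39, 45], 0x0, .leaf 4⟩)))
 (.node (.node (.leaf ⟨[28, 41, 47], 0x0, .toggle 18 65⟩)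
 (.leaf ⟨[], 0xfd8000000000, .branch 39 [0, 0, 1, 0] 321 307⟩))
 (.node (.leaf ⟨[27, 30], 0xe60180000000, .kill 31 24 193⟩)
 (.leaf ⟨[39, 45], 0x0, .leaf 4⟩))))
 (.node (.node (.node (.leaf ⟨[28, 44, 46, 47], 0x0, .weyl [3] 33⟩)
 (.leaf ⟨[35], 0xfff000000000, .weyl [1, 2, 3, 1, 2, 1, 0, 0, 1, 2, 1, 3] 287⟩))
 (.node (.leaf ⟨[37, 42, 44, 47], 0x0, .weyl [3, 2, 1, 2] 161⟩)
 (.leaf ⟨[39, 45], 0x0, .leaf 4⟩)))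
 (.node (.node (.leaf ⟨[26, 33, 42], 0x0, .weyl [1, 0, 1, 2, 1, 3, 2, 1, 2] 97⟩)
 (.leaf ⟨[39, 45], 0x0, .leaf 4⟩))
 (.node (.leaf ⟨[27], 0xe60180000000, .branch 31 [0, 0, 0, 1] 225 195⟩)
 (.leaf ⟨[39, 45], 0x0, .leaf 4⟩)))))
 (.node (.node (.node (.node (.leaf ⟨[26, 28, 31], 0x400000000000, .branch 46 [2, 3, 4, 2] 17 11⟩)
 (.leaf ⟨[33], 0x0, .weyl [0, 1, 2, 1, 3, 2, 1] 218⟩))
 (.node (.leaf ⟨[26], 0xffca90000000, .forced 41 43 [28, 31, 33, 35, 38, 39, 40, 42, 44, 45, 46, 47] 145⟩)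
 (.leaf ⟨[39, 45], 0x0, .leaf 4⟩)))
 (.node (.node (.leaf ⟨[26, 31], 0x554000000000, .kill 38 33 81⟩)
 (.leaf ⟨[], 0xffffff000000, .branch 24 [0, 0, 1, 1] 337 156⟩))
 (.node (.leaf ⟨[38, 46], 0x0, .weyl [3] 1⟩)
 (.leaf ⟨[39, 45], 0x0, .leaf 4⟩))))
 (.node (.node (.node (.leaf ⟨[26, 31, 42], 0x400000000000, .branch 46 [(-1), (-2), (-3), (-1)] 49 43⟩)
 (.leaf ⟨[41], 0xfd8000000000, .kill 42 24 305⟩))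
 (.node (.leaf ⟨[27, 30, 46, 47], 0x0, .weyl [2, 1, 0, 2, 3] 177⟩)
 (.leaf ⟨[39, 45], 0x0, .leaf 4⟩)))
 (.node (.node (.leaf ⟨[26, 38], 0x550000000000, .weyl [1, 2, 0, 1, 2, 3, 2, 0, 1, 1, 0, 3, 2, 1, 0, 2, 1] 112⟩)
 (.leaf ⟨[39, 45], 0x0, .leaf 4⟩))
 (.node (.leaf ⟨[32], 0x387800000000, .weyl [1, 2] 139⟩)
 (.leaf ⟨[39, 45], 0x0, .leaf 4⟩)))))

def invF4T3 : InvTree :=
 .node (.node (.node (.node (.node (.leaf ⟨[29, 44, 46, 47], 0x0, .toggle 41 2⟩)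
 (.leaf ⟨[30, 40, 44], 0x0, .weyl [3, 2, 1, 0, 2, 3] 258⟩))
 (.node (.leaf ⟨[47], 0x0, .leaf 1⟩)
 (.leaf ⟨[39, 45], 0x0, .leaf 4⟩)))
 (.node (.node (.leaf ⟨[26, 31, 44], 0x0, .weyl [0, 1, 3, 2, 1, 0, 2, 1] 66⟩)
 (.leaf ⟨[], 0xff8000000000, .branch 41 [0, 0, 0, (-1)] 322 306⟩))
 (.node (.leaf ⟨[27, 31], 0xe60100000000, .weyl [3, 2, 3, 3, 2] 193⟩)
 (.leaf ⟨[39, 45], 0x0, .leaf 4⟩))))
 (.node (.node (.node (.leaf ⟨[28, 44, 47], 0x0, .toggle 23 34⟩)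
 (.leaf ⟨[36], 0xffe000000000, .weyl [1, 2, 3, 1, 2, 1, 0, 0, 1, 2, 1] 287⟩))
 (.node (.leaf ⟨[37, 42, 46, 47], 0x0, .toggle 28 162⟩)
 (.leaf ⟨[39, 45], 0x0, .leaf 4⟩)))
 (.node (.node (.leaf ⟨[26, 33, 42], 0x400000000000, .branch 46 [1, 2, 3, 1] 98 94⟩)
 (.leaf ⟨[39, 45], 0x0, .leaf 4⟩))
 (.node (.leaf ⟨[27], 0xe601c0000000, .branch 30 [0, 0, 0, (-1)] 226 194⟩)
 (.leaf ⟨[39, 45], 0x0, .leaf 4⟩)))))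
 (.node (.node (.node (.node (.leaf ⟨[37, 44, 47], 0x0, .toggle 36 1⟩)
 (.leaf ⟨[33], 0x800000000000, .branch 47 [0, 0, 0, 1] 274 273⟩))
 (.node (.leaf ⟨[26], 0xffea90000000, .forced 37 39 [28, 31, 33, 35, 38, 40, 41, 42, 43, 44, 45, 46, 47] 146⟩)
 (.leaf ⟨[39, 45], 0x0, .leaf 4⟩)))
 (.node (.node (.leaf ⟨[26, 31], 0x554800000000, .forced 35 40 [38, 42, 44, 46] 82⟩)
 (.leaf ⟨[39, 45], 0x0, .leaf 4⟩))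
 (.node (.leaf ⟨[38, 46, 47], 0x0, .toggle 24 210⟩)
 (.leaf ⟨[39, 45], 0x0, .leaf 4⟩))))
 (.node (.node (.node (.leaf ⟨[26, 31, 42], 0x500000000000, .kill 44 28 50⟩)
 (.leaf ⟨[39], 0xfd0000000000, .weyl [1, 2, 3, 1, 2, 1, 0, 0, 1] 286⟩))
 (.node (.leaf ⟨[38, 46], 0x0, .weyl [3] 1⟩)
 (.leaf ⟨[39, 45], 0x0, .leaf 4⟩)))
 (.node (.node (.leaf ⟨[26, 40, 42], 0x400000000000, .weyl [1, 2, 0, 1, 2, 3, 1, 0, 0, 3, 2, 1, 0, 2, 1] 68⟩)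
 (.leaf ⟨[39, 45], 0x0, .leaf 4⟩))
 (.node (.leaf ⟨[32], 0xb87800000000, .kill 47 42 242⟩)
 (.leaf ⟨[39, 45], 0x0, .leaf 4⟩)))))

def invF4T4 : InvTree :=
 .node (.node (.node (.node (.node (.leaf ⟨[28, 44, 46, 47], 0x0, .weyl [3] 3⟩)
 (.leaf ⟨[30, 44, 47], 0x0, .toggle 36 259⟩))
 (.node (.leaf ⟨[26], 0x0, .weyl [3, 2, 1, 0, 2, 1] 131⟩)
 (.leaf ⟨[39, 45], 0x0, .leaf 4⟩)))
 (.node (.node (.leaf ⟨[26, 31, 44], 0x400000000000, .branch 46 [0, 1, 2, 0] 67 61⟩)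
 (.leaf ⟨[], 0xffc000000000, .branch 38 [0, 0, 0, 1] 323 293⟩))
 (.node (.leaf ⟨[27, 32], 0x200000000000, .weyl [1, 2] 24⟩)
 (.leaf ⟨[39, 45], 0x0, .leaf 4⟩))))
 (.node (.node (.node (.leaf ⟨[28, 41, 47], 0x0, .toggle 18 35⟩)
 (.leaf ⟨[37], 0xffc000000000, .weyl [1, 2, 3, 1, 2, 1, 0, 0, 1, 2, 3] 286⟩))
 (.node (.leaf ⟨[27, 30, 32, 47], 0x0, .weyl [1, 2, 1, 2, 3, 2, 1, 0] 163⟩)
 (.leaf ⟨[39, 45], 0x0, .leaf 4⟩)))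
 (.node (.node (.leaf ⟨[38, 46], 0x0, .weyl [3] 1⟩)
 (.leaf ⟨[39, 45], 0x0, .leaf 4⟩))
 (.node (.leaf ⟨[27], 0xf601c0000000, .kill 44 43 227⟩)
 (.leaf ⟨[39, 45], 0x0, .leaf 4⟩)))))
 (.node (.node (.node (.node (.leaf ⟨[30, 40, 44], 0x0, .weyl [3, 2, 1, 0, 2, 3] 19⟩)
 (.leaf ⟨[33], 0xc00000000000, .branch 46 [0, 0, 0, (-1)] 275 272⟩))
 (.node (.leaf ⟨[26], 0xfffa90000000, .kill 36 34 147⟩)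
 (.leaf ⟨[39, 45], 0x0, .leaf 4⟩)))
 (.node (.node (.leaf ⟨[26, 31], 0x554a00000000, .forced 33 38 [35, 40, 42, 44, 46] 83⟩)
 (.leaf ⟨[39, 45], 0x0, .leaf 4⟩))
 (.node (.leaf ⟨[27, 45, 47], 0x0, .weyl [1, 0, 3, 2] 211⟩)
 (.leaf ⟨[39, 45], 0x0, .leaf 4⟩))))
 (.node (.node (.node (.leaf ⟨[29, 46], 0x0, .weyl [1, 0, 3] 1⟩)
 (.leaf ⟨[42], 0xf90000000000, .weyl [3, 2, 1, 2, 3, 3, 2, 1, 2] 305⟩))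
 (.node (.leaf ⟨[38, 46, 47], 0x0, .toggle 24 179⟩)
 (.leaf ⟨[39, 45], 0x0, .leaf 4⟩)))
 (.node (.node (.leaf ⟨[37, 44, 47], 0x0, .toggle 36 1⟩)
 (.leaf ⟨[39, 45], 0x0, .leaf 4⟩))
 (.node (.leaf ⟨[32], 0xf87800000000, .kill 46 41 243⟩)
 (.leaf ⟨[39, 45], 0x0, .leaf 4⟩)))))

def invF4T5 : InvTree :=
 .node (.node (.node (.node (.node (.leaf ⟨[28, 44, 47], 0x0, .toggle 23 4⟩)
 (.leaf ⟨[33, 41, 47], 0x0, .weyl [0, 1, 2, 1, 3, 2, 1, 2, 3] 260⟩))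
 (.node (.leaf ⟨[26], 0x400000000000, .branch 46 [0, 0, 1, (-1)] 132 130⟩)
 (.leaf ⟨[39, 45], 0x0, .leaf 4⟩)))
 (.node (.node (.leaf ⟨[37, 44, 47], 0x0, .toggle 36 1⟩)
 (.leaf ⟨[], 0xffe000000000, .branch 37 [0, 0, 0, (-1)] 324 292⟩))
 (.node (.leaf ⟨[27, 32], 0xa00000000000, .kill 47 42 196⟩)
 (.leaf ⟨[39, 45], 0x0, .leaf 4⟩))))
 (.node (.node (.node (.leaf ⟨[25, 37, 47], 0x0, .weyl [3, 2, 1, 0, 2, 1, 3] 36⟩)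
 (.leaf ⟨[38], 0xff8000000000, .weyl [1, 2, 3, 1, 2, 1, 0, 0, 1, 2] 286⟩))
 (.node (.leaf ⟨[38, 46], 0x0, .weyl [3] 1⟩)
 (.leaf ⟨[39, 45], 0x0, .leaf 4⟩)))
 (.node (.node (.leaf ⟨[38, 46, 47], 0x0, .toggle 24 100⟩)
 (.leaf ⟨[39, 45], 0x0, .leaf 4⟩))
 (.node (.leaf ⟨[27], 0xfe01c0000000, .forced 43 44 [30, 31, 32, 41, 42, 45, 46, 47] 228⟩)
 (.leaf ⟨[39, 45], 0x0, .leaf 4⟩)))))
 (.node (.node (.node (.node (.leaf ⟨[30, 44, 47], 0x0, .toggle 36 20⟩)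
 (.leaf ⟨[33], 0xe00000000000, .branch 45 [0, 0, (-1), 0] 276 271⟩))
 (.node (.leaf ⟨[26], 0xfffe90000000, .forced 34 36 [28, 31, 33, 35, 37, 38, 39, 40, 41, 42, 43, 44, 45, 46, 47] 148⟩)
 (.leaf ⟨[39, 45], 0x0, .leaf 4⟩)))
 (.node (.node (.leaf ⟨[29, 46], 0x0, .weyl [1, 0, 3] 1⟩)
 (.leaf ⟨[39, 45], 0x0, .leaf 4⟩))
 (.node (.leaf ⟨[27, 45], 0x0, .weyl [0, 1, 2, 1, 0, 3, 2] 75⟩)
 (.leaf ⟨[39, 45], 0x0, .leaf 4⟩))))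
 (.node (.node (.node (.leaf ⟨[29, 44, 46, 47], 0x0, .toggle 41 52⟩)
 (.leaf ⟨[40], 0xf80000000000, .weyl [1, 2, 3, 1, 2, 1, 0, 0] 281⟩))
 (.node (.leaf ⟨[27, 30, 46], 0x0, .weyl [3, 2, 1, 0, 2, 3] 180⟩)
 (.leaf ⟨[39, 45], 0x0, .leaf 4⟩)))
 (.node (.node (.leaf ⟨[30, 40, 44], 0x0, .weyl [3, 2, 1, 0, 2, 3] 116⟩)
 (.leaf ⟨[39, 45], 0x0, .leaf 4⟩))
 (.node (.leaf ⟨[32], 0xf97800000000, .kill 40 34 244⟩)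
 (.leaf ⟨[39, 45], 0x0, .leaf 4⟩)))))

def invF4T6 : InvTree :=
 .node (.node (.node (.node (.node (.leaf ⟨[28, 41, 47], 0x0, .toggle 18 5⟩)
 (.leaf ⟨[33, 41], 0x0, .weyl [0, 1, 2, 1, 3, 2, 1, 2, 3] 75⟩))
 (.node (.leaf ⟨[26], 0x500000000000, .branch 44 [1, 0, 0, 0] 133 128⟩)
 (.leaf ⟨[39, 45], 0x0, .leaf 4⟩)))
 (.node (.node (.leaf ⟨[30, 40, 44], 0x0, .weyl [3, 2, 1, 0, 2, 3] 69⟩)
 (.leaf ⟨[], 0xfff000000000, .branch 36 [0, 0, 0, 1] 325 291⟩))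
 (.node (.leaf ⟨[27, 32], 0xe00000000000, .kill 46 41 197⟩)
 (.leaf ⟨[39, 45], 0x0, .leaf 4⟩))))
 (.node (.node (.node (.leaf ⟨[25, 37, 44, 47], 0x0, .toggle 36 37⟩)
 (.leaf ⟨[39, 41], 0x810000000000, .weyl [1, 2, 0, 1, 2, 3, 2, 0, 1, 1, 3, 2, 1, 2, 3] 109⟩))
 (.node (.leaf ⟨[38, 46, 47], 0x0, .toggle 24 165⟩)
 (.leaf ⟨[39, 45], 0x0, .leaf 4⟩)))
 (.node (.node (.leaf ⟨[28, 46, 47], 0x0, .weyl [1, 0, 3] 101⟩)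
 (.leaf ⟨[39, 45], 0x0, .leaf 4⟩))
 (.node (.leaf ⟨[27], 0xff01c0000000, .kill 40 39 229⟩)
 (.leaf ⟨[39, 45], 0x0, .leaf 4⟩)))))
 (.node (.node (.node (.node (.leaf ⟨[26, 28, 46], 0x0, .weyl [1, 0, 1, 2, 1, 0, 3] 21⟩)
 (.leaf ⟨[33], 0xe80000000000, .branch 43 [0, 0, 1, 0] 277 269⟩))
 (.node (.leaf ⟨[26], 0xffff90000000, .kill 32 30 149⟩)
 (.leaf ⟨[39, 45], 0x0, .leaf 4⟩)))
 (.node (.node (.leaf ⟨[29, 44, 46, 47], 0x0, .toggle 41 85⟩)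
 (.leaf ⟨[39, 45], 0x0, .leaf 4⟩))
 (.node (.leaf ⟨[27, 45], 0x800000000000, .branch 47 [0, 0, 0, 1] 213 212⟩)
 (.leaf ⟨[39, 45], 0x0, .leaf 4⟩))))
 (.node (.node (.node (.leaf ⟨[28, 44, 46, 47], 0x0, .weyl [3] 53⟩)
 (.leaf ⟨[43], 0xf00000000000, .weyl [3, 2, 1, 2, 3, 3, 2, 1] 304⟩))
 (.node (.leaf ⟨[27, 30, 46], 0x800000000000, .branch 47 [0, 1, 2, 2] 181 178⟩)
 (.leaf ⟨[39, 45], 0x0, .leaf 4⟩)))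
 (.node (.node (.leaf ⟨[30, 44, 47], 0x0, .toggle 36 117⟩)
 (.leaf ⟨[39, 45], 0x0, .leaf 4⟩))
 (.node (.leaf ⟨[32], 0xfd7800000000, .forced 42 47 [35, 36, 37, 38, 40, 43, 44, 45, 46] 245⟩)
 (.leaf ⟨[39, 45], 0x0, .leaf 4⟩)))))

def invF4T7 : InvTree :=
 .node (.node (.node (.node (.node (.leaf ⟨[25, 37, 47], 0x0, .weyl [3, 2, 1, 0, 2, 1, 3] 6⟩)
 (.leaf ⟨[33, 41], 0x800000000000, .branch 47 [1, 2, 0, 2] 262 261⟩))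
 (.node (.leaf ⟨[26], 0x510000000000, .branch 40 [0, 1, 2, 0] 134 127⟩)
 (.leaf ⟨[39, 45], 0x0, .leaf 4⟩)))
 (.node (.node (.leaf ⟨[30, 44, 47], 0x0, .toggle 36 70⟩)
 (.leaf ⟨[], 0xfff800000000, .branch 35 [0, 0, 0, (-1)] 326 290⟩))
 (.node (.leaf ⟨[27, 32], 0xe40000000000, .forced 42 47 [45, 46] 198⟩)
 (.leaf ⟨[39, 45], 0x0, .leaf 4⟩))))
 (.node (.node (.node (.leaf ⟨[25, 30, 40, 44], 0x0, .weyl [3, 2, 1, 0, 2, 3] 38⟩)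
 (.leaf ⟨[40, 41], 0x800000000000, .weyl [1, 2, 0, 1, 2, 3, 2, 0, 1, 3, 2, 1, 2, 3] 108⟩))
 (.node (.leaf ⟨[27, 30, 32], 0x0, .weyl [1, 2, 1, 3, 2, 1, 0, 2, 3] 166⟩)
 (.leaf ⟨[39, 45], 0x0, .leaf 4⟩)))
 (.node (.node (.leaf ⟨[28, 44, 47], 0x0, .toggle 42 102⟩)
 (.leaf ⟨[39, 45], 0x0, .leaf 4⟩))
 (.node (.leaf ⟨[27], 0xff81c0000000, .forced 39 40 [30, 31, 32, 41, 42, 43, 44, 45, 46, 47] 230⟩)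
 (.leaf ⟨[39, 45], 0x0, .leaf 4⟩)))))
 (.node (.node (.node (.node (.leaf ⟨[26, 28], 0x0, .weyl [1, 2, 1, 3, 2, 1, 0, 2, 1] 1⟩)
 (.leaf ⟨[33], 0xec0000000000, .branch 42 [0, 0, 0, 1] 278 268⟩))
 (.node (.leaf ⟨[26], 0xffffd0000000, .forced 30 32 [28, 31, 33, 34, 35, 36, 37, 38, 39, 40, 41, 42, 43, 44, 45, 46, 47] 150⟩)
 (.leaf ⟨[39, 45], 0x0, .leaf 4⟩)))
 (.node (.node (.leaf ⟨[28, 44, 46, 47], 0x0, .weyl [3] 86⟩)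
 (.leaf ⟨[39, 45], 0x0, .leaf 4⟩))
 (.node (.leaf ⟨[27, 45], 0xc00000000000, .branch 46 [0, 0, 0, (-1)] 214 209⟩)
 (.leaf ⟨[39, 45], 0x0, .leaf 4⟩))))
 (.node (.node (.node (.leaf ⟨[28, 44, 47], 0x0, .toggle 23 54⟩)
 (.leaf ⟨[44], 0xe00000000000, .weyl [1, 2, 3, 1, 2, 1, 0] 280⟩))
 (.node (.leaf ⟨[37, 44, 47], 0x0, .toggle 36 1⟩)
 (.leaf ⟨[39, 45], 0x0, .leaf 4⟩)))
 (.node (.node (.leaf ⟨[40, 41, 47], 0x0, .weyl [0] 118⟩)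
 (.leaf ⟨[39, 45], 0x0, .leaf 4⟩))
 (.node (.leaf ⟨[32], 0xfdf800000000, .kill 39 33 246⟩)
 (.leaf ⟨[39, 45], 0x0, .leaf 4⟩)))))

def invF4T8 : InvTree :=
 .node (.node (.node (.node (.node (.leaf ⟨[25, 37, 44, 47], 0x0, .toggle 36 7⟩)
 (.leaf ⟨[33, 41], 0xc00000000000, .branch 46 [(-1), (-2), (-1), (-2)] 263 257⟩))
 (.node (.leaf ⟨[26], 0x550000000000, .branch 42 [0, 0, (-1), 1] 135 126⟩)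
 (.leaf ⟨[39, 45], 0x0, .leaf 4⟩)))
 (.node (.node (.leaf ⟨[40, 41, 47], 0x0, .weyl [0] 71⟩)
 (.leaf ⟨[], 0xfffc00000000, .branch 34 [0, 0, (-1), 0] 327 289⟩))
 (.node (.leaf ⟨[27, 32], 0xe60000000000, .forced 41 46 [42, 45, 47] 199⟩)
 (.leaf ⟨[39, 45], 0x0, .leaf 4⟩))))
 (.node (.node (.node (.leaf ⟨[25, 30, 44, 47], 0x0, .toggle 36 39⟩)
 (.leaf ⟨[41, 47], 0x0, .toggle 18 75⟩))
 (.node (.leaf ⟨[27, 30, 32], 0x800000000000, .branch 47 [(-2), (-3), (-4), (-2)] 167 164⟩)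
 (.leaf ⟨[39, 45], 0x0, .leaf 4⟩)))
 (.node (.node (.leaf ⟨[28, 41, 47], 0x0, .toggle 18 103⟩)
 (.leaf ⟨[39, 45], 0x0, .leaf 4⟩))
 (.node (.leaf ⟨[27], 0xffc1c0000000, .kill 38 36 231⟩)
 (.leaf ⟨[39, 45], 0x0, .leaf 4⟩)))))
 (.node (.node (.node (.node (.leaf ⟨[26, 28], 0x400000000000, .branch 46 [2, 2, 3, 1] 23 22⟩)
 (.leaf ⟨[33], 0xee0000000000, .branch 41 [0, 0, 0, (-1)] 279 267⟩))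
 (.node (.leaf ⟨[26], 0xfffff0000000, .kill 29 27 151⟩)
 (.leaf ⟨[39, 45], 0x0, .leaf 4⟩)))
 (.node (.node (.leaf ⟨[28, 44, 47], 0x0, .toggle 23 87⟩)
 (.leaf ⟨[39, 45], 0x0, .leaf 4⟩))
 (.node (.leaf ⟨[27, 46], 0x800000000000, .weyl [3, 2, 1, 2, 3, 2, 0, 1, 1, 0, 2, 3] 202⟩)
 (.leaf ⟨[39, 45], 0x0, .leaf 4⟩))))
 (.node (.node (.node (.leaf ⟨[28, 41, 47], 0x0, .toggle 18 55⟩)
 (.leaf ⟨[45], 0xc00000000000, .weyl [3, 2, 1, 2, 3, 3, 2] 303⟩))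
 (.node (.leaf ⟨[30, 40, 44], 0x0, .weyl [3, 2, 1, 0, 2, 3] 183⟩)
 (.leaf ⟨[39, 45], 0x0, .leaf 4⟩)))
 (.node (.node (.leaf ⟨[30, 41, 47], 0x0, .toggle 11 119⟩)
 (.leaf ⟨[39, 45], 0x0, .leaf 4⟩))
 (.node (.leaf ⟨[32], 0xfff800000000, .forced 41 46 [35, 36, 37, 38, 39, 40, 42, 43, 44, 45, 47] 247⟩)
 (.leaf ⟨[39, 45], 0x0, .leaf 4⟩)))))

def invF4T9 : InvTree :=
 .node (.node (.node (.node (.node (.leaf ⟨[25, 30, 40, 44], 0x0, .weyl [3, 2, 1, 0, 2, 3] 8⟩)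
 (.leaf ⟨[33, 41], 0xe00000000000, .branch 45 [0, 0, (-1), 0] 264 256⟩))
 (.node (.leaf ⟨[26], 0x554000000000, .branch 38 [0, (-1), (-2), 0] 136 114⟩)
 (.leaf ⟨[39, 45], 0x0, .leaf 4⟩)))
 (.node (.node (.leaf ⟨[30, 41, 47], 0x0, .toggle 11 72⟩)
 (.leaf ⟨[], 0xfffe00000000, .branch 33 [0, (-1), 0, 0] 328 288⟩))
 (.node (.leaf ⟨[27, 41], 0x800000000000, .weyl [1, 2, 0, 1, 2, 3, 2, 0, 1, 1, 0, 2, 3, 2, 1, 2, 3] 107⟩)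
 (.leaf ⟨[39, 45], 0x0, .leaf 4⟩))))
 (.node (.node (.node (.leaf ⟨[30, 39, 41, 47], 0x0, .weyl [1, 0, 1] 40⟩)
 (.leaf ⟨[41, 47], 0x0, .weyl [3, 2, 1, 2, 3] 296⟩))
 (.node (.leaf ⟨[27, 30, 32], 0xc00000000000, .kill 46 41 168⟩)
 (.leaf ⟨[39, 45], 0x0, .leaf 4⟩)))
 (.node (.node (.leaf ⟨[26, 33, 46], 0x0, .weyl [2, 3, 2, 1, 0, 2, 1] 104⟩)
 (.leaf ⟨[39, 45], 0x0, .leaf 4⟩))
 (.node (.leaf ⟨[27], 0xffe1c0000000, .kill 37 35 232⟩)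
 (.leaf ⟨[39, 45], 0x0, .leaf 4⟩)))))
 (.node (.node (.node (.node (.leaf ⟨[26, 28], 0x400080000000, .branch 31 [(-2), (-2), (-3), (-1)] 24 18⟩)
 (.leaf ⟨[33], 0xfe0000000000, .kill 44 40 280⟩))
 (.node (.leaf ⟨[26], 0xfffff8000000, .forced 27 29 [28, 30, 31, 32, 33, 34, 35, 36, 37, 38, 39, 40, 41, 42, 43, 44, 45, 46, 47] 152⟩)
 (.leaf ⟨[39, 45], 0x0, .leaf 4⟩)))
 (.node (.node (.leaf ⟨[28, 41, 47], 0x0, .toggle 18 88⟩)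
 (.leaf ⟨[39, 45], 0x0, .leaf 4⟩))
 (.node (.leaf ⟨[27, 47], 0x0, .weyl [1, 0, 2] 1⟩)
 (.leaf ⟨[39, 45], 0x0, .leaf 4⟩))))
 (.node (.node (.node (.leaf ⟨[25, 37, 47], 0x0, .weyl [3, 2, 1, 0, 2, 1, 3] 56⟩)
 (.leaf ⟨[46], 0x800000000000, .weyl [3, 2, 1, 2, 3, 3] 302⟩))
 (.node (.leaf ⟨[30, 44, 47], 0x0, .toggle 36 184⟩)
 (.leaf ⟨[39, 45], 0x0, .leaf 4⟩)))
 (.node (.node (.leaf ⟨[26, 42, 46], 0x0, .weyl [0, 3, 2, 1, 0, 2, 1] 120⟩)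
 (.leaf ⟨[39, 45], 0x0, .leaf 4⟩))
 (.node (.leaf ⟨[32], 0xfffc00000000, .forced 34 40 [35, 36, 37, 38, 39, 41, 42, 43, 44, 45, 46, 47] 248⟩)
 (.leaf ⟨[39, 45], 0x0, .leaf 4⟩)))))

def invF4T10 : InvTree :=
 .node (.node (.node (.node (.node (.leaf ⟨[25, 30, 44, 47], 0x0, .toggle 36 9⟩)
 (.leaf ⟨[33, 41], 0xe80000000000, .kill 43 26 265⟩))
 (.node (.leaf ⟨[26], 0x554800000000, .branch 35 [0, 1, 2, 0] 137 113⟩)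
 (.leaf ⟨[39, 45], 0x0, .leaf 4⟩)))
 (.node (.node (.leaf ⟨[26, 31, 46], 0x0, .weyl [0, 1, 3, 2, 1, 0, 2, 1] 73⟩)
 (.leaf ⟨[], 0xffff00000000, .branch 32 [0, 0, 1, 0] 329 250⟩))
 (.node (.leaf ⟨[27, 41], 0xc00000000000, .kill 46 32 201⟩)
 (.leaf ⟨[39, 45], 0x0, .leaf 4⟩))))
 (.node (.node (.node (.leaf ⟨[25, 30, 41, 47], 0x0, .toggle 9 41⟩)
 (.leaf ⟨[41], 0x0, .weyl [3, 2, 1, 2, 3] 131⟩))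
 (.node (.leaf ⟨[27, 30, 32], 0xc20000000000, .forced 41 46 [47] 169⟩)
 (.leaf ⟨[39, 45], 0x0, .leaf 4⟩)))
 (.node (.node (.leaf ⟨[26, 33], 0x0, .weyl [1, 0, 2, 3, 2, 1, 0, 2, 1] 1⟩)
 (.leaf ⟨[39, 45], 0x0, .leaf 4⟩))
 (.node (.leaf ⟨[27], 0xfff1c0000000, .forced 36 38 [30, 31, 32, 37, 39, 40, 41, 42, 43, 44, 45, 46, 47] 233⟩)
 (.leaf ⟨[39, 45], 0x0, .leaf 4⟩)))))
 (.node (.node (.node (.node (.leaf ⟨[26, 28], 0x500080000000, .kill 44 42 25⟩)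
 (.leaf ⟨[33], 0xff0000000000, .forced 40 44 [41, 42, 43, 45, 46, 47] 281⟩))
 (.node (.leaf ⟨[24], 0xfffff8000000, .weyl [2] 153⟩)
 (.leaf ⟨[39, 45], 0x0, .leaf 4⟩)))
 (.node (.node (.leaf ⟨[25, 37, 47], 0x0, .weyl [3, 2, 1, 0, 2, 1, 3] 89⟩)
 (.leaf ⟨[39, 45], 0x0, .leaf 4⟩))
 (.node (.leaf ⟨[44], 0x0, .leaf 2⟩)
 (.leaf ⟨[39, 45], 0x0, .leaf 4⟩))))
 (.node (.node (.node (.leaf ⟨[25, 37, 44, 47], 0x0, .toggle 36 57⟩)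
 (.leaf ⟨[], 0x0, .leaf 0⟩))
 (.node (.leaf ⟨[27, 30, 47], 0x0, .weyl [0, 1, 2, 3, 2, 1, 0, 2, 3] 185⟩)
 (.leaf ⟨[39, 45], 0x0, .leaf 4⟩)))
 (.node (.node (.leaf ⟨[41, 47], 0x0, .toggle 18 75⟩)
 (.leaf ⟨[39, 45], 0x0, .leaf 4⟩))
 (.node (.leaf ⟨[32], 0xfffe00000000, .forced 33 39 [34, 35, 36, 37, 38, 40, 41, 42, 43, 44, 45, 46, 47] 249⟩)
 (.leaf ⟨[39, 45], 0x0, .leaf 4⟩)))))

def invF4T11 : InvTree :=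
 .node (.node (.node (.node (.node (.leaf ⟨[26, 28, 31, 46], 0x0, .weyl [1, 0, 1, 2, 1, 0, 3] 10⟩)
 (.leaf ⟨[33, 41], 0xec0000000000, .kill 42 24 266⟩))
 (.node (.leaf ⟨[26], 0x554a00000000, .branch 33 [0, (-1), (-2), 0] 138 112⟩)
 (.leaf ⟨[39, 45], 0x0, .leaf 4⟩)))
 (.node (.node (.leaf ⟨[44, 47], 0x0, .leaf 3⟩)
 (.leaf ⟨[], 0xffff80000000, .branch 31 [0, 0, 0, 1] 330 254⟩))
 (.node (.leaf ⟨[27, 41], 0xe00000000000, .kill 45 31 202⟩)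
 (.leaf ⟨[39, 45], 0x0, .leaf 4⟩))))
 (.node (.node (.node (.leaf ⟨[26, 31, 42, 46], 0x0, .weyl [1, 0, 1, 3, 2, 1, 0, 2, 1] 42⟩)
 (.leaf ⟨[41], 0x800000000000, .branch 47 [(-1), 0, 0, (-2)] 298 297⟩))
 (.node (.leaf ⟨[27, 30, 41], 0x800000000000, .weyl [2, 1, 2, 3, 1, 2, 1, 0, 1, 1, 0, 1, 2, 3, 2, 1, 0, 2, 3] 99⟩)
 (.leaf ⟨[39, 45], 0x0, .leaf 4⟩)))
 (.node (.node (.leaf ⟨[26, 33], 0x400000000000, .branch 46 [0, 0, 1, (-1)] 106 105⟩)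
 (.leaf ⟨[39, 45], 0x0, .leaf 4⟩))
 (.node (.leaf ⟨[27], 0xfff9c0000000, .forced 35 37 [30, 31, 32, 36, 38, 39, 40, 41, 42, 43, 44, 45, 46, 47] 234⟩)
 (.leaf ⟨[39, 45], 0x0, .leaf 4⟩)))))
 (.node (.node (.node (.node (.leaf ⟨[26, 28], 0x510080000000, .kill 40 38 26⟩)
 (.leaf ⟨[33], 0xff8000000000, .kill 39 32 282⟩))
 (.node (.leaf ⟨[24], 0xfffffc000000, .kill 26 25 154⟩)
 (.leaf ⟨[39, 45], 0x0, .leaf 4⟩)))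
 (.node (.node (.leaf ⟨[25, 37, 44, 47], 0x0, .toggle 36 90⟩)
 (.leaf ⟨[39, 45], 0x0, .leaf 4⟩))
 (.node (.leaf ⟨[27], 0x0, .weyl [0, 1, 2, 1, 0, 3, 2] 218⟩)
 (.leaf ⟨[39, 45], 0x0, .leaf 4⟩))))
 (.node (.node (.node (.leaf ⟨[25, 30, 40, 44], 0x0, .weyl [3, 2, 1, 0, 2, 3] 58⟩)
 (.leaf ⟨[], 0x800000000000, .branch 47 [0, 0, 0, 1] 314 131⟩))
 (.node (.leaf ⟨[27, 30], 0x0, .weyl [0, 1, 2, 3, 2, 1, 0, 2, 3] 75⟩)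
 (.leaf ⟨[39, 45], 0x0, .leaf 4⟩)))
 (.node (.node (.leaf ⟨[26, 42], 0x0, .weyl [0, 3, 2, 1, 0, 2, 1] 122⟩)
 (.leaf ⟨[39, 45], 0x0, .leaf 4⟩))
 (.node (.leaf ⟨[30], 0xfffe00000000, .weyl [2, 3] 250⟩)
 (.leaf ⟨[39, 45], 0x0, .leaf 4⟩)))))

def invF4T12 : InvTree :=
 .node (.node (.node (.node (.node (.leaf ⟨[38, 46], 0x0, .weyl [3] 1⟩)
 (.leaf ⟨[33, 42], 0xe80000000000, .weyl [3, 2, 1, 2, 3, 1, 2, 1, 0, 0, 1, 2, 1, 3, 2, 1, 2] 266⟩))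
 (.node (.leaf ⟨[26], 0x554a80000000, .branch 31 [0, 0, (-1), 1] 139 84⟩)
 (.leaf ⟨[39, 45], 0x0, .leaf 4⟩)))
 (.node (.node (.leaf ⟨[41, 47], 0x0, .toggle 18 75⟩)
 (.leaf ⟨[], 0xffffc0000000, .branch 30 [0, 0, 0, (-1)] 331 253⟩))
 (.node (.leaf ⟨[27, 41], 0xe40000000000, .kill 42 24 203⟩)
 (.leaf ⟨[39, 45], 0x0, .leaf 4⟩))))
 (.node (.node (.node (.leaf ⟨[37, 44, 47], 0x0, .toggle 36 1⟩)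
 (.leaf ⟨[41], 0x810000000000, .branch 40 [(-1), 0, 0, (-2)] 299 295⟩))
 (.node (.leaf ⟨[27, 30, 41], 0xc00000000000, .kill 46 32 171⟩)
 (.leaf ⟨[39, 45], 0x0, .leaf 4⟩)))
 (.node (.node (.leaf ⟨[26, 33], 0x440000000000, .branch 42 [0, 0, (-1), 1] 107 99⟩)
 (.leaf ⟨[39, 45], 0x0, .leaf 4⟩))
 (.node (.leaf ⟨[27], 0xfffdc0000000, .kill 34 33 235⟩)
 (.leaf ⟨[39, 45], 0x0, .leaf 4⟩)))))
 (.node (.node (.node (.node (.leaf ⟨[26, 28], 0x550080000000, .forced 42 44 [31, 40, 46] 27⟩)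
 (.leaf ⟨[33], 0xffc000000000, .kill 38 31 283⟩))
 (.node (.leaf ⟨[24], 0xfffffe000000, .forced 25 26 [27, 28, 29, 30, 31, 32, 33, 34, 35, 36, 37, 38, 39, 40, 41, 42, 43, 44, 45, 46, 47] 155⟩)
 (.leaf ⟨[39, 45], 0x0, .leaf 4⟩)))
 (.node (.node (.leaf ⟨[25, 30, 40, 44], 0x0, .weyl [3, 2, 1, 0, 2, 3] 91⟩)
 (.leaf ⟨[39, 45], 0x0, .leaf 4⟩))
 (.node (.leaf ⟨[27], 0x800000000000, .branch 47 [0, 0, 0, 1] 219 217⟩)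
 (.leaf ⟨[39, 45], 0x0, .leaf 4⟩))))
 (.node (.node (.node (.leaf ⟨[25, 30, 44, 47], 0x0, .toggle 36 59⟩)
 (.leaf ⟨[], 0xc00000000000, .branch 46 [0, 0, 0, (-1)] 315 313⟩))
 (.node (.leaf ⟨[27, 30], 0x800000000000, .branch 47 [(-2), (-1), 0, 2] 187 186⟩)
 (.leaf ⟨[39, 45], 0x0, .leaf 4⟩)))
 (.node (.node (.leaf ⟨[26, 42], 0x400000000000, .branch 46 [(-1), (-1), (-2), 0] 123 121⟩)
 (.leaf ⟨[39, 45], 0x0, .leaf 4⟩))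
 (.node (.leaf ⟨[30], 0xffff00000000, .kill 32 26 251⟩)
 (.leaf ⟨[39, 45], 0x0, .leaf 4⟩)))))

def invF4T13 : InvTree :=
 .node (.node (.node (.node (.node (.leaf ⟨[38, 46, 47], 0x0, .toggle 24 12⟩)
 (.leaf ⟨[33, 43], 0xe00000000000, .weyl [3, 2, 1, 2, 3, 1, 2, 1, 0, 0, 1, 2, 1, 3, 2, 1] 265⟩))
 (.node (.leaf ⟨[26], 0x554a90000000, .branch 28 [1, 1, 2, 0] 140 31⟩)
 (.leaf ⟨[39, 45], 0x0, .leaf 4⟩)))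
 (.node (.node (.leaf ⟨[26, 31], 0x0, .weyl [0, 1, 3, 2, 1, 0, 2, 1] 76⟩)
 (.leaf ⟨[], 0xffffe0000000, .branch 29 [0, 0, 0, 1] 332 241⟩))
 (.node (.leaf ⟨[27, 42], 0xe00000000000, .weyl [3, 2, 1, 2, 3, 2, 0, 1, 1, 0, 2, 3, 2, 1, 2] 203⟩)
 (.leaf ⟨[39, 45], 0x0, .leaf 4⟩))))
 (.node (.node (.node (.leaf ⟨[30, 40, 44], 0x0, .weyl [3, 2, 1, 0, 2, 3] 44⟩)
 (.leaf ⟨[41], 0x818000000000, .branch 39 [0, 0, 1, 0] 300 294⟩))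
 (.node (.leaf ⟨[37, 44, 47], 0x0, .toggle 36 1⟩)
 (.leaf ⟨[39, 45], 0x0, .leaf 4⟩)))
 (.node (.node (.leaf ⟨[26, 33], 0x540000000000, .kill 44 40 108⟩)
 (.leaf ⟨[39, 45], 0x0, .leaf 4⟩))
 (.node (.leaf ⟨[27], 0xffffc0000000, .forced 33 34 [30, 31, 32, 35, 36, 37, 38, 39, 40, 41, 42, 43, 44, 45, 46, 47] 236⟩)
 (.leaf ⟨[39, 45], 0x0, .leaf 4⟩)))))
 (.node (.node (.node (.node (.leaf ⟨[26, 28], 0x554080000000, .forced 38 40 [31, 42, 44, 46] 28⟩)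
 (.leaf ⟨[33], 0xffe000000000, .kill 37 30 284⟩))
 (.node (.leaf ⟨[25], 0xfffff8000000, .weyl [3] 153⟩)
 (.leaf ⟨[39, 45], 0x0, .leaf 4⟩)))
 (.node (.node (.leaf ⟨[25, 30, 44, 47], 0x0, .toggle 36 92⟩)
 (.leaf ⟨[39, 45], 0x0, .leaf 4⟩))
 (.node (.leaf ⟨[27], 0xc00000000000, .branch 46 [0, 0, 0, (-1)] 220 216⟩)
 (.leaf ⟨[39, 45], 0x0, .leaf 4⟩))))
 (.node (.node (.node (.leaf ⟨[26, 31, 44, 46], 0x0, .weyl [1, 3] 60⟩)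
 (.leaf ⟨[], 0xe00000000000, .branch 45 [0, 0, (-1), 0] 316 312⟩))
 (.node (.leaf ⟨[27, 30], 0xc00000000000, .branch 46 [1, 1, 1, 0] 188 182⟩)
 (.leaf ⟨[39, 45], 0x0, .leaf 4⟩)))
 (.node (.node (.leaf ⟨[26, 42], 0x410000000000, .branch 40 [0, 1, 1, 1] 124 115⟩)
 (.leaf ⟨[39, 45], 0x0, .leaf 4⟩))
 (.node (.leaf ⟨[30], 0xffff80000000, .kill 31 24 252⟩)
 (.leaf ⟨[39, 45], 0x0, .leaf 4⟩)))))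

def invF4T14 : InvTree :=
 .node (.node (.node (.node (.node (.leaf ⟨[28, 46, 47], 0x0, .weyl [1, 0, 3] 13⟩)
 (.leaf ⟨[33, 45], 0x800000000000, .weyl [3, 2, 1, 2, 3, 2, 0, 1, 1, 2, 1, 3, 2] 202⟩))
 (.node (.leaf ⟨[26], 0xd54a90000000, .kill 47 45 141⟩)
 (.leaf ⟨[39, 45], 0x0, .leaf 4⟩)))
 (.node (.node (.leaf ⟨[26, 31], 0x400000000000, .branch 46 [(-1), 0, 1, (-1)] 77 74⟩)
 (.leaf ⟨[], 0xfffff0000000, .branch 28 [0, 0, 0, (-1)] 333 240⟩))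
 (.node (.leaf ⟨[38, 46], 0x0, .weyl [3] 1⟩)
 (.leaf ⟨[39, 45], 0x0, .leaf 4⟩))))
 (.node (.node (.node (.leaf ⟨[30, 44, 47], 0x0, .toggle 36 45⟩)
 (.leaf ⟨[41], 0xc18000000000, .kill 46 32 301⟩))
 (.node (.leaf ⟨[34, 44, 47], 0x0, .weyl [1, 2] 173⟩)
 (.leaf ⟨[39, 45], 0x0, .leaf 4⟩)))
 (.node (.node (.leaf ⟨[26, 33], 0x550000000000, .forced 40 44 [42, 46] 109⟩)
 (.leaf ⟨[39, 45], 0x0, .leaf 4⟩))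
 (.node (.leaf ⟨[27], 0xffffe0000000, .kill 29 26 237⟩)
 (.leaf ⟨[39, 45], 0x0, .leaf 4⟩)))))
 (.node (.node (.node (.node (.leaf ⟨[26, 28], 0x554880000000, .kill 35 33 29⟩)
 (.leaf ⟨[33], 0xfff000000000, .kill 36 29 285⟩))
 (.node (.leaf ⟨[25], 0xfffffc000000, .kill 26 24 157⟩)
 (.leaf ⟨[39, 45], 0x0, .leaf 4⟩)))
 (.node (.node (.leaf ⟨[26, 33, 42, 46], 0x0, .weyl [1, 0, 1, 2, 1, 3, 2, 1, 2] 93⟩)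
 (.leaf ⟨[39, 45], 0x0, .leaf 4⟩))
 (.node (.leaf ⟨[27], 0xe00000000000, .branch 45 [1, 1, 1, 0] 221 215⟩)
 (.leaf ⟨[39, 45], 0x0, .leaf 4⟩))))
 (.node (.node (.node (.leaf ⟨[38, 46], 0x0, .weyl [3] 1⟩)
 (.leaf ⟨[], 0xf00000000000, .branch 44 [1, 0, 0, 0] 317 311⟩))
 (.node (.leaf ⟨[27, 30], 0xc20000000000, .branch 41 [1, 1, 1, 0] 189 172⟩)
 (.leaf ⟨[39, 45], 0x0, .leaf 4⟩)))
 (.node (.node (.leaf ⟨[26, 42], 0x510000000000, .kill 44 28 125⟩)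
 (.leaf ⟨[39, 45], 0x0, .leaf 4⟩))
 (.node (.leaf ⟨[31], 0xffff00000000, .weyl [3, 2, 2] 252⟩)
 (.leaf ⟨[39, 45], 0x0, .leaf 4⟩)))))

def invF4T15 : InvTree :=
 .node (.node (.node (.node (.node (.leaf ⟨[28, 44, 47], 0x0, .toggle 42 14⟩)
 (.leaf ⟨[33, 45], 0xc00000000000, .kill 46 25 270⟩))
 (.node (.leaf ⟨[26], 0xf54a90000000, .forced 45 47 [28, 31, 33, 35, 38, 40, 42, 44, 46] 142⟩)
 (.leaf ⟨[39, 45], 0x0, .leaf 4⟩)))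
 (.node (.node (.leaf ⟨[26, 31], 0x500000000000, .branch 44 [(-1), 0, 1, (-1)] 78 68⟩)
 (.leaf ⟨[], 0xfffff8000000, .branch 27 [0, 0, (-1), 0] 334 239⟩))
 (.node (.leaf ⟨[38, 46, 47], 0x0, .toggle 24 206⟩)
 (.leaf ⟨[39, 45], 0x0, .leaf 4⟩))))
 (.node (.node (.node (.leaf ⟨[40, 41, 47], 0x0, .weyl [0] 46⟩)
 (.leaf ⟨[41], 0xe18000000000, .kill 45 31 302⟩))
 (.node (.leaf ⟨[34, 44, 46, 47], 0x0, .toggle 23 174⟩)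
 (.leaf ⟨[39, 45], 0x0, .leaf 4⟩)))
 (.node (.node (.leaf ⟨[26, 33], 0x554000000000, .kill 38 31 110⟩)
 (.leaf ⟨[39, 45], 0x0, .leaf 4⟩))
 (.node (.leaf ⟨[27], 0xfffff0000000, .kill 28 25 238⟩)
 (.leaf ⟨[39, 45], 0x0, .leaf 4⟩)))))
 (.node (.node (.node (.node (.leaf ⟨[26, 28], 0x554a80000000, .forced 33 35 [31, 38, 40, 42, 44, 46] 30⟩)
 (.leaf ⟨[33], 0xfff800000000, .kill 35 28 286⟩))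
 (.node (.leaf ⟨[37, 44, 47], 0x0, .toggle 36 1⟩)
 (.leaf ⟨[39, 45], 0x0, .leaf 4⟩)))
 (.node (.node (.leaf ⟨[37, 44, 47], 0x0, .toggle 36 1⟩)
 (.leaf ⟨[39, 45], 0x0, .leaf 4⟩))
 (.node (.leaf ⟨[27], 0xe40000000000, .branch 42 [0, 0, 0, 1] 222 205⟩)
 (.leaf ⟨[39, 45], 0x0, .leaf 4⟩))))
 (.node (.node (.node (.leaf ⟨[38, 46, 47], 0x0, .toggle 24 62⟩)
 (.leaf ⟨[], 0xf80000000000, .branch 43 [0, 0, 1, 0] 318 310⟩))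
 (.node (.leaf ⟨[27, 30], 0xc20100000000, .branch 32 [(-1), (-1), (-1), 0] 190 170⟩)
 (.leaf ⟨[39, 45], 0x0, .leaf 4⟩)))
 (.node (.node (.leaf ⟨[26, 40], 0x500000000000, .weyl [1, 2, 0, 1, 2, 3, 2, 0, 1, 1, 3, 2, 1, 0, 2, 1] 109⟩)
 (.leaf ⟨[39, 45], 0x0, .leaf 4⟩))
 (.node (.leaf ⟨[33, 41, 45], 0x800000000000, .weyl [3, 2, 0, 1, 2, 3, 1, 2, 3, 2, 1, 2, 3] 182⟩)
 (.leaf ⟨[39, 45], 0x0, .leaf 4⟩)))))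

def invF4Tree : InvTree :=
 .node (.node (.node (.node (invF4T0)
 (invF4T8))
 (.node (invF4T4)
 (invF4T12)))
 (.node (.node (invF4T2)
 (invF4T10))
 (.node (invF4T6)
 (invF4T14))))
 (.node (.node (.node (invF4T1)
 (invF4T9))
 (.node (invF4T5)
 (invF4T13)))
 (.node (.node (invF4T3)
 (invF4T11))
 (.node (invF4T7)
 (invF4T15))))

def invF4Tg : List (List ℕ) := [[], [47], [44], [47, 44], [39, 45]]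

def invF4W : List (List ℕ × List ℕ × List ℕ) := []

end CfsgLib.Chev
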