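import Cfsg.Agent.Lib.Chev.Invol
import Cfsg.Agent.Lib.Chev.InvolDataF4

/-! The certificate for type F4 checks (generated). -/

set_option autoImplicit false
set_option maxRecDepth 100000

namespace CfsgLib.Chev

theorem invF4_all0 : allBelow 50 (fun j =>
    tabF4.chkInvState invF4Tg invF4W invF4Tree.get (0 + j)) = true := by
  decide +kernel

theorem invF4_all50 : allBelow 50 (fun j =>
    tabF4.chkInvState invF4Tg invF4W invF4Tree.get (50 + j)) = true := by
  decide +kernel

theorem invF4_all100 : allBelow 50 (fun j =>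
    tabF4.chkInvState invF4Tg invF4W invF4Tree.get (100 + j)) = true := by
  decide +kernel

theorem invF4_all150 : allBelow 50 (fun j =>
    tabF4.chkInvState invF4Tg invF4W invF4Tree.get (150 + j)) = true := by
  decide +kernel

theorem invF4_all200 : allBelow 50 (fun j =>
    tabF4.chkInvState invF4Tg invF4W invF4Tree.get (200 + j)) = true := by
  decide +kernel

theorem invF4_all250 : allBelow 50 (fun j =>
    tabF4.chkInvState invF4Tg invF4W invF4Tree.get (250 + j)) = true := by
  decide +kernel

theorem invF4_all300 : allBelow 39 (fun j =>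
    tabF4.chkInvState invF4Tg invF4W invF4Tree.get (300 + j)) = true := by
  decide +kernel

theorem invF4_rel : tabF4.chkRel invF4W = true := by
  decide +kernel

/-- Every state checks. -/
theorem invF4_chk : ∀ j < 339, tabF4.chkInvState invF4Tg invF4W invF4Tree.get j = true := by
  intro j hj
  rcases Nat.lt_or_ge j 50 with h | h
  · obtain ⟨d, rfl⟩ : ∃ d, j = 0 + d := ⟨j - 0, by omega⟩
    exact allBelow_eq_true invF4_all0 d (by omega)
  rcases Nat.lt_or_ge j 100 with h | h
  · obtain ⟨d, rfl⟩ : ∃ d, j = 50 + d := ⟨j - 50, by omega⟩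
    exact allBelow_eq_true invF4_all50 d (by omega)
  rcases Nat.lt_or_ge j 150 with h | h
  · obtain ⟨d, rfl⟩ : ∃ d, j = 100 + d := ⟨j - 100, by omega⟩
    exact allBelow_eq_true invF4_all100 d (by omega)
  rcases Nat.lt_or_ge j 200 with h | h
  · obtain ⟨d, rfl⟩ : ∃ d, j = 150 + d := ⟨j - 150, by omega⟩
    exact allBelow_eq_true invF4_all150 d (by omega)
  rcases Nat.lt_or_ge j 250 with h | h
  · obtain ⟨d, rfl⟩ : ∃ d, j = 200 + d := ⟨j - 200, by omega⟩
    exact allBelow_eq_true invF4_all200 d (by omega)
  rcases Nat.lt_or_ge j 300 with h | h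
  · obtain ⟨d, rfl⟩ : ∃ d, j = 250 + d := ⟨j - 250, by omega⟩
    exact allBelow_eq_true invF4_all250 d (by omega)
  obtain ⟨d, rfl⟩ : ∃ d, j = 300 + d := ⟨j - 300, by omega⟩
  exact allBelow_eq_true invF4_all300 d (by omega)

/-- The root state. -/
theorem invF4_root : tabF4.chkRoot (invF4Tree.get 338) = true := by
  decide +kernel

end CfsgLib.Chev
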