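import Cfsg.Agent.Lib.Chev.InvolCert

/-! The certificate for the involution classes of type G2 in characteristic 2 (generated). -/

set_option autoImplicit false
set_option maxRecDepth 100000

namespace CfsgLib.Chev

def invG2T0 : InvTree :=
 .node (.node (.node (.node (.node (.leaf ⟨[9], 0x0, .leaf 2⟩)
 (.leaf ⟨[], 0xe00, .branch 9 [1, 0] 31 27⟩))
 (.node (.leaf ⟨[11], 0x0, .leaf 1⟩)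
 (.leaf ⟨[9], 0x0, .leaf 2⟩)))
 (.node (.node (.leaf ⟨[7], 0xe00, .forced 9 10 [11] 7⟩)
 (.leaf ⟨[9], 0x0, .leaf 2⟩))
 (.node (.leaf ⟨[8], 0xc00, .kill 10 7 23⟩)
 (.leaf ⟨[9], 0x0, .leaf 2⟩))))
 (.node (.node (.node (.leaf ⟨[7, 11], 0x0, .toggle 5 3⟩)
 (.leaf ⟨[9], 0x0, .leaf 2⟩))
 (.node (.leaf ⟨[6], 0xe00, .forced 10 11 [9] 19⟩)
 (.leaf ⟨[9], 0x0, .leaf 2⟩)))
 (.node (.node (.leaf ⟨[8, 10, 11], 0x0, .toggle 7 11⟩)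
 (.leaf ⟨[9], 0x0, .leaf 2⟩))
 (.node (.leaf ⟨[10], 0x800, .weyl [0, 1, 1] 19⟩)
 (.leaf ⟨[9], 0x0, .leaf 2⟩)))))
 (.node (.node (.node (.node (.leaf ⟨[8, 10, 11], 0x0, .toggle 7 1⟩)
 (.leaf ⟨[], 0xf40, .branch 6 [1, 2] 33 21⟩))
 (.node (.leaf ⟨[6], 0x200, .branch 9 [2, 3] 17 15⟩)
 (.leaf ⟨[9], 0x0, .leaf 2⟩)))
 (.node (.node (.leaf ⟨[7], 0xf40, .forced 6 8 [9, 10, 11] 9⟩)
 (.leaf ⟨[9], 0x0, .leaf 2⟩))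
 (.node (.leaf ⟨[9], 0x800, .weyl [0] 23⟩)
 (.leaf ⟨[9], 0x0, .leaf 2⟩))))
 (.node (.node (.node (.leaf ⟨[7], 0x800, .branch 11 [(-1), (-2)] 5 4⟩)
 (.leaf ⟨[9], 0x0, .leaf 2⟩))
 (.node (.leaf ⟨[8], 0x0, .weyl [0] 0⟩)
 (.leaf ⟨[9], 0x0, .leaf 2⟩)))
 (.node (.node (.leaf ⟨[7, 11], 0x0, .toggle 5 13⟩)
 (.leaf ⟨[9], 0x0, .leaf 2⟩))
 (.node (.leaf ⟨[], 0x800, .branch 11 [0, 1] 29 16⟩)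
 (.leaf ⟨[9], 0x0, .leaf 2⟩)))))

def invG2T1 : InvTree :=
 .node (.node (.node (.node (.node (.leaf ⟨[8], 0x0, .weyl [0] 0⟩)
 (.leaf ⟨[], 0xf00, .branch 8 [0, 1] 32 25⟩))
 (.node (.leaf ⟨[6], 0x0, .weyl [1, 0] 16⟩)
 (.leaf ⟨[9], 0x0, .leaf 2⟩)))
 (.node (.node (.leaf ⟨[7], 0xf00, .kill 8 6 8⟩)
 (.leaf ⟨[9], 0x0, .leaf 2⟩))
 (.node (.leaf ⟨[8], 0xe00, .forced 9 11 [10] 24⟩)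
 (.leaf ⟨[9], 0x0, .leaf 2⟩))))
 (.node (.node (.node (.leaf ⟨[7], 0x0, .weyl [0, 1] 0⟩)
 (.leaf ⟨[9], 0x0, .leaf 2⟩))
 (.node (.leaf ⟨[6], 0xf00, .kill 8 7 20⟩)
 (.leaf ⟨[9], 0x0, .leaf 2⟩)))
 (.node (.node (.leaf ⟨[7, 10, 11], 0x0, .weyl [1] 12⟩)
 (.leaf ⟨[9], 0x0, .leaf 2⟩))
 (.node (.leaf ⟨[], 0x0, .leaf 0⟩)
 (.leaf ⟨[9], 0x0, .leaf 2⟩)))))
 (.node (.node (.node (.node (.leaf ⟨[7, 10, 11], 0x0, .weyl [1] 2⟩)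
 (.leaf ⟨[], 0xfc0, .branch 7 [0, (-1)] 34 10⟩))
 (.node (.leaf ⟨[6], 0xa00, .kill 11 10 18⟩)
 (.leaf ⟨[9], 0x0, .leaf 2⟩)))
 (.node (.node (.leaf ⟨[8], 0x0, .weyl [0] 0⟩)
 (.leaf ⟨[9], 0x0, .leaf 2⟩))
 (.node (.leaf ⟨[9], 0xc00, .kill 10 7 26⟩)
 (.leaf ⟨[9], 0x0, .leaf 2⟩))))
 (.node (.node (.node (.leaf ⟨[7], 0xc00, .kill 10 8 6⟩)
 (.leaf ⟨[9], 0x0, .leaf 2⟩))
 (.node (.leaf ⟨[8], 0x800, .kill 11 9 22⟩)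
 (.leaf ⟨[9], 0x0, .leaf 2⟩)))
 (.node (.node (.leaf ⟨[6, 9], 0x0, .weyl [1, 0] 14⟩)
 (.leaf ⟨[9], 0x0, .leaf 2⟩))
 (.node (.leaf ⟨[], 0xc00, .branch 10 [0, (-1)] 30 28⟩)
 (.leaf ⟨[9], 0x0, .leaf 2⟩)))))

def invG2Tree : InvTree :=
 .node (invG2T0)
 (invG2T1)

def invG2Tg : List (List ℕ) := [[], [11], [9]]

def invG2W : List (List ℕ × List ℕ × List ℕ) := []

end CfsgLib.Chev
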