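import Cfsg.Agent.Lib.Chev.Invol
import Cfsg.Agent.Lib.Chev.InvolDataG2

/-! The certificate for type G2 checks (generated). -/

set_option autoImplicit false
set_option maxRecDepth 100000

namespace CfsgLib.Chev

theorem invG2_all0 : allBelow 36 (fun j =>
    tabG2.chkInvState invG2Tg invG2W invG2Tree.get (0 + j)) = true := by
  decide +kernel

theorem invG2_rel : tabG2.chkRel invG2W = true := by
  decide +kernel

/-- Every state checks. -/
theorem invG2_chk : ∀ j < 36, tabG2.chkInvState invG2Tg invG2W invG2Tree.get j = true := by
  intro j hj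
  obtain ⟨d, rfl⟩ : ∃ d, j = 0 + d := ⟨j - 0, by omega⟩
  exact allBelow_eq_true invG2_all0 d (by omega)

/-- The root state. -/
theorem invG2_root : tabG2.chkRoot (invG2Tree.get 35) = true := by
  decide +kernel

end CfsgLib.Chev
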