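import Cfsg.Agent.Lib.Chev.InvolTwist
import Cfsg.Agent.Lib.Chev.TwistF4

/-!
Certificates that sort the involutions of `²F₄(q)`.

A fixed element of an orbit `{r, ρ r}`, `ρ` of degree 2 at `r` and 1 at `s = ρ r`, is
`x_r(t^θ) x_s(t)`, followed by `x_c(t^{θ+1})` when the two root groups do not commute. A state
`(N, S)` stands for the fixed involutions `∏_{n ∈ N} x_n(1) · y`, `y` in the group of the mask `S`.
-/

set_option autoImplicit false
set_option maxRecDepth 100000
set_option linter.unusedSectionVars false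

namespace CfsgLib.Chev

open Cfsg.Lie Matrix

/-- A move of a certificate for `²F₄`; `c`, `c₀`, `c₁` are earlier states. -/
inductive F4Move where
  | leaf (k : ℕ)
  | kill (V L O : List ℕ) (c : ℕ)
  | forced (V L : List ℕ) (w : ℕ) (LQ : List ℕ) (c : ℕ)
  | branch (V L : List ℕ) (ps qs : List ℤ) (c₀ c₁ : ℕ)
  | absurd (w : ℕ) (L LQ L2 : List ℕ)
  | word (g : List ℕ) (c : ℕ)

/-- A state with its move. -/
structure F4State where
  N : List ℕ
  S : ℕ
  mv : F4Move

namespace InvF4

/-- The exponents `(p, q)` of `t^p (f t)^q` along the list of an orbit. -/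
def elExp (i : ℕ) : ℕ × ℕ := ([(0, 1), (1, 0), (1, 1)] : List (ℕ × ℕ)).getD i (0, 0)

/-- A list is the list of a fixed element. -/
noncomputable def chkEl : List ℕ → Bool
  | [r, s] =>
      decide (r < tabF4.n ∧ twistF4.rt r = s ∧ twistF4.ep r = 1 ∧ twistF4.dg r = 2) &&
      decide (s < tabF4.n ∧ twistF4.rt s = r ∧ twistF4.ep s = 1 ∧ twistF4.dg s = 1) &&
      chkCommute tabF4 r s
  | [r, s, c] =>
      decide (r < tabF4.n ∧ twistF4.rt r = s ∧ twistF4.ep r = 1 ∧ twistF4.dg r = 2) &&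
      decide (s < tabF4.n ∧ twistF4.rt s = r ∧ twistF4.ep s = 1 ∧ twistF4.dg s = 1) &&
      decide (c < tabF4.n ∧ twistF4.ep c = 1 ∧ twistF4.dg c = 2) &&
      decide (twistF4.rt c < tabF4.n ∧ twistF4.rt (twistF4.rt c) = c ∧
        twistF4.ep (twistF4.rt c) = 1 ∧ twistF4.dg (twistF4.rt c) = 1) &&
      decide (s ≠ r) && !(Nat.beq s (tabF4.neg r)) &&
      decide ((tabF4.commTerms r s).map (fun q => (q.1, q.2.1.natAbs, q.2.2)) =
        [(c, 1, 1, 1), (twistF4.rt c, 1, 2, 1)]) &&
      chkCommute tabF4 c (twistF4.rt c)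
  | _ => false

/-- The mask `S` splits as the orbit of `V` over the closed list `L`. -/
noncomputable def chkSplit (S : ℕ) (V L : List ℕ) : Bool :=
  chkEl V && tabF4.posClosed L (Nat.xor S (xmask [V.getD 0 0, V.getD 1 0])) &&
    ([V.getD 0 0, V.getD 1 0].all fun v => Nat.ble tabF4.half v && bmem S v &&
      tabF4.normal v (Nat.xor S (xmask [V.getD 0 0, V.getD 1 0])) &&
      L.all fun r => tabF4.modC r v (Nat.xor S (xmask [V.getD 0 0, V.getD 1 0]))) &&
    tabF4.modC (V.getD 0 0) (V.getD 1 0) (Nat.xor S (xmask [V.getD 0 0, V.getD 1 0])) &&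
    tabF4.modC (V.getD 1 0) (V.getD 0 0) (Nat.xor S (xmask [V.getD 0 0, V.getD 1 0])) &&
    (V.drop 2).all (fun c => bmem (Nat.xor S (xmask [V.getD 0 0, V.getD 1 0])) c) &&
    L.all fun r => bmem (Nat.xor S (xmask [V.getD 0 0, V.getD 1 0])) (twistF4.rt r)

/-- An exponent pair whose monomial is bijective. -/
def bij (P Q : ℤ) : Bool := (List.range 9).any fun k => decide ((2 * P * P - Q * Q).natAbs = 2 ^ k)

/-- The monomials at `v` after conjugating by the fixed element of `O`. -/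
noncomputable def killMons (N O : List ℕ) (v : ℕ) : List (ℕ × ℕ) :=
  (List.range O.length).flatMap fun i =>
    (tabF4.killHits N v (O.getD i 0)).map fun j => (j * (elExp i).1, j * (elExp i).2)

/-- The monomials at `w` in the square. -/
noncomputable def forcedMons (N : List ℕ) (r s w : ℕ) : List (ℕ × ℕ) :=
  (((tabF4.oddTerms r s).filter fun q => Nat.beq q.1 w).map fun q => (q.2.2.2, q.2.2.1)) ++
    ((tabF4.forcedHits N r w).map fun j => (0, j)) ++
    ((tabF4.forcedHits N s w).map fun j => (j, 0))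

/-- A later state. -/
noncomputable def child (st : ℕ → F4State) (i c : ℕ) (N' : List ℕ) (S' : ℕ) : Bool :=
  Nat.blt c i && decide ((st c).N = N') && Nat.beq (Nat.land S' (st c).S) S'

/-- One move. -/
noncomputable def chkMove (tg : List (List ℕ)) (st : ℕ → F4State) (i : ℕ) (N : List ℕ) (S : ℕ) :
    F4Move → Bool
  | .leaf k =>
      Nat.beq S 0 && Nat.blt k tg.length &&
        ((tg.getD k []).all fun a => Nat.blt a tabF4.n) && tabF4.eq2 N (tg.getD k [])
  | .kill V L O c =>
      chkSplit S V L && chkEl O &&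
        tabF4.normal (V.getD 1 0) (Nat.xor S (2 ^ V.getD 1 0)) &&
        (N.all fun a => tabF4.modC a (V.getD 1 0) (Nat.xor S (2 ^ V.getD 1 0)) &&
          tabF4.normal a (Nat.xor S (2 ^ V.getD 1 0))) &&
        (O.all fun s => tabF4.normal s (Nat.xor S (2 ^ V.getD 1 0)) &&
          tabF4.modC s (V.getD 1 0) (Nat.xor S (2 ^ V.getD 1 0)) &&
          N.all fun a => tabF4.modC s a S) &&
        (match killMons N O (V.getD 1 0) with | [(p, q)] => bij p q | _ => false) &&
        child st i c N (Nat.xor S (xmask [V.getD 0 0, V.getD 1 0]))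
  | .forced V L w LQ c =>
      chkSplit S V L && tabF4.eq2 (N ++ N) [] &&
        Nat.ble tabF4.half w && Nat.blt w tabF4.n && !(bmem (xmask LQ) w) &&
        tabF4.posClosed LQ (xmask LQ) && tabF4.normal w (xmask LQ) &&
        (N.all fun a => tabF4.modC a w (xmask LQ) && tabF4.normal a (xmask LQ)) &&
        ([V.getD 0 0, V.getD 1 0].all fun v =>
          tabF4.modC v w (xmask LQ) && tabF4.normal v (xmask LQ) &&
            N.all fun a => tabF4.modC a v (Nat.xor (xmask LQ) (2 ^ w))) &&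
        tabF4.oddIn (V.getD 0 0) (V.getD 1 0) (Nat.xor (xmask LQ) (2 ^ w)) &&
        (L.all fun r => bmem (Nat.xor (xmask LQ) (2 ^ w)) r) &&
        (match forcedMons N (V.getD 0 0) (V.getD 1 0) w with
          | [(p, q)] => Nat.blt 0 (p + q) | _ => false) &&
        child st i c N (Nat.xor S (xmask [V.getD 0 0, V.getD 1 0]))
  | .branch V L ps qs c₀ c₁ =>
      chkSplit S V L &&
        ((List.range tabF4.l).all fun j =>
          decide (2 * ps.getD (piTwF4 j) 0 = twistF4.dg (tabF4.simple j) * qs.getD j 0 ∧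
            qs.getD (piTwF4 j) 0 = twistF4.dg (tabF4.simple j) * ps.getD j 0)) &&
        (N.all fun a => decide (tabF4.mval ps a = 0) && decide (tabF4.mval qs a = 0)) &&
        bij (tabF4.mval ps (V.getD 1 0)) (tabF4.mval qs (V.getD 1 0)) &&
        child st i c₀ N (Nat.xor S (xmask [V.getD 0 0, V.getD 1 0])) &&
        child st i c₁ (N ++ V) (Nat.xor S (xmask [V.getD 0 0, V.getD 1 0]))
  | .absurd w L LQ L2 =>
      Nat.beq (xmask L) S && (L.all fun r => bmem (Nat.xor (xmask LQ) (2 ^ w)) r) &&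
        Nat.ble tabF4.half w && Nat.blt w tabF4.n && !(bmem (xmask LQ) w) &&
        tabF4.posClosed LQ (xmask LQ) && tabF4.normal w (xmask LQ) &&
        (N.all fun a => tabF4.modC a w (xmask LQ) && tabF4.normal a (xmask LQ)) &&
        decide (L2.filter (fun a => Nat.beq a w) = [w]) &&
        (L2.all fun a => Nat.beq a w || (Nat.blt a tabF4.n && bmem (xmask LQ) a)) &&
        tabF4.eq2 (N ++ N) L2
  | .word g c =>
      Nat.beq S 0 && (g.all fun s => Nat.blt s tabF4.n && Nat.blt (twistF4.rt s) tabF4.n) &&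
        tabF4.eq2 (g.map twistF4.rt) g && tabF4.eq2 (g ++ (N ++ g.reverse)) (st c).N &&
        Nat.blt c i

/-- A state of a certificate is sound. -/
noncomputable def chkState (tg : List (List ℕ)) (st : ℕ → F4State) (i : ℕ) : Bool :=
  ((st i).N.all fun a => Nat.blt a tabF4.n && Nat.blt (twistF4.rt a) tabF4.n) &&
    tabF4.eq2 ((st i).N.map twistF4.rt) (st i).N &&
    chkMove tg st i (st i).N (st i).S (st i).mv

/-- What a checked splitting gives. -/
structure SplitOK (S R r s : ℕ) : Prop where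
  ne : r ≠ s
  lt : r < tabF4.n ∧ s < tabF4.n
  act : twistF4.rt r = s ∧ twistF4.rt s = r
  deg : twistF4.dg r = 2 ∧ twistF4.dg s = 1
  pos : r ∈ posSet tabF4 ∧ s ∈ posSet tabF4
  mem : S.testBit r = true ∧ S.testBit s = true
  bits : ∀ x, R.testBit x = (S.testBit x && !decide (x = r) && !decide (x = s))
  rpos : ∀ x ∈ maskSet tabF4 R, x ∈ posSet tabF4
  left : tabF4.normal r R = true ∧ tabF4.normal s R = true
  right : ∀ x ∈ maskSet tabF4 R, tabF4.modC x r R = true ∧ tabF4.modC x s R = true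
  cross : tabF4.modC r s R = true ∧ tabF4.modC s r R = true
  closed : ∀ x ∈ maskSet tabF4 R, ∀ y ∈ maskSet tabF4 R, x < y → tabF4.modC x y R = true
  stable : ∀ x ∈ maskSet tabF4 R, twistF4.rt x ∈ maskSet tabF4 R

lemma chkEl_spec {V : List ℕ} (e : chkEl V = true) :
    V.getD 0 0 < tabF4.n ∧ V.getD 1 0 < tabF4.n ∧ V.getD 0 0 ≠ V.getD 1 0 ∧
      twistF4.rt (V.getD 0 0) = V.getD 1 0 ∧ twistF4.rt (V.getD 1 0) = V.getD 0 0 ∧
      twistF4.dg (V.getD 0 0) = 2 ∧ twistF4.dg (V.getD 1 0) = 1 ∧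
      (∀ i < V.length, V.getD i 0 < tabF4.n) := by
  unfold chkEl at e
  split at e
  · next r s =>
    simp only [Bool.and_eq_true, decide_eq_true_eq] at e
    obtain ⟨⟨⟨h1, h2, -, h3⟩, h4, h5, -, h6⟩, -⟩ := e
    refine ⟨h1, h4, ?_, h2, h5, h3, h6, fun i hi => ?_⟩
    · show r ≠ s
      intro e'
      rw [e', h6] at h3
      exact absurd h3 (by norm_num)
    · simp only [List.length_cons, List.length_nil] at hi
      interval_cases i <;> assumption
  · next r s c =>
    simp only [Bool.and_eq_true, decide_eq_true_eq] at e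
    obtain ⟨⟨⟨⟨⟨⟨⟨⟨h1, h2, -, h3⟩, h4, h5, -, h6⟩, h7, -, -⟩, -⟩, hne⟩, -⟩, -⟩, -⟩ := e
    refine ⟨h1, h4, Ne.symm hne, h2, h5, h3, h6, fun i hi => ?_⟩
    simp only [List.length_cons, List.length_nil] at hi
    interval_cases i <;> assumption
  · cases e

lemma chkSplit_spec {S : ℕ} {V L : List ℕ} (e : chkSplit S V L = true) :
    SplitOK S (Nat.xor S (xmask [V.getD 0 0, V.getD 1 0])) (V.getD 0 0) (V.getD 1 0) ∧
      (∀ x ∈ maskSet tabF4 (Nat.xor S (xmask [V.getD 0 0, V.getD 1 0])), x ∈ L) ∧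
      ∀ c ∈ V.drop 2, c ∈ maskSet tabF4 (Nat.xor S (xmask [V.getD 0 0, V.getD 1 0])) := by
  simp only [chkSplit, Bool.and_eq_true, List.all_eq_true, List.mem_cons, List.not_mem_nil,
    or_false, forall_eq_or_imp, forall_eq] at e
  obtain ⟨⟨⟨⟨⟨⟨hel, hcl⟩, hr, hs⟩, hx1⟩, hx2⟩, htail⟩, hst⟩ := e
  obtain ⟨⟨⟨hr0, hr1⟩, hr2⟩, hr3⟩ := hr
  obtain ⟨⟨⟨hs0, hs1⟩, hs2⟩, hs3⟩ := hs
  rw [bmem_eq] at hr1 hs1
  obtain ⟨hrn, hsn, hne, hrs, hsr, hd1, hd2, hlt⟩ := chkEl_spec hel
  generalize V.getD 0 0 = r, V.getD 1 0 = s at *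
  set R := Nat.xor S (xmask [r, s]) with hR
  obtain ⟨hmem, hpos, hclosed⟩ := posClosed_spec hcl
  have hxm : xmask L = R := by
    simp only [Tab.posClosed, Bool.and_eq_true] at hcl
    exact Nat.eq_of_beq_eq_true hcl.1
  have hLlt : ∀ x, R.testBit x = true → x < tabF4.n := fun x hx => by
    have h2 := mem_of_testBit_xmask (L := L) (x := x) (by rw [hxm]; exact hx)
    simp only [Tab.posClosed, Bool.and_eq_true, List.all_eq_true] at hcl
    exact Nat.le_of_ble_eq_true (hcl.2 _ h2).1.2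
  refine ⟨⟨hne, ⟨hrn, hsn⟩, ⟨hrs, hsr⟩, ⟨hd1, hd2⟩,
    ⟨⟨Nat.le_of_ble_eq_true hr0, hrn⟩, ⟨Nat.le_of_ble_eq_true hs0, hsn⟩⟩, ⟨hr1, hs1⟩, fun x => ?_,
    hpos, ⟨hr2, hs2⟩, fun x hx => ⟨hr3 x (hmem x hx), hs3 x (hmem x hx)⟩, ⟨hx1, hx2⟩, hclosed,
    fun x hx => ?_⟩, hmem, fun c hc => ?_⟩
  · rw [hR, show Nat.xor S (xmask [r, s]) = S ^^^ xmask [r, s] from rfl, Nat.testBit_xor,
      testBit_xmask (List.nodup_cons.2 ⟨by simp [hne], List.nodup_singleton _⟩)]
    by_cases h1 : x = r
    · subst h1; simp [hr1]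
    · by_cases h2 : x = s
      · subst h2; simp [hs1]
      · simp [h1, h2]
  · have h1 := hst x (hmem x hx)
    rw [bmem_eq] at h1
    exact ⟨hLlt _ h1, h1⟩
  · have h1 := htail c hc
    rw [bmem_eq] at h1
    exact ⟨hLlt _ h1, h1⟩

lemma child_spec {st : ℕ → F4State} {i c : ℕ} {N' : List ℕ} {S' : ℕ}
    (e : child st i c N' S' = true) :
    c < i ∧ (st c).N = N' ∧ maskSet tabF4 S' ⊆ maskSet tabF4 (st c).S := by
  simp only [child, Bool.and_eq_true, decide_eq_true_eq] at e
  obtain ⟨⟨e1, e2⟩, e3⟩ := e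
  refine ⟨Nat.le_of_ble_eq_true e1, e2, fun r hr => ⟨hr.1, ?_⟩⟩
  have h1 : (S' &&& (st c).S).testBit r = true := by
    rw [show S' &&& (st c).S = S' from Nat.eq_of_beq_eq_true e3]; exact hr.2
  rw [Nat.testBit_and, hr.2, Bool.true_and] at h1
  exact h1

section Sem

variable {K : Type*} [Field K] [Fintype K] [CharP K 2] {e : ℕ} (f : K →+* K)

/-- A monomial. -/
def mon (x : ℕ × ℕ) (t : K) : K := t ^ x.1 * f t ^ x.2

/-- The fixed element of a list at a parameter. -/
noncomputable def elem (V : List ℕ) (t : K) : GL chevF4.Idx K :=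
  ((List.range V.length).map fun i => X chevF4 (V.getD i 0) (mon f (elExp i) t)).prod

lemma elem_split (V : List ℕ) (hV : 2 ≤ V.length) (t : K) :
    elem f V t = X chevF4 (V.getD 0 0) (f t) * X chevF4 (V.getD 1 0) t *
      ((List.range (V.length - 2)).map fun i =>
        X chevF4 (V.getD (i + 2) 0) (mon f (elExp (i + 2)) t)).prod := by
  obtain ⟨k, hk⟩ : ∃ k, V.length = k + 2 := ⟨V.length - 2, by omega⟩
  rw [elem, hk, Nat.add_sub_cancel, List.range_succ_eq_map, List.map_cons, List.prod_cons,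
    List.range_succ_eq_map, List.map_cons, List.map_map, List.map_cons, List.prod_cons, List.map_map]
  simp [mon, elExp, mul_assoc, Function.comp_def]

variable (hf : ∀ t, f t = t ^ e) (hK : Fintype.card K = 2 * e ^ 2)
include hf hK

omit hK in
lemma τ_eq {r : ℕ} (hr : r < tabF4.n) (t : K) : (endoF4 f).τ r t = f t ^ twistF4.dg r := by
  have h1 := signTwF4
  simp only [List.all_eq_true, List.mem_range, decide_eq_true_eq] at h1
  show (twistF4.ep r : K) * f t ^ twistF4.dg r = _
  rw [(h1 r hr).2, Int.cast_one, one_mul]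

lemma ff_sq (t : K) : f (f t) ^ 2 = t := by
  rw [hf, hf]; exact pow_fullF4 hK t

lemma elem_mem_fix {V : List ℕ} (hV : chkEl V = true) (t : K) :
    elem f V t ∈ (endoF4 f).fix := by
  have he : 0 < 2 * e := by
    rcases Nat.eq_zero_or_pos e with rfl | he
    · exact absurd (hK.trans (by simp)) Fintype.card_ne_zero
    · omega
  unfold chkEl at hV
  split at hV
  · next r s =>
    simp only [Bool.and_eq_true, decide_eq_true_eq] at hV
    obtain ⟨⟨hr, hs⟩, hc⟩ := hV
    have := pair_mem_fixF4 f hf hK hr hs hc t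
    rw [elem_split f _ le_rfl]
    simpa [hf] using this
  · next r s c =>
    simp only [Bool.and_eq_true, decide_eq_true_eq, Bool.not_eq_true'] at hV
    obtain ⟨⟨⟨⟨⟨⟨⟨hr, hs⟩, hc⟩, hd⟩, hne⟩, hneg⟩, hterm⟩, hcd⟩ := hV
    obtain ⟨k1, k2, h1, h2, e1⟩ : ∃ k1 k2 : ℤ, k1.natAbs = 1 ∧ k2.natAbs = 1 ∧
        tabF4.commTerms r s = [(c, k1, 1, 1), (twistF4.rt c, k2, 2, 1)] := by
      revert hterm
      generalize tabF4.commTerms r s = L
      intro hterm
      rcases L with _ | ⟨⟨a, k, i⟩, _ | ⟨⟨a', k', i'⟩, _ | ⟨q, L⟩⟩⟩ <;>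
        simp only [List.map_cons, List.map_nil, List.cons.injEq, Prod.mk.injEq, and_true,
          reduceCtorEq, and_false] at hterm
      obtain ⟨⟨rfl, hk, rfl⟩, rfl, hk', rfl⟩ := hterm
      exact ⟨k, k', hk, hk', rfl⟩
    have hneg' : s ≠ tabF4.neg r := fun e' => by rw [e'] at hneg; simp at hneg
    have hsq : ∀ k : ℤ, k.natAbs = 1 → k * k = 1 := fun k hk => by
      rcases Int.natAbs_eq k with e' | e' <;> rw [e', hk] <;> simp
    have := class_mem_fixF4 f hf hK hr hs ⟨hc.1, rfl, hc.2.1, hc.2.2⟩ hd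
      ⟨hne, hneg', e1, hsq _ h1, hsq _ h2, hcd⟩ t 0
    rw [zero_pow he.ne', certF4.X_zero hd.1, mul_one, add_zero] at this
    rw [elem_split f _ (by simp)]
    simpa [hf, mon, elExp, pow_succ, mul_comm] using this
  · cases hV

omit hK in
lemma oneProd_fix {N : List ℕ}
    (hlt : ∀ a ∈ N, a < tabF4.n ∧ twistF4.rt a < tabF4.n)
    (e2 : tabF4.eq2 (N.map twistF4.rt) N = true) : oneProd chevF4 K N ∈ (endoF4 f).fix := by
  have h1 := certF4.oneProd_eq_of_eq2 (F := K) (fun a ha => by
    obtain ⟨x, hx, rfl⟩ := List.mem_map.1 ha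
    exact (hlt x hx).2) (fun a ha => (hlt a ha).1) e2
  refine (endoF4 f).mem_fix.2 ⟨certF4.oneProd_mem_group fun a ha => (hlt a ha).1, ?_⟩
  conv_rhs => rw [← h1]
  have ha := (endoF4 f).act_prod (N.map fun a => (a, (1 : K))) (by
    intro p hp
    obtain ⟨a, ha, rfl⟩ := List.mem_map.1 hp
    exact (hlt a ha).1)
  simp only [List.map_map, Function.comp_def] at ha
  show (endoF4 f).act (N.map fun a => X chevF4 a (1 : K)).prod = _
  rw [ha, oneProd, List.map_map]
  refine congrArg List.prod (List.map_congr_left fun a ha' => ?_)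
  rw [τ_eq f hf (hlt a ha').1, map_one, one_pow]
  rfl

variable {S R r s : ℕ}

omit hf hK in
lemma bits_sub (hs : SplitOK S R r s) {v : ℕ} (hv : v = r ∨ v = s) {x : ℕ}
    (hb : R.testBit x = true) : (Nat.xor S (2 ^ v)).testBit x = true := by
  rw [hs.bits] at hb
  simp only [Bool.and_eq_true, Bool.not_eq_true', decide_eq_false_iff_not] at hb
  rw [show Nat.xor S (2 ^ v) = S ^^^ 2 ^ v from rfl, Nat.testBit_xor, hb.1.1, Nat.testBit_two_pow,
    decide_eq_false fun e' : v = x => by rcases hv with rfl | rfl <;> simp [e'] at hb]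
  rfl

omit hf hK in
lemma mask_cases (hs : SplitOK S R r s) {x : ℕ} (hx : x < tabF4.n) (hb : S.testBit x = true) :
    x = r ∨ x = s ∨ x ∈ maskSet tabF4 R := by
  by_cases h1 : x = r
  · exact Or.inl h1
  by_cases h2 : x = s
  · exact Or.inr (Or.inl h2)
  exact Or.inr (Or.inr ⟨hx, by rw [hs.bits]; simp [hb, h1, h2]⟩)

omit hf hK in
lemma gen_R_le (hs : SplitOK S R r s) {v : ℕ} (hv : v = r ∨ v = s) :
    gen chevF4 K (maskSet tabF4 R) ≤ gen chevF4 K (maskSet tabF4 (Nat.xor S (2 ^ v))) :=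
  gen_mono chevF4 fun _ hx => ⟨hx.1, bits_sub hs hv hx.2⟩

omit hf hK in
lemma orb_normal (hs : SplitOK S R r s) {v w : ℕ} (hv : v = r ∨ v = s) (hw : w = r ∨ w = s)
    (t : K) : X chevF4 w t ∈ Subgroup.normalizer
      (gen chevF4 K (maskSet tabF4 (Nat.xor S (2 ^ v))) : Set (GL chevF4.Idx K)) := by
  have hvS : S.testBit v = true := by rcases hv with rfl | rfl <;> simp [hs.mem]
  have hwn : w < tabF4.n := by rcases hw with rfl | rfl <;> simp [hs.lt]
  refine le_normalizer_closure (H := gen chevF4 K {w}) ?_ (X_mem_gen chevF4 (Set.mem_singleton w) t)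
  rintro g hg x ⟨z, hz, u, rfl⟩
  obtain ⟨b, rfl⟩ := (certF4.gen_singleton hwn).1 hg
  have hzS := hz
  rw [maskSet_xor hvS] at hzS
  have key : tabF4.modC w z R = true := by
    have hnorm : tabF4.normal w R = true := by rcases hw with rfl | rfl <;> simp [hs.left]
    rcases mask_cases hs hzS.1.1 hzS.1.2 with rfl | rfl | hzR
    · rcases hw with rfl | rfl
      · simp [Tab.modC]
      · exact hs.cross.2
    · rcases hw with rfl | rfl
      · exact hs.cross.1
      · simp [Tab.modC]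
    · exact allBits_spec hnorm z hzR.1 hzR.2
  have h1 : (X chevF4 z u)⁻¹ * (X chevF4 w b * X chevF4 z u * (X chevF4 w b)⁻¹) ∈
      gen chevF4 K (maskSet tabF4 R) := certF4.modC_spec hwn hz.1 key b u
  have := mul_mem (X_mem_gen chevF4 (F := K) hz u) (gen_R_le hs hv h1)
  rwa [mul_inv_cancel_left] at this

omit hf hK in
lemma coord (hs : SplitOK S R r s) {v : ℕ} (hv : v = r ∨ v = s) {x : K}
    (hx : X chevF4 v x ∈ gen chevF4 K (maskSet tabF4 (Nat.xor S (2 ^ v)))) : x = 0 := by
  have hvS : S.testBit v = true := by rcases hv with rfl | rfl <;> simp [hs.mem]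
  have hvp : v ∈ posSet tabF4 := by rcases hv with rfl | rfl <;> simp [hs.pos]
  have hbit : (Nat.xor S (2 ^ v)).testBit v = false := by
    rw [show Nat.xor S (2 ^ v) = S ^^^ 2 ^ v from rfl, Nat.testBit_xor, hvS, Nat.testBit_two_pow]
    simp
  have mono : ∀ a b, tabF4.modC a b R = true → tabF4.modC a b (Nat.xor S (2 ^ v)) = true :=
    fun a b => modC_mono fun x hx => bits_sub hs hv hx
  refine certF4.X_not_mem_gen hvp hbit (fun z hz => ?_) (fun a ha b hb hab => mono _ _ ?_) hx
  · rw [maskSet_xor hvS] at hz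
    rcases mask_cases hs hz.1.1 hz.1.2 with rfl | rfl | hzR
    · exact hs.pos.1
    · exact hs.pos.2
    · exact hs.rpos z hzR
  · rw [maskSet_xor hvS] at ha hb
    rcases mask_cases hs ha.1.1 ha.1.2 with rfl | rfl | haR <;>
      rcases mask_cases hs hb.1.1 hb.1.2 with rfl | rfl | hbR
    · omega
    · exact hs.cross.1
    · exact allBits_spec hs.left.1 b hbR.1 hbR.2
    · exact hs.cross.2
    · omega
    · exact allBits_spec hs.left.2 b hbR.1 hbR.2
    · exact (hs.right a haR).1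
    · exact (hs.right a haR).2
    · exact hs.closed a haR b hbR hab

omit hf hK in
lemma exists_pairSplit (hs : SplitOK S R r s) {y : GL chevF4.Idx K}
    (hy : y ∈ gen chevF4 K (maskSet tabF4 S)) :
    ∃ b a : K, ∃ z ∈ gen chevF4 K (maskSet tabF4 R), y = X chevF4 r b * X chevF4 s a * z := by
  obtain ⟨b, y', hy', rfl⟩ := certF4.gen_split hs.lt.1 hs.mem.1
    (orb_normal hs (Or.inl rfl) (Or.inl rfl)) hy
  have hS' : (Nat.xor S (2 ^ r)).testBit s = true := by
    rw [show Nat.xor S (2 ^ r) = S ^^^ 2 ^ r from rfl, Nat.testBit_xor, hs.mem.2, Nat.testBit_two_pow,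
      decide_eq_false hs.ne]
    rfl
  have hR : Nat.xor (Nat.xor S (2 ^ r)) (2 ^ s) = R := by
    refine Nat.eq_of_testBit_eq fun x => ?_
    show ((S ^^^ 2 ^ r) ^^^ 2 ^ s).testBit x = _
    rw [hs.bits, Nat.testBit_xor, Nat.testBit_xor, Nat.testBit_two_pow, Nat.testBit_two_pow]
    by_cases h1 : x = r
    · subst h1; simp [hs.mem.1, hs.ne.symm]
    · by_cases h2 : x = s
      · subst h2; simp [hs.mem.2, Ne.symm h1]
      · simp [h1, h2, Ne.symm h1, Ne.symm h2]
  obtain ⟨a, z, hz, rfl⟩ := certF4.gen_split hs.lt.2 hS'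
    (fun t => by rw [hR]; exact certF4.normal_spec hs.lt.2 hs.left.2 t) hy'
  exact ⟨b, a, z, hR ▸ hz, (mul_assoc _ _ _).symm⟩

omit hf hK in
lemma pair_mod (hs : SplitOK S R r s) (b a : K) {z : GL chevF4.Idx K}
    (hz : z ∈ gen chevF4 K (maskSet tabF4 R)) :
    ModQ (gen chevF4 K (maskSet tabF4 (Nat.xor S (2 ^ r))))
        (X chevF4 r b * X chevF4 s a * z) (X chevF4 r b) ∧
      ModQ (gen chevF4 K (maskSet tabF4 (Nat.xor S (2 ^ s))))
        (X chevF4 r b * X chevF4 s a * z) (X chevF4 s a) := by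
  constructor
  · show (X chevF4 r b)⁻¹ * _ ∈ _
    rw [mul_assoc, inv_mul_cancel_left]
    refine mul_mem (X_mem_gen chevF4 ?_ a) (gen_R_le hs (Or.inl rfl) hz)
    rw [maskSet_xor hs.mem.1]; exact ⟨⟨hs.lt.2, hs.mem.2⟩, hs.ne.symm⟩
  · have h1 : ModQ (gen chevF4 K (maskSet tabF4 (Nat.xor S (2 ^ s)))) (X chevF4 r b) 1 := by
      show (1 : GL chevF4.Idx K)⁻¹ * _ ∈ _
      rw [inv_one, one_mul]
      refine X_mem_gen chevF4 ?_ b
      rw [maskSet_xor hs.mem.2]; exact ⟨⟨hs.lt.1, hs.mem.1⟩, hs.ne⟩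
    have h2 : ModQ (gen chevF4 K (maskSet tabF4 (Nat.xor S (2 ^ s))))
        (X chevF4 s a * z) (X chevF4 s a) := by
      show (X chevF4 s a)⁻¹ * _ ∈ _
      rw [inv_mul_cancel_left]; exact gen_R_le hs (Or.inr rfl) hz
    rw [mul_assoc]
    exact (h1.mul h2 (orb_normal hs (Or.inr rfl) (Or.inr rfl) a)).trans (ModQ.of_eq (one_mul _))

/-- The coordinates of a fixed element. -/
lemma pair_coord (hs : SplitOK S R r s) {b a : K} {z : GL chevF4.Idx K}
    (hz : z ∈ gen chevF4 K (maskSet tabF4 R))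
    (hy : X chevF4 r b * X chevF4 s a * z ∈ (endoF4 f).fix) : b = f a := by
  have hzG : z ∈ chevF4.group K := certF4.gen_le_group (fun x hx => hx.1) hz
  have hz' : (endoF4 f).act z ∈ gen chevF4 K (maskSet tabF4 R) :=
    (endoF4 f).act_mem_gen (fun x hx => hx.1) hs.stable hz
  have h1 := (pair_mod hs b a hz).1
  rw [← (endoF4 f).act_of_fix hy,
    (endoF4 f).act_mul (mul_mem (certF4.X_mem_group hs.lt.1 _) (certF4.X_mem_group hs.lt.2 _)) hzG,
    (endoF4 f).act_mul (certF4.X_mem_group hs.lt.1 _) (certF4.X_mem_group hs.lt.2 _),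
    (endoF4 f).act_X hs.lt.1, (endoF4 f).act_X hs.lt.2, τ_eq f hf hs.lt.1, τ_eq f hf hs.lt.2,
    hs.deg.1, hs.deg.2, pow_one] at h1
  change ModQ _ (X chevF4 (twistF4.rt r) _ * X chevF4 (twistF4.rt s) _ * _) _ at h1
  rw [hs.act.1, hs.act.2] at h1
  have h2 : ModQ (gen chevF4 K (maskSet tabF4 (Nat.xor S (2 ^ r))))
      (X chevF4 s (f b ^ 2)) 1 := by
    show (1 : GL chevF4.Idx K)⁻¹ * _ ∈ _
    rw [inv_one, one_mul]
    refine X_mem_gen chevF4 ?_ _
    rw [maskSet_xor hs.mem.1]; exact ⟨⟨hs.lt.2, hs.mem.2⟩, hs.ne.symm⟩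
  have h3 : ModQ (gen chevF4 K (maskSet tabF4 (Nat.xor S (2 ^ r))))
      (X chevF4 r (f a) * (endoF4 f).act z) (X chevF4 r (f a)) := by
    show (X chevF4 r (f a))⁻¹ * _ ∈ _
    rw [inv_mul_cancel_left]; exact gen_R_le hs (Or.inl rfl) hz'
  rw [mul_assoc] at h1
  have h4 := ((ModQ.of_eq (one_mul _).symm).trans
    ((h2.mul h3 (orb_normal hs (Or.inl rfl) (Or.inl rfl) (f a))).symm)).trans h1
  have h5 : X chevF4 r (b + f a) ∈ gen chevF4 K (maskSet tabF4 (Nat.xor S (2 ^ r))) := by
    rw [← certF4.X_add hs.lt.1, ← CharTwo.neg_eq b, ← certF4.X_inv hs.lt.1]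
    exact h4
  exact CharTwo.add_eq_zero.1 (coord hs (Or.inl rfl) h5)

omit hf hK in
lemma mon_pow (x : ℕ × ℕ) (j : ℕ) (t : K) : mon f x t ^ j = mon f (j * x.1, j * x.2) t := by
  simp only [mon, mul_pow, ← pow_mul]
  rw [mul_comm x.1 j, mul_comm x.2 j]

omit hf hK in
lemma sum_mons (L : List ℕ) (hit : ℕ → List ℕ) (ex : ℕ → ℕ × ℕ) (t : K) :
    (L.map fun i => ((hit i).map fun j => mon f (ex i) t ^ j).sum).sum =
      ((L.flatMap fun i => (hit i).map fun j => (j * (ex i).1, j * (ex i).2)).map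
        fun x => mon f x t).sum := by
  induction L with
  | nil => rfl
  | cons a L ih =>
    simp only [List.map_cons, List.sum_cons, List.flatMap_cons, List.map_append, List.sum_append, ih,
      List.map_map]
    congr 1
    exact congrArg List.sum (List.map_congr_left fun j _ => mon_pow f _ j t)

/-- The monomials with a power-of-two norm are bijective on the units. -/
lemma bij_units {P Q : ℤ} (hb : bij P Q = true) :
    Function.Bijective fun u : Kˣ => u ^ P * Units.map (f : K →* K) u ^ Q := by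
  simp only [bij, List.any_eq_true, List.mem_range, decide_eq_true_eq] at hb
  obtain ⟨k, -, hk⟩ := hb
  set φ := Units.map (f : K →* K)
  have hφ : ∀ u, φ (φ u) ^ (2 : ℤ) = u := fun u => Units.ext (by
    rw [zpow_ofNat, Units.val_pow_eq_pow_val]
    exact ff_sq f hf hK (u : K))
  let ψ : Kˣ →* Kˣ := (zpowGroupHom P) * (zpowGroupHom Q).comp φ
  have hψ : ∀ u, ψ u = u ^ P * φ u ^ Q := fun u => rfl
  suffices hinj : Function.Injective ψ by
    exact ⟨hinj, (Finite.injective_iff_surjective.1 hinj)⟩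
  rw [injective_iff_map_eq_one]
  intro u hu
  rw [hψ] at hu
  have h1 : u ^ (2 * P * P) * φ u ^ (2 * P * Q) = 1 := by
    have := congrArg (fun x => x ^ (2 * P)) hu
    simp only [_root_.one_zpow, mul_zpow, ← _root_.zpow_mul] at this
    convert this using 3 <;> ring
  have h2 : φ u ^ (2 * P * Q) * u ^ (Q * Q) = 1 := by
    have h3 := congrArg φ hu
    rw [map_mul, map_zpow, map_zpow, map_one] at h3
    have := congrArg (fun x => x ^ (2 * Q)) h3
    simp only [_root_.one_zpow, mul_zpow, ← _root_.zpow_mul] at this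
    rw [show Q * (2 * Q) = 2 * (Q * Q) by ring, _root_.zpow_mul (φ (φ u)), hφ] at this
    convert this using 3; ring
  have h4 : u ^ (2 * P * P - Q * Q) = 1 := by
    rw [_root_.zpow_sub, eq_inv_of_mul_eq_one_left h1, ← eq_inv_of_mul_eq_one_right h2, mul_inv_cancel]
  have h5 : u ^ (2 ^ k : ℕ) = 1 := by
    rcases Int.natAbs_eq (2 * P * P - Q * Q) with e' | e' <;> rw [hk] at e' <;> rw [e'] at h4
    · rwa [zpow_natCast] at h4
    · rwa [_root_.zpow_neg, zpow_natCast, inv_eq_one] at h4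
  refine Units.ext (iterateFrobenius_inj K 2 k ?_)
  simp [iterateFrobenius_def, ← Units.val_pow_eq_pow_val, h5]

lemma mon_surj {p q : ℕ} (hb : bij p q = true) (a : K) : ∃ d, mon f (p, q) d = a := by
  by_cases ha : a = 0
  · refine ⟨0, ?_⟩
    subst ha
    have hne : p ≠ 0 ∨ q ≠ 0 := by
      by_contra hne
      push Not at hne
      obtain ⟨rfl, rfl⟩ := hne
      simp only [bij, List.any_eq_true, List.mem_range, decide_eq_true_eq] at hb
      obtain ⟨x, -, hx⟩ := hb
      norm_num at hx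
      exact absurd hx.symm (pow_ne_zero _ two_ne_zero)
    rcases hne with h | h <;> simp [mon, zero_pow h]
  · obtain ⟨u, hu⟩ := (bij_units f hf hK hb).2 (Units.mk0 a ha)
    exact ⟨(u : K), by simpa [mon, zpow_natCast] using congrArg Units.val hu⟩

/-- A fixed torus element making the parameter of an orbit one. -/
lemma exists_torus {ps qs : List ℤ}
    (hpi : ∀ j < tabF4.l, 2 * ps.getD (piTwF4 j) 0 = twistF4.dg (tabF4.simple j) * qs.getD j 0 ∧
      qs.getD (piTwF4 j) 0 = twistF4.dg (tabF4.simple j) * ps.getD j 0)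
    {v : ℕ} (hb : bij (tabF4.mval ps v) (tabF4.mval qs v) = true) {a : K} (ha : a ≠ 0) :
    ∃ c : Fin tabF4.l → Kˣ,
      Cert.torusHom (D := chevF4) (T := tabF4) c ∈ (endoF4 f).fix ⊓ chevF4.diagonalSubgroup K ∧
      (∀ x, tabF4.mval ps x = 0 → tabF4.mval qs x = 0 →
        charOf tabF4 (Cert.extC tabF4 c) x = 1) ∧
      charOf tabF4 (Cert.extC tabF4 c) v * a = 1 := by
  set φ := Units.map (f : K →* K)
  have hφ : ∀ u, φ (φ u) ^ (2 : ℤ) = u := fun u => Units.ext (by
    rw [zpow_ofNat, Units.val_pow_eq_pow_val]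
    exact ff_sq f hf hK (u : K))
  obtain ⟨μ, hμ⟩ := (bij_units f hf hK hb).2 (Units.mk0 a ha)⁻¹
  set c : Fin tabF4.l → Kˣ := fun i => μ ^ ps.getD i 0 * φ μ ^ qs.getD i 0 with hc
  have hfx : (endoF4 f).tor c = c := by
    funext i
    obtain ⟨i, rfl⟩ := (Finite.injective_iff_surjective.1 (endoF4 f).πf_injective) i
    rw [(endoF4 f).tor_apply]
    have hd : twistF4.dg (tabF4.simple i) = 1 ∨ twistF4.dg (tabF4.simple i) = 2 := by
      revert i; decide +kernel
    have key : φ (c i) ^ (twistF4.dg (tabF4.simple i)) = c ((endoF4 f).πf i) := by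
      obtain ⟨h1, h2⟩ := hpi i i.2
      show φ (μ ^ ps.getD i 0 * φ μ ^ qs.getD i 0) ^ _ =
        μ ^ ps.getD (piTwF4 i) 0 * φ μ ^ qs.getD (piTwF4 i) 0
      rcases hd with hd | hd <;> rw [hd] at h1 h2 ⊢ <;> simp only [map_mul, map_zpow, mul_pow]
      · simp only [Nat.cast_one, one_mul] at h1 h2
        rw [pow_one, pow_one, h2, ← h1, _root_.zpow_mul, hφ, mul_comm]
      · simp only [Nat.cast_ofNat] at h1 h2
        rw [h2, show ps.getD (piTwF4 i) 0 = qs.getD i 0 by omega, ← zpow_natCast, ← zpow_natCast,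
          ← _root_.zpow_mul, ← _root_.zpow_mul, Nat.cast_ofNat, mul_comm (qs.getD i 0) (2 : ℤ),
          _root_.zpow_mul (φ (φ μ)), hφ, mul_comm, mul_comm (ps.getD i 0) (2 : ℤ)]
    rw [← key]
    refine Units.ext ?_
    rw [Endo.coe_τu, τ_eq f hf (certF4.simple_lt i.2), Units.val_pow_eq_pow_val]
    rfl
  have hval : ∀ x, charOf tabF4 (Cert.extC tabF4 c) x =
      ((μ ^ tabF4.mval ps x * φ μ ^ tabF4.mval qs x : Kˣ) : K) := by
    intro x
    rw [charOf, ← Fin.prod_univ_eq_prod_range]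
    have h1 : ∀ m : List ℤ, tabF4.mval m x = ∑ i : Fin tabF4.l, m.getD i 0 * tabF4.car i x := by
      intro m
      rw [Tab.mval, Fin.sum_univ_eq_sum_range (fun i => m.getD i 0 * tabF4.car i x)]
      induction tabF4.l with
      | zero => simp
      | succ l ih =>
        rw [List.range_succ, List.map_append, List.sum_append, ih, List.map_singleton,
          List.sum_singleton, Finset.sum_range_succ]
    have h2 : ∀ (u : Kˣ) (g : Fin tabF4.l → ℤ), u ^ (∑ i, g i) = ∏ i, u ^ g i := by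
      intro u g
      induction (Finset.univ : Finset (Fin tabF4.l)) using Finset.induction with
      | empty => simp
      | insert a s hs ih => rw [Finset.sum_insert hs, Finset.prod_insert hs, _root_.zpow_add, ih]
    rw [h1 ps, h1 qs, h2, h2, ← Finset.prod_mul_distrib, Units.coe_prod]
    refine Finset.prod_congr rfl fun i _ => ?_
    simp [hc, Cert.extC, mul_zpow, ← _root_.zpow_mul, Units.val_zpow_eq_zpow_val]
  refine ⟨c, (endoF4 f).torusHom_mem_fix hfx, fun x h1 h2 => ?_, ?_⟩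
  · rw [hval, h1, h2]; simp
  · rw [hval]
    change μ ^ _ * φ μ ^ _ = _ at hμ
    rw [hμ, Units.val_inv_eq_inv_val, Units.val_mk0, inv_mul_cancel₀ ha]

omit hf hK in
lemma terms_modQ {r s w Q : ℕ} (hr : r < tabF4.n) (hs : s < tabF4.n) (hw : w < tabF4.n)
    (hwQ : tabF4.normal w Q = true) (e1 : tabF4.oddIn r s (Nat.xor Q (2 ^ w)) = true) (A B : K) :
    ModQ (gen chevF4 K (maskSet tabF4 Q))
      ((tabF4.oddTerms r s).map fun c => X chevF4 c.1 (A ^ c.2.2.1 * B ^ c.2.2.2)).prod
      (X chevF4 w (((tabF4.oddTerms r s).filter fun c => Nat.beq c.1 w).map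
        fun c => A ^ c.2.2.1 * B ^ c.2.2.2).sum) := by
  have hmem := certF4.oddIn_spec hr hs e1
  revert hmem
  generalize tabF4.oddTerms r s = L
  intro hmem
  induction L with
  | nil => exact ModQ.of_eq (by simp [certF4.X_zero hw])
  | cons q L ih =>
    have h1 := (ih fun x hx => hmem x (List.mem_cons_of_mem _ hx))
    rw [List.map_cons, List.prod_cons, List.filter_cons]
    by_cases eq : q.1 = w
    · simp only [eq, Nat.beq_refl, if_true, List.map_cons, List.sum_cons]
      exact (h1.mul_left _).trans (ModQ.of_eq (certF4.X_add hw _ _))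
    · have hb : Nat.beq q.1 w = false := by
        cases hb : Nat.beq q.1 w
        · rfl
        · exact absurd (Nat.eq_of_beq_eq_true hb) eq
      simp only [hb, Bool.false_eq_true, if_false]
      have hq : q.1 ∈ maskSet tabF4 Q := by
        obtain ⟨h2, h3⟩ := hmem q List.mem_cons_self
        rw [show Nat.xor Q (2 ^ w) = Q ^^^ 2 ^ w from rfl, Nat.testBit_xor, Nat.testBit_two_pow,
          decide_eq_false (Ne.symm eq), Bool.xor_false] at h3
        exact ⟨h2, h3⟩
      have h3 : ModQ (gen chevF4 K (maskSet tabF4 Q))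
          (X chevF4 q.1 (A ^ q.2.2.1 * B ^ q.2.2.2)) 1 := by
        show (1 : GL chevF4.Idx K)⁻¹ * _ ∈ _
        rw [inv_one, one_mul]; exact X_mem_gen chevF4 hq _
      exact (h3.mul h1 (certF4.normal_spec hw hwQ _)).trans (ModQ.of_eq (one_mul _))

omit hf hK in
/-- The group of a mask is in the group of `Q` times `x_w`. -/
lemma split_w {w Q R : ℕ} (hw : w < tabF4.n) (hbit : Q.testBit w = false)
    (hwQ : tabF4.normal w Q = true)
    (hsub : ∀ x ∈ maskSet tabF4 R, (Nat.xor Q (2 ^ w)).testBit x = true) {z : GL chevF4.Idx K}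
    (hz : z ∈ gen chevF4 K (maskSet tabF4 R)) :
    ∃ b : K, ∃ z' ∈ gen chevF4 K (maskSet tabF4 Q), z = X chevF4 w b * z' := by
  have hxor : Nat.xor (Nat.xor Q (2 ^ w)) (2 ^ w) = Q := by
    show (Q ^^^ 2 ^ w) ^^^ 2 ^ w = Q
    rw [Nat.xor_assoc, Nat.xor_self, Nat.xor_zero]
  have := certF4.gen_split (F := K) (S := Nat.xor Q (2 ^ w)) hw (by
      rw [show Nat.xor Q (2 ^ w) = Q ^^^ 2 ^ w from rfl, Nat.testBit_xor, hbit, Nat.testBit_two_pow]
      simp)
    (by rw [hxor]; exact certF4.normal_spec hw hwQ)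
    (gen_mono chevF4 (fun x hx => (show x ∈ maskSet tabF4 (Nat.xor Q (2 ^ w)) from
      ⟨hx.1, hsub x hx⟩)) hz)
  rwa [hxor] at this

/-- Every fixed involution of the state is conjugate, by a fixed element, to a target product. -/
def Good (tg : List (List ℕ)) (N : List ℕ) (S : ℕ) : Prop :=
  GoodTw (endoF4 f) tg N S

variable {tg : List (List ℕ)} {st : ℕ → F4State} {i : ℕ}
  (IH : ∀ c < i, (∀ a ∈ (st c).N, a < tabF4.n ∧ twistF4.rt a < tabF4.n) ∧
    tabF4.eq2 ((st c).N.map twistF4.rt) (st c).N = true ∧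
    GoodTw (endoF4 f) tg (st c).N (st c).S)
include IH

lemma use_f4Child {c : ℕ} (hc : c < i) {N' N : List ℕ}
    (hp : oneProd chevF4 K N' = oneProd chevF4 K (st c).N) {y g z : GL chevF4.Idx K}
    (hg : g ∈ (endoF4 f).fix) (hz : z ∈ gen chevF4 K (maskSet tabF4 (st c).S))
    (hN : oneProd chevF4 K N * y ∈ (endoF4 f).fix)
    (hsq : (oneProd chevF4 K N * y) * (oneProd chevF4 K N * y) = 1)
    (heq : g * (oneProd chevF4 K N * y) * g⁻¹ = oneProd chevF4 K N' * z) :
    ∃ t ∈ tg, ∃ g ∈ (endoF4 f).fix,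
      g * (oneProd chevF4 K N * y) * g⁻¹ = oneProd chevF4 K t := by
  obtain ⟨hlt, he2, hgood⟩ := IH c hc
  rw [hp] at heq
  have hzf : z ∈ (endoF4 f).fix := by
    have h1 : oneProd chevF4 K (st c).N * z ∈ (endoF4 f).fix :=
      heq ▸ mul_mem (mul_mem hg hN) (inv_mem hg)
    have h2 := mul_mem (inv_mem (oneProd_fix f hf hlt he2)) h1
    rwa [inv_mul_cancel_left] at h2
  obtain ⟨t, ht, k, hk, e'⟩ := hgood z hz hzf (by
    rw [← heq, show g * (oneProd chevF4 K N * y) * g⁻¹ * (g * (oneProd chevF4 K N * y) * g⁻¹) =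
      g * ((oneProd chevF4 K N * y) * (oneProd chevF4 K N * y)) * g⁻¹ by group, hsq]
    group)
  exact ⟨t, ht, k * g, mul_mem hk hg, by rw [← e', ← heq]; group⟩

/-- A checked move is sound. -/
theorem chkMove_sound {N : List ℕ} {S : ℕ}
    (hlt : ∀ a ∈ N, a < tabF4.n ∧ twistF4.rt a < tabF4.n)
    (he2 : tabF4.eq2 (N.map twistF4.rt) N = true) (mv : F4Move)
    (hm : chkMove tg st i N S mv = true) : GoodTw (endoF4 f) tg N S := by
  have hPf := oneProd_fix f hf hlt he2
  have hN : ∀ a ∈ N, a < tabF4.n := fun a ha => (hlt a ha).1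
  intro y hy hyf hsq
  have hxf := mul_mem hPf hyf
  have htriv : Nat.beq S 0 = true → y = 1 := fun e0 => by
    rw [Nat.eq_of_beq_eq_true e0, certF4.gen_empty fun r _ => Nat.zero_testBit r,
      Subgroup.mem_bot] at hy
    exact hy
  have hnil : ∀ a ∈ ([] : List ℕ), a < tabF4.n := fun a ha => absurd ha List.not_mem_nil
  cases mv with
  | leaf k =>
    simp only [chkMove, Bool.and_eq_true, List.all_eq_true] at hm
    obtain ⟨⟨⟨e1, e2⟩, e3⟩, e4⟩ := hm
    have hk : k < tg.length := Nat.le_of_ble_eq_true e2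
    refine ⟨tg.getD k [], ?_, 1, one_mem _, ?_⟩
    · rw [List.getD_eq_getElem _ _ hk]; exact List.getElem_mem hk
    · rw [htriv e1, certF4.oneProd_eq_of_eq2 (F := K) hN
        (fun a ha => Nat.le_of_ble_eq_true (e3 a ha)) e4]
      group
  | kill V L O c =>
    simp only [chkMove, Bool.and_eq_true, List.all_eq_true] at hm
    obtain ⟨⟨⟨⟨⟨⟨hsp, hO⟩, hvn⟩, hN3⟩, hO3⟩, hmon⟩, hc⟩ := hm
    obtain ⟨hs, -, htail⟩ := chkSplit_spec hsp
    obtain ⟨hci, hNc, hsub⟩ := child_spec hc
    generalize Nat.xor S (xmask [V.getD 0 0, V.getD 1 0]) = R at hs htail hsub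
    generalize hvdef : V.getD 1 0 = v at hvn hN3 hO3 hmon hs
    generalize V.getD 0 0 = r at hs
    obtain ⟨b, a, z0, hz0, rfl⟩ := exists_pairSplit hs hy
    obtain rfl := pair_coord f hf hK hs hz0 hyf
    split at hmon
    swap
    · cases hmon
    next p q hpq =>
    obtain ⟨d, hd⟩ := mon_surj f hf hK hmon a
    have hg := elem_mem_fix f hf hK hO d
    obtain ⟨g1, g2, g3⟩ := certF4.kill_list hs.lt.2 hs.mem.2 hvn hN
      (fun x hx => (hN3 x hx).2) (fun x hx => (hN3 x hx).1) (fun i => mon f (elExp i) d)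
      (List.range O.length) (σ := fun i => O.getD i 0) fun j hj => by
        obtain ⟨⟨o1, o2⟩, o3⟩ := hO3 _ (mem_getD (List.mem_range.1 hj))
        exact ⟨(chkEl_spec hO).2.2.2.2.2.2.2 j (List.mem_range.1 hj), o1, o2, o3⟩
    rw [sum_mons f] at g3
    change ModQ _ _ (_ * X chevF4 v (((killMons N O v).map fun x => mon f x d).sum)) at g3
    rw [hpq] at g3
    simp only [List.map_cons, List.map_nil, List.sum_cons, List.sum_nil, add_zero, hd] at g3
    change elem f O d ∈ _ at g1
    change ∀ t : K, ModQ _ (elem f O d * X chevF4 v t * (elem f O d)⁻¹) (X chevF4 v t) at g2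
    change ModQ _ (elem f O d * oneProd chevF4 K N * (elem f O d)⁻¹) _ at g3
    set Q := gen chevF4 K (maskSet tabF4 (Nat.xor S (2 ^ v)))
    set g := elem f O d
    set P := oneProd chevF4 K N
    set A := X chevF4 r (f a) * X chevF4 v a
    have e1 : ModQ Q (g * (A * z0) * g⁻¹) (X chevF4 v a) :=
      ((pair_mod hs (f a) a hz0).2.conj g1).trans (g2 a)
    have e2 : ModQ Q (g * (P * (A * z0)) * g⁻¹) P := by
      refine (ModQ.of_eq (show _ = (g * P * g⁻¹) * (g * (A * z0) * g⁻¹) by group)).trans ?_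
      refine (g3.mul e1 (certF4.normal_spec hs.lt.2 hvn a)).trans (ModQ.of_eq ?_)
      rw [mul_assoc, certF4.X_add hs.lt.2, CharTwo.add_self_eq_zero, certF4.X_zero hs.lt.2, mul_one]
    set z := P⁻¹ * (g * (P * (A * z0)) * g⁻¹) with hz
    have hzQ : z ∈ Q := e2
    have hzf : z ∈ (endoF4 f).fix := mul_mem (inv_mem hPf) (mul_mem (mul_mem hg hxf) (inv_mem hg))
    have hzS : z ∈ gen chevF4 K (maskSet tabF4 S) := gen_mono chevF4 (fun x hx => by
      rw [maskSet_xor hs.mem.2] at hx; exact hx.1) hzQ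
    obtain ⟨b', a', z1, hz1, hz'⟩ := exists_pairSplit hs hzS
    obtain rfl := pair_coord f hf hK hs hz1 (hz' ▸ hzf)
    have h0 : a' = 0 := by
      refine coord hs (Or.inr rfl) ?_
      have h1 : (X chevF4 v a')⁻¹ * z ∈ Q := hz' ▸ (pair_mod hs (f a') a' hz1).2
      have := inv_mem (mul_mem h1 (inv_mem hzQ))
      rwa [mul_inv_cancel_right, inv_inv] at this
    subst h0
    refine use_f4Child f hf hK IH hci (N' := N) (by rw [hNc]) hg (gen_mono chevF4 hsub hz1) hxf hsq ?_
    rw [show g * (P * (A * z0)) * g⁻¹ = P * z by rw [hz]; group, hz', map_zero,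
      certF4.X_zero hs.lt.1, certF4.X_zero hs.lt.2, one_mul, one_mul]
  | forced V L w LQ c =>
    simp only [chkMove, Bool.and_eq_true, List.all_eq_true, Bool.not_eq_true', bmem_eq] at hm
    obtain ⟨⟨⟨⟨⟨⟨⟨⟨⟨⟨⟨⟨hsp, hPP⟩, hw0⟩, hw⟩, hbit⟩, hQ⟩, hwQ⟩, hN3⟩, hV3⟩, hcr⟩, hL3⟩, hmon⟩,
      hc⟩ := hm
    obtain ⟨hs, hRL, -⟩ := chkSplit_spec hsp
    obtain ⟨hci, hNc, hsub⟩ := child_spec hc
    generalize Nat.xor S (xmask [V.getD 0 0, V.getD 1 0]) = R at hs hRL hsub
    generalize V.getD 0 0 = r, V.getD 1 0 = v at hV3 hcr hmon hs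
    simp only [List.mem_cons, List.not_mem_nil, or_false, forall_eq_or_imp, forall_eq] at hV3
    obtain ⟨⟨⟨hrw, hrQ⟩, hrN⟩, ⟨hvw, hvQ⟩, hvN⟩ := hV3
    obtain ⟨-, hQpos, hQcl⟩ := posClosed_spec hQ
    have hw : w < tabF4.n := Nat.le_of_ble_eq_true hw
    generalize xmask LQ = Q at hbit hwQ hN3 hrw hrQ hrN hvw hvQ hvN hcr hL3 hQpos hQcl
    obtain ⟨b, a, z0, hz0, rfl⟩ := exists_pairSplit hs hy
    obtain rfl := pair_coord f hf hK hs hz0 hyf
    obtain ⟨b, z', hz', hzz⟩ := split_w hw hbit hwQ (fun x hx => hL3 x (hRL x hx)) hz0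
    have hP2 : oneProd chevF4 K N * oneProd chevF4 K N = 1 := by
      rw [← oneProd_append, certF4.oneProd_eq_of_eq2 (F := K) (fun x hx => by
        rcases List.mem_append.1 hx with hx | hx <;> exact hN x hx) hnil hPP]
      simp [oneProd]
    have hNQ := certF4.oneProd_mem_normalizer (F := K) hN fun b hb => (hN3 b hb).2
    have hwn : ∀ t : K, X chevF4 w t ∈
        Subgroup.normalizer (gen chevF4 K (maskSet tabF4 Q) : Set (GL chevF4.Idx K)) :=
      certF4.normal_spec hw hwQ
    have hrn := certF4.normal_spec (F := K) hs.lt.1 hrQ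
    have hvn := certF4.normal_spec (F := K) hs.lt.2 hvQ
    have e1 := certF4.forced_list hw hwQ hbit hN (fun b hb => (hN3 b hb).2)
      (fun b hb => (hN3 b hb).1) (fun j => ([f a, a] : List K).getD j 0) [0, 1]
      (σ := fun j => ([r, v] : List ℕ).getD j 0) (by
        intro j hj
        simp only [List.mem_cons, List.not_mem_nil, or_false] at hj
        rcases hj with rfl | rfl
        · exact ⟨hs.lt.1, hrw, hrQ, hrN⟩
        · exact ⟨hs.lt.2, hvw, hvQ, hvN⟩)
    simp only [List.map_cons, List.map_nil, List.prod_cons, List.prod_nil, mul_one, List.sum_cons,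
      List.sum_nil, add_zero, List.getD_cons_zero, List.getD_cons_succ] at e1
    set H := ((tabF4.forcedHits N r w).map fun e => f a ^ e).sum +
      ((tabF4.forcedHits N v w).map fun e => a ^ e).sum
    set hself := (((tabF4.oddTerms r v).filter fun c => Nat.beq c.1 w).map
        fun c => f a ^ c.2.2.1 * a ^ c.2.2.2).sum
    set P := oneProd chevF4 K N
    set A := X chevF4 r (f a) * X chevF4 v a
    set QQ := gen chevF4 K (maskSet tabF4 Q)
    have hA : A ∈ Subgroup.normalizer (QQ : Set (GL chevF4.Idx K)) := mul_mem (hrn _) (hvn _)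
    have eA : ModQ QQ (A * A) (X chevF4 w hself) := by
      have h1 : X chevF4 r (f a) * X chevF4 v a * X chevF4 r (f a) =
          X chevF4 v a * ((tabF4.oddTerms r v).map fun c =>
            X chevF4 c.1 (f a ^ c.2.2.1 * a ^ c.2.2.2)).prod := by
        rw [← certF4.X_conj_odd hs.lt.1 hs.lt.2 hs.ne.symm
          (Cert.posSet_neg_ne certF4 hs.pos.1 hs.pos.2), certF4.X_inv hs.lt.1, CharTwo.neg_eq]
      have h2 := ((terms_modQ hs.lt.1 hs.lt.2 hw hwQ hcr (f a) a).mul_left (X chevF4 v a)).mul_right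
        (hvn a)
      refine (ModQ.of_eq (show A * A = X chevF4 r (f a) * X chevF4 v a * X chevF4 r (f a) *
        X chevF4 v a by simp only [A, mul_assoc])).trans ((ModQ.of_eq (by rw [h1])).trans
        (h2.trans ?_))
      have h3 := ((certF4.modC_spec hs.lt.2 hw hvw a hself).swap (hvn a)).mul_right (hvn a)
      exact h3.trans (ModQ.of_eq (by
        rw [mul_assoc, certF4.X_add hs.lt.2, CharTwo.add_self_eq_zero, certF4.X_zero hs.lt.2,
          mul_one]))
    have hswap : ∀ t, ModQ QQ (X chevF4 w t * A) (A * X chevF4 w t) := fun t => by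
      have h1 := (((certF4.modC_spec hs.lt.1 hw hrw (f a) t).swap (hrn _)).symm).mul_right (hvn a)
      have h2 := (((certF4.modC_spec hs.lt.2 hw hvw a t).swap (hvn _)).symm).mul_left
        (X chevF4 r (f a))
      exact (ModQ.of_eq (mul_assoc _ _ _).symm).trans (h1.trans ((ModQ.of_eq (mul_assoc _ _ _)).trans
        (h2.trans (ModQ.of_eq (mul_assoc _ _ _).symm))))
    have hPinv : P⁻¹ = P := inv_eq_of_mul_eq_one_right hP2
    have e3 : ModQ QQ (P * X chevF4 w b * P⁻¹) (X chevF4 w b) := by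
      have := (certF4.oneProd_swap hw hN (fun x hx => (hN3 x hx).2) hwQ (fun x hx => (hN3 x hx).1)
        b).mul_right (inv_mem hNQ)
      rwa [mul_inv_cancel_right] at this
    have e4 : ModQ QQ (P * (A * X chevF4 w b) * (P * (A * X chevF4 w b)))
        (X chevF4 w (hself + H)) := by
      have h1 : P * (A * X chevF4 w b) * (P * (A * X chevF4 w b)) =
          (P * A * P⁻¹) * (P * X chevF4 w b * P⁻¹) * (A * X chevF4 w b) := by
        simp only [hPinv]
        simp only [mul_assoc]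
        rw [← mul_assoc P P, hP2, one_mul]
      refine (ModQ.of_eq h1).trans (((e1.mul e3 (hwn b)).mul_right (mul_mem hA (hwn b))).trans ?_)
      have h2 := ((hswap (H + b)).mul_left A).mul_right (hwn b)
      refine (ModQ.of_eq ?_).trans (h2.trans ?_)
      · rw [← certF4.X_add hw H b]; simp only [A, mul_assoc]
      · refine (ModQ.of_eq (show _ = A * A * (X chevF4 w (H + b) * X chevF4 w b) by
          simp only [mul_assoc])).trans ?_
        rw [certF4.X_add hw, add_assoc, CharTwo.add_self_eq_zero, add_zero]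
        exact (eA.mul_right (hwn H)).trans (ModQ.of_eq (certF4.X_add hw _ _))
    have hy' : P * (A * X chevF4 w b) ∈ Subgroup.normalizer (QQ : Set (GL chevF4.Idx K)) :=
      mul_mem hNQ (mul_mem hA (hwn b))
    have hx : ModQ QQ (P * (A * z0)) (P * (A * X chevF4 w b)) := by
      show (P * (A * X chevF4 w b))⁻¹ * _ ∈ _
      rw [hzz, show (P * (A * X chevF4 w b))⁻¹ * (P * (A * (X chevF4 w b * z'))) = z' by group]
      exact hz'
    have e5 : ModQ QQ 1 (X chevF4 w (hself + H)) :=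
      ((ModQ.of_eq hsq.symm).trans (hx.mul hx hy')).trans e4
    have e6 : X chevF4 w (hself + H) ∈ QQ := by
      have := inv_mem (show (X chevF4 w (hself + H))⁻¹ * 1 ∈ QQ from e5)
      rwa [mul_one, inv_inv] at this
    have e7 := certF4.X_not_mem_gen ⟨Nat.le_of_ble_eq_true hw0, hw⟩ hbit hQpos hQcl e6
    have e8 : ((forcedMons N r v w).map fun x => mon f x a).sum = hself + H := by
      simp only [forcedMons, List.map_append, List.sum_append, List.map_map, add_assoc, hself, H]
      congr 1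
      · exact congrArg List.sum (List.map_congr_left fun c _ => by simp [mon, mul_comm])
      · congr 1 <;> exact congrArg List.sum (List.map_congr_left fun c _ => by simp [mon])
    rw [e7] at e8
    split at hmon
    swap
    · cases hmon
    next p q hpq =>
    rw [hpq] at e8
    simp only [List.map_cons, List.map_nil, List.sum_cons, List.sum_nil, add_zero, mon] at e8
    have ha : a = 0 := by
      rcases mul_eq_zero.1 e8 with h' | h'
      · exact (pow_eq_zero_iff' .. |>.1 h').1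
      · exact (map_eq_zero f).1 (pow_eq_zero_iff' .. |>.1 h').1
    subst ha
    refine use_f4Child f hf hK IH hci (N' := N) (by rw [hNc]) (one_mem _) (gen_mono chevF4 hsub hz0)
      hxf hsq ?_
    simp only [P, A, map_zero, certF4.X_zero hs.lt.1, certF4.X_zero hs.lt.2]
    group
  | branch V L ps qs c₀ c₁ =>
    simp only [chkMove, Bool.and_eq_true, decide_eq_true_eq, List.all_eq_true, List.mem_range] at hm
    obtain ⟨⟨⟨⟨⟨hsp, hpi⟩, hN3⟩, hb⟩, hc0⟩, hc1⟩ := hm
    obtain ⟨hs, -, htail⟩ := chkSplit_spec hsp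
    obtain ⟨hi0, hN0, hsub0⟩ := child_spec hc0
    obtain ⟨hi1, hN1, hsub1⟩ := child_spec hc1
    generalize Nat.xor S (xmask [V.getD 0 0, V.getD 1 0]) = R at hs htail hsub0 hsub1
    obtain ⟨b, a, z0, hz0, rfl⟩ := exists_pairSplit hs hy
    obtain rfl := pair_coord f hf hK hs hz0 hyf
    by_cases ha : a = 0
    · subst ha
      refine use_f4Child f hf hK IH hi0 (N' := N) (by rw [hN0]) (one_mem _)
        (gen_mono chevF4 hsub0 hz0) hxf hsq ?_
      rw [map_zero, certF4.X_zero hs.lt.1, certF4.X_zero hs.lt.2]; group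
    obtain ⟨cc, huf, huN, huv⟩ := exists_torus f hf hK hpi hb ha
    set u : GL chevF4.Idx K := Cert.torusHom (D := chevF4) (T := tabF4) cc
    set χ := charOf tabF4 (Cert.extC tabF4 cc)
    have hconj : ∀ x < tabF4.n, ∀ t : K, u * X chevF4 x t * u⁻¹ = X chevF4 x (χ x * t) :=
      fun x hx t => certF4.torusHom_conj_X cc hx t
    have hP : ∀ L' : List ℕ, (∀ x ∈ L', x ∈ N) →
        u * oneProd chevF4 K L' * u⁻¹ = oneProd chevF4 K L' := by
      intro L'
      induction L' with
      | nil => intro _; simp [oneProd]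
      | cons x L' ih =>
        intro hL
        have hx := hL x List.mem_cons_self
        rw [oneProd_cons, show u * (X chevF4 x 1 * oneProd chevF4 K L') * u⁻¹ =
          u * X chevF4 x 1 * u⁻¹ * (u * oneProd chevF4 K L' * u⁻¹) by group,
          ih fun y hy => hL y (List.mem_cons_of_mem _ hy), hconj x (hN x hx), mul_one,
          huN x (hN3 x hx).1 (hN3 x hx).2]
    set r := V.getD 0 0 with hr
    set v := V.getD 1 0 with hv
    set z1 := u * z0 * u⁻¹ with hz1
    have hz1' : z1 ∈ gen chevF4 K (maskSet tabF4 R) := (Subgroup.mem_normalizer_iff.1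
      (certF4.diagonal_le_normalizer_gen (fun x hx => hx.1) huf.2) z0).1 hz0
    have hzf : X chevF4 r (χ r * f a) * X chevF4 v (χ v * a) * z1 ∈ (endoF4 f).fix := by
      rw [← hconj r hs.lt.1, ← hconj v hs.lt.2, hz1,
        show u * X chevF4 r (f a) * u⁻¹ * (u * X chevF4 v a * u⁻¹) * (u * z0 * u⁻¹) =
          u * (X chevF4 r (f a) * X chevF4 v a * z0) * u⁻¹ by group]
      exact mul_mem (mul_mem huf.1 hyf) (inv_mem huf.1)
    have hb1 := pair_coord f hf hK hs hz1' hzf
    change χ v * a = 1 at huv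
    rw [huv, map_one] at hb1
    have hlen : 2 ≤ V.length := by
      simp only [chkSplit, Bool.and_eq_true] at hsp
      have hel := hsp.1.1.1.1.1.1
      unfold chkEl at hel
      split at hel
      · simp
      · simp
      · cases hel
    set tl := ((List.range (V.length - 2)).map fun i =>
        X chevF4 (V.getD (i + 2) 0) (mon f (elExp (i + 2)) (1 : K))).prod with htl
    have htl' : tl ∈ gen chevF4 K (maskSet tabF4 R) := list_prod_mem fun g hg => by
      obtain ⟨k, hk, rfl⟩ := List.mem_map.1 hg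
      refine X_mem_gen chevF4 (htail _ ?_) _
      have hk' : k + 2 < V.length := by have := List.mem_range.1 hk; omega
      rw [List.getD_eq_getElem _ _ hk', List.mem_iff_getElem]
      exact ⟨k, by rw [List.length_drop]; omega, by simp [Nat.add_comm]⟩
    have hel : oneProd chevF4 K V = X chevF4 r 1 * X chevF4 v 1 * tl := by
      have h1 := elem_split f V hlen (1 : K)
      rw [map_one] at h1
      rw [← h1, elem, oneProd, ← map_range_getD V fun x => X chevF4 x (1 : K)]
      simp [mon]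
    refine use_f4Child f hf hK IH hi1 (N' := N ++ V) (by rw [hN1]) huf.1
      (z := tl⁻¹ * z1) (gen_mono chevF4 hsub1 (mul_mem (inv_mem htl') hz1')) hxf hsq ?_
    rw [show u * (oneProd chevF4 K N * (X chevF4 r (f a) * X chevF4 v a * z0)) * u⁻¹ =
      u * oneProd chevF4 K N * u⁻¹ * (u * X chevF4 r (f a) * u⁻¹ * (u * X chevF4 v a * u⁻¹) * z1) by
        rw [hz1]; group, hP N fun x hx => hx, hconj r hs.lt.1, hconj v hs.lt.2, hb1, huv,
      oneProd_append, hel]
    group
  | absurd w L LQ L2 =>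
    simp only [chkMove, Bool.and_eq_true, List.all_eq_true, decide_eq_true_eq, Bool.not_eq_true',
      Bool.or_eq_true, bmem_eq] at hm
    obtain ⟨⟨⟨⟨⟨⟨⟨⟨⟨⟨hSL, hL3⟩, hw0⟩, hw⟩, hbit⟩, hQ⟩, hwQ⟩, hN3⟩, hfil⟩, hL2⟩, hPP⟩ := hm
    exfalso
    obtain ⟨-, hQpos, hQcl⟩ := posClosed_spec hQ
    have hw : w < tabF4.n := Nat.le_of_ble_eq_true hw
    generalize xmask LQ = Q at hbit hwQ hN3 hL3 hL2 hQpos hQcl
    obtain ⟨b, z', hz', rfl⟩ := split_w hw hbit hwQ (fun x hx => hL3 x (mem_of_testBit_xmask (by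
      rw [Nat.eq_of_beq_eq_true hSL]; exact hx.2))) hy
    set QQ := gen chevF4 K (maskSet tabF4 Q)
    set P := oneProd chevF4 K N
    have hNQ := certF4.oneProd_mem_normalizer (F := K) hN fun b hb => (hN3 b hb).2
    have hwn : ∀ t : K, X chevF4 w t ∈ Subgroup.normalizer (QQ : Set (GL chevF4.Idx K)) :=
      certF4.normal_spec hw hwQ
    have hL2lt : ∀ a ∈ L2, a < tabF4.n := fun a ha => by
      rcases hL2 a ha with h' | h'
      · exact Nat.eq_of_beq_eq_true h' ▸ hw
      · exact Nat.le_of_ble_eq_true h'.1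
    have e1 : ModQ QQ (P * P) (X chevF4 w 1) := by
      have h0 : P * P = oneProd chevF4 K L2 := by
        rw [← oneProd_append]
        exact certF4.oneProd_eq_of_eq2 (fun x hx => by
          rcases List.mem_append.1 hx with hx | hx <;> exact hN x hx) hL2lt hPP
      rw [h0]
      have key : ∀ L' : List ℕ, (∀ x ∈ L', x ∈ L2) →
          ModQ QQ (oneProd chevF4 K L') (X chevF4 w ((L'.filter fun x => Nat.beq x w).length : K)) := by
        intro L'
        induction L' with
        | nil => intro _; exact ModQ.of_eq (by simp [oneProd, certF4.X_zero hw])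
        | cons x L' ih =>
          intro hL
          have h1 := ih fun y hy => hL y (List.mem_cons_of_mem _ hy)
          rw [oneProd_cons, List.filter_cons]
          cases hxw : Nat.beq x w
          · have hx : ModQ QQ (X chevF4 x (1 : K)) 1 := by
              show (1 : GL chevF4.Idx K)⁻¹ * _ ∈ _
              rw [inv_one, one_mul]
              rcases hL2 x (hL x List.mem_cons_self) with h' | h'
              · rw [hxw] at h'; cases h'
              · exact X_mem_gen chevF4 (show x ∈ maskSet tabF4 Q from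
                  ⟨Nat.le_of_ble_eq_true h'.1, h'.2⟩) 1
            simp only [Bool.false_eq_true, if_false]
            exact (hx.mul h1 (hwn _)).trans (ModQ.of_eq (one_mul _))
          · obtain rfl := Nat.eq_of_beq_eq_true hxw
            simp only [if_true, List.length_cons, Nat.cast_succ]
            exact (h1.mul_left _).trans (ModQ.of_eq (by rw [certF4.X_add hw, add_comm]))
      have := key L2 fun x hx => hx
      rwa [hfil, List.length_singleton, Nat.cast_one] at this
    have hP : ModQ QQ (P * X chevF4 w b) (X chevF4 w b * P) :=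
      certF4.oneProd_swap hw hN (fun x hx => (hN3 x hx).2) hwQ (fun x hx => (hN3 x hx).1) b
    have hx : ModQ QQ (P * (X chevF4 w b * z')) (P * X chevF4 w b) := by
      show (P * X chevF4 w b)⁻¹ * _ ∈ _
      rw [show (P * X chevF4 w b)⁻¹ * (P * (X chevF4 w b * z')) = z' by group]
      exact hz'
    have e4 : ModQ QQ (P * X chevF4 w b * (P * X chevF4 w b)) (X chevF4 w 1) := by
      refine (ModQ.of_eq (show _ = P * (X chevF4 w b * P) * X chevF4 w b by
        simp only [mul_assoc])).trans ?_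
      refine ((hP.symm.mul_left P).mul_right (hwn b)).trans ?_
      refine (ModQ.of_eq (show _ = P * P * (X chevF4 w b * X chevF4 w b) by
        simp only [mul_assoc])).trans ?_
      rw [certF4.X_add hw, CharTwo.add_self_eq_zero, certF4.X_zero hw, mul_one]
      exact e1
    have e5 : ModQ QQ 1 (X chevF4 w 1) :=
      ((ModQ.of_eq hsq.symm).trans (hx.mul hx (mul_mem hNQ (hwn b)))).trans e4
    have e6 : X chevF4 w (1 : K) ∈ QQ := by
      have := inv_mem (show (X chevF4 w (1 : K))⁻¹ * 1 ∈ QQ from e5)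
      rwa [mul_one, inv_inv] at this
    exact one_ne_zero (certF4.X_not_mem_gen ⟨Nat.le_of_ble_eq_true hw0, hw⟩ hbit hQpos hQcl e6)
  | word g c =>
    simp only [chkMove, Bool.and_eq_true, List.all_eq_true] at hm
    obtain ⟨⟨⟨⟨e0, hg⟩, he1⟩, he3⟩, hci⟩ := hm
    have hci : c < i := Nat.le_of_ble_eq_true hci
    have hg1 : ∀ s ∈ g, s < tabF4.n ∧ twistF4.rt s < tabF4.n := fun s hs =>
      ⟨Nat.le_of_ble_eq_true (hg s hs).1, Nat.le_of_ble_eq_true (hg s hs).2⟩
    have hg2 : ∀ s ∈ g, s < tabF4.n := fun s hs => (hg1 s hs).1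
    have hc : ∀ a ∈ (st c).N, a < tabF4.n := fun a ha => ((IH c hci).1 a ha).1
    have e2 := certF4.oneProd_eq_of_eq2 (F := K) (fun a ha => by
      rcases List.mem_append.1 ha with ha | ha
      · exact hg2 a ha
      rcases List.mem_append.1 ha with ha | ha
      · exact hN a ha
      · exact hg2 a (List.mem_reverse.1 ha)) hc he3
    rw [oneProd_append, oneProd_append, certF4.oneProd_reverse g hg2, ← mul_assoc] at e2
    refine use_f4Child f hf hK IH hci (N' := (st c).N) rfl (oneProd_fix f hf hg1 he1) (one_mem _)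
      hxf hsq ?_
    rw [htriv e0, mul_one, mul_one, e2]

omit IH

/-- Checked certificates are sound. -/
theorem chkState_sound {k : ℕ} (hchk : ∀ j < k, chkState tg st j = true) :
    ∀ j < k, (∀ a ∈ (st j).N, a < tabF4.n ∧ twistF4.rt a < tabF4.n) ∧
      tabF4.eq2 ((st j).N.map twistF4.rt) (st j).N = true ∧
      GoodTw (endoF4 f) tg (st j).N (st j).S := by
  intro j
  induction j using Nat.strong_induction_on with
  | _ j ih =>
    intro hj
    have h1 := hchk j hj
    simp only [chkState, Bool.and_eq_true, List.all_eq_true] at h1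
    obtain ⟨⟨h2, h3⟩, h4⟩ := h1
    have hlt : ∀ a ∈ (st j).N, a < tabF4.n ∧ twistF4.rt a < tabF4.n := fun a ha =>
      ⟨Nat.le_of_ble_eq_true (h2 a ha).1, Nat.le_of_ble_eq_true (h2 a ha).2⟩
    exact ⟨hlt, h3, chkMove_sound f hf hK (fun c hc => ih c hc (lt_trans hc hj)) hlt h3 _ h4⟩

end Sem

end InvF4

end CfsgLib.Chev
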