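import Cfsg.Agent.Lib.Chev.InvolF4Data
import Cfsg.Agent.Lib.Chev.TitsGroup

/-!
The two classes of involutions of `²F₄(q)` and of the Tits group.
-/

set_option autoImplicit false
set_option maxRecDepth 100000

namespace CfsgLib.Chev.InvF4

open Cfsg.Lie Matrix

/-- The representatives. -/
def twF4Reps : List (List ℕ) := [[44, 47], [39, 45]]

theorem twF4_targets : ((List.range 2).all fun i =>
    tabF4.chkTarget (twF4Reps.getD i []) (([21, 24] : List ℕ).getD i 0) &&
      ((twF4Reps.getD i []).all fun a => decide (a < tabF4.n ∧ twistF4.rt a < tabF4.n)) &&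
      tabF4.eq2 ((twF4Reps.getD i []).map twistF4.rt) (twF4Reps.getD i [])) = true := by
  decide +kernel

variable {K : Type*} [Field K] [Fintype K] [CharP K 2] {e : ℕ} (f : K →+* K)
  (hf : ∀ t, f t = t ^ e) (hK : Fintype.card K = 2 * e ^ 2)

/-- A representative, as a matrix. -/
noncomputable def rep (i : Fin 2) : GL chevF4.Idx K := oneProd chevF4 K (twF4Reps.getD i [])

omit [Fintype K] in
theorem rep_rank (i : Fin 2) :
    tabF4.chkTarget (twF4Reps.getD i []) (([21, 24] : List ℕ).getD i 0) = true := by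
  have h1 := twF4_targets
  simp only [List.all_eq_true, List.mem_range, Bool.and_eq_true] at h1
  exact (h1 i i.2).1.1

theorem orderOf_rep (i : Fin 2) : orderOf (rep (K := K) i) = 2 :=
  (certF4.target_spec (F := K) (rep_rank i)).2.1

omit [Fintype K] in
theorem rep_inj {i j : Fin 2} {x : GL chevF4.Idx K} (hx : x * rep i * x⁻¹ = rep j) : i = j := by
  have h1 := certF4.target_rank_eq (F := K) (rep_rank i) (rep_rank j) hx
  revert h1
  fin_cases i <;> fin_cases j <;> simp

include hf in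
theorem rep_mem (i : Fin 2) : rep i ∈ (endoF4 f).fix := by
  have h1 := twF4_targets
  simp only [List.all_eq_true, List.mem_range, Bool.and_eq_true, decide_eq_true_eq] at h1
  exact oneProd_fix f hf (h1 i i.2).1.2 (h1 i i.2).2

include hf hK in
/-- Every involution of `²F₄(q)` is conjugate to a representative. -/
theorem exists_conj_rep {g : ↥(endoF4 f).fix} (hg : orderOf g = 2) :
    ∃ i : Fin 2, ∃ x : ↥(endoF4 f).fix, x * g * x⁻¹ = ⟨rep i, rep_mem f hf i⟩ := by
  classical
  have hp2 : Fact (Nat.Prime 2) := ⟨Nat.prime_two⟩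
  obtain ⟨n, hn⟩ : ∃ n, Fintype.card K = 2 ^ n := by
    obtain ⟨n, -, hn⟩ := FiniteField.card K 2
    exact ⟨n, hn⟩
  set q := Fintype.card K with hq
  have h2 : 2 ∣ q := ⟨e ^ 2, hK⟩
  have hodd : ∀ k, k ≠ 0 → ¬ 2 ∣ q ^ k + 1 ∧ ¬ 2 ∣ q ^ k - 1 := fun k hk => by
    have : 2 ∣ q ^ k := h2.trans (dvd_pow_self q hk)
    have : 1 ≤ q ^ k := Nat.one_le_pow _ _ Fintype.card_pos
    omega
  have hU := card_posF4 f hf hK
  have hG := card_twistF4 f hf hK
  rw [← hq] at hU hG
  have hm : ¬ 2 ∣ (q - 1) * (q ^ 3 + 1) * (q ^ 4 - 1) * (q ^ 6 + 1) :=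
    Nat.Prime.not_dvd_mul Nat.prime_two (Nat.Prime.not_dvd_mul Nat.prime_two
      (Nat.Prime.not_dvd_mul Nat.prime_two (by simpa using (hodd 1 one_ne_zero).2)
        (hodd 3 (by norm_num)).1) (hodd 4 (by norm_num)).2) (hodd 6 (by norm_num)).1
  have hle : (endoF4 f).fix ⊓ chevF4.posUnipotent K ≤ (endoF4 f).fix := inf_le_left
  let P : Sylow 2 ↥(endoF4 f).fix :=
    Sylow.ofCard (((endoF4 f).fix ⊓ chevF4.posUnipotent K).subgroupOf (endoF4 f).fix) (by
      rw [Nat.card_congr (Subgroup.subgroupOfEquivOfLe hle).toEquiv, hU, hG,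
        mul_assoc (q ^ 12), mul_assoc (q ^ 12), mul_assoc (q ^ 12),
        Nat.factorization_mul (pow_ne_zero _ Fintype.card_ne_zero)
          (fun e' => hm (by rw [e']; exact dvd_zero 2)),
        Finsupp.add_apply, Nat.factorization_eq_zero_of_not_dvd hm, add_zero, ← hq]
      rw [hn, ← pow_mul,
        Nat.Prime.factorization_pow Nat.prime_two, Finsupp.single_eq_same])
  have hz : IsPGroup 2 (Subgroup.zpowers g) :=
    IsPGroup.of_card (n := 1) (by rw [Nat.card_zpowers, pow_one]; exact hg)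
  obtain ⟨Q, hQ⟩ := hz.exists_le_sylow
  obtain ⟨x, hx⟩ := MulAction.exists_smul_eq ↥(endoF4 f).fix Q P
  have h1 : MulAut.conj x g ∈ (P : Subgroup ↥(endoF4 f).fix) := by
    rw [← hx, Sylow.coe_subgroup_smul]
    exact Subgroup.smul_mem_pointwise_smul _ (MulAut.conj x) _ (hQ (Subgroup.mem_zpowers _))
  rw [Sylow.coe_ofCard, Subgroup.mem_subgroupOf, MulAut.conj_apply] at h1
  obtain ⟨-, -, hgood⟩ := chkState_sound f hf hK (tg := twF4Tg) twF4_chk 62 (by norm_num)
  have hroot := twF4_root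
  simp only [Tab.chkTwRoot, Bool.and_eq_true, decide_eq_true_eq] at hroot
  obtain ⟨hN, hS⟩ := hroot
  rw [hN] at hgood
  have hsub : posSet tabF4 ⊆ maskSet tabF4 (twF4St 62).S := fun a ha => by
    have := allBelow_eq_true hS a ha.2
    rw [Nat.ble_eq_true_of_le ha.1, cond_true, bmem_eq] at this
    exact ⟨ha.2, this⟩
  have hone : oneProd chevF4 K [] = 1 := by simp [oneProd]
  have hu := h1.2
  rw [certF4.posUnipotent_eq] at hu
  have hsq : (g : GL chevF4.Idx K) * g = 1 := by
    rw [← Subgroup.coe_mul, ← pow_two, ← hg, pow_orderOf_eq_one, Subgroup.coe_one]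
  obtain ⟨t, ht, z, hz', e'⟩ := hgood _ (gen_mono chevF4 hsub hu) h1.1 (by
    rw [hone, one_mul, Subgroup.coe_mul, Subgroup.coe_mul, Subgroup.coe_inv,
      show (x : GL chevF4.Idx K) * g * (x : GL chevF4.Idx K)⁻¹ *
          ((x : GL chevF4.Idx K) * g * (x : GL chevF4.Idx K)⁻¹) =
        x * ((g : GL chevF4.Idx K) * g) * (x : GL chevF4.Idx K)⁻¹ by group, hsq]
    group)
  rw [hone, one_mul] at e'
  simp only [Subgroup.coe_mul, Subgroup.coe_inv] at e'
  rw [show twF4Tg = [] :: twF4Reps from rfl] at ht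
  rcases List.mem_cons.1 ht with rfl | ht
  · exfalso
    rw [hone] at e'
    have h0 : g = 1 := by
      have h3 : z * x * g * (z * x)⁻¹ = (1 : GL chevF4.Idx K) := by rw [← e']; group
      rw [mul_inv_eq_one, mul_eq_left] at h3
      exact Subtype.ext h3
    rw [h0, orderOf_one] at hg
    exact absurd hg (by norm_num)
  obtain ⟨i, hi, rfl⟩ := List.getElem_of_mem ht
  refine ⟨⟨i, hi⟩, ⟨z, hz'⟩ * x, Subtype.ext ?_⟩
  simp only [Subgroup.coe_mul, Subgroup.coe_inv, rep, List.getD_eq_getElem _ _ hi]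
  rw [← e']; group

omit hf hK in
/-- Two representatives, never conjugate, meeting all involutions: two classes. -/
theorem ncard_eq_two {G : Type*} [Group G] (t : Fin 2 → G) (ι : G →* GL chevF4.Idx K)
    (ht : ∀ i, ι (t i) = rep i) (hinjι : Function.Injective ι)
    (hex : ∀ g : G, orderOf g = 2 → ∃ i, ∃ x : G, x * g * x⁻¹ = t i) :
    (ConjClasses.mk '' {g : G | orderOf g = 2}).ncard = 2 := by
  have hinj : Function.Injective fun i => ConjClasses.mk (t i) := by
    intro i j h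
    obtain ⟨x, hx⟩ := isConj_iff.1 (ConjClasses.mk_eq_mk_iff_isConj.1 h)
    exact rep_inj (x := ι x) (by rw [← ht i, ← ht j, ← hx, map_mul, map_mul, map_inv])
  have himg : ConjClasses.mk '' {g : G | orderOf g = 2} =
      Set.range fun i => ConjClasses.mk (t i) := by
    ext c
    constructor
    · rintro ⟨g, hg, rfl⟩
      obtain ⟨i, x, hx⟩ := hex g hg
      exact ⟨i, (ConjClasses.mk_eq_mk_iff_isConj.2 (isConj_iff.2 ⟨x, hx⟩)).symm⟩
    · rintro ⟨i, rfl⟩
      refine ⟨t i, ?_, rfl⟩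
      show orderOf (t i) = 2
      rw [← orderOf_injective ι hinjι, ht, orderOf_rep]
  rw [himg, ← Set.image_univ, Set.ncard_image_of_injective _ hinj, Set.ncard_univ, Nat.card_fin]

include hf hK in
theorem ncard_invol_twistedF4 :
    (ConjClasses.mk '' {g : ↥(twistedF4 K e) | orderOf g = 2}).ncard = 2 := by
  rw [← fix_eq_twistedF4 f hf hK]
  exact ncard_eq_two (fun i => ⟨rep i, rep_mem f hf i⟩) (endoF4 f).fix.subtype (fun _ => rfl)
    (Subgroup.subtype_injective _) fun g hg => exists_conj_rep f hf hK hg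

open F4Two in
theorem ncard_invol_tits :
    (ConjClasses.mk '' {g : ↥(commutator ↥G2) | orderOf g = 2}).ncard = 2 := by
  haveI : CharP (ZMod 2) 2 := ZMod.charP 2
  have hm : ∀ i, rep (K := ZMod 2) i ∈ G2 := fun i => fix_eq ▸ rep_mem (RingHom.id (ZMod 2)) hf1 i
  have hsq : ∀ i, (⟨rep i, hm i⟩ : ↥G2) * ⟨rep i, hm i⟩ = 1 := fun i => Subtype.ext (by
    show rep (K := ZMod 2) i * rep i = 1
    rw [← pow_two]
    exact (congrArg (rep (K := ZMod 2) i ^ ·) (orderOf_rep i).symm).trans (pow_orderOf_eq_one _))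
  have hmc : ∀ i, (⟨rep i, hm i⟩ : ↥G2) ∈ commutator ↥G2 := fun i =>
    mem_commutator_of_mul_self (hsq i)
  -- an element outside the commutator subgroup centralising both representatives
  obtain ⟨c, hc, hcomm⟩ : ∃ c : ↥G2, c ∉ commutator ↥G2 ∧
      ∀ i, c * ⟨rep i, hm i⟩ * c⁻¹ = ⟨rep i, hm i⟩ := by
    obtain ⟨al, -, himg⟩ := imgs
    obtain ⟨h31, e31⟩ := himg 31 (by simp [reps12])
    refine ⟨⟨Wd (orbWord 31), h31⟩, fun hcon => xx_not_mem ?_, fun i => Subtype.ext ?_⟩
    · rw [← Abelianization.ker_of ↥G2, MonoidHom.mem_ker] at hcon ⊢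
      obtain ⟨h25, e25⟩ : Img wX al := himg 25 (by simp [reps12])
      rw [show xx = ⟨Wd wX, h25⟩ from rfl, e25]
      rw [e31] at hcon
      simpa [odd4] using hcon
    · have hchk : ((List.range 2).all fun i =>
          ((orbWord 31 ++ twF4Reps.getD i []).all fun a => decide (a < tabF4.n)) &&
            tabF4.eq2 (orbWord 31 ++ twF4Reps.getD i []) (twF4Reps.getD i [] ++ orbWord 31)) =
          true := by decide +kernel
      simp only [List.all_eq_true, List.mem_range, Bool.and_eq_true, decide_eq_true_eq,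
        List.mem_append] at hchk
      obtain ⟨h1, h2⟩ := hchk i i.2
      have h3 := certF4.oneProd_eq_of_eq2 (F := ZMod 2)
        (fun a ha => h1 a (List.mem_append.1 ha))
        (fun a ha => h1 a ((List.mem_append.1 ha).symm)) h2
      rw [oneProd_append, oneProd_append] at h3
      show Wd (orbWord 31) * rep i * (Wd (orbWord 31))⁻¹ = rep i
      rw [mul_inv_eq_iff_eq_mul, Wd_eq_prod]
      exact h3
  refine ncard_eq_two (K := ZMod 2) (fun i => ⟨⟨rep i, hm i⟩, hmc i⟩)
    ((G2.subtype).comp (commutator ↥G2).subtype) (fun _ => rfl)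
    (G2.subtype_injective.comp (Subgroup.subtype_injective _)) fun g hg => ?_
  have hg' : orderOf ((MulEquiv.subgroupCongr fix_eq.symm) (g : ↥G2)) = 2 := by
    rw [MulEquiv.orderOf_eq, Subgroup.orderOf_coe, hg]
  obtain ⟨i, x, hx⟩ := exists_conj_rep (RingHom.id (ZMod 2)) hf1 hK1 hg'
  set y : ↥G2 := MulEquiv.subgroupCongr fix_eq x with hy
  have hyx : y * (g : ↥G2) * y⁻¹ = ⟨rep i, hm i⟩ := Subtype.ext (by
    have := congrArg Subtype.val hx
    exact this)
  by_cases hyc : y ∈ commutator ↥G2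
  · exact ⟨i, ⟨y, hyc⟩, Subtype.ext hyx⟩
  · have hcy : c * y ∈ commutator ↥G2 :=
      (Subgroup.mul_mem_iff_of_index_two index_commutator).2 (iff_of_false hc hyc)
    refine ⟨i, ⟨c * y, hcy⟩, Subtype.ext ?_⟩
    show c * y * (g : ↥G2) * (c * y)⁻¹ = _
    rw [show c * y * (g : ↥G2) * (c * y)⁻¹ = c * (y * (g : ↥G2) * y⁻¹) * c⁻¹ by group, hyx, hcomm i]

end CfsgLib.Chev.InvF4
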