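import Cfsg.Agent.Lib.Chev.All
import Cfsg.Agent.Lib.Chev.CentRoot
import Cfsg.Agent.Lib.Chev.Order
import Mathlib.LinearAlgebra.Matrix.Rank

/-!
Words in the root elements `x_r(1)` in characteristic 2, evaluated on bit vectors, and ranks.
-/

set_option autoImplicit false

namespace CfsgLib.Chev

open Cfsg.Lie Matrix

/-- Membership in a set of numbers given by a mask. -/
noncomputable def bmem (S r : ℕ) : Bool := Nat.beq (Nat.land (Nat.shiftRight S r) 1) 1

lemma bmem_eq (S r : ℕ) : bmem S r = S.testBit r := by
  unfold bmem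
  rw [Nat.testBit_eq_decide_div_mod_eq]
  have e : Nat.land (Nat.shiftRight S r) 1 = S / 2 ^ r % 2 := by
    rw [← Nat.shiftRight_eq_div_pow]; exact Nat.and_two_pow_sub_one_eq_mod _ 1
  rw [e]
  exact Bool.eq_iff_iff.2 (by simp)

/-- Toggle a number in a list. -/
def tog (q : ℕ) : List ℕ → List ℕ
  | [] => [q]
  | a :: L => if Nat.beq q a then L else a :: tog q L

/-- The members of odd multiplicity. -/
def parity (L : List ℕ) : List ℕ := L.foldr tog []

/-- The mask of the members of odd multiplicity. -/
noncomputable def xmask (L : List ℕ) : ℕ :=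
  List.rec (motive := fun _ => ℕ) 0 (fun a _ ih => Nat.xor (Nat.pow 2 a) ih) L

namespace Tab

variable (T : Tab)

/-- The rows with odd coefficient in a column of `x_r(1)`. -/
def oddCol (r c : ℕ) : List ℕ :=
  ((T.col r c).filter fun q => decide (q.2.2 % 2 = 1)).map Prod.fst

/-- A column of a word in the `x_r(1)`, modulo 2. -/
def app2 (w : List ℕ) (c : ℕ) : List ℕ :=
  w.foldr (fun r V => parity (V.flatMap (T.oddCol r))) [c]

/-- Two words agree modulo 2. -/
def eq2 (w w' : List ℕ) : Bool :=
  (List.range T.dim).all fun c => (parity (T.app2 w c ++ T.app2 w' c)).isEmpty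

/-- The first bit below `k`. -/
noncomputable def lowBit (v : ℕ) : ℕ → ℕ
  | 0 => 0
  | k + 1 => cond (bmem v k) k (lowBit v k)

/-- Reduction by a triangular list, oldest first. -/
noncomputable def reduceBy : List (ℕ × ℕ) → ℕ → ℕ
  | [], v => v
  | (p, b) :: B, v => cond (bmem v p) (reduceBy B (Nat.xor v b)) (reduceBy B v)

/-- Add a vector to a triangular list. -/
noncomputable def addBasis (d : ℕ) (B : List (ℕ × ℕ)) (v : ℕ) : List (ℕ × ℕ) :=
  if Nat.beq (reduceBy B v) 0 then B else B ++ [(lowBit (reduceBy B v) d, reduceBy B v)]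

/-- A basis of the column space of `w - 1`, modulo 2. -/
noncomputable def echelon (w : List ℕ) : List (ℕ × ℕ) :=
  (List.range T.dim).foldl (fun B c => addBasis T.dim B (xmask (c :: T.app2 w c))) []

/-- The rank of `w - 1` is `k`. -/
noncomputable def chkRank (w : List ℕ) (k : ℕ) : Bool :=
  (T.echelon w).all (fun e => bmem e.2 e.1) && Nat.beq (T.echelon w).length k &&
    (T.echelon w).all fun e => decide (e.1 < T.dim)

end Tab

section Sem

variable {D : ChevalleyDatum} {T : Tab} {F : Type*} [Field F] [CharP F 2]

/-- The vector of a list of coordinates. -/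
def cvec (D : ChevalleyDatum) (F : Type*) [Field F] (L : List ℕ) : D.Idx → F :=
  fun row => (List.count (enc row) L : F)

/-- The vector of a mask. -/
noncomputable def mvec (D : ChevalleyDatum) (F : Type*) [Field F] (m : ℕ) : D.Idx → F :=
  fun row => if m.testBit (enc row) then 1 else 0

lemma cast_count_tog (q x : ℕ) : ∀ L : List ℕ,
    ((List.count x (tog q L) : ℕ) : F) = (List.count x (q :: L) : F)
  | [] => rfl
  | a :: L => by
    unfold tog
    split
    · next h =>
      obtain rfl := Nat.eq_of_beq_eq_true h
      by_cases hx : q = x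
      · subst hx; simp [add_assoc, one_add_one_eq_two, CharTwo.two_eq_zero]
      · simp [List.count_cons, hx]
    · have ih := cast_count_tog q x L
      simp only [List.count_cons, Nat.cast_add] at ih ⊢
      rw [ih]; ring

lemma cvec_parity (D : ChevalleyDatum) (L : List ℕ) : cvec D F (parity L) = cvec D F L := by
  funext row
  induction L with
  | nil => rfl
  | cons a L ih =>
    simp only [cvec, parity, List.foldr_cons] at ih ⊢
    rw [cast_count_tog]
    simp only [List.count_cons, Nat.cast_add, ih]

lemma cvec_append (D : ChevalleyDatum) (L L' : List ℕ) :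
    cvec D F (L ++ L') = cvec D F L + cvec D F L' := by
  funext row; simp [cvec, List.count_append]

lemma mvec_zero (D : ChevalleyDatum) : mvec D F 0 = 0 := by
  funext row; simp [mvec]

lemma mvec_xor (D : ChevalleyDatum) (a b : ℕ) :
    mvec D F (Nat.xor a b) = mvec D F a + mvec D F b := by
  funext row
  show (if (a ^^^ b).testBit _ then (1 : F) else 0) = _
  rw [Nat.testBit_xor, Pi.add_apply]
  unfold mvec
  cases a.testBit (enc row) <;> cases b.testBit (enc row) <;>
    simp [CharTwo.add_self_eq_zero]

lemma mvec_xmask (D : ChevalleyDatum) (L : List ℕ) : mvec D F (xmask L) = cvec D F L := by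
  induction L with
  | nil => exact (mvec_zero D).trans (funext fun _ => by simp [cvec])
  | cons a L ih =>
    show mvec D F (Nat.xor (2 ^ a) (xmask L)) = _
    rw [mvec_xor, ih, show a :: L = [a] ++ L from rfl, cvec_append]
    congr 1
    funext row
    simp only [mvec, cvec, Nat.testBit_two_pow, decide_eq_true_eq]
    by_cases h : a = enc row <;> simp [h]

lemma intCast_odd (z : ℤ) : (z : F) = if z % 2 = 1 then 1 else 0 := by
  split
  · next h =>
    have : (z : F) = ((z % 2 + 2 * (z / 2) : ℤ) : F) := by rw [Int.emod_add_mul_ediv]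
    rw [this, h]; push_cast
    rw [CharTwo.two_eq_zero]; simp
  · exact (CharP.intCast_eq_zero_iff F 2 z).2 (by omega)

/-- A column of `x_r(1)`. -/
lemma x_one_col (h : T.Agrees D) {r : ℕ} (hr : r < T.n) (col : D.Idx) :
    (fun row => D.x F r 1 row col) = cvec D F (T.oddCol r (enc col)) := by
  funext row
  rw [x_apply h hr]
  simp only [cvec, Tab.oddCol]
  induction T.col r (enc col) with
  | nil => simp
  | cons q L ih =>
    rw [List.map_cons, List.sum_cons, ih, List.filter_cons, one_pow, mul_one, intCast_odd]
    by_cases h1 : q.2.2 % 2 = 1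
    · simp only [h1, decide_true, if_true, List.map_cons, List.count_cons, Nat.cast_add]
      by_cases h2 : q.1 = enc row <;> simp [h2, add_comm]
    · simp [h1]

lemma mulVec_cvec_one (h : T.Agrees D) {r : ℕ} (hr : r < T.n) :
    ∀ V : List ℕ, (∀ c ∈ V, c < T.dim) →
      D.x F r 1 *ᵥ cvec D F V = cvec D F (V.flatMap (T.oddCol r)) := by
  intro V
  induction V with
  | nil => intro _; funext row; simp [cvec, Matrix.mulVec, dotProduct]
  | cons c V ih =>
    intro hV
    obtain ⟨c0, hc0⟩ := exists_enc h (hV c List.mem_cons_self)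
    rw [show c :: V = [c] ++ V from rfl, cvec_append, Matrix.mulVec_add,
      ih fun d hd => hV d (List.mem_cons_of_mem _ hd), List.flatMap_append, cvec_append,
      List.flatMap_cons, List.flatMap_nil, List.append_nil]
    congr 1
    have e : cvec D F [c] = Pi.single c0 1 := by
      funext row
      by_cases hrow : row = c0
      · subst hrow; simp [cvec, hc0]
      · have : ¬ c = enc row := fun e => hrow (enc_injective (hc0.trans e).symm)
        simp [cvec, hrow, this]
    rw [e, Matrix.mulVec_single_one, ← hc0]
    exact x_one_col h hr c0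

lemma mem_tog {q x : ℕ} : ∀ {L : List ℕ}, x ∈ tog q L → x = q ∨ x ∈ L
  | [], hx => Or.inl (List.mem_singleton.1 hx)
  | a :: L, hx => by
    unfold tog at hx
    split at hx
    · exact Or.inr (List.mem_cons_of_mem _ hx)
    · rcases List.mem_cons.1 hx with e | e
      · exact Or.inr (e ▸ List.mem_cons_self)
      · rcases mem_tog e with e' | e'
        · exact Or.inl e'
        · exact Or.inr (List.mem_cons_of_mem _ e')

lemma mem_parity {x : ℕ} : ∀ {L : List ℕ}, x ∈ parity L → x ∈ L
  | [], hx => hx
  | a :: L, hx => by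
    rcases mem_tog hx with e | e
    · exact e ▸ List.mem_cons_self
    · exact List.mem_cons_of_mem _ (mem_parity e)

lemma oddCol_lt (h : T.Agrees D) {r c : ℕ} (hr : r < T.n) (hc : c < T.dim) :
    ∀ x ∈ T.oddCol r c, x < T.dim := by
  intro x hx
  simp only [Tab.oddCol, List.mem_map, List.mem_filter] at hx
  obtain ⟨q, ⟨hq, -⟩, rfl⟩ := hx
  unfold Tab.dim at *
  simp only [Tab.col] at hq
  rcases List.mem_cons.1 hq with e | e
  · subst e; exact hc
  · by_cases h1 : T.n ≤ c
    · rw [if_pos h1, List.mem_singleton] at e; subst e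
      show r < T.n + T.l; omega
    · rw [if_neg h1] at e
      by_cases h2 : c = r
      · rw [if_pos h2] at e; exact absurd e List.not_mem_nil
      · rw [if_neg h2] at e
        by_cases h3 : c = T.neg r
        · rw [if_pos h3] at e
          rcases List.mem_cons.1 e with e | e
          · subst e; show r < T.n + T.l; omega
          · obtain ⟨i, hi, rfl⟩ := List.mem_map.1 e
            have := List.mem_range.1 hi
            show T.n + i < T.n + T.l; omega
        · rw [if_neg h3] at e
          obtain ⟨p, hp, rfl⟩ := List.mem_map.1 e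
          have := of_decide_eq_true (List.mem_filter.1 hp).2
          show p.1.1 < T.n + T.l; omega

/-- The product of the `x_r(1)` along a list. -/
noncomputable def oneProd (D : ChevalleyDatum) (F : Type*) [Field F] (w : List ℕ) : GL D.Idx F :=
  (w.map fun r => X D r (1 : F)).prod

variable {C : Tab.Cover} (h : Cert D T C)
include h

lemma Cert.oneProd_col {w : List ℕ} (hw : ∀ r ∈ w, r < T.n) (col : D.Idx) :
    (fun row => (oneProd D F w : Matrix D.Idx D.Idx F) row col) =
        cvec D F (T.app2 w (enc col)) ∧ ∀ x ∈ T.app2 w (enc col), x < T.dim := by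
  induction w with
  | nil =>
    refine ⟨funext fun row => ?_, fun x hx => ?_⟩
    · simp only [oneProd, List.map_nil, List.prod_nil, Units.val_one, Tab.app2, List.foldr_nil,
        cvec]
      by_cases hc : row = col
      · subst hc; simp
      · have : ¬ enc col = enc row := fun e => hc (enc_injective e.symm)
        simp [Matrix.one_apply, hc, this]
    · rw [Tab.app2, List.foldr_nil, List.mem_singleton] at hx
      exact hx ▸ enc_lt h.agrees col
  | cons r w ih =>
    obtain ⟨h1, h2⟩ := ih fun s hs => hw s (List.mem_cons_of_mem _ hs)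
    have hr := hw r List.mem_cons_self
    refine ⟨?_, fun x hx => ?_⟩
    · rw [show T.app2 (r :: w) (enc col) = parity ((T.app2 w (enc col)).flatMap (T.oddCol r))
        from rfl, cvec_parity, ← mulVec_cvec_one h.agrees hr _ h2, ← h1]
      funext row
      simp [oneProd, Matrix.mul_apply, Matrix.mulVec, dotProduct, h.coe_X]
    · obtain ⟨c, hc, hx⟩ := List.mem_flatMap.1 (mem_parity (show x ∈ parity _ from hx))
      exact oddCol_lt h.agrees hr (h2 c hc) x hx

/-- Two words in the `x_r(1)` are equal when they agree modulo 2. -/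
theorem Cert.oneProd_eq_of_eq2 {w w' : List ℕ} (hw : ∀ r ∈ w, r < T.n) (hw' : ∀ r ∈ w', r < T.n)
    (e : T.eq2 w w' = true) : oneProd D F w = oneProd D F w' := by
  refine Units.ext (Matrix.ext fun row col => ?_)
  simp only [Tab.eq2, List.all_eq_true, List.mem_range, List.isEmpty_iff] at e
  have h1 := congrFun (h.oneProd_col (F := F) hw col).1 row
  have h2 := congrFun (h.oneProd_col (F := F) hw' col).1 row
  rw [h1, h2]
  have h3 := congrFun (cvec_parity (F := F) D (T.app2 w (enc col) ++ T.app2 w' (enc col))) row
  rw [e _ (enc_lt h.agrees col), cvec_append, Pi.add_apply] at h3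
  rw [show cvec D F [] row = 0 by simp [cvec]] at h3
  exact CharTwo.add_eq_zero.1 h3.symm

omit h in
/-- A triangular list spans a space of the dimension its length, and detects membership. -/
def GoodBasis (D : ChevalleyDatum) (T : Tab) (F : Type*) [Field F] (B : List (ℕ × ℕ)) : Prop :=
  (∀ e ∈ B, e.1 < T.dim ∧ e.2.testBit e.1 = true) →
    Module.finrank F (Submodule.span F {x | ∃ e ∈ B, x = mvec D F e.2}) = B.length ∧
    ∀ x ∈ Submodule.span F {x | ∃ e ∈ B, x = mvec D F e.2},
      (∀ e ∈ B, ∀ c : D.Idx, enc c = e.1 → x c = 0) → x = 0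

omit h in
lemma reduceBy_span (B : List (ℕ × ℕ)) (v : ℕ) :
    mvec D F v - mvec D F (Tab.reduceBy B v) ∈
      Submodule.span F {x | ∃ e ∈ B, x = mvec D F e.2} := by
  induction B generalizing v with
  | nil => simp [Tab.reduceBy]
  | cons a B ih =>
    obtain ⟨p, b⟩ := a
    have hm : Submodule.span F {x | ∃ e ∈ B, x = mvec D F e.2} ≤
        Submodule.span F {x | ∃ e ∈ (p, b) :: B, x = mvec D F e.2} :=
      Submodule.span_mono fun x ⟨e, he, hx⟩ => ⟨e, List.mem_cons_of_mem _ he, hx⟩
    rw [Tab.reduceBy]
    cases hv : bmem v p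
    · exact hm (ih v)
    · rw [cond_true]
      have h1 := hm (ih (Nat.xor v b))
      have h2 : mvec D F b ∈ Submodule.span F {x | ∃ e ∈ (p, b) :: B, x = mvec D F e.2} :=
        Submodule.subset_span ⟨(p, b), List.mem_cons_self, rfl⟩
      have := sub_mem h1 h2
      rw [mvec_xor] at this
      convert this using 1
      abel

omit h in
/-- Pivots of earlier entries are not bits of later ones. -/
def Staircase (B : List (ℕ × ℕ)) : Prop :=
  B.Pairwise fun e e' => e'.2.testBit e.1 = false

omit h in
lemma testBit_reduceBy_of_clear {p : ℕ} : ∀ (B : List (ℕ × ℕ)) (v : ℕ),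
    (∀ e ∈ B, e.2.testBit p = false) → (Tab.reduceBy B v).testBit p = v.testBit p
  | [], _, _ => rfl
  | (q, b) :: B, v, hB => by
    rw [Tab.reduceBy]
    have h1 := hB (q, b) List.mem_cons_self
    have h2 := fun u => testBit_reduceBy_of_clear B u fun e he => hB e (List.mem_cons_of_mem _ he)
    cases bmem v q
    · exact h2 v
    · rw [cond_true, h2, show Nat.xor v b = v ^^^ b from rfl, Nat.testBit_xor]
      simp [h1]

omit h in
lemma testBit_reduceBy : ∀ (B : List (ℕ × ℕ)) (v : ℕ), (∀ e ∈ B, e.2.testBit e.1 = true) →
    Staircase B → ∀ e ∈ B, (Tab.reduceBy B v).testBit e.1 = false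
  | [], _, _, _, e, he => absurd he List.not_mem_nil
  | (p, b) :: B, v, hd, hs, e, he => by
    obtain ⟨hs1, hs2⟩ := List.pairwise_cons.1 hs
    have hd' : ∀ e ∈ B, e.2.testBit e.1 = true := fun e he => hd e (List.mem_cons_of_mem _ he)
    rw [Tab.reduceBy]
    rcases List.mem_cons.1 he with rfl | he
    · have h2 := fun u => testBit_reduceBy_of_clear (p := p) B u fun e' he' => hs1 e' he'
      cases hv : bmem v p
      · rw [cond_false, h2, ← bmem_eq, hv]
      · rw [cond_true, h2, show Nat.xor v b = v ^^^ b from rfl, Nat.testBit_xor, ← bmem_eq v p, hv,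
          hd (p, b) List.mem_cons_self]
        rfl
    · cases bmem v p <;> exact testBit_reduceBy B _ hd' hs2 e he

omit h [CharP F 2] in
lemma mvec_apply_false {v p : ℕ} (hv : v.testBit p = false) {c : D.Idx} (hc : enc c = p) :
    mvec D F v c = 0 := by simp [mvec, hc, hv]

omit [CharP F 2] in
lemma goodBasis_snoc {B : List (ℕ × ℕ)} {p b : ℕ} (hB : GoodBasis D T F B)
    (hz : ∀ e ∈ B, b.testBit e.1 = false) : GoodBasis D T F (B ++ [(p, b)]) := by
  intro hd
  obtain ⟨hrank, hsep⟩ := hB fun e he => hd e (List.mem_append_left _ he)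
  obtain ⟨hp, hb⟩ := hd (p, b) (List.mem_append_right _ List.mem_cons_self)
  obtain ⟨c0, hc0⟩ := exists_enc h.agrees hp
  have hb0 : mvec D F b c0 = 1 := by simp [mvec, hc0, hb]
  set W := Submodule.span F {x | ∃ e ∈ B, x = mvec D F e.2} with hW
  have hspan : Submodule.span F {x | ∃ e ∈ B ++ [(p, b)], x = mvec D F e.2} =
      W ⊔ Submodule.span F {mvec D F b} := by
    rw [hW, ← Submodule.span_union]
    congr 1
    ext x
    simp [or_and_right, exists_or, or_comm]
  have hnot : mvec D F b ∉ W := by
    intro hm
    have h0 := hsep _ hm fun e he c hc => mvec_apply_false (hz e he) hc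
    rw [h0] at hb0
    exact zero_ne_one hb0
  have hne : mvec D F b ≠ 0 := fun e => hnot (e ▸ zero_mem _)
  refine ⟨?_, fun x hx hz' => ?_⟩
  · rw [hspan]
    have hinf : W ⊓ Submodule.span F {mvec D F b} = ⊥ := by
      rw [eq_bot_iff]
      intro x hx
      obtain ⟨h1, h2⟩ := Submodule.mem_inf.1 hx
      obtain ⟨c, rfl⟩ := Submodule.mem_span_singleton.1 h2
      by_cases hc : c = 0
      · simp [hc]
      · exact absurd ((Submodule.smul_mem_iff W hc).1 h1) hnot
    have := Submodule.finrank_sup_add_finrank_inf_eq W (Submodule.span F {mvec D F b})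
    rw [hinf, finrank_bot, add_zero, hrank, finrank_span_singleton hne] at this
    rw [this, List.length_append, List.length_singleton]
  · rw [hspan] at hx
    obtain ⟨y, hy, z, hz2, rfl⟩ := Submodule.mem_sup.1 hx
    obtain ⟨c, rfl⟩ := Submodule.mem_span_singleton.1 hz2
    have hy0 : y = 0 := hsep y hy fun e he d hd' => by
      have h1 := hz' e (List.mem_append_left _ he) d hd'
      rwa [Pi.add_apply, Pi.smul_apply, mvec_apply_false (hz e he) hd', smul_zero, add_zero] at h1
    have h1 := hz' (p, b) (List.mem_append_right _ List.mem_cons_self) c0 hc0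
    rw [hy0, zero_add, Pi.smul_apply, hb0, smul_eq_mul, mul_one] at h1
    rw [hy0, h1, zero_smul, add_zero]

/-- The rank of `g - 1` for a product `g` of `x_r(1)`. -/
theorem Cert.rank_oneProd {w : List ℕ} (hw : ∀ r ∈ w, r < T.n) {k : ℕ}
    (e : T.chkRank w k = true) :
    ((oneProd D F w : Matrix D.Idx D.Idx F) - 1).rank = k := by
  simp only [Tab.chkRank, Bool.and_eq_true, List.all_eq_true, decide_eq_true_eq, bmem_eq] at e
  obtain ⟨⟨hdiag, hlen⟩, hlt⟩ := e
  have key : ∀ m ≤ T.dim, (∀ e ∈ (List.range m).foldl
        (fun B c => Tab.addBasis T.dim B (xmask (c :: T.app2 w c))) [],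
        e.1 < T.dim ∧ e.2.testBit e.1 = true) →
      GoodBasis D T F ((List.range m).foldl
        (fun B c => Tab.addBasis T.dim B (xmask (c :: T.app2 w c))) []) ∧
      Staircase ((List.range m).foldl
        (fun B c => Tab.addBasis T.dim B (xmask (c :: T.app2 w c))) []) ∧
      Submodule.span F {x | ∃ e ∈ (List.range m).foldl
        (fun B c => Tab.addBasis T.dim B (xmask (c :: T.app2 w c))) [], x = mvec D F e.2} =
      Submodule.span F {x | ∃ c < m, x = mvec D F (xmask (c :: T.app2 w c))} := by
    intro m
    induction m with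
    | zero =>
      intro _ _
      have h0 : Submodule.span F {x | ∃ e ∈ ([] : List (ℕ × ℕ)), x = mvec D F e.2} = ⊥ :=
        Submodule.span_eq_bot.2 (by simp)
      refine ⟨fun _ => ⟨?_, ?_⟩, List.Pairwise.nil, ?_⟩
      · rw [List.range_zero, List.foldl_nil, h0, finrank_bot]; rfl
      · intro x hx _
        rw [List.range_zero, List.foldl_nil, h0, Submodule.mem_bot] at hx
        exact hx
      · rw [List.range_zero, List.foldl_nil, h0, eq_comm, Submodule.span_eq_bot]
        simp
    | succ m ih =>
      intro hm hd
      rw [List.range_succ, List.foldl_append, List.foldl_cons, List.foldl_nil] at hd ⊢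
      have hset : Submodule.span F {x | ∃ c < m + 1, x = mvec D F (xmask (c :: T.app2 w c))} =
          Submodule.span F {x | ∃ c < m, x = mvec D F (xmask (c :: T.app2 w c))} ⊔
            Submodule.span F {mvec D F (xmask (m :: T.app2 w m))} := by
        rw [← Submodule.span_union]
        congr 1
        ext x
        simp only [Set.mem_ofPred_eq, Set.mem_union, Set.mem_singleton_iff]
        constructor
        · rintro ⟨c, hc, hx⟩
          rcases Nat.lt_succ_iff_lt_or_eq.1 hc with hc | rfl
          · exact Or.inl ⟨c, hc, hx⟩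
          · exact Or.inr hx
        · rintro (⟨c, hc, hx⟩ | hx)
          · exact ⟨c, by omega, hx⟩
          · exact ⟨m, by omega, hx⟩
      generalize (List.range m).foldl
        (fun B c => Tab.addBasis T.dim B (xmask (c :: T.app2 w c))) [] = B at ih hd ⊢
      generalize xmask (m :: T.app2 w m) = v at hd hset ⊢
      have hd0 : ∀ e ∈ B, e.1 < T.dim ∧ e.2.testBit e.1 = true := fun e he => hd e (by
        unfold Tab.addBasis; split
        · exact he
        · exact List.mem_append_left _ he)
      obtain ⟨h1, h2, h3⟩ := ih (by omega) hd0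
      have hred := reduceBy_span (D := D) (F := F) B v
      rw [h3] at hred
      unfold Tab.addBasis
      split
      · next h0 =>
        refine ⟨h1, h2, ?_⟩
        rw [hset, h3, eq_comm, sup_eq_left, Submodule.span_le, Set.singleton_subset_iff]
        rw [Nat.eq_of_beq_eq_true h0, mvec_zero, sub_zero] at hred
        exact hred
      · set b := Tab.reduceBy B v
        have hz : ∀ e ∈ B, b.testBit e.1 = false :=
          testBit_reduceBy B v (fun e he => (hd0 e he).2) h2
        refine ⟨goodBasis_snoc h h1 hz, List.pairwise_append.2 ⟨h2, List.pairwise_singleton _ _,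
          fun e he e' he' => by rw [List.mem_singleton] at he'; subst he'; exact hz e he⟩, ?_⟩
        rw [show {x | ∃ e ∈ B ++ [(Tab.lowBit b T.dim, b)], x = mvec D F e.2} =
            {x | ∃ e ∈ B, x = mvec D F e.2} ∪ {mvec D F b} by
          ext x; simp [or_and_right, exists_or, or_comm], Submodule.span_union, h3, hset]
        refine le_antisymm (sup_le le_sup_left ?_) (sup_le le_sup_left ?_) <;>
          rw [Submodule.span_le, Set.singleton_subset_iff]
        · have : mvec D F b = mvec D F v - (mvec D F v - mvec D F b) := by abel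
          rw [this]
          exact sub_mem (Submodule.mem_sup_right (Submodule.mem_span_singleton_self _))
            (Submodule.mem_sup_left hred)
        · have : mvec D F v = mvec D F b + (mvec D F v - mvec D F b) := by abel
          rw [this]
          exact add_mem (Submodule.mem_sup_right (Submodule.mem_span_singleton_self _))
            (Submodule.mem_sup_left hred)
  obtain ⟨h1, -, h3⟩ := key T.dim le_rfl fun e he => ⟨hlt e he, hdiag e he⟩
  obtain ⟨h1, -⟩ := h1 fun e he => ⟨hlt e he, hdiag e he⟩
  rw [Matrix.rank_eq_finrank_span_cols, ← Nat.eq_of_beq_eq_true hlen, Tab.echelon, ← h1, h3]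
  have hcol : ∀ col : D.Idx, ((oneProd D F w : Matrix D.Idx D.Idx F) - 1).col col =
      mvec D F (xmask (enc col :: T.app2 w (enc col))) := by
    intro col
    rw [mvec_xmask, show enc col :: T.app2 w (enc col) = [enc col] ++ T.app2 w (enc col) from rfl,
      cvec_append, ← (h.oneProd_col (F := F) hw col).1]
    funext row
    simp only [Matrix.col_apply, Matrix.sub_apply, Pi.add_apply, cvec, CharTwo.sub_eq_add]
    rw [add_comm]
    congr 1
    by_cases hc : row = col
    · subst hc; simp
    · have : ¬ enc col = enc row := fun e => hc (enc_injective e.symm)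
      simp [Matrix.one_apply, hc, this]
  suffices hs : Set.range ((oneProd D F w : Matrix D.Idx D.Idx F) - 1).col =
      {x | ∃ c < T.dim, x = mvec D F (xmask (c :: T.app2 w c))} by rw [hs]
  ext x
  constructor
  · rintro ⟨col, rfl⟩
    exact ⟨enc col, enc_lt h.agrees col, hcol col⟩
  · rintro ⟨c, hc, rfl⟩
    obtain ⟨col, rfl⟩ := exists_enc h.agrees hc
    exact ⟨col, hcol col⟩

end Sem

end CfsgLib.Chev
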