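import Cfsg.Agent.Lib.Chev.Twist
import Cfsg.Agent.Lib.Chev.TwistBN

/-!
Twists as root-permuting endomorphisms, and general helpers for the twisted groups.
-/

set_option autoImplicit false

namespace CfsgLib.Chev

open Cfsg.Lie Matrix

variable {D : ChevalleyDatum} {T : Tab} {C : Tab.Cover}

/-- The endomorphism of a twist. -/
noncomputable def Endo.ofTwist (h : Cert D T C) {F : Type*} [Field F] {W : Twist} {p : ℕ}
    [Kills F p] (hW : W.chk T p = true) (hI : Twist.chkFaith T W.img = true)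
    (hS : Twist.chkFaith T W.src = true) (f : F →+* F) {π : ℕ → ℕ}
    (hsym : RootSym T W.rt π)
    (hneg : ∀ r < T.n, W.dg (T.neg r) = W.dg r ∧
      (W.ep (T.neg r) : F) * (-1) ^ W.dg r = -(W.ep r : F))
    (hsimple : ((List.range T.l).all fun i => decide (W.ep (T.simple i) = 1)) = true) :
    Endo h F where
  hom := h.twistHom hW hI f
  ρ := W.rt
  π := π
  τ r t := (W.ep r : F) * f t ^ W.dg r
  sym := hsym
  inj := h.twistHom_injective hW hI hS f
  map_X r hr t x hx := h.twistHom_X hW hI f hr t x hx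
  neg_inv r hr t ht := by
    obtain ⟨h1, h2⟩ := hneg r hr
    have he : (W.ep r : F) * (W.ep r : F) = 1 := by
      rcases ((h.shape_spec hW).2.2.2.2.2.2 r hr).2.1 with e | e <;> simp [e]
    have hei : (W.ep r : F)⁻¹ = (W.ep r : F) := inv_eq_of_mul_eq_one_right he
    show (W.ep (T.neg r) : F) * f (-t⁻¹) ^ W.dg (T.neg r) = -((W.ep r : F) * f t ^ W.dg r)⁻¹
    rw [h1, map_neg, map_inv₀, neg_pow, ← mul_assoc, h2, inv_pow, mul_inv, hei, neg_mul]
  mul i hi a b := by
    simp only [List.all_eq_true, List.mem_range, decide_eq_true_eq] at hsimple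
    show (W.ep (T.simple i) : F) * f (a * b) ^ _ = _ * f a ^ _ * (_ * f b ^ _)
    rw [hsimple i hi, map_mul, mul_pow]
    simp
  one i hi := by
    simp only [List.all_eq_true, List.mem_range, decide_eq_true_eq] at hsimple
    show (W.ep (T.simple i) : F) * f 1 ^ _ = 1
    rw [hsimple i hi]
    simp

lemma wordOK_of_all {T : Tab} {w : List ℕ} (hw : (w.all fun i => decide (i < T.l)) = true) :
    WordOK T w := by
  simpa [WordOK, List.all_eq_true] using hw

/-- The roots commute with everything of a list: no terms and not opposite. -/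
def chkCommute (T : Tab) (a b : ℕ) : Bool :=
  decide (a < T.n) && (decide (b < T.n) &&
    (decide (a = b) || (decide (b ≠ T.neg a) && decide (T.commTerms a b = []))))

namespace Cert

variable (h : Cert D T C) {F : Type*} [Field F]
include h

lemma commute_X {a b : ℕ} (hc : chkCommute T a b = true) (t u : F) :
    Commute (X D a t) (X D b u) := by
  simp only [chkCommute, Bool.and_eq_true, Bool.or_eq_true, decide_eq_true_eq] at hc
  obtain ⟨ha, hb, hcase⟩ := hc
  show X D a t * X D b u = X D b u * X D a t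
  by_cases he : a = b
  · subst he; rw [h.X_add ha, h.X_add ha, add_comm]
  obtain ⟨hne, ht⟩ := hcase.resolve_left he
  have h1 := h.X_conj ha hb (Ne.symm he) hne t u
  rw [ht, List.map_nil, List.prod_nil, mul_one, ← h.X_inv ha] at h1
  conv_lhs => rw [← h1]
  group

lemma coe_eq_prod {g : GL D.Idx F} {w : List (ℕ × F)}
    (e : (g : Matrix D.Idx D.Idx F) = D.wordMat F w) :
    g = (w.map fun p => X D p.1 p.2).prod := Units.ext (e.trans (h.wordMat_eq_prod w))

lemma prod_mem_genSubgroup {S : Set (List (ℕ × F))} {w : List (ℕ × F)} (hw : w ∈ S) :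
    (w.map fun p => X D p.1 p.2).prod ∈ D.genSubgroup F S :=
  Subgroup.subset_closure ⟨w, hw, (h.wordMat_eq_prod w).symm⟩

lemma genSubgroup_le {S : Set (List (ℕ × F))} {K : Subgroup (GL D.Idx F)}
    (hK : ∀ w ∈ S, (w.map fun p => X D p.1 p.2).prod ∈ K) : D.genSubgroup F S ≤ K := by
  refine (Subgroup.closure_le _).2 ?_
  rintro g ⟨w, hw, e⟩
  rw [h.coe_eq_prod e]
  exact hK w hw

end Cert

/-- Roots pairwise commuting with their opposites. -/
def chkPairwise (T : Tab) : List ℕ → Bool
  | [] => true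
  | a :: L => chkPairwise T L && L.all fun b => chkCommute T a b && (chkCommute T a (T.neg b) &&
      (chkCommute T (T.neg a) b && chkCommute T (T.neg a) (T.neg b)))

namespace Cert

variable (h : Cert D T C) {F : Type*} [Field F]
include h

lemma prod_nU : ∀ (L : List (ℕ × F)), (∀ p ∈ L, p.1 < T.n) →
    chkPairwise T (L.map Prod.fst) = true →
    (L.map fun p => nU D p.1 p.2).prod =
      (L.map fun p => X D p.1 p.2).prod * (L.map fun p => X D (T.neg p.1) (-p.2⁻¹)).prod *
        (L.map fun p => X D p.1 p.2).prod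
  | [], _, _ => by simp
  | p :: L, hL, hc => by
    simp only [List.map_cons, chkPairwise, Bool.and_eq_true, List.all_eq_true, List.mem_map] at hc
    have ih := prod_nU L (fun q hq => hL q (List.mem_cons_of_mem _ hq)) hc.1
    simp only [List.map_cons, List.prod_cons]
    rw [ih, nU, h.neg_eq (hL p List.mem_cons_self)]
    set x := X D p.1 p.2
    set y := X D (T.neg p.1) (-p.2⁻¹)
    set P := (L.map fun p => X D p.1 p.2).prod
    set Q := (L.map fun p => X D (T.neg p.1) (-p.2⁻¹)).prod
    have hyP : Commute y P := Commute.list_prod_right _ _ fun z hz => by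
      obtain ⟨q, hq, rfl⟩ := List.mem_map.1 hz
      exact h.commute_X (hc.2 _ ⟨q, hq, rfl⟩).2.2.1 _ _
    have hxP : Commute x P := Commute.list_prod_right _ _ fun z hz => by
      obtain ⟨q, hq, rfl⟩ := List.mem_map.1 hz
      exact h.commute_X (hc.2 _ ⟨q, hq, rfl⟩).1 _ _
    have hxQ : Commute x Q := Commute.list_prod_right _ _ fun z hz => by
      obtain ⟨q, hq, rfl⟩ := List.mem_map.1 hz
      exact h.commute_X (hc.2 _ ⟨q, hq, rfl⟩).2.1 _ _
    calc x * y * x * (P * Q * P) = x * y * (x * P) * (Q * P) := by group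
      _ = x * y * (P * x) * (Q * P) := by rw [hxP.eq]
      _ = x * (y * P) * (x * Q) * P := by group
      _ = x * (P * y) * (Q * x) * P := by rw [hyP.eq, hxQ.eq]
      _ = x * P * (y * Q) * (x * P) := by group

lemma commute_nU {a b : ℕ} (hc : chkPairwise T [a, b] = true) (ha : a < T.n) (hb : b < T.n)
    (t u : F) : Commute (nU D a t) (nU D b u) := by
  simp only [chkPairwise, Bool.and_eq_true, List.all_eq_true, List.mem_singleton, forall_eq,
    List.not_mem_nil, false_implies, implies_true, and_true, true_and] at hc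
  obtain ⟨h1, h2, h3, h4⟩ := hc
  simp only [nU, h.neg_eq ha, h.neg_eq hb]
  have e1 : ∀ x y, Commute (X D a x) (X D b y : GL D.Idx F) := fun x y => h.commute_X h1 x y
  have e2 : ∀ x y, Commute (X D a x) (X D (T.neg b) y : GL D.Idx F) := fun x y => h.commute_X h2 x y
  have e3 : ∀ x y, Commute (X D (T.neg a) x) (X D b y : GL D.Idx F) := fun x y => h.commute_X h3 x y
  have e4 : ∀ x y, Commute (X D (T.neg a) x) (X D (T.neg b) y : GL D.Idx F) := fun x y =>
    h.commute_X h4 x y
  exact ((((e1 _ _).mul_right (e2 _ _)).mul_right (e1 _ _)).mul_left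
    (((e3 _ _).mul_right (e4 _ _)).mul_right (e3 _ _))).mul_left
    (((e1 _ _).mul_right (e2 _ _)).mul_right (e1 _ _))

end Cert

namespace Endo

variable {h : Cert D T C} {F : Type*} [Field F] (E : Endo h F)

lemma act_prod : ∀ (w : List (ℕ × F)), (∀ p ∈ w, p.1 < T.n) →
    E.act (w.map fun p => X D p.1 p.2).prod = (w.map fun p => X D (E.ρ p.1) (E.τ p.1 p.2)).prod
  | [], _ => by simpa using E.act_one
  | p :: w, hw => by
    simp only [List.map_cons, List.prod_cons]
    rw [E.act_mul (h.X_mem_group (hw p List.mem_cons_self) _) (list_prod_mem fun g hg => ?_),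
      E.act_X (hw p List.mem_cons_self), act_prod w fun q hq => hw q (List.mem_cons_of_mem _ hq)]
    obtain ⟨q, hq, rfl⟩ := List.mem_map.1 hg
    exact h.X_mem_group (hw q (List.mem_cons_of_mem _ hq)) _

lemma prod_mem_fix {w : List (ℕ × F)} (hw : ∀ p ∈ w, p.1 < T.n)
    (e : (w.map fun p => X D (E.ρ p.1) (E.τ p.1 p.2)).prod = (w.map fun p => X D p.1 p.2).prod) :
    (w.map fun p => X D p.1 p.2).prod ∈ E.fix := by
  refine E.mem_fix.2 ⟨list_prod_mem fun g hg => ?_, by rw [E.act_prod w hw, e]⟩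
  obtain ⟨q, hq, rfl⟩ := List.mem_map.1 hg
  exact h.X_mem_group (hw q hq) _

include h in
lemma free_of_chkBase {ρ : ℕ → ℕ} {base : List Orb} (hb : chkBase T ρ base = true) {b : Orb}
    (hbm : b ∈ base) :
    Free T (b.cls ρ) b.root ∧ (∀ x ∈ b.cls ρ, ρ x ∈ b.cls ρ) := by
  simp only [chkBase, List.all_eq_true, Bool.and_eq_true, decide_eq_true_eq, Bool.or_eq_true,
    List.contains_iff_mem] at hb
  obtain ⟨hsize, hP⟩ := hb b hbm
  have hmem : ∀ x, x ∈ b.cls ρ ↔ x ∈ b.list ρ ++ b.tail := fun x => by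
    simp [Orb.cls]
  have hterm : ∀ x ∈ b.cls ρ, ∀ y ∈ b.cls ρ, y ≠ x → ∀ q ∈ T.commTerms x y,
      q.1 ∈ b.cls ρ ∧ q.1 ≠ b.root := by
    intro x hx y hy hyx q hq
    have h1 := (((hP x ((hmem x).1 hx)).2.2 y ((hmem y).1 hy)).resolve_left hyx) q.1
      (List.mem_map.2 ⟨q, List.mem_append_left _ hq, rfl⟩)
    exact ⟨(hmem _).2 h1.1, h1.2⟩
  exact ⟨⟨fun x hx => (hP x ((hmem x).1 hx)).1,
    fun x hx y hy hyx q hq => (hterm x hx y hy hyx q hq).1,
    Or.inl (List.mem_map.2 ⟨0, List.mem_range.2 (Nat.pos_of_ne_zero hsize), rfl⟩),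
    fun x hx y hy hyx q hq => (hterm x hx y hy hyx q hq).2⟩,
    fun x hx => (hmem _).2 (hP x ((hmem x).1 hx)).2.1⟩

/-- A lift given by a word. -/
lemma lift_of_word {K : Subgroup (GL D.Idx F)} {base : List Orb}
    (hb : chkBase T E.ρ base = true) {b : Orb} (hbm : b ∈ base)
    (hw : ∀ t ∈ E.Adm b, ∃ w : List (ℕ × F), (∀ p ∈ w, p.1 ∈ b.list E.ρ ++ b.tail) ∧
      (w.map fun p => X D p.1 p.2).prod ∈ K ∧ (w.map fun p => X D p.1 p.2).prod ∈ E.fix ∧
      (w.map fun p => if p.1 = b.root then p.2 else 0).sum = t) : E.Lift K b := by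
  obtain ⟨hf, -⟩ := free_of_chkBase (h := h) hb hbm
  intro t ht
  obtain ⟨w, hwc, hwK, hwF, rfl⟩ := hw t ht
  have hwc' : ∀ p ∈ w, p.1 ∈ b.cls E.ρ := fun p hp => List.mem_append.1 (hwc p hp)
  refine ⟨_, hwK, hwF, list_prod_mem fun g hg => ?_, inC_word (h := h) hf w hwc'⟩
  obtain ⟨p, hp, rfl⟩ := List.mem_map.1 hg
  exact X_mem_gen D (hwc' p hp) _

end Endo

namespace Endo

open Cert (torusHom)

variable {h : Cert D T C} {F : Type*} [Field F] (E : Endo h F)

/-- Parameters of a fixed element of the torus differ from their image by a trivial parameter. -/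
lemma exists_param {g : GL D.Idx F} (hg : g ∈ E.fix ⊓ D.diagonalSubgroup F) :
    ∃ c : Fin T.l → Fˣ, torusHom (D := D) (T := T) c = g ∧
      c⁻¹ * E.tor c ∈ (torusHom (D := D) (T := T) (F := F)).ker := by
  obtain ⟨c, rfl⟩ := h.range_torusHom.ge hg.2
  refine ⟨c, rfl, ?_⟩
  rw [MonoidHom.mem_ker, map_mul, map_inv, ← E.act_torusHom, E.act_of_fix hg.1, inv_mul_cancel]

lemma torusHom_mem_fix {c : Fin T.l → Fˣ} (hc : E.tor c = c) :
    torusHom (D := D) (T := T) c ∈ E.fix ⊓ D.diagonalSubgroup F := by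
  have hd : torusHom (D := D) (T := T) c ∈ D.diagonalSubgroup F := h.range_torusHom.le ⟨c, rfl⟩
  exact Subgroup.mem_inf.2 ⟨E.mem_fix.2 ⟨h.diagonal_le_group hd, by rw [E.act_torusHom, hc]⟩, hd⟩

/-- The fixed parameters. -/
noncomputable def fixPar : Subgroup (Fin T.l → Fˣ) := E.tor.eqLocus (MonoidHom.id _)

lemma mem_fixPar {c : Fin T.l → Fˣ} : c ∈ E.fixPar ↔ E.tor c = c := Iff.rfl

/-- Counting the fixed torus by the fixed parameters. -/
theorem card_diag_fix
    (hsurj : ∀ c : Fin T.l → Fˣ, c⁻¹ * E.tor c ∈ (torusHom (D := D) (T := T) (F := F)).ker →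
      ∃ c', E.tor c' = c' ∧ torusHom (D := D) (T := T) c' = torusHom (D := D) (T := T) c) :
    Nat.card ↥((torusHom (D := D) (T := T) (F := F)).ker ⊓ E.fixPar) *
      Nat.card ↥(E.fix ⊓ D.diagonalSubgroup F) = Nat.card ↥E.fixPar := by
  let φ : ↥E.fixPar →* GL D.Idx F := (torusHom (D := D) (T := T)).comp E.fixPar.subtype
  have hr : φ.range = E.fix ⊓ D.diagonalSubgroup F := by
    ext g
    constructor
    · rintro ⟨c, rfl⟩; exact E.torusHom_mem_fix c.2
    · intro hg
      obtain ⟨c, rfl, hk⟩ := E.exists_param hg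
      obtain ⟨c', h1, h2⟩ := hsurj c hk
      exact ⟨⟨c', h1⟩, h2⟩
  have hk : Nat.card φ.ker =
      Nat.card ↥((torusHom (D := D) (T := T) (F := F)).ker ⊓ E.fixPar) :=
    Nat.card_congr
      { toFun := fun x => ⟨x.1.1, x.2, x.1.2⟩
        invFun := fun x => ⟨⟨x.1, x.2.2⟩, x.2.1⟩
        left_inv := fun x => rfl
        right_inv := fun x => rfl }
  rw [← hk, ← hr, ← Subgroup.index_ker, Subgroup.card_mul_index]

/-- The maps of the parameters, read on the units. -/
lemma tor_val (c : Fin T.l → Fˣ) (i : Fin T.l) :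
    ((E.tor c (E.πf i) : Fˣ) : F) = E.τ (T.simple i) (c i) := by
  rw [E.tor_apply]; rfl

end Endo

namespace Cert

variable (h : Cert D T C) {F : Type*} [Field F]
include h

/-- The kernel of the torus is killed by a multiple of the inverse Cartan matrix. -/
lemma ker_pow {Mi : Matrix (Fin T.l) (Fin T.l) ℤ} {N : ℕ}
    (hM : Mi * cartanT T = (N : ℤ) • 1) {z : Fin T.l → Fˣ}
    (hz : z ∈ (torusHom (D := D) (T := T) (F := F)).ker) (i : Fin T.l) : z i ^ N = 1 := by
  rw [h.ker_torusHom, MonoidHom.mem_ker] at hz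
  have h1 : matHom Mi (matHom (cartanT T) z) i = z i ^ N := by
    rw [← matHom_mul, hM, matHom_apply, Finset.prod_eq_single i]
    · simp [Matrix.smul_apply]
    · intro j _ hj; simp [Matrix.smul_apply, Matrix.one_apply_ne hj.symm]
    · simp
  rw [hz, map_one] at h1
  exact h1.symm

end Cert

/-- A Frobenius of a finite field. -/
theorem exists_frob {F : Type*} [Field F] [Fintype F] {q k : ℕ} (hq : IsPrimePow q)
    (hF : Fintype.card F = q ^ k) :
    ∃ f : F →+* F, ∀ t, f t = t ^ q := by
  obtain ⟨p, n, hp, hn, rfl⟩ := hq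
  rw [← pow_mul] at hF
  have hp' : p.Prime := Nat.prime_iff.2 hp
  have hk : k ≠ 0 := fun e => by
    subst e
    have := Fintype.one_lt_card (α := F)
    simp at hF
    omega
  haveI : Fact p.Prime := ⟨hp'⟩
  haveI : CharP F p := charP_of_card_eq_prime_pow hF
  exact ⟨iterateFrobenius F p n, fun t => iterateFrobenius_def p n t⟩

theorem exists_sq_ne_one {F : Type*} [Field F] [Fintype F] (hF : 4 ≤ Fintype.card F) :
    ∃ u : Fˣ, u ^ 2 ≠ 1 := by
  classical
  by_contra hne
  push Not at hne
  have hsub : (Finset.univ : Finset Fˣ) ⊆ {1, -1} := fun u _ => by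
    have h1 : (u : F) ^ 2 = 1 := by
      rw [← Units.val_pow_eq_pow_val, hne u, Units.val_one]
    rcases sq_eq_one_iff.1 h1 with e | e
    · exact Finset.mem_insert.2 (Or.inl (Units.ext e))
    · exact Finset.mem_insert.2 (Or.inr (Finset.mem_singleton.2 (Units.ext (by simpa using e))))
  have := (Finset.card_le_card hsub).trans Finset.card_le_two
  rw [Finset.card_univ, Fintype.card_units] at this
  omega

/-- Numbers of fixed points of a power map. -/
theorem card_units_pow_eq_one {F : Type*} [Field F] [Fintype F] (d : ℕ) :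
    Nat.card {u : Fˣ // u ^ d = 1} = (Fintype.card F - 1).gcd d := by
  have e : Nat.card Fˣ = Fintype.card F - 1 := by
    rw [Nat.card_units, Nat.card_eq_fintype_card]
  rw [← e, ← IsCyclic.card_powMonoidHom_ker]
  exact Nat.card_congr (Equiv.subtypeEquivRight fun u => by simp [MonoidHom.mem_ker])

theorem card_pow_eq_self {F : Type*} [Field F] [Fintype F] {q : ℕ} (hq : 1 ≤ q - 1)
    (hd : q - 1 ∣ Fintype.card F - 1) : Nat.card {t : F // t ^ q = t} = q := by
  classical
  let e : Option {u : Fˣ // u ^ (q - 1) = 1} → {t : F // t ^ q = t} := fun o =>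
    match o with
    | none => ⟨0, zero_pow (by omega)⟩
    | some u => ⟨u.1, by
        refine (congrArg (fun k => (u.1 : F) ^ k) (show q = q - 1 + 1 by omega)).trans ?_
        rw [pow_succ, ← Units.val_pow_eq_pow_val, u.2, Units.val_one, one_mul]⟩
  have hb : Function.Bijective e := by
    constructor
    · rintro (_ | u) (_ | v) e1
      · rfl
      · exact absurd (congrArg Subtype.val e1).symm v.1.ne_zero
      · exact absurd (congrArg Subtype.val e1) u.1.ne_zero
      · exact congrArg some (Subtype.ext (Units.ext (congrArg Subtype.val e1)))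
    · rintro ⟨t, ht⟩
      by_cases h0 : t = 0
      · exact ⟨none, Subtype.ext h0.symm⟩
      · refine ⟨some ⟨Units.mk0 t h0, Units.ext ?_⟩, Subtype.ext rfl⟩
        refine mul_right_cancel₀ h0 ?_
        rw [Units.val_pow_eq_pow_val, Units.val_mk0, Units.val_one, one_mul, ← pow_succ,
          show q - 1 + 1 = q by omega, ht]
  rw [← Nat.card_eq_of_bijective e hb, Finite.card_option, card_units_pow_eq_one,
    Nat.gcd_eq_right hd]
  omega

end CfsgLib.Chev
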