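import Cfsg.Agent.Lib.Chev.Invol
import Cfsg.Agent.Lib.Chev.TwistEndo

/-!
Certificates that sort the involutions of the fixed points of a root-permuting endomorphism of a
simply laced Chevalley group in characteristic 2.

All the field maps of the endomorphism are one automorphism `f`, of order 2 or 3. A state `(N, S)`
stands for the fixed involutions `∏_{n ∈ N} x_n(1) · y` with `y` in the group of the mask `S`.
-/

set_option autoImplicit false

namespace CfsgLib.Chev

open Cfsg.Lie Matrix

/-- A move of a certificate for a twisted group; `c`, `c₀`, `c₁` are earlier states. -/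
inductive TwMove where
  | leaf (k : ℕ)
  | solve (V L O : List ℕ) (eqn : Option (ℕ × List ℕ)) (c : ℕ)
  | branch (V L : List ℕ) (ms : List (List ℤ)) (c₀ c₁ : ℕ)
  | word (g : List ℕ) (c : ℕ)
  | demote (V : List ℕ) (c : ℕ)

/-- A state with its move. -/
structure TwState where
  N : List ℕ
  S : ℕ
  mv : TwMove

/-- States indexed by the bits of the index. -/
inductive TwTree where
  | leaf (v : TwState)
  | node (a b : TwTree)

/-- Lookup, least significant bit first. -/
noncomputable def TwTree.get (t : TwTree) : ℕ → TwState :=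
  TwTree.rec (motive := fun _ => ℕ → TwState) (fun v _ => v)
    (fun _ _ ga gb r => cond (Nat.beq (Nat.land r 1) 0) (ga (Nat.shiftRight r 1))
      (gb (Nat.shiftRight r 1))) t

namespace Tab

variable (T : Tab)

/-- A list is cyclically permuted, with pairwise commuting root groups. -/
noncomputable def cyc (ρ : ℕ → ℕ) (V : List ℕ) : Bool :=
  decide V.Nodup && (List.range V.length).all fun i => Nat.blt (V.getD i 0) T.n &&
    Nat.beq (ρ (V.getD i 0)) (V.getD ((i + 1) % V.length) 0) &&
    V.all fun w => T.modC (V.getD i 0) w 0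

/-- A list of positive roots closed under the odd terms. -/
noncomputable def posClosed (L : List ℕ) (R : ℕ) : Bool :=
  Nat.beq (xmask L) R && L.all fun r => Nat.ble T.half r && Nat.blt r T.n &&
    L.all fun s => Nat.ble s r || T.modC r s R

/-- The mask `S` splits as the orbit `V` over the closed list `L`. -/
noncomputable def chkTwSplit (ρ : ℕ → ℕ) (S : ℕ) (V L : List ℕ) : Bool :=
  Nat.blt 0 V.length && T.cyc ρ V && T.posClosed L (Nat.xor S (xmask V)) &&
    (V.all fun v => Nat.ble T.half v && bmem S v && T.normal v (Nat.xor S (xmask V)) &&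
      L.all fun r => T.modC r v (Nat.xor S (xmask V))) &&
    L.all fun r => bmem (Nat.xor S (xmask V)) (ρ r)

/-- The indices with an odd number of hits. -/
def oddIdx (m : ℕ) (hit : ℕ → List ℕ) : List ℕ :=
  (List.range m).filter fun j => decide ((hit j).length % 2 = 1)

/-- All exponents are one. -/
noncomputable def linHits (m : ℕ) (hit : ℕ → List ℕ) : Bool :=
  (List.range m).all fun j => (hit j).all fun e => Nat.beq e 1

/-- The indices of `V` that hit the root of the equation in the square. -/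
noncomputable def eqnIdx (N V : List ℕ) : Option (ℕ × List ℕ) → List ℕ
  | none => []
  | some (w, _) => oddIdx V.length fun j => T.forcedHits N (V.getD j 0) w

/-- The indices of `O` that hit the first root of `V`. -/
noncomputable def killIdx (N V O : List ℕ) : List ℕ :=
  oddIdx O.length fun i => T.killHits N (V.getD 0 0) (O.getD i 0)

/-- The systems of linear equations that can be solved. -/
def chkPat (ord k m : ℕ) (F K : List ℕ) : Bool :=
  (decide (m = 0) && decide (K = []) && decide (F.length = 1)) ||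
  (decide (m = k) && ((List.range k).any fun i => decide (K = [i]))) ||
  (decide (k = 1) && decide (m = ord) && decide (K = List.range ord)) ||
  (decide (k = ord) && decide (m = 1) && decide (K = [0]) &&
    (decide (F = [0, 1]) || (decide (ord = 3) && decide (F = [0, 2] ∨ F = [1, 2])))) ||
  (decide (ord = 3) && decide (k = 3) && decide (m = 3) && decide (F = [0, 1, 2]) &&
    decide (K = [0, 1] ∨ K = [0, 2] ∨ K = [1, 2]))

/-- The equation in the square is sound. -/
noncomputable def chkEqn (N V L : List ℕ) : Option (ℕ × List ℕ) → Bool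
  | none => true
  | some (w, LQ) =>
      Nat.ble T.half w && Nat.blt w T.n && !(bmem (xmask LQ) w) && T.posClosed LQ (xmask LQ) &&
        T.normal w (xmask LQ) &&
        (N.all fun a => T.modC a w (xmask LQ) && T.normal a (xmask LQ)) &&
        (V.all fun v => T.modC v w (xmask LQ) && T.normal v (xmask LQ) &&
          N.all fun a => T.modC a v (Nat.xor (xmask LQ) (2 ^ w))) &&
        (L.all fun r => bmem (Nat.xor (xmask LQ) (2 ^ w)) r) &&
        linHits V.length (fun j => T.forcedHits N (V.getD j 0) w)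

/-- The conjugations by the orbit `O` are sound. -/
noncomputable def chkOrb (ρ : ℕ → ℕ) (S : ℕ) (N V O : List ℕ) : Bool :=
  T.cyc ρ O && T.normal (V.getD 0 0) (Nat.xor S (2 ^ V.getD 0 0)) &&
    (N.all fun a => T.modC a (V.getD 0 0) (Nat.xor S (2 ^ V.getD 0 0)) &&
      T.normal a (Nat.xor S (2 ^ V.getD 0 0))) &&
    (O.all fun s => T.normal s (Nat.xor S (2 ^ V.getD 0 0)) &&
      T.modC s (V.getD 0 0) (Nat.xor S (2 ^ V.getD 0 0)) && N.all fun a => T.modC s a S) &&
    linHits O.length (fun i => T.killHits N (V.getD 0 0) (O.getD i 0))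

/-- A state carries the given product and contains the given mask. -/
noncomputable def twChild (st : ℕ → TwState) (i c : ℕ) (N' : List ℕ) (S' : ℕ) : Bool :=
  Nat.blt c i && decide (N'.Perm (st c).N) && Nat.beq (Nat.land S' (st c).S) S'

/-- One move. -/
noncomputable def chkTwMove (ρ π : ℕ → ℕ) (ord : ℕ) (tg : List (List ℕ)) (st : ℕ → TwState)
    (i : ℕ) (N : List ℕ) (S : ℕ) : TwMove → Bool
  | .leaf k =>
      Nat.beq S 0 && Nat.blt k tg.length && T.okN (tg.getD k []) &&
        decide (N.Perm (tg.getD k []))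
  | .solve V L O eqn c =>
      T.chkTwSplit ρ S V L && T.chkEqn N V L eqn && T.chkOrb ρ S N V O &&
        chkPat ord V.length O.length (T.eqnIdx N V eqn) (T.killIdx N V O) &&
        twChild st i c N (Nat.xor S (xmask V))
  | .branch V L ms c₀ c₁ =>
      T.chkTwSplit ρ S V L && decide (ms.length = V.length) &&
        (N.all fun a => ((List.range V.length).all fun e =>
          decide (T.mval (ms.getD e []) a = 0)) && V.all fun v => T.modC a v 0) &&
        ((List.range V.length).all fun e => (List.range T.l).all fun j =>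
          decide ((ms.getD ((e + 1) % V.length) []).getD (π j) 0 = (ms.getD e []).getD j 0)) &&
        ((List.range V.length).all fun e => Nat.beq e 0 ||
          decide (T.mval (ms.getD e []) (V.getD 0 0) = 0)) &&
        ((List.range 9).any fun k =>
          decide ((T.mval (ms.getD 0 []) (V.getD 0 0)).natAbs = 2 ^ k)) &&
        twChild st i c₀ N (Nat.xor S (xmask V)) &&
        twChild st i c₁ (N ++ V) (Nat.xor S (xmask V))
  | .word g c =>
      Nat.beq S 0 && (g.all fun s => Nat.blt s T.n && Nat.blt (ρ s) T.n) &&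
        T.eq2 (g.map ρ) g && T.eq2 (g ++ (N ++ g.reverse)) (st c).N &&
        Nat.blt c i
  | .demote V c =>
      Nat.beq S 0 && Nat.blt c i && decide (N.Perm ((st c).N ++ V)) &&
        V.all fun v => bmem (st c).S v

/-- A state of a certificate is sound. -/
noncomputable def chkTwState (ρ π : ℕ → ℕ) (ord : ℕ) (tg : List (List ℕ)) (st : ℕ → TwState)
    (i : ℕ) : Bool :=
  T.okN (st i).N && decide (((st i).N.map ρ).Perm (st i).N) &&
    T.chkTwMove ρ π ord tg st i (st i).N (st i).S (st i).mv

/-- A root state covering the unipotent group. -/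
noncomputable def chkTwRoot (s : TwState) : Bool :=
  decide (s.N = []) && allBelow T.n fun r => cond (Nat.ble T.half r) (bmem s.S r) true

end Tab

/-- What is asked of the field map. -/
structure FieldTwist {D : ChevalleyDatum} {T : Tab} {C : Tab.Cover} {h : Cert D T C} {F : Type*}
    [Field F] (E : Endo h F) (f : F →+* F) (ord : ℕ) : Prop where
  ord_cases : ord = 2 ∨ ord = 3
  cycle : ∀ t, f^[ord] t = t
  trace : ∀ a, f a = a → ∃ d, (∑ i ∈ Finset.range ord, f^[i] d) = a
  τ_eq : ∀ r < T.n, ∀ t, E.τ r t = f t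

/-- Every fixed involution of the state is conjugate, by a fixed element, to a target product. -/
def GoodTw {D : ChevalleyDatum} {T : Tab} {C : Tab.Cover} {h : Cert D T C} {F : Type*} [Field F]
    (E : Endo h F) (tg : List (List ℕ)) (N : List ℕ) (S : ℕ) : Prop :=
  ∀ y ∈ gen D F (maskSet T S), y ∈ E.fix → (oneProd D F N * y) * (oneProd D F N * y) = 1 →
    ∃ t ∈ tg, ∃ g ∈ E.fix, g * (oneProd D F N * y) * g⁻¹ = oneProd D F t

/-- What a checked splitting gives. -/
structure SplitOK (T : Tab) (ρ : ℕ → ℕ) (S R : ℕ) (V : List ℕ) : Prop where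
  len : 0 < V.length
  nodup : V.Nodup
  lt : ∀ v ∈ V, v < T.n
  pos : ∀ v ∈ V, v ∈ posSet T
  mem : ∀ v ∈ V, S.testBit v = true
  bits : ∀ x, R.testBit x = (S.testBit x && !decide (x ∈ V))
  rpos : ∀ r ∈ maskSet T R, r ∈ posSet T
  next : ∀ i < V.length, ρ (V.getD i 0) = V.getD ((i + 1) % V.length) 0
  comm : ∀ v ∈ V, ∀ w ∈ V, T.modC v w 0 = true
  left : ∀ v ∈ V, T.normal v R = true
  right : ∀ r ∈ maskSet T R, ∀ v ∈ V, T.modC r v R = true
  closed : ∀ r ∈ maskSet T R, ∀ s ∈ maskSet T R, r < s → T.modC r s R = true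
  stable : ∀ r ∈ maskSet T R, ρ r ∈ maskSet T R

lemma SplitOK.rset {T : Tab} {ρ : ℕ → ℕ} {S R : ℕ} {V : List ℕ} (hs : SplitOK T ρ S R V) :
    maskSet T R = maskSet T S \ {r | r ∈ V} := by
  ext x
  show (x < T.n ∧ R.testBit x = true) ↔ (x < T.n ∧ S.testBit x = true) ∧ ¬ x ∈ V
  rw [hs.bits]
  simp [and_assoc]

section Lists

variable {T : Tab}

lemma mem_getD {V : List ℕ} {i : ℕ} (hi : i < V.length) : V.getD i 0 ∈ V := by
  rw [List.getD_eq_getElem _ _ hi]; exact List.getElem_mem hi

lemma getD_inj {V : List ℕ} (hV : V.Nodup) {i j : ℕ} (hi : i < V.length) (hj : j < V.length)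
    (e : V.getD i 0 = V.getD j 0) : i = j := by
  rw [List.getD_eq_getElem _ _ hi, List.getD_eq_getElem _ _ hj] at e
  exact hV.getElem_inj_iff.1 e

lemma map_range_getD {α : Type*} (V : List ℕ) (g : ℕ → α) :
    (List.range V.length).map (fun i => g (V.getD i 0)) = V.map g := by
  refine List.ext_getElem (by simp) fun i h1 h2 => ?_
  simp only [List.getElem_map, List.getElem_range]
  rw [List.getD_eq_getElem]

lemma testBit_xmask : ∀ {L : List ℕ}, L.Nodup → ∀ x : ℕ, (xmask L).testBit x = decide (x ∈ L)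
  | [], _, x => by simp [xmask]
  | a :: L, hL, x => by
    obtain ⟨ha, hL'⟩ := List.nodup_cons.1 hL
    rw [show xmask (a :: L) = 2 ^ a ^^^ xmask L from rfl, Nat.testBit_xor, Nat.testBit_two_pow,
      testBit_xmask hL' x]
    by_cases e : a = x
    · subst e; simp [ha]
    · simp [e, Ne.symm e]

lemma modC_mono {T : Tab} {R M : ℕ} (hsub : ∀ x, R.testBit x = true → M.testBit x = true)
    {r s : ℕ} (e : T.modC r s R = true) : T.modC r s M = true := by
  simp only [Tab.modC, Bool.or_eq_true, Bool.and_eq_true] at e ⊢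
  rcases e with e | ⟨e1, e2⟩
  · exact Or.inl e
  refine Or.inr ⟨e1, ?_⟩
  unfold Tab.oddIn at e2 ⊢
  cases hb : (Nat.beq (Nat.shiftRight (Tab.blk (T.row r) s) 14) 0 &&
      Nat.beq (Nat.shiftRight (Tab.blk (T.row s) r) 14) 0) <;>
    simp only [hb, cond_true, cond_false] at e2 ⊢
  · rw [List.all_eq_true] at e2 ⊢
    intro q hq
    have := e2 q hq
    rw [bmem_eq] at this ⊢
    exact hsub _ this
  · cases hc : bmem (Tab.blk (T.row r) s) 9 <;> simp only [hc, cond_true, cond_false] at e2 ⊢
    rw [bmem_eq] at e2 ⊢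
    exact hsub _ e2

lemma posClosed_spec {L : List ℕ} {R : ℕ} (e : T.posClosed L R = true) :
    (∀ r ∈ maskSet T R, r ∈ L) ∧ (∀ r ∈ maskSet T R, r ∈ posSet T) ∧
      ∀ r ∈ maskSet T R, ∀ s ∈ maskSet T R, r < s → T.modC r s R = true := by
  simp only [Tab.posClosed, Bool.and_eq_true, List.all_eq_true] at e
  obtain ⟨e1, e2⟩ := e
  have hmem : ∀ r ∈ maskSet T R, r ∈ L := fun r hr => mem_of_testBit_xmask (by
    rw [Nat.eq_of_beq_eq_true e1]; exact hr.2)
  refine ⟨hmem, fun r hr => ⟨Nat.le_of_ble_eq_true (e2 r (hmem r hr)).1.1, hr.1⟩,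
    fun r hr s hs hrs => ?_⟩
  rcases Bool.or_eq_true _ _ ▸ (e2 r (hmem r hr)).2 s (hmem s hs) with e' | e'
  · exact absurd (Nat.le_of_ble_eq_true e') (by omega)
  · exact e'

lemma chkSplit_spec {ρ : ℕ → ℕ} {S : ℕ} {V L : List ℕ} (e : T.chkTwSplit ρ S V L = true) :
    SplitOK T ρ S (Nat.xor S (xmask V)) V := by
  simp only [Tab.chkTwSplit, Tab.cyc, Bool.and_eq_true, List.all_eq_true, List.mem_range,
    decide_eq_true_eq] at e
  obtain ⟨⟨⟨⟨h0, hnd, hc⟩, hcl⟩, hV⟩, hL⟩ := e
  set R := Nat.xor S (xmask V) with hR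
  obtain ⟨hmem, hpos, hclosed⟩ := posClosed_spec hcl
  have hVlt : ∀ v ∈ V, v < T.n := fun v hv => by
    obtain ⟨i, hi, rfl⟩ := List.getElem_of_mem hv
    have := Nat.le_of_ble_eq_true (hc i hi).1.1
    rw [List.getD_eq_getElem _ _ hi] at this
    exact this
  have hVS : ∀ v ∈ V, S.testBit v = true := fun v hv => by
    rw [← bmem_eq]; exact (hV v hv).1.1.2
  have hbit : ∀ x : ℕ, R.testBit x = (S.testBit x ^^ decide (x ∈ V)) := fun x => by
    rw [hR, show Nat.xor S (xmask V) = S ^^^ xmask V from rfl, Nat.testBit_xor, testBit_xmask hnd]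
  refine ⟨Nat.le_of_ble_eq_true h0, hnd, hVlt,
    fun v hv => ⟨Nat.le_of_ble_eq_true (hV v hv).1.1.1, hVlt v hv⟩, hVS, fun x => ?_, hpos,
    fun i hi => Nat.eq_of_beq_eq_true (hc i hi).1.2, ?_, fun v hv => (hV v hv).1.2,
    fun r hr v hv => (hV v hv).2 r (hmem r hr), hclosed, ?_⟩
  · rw [hbit]
    by_cases hx : x ∈ V
    · simp [hx, hVS x hx]
    · simp [hx]
  · intro v hv w hw
    obtain ⟨i, hi, rfl⟩ := List.getElem_of_mem hv
    have := (hc i hi).2 w hw
    rwa [List.getD_eq_getElem _ _ hi] at this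
  · intro r hr
    have h1 := hL r (hmem r hr)
    rw [bmem_eq] at h1
    have hxm : xmask L = R := by
      simp only [Tab.posClosed, Bool.and_eq_true] at hcl
      exact Nat.eq_of_beq_eq_true hcl.1
    have h2 := mem_of_testBit_xmask (L := L) (x := ρ r) (by rw [hxm]; exact h1)
    simp only [Tab.posClosed, Bool.and_eq_true, List.all_eq_true] at hcl
    exact ⟨Nat.le_of_ble_eq_true (hcl.2 _ h2).1.2, h1⟩

end Lists

section Sem

variable {D : ChevalleyDatum} {T : Tab} {C : Tab.Cover} {h : Cert D T C} {F : Type*} [Field F]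

namespace Endo

variable (E : Endo h F) {f : F →+* F} {ord : ℕ}

/-- The product along an orbit with parameters `d, f d, …`. -/
noncomputable def orbProd (D : ChevalleyDatum) (f : F →+* F) (V : List ℕ) (a : F) : GL D.Idx F :=
  ((List.range V.length).map fun i => X D (V.getD i 0) (f^[i] a)).prod

lemma act_listProd (hτ : ∀ r < T.n, ∀ t, E.τ r t = f t) (σ : ℕ → ℕ) (d : ℕ → F) :
    ∀ L : List ℕ, (∀ i ∈ L, σ i < T.n) → E.act (L.map fun i => X D (σ i) (d i)).prod =
      (L.map fun i => X D (E.ρ (σ i)) (f (d i))).prod := by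
  intro L hL
  have := E.act_prod (L.map fun i => (σ i, d i)) (by
    intro p hp
    obtain ⟨i, hi, rfl⟩ := List.mem_map.1 hp
    exact hL i hi)
  simp only [List.map_map, Function.comp_def] at this
  rw [this]
  exact congrArg List.prod (List.map_congr_left fun i hi => by rw [hτ _ (hL i hi)])

/-- The product along a cyclic list is fixed. -/
lemma orbProd_mem_fix [CharP F 2] (hτ : ∀ r < T.n, ∀ t, E.τ r t = f t) {O : List ℕ}
    (hc : T.cyc E.ρ O = true) {d : F} (hd : f^[O.length] d = d) : orbProd D f O d ∈ E.fix := by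
  simp only [Tab.cyc, Bool.and_eq_true, List.all_eq_true, List.mem_range, decide_eq_true_eq] at hc
  obtain ⟨-, hc⟩ := hc
  have hlt : ∀ i < O.length, O.getD i 0 < T.n := fun i hi => Nat.le_of_ble_eq_true (hc i hi).1.1
  rw [orbProd]
  refine E.mem_fix.2 ⟨list_prod_mem fun g hg => ?_, ?_⟩
  · obtain ⟨i, hi, rfl⟩ := List.mem_map.1 hg
    exact h.X_mem_group (hlt i (List.mem_range.1 hi)) _
  rw [E.act_listProd hτ (fun i => O.getD i 0) (fun i => f^[i] d) _
    fun i hi => hlt i (List.mem_range.1 hi)]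
  set g : ℕ → GL D.Idx F := fun i => X D (O.getD i 0) (f^[i] d) with hg
  have hstep : ((List.range O.length).map fun i => X D (E.ρ (O.getD i 0)) (f (f^[i] d))) =
      ((List.range O.length).map fun i => (i + 1) % O.length).map g := by
    rw [List.map_map]
    refine List.map_congr_left fun i hi => ?_
    have hi' := List.mem_range.1 hi
    rw [Nat.eq_of_beq_eq_true (hc i hi').1.2, Function.comp_apply, hg]
    congr 1
    rcases Nat.lt_or_ge (i + 1) O.length with h1 | h1
    · rw [Nat.mod_eq_of_lt h1, Function.iterate_succ_apply']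
    · rw [show i + 1 = O.length by omega, Nat.mod_self, Function.iterate_zero, id,
        ← Function.iterate_succ_apply' f i d, Nat.succ_eq_add_one, show i + 1 = O.length by omega,
        hd]
  rw [hstep]
  have hperm : ((List.range O.length).map fun i => (i + 1) % O.length).Perm
      (List.range O.length) := by
    refine (List.perm_ext_iff_of_nodup (List.nodup_range.map_on fun i hi j hj e => ?_)
      List.nodup_range).2 fun x => ?_
    · have := List.mem_range.1 hi
      have := List.mem_range.1 hj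
      rcases Nat.lt_or_ge (i + 1) O.length with h1 | h1 <;>
        rcases Nat.lt_or_ge (j + 1) O.length with h2 | h2
      · rw [Nat.mod_eq_of_lt h1, Nat.mod_eq_of_lt h2] at e; omega
      · rw [Nat.mod_eq_of_lt h1, show j + 1 = O.length by omega, Nat.mod_self] at e; omega
      · rw [Nat.mod_eq_of_lt h2, show i + 1 = O.length by omega, Nat.mod_self] at e; omega
      · omega
    · simp only [List.mem_map, List.mem_range]
      constructor
      · rintro ⟨i, hi, rfl⟩; exact Nat.mod_lt _ (by omega)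
      · intro hx
        rcases Nat.eq_zero_or_pos x with rfl | h1
        · exact ⟨O.length - 1, by omega, by rw [show O.length - 1 + 1 = O.length by omega, Nat.mod_self]⟩
        · exact ⟨x - 1, by omega, by rw [show x - 1 + 1 = x by omega, Nat.mod_eq_of_lt hx]⟩
  refine (hperm.map g).prod_eq' ?_
  rw [List.pairwise_map]
  refine List.pairwise_of_forall_mem_list fun a ha b hb => ?_
  have hlt' : ∀ a ∈ (List.range O.length).map (fun i => (i + 1) % O.length), a < O.length :=
    fun a ha => by
      obtain ⟨i, hi, rfl⟩ := List.mem_map.1 ha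
      exact Nat.mod_lt _ (by have := List.mem_range.1 hi; omega)
  exact h.commute_of_modC (hlt a (hlt' a ha)) (hlt b (hlt' b hb))
    ((hc a (hlt' a ha)).2 _ (mem_getD (hlt' b hb))) _ _

lemma oneProd_mem_fix [CharP F 2] (hτ : ∀ r < T.n, ∀ t, E.τ r t = f t) {N : List ℕ}
    (hok : T.okN N = true) (hp : (N.map E.ρ).Perm N) : oneProd D F N ∈ E.fix := by
  have hN := (h.okN_spec (F := F) hok).1
  refine E.mem_fix.2 ⟨h.oneProd_mem_group hN, ?_⟩
  have ha := E.act_listProd hτ (fun i => i) (fun _ => (1 : F)) N hN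
  simp only [map_one] at ha
  show E.act (N.map fun r => X D r (1 : F)).prod = _
  rw [ha]
  rw [show (N.map fun i => X D (E.ρ i) (1 : F)) = (N.map E.ρ).map fun r => X D r (1 : F) by
    rw [List.map_map]; rfl]
  exact h.oneProd_perm hok hp

end Endo

namespace Cert

variable [CharP F 2] (h) {S R : ℕ} {V : List ℕ} {ρ : ℕ → ℕ}
include h

omit [CharP F 2] h in
lemma mask_sub (hs : SplitOK T ρ S R V) {v x : ℕ} (hv : v ∈ V) (hx : x ∈ maskSet T R) :
    x ∈ maskSet T (Nat.xor S (2 ^ v)) := by
  rw [maskSet_xor (hs.mem v hv)]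
  rw [hs.rset] at hx
  exact ⟨hx.1, fun e => hx.2 (show x ∈ V by rw [Set.mem_singleton_iff.1 e]; exact hv)⟩

omit [CharP F 2] h in
lemma bits_sub (hs : SplitOK T ρ S R V) {v : ℕ} (hv : v ∈ V) {x : ℕ}
    (hb : R.testBit x = true) : (Nat.xor S (2 ^ v)).testBit x = true := by
  rw [hs.bits, Bool.and_eq_true, Bool.not_eq_true', decide_eq_false_iff_not] at hb
  rw [show Nat.xor S (2 ^ v) = S ^^^ 2 ^ v from rfl, Nat.testBit_xor, hb.1, Nat.testBit_two_pow,
    decide_eq_false fun e : v = x => hb.2 (e ▸ hv)]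
  rfl

/-- A root element of the orbit normalises the rest. -/
lemma orb_normal (hs : SplitOK T ρ S R V) {v w : ℕ} (hv : v ∈ V) (hw : w ∈ V) (t : F) :
    X D w t ∈ Subgroup.normalizer
      (gen D F (maskSet T (Nat.xor S (2 ^ v))) : Set (GL D.Idx F)) := by
  refine le_normalizer_closure (H := gen D F {w}) ?_ (X_mem_gen D (Set.mem_singleton w) t)
  rintro g hg x ⟨r, hr, u, rfl⟩
  obtain ⟨b, rfl⟩ := (h.gen_singleton (hs.lt w hw)).1 hg
  by_cases hrV : r ∈ V
  · rw [show X D w b * X D r u * (X D w b)⁻¹ = X D r u by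
      rw [(h.commute_of_modC (hs.lt w hw) (hs.lt r hrV) (hs.comm w hw r hrV) b u).eq,
        mul_inv_cancel_right]]
    exact X_mem_gen D hr u
  have hrR : r ∈ maskSet T R := by
    rw [hs.rset]; rw [maskSet_xor (hs.mem v hv)] at hr
    exact ⟨hr.1, hrV⟩
  have h1 : (X D r u)⁻¹ * (X D w b * X D r u * (X D w b)⁻¹) ∈ gen D F (maskSet T R) :=
    h.modC_spec (hs.lt w hw) hrR.1 (allBits_spec (hs.left w hw) r hrR.1 hrR.2) b u
  have := mul_mem (X_mem_gen D (F := F) hr u) (gen_mono D (fun x hx => mask_sub hs hv hx) h1)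
  rwa [mul_inv_cancel_left] at this

/-- The coordinate at a root of the orbit. -/
lemma orb_coord (hs : SplitOK T ρ S R V) {v : ℕ} (hv : v ∈ V) {e : F}
    (he : X D v e ∈ gen D F (maskSet T (Nat.xor S (2 ^ v)))) : e = 0 := by
  have hbit : (Nat.xor S (2 ^ v)).testBit v = false := by
    rw [show Nat.xor S (2 ^ v) = S ^^^ 2 ^ v from rfl, Nat.testBit_xor, hs.mem v hv,
      Nat.testBit_two_pow]
    simp
  have hcase : ∀ x ∈ maskSet T (Nat.xor S (2 ^ v)), x ∈ V ∨ x ∈ maskSet T R := fun x hx => by
    by_cases hxV : x ∈ V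
    · exact Or.inl hxV
    · rw [maskSet_xor (hs.mem v hv)] at hx
      rw [hs.rset]; exact Or.inr ⟨hx.1, hxV⟩
  have mono : ∀ a b, T.modC a b R = true → T.modC a b (Nat.xor S (2 ^ v)) = true :=
    fun a b => modC_mono fun x hx => bits_sub hs hv hx
  refine h.X_not_mem_gen (hs.pos v hv) hbit (fun x hx => ?_) (fun a ha b hb hab => ?_) he
  · rcases hcase x hx with hx' | hx'
    · exact hs.pos x hx'
    · exact hs.rpos x hx'
  · rcases hcase a ha with ha' | ha' <;> rcases hcase b hb with hb' | hb'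
    · exact modC_mono (fun x hx => by simp at hx) (hs.comm a ha' b hb')
    · exact mono _ _ (allBits_spec (hs.left a ha') b hb'.1 hb'.2)
    · exact mono _ _ (hs.right a ha' b hb')
    · exact mono _ _ (hs.closed a ha' b hb' hab)

/-- Modulo the other roots a product keeps one factor. -/
lemma prod_modQ_single {Q : Subgroup (GL D.Idx F)} {σ : ℕ → ℕ} {d : ℕ → F} {u : ℕ}
    (hu : ∀ t : F, X D u t ∈ Subgroup.normalizer (Q : Set (GL D.Idx F))) :
    ∀ L : List ℕ, L.Nodup → (∀ j ∈ L, σ j ≠ u → X D (σ j) (d j) ∈ Q) → ∀ j₀ ∈ L, σ j₀ = u →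
      (∀ j ∈ L, σ j = u → j = j₀) →
        ModQ Q (L.map fun j => X D (σ j) (d j)).prod (X D u (d j₀)) := by
  intro L
  induction L with
  | nil => intro _ _ j₀ hj; exact absurd hj List.not_mem_nil
  | cons a L ih =>
    intro hnd hQ j₀ hj₀ e huniq
    obtain ⟨ha, hnd'⟩ := List.nodup_cons.1 hnd
    rw [List.map_cons, List.prod_cons]
    by_cases haj : a = j₀
    · subst haj
      rw [e]
      show (X D u (d a))⁻¹ * _ ∈ Q
      rw [inv_mul_cancel_left]
      refine list_prod_mem fun g hg => ?_
      obtain ⟨j, hj, rfl⟩ := List.mem_map.1 hg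
      exact hQ j (List.mem_cons_of_mem _ hj) fun e' =>
        ha ((huniq j (List.mem_cons_of_mem _ hj) e') ▸ hj)
    · have h1 := ih hnd' (fun j hj => hQ j (List.mem_cons_of_mem _ hj)) j₀
        ((List.mem_cons.1 hj₀).resolve_left (Ne.symm haj)) e
        fun j hj => huniq j (List.mem_cons_of_mem _ hj)
      have h2 : ModQ Q (X D (σ a) (d a)) 1 := by
        show (1 : GL D.Idx F)⁻¹ * _ ∈ Q
        rw [inv_one, one_mul]
        exact hQ a List.mem_cons_self fun e' => haj (huniq a List.mem_cons_self e')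
      have h3 := h2.mul h1 (hu _)
      rwa [one_mul] at h3

/-- The product along the orbit times the rest exhausts the group of the mask. -/
lemma exists_orbSplit (hs : SplitOK T ρ S R V) {y : GL D.Idx F} (hy : y ∈ gen D F (maskSet T S)) :
    ∃ c : ℕ → F, ∃ r ∈ gen D F (maskSet T R), y = (V.map fun v => X D v (c v)).prod * r := by
  have key : ∀ L : List ℕ, L.Nodup → (∀ v ∈ L, v ∈ V) → ∀ y ∈ gen D F ({v | v ∈ L} ∪ maskSet T R),
      ∃ c : ℕ → F, ∃ r ∈ gen D F (maskSet T R), y = (L.map fun v => X D v (c v)).prod * r := by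
    intro L
    induction L with
    | nil =>
      intro _ _ y hy
      exact ⟨0, y, gen_mono D (by simp) hy, by simp⟩
    | cons v L ih =>
      intro hnd hL y hy
      obtain ⟨hvL, hnd'⟩ := List.nodup_cons.1 hnd
      have hv := hL v List.mem_cons_self
      set M := ({w | w ∈ L} ∪ maskSet T R : Set ℕ) with hM
      have hle : gen D F ({w | w ∈ v :: L} ∪ maskSet T R) ≤ gen D F {v} ⊔ gen D F M := by
        refine (Subgroup.closure_le _).2 ?_
        rintro _ ⟨r, hr, u, rfl⟩
        rcases hr with hr | hr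
        · rcases List.mem_cons.1 hr with rfl | hr
          · exact Subgroup.mem_sup_left (X_mem_gen D (Set.mem_singleton _) u)
          · exact Subgroup.mem_sup_right (X_mem_gen D (Or.inl hr) u)
        · exact Subgroup.mem_sup_right (X_mem_gen D (Or.inr hr) u)
      have hn : (gen D F {v} : Set (GL D.Idx F)) ⊆
          Subgroup.normalizer (gen D F M : Set (GL D.Idx F)) := by
        intro x hx
        refine le_normalizer_closure (H := gen D F {v}) ?_ hx
        rintro g hg z ⟨r, hr, u, rfl⟩
        obtain ⟨b, rfl⟩ := (h.gen_singleton (hs.lt v hv)).1 hg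
        rcases hr with hr | hr
        · rw [(h.commute_of_modC (hs.lt v hv) (hs.lt r (hL r (List.mem_cons_of_mem _ hr)))
            (hs.comm v hv r (hL r (List.mem_cons_of_mem _ hr))) b u).eq, mul_inv_cancel_right]
          exact X_mem_gen D (Or.inl hr) u
        · have h1 : (X D r u)⁻¹ * (X D v b * X D r u * (X D v b)⁻¹) ∈ gen D F (maskSet T R) :=
            h.modC_spec (hs.lt v hv) hr.1 (allBits_spec (hs.left v hv) r hr.1 hr.2) b u
          have := mul_mem (X_mem_gen D (F := F) (show r ∈ M from Or.inr hr) u)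
            (gen_mono D Set.subset_union_right h1)
          rwa [mul_inv_cancel_left] at this
      have hy' := hle hy
      rw [← SetLike.mem_coe, Subgroup.coe_mul_of_left_le_normalizer_right _ _ hn] at hy'
      obtain ⟨x, hx, z, hz, rfl⟩ := hy'
      obtain ⟨a, rfl⟩ := (h.gen_singleton (hs.lt v hv)).1 hx
      obtain ⟨c, r, hr, rfl⟩ := ih hnd' (fun w hw => hL w (List.mem_cons_of_mem _ hw)) z hz
      refine ⟨Function.update c v a, r, hr, ?_⟩
      rw [List.map_cons, List.prod_cons, Function.update_self, mul_assoc]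
      congr 3
      exact List.map_congr_left fun w hw => by
        rw [Function.update_of_ne fun e : w = v => hvL (e ▸ hw)]
  refine key V hs.nodup (fun v hv => hv) y (gen_mono D (fun x hx => ?_) hy)
  by_cases hxV : x ∈ V
  · exact Or.inl hxV
  · rw [hs.rset]; exact Or.inr ⟨hx, hxV⟩

/-- The orbit product times the rest, modulo the other roots. -/
lemma split_mod (hs : SplitOK T ρ S R V) (c : ℕ → F) {r : GL D.Idx F}
    (hr : r ∈ gen D F (maskSet T R)) {v : ℕ} (hv : v ∈ V) :
    ModQ (gen D F (maskSet T (Nat.xor S (2 ^ v)))) ((V.map fun w => X D w (c w)).prod * r)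
      (X D v (c v)) := by
  have hQ : r ∈ gen D F (maskSet T (Nat.xor S (2 ^ v))) := gen_mono D (fun x hx => mask_sub hs hv hx) hr
  have h1 : ModQ (gen D F (maskSet T (Nat.xor S (2 ^ v))))
      ((V.map fun w => X D w (c w)).prod * r) (V.map fun w => X D w (c w)).prod := by
    show ((V.map fun w => X D w (c w)).prod)⁻¹ * _ ∈ _
    rw [inv_mul_cancel_left]; exact hQ
  refine h1.trans (prod_modQ_single h (σ := fun w => w) (fun t => orb_normal h hs hv hv t) V hs.nodup
    (fun w hw hwv => X_mem_gen D ?_ _) v hv rfl fun w _ e => e)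
  rw [maskSet_xor (hs.mem v hv)]
  exact ⟨⟨hs.lt w hw, hs.mem w hw⟩, hwv⟩

end Cert

namespace Endo

variable [CharP F 2] (E : Endo h F) {f : F →+* F} {S R : ℕ} {V : List ℕ}

/-- The coordinates of a fixed element along the orbit. -/
lemma fix_coord (hτ : ∀ r < T.n, ∀ t, E.τ r t = f t) (hs : SplitOK T E.ρ S R V) {c : ℕ → F}
    {r : GL D.Idx F} (hr : r ∈ gen D F (maskSet T R))
    (hy : (V.map fun v => X D v (c v)).prod * r ∈ E.fix) :
    f^[V.length] (c (V.getD 0 0)) = c (V.getD 0 0) ∧
      (V.map fun v => X D v (c v)).prod * r = orbProd D f V (c (V.getD 0 0)) * r := by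
  have hAg : (V.map fun v => X D v (c v)).prod ∈ D.group F := list_prod_mem fun g hg => by
    obtain ⟨v, hv, rfl⟩ := List.mem_map.1 hg
    exact h.X_mem_group (hs.lt v hv) _
  have hrg : r ∈ D.group F := h.gen_le_group (fun x hx => hx.1) hr
  have hsucc : ∀ i < V.length, c (V.getD ((i + 1) % V.length) 0) = f (c (V.getD i 0)) := by
    intro i hi
    set u := V.getD ((i + 1) % V.length) 0 with hu
    have huV : u ∈ V := mem_getD (Nat.mod_lt _ (by omega))
    set Q := gen D F (maskSet T (Nat.xor S (2 ^ u))) with hQ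
    have hv := mem_getD (V := V) hi
    have e1 := h.split_mod hs c hr huV
    rw [← E.act_of_fix hy, E.act_mul hAg hrg,
      E.act_listProd hτ (fun v => v) c V hs.lt] at e1
    have hr' : E.act r ∈ Q := gen_mono D (fun x hx => Cert.mask_sub hs huV hx)
      (E.act_mem_gen (fun x hx => hx.1) hs.stable hr)
    have hρ : ∀ w ∈ V, E.ρ w ∈ V := fun w hw => by
      obtain ⟨j, hj, rfl⟩ := List.getElem_of_mem hw
      rw [← List.getD_eq_getElem V 0 hj, hs.next j hj]
      exact mem_getD (Nat.mod_lt _ (by omega))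
    have e2 := Cert.prod_modQ_single h (Q := Q) (σ := E.ρ) (d := fun v => f (c v)) (u := u)
      (fun t => h.orb_normal hs huV huV t) V hs.nodup (fun w hw hwu => X_mem_gen D (by
        rw [maskSet_xor (hs.mem u huV)]
        exact ⟨⟨hs.lt _ (hρ w hw), hs.mem _ (hρ w hw)⟩, hwu⟩) _) (V.getD i 0) hv (hs.next i hi)
      (fun w hw e => E.sym.inj w (hs.lt w hw) _ (hs.lt _ hv) (e.trans (hs.next i hi).symm))
    have e3 : ModQ Q (X D u (f (c (V.getD i 0)))) (X D u (c u)) := by
      refine e2.symm.trans (ModQ.trans ?_ e1)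
      show (_ * E.act r)⁻¹ * _ ∈ Q
      rw [_root_.mul_inv_rev, inv_mul_cancel_right]
      exact inv_mem hr'
    have e4 : X D u (c u + f (c (V.getD i 0))) ∈ Q := by
      rw [← h.X_add (hs.lt u huV), ← CharTwo.neg_eq (c u), ← h.X_inv (hs.lt u huV)]
      exact e3
    exact CharTwo.add_eq_zero.1 (h.orb_coord hs huV e4)
  have hiter : ∀ i < V.length, c (V.getD i 0) = f^[i] (c (V.getD 0 0)) := by
    intro i
    induction i with
    | zero => intro _; rfl
    | succ i ih =>
      intro hi
      have := hsucc i (by omega)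
      rw [Nat.mod_eq_of_lt hi] at this
      rw [this, ih (by omega), Function.iterate_succ_apply']
  refine ⟨?_, ?_⟩
  · have hl := hs.len
    have := hsucc (V.length - 1) (by omega)
    rw [show V.length - 1 + 1 = V.length by omega, Nat.mod_self, hiter (V.length - 1) (by omega),
      ← Function.iterate_succ_apply' f] at this
    rw [Nat.succ_eq_add_one, show V.length - 1 + 1 = V.length by omega] at this
    exact this.symm
  · rw [orbProd]
    congr 2
    rw [← map_range_getD V fun v => X D v (c v)]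
    exact List.map_congr_left fun i hi => by rw [hiter i (List.mem_range.1 hi)]

end Endo

namespace Cert

variable [CharP F 2] (h)
include h

/-- A root element moves past a product of root elements, modulo the mask. -/
lemma listProd_swap {w Q : ℕ} (hw : w < T.n) {σ : ℕ → ℕ} (d : ℕ → F) :
    ∀ L : List ℕ, (∀ j ∈ L, σ j < T.n ∧ T.modC (σ j) w Q = true ∧ T.normal (σ j) Q = true) →
      ∀ b : F, ModQ (gen D F (maskSet T Q)) (X D w b * (L.map fun j => X D (σ j) (d j)).prod)
        ((L.map fun j => X D (σ j) (d j)).prod * X D w b) := by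
  intro L
  induction L with
  | nil => intro _ b; exact ModQ.of_eq (by simp)
  | cons a L ih =>
    intro hL b
    obtain ⟨ha, hc, hn⟩ := hL a List.mem_cons_self
    rw [List.map_cons, List.prod_cons]
    set r := (L.map fun j => X D (σ j) (d j)).prod
    have hr : r ∈ Subgroup.normalizer (gen D F (maskSet T Q) : Set (GL D.Idx F)) :=
      list_prod_mem fun g hg => by
        obtain ⟨j, hj, rfl⟩ := List.mem_map.1 hg
        obtain ⟨hj1, -, hj3⟩ := hL j (List.mem_cons_of_mem _ hj)
        exact h.normal_spec hj1 hj3 _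
    have h1 := (((h.modC_spec ha hw hc (d a) b).swap (h.normal_spec ha hn _)).symm).mul_right hr
    have h2 := (ih (fun j hj => hL j (List.mem_cons_of_mem _ hj)) b).mul_left (X D (σ a) (d a))
    exact (ModQ.of_eq (mul_assoc _ _ _).symm).trans (h1.trans ((ModQ.of_eq (mul_assoc _ _ _)).trans
      (h2.trans (ModQ.of_eq (mul_assoc _ _ _).symm))))

/-- Conjugating a product of root elements by the product of `N`. -/
lemma forced_list {w Q : ℕ} (hw : w < T.n) (hwQ : T.normal w Q = true)
    (hbit : Q.testBit w = false) {σ : ℕ → ℕ} {N : List ℕ} (hN : ∀ b ∈ N, b < T.n)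
    (hn : ∀ b ∈ N, T.normal b Q = true) (hmw : ∀ b ∈ N, T.modC b w Q = true) (d : ℕ → F) :
    ∀ L : List ℕ, (∀ j ∈ L, σ j < T.n ∧ T.modC (σ j) w Q = true ∧ T.normal (σ j) Q = true ∧
        ∀ b ∈ N, T.modC b (σ j) (Nat.xor Q (2 ^ w)) = true) →
      ModQ (gen D F (maskSet T Q))
        (oneProd D F N * (L.map fun j => X D (σ j) (d j)).prod * (oneProd D F N)⁻¹)
        ((L.map fun j => X D (σ j) (d j)).prod *
          X D w (L.map fun j => ((T.forcedHits N (σ j) w).map fun e => d j ^ e).sum).sum) := by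
  have hR : maskSet T Q = maskSet T (Nat.xor Q (2 ^ w)) \ {w} := by
    ext x
    show (x < T.n ∧ Q.testBit x = true) ↔ (x < T.n ∧ (Q ^^^ 2 ^ w).testBit x = true) ∧ x ≠ w
    rw [Nat.testBit_xor, Nat.testBit_two_pow]
    by_cases e : x = w
    · subst e; simp [hbit]
    · simp [Ne.symm e, e]
  intro L
  induction L with
  | nil => intro _; exact ModQ.of_eq (by simp [h.X_zero hw])
  | cons a L ih =>
    intro hL
    obtain ⟨ha, hc, han, haN⟩ := hL a List.mem_cons_self
    have hL' := fun j hj => hL j (List.mem_cons_of_mem a hj)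
    simp only [List.map_cons, List.prod_cons, List.sum_cons]
    set r := (L.map fun j => X D (σ j) (d j)).prod
    set H := (L.map fun j => ((T.forcedHits N (σ j) w).map fun e => d j ^ e).sum).sum
    set k := ((T.forcedHits N (σ a) w).map fun e => d a ^ e).sum
    have e1 := h.forced_prod ha hw hR hwQ hN hn hmw haN (d a)
    have hr : r ∈ Subgroup.normalizer (gen D F (maskSet T Q) : Set (GL D.Idx F)) :=
      list_prod_mem fun g hg => by
        obtain ⟨j, hj, rfl⟩ := List.mem_map.1 hg
        exact h.normal_spec (hL' j hj).1 (hL' j hj).2.2.1 _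
    have hw' : ∀ t : F, X D w t ∈ Subgroup.normalizer (gen D F (maskSet T Q) : Set (GL D.Idx F)) :=
      h.normal_spec hw hwQ
    refine (ModQ.of_eq (by group)).trans ((e1.mul (ih hL') (mul_mem hr (hw' H))).trans ?_)
    have h2 := ((h.listProd_swap hw d L (fun j hj => ⟨(hL' j hj).1, (hL' j hj).2.1,
      (hL' j hj).2.2.1⟩) k).mul_left (X D (σ a) (d a))).mul_right (hw' H)
    simp only [mul_assoc] at h2 ⊢
    exact h2.trans (ModQ.of_eq (by rw [← h.X_add hw]))

/-- Conjugating the product of `N` by a product of root elements, at one root. -/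
lemma kill_list {v S : ℕ} (hv : v < T.n) (hS : S.testBit v = true)
    (hvn : T.normal v (Nat.xor S (2 ^ v)) = true) {N : List ℕ} (hN : ∀ a ∈ N, a < T.n)
    (hn : ∀ a ∈ N, T.normal a (Nat.xor S (2 ^ v)) = true)
    (hm : ∀ a ∈ N, T.modC a v (Nat.xor S (2 ^ v)) = true) {σ : ℕ → ℕ} (d : ℕ → F) :
    ∀ L : List ℕ, (∀ i ∈ L, σ i < T.n ∧ T.normal (σ i) (Nat.xor S (2 ^ v)) = true ∧
        T.modC (σ i) v (Nat.xor S (2 ^ v)) = true ∧ ∀ a ∈ N, T.modC (σ i) a S = true) →
      ((L.map fun i => X D (σ i) (d i)).prod ∈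
          Subgroup.normalizer (gen D F (maskSet T (Nat.xor S (2 ^ v))) : Set (GL D.Idx F))) ∧
      (∀ a : F, ModQ (gen D F (maskSet T (Nat.xor S (2 ^ v))))
        ((L.map fun i => X D (σ i) (d i)).prod * X D v a * ((L.map fun i => X D (σ i) (d i)).prod)⁻¹)
        (X D v a)) ∧
      ModQ (gen D F (maskSet T (Nat.xor S (2 ^ v))))
        ((L.map fun i => X D (σ i) (d i)).prod * oneProd D F N *
          ((L.map fun i => X D (σ i) (d i)).prod)⁻¹)
        (oneProd D F N *
          X D v (L.map fun i => ((T.killHits N v (σ i)).map fun e => d i ^ e).sum).sum) := by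
  intro L
  induction L with
  | nil =>
    intro _
    exact ⟨by simp, fun a => ModQ.of_eq (by simp), ModQ.of_eq (by simp [h.X_zero hv])⟩
  | cons a L ih =>
    intro hL
    obtain ⟨ha, han, hav, haN⟩ := hL a List.mem_cons_self
    obtain ⟨g1, g2, g3⟩ := ih fun j hj => hL j (List.mem_cons_of_mem a hj)
    simp only [List.map_cons, List.prod_cons, List.sum_cons]
    set r := (L.map fun i => X D (σ i) (d i)).prod
    set H := (L.map fun i => ((T.killHits N v (σ i)).map fun e => d i ^ e).sum).sum
    have hx := h.normal_spec (F := F) ha han (d a)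
    refine ⟨mul_mem hx g1, fun t => ?_, ?_⟩
    · exact (ModQ.of_eq (by group)).trans (((g2 t).conj hx).trans (h.modC_spec ha hv hav (d a) t))
    · refine (ModQ.of_eq (by group)).trans ((g3.conj hx).trans ?_)
      refine (ModQ.of_eq (show _ = (X D (σ a) (d a) * oneProd D F N * (X D (σ a) (d a))⁻¹) *
        (X D (σ a) (d a) * X D v H * (X D (σ a) (d a))⁻¹) by group)).trans ?_
      exact ((h.kill_prod ha hv hS hvn hN hn hm haN (d a)).mul (h.modC_spec ha hv hav (d a) H)
        (h.normal_spec hv hvn H)).trans (ModQ.of_eq (by rw [mul_assoc, h.X_add hv]))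

end Cert

omit h in
lemma sum_linHits [CharP F 2] (m : ℕ) (hit : ℕ → List ℕ) (d : ℕ → F) (e : Tab.linHits m hit = true) :
    ((List.range m).map fun j => ((hit j).map fun i => d j ^ i).sum).sum =
      ((Tab.oddIdx m hit).map d).sum := by
  simp only [Tab.linHits, List.all_eq_true] at e
  unfold Tab.oddIdx
  generalize List.range m = L at e
  induction L with
  | nil => rfl
  | cons j L ih =>
    have h1 : ((hit j).map fun i => d j ^ i).sum = ((hit j).length : F) * d j := by
      rw [List.map_congr_left (g := fun _ => d j) fun i hi => by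
        rw [Nat.eq_of_beq_eq_true (e j List.mem_cons_self i hi), pow_one]]
      simp
    rw [List.map_cons, List.sum_cons, ih fun j hj => e j (List.mem_cons_of_mem _ hj), h1,
      List.filter_cons]
    have h2 : ((hit j).length : F) = if (hit j).length % 2 = 1 then 1 else 0 := by
      have := intCast_odd (F := F) ((hit j).length : ℤ)
      rw [Int.cast_natCast] at this
      rw [this]
      congr 1
      exact propext (by omega)
    rw [h2]
    by_cases h3 : (hit j).length % 2 = 1 <;> simp [h3]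

/-- Conditions on a parameter and the conjugating parameters. -/
theorem pat_sound [CharP F 2] {E : Endo h F} {f : F →+* F} {ord : ℕ} (hE : FieldTwist E f ord)
    {k m : ℕ} {Fs K : List ℕ} (e : Tab.chkPat ord k m Fs K = true) {a : F} (ha : f^[k] a = a)
    (hF : (Fs.map fun j => f^[j] a).sum = 0) :
    ∃ d, f^[m] d = d ∧ (K.map fun i => f^[i] d).sum = a := by
  simp only [Tab.chkPat, Bool.and_eq_true, Bool.or_eq_true, decide_eq_true_eq, List.any_eq_true,
    List.mem_range] at e
  rcases e with (((e | e) | e) | e) | e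
  · obtain ⟨⟨rfl, rfl⟩, e⟩ := e
    obtain ⟨j, rfl⟩ := List.length_eq_one_iff.1 e
    simp only [List.map_cons, List.map_nil, List.sum_cons, List.sum_nil, add_zero] at hF
    refine ⟨0, rfl, ?_⟩
    have : a = 0 := f.injective.iterate j (by rw [hF, iterate_map_zero])
    simp [this]
  · obtain ⟨rfl, i, hi, rfl⟩ := e
    refine ⟨f^[m - i] a, ?_, ?_⟩
    · rw [← Function.iterate_add_apply, Nat.add_comm, Function.iterate_add_apply, ha]
    · simp only [List.map_cons, List.map_nil, List.sum_cons, List.sum_nil, add_zero]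
      rw [← Function.iterate_add_apply, show i + (m - i) = m by omega, ha]
  · obtain ⟨⟨rfl, rfl⟩, rfl⟩ := e
    obtain ⟨d, hd⟩ := hE.trace a ha
    exact ⟨d, hE.cycle d, hd⟩
  · obtain ⟨⟨⟨rfl, rfl⟩, rfl⟩, hFs⟩ := e
    have hf : f a = a := by
      rcases hFs with rfl | ⟨rfl, rfl | rfl⟩ <;>
        simp only [List.map_cons, List.map_nil, List.sum_cons, List.sum_nil, add_zero,
          Function.iterate_succ_apply', Function.iterate_zero, id] at hF ha
      · exact (CharTwo.add_eq_zero.1 hF).symm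
      · have := CharTwo.add_eq_zero.1 hF
        rw [← this] at ha
        exact ha
      · have := CharTwo.add_eq_zero.1 hF
        exact (f.injective this).symm
    exact ⟨a, by simp [hf], by simp⟩
  · obtain ⟨⟨⟨⟨rfl, rfl⟩, rfl⟩, rfl⟩, hK⟩ := e
    simp only [List.map_cons, List.map_nil, List.sum_cons, List.sum_nil, add_zero,
      Function.iterate_succ_apply', Function.iterate_zero, id] at hF ha
    rw [← add_assoc] at hF
    rcases hK with rfl | rfl | rfl
    · refine ⟨f a, by simp only [Function.iterate_succ_apply', Function.iterate_zero, id]; rw [ha], ?_⟩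
      simp only [List.map_cons, List.map_nil, List.sum_cons, List.sum_nil, add_zero,
        Function.iterate_succ_apply', Function.iterate_zero, id]
      rw [← CharTwo.add_eq_zero, ← hF]; ring
    · refine ⟨f (f a), by simp only [Function.iterate_succ_apply', Function.iterate_zero, id]; rw [ha], ?_⟩
      simp only [List.map_cons, List.map_nil, List.sum_cons, List.sum_nil, add_zero,
        Function.iterate_succ_apply', Function.iterate_zero, id]
      rw [ha, ← CharTwo.add_eq_zero, ← hF]; ring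
    · refine ⟨a, by simp only [Function.iterate_succ_apply', Function.iterate_zero, id]; rw [ha], ?_⟩
      simp only [List.map_cons, List.map_nil, List.sum_cons, List.sum_nil, add_zero,
        Function.iterate_succ_apply', Function.iterate_zero, id]
      rw [← CharTwo.add_eq_zero, ← hF]; ring

namespace Cert

variable (h)
include h

lemma torusHom_conj_X (w : Fin T.l → Fˣ) {r : ℕ} (hr : r < T.n) (t : F) :
    Cert.torusHom (D := D) (T := T) (F := F) w * X D r t *
      (Cert.torusHom (D := D) (T := T) (F := F) w)⁻¹ = X D r (charOf T (Cert.extC T w) r * t) := by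
  rw [mul_inv_eq_iff_eq_mul]
  refine Units.ext ?_
  rw [Units.val_mul, Units.val_mul, h.coe_X, h.coe_X]
  exact h.torus_mul_x (h.isChar_charOf fun i _ => Cert.extC_ne_zero w i) hr t

variable [CharP F 2]

lemma listProd_sq {σ : ℕ → ℕ} (d : ℕ → F) : ∀ L : List ℕ, (∀ j ∈ L, σ j < T.n) →
    (∀ i ∈ L, ∀ j ∈ L, T.modC (σ i) (σ j) 0 = true) →
    (L.map fun j => X D (σ j) (d j)).prod * (L.map fun j => X D (σ j) (d j)).prod = 1 := by
  intro L
  induction L with
  | nil => intro _ _; simp
  | cons a L ih =>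
    intro hL hc
    have ha := hL a List.mem_cons_self
    have h1 : Commute (X D (σ a) (d a)) (L.map fun j => X D (σ j) (d j)).prod :=
      Commute.list_prod_right _ _ fun g hg => by
        obtain ⟨j, hj, rfl⟩ := List.mem_map.1 hg
        exact h.commute_of_modC ha (hL j (List.mem_cons_of_mem _ hj))
          (hc a List.mem_cons_self j (List.mem_cons_of_mem _ hj)) _ _
    simp only [List.map_cons, List.prod_cons]
    rw [mul_assoc, ← mul_assoc (L.map fun j => X D (σ j) (d j)).prod, ← h1.eq, mul_assoc,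
      ih (fun j hj => hL j (List.mem_cons_of_mem _ hj)) (fun i hi j hj =>
        hc i (List.mem_cons_of_mem _ hi) j (List.mem_cons_of_mem _ hj)), mul_one, h.X_add ha,
      CharTwo.add_self_eq_zero, h.X_zero ha]

lemma oneProd_reverse : ∀ L : List ℕ, (∀ s ∈ L, s < T.n) →
    oneProd D F L.reverse = (oneProd D F L)⁻¹ := by
  intro L
  induction L with
  | nil => intro _; simp [oneProd]
  | cons a L ih =>
    intro hL
    rw [List.reverse_cons, oneProd_append, ih fun s hs => hL s (List.mem_cons_of_mem _ hs),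
      show oneProd D F [a] = X D a 1 by simp [oneProd], oneProd_cons, _root_.mul_inv_rev,
      h.X_inv (hL a List.mem_cons_self), CharTwo.neg_eq]

/-- The parameter of the orbit satisfies the equation of the square. -/
lemma square_eqn {ρ : ℕ → ℕ} {S R : ℕ} {V L N : List ℕ} {eqn : Option (ℕ × List ℕ)}
    (hs : SplitOK T ρ S R V) (hRL : ∀ r ∈ maskSet T R, r ∈ L) (hok : T.okN N = true)
    (he : T.chkEqn N V L eqn = true) {d : ℕ → F} {r : GL D.Idx F}
    (hr : r ∈ gen D F (maskSet T R))
    (hsq : (oneProd D F N * (((List.range V.length).map fun j => X D (V.getD j 0) (d j)).prod * r)) *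
      (oneProd D F N * (((List.range V.length).map fun j => X D (V.getD j 0) (d j)).prod * r)) = 1) :
    ((T.eqnIdx N V eqn).map d).sum = 0 := by
  rcases eqn with _ | ⟨w, LQ⟩
  · simp [Tab.eqnIdx]
  simp only [Tab.chkEqn, Bool.and_eq_true, List.all_eq_true, Bool.not_eq_true', bmem_eq] at he
  obtain ⟨⟨⟨⟨⟨⟨⟨⟨hw0, hw⟩, hbit⟩, hQ⟩, hwQ⟩, hN3⟩, hV3⟩, hL3⟩, hlin⟩ := he
  have hw : w < T.n := Nat.le_of_ble_eq_true hw
  obtain ⟨-, hQpos, hQcl⟩ := posClosed_spec hQ
  generalize hQd : xmask LQ = Q at hbit hwQ hN3 hV3 hL3 hQpos hQcl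
  have hN := (h.okN_spec (F := F) hok).1
  have hNQ := h.oneProd_mem_normalizer (F := F) hN fun b hb => (hN3 b hb).2
  have hwn : ∀ t : F, X D w t ∈ Subgroup.normalizer (gen D F (maskSet T Q) : Set (GL D.Idx F)) :=
    h.normal_spec hw hwQ
  have hxor : Nat.xor (Nat.xor Q (2 ^ w)) (2 ^ w) = Q := by
    show (Q ^^^ 2 ^ w) ^^^ 2 ^ w = Q
    rw [Nat.xor_assoc, Nat.xor_self, Nat.xor_zero]
  obtain ⟨b, r', hr', rfl⟩ := h.gen_split (S := Nat.xor Q (2 ^ w)) hw (by
      rw [show Nat.xor Q (2 ^ w) = Q ^^^ 2 ^ w from rfl, Nat.testBit_xor, hbit, Nat.testBit_two_pow]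
      simp)
    (by rw [hxor]; exact hwn) (gen_mono D (fun x hx =>
      (show x ∈ maskSet T (Nat.xor Q (2 ^ w)) from ⟨hx.1, hL3 x (hRL x hx)⟩)) hr)
  rw [hxor] at hr'
  have hVlt : ∀ j ∈ List.range V.length, V.getD j 0 < T.n := fun j hj =>
    hs.lt _ (mem_getD (List.mem_range.1 hj))
  have hV' := fun j (hj : j ∈ List.range V.length) => hV3 _ (mem_getD (List.mem_range.1 hj))
  have hswap := h.listProd_swap hw d (List.range V.length) (Q := Q) (σ := fun j => V.getD j 0)
    fun j hj => ⟨hVlt j hj, (hV' j hj).1.1, (hV' j hj).1.2⟩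
  have e1 := h.forced_list hw hwQ hbit hN (fun b hb => (hN3 b hb).2) (fun b hb => (hN3 b hb).1) d
    (List.range V.length) (σ := fun j => V.getD j 0)
    fun j hj => ⟨hVlt j hj, (hV' j hj).1.1, (hV' j hj).1.2, (hV' j hj).2⟩
  rw [sum_linHits _ _ d hlin] at e1
  show ((Tab.oddIdx V.length fun j => T.forcedHits N (V.getD j 0) w).map d).sum = 0
  set H := ((Tab.oddIdx V.length fun j => T.forcedHits N (V.getD j 0) w).map d).sum
  set A := ((List.range V.length).map fun j => X D (V.getD j 0) (d j)).prod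
  set P := oneProd D F N
  have hA : A ∈ Subgroup.normalizer (gen D F (maskSet T Q) : Set (GL D.Idx F)) :=
    list_prod_mem fun g hg => by
      obtain ⟨j, hj, rfl⟩ := List.mem_map.1 hg
      exact h.normal_spec (hVlt j hj) (hV' j hj).1.2 _
  have hAA : A * A = 1 := h.listProd_sq d _ hVlt fun i hi j hj =>
    hs.comm _ (mem_getD (List.mem_range.1 hi)) _ (mem_getD (List.mem_range.1 hj))
  have hPP : P⁻¹ = P := inv_eq_of_mul_eq_one_right (h.oneProd_sq hok)
  have e3 : ModQ (gen D F (maskSet T Q)) (P * X D w b * P⁻¹) (X D w b) := by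
    have := (h.oneProd_swap hw hN (fun x hx => (hN3 x hx).2) hwQ (fun x hx => (hN3 x hx).1)
      b).mul_right (inv_mem hNQ)
    rwa [mul_inv_cancel_right] at this
  have hy : P * (A * X D w b) ∈ Subgroup.normalizer (gen D F (maskSet T Q) : Set (GL D.Idx F)) :=
    mul_mem hNQ (mul_mem hA (hwn b))
  have hx : ModQ (gen D F (maskSet T Q)) (P * (A * (X D w b * r'))) (P * (A * X D w b)) := by
    show (P * (A * X D w b))⁻¹ * _ ∈ _
    rw [show (P * (A * X D w b))⁻¹ * (P * (A * (X D w b * r'))) = r' by group]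
    exact hr'
  have e4 : ModQ (gen D F (maskSet T Q)) (P * (A * X D w b) * (P * (A * X D w b))) (X D w H) := by
    have h1 : P * (A * X D w b) * (P * (A * X D w b)) =
        (P * A * P⁻¹) * (P * X D w b * P⁻¹) * (A * X D w b) := by
      simp only [hPP]
      simp only [mul_assoc]
      rw [← mul_assoc P P, h.oneProd_sq hok, one_mul]
    refine (ModQ.of_eq h1).trans (((e1.mul e3 (hwn b)).mul_right (mul_mem hA (hwn b))).trans ?_)
    have h2 := ((hswap (H + b)).mul_left A).mul_right (hwn b)
    refine (ModQ.of_eq ?_).trans (h2.trans (ModQ.of_eq ?_))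
    · rw [← h.X_add hw]; simp only [mul_assoc]
    · rw [← mul_assoc A A, hAA, one_mul, h.X_add hw, add_assoc, CharTwo.add_self_eq_zero, add_zero]
  have e5 : ModQ (gen D F (maskSet T Q)) 1 (X D w H) :=
    ((ModQ.of_eq hsq.symm).trans (hx.mul hx hy)).trans e4
  have e6 : X D w H ∈ gen D F (maskSet T Q) := by
    have := inv_mem (show (X D w H)⁻¹ * 1 ∈ gen D F (maskSet T Q) from e5)
    rwa [mul_one, inv_inv] at this
  exact h.X_not_mem_gen ⟨Nat.le_of_ble_eq_true hw0, hw⟩ hbit hQpos hQcl e6

end Cert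

namespace Endo

variable [CharP F 2] (E : Endo h F) {f : F →+* F} {ord : ℕ}

omit [CharP F 2] in
include E in
lemma orbProd_zero {V : List ℕ} (hV : ∀ v ∈ V, v < T.n) : orbProd D f V (0 : F) = 1 := by
  refine List.prod_eq_one fun g hg => ?_
  obtain ⟨i, hi, rfl⟩ := List.mem_map.1 hg
  rw [iterate_map_zero, h.X_zero (hV _ (mem_getD (List.mem_range.1 hi)))]

omit [CharP F 2] in
lemma orbProd_one (V : List ℕ) : orbProd D f V (1 : F) = oneProd D F V := by
  rw [orbProd, oneProd, ← map_range_getD V fun v => X D v (1 : F)]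
  simp only [iterate_map_one]

/-- A fixed torus element making one parameter one. -/
lemma exists_branch_torus [Finite F] (hE : FieldTwist E f ord) {V : List ℕ} {ms : List (List ℤ)}
    (hk : 0 < V.length)
    (hpi : ∀ e < V.length, ∀ j < T.l,
      (ms.getD ((e + 1) % V.length) []).getD (E.π j) 0 = (ms.getD e []).getD j 0)
    (hz : ∀ e < V.length, e = 0 ∨ T.mval (ms.getD e []) (V.getD 0 0) = 0) {j : ℕ}
    (hj : (T.mval (ms.getD 0 []) (V.getD 0 0)).natAbs = 2 ^ j) {a : F} (ha : a ≠ 0)
    (hfix : f^[V.length] a = a) :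
    ∃ c : Fin T.l → Fˣ, Cert.torusHom (D := D) (T := T) c ∈ E.fix ⊓ D.diagonalSubgroup F ∧
      (∀ x, (∀ e < V.length, T.mval (ms.getD e []) x = 0) → charOf T (Cert.extC T c) x = 1) ∧
      charOf T (Cert.extC T c) (V.getD 0 0) * a = 1 := by
  set t := T.mval (ms.getD 0 []) (V.getD 0 0) with ht
  have h2 : ∀ x y : F, x ^ 2 ^ j = y ^ 2 ^ j → x = y := fun x y e =>
    (iterateFrobenius_inj F 2 j) (by simpa [iterateFrobenius_def] using e)
  obtain ⟨μ, hμ, hμt, hμk⟩ : ∃ μ : F, μ ≠ 0 ∧ μ ^ t = a⁻¹ ∧ f^[V.length] μ = μ := by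
    rcases Int.natAbs_eq t with e' | e' <;> rw [hj] at e'
    · obtain ⟨c, hc⟩ := exists_pow_two_pow j a⁻¹
      refine ⟨c, fun e'' => ?_, ?_, h2 _ _ ?_⟩
      · rw [e'', zero_pow (by positivity)] at hc
        exact inv_ne_zero ha hc.symm
      · rw [e', zpow_natCast, hc]
      · rw [← RingHom.coe_pow, ← map_pow, hc, map_inv₀, RingHom.coe_pow, hfix]
    · obtain ⟨c, hc⟩ := exists_pow_two_pow j a
      refine ⟨c, fun e'' => ?_, ?_, h2 _ _ ?_⟩
      · rw [e'', zero_pow (by positivity)] at hc
        exact ha hc.symm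
      · rw [e', _root_.zpow_neg, zpow_natCast, hc]
      · rw [← RingHom.coe_pow, ← map_pow, hc, RingHom.coe_pow, hfix]
  set μu : Fˣ := Units.mk0 μ hμ
  set φ : ℕ → (Fˣ →* Fˣ) := fun e => Units.map ((f ^ e : F →+* F) : F →* F) with hφ
  have hφv : ∀ e (x : Fˣ), ((φ e x : Fˣ) : F) = f^[e] (x : F) := fun e x => by
    simp [hφ, RingHom.coe_pow]
  set c : Fin T.l → Fˣ := fun i => ∏ e ∈ Finset.range V.length,
    φ e (μu ^ (ms.getD e []).getD i 0) with hc
  have hfx : E.tor c = c := by
    funext i
    obtain ⟨i, rfl⟩ := (Finite.injective_iff_surjective.1 E.πf_injective) i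
    rw [E.tor_apply]
    refine Units.ext ?_
    rw [E.coe_τu, hE.τ_eq _ (h.simple_lt i.2), hc]
    simp only [Units.coe_prod, map_prod, hφv]
    obtain ⟨k, hk'⟩ : ∃ k, V.length = k + 1 := ⟨V.length - 1, by omega⟩
    rw [hk', Finset.prod_range_succ, Finset.prod_range_succ']
    congr 1
    · refine Finset.prod_congr rfl fun e he => ?_
      have he' : e + 1 < V.length := by rw [hk']; have := Finset.mem_range.1 he; omega
      have := hpi e (by omega) i i.2
      rw [Nat.mod_eq_of_lt he'] at this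
      show _ = f^[e + 1] ((μu ^ (ms.getD (e + 1) []).getD (E.π i) 0 : Fˣ) : F)
      rw [this, Function.iterate_succ_apply']
    · have := hpi k (by omega) i i.2
      rw [← hk', Nat.mod_self] at this
      show _ = f^[0] ((μu ^ (ms.getD 0 []).getD (E.π i) 0 : Fˣ) : F)
      rw [this, ← Function.iterate_succ_apply' f, Nat.succ_eq_add_one, ← hk',
        Function.iterate_zero, id, Units.val_zpow_eq_zpow_val, ← RingHom.coe_pow, map_zpow₀,
        RingHom.coe_pow, show ((μu : Fˣ) : F) = μ from rfl, hμk]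
  have hval : ∀ x, charOf T (Cert.extC T c) x =
      ∏ e ∈ Finset.range V.length, f^[e] (μ ^ T.mval (ms.getD e []) x) := by
    intro x
    have h1 : charOf T (Cert.extC T c) x = ((∏ i : Fin T.l, c i ^ T.car i x : Fˣ) : F) := by
      rw [charOf, Units.coe_prod, ← Fin.prod_univ_eq_prod_range]
      refine Finset.prod_congr rfl fun i _ => ?_
      simp [Cert.extC, Units.val_zpow_eq_zpow_val]
    rw [h1, hc]
    simp only [← Finset.prod_zpow, ← map_zpow, ← _root_.zpow_mul]
    rw [Finset.prod_comm, Units.coe_prod]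
    refine Finset.prod_congr rfl fun e _ => ?_
    rw [← map_prod, hφv, Units.coe_prod]
    congr 1
    simp only [Units.val_zpow_eq_zpow_val]
    rw [show ((μu : Fˣ) : F) = μ from rfl, Tab.mval,
      Fin.prod_univ_eq_prod_range (fun i => μ ^ ((ms.getD e []).getD i 0 * T.car i x)) T.l]
    induction T.l with
    | zero => simp
    | succ l ih =>
      rw [Finset.prod_range_succ, ih, List.range_succ, List.map_append, List.sum_append,
        List.map_singleton, List.sum_singleton, zpow_add₀ hμ]
  refine ⟨c, E.torusHom_mem_fix hfx, fun x hx => ?_, ?_⟩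
  · rw [hval]
    exact Finset.prod_eq_one fun e he => by
      rw [hx e (Finset.mem_range.1 he), zpow_zero, iterate_map_one]
  · rw [hval, Finset.prod_eq_single 0]
    · rw [Function.iterate_zero, id, ← ht, hμt, inv_mul_cancel₀ ha]
    · intro e he hne
      rw [(hz e (Finset.mem_range.1 he)).resolve_left hne, zpow_zero, iterate_map_one]
    · intro h0; exact absurd (Finset.mem_range.2 hk) h0

variable [Finite F] {tg : List (List ℕ)} {st : ℕ → TwState} {i : ℕ}
  (IH : ∀ c < i, T.okN (st c).N = true ∧ ((st c).N.map E.ρ).Perm (st c).N ∧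
    GoodTw E tg (st c).N (st c).S)
include IH

omit [Finite F] in
lemma use_twChild (hE : FieldTwist E f ord) {c : ℕ} (hc : c < i) {N' N : List ℕ}
    (hp : oneProd D F N' = oneProd D F (st c).N) {y g z : GL D.Idx F} (hg : g ∈ E.fix)
    (hz : z ∈ gen D F (maskSet T (st c).S))
    (hN : oneProd D F N * y ∈ E.fix)
    (hsq : (oneProd D F N * y) * (oneProd D F N * y) = 1)
    (heq : g * (oneProd D F N * y) * g⁻¹ = oneProd D F N' * z) :
    ∃ t ∈ tg, ∃ g ∈ E.fix, g * (oneProd D F N * y) * g⁻¹ = oneProd D F t := by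
  obtain ⟨hok, hperm, hgood⟩ := IH c hc
  rw [hp] at heq
  have hzf : z ∈ E.fix := by
    have h1 : oneProd D F (st c).N * z ∈ E.fix := heq ▸ mul_mem (mul_mem hg hN) (inv_mem hg)
    have h2 := mul_mem (inv_mem (E.oneProd_mem_fix hE.τ_eq hok hperm)) h1
    rwa [inv_mul_cancel_left] at h2
  obtain ⟨t, ht, k, hk, e⟩ := hgood z hz hzf (by
    rw [← heq, show g * (oneProd D F N * y) * g⁻¹ * (g * (oneProd D F N * y) * g⁻¹) =
      g * ((oneProd D F N * y) * (oneProd D F N * y)) * g⁻¹ by group, hsq]
    group)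
  exact ⟨t, ht, k * g, mul_mem hk hg, by rw [← e, ← heq]; group⟩

omit IH [CharP F 2] [Finite F] in
lemma twChild_spec {c : ℕ} {N' : List ℕ} {S' : ℕ} (e : Tab.twChild st i c N' S' = true) :
    c < i ∧ N'.Perm (st c).N ∧ maskSet T S' ⊆ maskSet T (st c).S := by
  simp only [Tab.twChild, Bool.and_eq_true, decide_eq_true_eq] at e
  obtain ⟨⟨e1, e2⟩, e3⟩ := e
  refine ⟨Nat.le_of_ble_eq_true e1, e2, fun r hr => ⟨hr.1, ?_⟩⟩
  have h1 : (S' &&& (st c).S).testBit r = true := by
    rw [show S' &&& (st c).S = S' from Nat.eq_of_beq_eq_true e3]; exact hr.2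
  rw [Nat.testBit_and, hr.2, Bool.true_and] at h1
  exact h1

/-- A checked move is sound. -/
theorem chkTwMove_sound (hE : FieldTwist E f ord) {N : List ℕ} {S : ℕ} (hok : T.okN N = true)
    (hperm : (N.map E.ρ).Perm N) (mv : TwMove)
    (e : T.chkTwMove E.ρ E.π ord tg st i N S mv = true) : GoodTw E tg N S := by
  obtain ⟨hN, hNc⟩ := h.okN_spec (F := F) hok
  have hPf := E.oneProd_mem_fix hE.τ_eq hok hperm
  intro y hy hyf hsq
  have hxf := mul_mem hPf hyf
  have htriv : Nat.beq S 0 = true → y = 1 := fun e0 => by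
    rw [Nat.eq_of_beq_eq_true e0, h.gen_empty fun r _ => Nat.zero_testBit r, Subgroup.mem_bot] at hy
    exact hy
  cases mv with
  | leaf k =>
    simp only [Tab.chkTwMove, Bool.and_eq_true, decide_eq_true_eq] at e
    obtain ⟨⟨⟨e1, e2⟩, e3⟩, e4⟩ := e
    have hk : k < tg.length := Nat.le_of_ble_eq_true e2
    refine ⟨tg.getD k [], ?_, 1, one_mem _, ?_⟩
    · rw [List.getD_eq_getElem _ _ hk]; exact List.getElem_mem hk
    · rw [htriv e1, h.oneProd_perm e3 e4]; group
  | solve V L O eqn c =>
    simp only [Tab.chkTwMove, Bool.and_eq_true] at e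
    obtain ⟨⟨⟨⟨hsp, heqn⟩, horb⟩, hpat⟩, hc⟩ := e
    have hs := chkSplit_spec hsp
    have hRL : ∀ r ∈ maskSet T (Nat.xor S (xmask V)), r ∈ L := by
      simp only [Tab.chkTwSplit, Bool.and_eq_true] at hsp
      exact (posClosed_spec hsp.1.1.2).1
    obtain ⟨hci, hp, hsub⟩ := twChild_spec (T := T) hc
    generalize hR : Nat.xor S (xmask V) = R at hs hRL hsub
    obtain ⟨c', r, hr, rfl⟩ := h.exists_orbSplit hs hy
    obtain ⟨ha, hyo⟩ := E.fix_coord hE.τ_eq hs hr hyf
    set v := V.getD 0 0 with hv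
    have hvV : v ∈ V := mem_getD hs.len
    set a := c' v
    have hF := h.square_eqn hs hRL hok heqn (d := fun j => f^[j] a) hr (by
      rw [hyo] at hsq; exact hsq)
    obtain ⟨d, hd, hsum⟩ := pat_sound hE hpat ha hF
    simp only [Tab.chkOrb, Bool.and_eq_true, List.all_eq_true] at horb
    obtain ⟨⟨⟨⟨hcyc, hvn⟩, hN3⟩, hO3⟩, hlin⟩ := horb
    have hg := E.orbProd_mem_fix hE.τ_eq hcyc hd
    simp only [Tab.cyc, Bool.and_eq_true, List.all_eq_true, List.mem_range] at hcyc
    obtain ⟨g1, g2, g3⟩ := h.kill_list (hs.lt v hvV) (hs.mem v hvV) hvn hN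
      (fun x hx => (hN3 x hx).2) (fun x hx => (hN3 x hx).1) (fun i => f^[i] d) (List.range O.length)
      (σ := fun i => O.getD i 0) fun j hj => by
        have hj' := List.mem_range.1 hj
        obtain ⟨⟨o1, o2⟩, o3⟩ := hO3 _ (mem_getD hj')
        exact ⟨Nat.le_of_ble_eq_true (hcyc.2 j hj').1.1, o1, o2, o3⟩
    rw [sum_linHits _ _ _ hlin] at g3
    replace g3 : ModQ _ (orbProd D f O d * oneProd D F N * (orbProd D f O d)⁻¹)
        (oneProd D F N * X D v ((T.killIdx N V O).map fun i => f^[i] d).sum) := g3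
    rw [hsum] at g3
    replace g1 : orbProd D f O d ∈ _ := g1
    replace g2 : ∀ t : F, ModQ _ (orbProd D f O d * X D v t * (orbProd D f O d)⁻¹) (X D v t) := g2
    set Q := gen D F (maskSet T (Nat.xor S (2 ^ v)))
    set g := orbProd D f O d
    set A := (V.map fun w => X D w (c' w)).prod
    set P := oneProd D F N
    have e1 : ModQ Q (g * (A * r) * g⁻¹) (X D v a) :=
      ((h.split_mod hs c' hr hvV).conj g1).trans (g2 a)
    have e2 : ModQ Q (g * (P * (A * r)) * g⁻¹) P := by
      refine (ModQ.of_eq (show _ = (g * P * g⁻¹) * (g * (A * r) * g⁻¹) by group)).trans ?_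
      refine (g3.mul e1 (h.normal_spec (hs.lt v hvV) hvn a)).trans (ModQ.of_eq ?_)
      rw [mul_assoc, h.X_add (hs.lt v hvV), CharTwo.add_self_eq_zero, h.X_zero (hs.lt v hvV), mul_one]
    set z := P⁻¹ * (g * (P * (A * r)) * g⁻¹) with hz
    have hzQ : z ∈ Q := e2
    have hzf : z ∈ E.fix := mul_mem (inv_mem hPf) (mul_mem (mul_mem hg hxf) (inv_mem hg))
    have hzS : z ∈ gen D F (maskSet T S) := gen_mono D (fun x hx => by
      rw [maskSet_xor (hs.mem v hvV)] at hx; exact hx.1) hzQ
    obtain ⟨c'', r', hr', hz'⟩ := h.exists_orbSplit hs hzS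
    obtain ⟨-, hz''⟩ := E.fix_coord hE.τ_eq hs hr' (hz' ▸ hzf)
    have h0 : c'' v = 0 := by
      refine h.orb_coord hs hvV ?_
      have h1 : (X D v (c'' v))⁻¹ * z ∈ Q := hz' ▸ h.split_mod hs c'' hr' hvV
      have := inv_mem (mul_mem h1 (inv_mem hzQ))
      rwa [mul_inv_cancel_right, inv_inv] at this
    refine E.use_twChild IH hE hci (h.oneProd_perm (IH c hci).1 hp) hg
      (gen_mono D hsub hr') hxf hsq ?_
    rw [show g * (P * (A * r)) * g⁻¹ = P * z by rw [hz]; group, hz', hz'', ← hv, h0,
      E.orbProd_zero hs.lt, one_mul]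
  | branch V L ms c₀ c₁ =>
    simp only [Tab.chkTwMove, Bool.and_eq_true, decide_eq_true_eq, List.all_eq_true, List.any_eq_true,
      List.mem_range, Bool.or_eq_true] at e
    obtain ⟨⟨⟨⟨⟨⟨⟨hsp, -⟩, hN3⟩, hpi⟩, hz0⟩, hpow⟩, hc0⟩, hc1⟩ := e
    have hs := chkSplit_spec hsp
    obtain ⟨hi0, hp0, hsub0⟩ := twChild_spec (T := T) hc0
    obtain ⟨hi1, hp1, hsub1⟩ := twChild_spec (T := T) hc1
    generalize hR : Nat.xor S (xmask V) = R at hs hsub0 hsub1
    obtain ⟨c', r, hr, rfl⟩ := h.exists_orbSplit hs hy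
    obtain ⟨ha, hyo⟩ := E.fix_coord hE.τ_eq hs hr hyf
    set v := V.getD 0 0 with hv
    have hvV : v ∈ V := mem_getD hs.len
    by_cases ha0 : c' v = 0
    · refine E.use_twChild IH hE hi0 (h.oneProd_perm (IH c₀ hi0).1 hp0) (one_mem _)
        (gen_mono D hsub0 hr) hxf hsq ?_
      rw [hyo, ha0, E.orbProd_zero hs.lt]; group
    obtain ⟨j, -, hj⟩ := hpow
    obtain ⟨w, huf, huN, huv⟩ := E.exists_branch_torus hE (V := V) (ms := ms) hs.len hpi
      (fun e he => (hz0 e he).imp Nat.eq_of_beq_eq_true id) hj ha0 ha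
    set u : GL D.Idx F := Cert.torusHom (D := D) (T := T) w
    have hconj : ∀ x < T.n, ∀ t : F, u * X D x t * u⁻¹ = X D x (charOf T (Cert.extC T w) x * t) :=
      fun x hx t => h.torusHom_conj_X w hx t
    set χ := charOf T (Cert.extC T w)
    have hA : ∀ L' : List ℕ, (∀ x ∈ L', x < T.n) → ∀ d : ℕ → F,
        u * (L'.map fun x => X D x (d x)).prod * u⁻¹ =
          (L'.map fun x => X D x (χ x * d x)).prod := by
      intro L'
      induction L' with
      | nil => intro _ d; simp
      | cons x L' ih =>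
        intro hL d
        rw [List.map_cons, List.prod_cons, List.map_cons, List.prod_cons,
          show u * (X D x (d x) * (L'.map fun x => X D x (d x)).prod) * u⁻¹ =
            u * X D x (d x) * u⁻¹ * (u * (L'.map fun x => X D x (d x)).prod * u⁻¹) by group,
          ih (fun y hy => hL y (List.mem_cons_of_mem _ hy)) d, hconj x (hL x List.mem_cons_self)]
    have hP : u * oneProd D F N * u⁻¹ = oneProd D F N := by
      show u * (N.map fun x => X D x (1 : F)).prod * u⁻¹ = _
      rw [hA N hN]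
      exact congrArg List.prod (List.map_congr_left fun x hx => by
        rw [mul_one, huN x (hN3 x hx).1])
    set r' := u * r * u⁻¹ with hr'
    have hr'' : r' ∈ gen D F (maskSet T R) := (Subgroup.mem_normalizer_iff.1
      (h.diagonal_le_normalizer_gen (fun x hx => hx.1) huf.2) r).1 hr
    have hzf : (V.map fun x => X D x (χ x * c' x)).prod * r' ∈ E.fix := by
      rw [← hA V hs.lt, hr', show ∀ A : GL D.Idx F, u * A * u⁻¹ * (u * r * u⁻¹) = u * (A * r) * u⁻¹
        from fun A => by group]
      exact mul_mem (mul_mem huf.1 hyf) (inv_mem huf.1)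
    obtain ⟨-, hz⟩ := E.fix_coord hE.τ_eq hs hr'' hzf
    rw [show χ v * c' v = 1 from huv, orbProd_one] at hz
    refine E.use_twChild IH hE hi1 (h.oneProd_perm (IH c₁ hi1).1 hp1) huf.1
      (gen_mono D hsub1 hr'') hxf hsq ?_
    rw [show u * (oneProd D F N * ((V.map fun x => X D x (c' x)).prod * r)) * u⁻¹ =
      u * oneProd D F N * u⁻¹ * (u * (V.map fun x => X D x (c' x)).prod * u⁻¹ * r') by
        rw [hr']; group, hP, hA V hs.lt, hz, oneProd_append, mul_assoc]
  | word g c =>
    simp only [Tab.chkTwMove, Bool.and_eq_true, List.all_eq_true] at e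
    obtain ⟨⟨⟨⟨e0, hg⟩, he1⟩, he2⟩, hci⟩ := e
    have hci : c < i := Nat.le_of_ble_eq_true hci
    have hg1 : ∀ s ∈ g, s < T.n := fun s hs => Nat.le_of_ble_eq_true (hg s hs).1
    have hc := (h.okN_spec (F := F) (IH c hci).1).1
    have e1 := h.oneProd_eq_of_eq2 (F := F) (fun a ha => by
      obtain ⟨s, hs, rfl⟩ := List.mem_map.1 ha
      exact Nat.le_of_ble_eq_true (hg s hs).2) hg1 he1
    have e2 := h.oneProd_eq_of_eq2 (F := F) (fun a ha => by
      rcases List.mem_append.1 ha with ha | ha
      · exact hg1 a ha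
      rcases List.mem_append.1 ha with ha | ha
      · exact hN a ha
      · exact hg1 a (List.mem_reverse.1 ha)) hc he2
    rw [oneProd_append, oneProd_append, h.oneProd_reverse g hg1, ← mul_assoc] at e2
    have hgf : oneProd D F g ∈ E.fix := by
      refine E.mem_fix.2 ⟨h.oneProd_mem_group hg1, ?_⟩
      have ha := E.act_listProd hE.τ_eq (fun i => i) (fun _ => (1 : F)) g hg1
      simp only [map_one] at ha
      show E.act (g.map fun r => X D r (1 : F)).prod = _
      rw [ha, ← e1]
      simp [oneProd, List.map_map, Function.comp_def]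
    refine E.use_twChild IH hE hci (N' := (st c).N) rfl hgf (one_mem _) hxf hsq ?_
    rw [htriv e0, mul_one, mul_one, e2]
  | demote V c =>
    simp only [Tab.chkTwMove, Bool.and_eq_true, List.all_eq_true, decide_eq_true_eq, bmem_eq] at e
    obtain ⟨⟨⟨e0, hci⟩, hp⟩, hV⟩ := e
    have hci : c < i := Nat.le_of_ble_eq_true hci
    refine E.use_twChild IH hE hci (N' := (st c).N) rfl (one_mem _) (z := oneProd D F V) ?_ hxf hsq ?_
    · refine list_prod_mem fun g hg => ?_
      obtain ⟨x, hx, rfl⟩ := List.mem_map.1 hg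
      exact X_mem_gen D (show x ∈ maskSet T (st c).S from
        ⟨hN x (hp.symm.subset (List.mem_append_right _ hx)), hV x hx⟩) _
    · rw [htriv e0, mul_one, one_mul, inv_one, mul_one, ← oneProd_append]
      refine ((hp.map fun r => X D r (1 : F)).prod_eq' ?_)
      rw [List.pairwise_map]
      exact List.pairwise_of_forall_mem_list fun a ha b hb => hNc a ha b hb

omit IH

/-- Checked certificates are sound. -/
theorem chkTwState_sound (hE : FieldTwist E f ord) {k : ℕ}
    (e : ∀ j < k, T.chkTwState E.ρ E.π ord tg st j = true) :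
    ∀ j < k, T.okN (st j).N = true ∧ ((st j).N.map E.ρ).Perm (st j).N ∧
      GoodTw E tg (st j).N (st j).S := by
  intro j
  induction j using Nat.strong_induction_on with
  | _ j ih =>
    intro hj
    have h1 := e j hj
    simp only [Tab.chkTwState, Bool.and_eq_true, decide_eq_true_eq] at h1
    exact ⟨h1.1.1, h1.1.2, E.chkTwMove_sound (fun c hc => ih c hc (lt_trans hc hj)) hE h1.1.1 h1.1.2
      _ h1.2⟩

/-- The number of classes of involutions of the fixed points, from targets of different ranks. -/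
theorem ncard_invol_of_cert (hE : FieldTwist E f ord) {k g M : ℕ}
    (hU : Nat.card ↥(E.fix ⊓ D.posUnipotent F) = 2 ^ k) (hM : ¬ 2 ∣ M)
    (hcard : g * Nat.card ↥E.fix = 2 ^ k * M)
    {tg : List (List ℕ)} (rk : List ℕ) (hlen : rk.length = tg.length) (hnd : rk.Nodup)
    (hrk : ((List.range tg.length).all fun i =>
      T.chkTarget (tg.getD i []) (rk.getD i 0) &&
        decide (((tg.getD i []).map E.ρ).Perm (tg.getD i []))) = true)
    {tgl : List (List ℕ)} (htgl : tgl = [] :: tg) {st : ℕ → TwState} {n : ℕ}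
    (hchk : ∀ j < n, T.chkTwState E.ρ E.π ord tgl st j = true) {r : ℕ} (hr : r < n)
    (hroot : T.chkTwRoot (st r) = true) :
    (ConjClasses.mk '' {g : ↥E.fix | orderOf g = 2}).ncard = tg.length := by
  classical
  have hp2 : Fact (Nat.Prime 2) := ⟨Nat.prime_two⟩
  simp only [List.all_eq_true, List.mem_range, Bool.and_eq_true, decide_eq_true_eq] at hrk
  have hsp := fun i : Fin tg.length => h.target_spec (F := F) (hrk i i.2).1
  have hmem : ∀ i : Fin tg.length, oneProd D F (tg.getD i []) ∈ E.fix := fun i => by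
    have e := (hrk i i.2).1
    simp only [Tab.chkTarget, Bool.and_eq_true] at e
    exact E.oneProd_mem_fix hE.τ_eq e.1.1 (hrk i i.2).2
  -- the fixed part of `U` is a Sylow subgroup
  have hle : E.fix ⊓ D.posUnipotent F ≤ E.fix := inf_le_left
  obtain ⟨m, hm⟩ := Subgroup.card_dvd_of_le hle
  rw [hU] at hm
  have hm0 : ∀ {n : ℕ}, ¬ 2 ∣ n → n ≠ 0 := fun hn e => hn (by rw [e]; exact dvd_zero 2)
  have hmodd : ¬ 2 ∣ m := fun hd => hM (by
    have e : g * m = M := Nat.eq_of_mul_eq_mul_left (pow_pos two_pos k)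
      (by rw [← hcard, hm]; ring)
    exact e ▸ Dvd.dvd.mul_left hd g)
  let P : Sylow 2 ↥E.fix := Sylow.ofCard ((E.fix ⊓ D.posUnipotent F).subgroupOf E.fix) (by
    rw [Nat.card_congr (Subgroup.subgroupOfEquivOfLe hle).toEquiv, hU, hm,
      Nat.factorization_mul (by positivity) (hm0 hmodd),
      Finsupp.add_apply, Nat.Prime.factorization_pow Nat.prime_two, Finsupp.single_eq_same,
      Nat.factorization_eq_zero_of_not_dvd hmodd, add_zero])
  -- every involution meets a target
  have hexists : ∀ g : ↥E.fix, orderOf g = 2 → ∃ i : Fin tg.length, ∃ x : ↥E.fix,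
      x * g * x⁻¹ = ⟨_, hmem i⟩ := by
    intro g hg
    have hz : IsPGroup 2 (Subgroup.zpowers g) :=
      IsPGroup.of_card (n := 1) (by rw [Nat.card_zpowers, pow_one]; exact hg)
    obtain ⟨Q, hQ⟩ := hz.exists_le_sylow
    obtain ⟨x, hx⟩ := MulAction.exists_smul_eq ↥E.fix Q P
    have h1 : MulAut.conj x g ∈ (P : Subgroup ↥E.fix) := by
      rw [← hx, Sylow.coe_subgroup_smul]
      exact Subgroup.smul_mem_pointwise_smul _ (MulAut.conj x) _ (hQ (Subgroup.mem_zpowers _))
    rw [Sylow.coe_ofCard, Subgroup.mem_subgroupOf, MulAut.conj_apply] at h1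
    obtain ⟨-, -, hgood⟩ := E.chkTwState_sound hE hchk r hr
    simp only [Tab.chkTwRoot, Bool.and_eq_true, decide_eq_true_eq] at hroot
    obtain ⟨hN, hS⟩ := hroot
    rw [hN] at hgood
    have hsub : posSet T ⊆ maskSet T (st r).S := fun a ha => by
      have := allBelow_eq_true hS a ha.2
      rw [Nat.ble_eq_true_of_le ha.1, cond_true, bmem_eq] at this
      exact ⟨ha.2, this⟩
    have hone : oneProd D F [] = 1 := by simp [oneProd]
    have hu := h1.2
    rw [h.posUnipotent_eq] at hu
    have hsq : (g : GL D.Idx F) * g = 1 := by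
      rw [← Subgroup.coe_mul, ← pow_two, ← hg, pow_orderOf_eq_one, Subgroup.coe_one]
    obtain ⟨t, ht, z, hz', e⟩ := hgood _ (gen_mono D hsub hu) h1.1 (by
      rw [hone, one_mul, Subgroup.coe_mul, Subgroup.coe_mul, Subgroup.coe_inv,
        show (x : GL D.Idx F) * g * (x : GL D.Idx F)⁻¹ * ((x : GL D.Idx F) * g * (x : GL D.Idx F)⁻¹) =
          x * ((g : GL D.Idx F) * g) * (x : GL D.Idx F)⁻¹ by group, hsq]
      group)
    rw [hone, one_mul] at e
    simp only [Subgroup.coe_mul, Subgroup.coe_inv] at e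
    rw [htgl] at ht
    rcases List.mem_cons.1 ht with rfl | ht
    · exfalso
      rw [hone] at e
      have h0 : g = 1 := by
        have h2 : z * x * g * (z * x)⁻¹ = (1 : GL D.Idx F) := by rw [← e]; group
        rw [mul_inv_eq_one, mul_eq_left] at h2
        exact Subtype.ext h2
      rw [h0, orderOf_one] at hg
      exact absurd hg (by norm_num)
    obtain ⟨i, hi, rfl⟩ := List.getElem_of_mem ht
    refine ⟨⟨i, hi⟩, ⟨z, hz'⟩ * x, Subtype.ext ?_⟩
    simp only [Subgroup.coe_mul, Subgroup.coe_inv, List.getD_eq_getElem _ _ hi]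
    rw [← e]; group
  let cl : Fin tg.length → ConjClasses ↥E.fix := fun i => ConjClasses.mk ⟨_, hmem i⟩
  have hinj : Function.Injective cl := by
    intro i j e
    obtain ⟨x, hx⟩ := isConj_iff.1 (ConjClasses.mk_eq_mk_iff_isConj.1 e)
    have e' := congrArg Subtype.val hx
    simp only [Subgroup.coe_mul, Subgroup.coe_inv] at e'
    have := h.target_rank_eq (F := F) (hrk i i.2).1 (hrk j j.2).1 e'
    rw [List.getD_eq_getElem _ _ (by omega : (i : ℕ) < rk.length),
      List.getD_eq_getElem _ _ (by omega : (j : ℕ) < rk.length)] at this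
    exact Fin.ext (hnd.getElem_inj_iff.1 this)
  have himg : ConjClasses.mk '' {g : ↥E.fix | orderOf g = 2} = Set.range cl := by
    ext c
    constructor
    · rintro ⟨g, hg, rfl⟩
      obtain ⟨i, x, hx⟩ := hexists g hg
      exact ⟨i, (ConjClasses.mk_eq_mk_iff_isConj.2 (isConj_iff.2 ⟨x, hx⟩)).symm⟩
    · rintro ⟨i, rfl⟩
      refine ⟨⟨_, hmem i⟩, ?_, rfl⟩
      show orderOf (⟨oneProd D F (tg.getD i []), hmem i⟩ : ↥E.fix) = 2
      rw [← Subgroup.orderOf_coe]
      exact (hsp i).2.1
  rw [himg, ← Set.image_univ, Set.ncard_image_of_injective _ hinj, Set.ncard_univ, Nat.card_fin]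

end Endo

/-- The field map of a finite field of characteristic 2 as a twist of order 2 or 3. -/
theorem fieldTwist_of_pow [CharP F 2] [Fintype F] (E : Endo h F) {f : F →+* F} {q ord : ℕ}
    (hord : ord = 2 ∨ ord = 3) (hq : 2 ≤ q) (hF : Fintype.card F = q ^ ord)
    (hf : ∀ t, f t = t ^ q) (hτ : ∀ r < T.n, ∀ t, E.τ r t = f t) : FieldTwist E f ord := by
  have hit : ∀ n t, f^[n] t = t ^ q ^ n := by
    intro n
    induction n with
    | zero => intro t; simp
    | succ n ih => intro t; rw [Function.iterate_succ_apply', hf, ih, ← pow_mul, ← pow_succ]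
  have hcyc : ∀ t, f^[ord] t = t := fun t => by rw [hit, ← hF, FiniteField.pow_card]
  refine ⟨hord, hcyc, fun a ha => ?_, hτ⟩
  rcases hord with rfl | rfl
  · obtain ⟨u, hu⟩ : ∃ u, f u ≠ u := by
      by_contra hne
      push Not at hne
      have h1 : Nat.card {t : F // t ^ q = t} = q := card_pow_eq_self (by omega)
        (by rw [hF]; simpa using Nat.sub_dvd_pow_sub_pow q 1 2)
      rw [Nat.card_congr (Equiv.subtypeUnivEquiv fun t => (hf t).symm.trans (hne t)),
        Nat.card_eq_fintype_card, hF] at h1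
      nlinarith
    set c := u * (u + f u)⁻¹ with hc
    have hne : u + f u ≠ 0 := fun e => hu (CharTwo.add_eq_zero.1 e).symm
    refine ⟨c * a, ?_⟩
    have h2 : f (f u) = u := hcyc u
    simp only [Finset.sum_range_succ, Finset.sum_range_zero, zero_add, Function.iterate_succ_apply',
      Function.iterate_zero, id, map_mul, ha, hc, map_inv₀, map_add, h2]
    rw [add_comm (f u) u, ← add_mul, ← add_mul, mul_inv_cancel₀ hne, one_mul]
  · refine ⟨a, ?_⟩
    simp only [Finset.sum_range_succ, Finset.sum_range_zero, zero_add, Function.iterate_succ_apply',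
      Function.iterate_zero, id, ha, CharTwo.add_self_eq_zero]

end Sem

/-- In characteristic 2 a root of the order of a finite field is a power of 2. -/
theorem exists_two_pow_of_card {K : Type*} [Field K] [Fintype K] [CharP K 2] {q k : ℕ} (hk : k ≠ 0)
    (hK : Fintype.card K = q ^ k) : ∃ e, 1 ≤ e ∧ q = 2 ^ e ∧ IsPrimePow q := by
  obtain ⟨n, hn, hn'⟩ := FiniteField.card K 2
  obtain ⟨e, -, he⟩ := (Nat.dvd_prime_pow Nat.prime_two).1 (show q ∣ 2 ^ (n : ℕ) by
    rw [← hn', hK]; exact dvd_pow_self q hk)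
  refine ⟨e, ?_, he, ?_⟩
  · by_contra h0
    have h1 := Fintype.one_lt_card (α := K)
    rw [hK, he, show e = 0 by omega, pow_zero, one_pow] at h1
    omega
  · by_cases h0 : e = 0
    · exfalso
      have h1 := Fintype.one_lt_card (α := K)
      rw [hK, he, h0, pow_zero, one_pow] at h1
      omega
    · rw [he]; exact Nat.prime_two.isPrimePow.pow h0

end CfsgLib.Chev
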