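import Cfsg.Agent.Lib.Chev.InvolTwist

/-! The certificate for the involution classes of twisted type D4, characteristic 2 (generated). -/

set_option autoImplicit false
set_option maxRecDepth 100000

namespace CfsgLib.Chev

def twD4T0 : TwTree :=
 .node (.node (.node (.node (.node (.leaf ⟨[], 0x0, .leaf 0⟩)
 (.leaf ⟨[15, 16, 19], 0xc00000, .solve [23] [22] [17, 20, 21] none 15⟩))
 (.node (.leaf ⟨[15, 16, 19], 0x0, .word [14, 9, 14] 7⟩)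
 (.leaf ⟨[], 0xfbc000, .branch [14] [15, 16, 17, 19, 20, 21, 22, 23] [[0, (-1), 0, 0]] 18 23⟩)))
 (.node (.node (.leaf ⟨[], 0x800000, .branch [23] [] [[0, (-1), 0, 0]] 0 3⟩)
 (.leaf ⟨[14], 0x320000, .branch [17, 20, 21] [] [[0, 1, 1, 1], [1, 1, 0, 1], [1, 1, 1, 0]] 1 19⟩))
 (.node (.leaf ⟨[], 0xf20000, .branch [17, 20, 21] [22, 23] [[0, 0, (-1), (-1)], [(-1), 0, 0, (-1)], [(-1), 0, (-1), 0]] 6 11⟩)
 (.leaf ⟨[12, 13, 18], 0xfb8000, .solve [15, 19, 16] [17, 20, 21, 22, 23] [14] (some (17, [20, 21, 22, 23])) 27⟩))))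
 (.node (.node (.node (.leaf ⟨[22], 0x0, .word [18, 5, 18, 13, 10, 13, 12, 11, 12] 1⟩)
 (.leaf ⟨[], 0xfb8000, .branch [15, 19, 16] [17, 20, 21, 22, 23] [[0, 1, 0, 1], [1, 1, 0, 0], [0, 1, 1, 0]] 12 17⟩))
 (.node (.leaf ⟨[17, 20, 21], 0x800000, .solve [23] [] [15, 19, 16] none 9⟩)
 (.leaf ⟨[12, 13, 18], 0xc00000, .solve [22] [23] [17, 20, 21] none 25⟩)))
 (.node (.node (.leaf ⟨[], 0xc00000, .branch [22] [23] [[0, (-1), 0, 0]] 4 5⟩)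
 (.leaf ⟨[14], 0xf20000, .solve [22] [17, 20, 21, 23] [] (some (23, [17, 20, 21])) 21⟩))
 (.node (.leaf ⟨[15, 16, 19, 22], 0x0, .word [14, 9, 14] 13⟩)
 (.leaf ⟨[], 0xfff000, .branch [12, 18, 13] [14, 15, 16, 17, 19, 20, 21, 22, 23] [[0, 0, 0, 1], [1, 0, 0, 0], [0, 0, 1, 0]] 24 29⟩)))))
 (.node (.node (.node (.node (.leaf ⟨[14], 0x0, .leaf 1⟩)
 (.leaf ⟨[15, 16, 19], 0xf20000, .solve [17, 20, 21] [22, 23] [12, 18, 13] (some (23, [22])) 16⟩))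
 (.node (.leaf ⟨[17, 20, 21], 0x0, .word [18, 5, 18, 13, 10, 13, 12, 11, 12] 8⟩)
 (.leaf ⟨[12, 13, 18], 0x800000, .branch [23] [] [[(-1), (-2), (-1), (-1)]] 7 13⟩)))
 (.node (.node (.leaf ⟨[22], 0x800000, .solve [23] [] [14] none 2⟩)
 (.leaf ⟨[14], 0xb20000, .solve [23] [17, 20, 21] [22] none 20⟩))
 (.node (.leaf ⟨[12, 13, 18, 23], 0x0, .word [19, 16, 15, 9] 7⟩)
 (.leaf ⟨[12, 13, 18], 0xfbc000, .solve [14] [15, 16, 17, 19, 20, 21, 22, 23] [] (some (15, [16, 17, 19, 20, 21, 22, 23])) 28⟩))))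
 (.node (.node (.node (.leaf ⟨[23], 0x0, .word [14, 9, 14] 2⟩)
 (.leaf ⟨[14, 17, 20, 21], 0x0, .word [18, 5, 18, 13, 10, 13, 12, 11, 12] 14⟩))
 (.node (.leaf ⟨[17, 20, 21], 0xc00000, .solve [22] [23] [12, 18, 13] none 10⟩)
 (.leaf ⟨[12, 13, 18], 0xf20000, .solve [17, 20, 21] [22, 23] [15, 19, 16] (some (22, [23])) 26⟩)))
 (.node (.node (.leaf ⟨[12, 13, 18], 0x0, .leaf 2⟩)
 (.leaf ⟨[14], 0xfb8000, .solve [15, 19, 16] [17, 20, 21, 22, 23] [12, 18, 13] none 22⟩))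
 (.node (.leaf ⟨[15, 16, 19], 0x400000, .branch [22] [] [[(-1), (-1), (-1), (-1)]] 8 14⟩)
 (.leaf ⟨[], 0x0, .leaf 0⟩)))))

def twD4Tree : TwTree :=
 twD4T0

def twD4Tg : List (List ℕ) := [[], [14], [12, 13, 18]]

end CfsgLib.Chev
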