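import Cfsg.Agent.Lib.Chev.TwistD4
import Cfsg.Agent.Lib.Chev.InvolTwistDataD4

/-! The certificate for twisted type D4 checks (generated). -/

set_option autoImplicit false
set_option maxRecDepth 100000

namespace CfsgLib.Chev

theorem twD4_all0 : allBelow 31 (fun j =>
    tabD4.chkTwState twistD4a.rt piTwD4 3 twD4Tg twD4Tree.get (0 + j)) = true := by
  decide +kernel

/-- Every state checks. -/
theorem twD4_chk : ∀ j < 31, tabD4.chkTwState twistD4a.rt piTwD4 3 twD4Tg twD4Tree.get j = true := by
  intro j hj
  obtain ⟨d, rfl⟩ : ∃ d, j = 0 + d := ⟨j - 0, by omega⟩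
  exact allBelow_eq_true twD4_all0 d (by omega)

/-- The root state. -/
theorem twD4_root : tabD4.chkTwRoot (twD4Tree.get 30) = true := by
  decide +kernel

end CfsgLib.Chev
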