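import Cfsg.Agent.Lib.Chev.InvolTwist

/-! The certificate for the involution classes of twisted type E6, characteristic 2 (generated). -/

set_option autoImplicit false
set_option maxRecDepth 100000

namespace CfsgLib.Chev

def twE6T0 : TwTree :=
 .node (.node (.node (.node (.node (.leaf ⟨[], 0x0, .leaf 0⟩)
 (.leaf ⟨[46], 0x360000000000000000, .branch [65] [66, 68, 69] [[(-1), 0, 0, 0, 0, (-1)]] 506 511⟩))
 (.node (.leaf ⟨[45, 59, 63], 0x820000000000000000, .solve [65] [71] [39] none 255⟩)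
 (.leaf ⟨[], 0x0, .leaf 0⟩)))
 (.node (.node (.leaf ⟨[44, 60, 71], 0x0, .word [42, 29, 42, 37, 34, 37] 127⟩)
 (.leaf ⟨[37, 42], 0xffd0f0400000000000, .solve [52, 62] [46, 53, 54, 55, 60, 63, 64, 65, 66, 67, 68, 69, 70, 71] [49, 61] none 639⟩))
 (.node (.leaf ⟨[47, 55, 63, 67], 0x400000000000000000, .solve [70] [] [41, 58] none 383⟩)
 (.leaf ⟨[], 0x0, .leaf 0⟩))))
 (.node (.node (.node (.leaf ⟨[63], 0x0, .word [56, 15, 56, 36, 35, 36] 3⟩)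
 (.leaf ⟨[39, 45, 59], 0x9c3082000000000000, .solve [49, 61] [55, 60, 66, 67, 68, 71] [] (some (66, [55, 60, 67, 68, 71])) 575⟩))
 (.node (.leaf ⟨[44, 52, 62], 0x951040000000000000, .solve [54, 64] [60, 66, 68, 71] [39] (some (71, [60, 66, 68])) 319⟩)
 (.leaf ⟨[], 0x0, .leaf 0⟩)))
 (.node (.node (.leaf ⟨[51, 54, 64], 0x8000000000000000, .branch [63] [] [[(-1), (-2), 0, 0, 0, (-1)]] 91 191⟩)
 (.leaf ⟨[], 0x0, .leaf 0⟩))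
 (.node (.leaf ⟨[40, 43], 0xa21008800000000000, .branch [47] [51, 60, 65, 69, 71] [[0, (-1), 0, (-1), 0, 0]] 442 447⟩)
 (.leaf ⟨[], 0x0, .leaf 0⟩)))))
 (.node (.node (.node (.node (.leaf ⟨[39, 44], 0x0, .word [39, 32, 39] 31⟩)
 (.leaf ⟨[46], 0xff82e0004000000000, .solve [63] [38, 53, 54, 55, 57, 64, 65, 66, 67, 68, 69, 70, 71] [60] none 543⟩))
 (.node (.leaf ⟨[48, 50, 65], 0x200000000000000000, .branch [69] [] [[(-1), (-1), (-1), 0, (-1), (-1)]] 220 222⟩)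
 (.leaf ⟨[], 0x0, .leaf 0⟩)))
 (.node (.node (.leaf ⟨[37, 42, 63, 70], 0x0, .word [46, 25, 46] 159⟩)
 (.leaf ⟨[36, 39, 56], 0xe00000c00000000000, .solve [46] [47, 69, 70, 71] [] (some (47, [69, 70, 71])) 671⟩))
 (.node (.leaf ⟨[47], 0x5cc498020000000000, .branch [41, 58] [51, 52, 55, 62, 63, 66, 67, 68, 70] [[0, 0, 0, 0, 0, 1], [1, 0, 0, 0, 0, 0]] 407 415⟩)
 (.leaf ⟨[], 0x0, .leaf 0⟩))))
 (.node (.node (.node (.leaf ⟨[54, 64], 0xe08000000000000000, .solve [70] [63, 69, 71] [45, 59] none 95⟩)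
 (.leaf ⟨[39], 0xfffcffb20000000000, .solve [47] [41, 44, 45, 48, 49, 50, 51, 52, 53, 54, 55, 58, 59, 60, 61, 62, 63, 64, 65, 66, 67, 68, 69, 70, 71] [46] none 607⟩))
 (.node (.leaf ⟨[41, 44, 58], 0xa08000000000000000, .solve [63] [69, 71] [] (some (69, [71])) 351⟩)
 (.leaf ⟨[], 0x0, .leaf 0⟩)))
 (.node (.node (.leaf ⟨[49, 53, 61], 0x200000000000000000, .branch [69] [] [[0, (-1), (-1), 0, (-1), 0]] 221 223⟩)
 (.leaf ⟨[], 0x0, .leaf 0⟩))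
 (.node (.leaf ⟨[38, 44, 57], 0xc20008000000000000, .solve [51] [65, 70, 71] [46] none 479⟩)
 (.leaf ⟨[], 0x0, .leaf 0⟩)))))

def twE6T1 : TwTree :=
 .node (.node (.node (.node (.node (.leaf ⟨[39], 0x0, .leaf 1⟩)
 (.leaf ⟨[46, 53, 66, 68], 0x0, .word [39, 32, 39] 382⟩))
 (.node (.leaf ⟨[45, 59], 0x828000000000000000, .branch [63] [65, 71] [[0, 0, 0, (-1), 0, 0]] 252 256⟩)
 (.leaf ⟨[], 0x0, .leaf 0⟩)))
 (.node (.node (.leaf ⟨[51, 63, 70], 0x0, .word [46, 25, 46] 128⟩)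
 (.leaf ⟨[37, 42], 0xffd0f8400000000000, .solve [51] [46, 52, 53, 54, 55, 60, 62, 63, 64, 65, 66, 67, 68, 69, 70, 71] [48, 50] none 640⟩))
 (.node (.leaf ⟨[47, 63], 0x480080000000000000, .branch [55, 67] [70] [[(-1), 1, 0, 0, 1, 0], [0, 1, 1, 0, 0, (-1)]] 381 384⟩)
 (.leaf ⟨[], 0x0, .leaf 0⟩))))
 (.node (.node (.node (.leaf ⟨[39, 44, 55, 67, 71], 0x0, .word [61, 49] 32⟩)
 (.leaf ⟨[39], 0x9c3882200000000000, .branch [45, 59] [49, 55, 60, 61, 66, 67, 68, 71] [[(-1), (-1), (-1), (-1), 0, 0], [0, (-1), 0, (-1), (-1), (-1)]] 571 576⟩))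
 (.node (.leaf ⟨[44], 0x955050000000000000, .branch [52, 62] [54, 60, 64, 66, 68, 71] [[0, 0, 0, 0, 1, 1], [1, 0, 1, 0, 0, 0]] 316 320⟩)
 (.leaf ⟨[], 0x0, .leaf 0⟩)))
 (.node (.node (.leaf ⟨[51, 54, 64], 0x408000000000000000, .solve [70] [63] [45, 59] none 192⟩)
 (.leaf ⟨[], 0x0, .leaf 0⟩))
 (.node (.leaf ⟨[40, 43], 0xe21008800000000000, .solve [70] [47, 51, 60, 65, 69, 71] [66, 68] none 448⟩)
 (.leaf ⟨[], 0x0, .leaf 0⟩)))))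
 (.node (.node (.node (.node (.leaf ⟨[39, 60], 0x0, .word [56, 15, 56, 36, 35, 36] 32⟩)
 (.leaf ⟨[46], 0xff92e0004000000000, .solve [60] [38, 53, 54, 55, 57, 63, 64, 65, 66, 67, 68, 69, 70, 71] [] (some (63, [38, 53, 54, 55, 57, 64, 65, 66, 67, 68, 69, 70, 71])) 544⟩))
 (.node (.leaf ⟨[48, 50, 65], 0x600000000000000000, .solve [70] [69] [44] none 288⟩)
 (.leaf ⟨[], 0x0, .leaf 0⟩)))
 (.node (.node (.leaf ⟨[40, 43, 65, 69], 0x0, .word [39, 32, 39] 160⟩)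
 (.leaf ⟨[36, 56], 0xe00000c08000000000, .branch [39] [46, 47, 69, 70, 71] [[0, (-1), 0, 0, 0, 0]] 667 672⟩))
 (.node (.leaf ⟨[47], 0xdcc498020000000000, .solve [71] [41, 51, 52, 55, 58, 62, 63, 66, 67, 68, 70] [69] none 416⟩)
 (.leaf ⟨[], 0x0, .leaf 0⟩))))
 (.node (.node (.node (.leaf ⟨[54, 64], 0xf48000000000000000, .solve [66, 68] [63, 69, 70, 71] [38, 57] none 96⟩)
 (.leaf ⟨[39], 0xfffcffbb0000000000, .solve [40, 43] [41, 44, 45, 47, 48, 49, 50, 51, 52, 53, 54, 55, 58, 59, 60, 61, 62, 63, 64, 65, 66, 67, 68, 69, 70, 71] [37, 42] none 608⟩))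
 (.node (.leaf ⟨[41, 44, 58], 0xa08020000000000000, .solve [53] [63, 69, 71] [47] none 352⟩)
 (.leaf ⟨[], 0x0, .leaf 0⟩)))
 (.node (.node (.leaf ⟨[49, 53, 61], 0x600000000000000000, .solve [70] [69] [60] none 224⟩)
 (.leaf ⟨[], 0x0, .leaf 0⟩))
 (.node (.leaf ⟨[38, 57], 0xc20008100000000000, .branch [44] [51, 65, 70, 71] [[0, (-1), 0, 0, 0, 0]] 476 480⟩)
 (.leaf ⟨[], 0x0, .leaf 0⟩)))))

def twE6T2 : TwTree :=
 .node (.node (.node (.node (.node (.leaf ⟨[44], 0x0, .word [42, 29, 42, 37, 34, 37] 1⟩)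
 (.leaf ⟨[46, 55, 65, 67], 0x0, .word [56, 15, 56, 36, 35, 36] 513⟩))
 (.node (.leaf ⟨[45, 53, 59], 0x20000000000000000, .branch [65] [] [[0, (-1), (-1), 0, (-1), 0]] 146 163⟩)
 (.leaf ⟨[], 0x0, .leaf 0⟩)))
 (.node (.node (.leaf ⟨[53, 65, 69], 0x0, .word [39, 32, 39] 129⟩)
 (.leaf ⟨[37, 42], 0xfff0fa400000000000, .solve [49, 61] [46, 51, 52, 53, 54, 55, 60, 62, 63, 64, 65, 66, 67, 68, 69, 70, 71] [] (some (62, [46, 51, 52, 53, 54, 55, 60, 63, 64, 65, 66, 67, 68, 69, 70, 71])) 641⟩))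
 (.node (.leaf ⟨[47, 63], 0x5c0080000000000000, .solve [66, 68] [55, 67, 70] [40, 43] none 385⟩)
 (.leaf ⟨[], 0x0, .leaf 0⟩))))
 (.node (.node (.node (.leaf ⟨[39, 71], 0x0, .word [22, 10] 65⟩)
 (.leaf ⟨[39, 48, 50], 0x800000000000000000, .solve [71] [] [66, 68] none 50⟩))
 (.node (.leaf ⟨[44, 48, 50], 0x800000000000000000, .solve [71] [] [66, 68] none 215⟩)
 (.leaf ⟨[], 0x0, .leaf 0⟩)))
 (.node (.node (.leaf ⟨[51, 54, 64], 0x548000000000000000, .solve [66, 68] [63, 70] [38, 57] none 193⟩)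
 (.leaf ⟨[], 0x0, .leaf 0⟩))
 (.node (.leaf ⟨[40, 43], 0xf61008800000000000, .solve [66, 68] [47, 51, 60, 65, 69, 70, 71] [63] (some (70, [47, 51, 60, 65, 69, 71])) 449⟩)
 (.leaf ⟨[], 0x0, .leaf 0⟩)))))
 (.node (.node (.node (.node (.leaf ⟨[44, 60], 0x0, .word [42, 29, 42, 37, 34, 37] 33⟩)
 (.leaf ⟨[46], 0xffd2f0004000000000, .solve [52, 62] [38, 53, 54, 55, 57, 60, 63, 64, 65, 66, 67, 68, 69, 70, 71] [45, 59] none 545⟩))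
 (.node (.leaf ⟨[48, 50], 0x620000000000000000, .branch [65] [69, 70] [[0, 0, 0, (-1), 0, 0]] 287 289⟩)
 (.leaf ⟨[], 0x0, .leaf 0⟩)))
 (.node (.node (.leaf ⟨[41, 53, 58, 69], 0x0, .word [56, 15, 56, 36, 35, 36] 161⟩)
 (.leaf ⟨[36, 56], 0xf40000c08000000000, .solve [66, 68] [39, 46, 47, 69, 70, 71] [55, 67] none 673⟩))
 (.node (.leaf ⟨[47], 0xfcc498020000000000, .solve [69] [41, 51, 52, 55, 58, 62, 63, 66, 67, 68, 70, 71] [] (some (71, [41, 51, 52, 55, 58, 62, 63, 66, 67, 68, 70])) 417⟩)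
 (.leaf ⟨[], 0x0, .leaf 0⟩))))
 (.node (.node (.node (.leaf ⟨[54, 64], 0xf68000000000000000, .solve [65] [63, 66, 68, 69, 70, 71] [36, 56] none 97⟩)
 (.leaf ⟨[39], 0xfffeffbb4000000000, .solve [38, 57] [40, 41, 43, 44, 45, 47, 48, 49, 50, 51, 52, 53, 54, 55, 58, 59, 60, 61, 62, 63, 64, 65, 66, 67, 68, 69, 70, 71] [] (some (41, [40, 43, 44, 45, 47, 48, 49, 50, 51, 52, 53, 54, 55, 58, 59, 60, 61, 62, 63, 64, 65, 66, 67, 68, 69, 70, 71])) 609⟩))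
 (.node (.leaf ⟨[41, 58], 0xa08020100000000000, .branch [44] [53, 63, 69, 71] [[0, (-1), 0, (-1), 0, 0]] 349 353⟩)
 (.leaf ⟨[], 0x0, .leaf 0⟩)))
 (.node (.node (.leaf ⟨[49, 53, 61], 0x601000000000000000, .solve [60] [69, 70] [] (some (70, [69])) 225⟩)
 (.leaf ⟨[], 0x0, .leaf 0⟩))
 (.node (.leaf ⟨[38, 57], 0xe20008100000000000, .solve [69] [44, 51, 65, 70, 71] [55, 67] none 481⟩)
 (.leaf ⟨[], 0x0, .leaf 0⟩)))))

def twE6T3 : TwTree :=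
 .node (.node (.node (.node (.node (.leaf ⟨[51], 0x0, .word [46, 25, 46] 2⟩)
 (.leaf ⟨[46, 55, 67], 0x20000000000000000, .branch [65] [] [[0, (-1), 0, (-2), 0, 0]] 503 514⟩))
 (.node (.leaf ⟨[45, 53, 59], 0x820000000000000000, .solve [71] [65] [63] none 258⟩)
 (.leaf ⟨[], 0x0, .leaf 0⟩)))
 (.node (.node (.leaf ⟨[53, 65], 0x200000000000000000, .branch [69] [] [[(-1), 0, (-2), (-2), (-2), (-1)]] 36 130⟩)
 (.leaf ⟨[37, 42], 0xfff8fa600000000000, .solve [45, 59] [46, 49, 51, 52, 53, 54, 55, 60, 61, 62, 63, 64, 65, 66, 67, 68, 69, 70, 71] [41, 58] none 642⟩))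
 (.node (.leaf ⟨[47], 0x5c8080000000000000, .branch [63] [55, 66, 67, 68, 70] [[(-1), 0, 0, 0, 0, (-1)]] 376 386⟩)
 (.leaf ⟨[], 0x0, .leaf 0⟩))))
 (.node (.node (.node (.leaf ⟨[44, 71], 0x0, .word [42, 29, 42, 37, 34, 37] 66⟩)
 (.leaf ⟨[39, 48, 50], 0x940000000000000000, .solve [66, 68] [71] [60] (some (71, [])) 578⟩))
 (.node (.leaf ⟨[44, 48, 50], 0x940000000000000000, .solve [66, 68] [71] [60] (some (71, [])) 322⟩)
 (.leaf ⟨[], 0x0, .leaf 0⟩)))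
 (.node (.node (.leaf ⟨[51], 0x558040000000000000, .branch [54, 64] [63, 66, 68, 70] [[0, 0, 1, 1, 0, 0], [0, 0, 0, 1, 1, 0]] 181 194⟩)
 (.leaf ⟨[], 0x0, .leaf 0⟩))
 (.node (.leaf ⟨[40, 43], 0xfe1088800000000000, .solve [55, 67] [47, 51, 60, 65, 66, 68, 69, 70, 71] [52, 62] none 450⟩)
 (.leaf ⟨[], 0x0, .leaf 0⟩)))))
 (.node (.node (.node (.node (.leaf ⟨[51, 63], 0x0, .word [46, 25, 46] 34⟩)
 (.leaf ⟨[46], 0xffd2f8004000000000, .solve [51] [38, 52, 53, 54, 55, 57, 60, 62, 63, 64, 65, 66, 67, 68, 69, 70, 71] [44] none 546⟩))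
 (.node (.leaf ⟨[48, 50, 63], 0x400000000000000000, .branch [70] [] [[(-1), (-1), 0, (-3), 0, (-1)]] 230 234⟩)
 (.leaf ⟨[], 0x0, .leaf 0⟩)))
 (.node (.node (.leaf ⟨[45, 53, 59, 65], 0x0, .word [42, 29, 42, 37, 34, 37] 162⟩)
 (.leaf ⟨[36, 56], 0xf60000c08000000000, .solve [65] [39, 46, 47, 66, 68, 69, 70, 71] [54, 64] none 674⟩))
 (.node (.leaf ⟨[47], 0xfec498020000000000, .solve [65] [41, 51, 52, 55, 58, 62, 63, 66, 67, 68, 69, 70, 71] [60] none 418⟩)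
 (.leaf ⟨[], 0x0, .leaf 0⟩))))
 (.node (.node (.node (.leaf ⟨[54, 64], 0xfe8080000000000000, .solve [55, 67] [63, 65, 66, 68, 69, 70, 71] [37, 42] none 98⟩)
 (.leaf ⟨[39], 0xfffefffb4000000000, .solve [46] [38, 40, 41, 43, 44, 45, 47, 48, 49, 50, 51, 52, 53, 54, 55, 57, 58, 59, 60, 61, 62, 63, 64, 65, 66, 67, 68, 69, 70, 71] [] (some (47, [38, 40, 41, 43, 44, 45, 48, 49, 50, 51, 52, 53, 54, 55, 57, 58, 59, 60, 61, 62, 63, 64, 65, 66, 67, 68, 69, 70, 71])) 610⟩))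
 (.node (.leaf ⟨[41, 58], 0xe08020100000000000, .solve [70] [44, 53, 63, 69, 71] [55, 67] none 354⟩)
 (.leaf ⟨[], 0x0, .leaf 0⟩)))
 (.node (.node (.leaf ⟨[49, 61], 0x601020000000000000, .branch [53] [60, 69, 70] [[0, 0, 0, (-1), 0, 0]] 219 226⟩)
 (.leaf ⟨[], 0x0, .leaf 0⟩))
 (.node (.leaf ⟨[38, 57], 0xf60008100000000000, .solve [66, 68] [44, 51, 65, 69, 70, 71] [54, 64] none 482⟩)
 (.leaf ⟨[], 0x0, .leaf 0⟩)))))

def twE6T4 : TwTree :=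
 .node (.node (.node (.node (.node (.leaf ⟨[53], 0x0, .word [39, 32, 39] 3⟩)
 (.leaf ⟨[46, 55, 67], 0x220000000000000000, .solve [69] [65] [38, 57] none 515⟩))
 (.node (.leaf ⟨[45, 53, 59], 0x828000000000000000, .solve [63] [65, 71] [] (some (71, [65])) 259⟩)
 (.leaf ⟨[], 0x0, .leaf 0⟩)))
 (.node (.node (.leaf ⟨[53, 65], 0x340000000000000000, .solve [66, 68] [69] [37, 42] none 131⟩)
 (.leaf ⟨[37, 42], 0xfff8ff600000000000, .solve [48, 50] [45, 46, 49, 51, 52, 53, 54, 55, 59, 60, 61, 62, 63, 64, 65, 66, 67, 68, 69, 70, 71] [47] (some (51, [45, 46, 49, 52, 53, 54, 55, 59, 60, 61, 62, 63, 64, 65, 66, 67, 68, 69, 70, 71])) 643⟩))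
 (.node (.leaf ⟨[39, 45, 59], 0x0, .word [42, 29, 42, 37, 34, 37] 228⟩)
 (.leaf ⟨[], 0x0, .leaf 0⟩))))
 (.node (.node (.node (.leaf ⟨[51, 70], 0x0, .word [46, 25, 46] 67⟩)
 (.leaf ⟨[39, 48, 50], 0x9c0080000000000000, .solve [55, 67] [66, 68, 71] [45, 59] none 579⟩))
 (.node (.leaf ⟨[44, 48, 50], 0x950040000000000000, .solve [54, 64] [66, 68, 71] [41, 58] none 323⟩)
 (.leaf ⟨[], 0x0, .leaf 0⟩)))
 (.node (.node (.leaf ⟨[51], 0xd58040000000000000, .solve [71] [54, 63, 64, 66, 68, 70] [65] none 195⟩)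
 (.leaf ⟨[], 0x0, .leaf 0⟩))
 (.node (.leaf ⟨[40, 43], 0xfe9088800000000000, .solve [63] [47, 51, 55, 60, 65, 66, 67, 68, 69, 70, 71] [] (some (66, [47, 51, 55, 60, 65, 67, 68, 69, 70, 71])) 451⟩)
 (.leaf ⟨[], 0x0, .leaf 0⟩)))))
 (.node (.node (.node (.node (.leaf ⟨[53, 65], 0x0, .word [39, 32, 39] 35⟩)
 (.leaf ⟨[46], 0xfff2fa004000000000, .solve [49, 61] [38, 51, 52, 53, 54, 55, 57, 60, 62, 63, 64, 65, 66, 67, 68, 69, 70, 71] [41, 58] none 547⟩))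
 (.node (.leaf ⟨[48, 50, 63], 0x600000000000000000, .solve [69] [70] [44] none 291⟩)
 (.leaf ⟨[], 0x0, .leaf 0⟩)))
 (.node (.node (.leaf ⟨[52, 53, 62, 65], 0x0, .word [46, 25, 46] 163⟩)
 (.leaf ⟨[36, 56], 0xfe0080c08000000000, .solve [55, 67] [39, 46, 47, 65, 66, 68, 69, 70, 71] [] (some (66, [39, 46, 47, 65, 68, 69, 70, 71])) 675⟩))
 (.node (.leaf ⟨[47], 0xffc4d8020000000000, .solve [54, 64] [41, 51, 52, 55, 58, 62, 63, 65, 66, 67, 68, 69, 70, 71] [45, 59] none 419⟩)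
 (.leaf ⟨[], 0x0, .leaf 0⟩))))
 (.node (.node (.node (.leaf ⟨[], 0xff80c0000000000000, .branch [54, 64] [55, 63, 65, 66, 67, 68, 69, 70, 71] [[0, 0, 0, 1, 1, 1], [1, 0, 1, 1, 0, 0]] 78 99⟩)
 (.leaf ⟨[], 0xfffefffbc000000000, .branch [39] [38, 40, 41, 43, 44, 45, 46, 47, 48, 49, 50, 51, 52, 53, 54, 55, 57, 58, 59, 60, 61, 62, 63, 64, 65, 66, 67, 68, 69, 70, 71] [[0, (-1), 0, 0, 0, 0]] 555 611⟩))
 (.node (.leaf ⟨[41, 58], 0xf48020100000000000, .solve [66, 68] [44, 53, 63, 69, 70, 71] [52, 62] none 355⟩)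
 (.leaf ⟨[], 0x0, .leaf 0⟩)))
 (.node (.node (.leaf ⟨[41, 44, 58], 0x0, .word [39, 32, 39] 120⟩)
 (.leaf ⟨[], 0x0, .leaf 0⟩))
 (.node (.leaf ⟨[38, 57], 0xfe0088100000000000, .solve [55, 67] [44, 51, 65, 66, 68, 69, 70, 71] [53] (some (69, [44, 51, 65, 66, 68, 70, 71])) 483⟩)
 (.leaf ⟨[], 0x0, .leaf 0⟩)))))

def twE6T5 : TwTree :=
 .node (.node (.node (.node (.node (.leaf ⟨[65], 0x0, .word [56, 15, 56, 36, 35, 36] 4⟩)
 (.leaf ⟨[46, 55, 67], 0x360000000000000000, .solve [66, 68] [65, 69] [36, 56] none 516⟩))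
 (.node (.leaf ⟨[45, 59], 0x828020000000000000, .branch [53] [63, 65, 71] [[0, 0, 0, (-1), 0, 0]] 257 260⟩)
 (.leaf ⟨[], 0x0, .leaf 0⟩)))
 (.node (.node (.leaf ⟨[53], 0x360000000000000000, .branch [65] [66, 68, 69] [[0, 0, (-1), 0, (-1), 0]] 119 132⟩)
 (.leaf ⟨[37, 42], 0xfff8ff700000000000, .solve [44] [45, 46, 48, 49, 50, 51, 52, 53, 54, 55, 59, 60, 61, 62, 63, 64, 65, 66, 67, 68, 69, 70, 71] [40, 43] none 644⟩))
 (.node (.leaf ⟨[47, 52, 62], 0x0, .word [46, 25, 46] 388⟩)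
 (.leaf ⟨[], 0x0, .leaf 0⟩))))
 (.node (.node (.node (.leaf ⟨[63, 70], 0x0, .word [56, 15, 56, 36, 35, 36] 68⟩)
 (.leaf ⟨[39, 48, 50], 0x9c1080000000000000, .solve [60] [55, 66, 67, 68, 71] [] (some (66, [55, 67, 68, 71])) 580⟩))
 (.node (.leaf ⟨[44, 48, 50], 0x951040000000000000, .solve [60] [54, 64, 66, 68, 71] [] (some (66, [54, 64, 68, 71])) 324⟩)
 (.leaf ⟨[], 0x0, .leaf 0⟩)))
 (.node (.node (.leaf ⟨[51], 0xf58040000000000000, .solve [69] [54, 63, 64, 66, 68, 70, 71] [60] none 196⟩)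
 (.leaf ⟨[], 0x0, .leaf 0⟩))
 (.node (.leaf ⟨[40, 43], 0xff90c8800000000000, .solve [54, 64] [47, 51, 55, 60, 63, 65, 66, 67, 68, 69, 70, 71] [49, 61] none 452⟩)
 (.leaf ⟨[], 0x0, .leaf 0⟩)))))
 (.node (.node (.node (.node (.leaf ⟨[53, 69], 0x0, .word [42, 29, 42, 37, 34, 37] 36⟩)
 (.leaf ⟨[46], 0xfffafa204000000000, .solve [45, 59] [38, 49, 51, 52, 53, 54, 55, 57, 60, 61, 62, 63, 64, 65, 66, 67, 68, 69, 70, 71] [] (some (62, [38, 49, 51, 52, 53, 54, 55, 57, 60, 61, 63, 64, 65, 66, 67, 68, 69, 70, 71])) 548⟩))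
 (.node (.leaf ⟨[48, 50, 63], 0x620000000000000000, .solve [65] [69, 70] [39] none 292⟩)
 (.leaf ⟨[], 0x0, .leaf 0⟩)))
 (.node (.node (.leaf ⟨[52, 53, 62], 0x20000000000000000, .branch [65] [] [[0, (-1), 1, 0, 1, 0]] 147 164⟩)
 (.leaf ⟨[36, 56], 0xff00c0c08000000000, .solve [54, 64] [39, 46, 47, 55, 65, 66, 67, 68, 69, 70, 71] [53] (some (65, [39, 46, 47, 55, 66, 67, 68, 69, 70, 71])) 676⟩))
 (.node (.leaf ⟨[47], 0xffd4d8020000000000, .solve [60] [41, 51, 52, 54, 55, 58, 62, 63, 64, 65, 66, 67, 68, 69, 70, 71] [] (some (65, [41, 51, 52, 54, 55, 58, 62, 63, 64, 66, 67, 68, 69, 70, 71])) 420⟩)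
 (.leaf ⟨[], 0x0, .leaf 0⟩))))
 (.node (.node (.node (.leaf ⟨[60], 0x0, .word [56, 15, 56, 36, 35, 36] 2⟩)
 (.leaf ⟨[37, 42], 0x800000000000000000, .branch [71] [] [[0, (-1), 0, 0, 0, 0]] 17 83⟩))
 (.node (.leaf ⟨[41, 58], 0xfc80a0100000000000, .solve [55, 67] [44, 53, 63, 66, 68, 69, 70, 71] [51] (some (70, [44, 53, 63, 66, 68, 69, 71])) 356⟩)
 (.leaf ⟨[], 0x0, .leaf 0⟩)))
 (.node (.node (.leaf ⟨[40, 43, 60], 0x0, .word [56, 15, 56, 36, 35, 36] 228⟩)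
 (.leaf ⟨[], 0x0, .leaf 0⟩))
 (.node (.leaf ⟨[38, 57], 0xfe8088100000000000, .solve [63] [44, 51, 55, 65, 66, 67, 68, 69, 70, 71] [49, 61] none 484⟩)
 (.leaf ⟨[], 0x0, .leaf 0⟩)))))

def twE6T6 : TwTree :=
 .node (.node (.node (.node (.node (.leaf ⟨[69], 0x0, .word [42, 29, 42, 37, 34, 37] 5⟩)
 (.leaf ⟨[46], 0x3e0080000000000000, .branch [55, 67] [65, 66, 68, 69] [[0, 0, 0, 0, 1, 0], [0, 0, 1, 0, 0, 0]] 512 517⟩))
 (.node (.leaf ⟨[36, 47, 56, 70], 0x0, .word [46, 25, 46] 157⟩)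
 (.leaf ⟨[], 0x0, .leaf 0⟩)))
 (.node (.node (.leaf ⟨[53], 0xb60000000000000000, .solve [71] [65, 66, 68, 69] [63] none 133⟩)
 (.leaf ⟨[37, 42], 0xfffcff720000000000, .solve [41, 58] [44, 45, 46, 48, 49, 50, 51, 52, 53, 54, 55, 59, 60, 61, 62, 63, 64, 65, 66, 67, 68, 69, 70, 71] [] (some (59, [44, 45, 46, 48, 49, 50, 51, 52, 53, 54, 55, 60, 61, 62, 63, 64, 65, 66, 67, 68, 69, 70, 71])) 645⟩))
 (.node (.leaf ⟨[39, 45, 59, 71], 0x0, .word [42, 29, 42, 37, 34, 37] 232⟩)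
 (.leaf ⟨[], 0x0, .leaf 0⟩))))
 (.node (.node (.node (.leaf ⟨[63], 0x400000000000000000, .branch [70] [] [[(-1), 0, 0, (-2), 0, (-1)]] 64 69⟩)
 (.leaf ⟨[39, 48, 50], 0x9c3082000000000000, .solve [49, 61] [55, 60, 66, 67, 68, 71] [36, 56] none 581⟩))
 (.node (.leaf ⟨[44, 48, 50], 0x955050000000000000, .solve [52, 62] [54, 60, 64, 66, 68, 71] [38, 57] none 325⟩)
 (.leaf ⟨[], 0x0, .leaf 0⟩)))
 (.node (.node (.leaf ⟨[51], 0xf78040000000000000, .solve [65] [54, 63, 64, 66, 68, 69, 70, 71] [] (some (71, [54, 63, 64, 66, 68, 69, 70])) 197⟩)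
 (.leaf ⟨[], 0x0, .leaf 0⟩))
 (.node (.leaf ⟨[40, 43], 0xff90e8800000000000, .solve [53] [47, 51, 54, 55, 60, 63, 64, 65, 66, 67, 68, 69, 70, 71] [48, 50] none 453⟩)
 (.leaf ⟨[], 0x0, .leaf 0⟩)))))
 (.node (.node (.node (.node (.leaf ⟨[65, 69], 0x0, .word [56, 15, 56, 36, 35, 36] 37⟩)
 (.leaf ⟨[46], 0xfffaff204000000000, .solve [48, 50] [38, 45, 49, 51, 52, 53, 54, 55, 57, 59, 60, 61, 62, 63, 64, 65, 66, 67, 68, 69, 70, 71] [40, 43] none 549⟩))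
 (.node (.leaf ⟨[48, 50], 0x628000000000000000, .branch [63] [65, 69, 70] [[0, 0, 0, (-1), 0, 0]] 290 293⟩)
 (.leaf ⟨[], 0x0, .leaf 0⟩)))
 (.node (.node (.leaf ⟨[52, 53, 62], 0x420000000000000000, .solve [70] [65] [60] none 165⟩)
 (.leaf ⟨[36, 56], 0xff80c0c08000000000, .solve [63] [39, 46, 47, 54, 55, 64, 65, 66, 67, 68, 69, 70, 71] [52, 62] none 677⟩))
 (.node (.leaf ⟨[47], 0xffd4f8020000000000, .solve [53] [41, 51, 52, 54, 55, 58, 60, 62, 63, 64, 65, 66, 67, 68, 69, 70, 71] [44] none 421⟩)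
 (.leaf ⟨[], 0x0, .leaf 0⟩))))
 (.node (.node (.node (.leaf ⟨[60, 71], 0x0, .word [56, 15, 56, 36, 35, 36] 67⟩)
 (.leaf ⟨[37, 42, 70], 0x800000000000000000, .solve [71] [] [46] none 82⟩))
 (.node (.leaf ⟨[41, 58], 0xfe80a0100000000000, .solve [65] [44, 53, 55, 63, 66, 67, 68, 69, 70, 71] [49, 61] none 357⟩)
 (.leaf ⟨[], 0x0, .leaf 0⟩)))
 (.node (.node (.leaf ⟨[48, 50, 63], 0x0, .word [46, 25, 46] 229⟩)
 (.leaf ⟨[], 0x0, .leaf 0⟩))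
 (.node (.leaf ⟨[38, 57], 0xff80c8100000000000, .solve [54, 64] [44, 51, 55, 63, 65, 66, 67, 68, 69, 70, 71] [] (some (66, [44, 51, 55, 63, 65, 67, 68, 69, 70, 71])) 485⟩)
 (.leaf ⟨[], 0x0, .leaf 0⟩)))))

def twE6T7 : TwTree :=
 .node (.node (.node (.node (.node (.leaf ⟨[70], 0x0, .word [39, 32, 39] 6⟩)
 (.leaf ⟨[46, 54, 64, 69], 0x0, .word [42, 29, 42, 37, 34, 37] 514⟩))
 (.node (.leaf ⟨[36, 46, 56, 69], 0x0, .word [39, 32, 39] 262⟩)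
 (.leaf ⟨[], 0x0, .leaf 0⟩)))
 (.node (.node (.leaf ⟨[53], 0xf60000000000000000, .solve [70] [65, 66, 68, 69, 71] [60] none 134⟩)
 (.leaf ⟨[37, 42], 0xfffcfff20000000000, .solve [47] [41, 44, 45, 46, 48, 49, 50, 51, 52, 53, 54, 55, 58, 59, 60, 61, 62, 63, 64, 65, 66, 67, 68, 69, 70, 71] [] (some (48, [41, 44, 45, 46, 49, 50, 51, 52, 53, 54, 55, 58, 59, 60, 61, 62, 63, 64, 65, 66, 67, 68, 69, 70, 71])) 646⟩))
 (.node (.leaf ⟨[47, 52, 62, 70], 0x0, .word [46, 25, 46] 390⟩)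
 (.leaf ⟨[], 0x0, .leaf 0⟩))))
 (.node (.node (.node (.leaf ⟨[55, 63, 67], 0x0, .word [56, 15, 56, 36, 35, 36] 55⟩)
 (.leaf ⟨[39, 48, 50], 0x9c3882200000000000, .solve [45, 59] [49, 55, 60, 61, 66, 67, 68, 71] [] (some (67, [49, 55, 60, 61, 66, 68, 71])) 582⟩))
 (.node (.leaf ⟨[44], 0x955055000000000000, .branch [48, 50] [52, 54, 60, 62, 64, 66, 68, 71] [[(-1), (-1), (-2), 0, (-2), (-2)], [(-2), (-1), (-2), 0, (-2), (-1)]] 321 326⟩)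
 (.leaf ⟨[], 0x0, .leaf 0⟩)))
 (.node (.node (.leaf ⟨[51], 0xff80c0000000000000, .solve [55, 67] [54, 63, 64, 65, 66, 68, 69, 70, 71] [41, 58] none 198⟩)
 (.leaf ⟨[], 0x0, .leaf 0⟩))
 (.node (.leaf ⟨[40, 43], 0xffd0f8800000000000, .solve [52, 62] [47, 51, 53, 54, 55, 60, 63, 64, 65, 66, 67, 68, 69, 70, 71] [] (some (67, [47, 51, 53, 54, 55, 60, 63, 64, 65, 66, 68, 69, 70, 71])) 454⟩)
 (.leaf ⟨[], 0x0, .leaf 0⟩)))))
 (.node (.node (.node (.node (.leaf ⟨[65], 0x200000000000000000, .branch [69] [] [[(-1), 0, (-1), 0, (-1), (-1)]] 5 38⟩)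
 (.leaf ⟨[46], 0xfffaff304000000000, .solve [44] [38, 45, 48, 49, 50, 51, 52, 53, 54, 55, 57, 59, 60, 61, 62, 63, 64, 65, 66, 67, 68, 69, 70, 71] [] (some (51, [38, 45, 48, 49, 50, 52, 53, 54, 55, 57, 59, 60, 61, 62, 63, 64, 65, 66, 67, 68, 69, 70, 71])) 550⟩))
 (.node (.leaf ⟨[48, 50], 0xe28000000000000000, .solve [71] [63, 65, 69, 70] [66, 68] none 294⟩)
 (.leaf ⟨[], 0x0, .leaf 0⟩)))
 (.node (.node (.leaf ⟨[52, 53, 62], 0x421000000000000000, .solve [60] [65, 70] [] (some (70, [65])) 166⟩)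
 (.leaf ⟨[36, 56], 0xff80e0c08000000000, .solve [53] [39, 46, 47, 54, 55, 63, 64, 65, 66, 67, 68, 69, 70, 71] [] (some (54, [39, 46, 47, 55, 63, 64, 65, 66, 67, 68, 69, 70, 71])) 678⟩))
 (.node (.leaf ⟨[47], 0xfff4fa020000000000, .solve [49, 61] [41, 51, 52, 53, 54, 55, 58, 60, 62, 63, 64, 65, 66, 67, 68, 69, 70, 71] [38, 57] none 422⟩)
 (.leaf ⟨[], 0x0, .leaf 0⟩))))
 (.node (.node (.node (.leaf ⟨[60], 0x800000000000000000, .branch [71] [] [[(-1), (-2), 0, 0, 0, (-1)]] 101 102⟩)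
 (.leaf ⟨[37, 42], 0xc00000000000000000, .branch [70] [71] [[0, (-1), 0, 0, 0, 0]] 613 614⟩))
 (.node (.leaf ⟨[41, 58], 0xff80e0100000000000, .solve [54, 64] [44, 53, 55, 63, 65, 66, 67, 68, 69, 70, 71] [48, 50] none 358⟩)
 (.leaf ⟨[], 0x0, .leaf 0⟩)))
 (.node (.node (.leaf ⟨[49, 51, 61], 0x0, .word [56, 15, 56, 36, 35, 36] 230⟩)
 (.leaf ⟨[], 0x0, .leaf 0⟩))
 (.node (.leaf ⟨[38, 57], 0xff90c8100000000000, .solve [60] [44, 51, 54, 55, 63, 64, 65, 66, 67, 68, 69, 70, 71] [41, 58] none 486⟩)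
 (.leaf ⟨[], 0x0, .leaf 0⟩)))))

def twE6T8 : TwTree :=
 .node (.node (.node (.node (.node (.leaf ⟨[71], 0x0, .word [46, 25, 46] 7⟩)
 (.leaf ⟨[46, 54, 64], 0x200000000000000000, .branch [69] [] [[0, (-1), (-2), (-2), (-2), 0]] 502 519⟩))
 (.node (.leaf ⟨[38, 46, 57, 65], 0x0, .word [42, 29, 42, 37, 34, 37] 263⟩)
 (.leaf ⟨[], 0x0, .leaf 0⟩)))
 (.node (.node (.leaf ⟨[53], 0xfe0080000000000000, .solve [55, 67] [65, 66, 68, 69, 70, 71] [38, 57] none 135⟩)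
 (.leaf ⟨[37, 42], 0xfffcfffb0000000000, .solve [40, 43] [41, 44, 45, 46, 47, 48, 49, 50, 51, 52, 53, 54, 55, 58, 59, 60, 61, 62, 63, 64, 65, 66, 67, 68, 69, 70, 71] [39] (some (44, [41, 45, 46, 47, 48, 49, 50, 51, 52, 53, 54, 55, 58, 59, 60, 61, 62, 63, 64, 65, 66, 67, 68, 69, 70, 71])) 647⟩))
 (.node (.leaf ⟨[47, 52, 62], 0x400000000000000000, .branch [70] [] [[0, (-1), (-2), (-3), (-2), 0]] 389 391⟩)
 (.leaf ⟨[], 0x0, .leaf 0⟩))))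
 (.node (.node (.node (.leaf ⟨[55, 63, 67], 0x400000000000000000, .solve [70] [] [41, 58] none 71⟩)
 (.leaf ⟨[39], 0x9c3887200000000000, .branch [48, 50] [45, 49, 55, 59, 60, 61, 66, 67, 68, 71] [[0, 0, 0, 0, 0, (-1)], [(-1), 0, 0, 0, 0, 0]] 577 583⟩))
 (.node (.leaf ⟨[44], 0xd55055000000000000, .solve [70] [48, 50, 52, 54, 60, 62, 64, 66, 68, 71] [65] none 327⟩)
 (.leaf ⟨[], 0x0, .leaf 0⟩)))
 (.node (.node (.leaf ⟨[51], 0xff90c0000000000000, .solve [60] [54, 55, 63, 64, 65, 66, 67, 68, 69, 70, 71] [] (some (69, [54, 55, 63, 64, 65, 66, 67, 68, 70, 71])) 199⟩)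
 (.leaf ⟨[], 0x0, .leaf 0⟩))
 (.node (.leaf ⟨[40, 43], 0xfff0fa800000000000, .solve [49, 61] [47, 51, 52, 53, 54, 55, 60, 62, 63, 64, 65, 66, 67, 68, 69, 70, 71] [] (some (54, [47, 51, 52, 53, 55, 60, 62, 63, 64, 65, 66, 67, 68, 69, 70, 71])) 455⟩)
 (.leaf ⟨[], 0x0, .leaf 0⟩)))))
 (.node (.node (.node (.node (.leaf ⟨[65], 0xa00000000000000000, .solve [71] [69] [51] none 39⟩)
 (.leaf ⟨[46], 0xfffeff324000000000, .solve [41, 58] [38, 44, 45, 48, 49, 50, 51, 52, 53, 54, 55, 57, 59, 60, 61, 62, 63, 64, 65, 66, 67, 68, 69, 70, 71] [] (some (61, [38, 44, 45, 48, 49, 50, 51, 52, 53, 54, 55, 57, 59, 60, 62, 63, 64, 65, 66, 67, 68, 69, 70, 71])) 551⟩))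
 (.node (.leaf ⟨[48, 50], 0xf68000000000000000, .solve [66, 68] [63, 65, 69, 70, 71] [60] (some (71, [63, 65, 69, 70])) 295⟩)
 (.leaf ⟨[], 0x0, .leaf 0⟩)))
 (.node (.node (.leaf ⟨[52, 62], 0x421020000000000000, .branch [53] [60, 65, 70] [[(-1), 0, 0, 0, 0, (-1)]] 156 167⟩)
 (.leaf ⟨[36, 56], 0xffc0f0c08000000000, .solve [52, 62] [39, 46, 47, 53, 54, 55, 63, 64, 65, 66, 67, 68, 69, 70, 71] [51] (some (63, [39, 46, 47, 53, 54, 55, 64, 65, 66, 67, 68, 69, 70, 71])) 679⟩))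
 (.node (.leaf ⟨[47], 0xfffcfa220000000000, .solve [45, 59] [41, 49, 51, 52, 53, 54, 55, 58, 60, 61, 62, 63, 64, 65, 66, 67, 68, 69, 70, 71] [] (some (54, [41, 49, 51, 52, 53, 55, 58, 60, 61, 62, 63, 64, 65, 66, 67, 68, 69, 70, 71])) 423⟩)
 (.leaf ⟨[], 0x0, .leaf 0⟩))))
 (.node (.node (.node (.leaf ⟨[55, 60, 67], 0x0, .word [56, 15, 56, 36, 35, 36] 54⟩)
 (.leaf ⟨[37, 42, 63], 0x400000000000000000, .branch [70] [] [[(-1), 1, (-1), (-1), (-1), (-1)]] 143 160⟩))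
 (.node (.leaf ⟨[41, 58], 0xff90e0100000000000, .solve [60] [44, 53, 54, 55, 63, 64, 65, 66, 67, 68, 69, 70, 71] [38, 57] none 359⟩)
 (.leaf ⟨[], 0x0, .leaf 0⟩)))
 (.node (.node (.leaf ⟨[41, 44, 58, 71], 0x0, .word [39, 32, 39] 158⟩)
 (.leaf ⟨[], 0x0, .leaf 0⟩))
 (.node (.leaf ⟨[38, 57], 0xff90e8100000000000, .solve [53] [44, 51, 54, 55, 60, 63, 64, 65, 66, 67, 68, 69, 70, 71] [] (some (67, [44, 51, 54, 55, 60, 63, 64, 65, 66, 68, 69, 70, 71])) 487⟩)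
 (.leaf ⟨[], 0x0, .leaf 0⟩)))))

def twE6T9 : TwTree :=
 .node (.node (.node (.node (.node (.leaf ⟨[], 0x800000000000000000, .branch [71] [] [[0, (-1), 0, 0, 0, 0]] 0 8⟩)
 (.leaf ⟨[46, 54, 64], 0x340000000000000000, .solve [66, 68] [69] [38, 57] none 520⟩))
 (.node (.leaf ⟨[37, 42, 46, 53], 0x0, .word [56, 15, 56, 36, 35, 36] 264⟩)
 (.leaf ⟨[], 0x0, .leaf 0⟩)))
 (.node (.node (.leaf ⟨[53], 0xfe8080000000000000, .solve [63] [55, 65, 66, 67, 68, 69, 70, 71] [] (some (71, [55, 65, 66, 67, 68, 69, 70])) 136⟩)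
 (.leaf ⟨[37, 42], 0xfffefffb4000000000, .solve [38, 57] [40, 41, 43, 44, 45, 46, 47, 48, 49, 50, 51, 52, 53, 54, 55, 58, 59, 60, 61, 62, 63, 64, 65, 66, 67, 68, 69, 70, 71] [36, 56] none 648⟩))
 (.node (.leaf ⟨[47, 52, 62], 0x540000000000000000, .solve [66, 68] [70] [41, 58] none 392⟩)
 (.leaf ⟨[], 0x0, .leaf 0⟩))))
 (.node (.node (.node (.leaf ⟨[63], 0x480080000000000000, .branch [55, 67] [70] [[0, 0, 0, 0, 1, 0], [0, 0, 1, 0, 0, 0]] 70 72⟩)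
 (.leaf ⟨[39, 44], 0x800000000000000000, .branch [71] [] [[(-1), 2, 0, 1, 0, (-1)]] 32 126⟩))
 (.node (.leaf ⟨[44], 0xf55055000000000000, .solve [69] [48, 50, 52, 54, 60, 62, 64, 66, 68, 70, 71] [63] none 328⟩)
 (.leaf ⟨[], 0x0, .leaf 0⟩)))
 (.node (.node (.leaf ⟨[51], 0xff90e0000000000000, .solve [53] [54, 55, 60, 63, 64, 65, 66, 67, 68, 69, 70, 71] [39] none 200⟩)
 (.leaf ⟨[], 0x0, .leaf 0⟩))
 (.node (.leaf ⟨[40, 43], 0xfff8faa00000000000, .solve [45, 59] [47, 49, 51, 52, 53, 54, 55, 60, 61, 62, 63, 64, 65, 66, 67, 68, 69, 70, 71] [38, 57] none 456⟩)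
 (.leaf ⟨[], 0x0, .leaf 0⟩)))))
 (.node (.node (.node (.node (.leaf ⟨[65], 0xe00000000000000000, .solve [70] [69, 71] [44] none 40⟩)
 (.leaf ⟨[46], 0xfffeffb24000000000, .solve [47] [38, 41, 44, 45, 48, 49, 50, 51, 52, 53, 54, 55, 57, 58, 59, 60, 61, 62, 63, 64, 65, 66, 67, 68, 69, 70, 71] [39] none 552⟩))
 (.node (.leaf ⟨[48, 50], 0xfe8080000000000000, .solve [55, 67] [63, 65, 66, 68, 69, 70, 71] [45, 59] none 296⟩)
 (.leaf ⟨[], 0x0, .leaf 0⟩)))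
 (.node (.node (.leaf ⟨[52, 62], 0xc21020000000000000, .solve [71] [53, 60, 65, 70] [54, 64] none 168⟩)
 (.leaf ⟨[36, 56], 0xffd0f0c08000000000, .solve [60] [39, 46, 47, 52, 53, 54, 55, 62, 63, 64, 65, 66, 67, 68, 69, 70, 71] [45, 59] none 680⟩))
 (.node (.leaf ⟨[47], 0xfffcff220000000000, .solve [48, 50] [41, 45, 49, 51, 52, 53, 54, 55, 58, 59, 60, 61, 62, 63, 64, 65, 66, 67, 68, 69, 70, 71] [37, 42] none 424⟩)
 (.leaf ⟨[], 0x0, .leaf 0⟩))))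
 (.node (.node (.node (.leaf ⟨[55, 60, 67], 0x800000000000000000, .solve [71] [] [49, 61] none 104⟩)
 (.leaf ⟨[37, 42, 63], 0xc00000000000000000, .solve [71] [70] [53] none 616⟩))
 (.node (.leaf ⟨[41, 58], 0xffd0f0100000000000, .solve [52, 62] [44, 53, 54, 55, 60, 63, 64, 65, 66, 67, 68, 69, 70, 71] [] (some (66, [44, 53, 54, 55, 60, 63, 64, 65, 67, 68, 69, 70, 71])) 360⟩)
 (.leaf ⟨[], 0x0, .leaf 0⟩)))
 (.node (.node (.leaf ⟨[40, 43, 60, 71], 0x0, .word [56, 15, 56, 36, 35, 36] 232⟩)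
 (.leaf ⟨[], 0x0, .leaf 0⟩))
 (.node (.leaf ⟨[38, 57], 0xffd0f8100000000000, .solve [52, 62] [44, 51, 53, 54, 55, 60, 63, 64, 65, 66, 67, 68, 69, 70, 71] [48, 50] none 488⟩)
 (.leaf ⟨[], 0x0, .leaf 0⟩)))))

def twE6T10 : TwTree :=
 .node (.node (.node (.node (.node (.leaf ⟨[70], 0x800000000000000000, .solve [71] [] [46] none 7⟩)
 (.leaf ⟨[46, 54, 64], 0x360000000000000000, .solve [65] [66, 68, 69] [36, 56] none 521⟩))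
 (.node (.leaf ⟨[40, 43, 47, 51], 0x0, .word [39, 32, 39] 265⟩)
 (.leaf ⟨[], 0x0, .leaf 0⟩)))
 (.node (.node (.leaf ⟨[53], 0xff80c0000000000000, .solve [54, 64] [55, 63, 65, 66, 67, 68, 69, 70, 71] [36, 56] none 137⟩)
 (.leaf ⟨[37, 42], 0xfffefffbc000000000, .solve [39] [38, 40, 41, 43, 44, 45, 46, 47, 48, 49, 50, 51, 52, 53, 54, 55, 57, 58, 59, 60, 61, 62, 63, 64, 65, 66, 67, 68, 69, 70, 71] [] (some (40, [38, 41, 43, 44, 45, 46, 47, 48, 49, 50, 51, 52, 53, 54, 55, 57, 58, 59, 60, 61, 62, 63, 64, 65, 66, 67, 68, 69, 70, 71])) 649⟩))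
 (.node (.leaf ⟨[47, 52, 62], 0x5c0080000000000000, .solve [55, 67] [66, 68, 70] [40, 43] none 393⟩)
 (.leaf ⟨[], 0x0, .leaf 0⟩))))
 (.node (.node (.node (.leaf ⟨[63], 0xc80080000000000000, .solve [71] [55, 67, 70] [53] none 73⟩)
 (.leaf ⟨[39, 44, 66, 68], 0x800000000000000000, .solve [71] [] [48, 50] none 188⟩))
 (.node (.leaf ⟨[44], 0xf75055000000000000, .solve [65] [48, 50, 52, 54, 60, 62, 64, 66, 68, 69, 70, 71] [] (some (70, [48, 50, 52, 54, 60, 62, 64, 66, 68, 69, 71])) 329⟩)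
 (.leaf ⟨[], 0x0, .leaf 0⟩)))
 (.node (.node (.leaf ⟨[51], 0xffd0f0000000000000, .solve [52, 62] [53, 54, 55, 60, 63, 64, 65, 66, 67, 68, 69, 70, 71] [36, 56] none 201⟩)
 (.leaf ⟨[], 0x0, .leaf 0⟩))
 (.node (.leaf ⟨[40, 43], 0xfff8ffa00000000000, .solve [48, 50] [45, 47, 49, 51, 52, 53, 54, 55, 59, 60, 61, 62, 63, 64, 65, 66, 67, 68, 69, 70, 71] [46] (some (53, [45, 47, 49, 51, 52, 54, 55, 59, 60, 61, 62, 63, 64, 65, 66, 67, 68, 69, 70, 71])) 457⟩)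
 (.leaf ⟨[], 0x0, .leaf 0⟩)))))
 (.node (.node (.node (.node (.leaf ⟨[65], 0xf40000000000000000, .solve [66, 68] [69, 70, 71] [37, 42] none 41⟩)
 (.leaf ⟨[46], 0xfffeffbb4000000000, .solve [40, 43] [38, 41, 44, 45, 47, 48, 49, 50, 51, 52, 53, 54, 55, 57, 58, 59, 60, 61, 62, 63, 64, 65, 66, 67, 68, 69, 70, 71] [] (some (48, [38, 41, 44, 45, 47, 49, 50, 51, 52, 53, 54, 55, 57, 58, 59, 60, 61, 62, 63, 64, 65, 66, 67, 68, 69, 70, 71])) 553⟩))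
 (.node (.leaf ⟨[48, 50], 0xff80c0000000000000, .solve [54, 64] [55, 63, 65, 66, 67, 68, 69, 70, 71] [41, 58] none 297⟩)
 (.leaf ⟨[], 0x0, .leaf 0⟩)))
 (.node (.node (.leaf ⟨[52, 62], 0xe21020000000000000, .solve [69] [53, 60, 65, 70, 71] [45, 59] none 169⟩)
 (.leaf ⟨[36, 56], 0xffd0f8c08000000000, .solve [51] [39, 46, 47, 52, 53, 54, 55, 60, 62, 63, 64, 65, 66, 67, 68, 69, 70, 71] [] (some (62, [39, 46, 47, 52, 53, 54, 55, 60, 63, 64, 65, 66, 67, 68, 69, 70, 71])) 681⟩))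
 (.node (.leaf ⟨[47], 0xfffcff320000000000, .solve [44] [41, 45, 48, 49, 50, 51, 52, 53, 54, 55, 58, 59, 60, 61, 62, 63, 64, 65, 66, 67, 68, 69, 70, 71] [] (some (53, [41, 45, 48, 49, 50, 51, 52, 54, 55, 58, 59, 60, 61, 62, 63, 64, 65, 66, 67, 68, 69, 70, 71])) 425⟩)
 (.leaf ⟨[], 0x0, .leaf 0⟩))))
 (.node (.node (.node (.leaf ⟨[60], 0x880080000000000000, .branch [55, 67] [71] [[0, 0, 0, 0, 1, 0], [0, 0, 1, 0, 0, 0]] 103 105⟩)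
 (.leaf ⟨[37, 42], 0xc08000000000000000, .branch [63] [70, 71] [[0, (-1), 0, 0, 0, 0]] 615 617⟩))
 (.node (.leaf ⟨[41, 58], 0xffd0f8100000000000, .solve [51] [44, 52, 53, 54, 55, 60, 62, 63, 64, 65, 66, 67, 68, 69, 70, 71] [] (some (67, [44, 52, 53, 54, 55, 60, 62, 63, 64, 65, 66, 68, 69, 70, 71])) 361⟩)
 (.leaf ⟨[], 0x0, .leaf 0⟩)))
 (.node (.node (.leaf ⟨[48, 50, 63, 70], 0x0, .word [46, 25, 46] 233⟩)
 (.leaf ⟨[], 0x0, .leaf 0⟩))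
 (.node (.leaf ⟨[38, 57], 0xfff0fa100000000000, .solve [49, 61] [44, 51, 52, 53, 54, 55, 60, 62, 63, 64, 65, 66, 67, 68, 69, 70, 71] [47] (some (63, [44, 51, 52, 53, 54, 55, 60, 62, 64, 65, 66, 67, 68, 69, 70, 71])) 489⟩)
 (.leaf ⟨[], 0x0, .leaf 0⟩)))))

def twE6T11 : TwTree :=
 .node (.node (.node (.node (.node (.leaf ⟨[], 0xc00000000000000000, .branch [70] [71] [[0, (-1), 0, 0, 0, 0]] 9 10⟩)
 (.leaf ⟨[46, 54, 64], 0x3e0080000000000000, .solve [55, 67] [65, 66, 68, 69] [37, 42] none 522⟩))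
 (.node (.leaf ⟨[39, 44, 48, 50], 0x0, .word [46, 25, 46] 266⟩)
 (.leaf ⟨[], 0x0, .leaf 0⟩)))
 (.node (.node (.leaf ⟨[53], 0xff90c0000000000000, .solve [60] [54, 55, 63, 64, 65, 66, 67, 68, 69, 70, 71] [] (some (70, [54, 55, 63, 64, 65, 66, 67, 68, 69, 71])) 138⟩)
 (.leaf ⟨[], 0xfffeffffe000000000, .branch [37, 42] [38, 39, 40, 41, 43, 44, 45, 46, 47, 48, 49, 50, 51, 52, 53, 54, 55, 57, 58, 59, 60, 61, 62, 63, 64, 65, 66, 67, 68, 69, 70, 71] [[0, 0, 0, 0, 0, (-1)], [(-1), 0, 0, 0, 0, 0]] 612 650⟩))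
 (.node (.leaf ⟨[47, 52, 62], 0x5c8080000000000000, .solve [63] [55, 66, 67, 68, 70] [36, 56] none 394⟩)
 (.leaf ⟨[], 0x0, .leaf 0⟩))))
 (.node (.node (.node (.leaf ⟨[63], 0xe80080000000000000, .solve [69] [55, 67, 70, 71] [44] none 74⟩)
 (.leaf ⟨[39, 44], 0x940000000000000000, .branch [66, 68] [71] [[3, (-3), 0, (-2), (-1), (-1)], [(-1), (-3), (-1), (-2), 0, 3]] 585 586⟩))
 (.node (.leaf ⟨[44], 0xff50d5000000000000, .solve [55, 67] [48, 50, 52, 54, 60, 62, 64, 65, 66, 68, 69, 70, 71] [49, 61] none 330⟩)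
 (.leaf ⟨[], 0x0, .leaf 0⟩)))
 (.node (.node (.leaf ⟨[], 0xffd0f8000000000000, .branch [51] [52, 53, 54, 55, 60, 62, 63, 64, 65, 66, 67, 68, 69, 70, 71] [[0, (-1), 0, 0, 0, 0]] 175 202⟩)
 (.leaf ⟨[], 0x0, .leaf 0⟩))
 (.node (.leaf ⟨[40, 43], 0xfff8ffb00000000000, .solve [44] [45, 47, 48, 49, 50, 51, 52, 53, 54, 55, 59, 60, 61, 62, 63, 64, 65, 66, 67, 68, 69, 70, 71] [37, 42] none 458⟩)
 (.leaf ⟨[], 0x0, .leaf 0⟩)))))
 (.node (.node (.node (.node (.leaf ⟨[], 0xf60000000000000000, .branch [65] [66, 68, 69, 70, 71] [[0, 0, 0, (-1), 0, 0]] 28 42⟩)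
 (.leaf ⟨[], 0xfffefffb4000000000, .branch [46] [38, 40, 41, 43, 44, 45, 47, 48, 49, 50, 51, 52, 53, 54, 55, 57, 58, 59, 60, 61, 62, 63, 64, 65, 66, 67, 68, 69, 70, 71] [[0, (-1), 0, 0, 0, 0]] 496 554⟩))
 (.node (.leaf ⟨[48, 50], 0xff90c0000000000000, .solve [60] [54, 55, 63, 64, 65, 66, 67, 68, 69, 70, 71] [] (some (66, [54, 55, 63, 64, 65, 67, 68, 69, 70, 71])) 298⟩)
 (.leaf ⟨[], 0x0, .leaf 0⟩)))
 (.node (.node (.leaf ⟨[52, 62], 0xf61020000000000000, .solve [66, 68] [53, 60, 65, 69, 70, 71] [41, 58] none 170⟩)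
 (.leaf ⟨[36, 56], 0xfff0fac08000000000, .solve [49, 61] [39, 46, 47, 51, 52, 53, 54, 55, 60, 62, 63, 64, 65, 66, 67, 68, 69, 70, 71] [48, 50] none 682⟩))
 (.node (.leaf ⟨[], 0xfffcffb20000000000, .branch [47] [41, 44, 45, 48, 49, 50, 51, 52, 53, 54, 55, 58, 59, 60, 61, 62, 63, 64, 65, 66, 67, 68, 69, 70, 71] [[0, (-1), 0, 0, 0, 0]] 366 426⟩)
 (.leaf ⟨[], 0x0, .leaf 0⟩))))
 (.node (.node (.node (.leaf ⟨[54, 60, 64], 0x0, .word [56, 15, 56, 36, 35, 36] 90⟩)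
 (.leaf ⟨[37, 42, 60], 0x800000000000000000, .branch [71] [] [[(-1), (-2), 0, 1, 0, (-1)]] 142 159⟩))
 (.node (.leaf ⟨[41, 58], 0xfff0fa100000000000, .solve [49, 61] [44, 51, 52, 53, 54, 55, 60, 62, 63, 64, 65, 66, 67, 68, 69, 70, 71] [46] (some (65, [44, 51, 52, 53, 54, 55, 60, 62, 63, 64, 66, 67, 68, 69, 70, 71])) 362⟩)
 (.leaf ⟨[], 0x0, .leaf 0⟩)))
 (.node (.node (.leaf ⟨[49, 51, 61, 70], 0x0, .word [56, 15, 56, 36, 35, 36] 234⟩)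
 (.leaf ⟨[], 0x0, .leaf 0⟩))
 (.node (.leaf ⟨[38, 57], 0xfff8fa300000000000, .solve [45, 59] [44, 49, 51, 52, 53, 54, 55, 60, 61, 62, 63, 64, 65, 66, 67, 68, 69, 70, 71] [40, 43] none 490⟩)
 (.leaf ⟨[], 0x0, .leaf 0⟩)))))

def twE6T12 : TwTree :=
 .node (.node (.node (.node (.node (.leaf ⟨[69], 0x800000000000000000, .solve [71] [] [47] none 6⟩)
 (.leaf ⟨[46], 0x3f00c0000000000000, .branch [54, 64] [55, 65, 66, 67, 68, 69] [[0, 0, 0, 0, (-1), 0], [0, 0, (-1), 0, 0, 0]] 518 523⟩))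
 (.node (.leaf ⟨[39, 49, 60, 61], 0x0, .word [56, 15, 56, 36, 35, 36] 267⟩)
 (.leaf ⟨[], 0x0, .leaf 0⟩)))
 (.node (.node (.leaf ⟨[], 0xff90e0000000000000, .branch [53] [54, 55, 60, 63, 64, 65, 66, 67, 68, 69, 70, 71] [[0, 0, 0, (-1), 0, 0]] 116 139⟩)
 (.leaf ⟨[36, 56, 71], 0x0, .word [46, 25, 46] 80⟩))
 (.node (.leaf ⟨[47], 0x5cc090000000000000, .branch [52, 62] [55, 63, 66, 67, 68, 70] [[0, 0, (-1), (-1), 0, 1], [1, 0, 0, (-1), (-1), 0]] 387 395⟩)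
 (.leaf ⟨[], 0x0, .leaf 0⟩))))
 (.node (.node (.node (.leaf ⟨[63], 0xfc0080000000000000, .solve [66, 68] [55, 67, 69, 70, 71] [40, 43] none 75⟩)
 (.leaf ⟨[39, 44, 60], 0x800000000000000000, .branch [71] [] [[(-1), (-2), (-2), (-3), (-2), (-1)]] 124 185⟩))
 (.node (.leaf ⟨[44], 0xffd0d5000000000000, .solve [63] [48, 50, 52, 54, 55, 60, 62, 64, 65, 66, 67, 68, 69, 70, 71] [] (some (69, [48, 50, 52, 54, 55, 60, 62, 64, 65, 66, 67, 68, 70, 71])) 331⟩)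
 (.leaf ⟨[], 0x0, .leaf 0⟩)))
 (.node (.node (.leaf ⟨[48, 50], 0x0, .word [46, 25, 46] 18⟩)
 (.leaf ⟨[], 0x0, .leaf 0⟩))
 (.node (.leaf ⟨[40, 43], 0xfffcffb20000000000, .solve [41, 58] [44, 45, 47, 48, 49, 50, 51, 52, 53, 54, 55, 59, 60, 61, 62, 63, 64, 65, 66, 67, 68, 69, 70, 71] [36, 56] none 459⟩)
 (.leaf ⟨[], 0x0, .leaf 0⟩)))))
 (.node (.node (.node (.node (.leaf ⟨[36, 39, 56], 0x0, .leaf 3⟩)
 (.leaf ⟨[39], 0x800000000000000000, .branch [71] [] [[0, (-2), 0, (-1), 0, 0]] 1 66⟩))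
 (.node (.leaf ⟨[48, 50], 0xff90e0000000000000, .solve [53] [54, 55, 60, 63, 64, 65, 66, 67, 68, 69, 70, 71] [40, 43] none 299⟩)
 (.leaf ⟨[], 0x0, .leaf 0⟩)))
 (.node (.node (.leaf ⟨[52, 62], 0xfe10a0000000000000, .solve [55, 67] [53, 60, 65, 66, 68, 69, 70, 71] [40, 43] none 171⟩)
 (.leaf ⟨[36, 56], 0xfff8fae08000000000, .solve [45, 59] [39, 46, 47, 49, 51, 52, 53, 54, 55, 60, 61, 62, 63, 64, 65, 66, 67, 68, 69, 70, 71] [44] (some (60, [39, 46, 47, 49, 51, 52, 53, 54, 55, 61, 62, 63, 64, 65, 66, 67, 68, 69, 70, 71])) 683⟩))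
 (.node (.leaf ⟨[40, 43], 0x800000000000000000, .branch [71] [] [[0, (-1), 0, (-1), 0, 0]] 18 84⟩)
 (.leaf ⟨[], 0x0, .leaf 0⟩))))
 (.node (.node (.node (.leaf ⟨[54, 60, 64], 0x800000000000000000, .solve [71] [] [52, 62] none 107⟩)
 (.leaf ⟨[37, 42, 60], 0xc00000000000000000, .solve [70] [71] [53] none 619⟩))
 (.node (.leaf ⟨[41, 58], 0xfff8fa300000000000, .solve [45, 59] [44, 49, 51, 52, 53, 54, 55, 60, 61, 62, 63, 64, 65, 66, 67, 68, 69, 70, 71] [37, 42] none 363⟩)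
 (.leaf ⟨[], 0x0, .leaf 0⟩)))
 (.node (.node (.leaf ⟨[49, 51, 61], 0x400000000000000000, .branch [70] [] [[(-1), 1, 0, 3, 0, (-1)]] 231 235⟩)
 (.leaf ⟨[], 0x0, .leaf 0⟩))
 (.node (.leaf ⟨[38, 57], 0xfff8ff300000000000, .solve [48, 50] [44, 45, 49, 51, 52, 53, 54, 55, 59, 60, 61, 62, 63, 64, 65, 66, 67, 68, 69, 70, 71] [] (some (52, [44, 45, 49, 51, 53, 54, 55, 59, 60, 61, 62, 63, 64, 65, 66, 67, 68, 69, 70, 71])) 491⟩)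
 (.leaf ⟨[], 0x0, .leaf 0⟩)))))

def twE6T13 : TwTree :=
 .node (.node (.node (.node (.node (.leaf ⟨[69], 0xc00000000000000000, .solve [70] [71] [39] none 12⟩)
 (.leaf ⟨[46, 53], 0x200000000000000000, .branch [69] [] [[0, 0, (-1), 0, (-1), 0]] 498 508⟩))
 (.node (.leaf ⟨[44, 52, 60, 62], 0x0, .word [42, 29, 42, 37, 34, 37] 268⟩)
 (.leaf ⟨[], 0x0, .leaf 0⟩)))
 (.node (.node (.leaf ⟨[52, 62], 0x400000000000000000, .branch [70] [] [[0, (-1), 1, 0, 1, 0]] 21 87⟩)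
 (.leaf ⟨[36, 56], 0x800000000000000000, .branch [71] [] [[0, (-1), 0, 0, 0, 0]] 15 652⟩))
 (.node (.leaf ⟨[47, 51], 0x400000000000000000, .branch [70] [] [[(-1), (-1), 0, 1, 0, (-1)]] 377 379⟩)
 (.leaf ⟨[], 0x0, .leaf 0⟩))))
 (.node (.node (.node (.leaf ⟨[63], 0xfe0080000000000000, .solve [65] [55, 66, 67, 68, 69, 70, 71] [39] none 76⟩)
 (.leaf ⟨[39, 44, 60], 0x940000000000000000, .solve [66, 68] [71] [48, 50] none 588⟩))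
 (.node (.leaf ⟨[44], 0xffd0f5000000000000, .solve [53] [48, 50, 52, 54, 55, 60, 62, 63, 64, 65, 66, 67, 68, 69, 70, 71] [47] none 332⟩)
 (.leaf ⟨[], 0x0, .leaf 0⟩)))
 (.node (.node (.leaf ⟨[49, 61], 0x0, .word [56, 15, 56, 36, 35, 36] 204⟩)
 (.leaf ⟨[], 0x0, .leaf 0⟩))
 (.node (.leaf ⟨[], 0xfffcffbb0000000000, .branch [40, 43] [41, 44, 45, 47, 48, 49, 50, 51, 52, 53, 54, 55, 58, 59, 60, 61, 62, 63, 64, 65, 66, 67, 68, 69, 70, 71] [[0, 0, 0, 0, 0, (-1)], [(-1), 0, 0, 0, 0, 0]] 427 460⟩)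
 (.leaf ⟨[], 0x0, .leaf 0⟩)))))
 (.node (.node (.node (.node (.leaf ⟨[36, 47, 56], 0x0, .word [46, 25, 46] 44⟩)
 (.leaf ⟨[39, 66, 68], 0x800000000000000000, .solve [71] [] [48, 50] none 53⟩))
 (.node (.leaf ⟨[48, 50], 0xffd0f0000000000000, .solve [52, 62] [53, 54, 55, 60, 63, 64, 65, 66, 67, 68, 69, 70, 71] [38, 57] none 300⟩)
 (.leaf ⟨[], 0x0, .leaf 0⟩)))
 (.node (.node (.leaf ⟨[52, 62], 0xff10e0000000000000, .solve [54, 64] [53, 55, 60, 65, 66, 67, 68, 69, 70, 71] [39] (some (71, [53, 55, 60, 65, 66, 67, 68, 69, 70])) 172⟩)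
 (.leaf ⟨[36, 56], 0xfff8ffe08000000000, .solve [48, 50] [39, 45, 46, 47, 49, 51, 52, 53, 54, 55, 59, 60, 61, 62, 63, 64, 65, 66, 67, 68, 69, 70, 71] [] (some (61, [39, 45, 46, 47, 49, 51, 52, 53, 54, 55, 59, 60, 62, 63, 64, 65, 66, 67, 68, 69, 70, 71])) 684⟩))
 (.node (.leaf ⟨[40, 43, 69], 0x800000000000000000, .solve [71] [] [47] none 209⟩)
 (.leaf ⟨[], 0x0, .leaf 0⟩))))
 (.node (.node (.node (.leaf ⟨[54, 60, 64], 0x880080000000000000, .solve [55, 67] [71] [37, 42] none 108⟩)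
 (.leaf ⟨[37, 42, 60], 0xc08000000000000000, .solve [63] [70, 71] [46] none 620⟩))
 (.node (.leaf ⟨[41, 58], 0xfff8ff300000000000, .solve [48, 50] [44, 45, 49, 51, 52, 53, 54, 55, 59, 60, 61, 62, 63, 64, 65, 66, 67, 68, 69, 70, 71] [] (some (54, [44, 45, 49, 51, 52, 53, 55, 59, 60, 61, 62, 63, 64, 65, 66, 67, 68, 69, 70, 71])) 364⟩)
 (.leaf ⟨[], 0x0, .leaf 0⟩)))
 (.node (.node (.leaf ⟨[49, 51, 61], 0x600000000000000000, .solve [69] [70] [60] none 236⟩)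
 (.leaf ⟨[], 0x0, .leaf 0⟩))
 (.node (.leaf ⟨[38, 57], 0xfffcff320000000000, .solve [41, 58] [44, 45, 48, 49, 50, 51, 52, 53, 54, 55, 59, 60, 61, 62, 63, 64, 65, 66, 67, 68, 69, 70, 71] [39] (some (60, [44, 45, 48, 49, 50, 51, 52, 53, 54, 55, 59, 61, 62, 63, 64, 65, 66, 67, 68, 69, 70, 71])) 492⟩)
 (.leaf ⟨[], 0x0, .leaf 0⟩)))))

def twE6T14 : TwTree :=
 .node (.node (.node (.node (.node (.leaf ⟨[], 0xe00000000000000000, .branch [69] [70, 71] [[0, 0, 0, (-1), 0, 0]] 11 13⟩)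
 (.leaf ⟨[46, 53, 66, 68], 0x200000000000000000, .solve [69] [] [37, 42] none 513⟩))
 (.node (.leaf ⟨[45, 51, 59, 63], 0x0, .word [46, 25, 46] 269⟩)
 (.leaf ⟨[], 0x0, .leaf 0⟩)))
 (.node (.node (.leaf ⟨[37, 42, 60], 0x0, .word [56, 15, 56, 36, 35, 36] 120⟩)
 (.leaf ⟨[36, 56, 70], 0x800000000000000000, .solve [71] [] [46] none 80⟩))
 (.node (.leaf ⟨[47, 51, 66, 68], 0x400000000000000000, .solve [70] [] [40, 43] none 382⟩)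
 (.leaf ⟨[], 0x0, .leaf 0⟩))))
 (.node (.node (.node (.leaf ⟨[], 0xfe8080000000000000, .branch [63] [55, 65, 66, 67, 68, 69, 70, 71] [[0, (-1), 0, 0, 0, 0]] 63 77⟩)
 (.leaf ⟨[39, 44], 0x941000000000000000, .branch [60] [66, 68, 71] [[(-1), 0, (-1), (-1), (-1), (-1)]] 587 589⟩))
 (.node (.leaf ⟨[44], 0xffd0fd000000000000, .solve [51] [48, 50, 52, 53, 54, 55, 60, 62, 63, 64, 65, 66, 67, 68, 69, 70, 71] [46] none 333⟩)
 (.leaf ⟨[], 0x0, .leaf 0⟩)))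
 (.node (.node (.leaf ⟨[48, 50, 70], 0x0, .word [46, 25, 46] 84⟩)
 (.leaf ⟨[], 0x0, .leaf 0⟩))
 (.node (.leaf ⟨[38, 57, 71], 0x0, .word [56, 15, 56, 36, 35, 36] 83⟩)
 (.leaf ⟨[], 0x0, .leaf 0⟩)))))
 (.node (.node (.node (.node (.leaf ⟨[36, 46, 56], 0x0, .word [39, 32, 39] 45⟩)
 (.leaf ⟨[39], 0x940000000000000000, .branch [66, 68] [71] [[0, (-1), (-1), (-1), 0, 1], [1, (-1), 0, (-1), (-1), 0]] 556 557⟩))
 (.node (.leaf ⟨[48, 50], 0xffd0f8000000000000, .solve [51] [52, 53, 54, 55, 60, 62, 63, 64, 65, 66, 67, 68, 69, 70, 71] [37, 42] none 301⟩)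
 (.leaf ⟨[], 0x0, .leaf 0⟩)))
 (.node (.node (.leaf ⟨[52, 62], 0xff90e0000000000000, .solve [63] [53, 54, 55, 60, 64, 65, 66, 67, 68, 69, 70, 71] [36, 56] none 173⟩)
 (.leaf ⟨[36, 56], 0xfff8fff08000000000, .solve [44] [39, 45, 46, 47, 48, 49, 50, 51, 52, 53, 54, 55, 59, 60, 61, 62, 63, 64, 65, 66, 67, 68, 69, 70, 71] [] (some (59, [39, 45, 46, 47, 48, 49, 50, 51, 52, 53, 54, 55, 60, 61, 62, 63, 64, 65, 66, 67, 68, 69, 70, 71])) 685⟩))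
 (.node (.leaf ⟨[40, 43], 0xa00000000000000000, .branch [69] [71] [[0, (-1), 0, (-1), 0, 0]] 428 429⟩)
 (.leaf ⟨[], 0x0, .leaf 0⟩))))
 (.node (.node (.node (.leaf ⟨[60], 0x8900c0000000000000, .branch [54, 64] [55, 67, 71] [[0, 0, 0, 0, (-1), 0], [0, 0, (-1), 0, 0, 0]] 106 109⟩)
 (.leaf ⟨[37, 42], 0xc09000000000000000, .branch [60] [63, 70, 71] [[0, (-1), 0, 0, 0, 0]] 618 621⟩))
 (.node (.leaf ⟨[], 0xfffcff320000000000, .branch [41, 58] [44, 45, 48, 49, 50, 51, 52, 53, 54, 55, 59, 60, 61, 62, 63, 64, 65, 66, 67, 68, 69, 70, 71] [[0, 0, 0, 0, 0, 1], [1, 0, 0, 0, 0, 0]] 337 365⟩)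
 (.leaf ⟨[], 0x0, .leaf 0⟩)))
 (.node (.node (.leaf ⟨[49, 51, 61], 0x601000000000000000, .solve [60] [69, 70] [] (some (69, [70])) 237⟩)
 (.leaf ⟨[], 0x0, .leaf 0⟩))
 (.node (.leaf ⟨[38, 57], 0xfffcffb20000000000, .solve [47] [41, 44, 45, 48, 49, 50, 51, 52, 53, 54, 55, 58, 59, 60, 61, 62, 63, 64, 65, 66, 67, 68, 69, 70, 71] [] (some (61, [41, 44, 45, 48, 49, 50, 51, 52, 53, 54, 55, 58, 59, 60, 62, 63, 64, 65, 66, 67, 68, 69, 70, 71])) 493⟩)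
 (.leaf ⟨[], 0x0, .leaf 0⟩)))))

def twE6T15 : TwTree :=
 .node (.node (.node (.node (.node (.leaf ⟨[36, 56], 0x0, .leaf 2⟩)
 (.leaf ⟨[46, 53], 0x340000000000000000, .branch [66, 68] [69] [[(-2), (-1), 0, (-2), 0, 0], [0, (-1), 0, (-2), 0, (-2)]] 525 526⟩))
 (.node (.leaf ⟨[45, 51, 59], 0x8000000000000000, .branch [63] [] [[(-1), 0, 0, 2, 0, (-1)]] 253 270⟩)
 (.leaf ⟨[], 0x0, .leaf 0⟩)))
 (.node (.node (.leaf ⟨[37, 42, 63], 0x0, .word [46, 25, 46] 142⟩)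
 (.leaf ⟨[36, 56], 0xc00000000000000000, .branch [70] [71] [[0, (-1), 0, 0, 0, 0]] 653 654⟩))
 (.node (.leaf ⟨[47, 51], 0x540000000000000000, .branch [66, 68] [70] [[2, 1, 0, (-1), 0, 0], [0, 1, 0, (-1), 0, 2]] 397 398⟩)
 (.leaf ⟨[], 0x0, .leaf 0⟩))))
 (.node (.node (.node (.leaf ⟨[36, 39, 56, 70], 0x0, .word [69] 44⟩)
 (.leaf ⟨[39, 44, 48, 50], 0x800000000000000000, .solve [71] [] [66, 68] none 267⟩))
 (.node (.leaf ⟨[44], 0xfff0ff000000000000, .solve [49, 61] [48, 50, 51, 52, 53, 54, 55, 60, 62, 63, 64, 65, 66, 67, 68, 69, 70, 71] [] (some (67, [48, 50, 51, 52, 53, 54, 55, 60, 62, 63, 64, 65, 66, 68, 69, 70, 71])) 334⟩)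
 (.leaf ⟨[], 0x0, .leaf 0⟩)))
 (.node (.node (.leaf ⟨[49, 61, 70], 0x0, .word [56, 15, 56, 36, 35, 36] 206⟩)
 (.leaf ⟨[], 0x0, .leaf 0⟩))
 (.node (.leaf ⟨[38, 57], 0x800000000000000000, .branch [71] [] [[0, (-1), 0, 0, 0, 0]] 16 462⟩)
 (.leaf ⟨[], 0x0, .leaf 0⟩)))))
 (.node (.node (.node (.node (.leaf ⟨[38, 46, 57], 0x0, .word [42, 29, 42, 37, 34, 37] 46⟩)
 (.leaf ⟨[39, 55, 67], 0x800000000000000000, .solve [71] [] [49, 61] none 52⟩))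
 (.node (.leaf ⟨[48, 50], 0xfff0fa000000000000, .solve [49, 61] [51, 52, 53, 54, 55, 60, 62, 63, 64, 65, 66, 67, 68, 69, 70, 71] [36, 56] none 302⟩)
 (.leaf ⟨[], 0x0, .leaf 0⟩)))
 (.node (.node (.leaf ⟨[], 0xffd0f0000000000000, .branch [52, 62] [53, 54, 55, 60, 63, 64, 65, 66, 67, 68, 69, 70, 71] [[0, 0, 0, 0, 1, 1], [1, 0, 1, 0, 0, 0]] 140 174⟩)
 (.leaf ⟨[36, 56], 0xfffcfff28000000000, .solve [41, 58] [39, 44, 45, 46, 47, 48, 49, 50, 51, 52, 53, 54, 55, 59, 60, 61, 62, 63, 64, 65, 66, 67, 68, 69, 70, 71] [40, 43] none 686⟩))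
 (.node (.leaf ⟨[40, 43, 65], 0x200000000000000000, .branch [69] [] [[(-1), 1, (-1), 0, (-1), (-1)]] 144 161⟩)
 (.leaf ⟨[], 0x0, .leaf 0⟩))))
 (.node (.node (.node (.leaf ⟨[60], 0xc900c0000000000000, .solve [70] [54, 55, 64, 67, 71] [53] none 110⟩)
 (.leaf ⟨[37, 42, 53], 0x0, .word [56, 15, 56, 36, 35, 36] 467⟩))
 (.node (.leaf ⟨[47], 0x0, .word [46, 25, 46] 1⟩)
 (.leaf ⟨[], 0x0, .leaf 0⟩)))
 (.node (.node (.leaf ⟨[49, 51, 61], 0x601020000000000000, .solve [53] [60, 69, 70] [39] none 238⟩)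
 (.leaf ⟨[], 0x0, .leaf 0⟩))
 (.node (.leaf ⟨[38, 57], 0xfffcffbb0000000000, .solve [40, 43] [41, 44, 45, 47, 48, 49, 50, 51, 52, 53, 54, 55, 58, 59, 60, 61, 62, 63, 64, 65, 66, 67, 68, 69, 70, 71] [] (some (59, [41, 44, 45, 47, 48, 49, 50, 51, 52, 53, 54, 55, 58, 60, 61, 62, 63, 64, 65, 66, 67, 68, 69, 70, 71])) 494⟩)
 (.leaf ⟨[], 0x0, .leaf 0⟩)))))

def twE6T16 : TwTree :=
 .node (.node (.node (.node (.node (.leaf ⟨[38, 57], 0x0, .word [42, 29, 42, 37, 34, 37] 15⟩)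
 (.leaf ⟨[46, 53, 65, 69], 0x0, .word [39, 32, 39] 401⟩))
 (.node (.leaf ⟨[45, 51, 59], 0x808000000000000000, .solve [71] [63] [65] none 271⟩)
 (.leaf ⟨[], 0x0, .leaf 0⟩)))
 (.node (.node (.leaf ⟨[40, 43, 65], 0x0, .word [39, 32, 39] 143⟩)
 (.leaf ⟨[36, 56, 69], 0x800000000000000000, .solve [71] [] [47] none 466⟩))
 (.node (.leaf ⟨[47, 51, 63], 0x0, .word [46, 25, 46] 124⟩)
 (.leaf ⟨[], 0x0, .leaf 0⟩))))
 (.node (.node (.node (.leaf ⟨[36, 56, 70], 0x0, .word [2] 79⟩)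
 (.leaf ⟨[39, 44, 48, 50], 0x940000000000000000, .solve [66, 68] [71] [60] (some (71, [])) 591⟩))
 (.node (.leaf ⟨[44], 0xfff8ff200000000000, .solve [45, 59] [48, 49, 50, 51, 52, 53, 54, 55, 60, 61, 62, 63, 64, 65, 66, 67, 68, 69, 70, 71] [36, 56] none 335⟩)
 (.leaf ⟨[], 0x0, .leaf 0⟩)))
 (.node (.node (.leaf ⟨[49, 61], 0x400000000000000000, .branch [70] [] [[0, 0, 0, (-1), 0, 0]] 205 207⟩)
 (.leaf ⟨[], 0x0, .leaf 0⟩))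
 (.node (.leaf ⟨[38, 57, 70], 0x800000000000000000, .solve [71] [] [46] none 81⟩)
 (.leaf ⟨[], 0x0, .leaf 0⟩)))))
 (.node (.node (.node (.node (.leaf ⟨[37, 42, 46], 0x0, .word [56, 15, 56, 36, 35, 36] 47⟩)
 (.leaf ⟨[39, 55, 67], 0x940000000000000000, .solve [66, 68] [71] [36, 56] none 559⟩))
 (.node (.leaf ⟨[48, 50], 0xfff8fa200000000000, .solve [45, 59] [49, 51, 52, 53, 54, 55, 60, 61, 62, 63, 64, 65, 66, 67, 68, 69, 70, 71] [] (some (67, [49, 51, 52, 53, 54, 55, 60, 61, 62, 63, 64, 65, 66, 68, 69, 70, 71])) 303⟩)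
 (.leaf ⟨[], 0x0, .leaf 0⟩)))
 (.node (.node (.leaf ⟨[51], 0x400000000000000000, .branch [70] [] [[(-1), (-2), 0, 0, 0, (-1)]] 3 68⟩)
 (.leaf ⟨[36, 56], 0xfffcfffb8000000000, .solve [40, 43] [39, 41, 44, 45, 46, 47, 48, 49, 50, 51, 52, 53, 54, 55, 58, 59, 60, 61, 62, 63, 64, 65, 66, 67, 68, 69, 70, 71] [] (some (41, [39, 44, 45, 46, 47, 48, 49, 50, 51, 52, 53, 54, 55, 58, 59, 60, 61, 62, 63, 64, 65, 66, 67, 68, 69, 70, 71])) 687⟩))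
 (.node (.leaf ⟨[40, 43, 65], 0xa00000000000000000, .solve [71] [69] [51] none 431⟩)
 (.leaf ⟨[], 0x0, .leaf 0⟩))))
 (.node (.node (.node (.leaf ⟨[60], 0xe900c0000000000000, .solve [69] [54, 55, 64, 67, 70, 71] [51] none 111⟩)
 (.leaf ⟨[37, 42, 53], 0x800000000000000000, .solve [71] [] [63] none 623⟩))
 (.node (.leaf ⟨[47, 70], 0x0, .word [46, 25, 46] 66⟩)
 (.leaf ⟨[], 0x0, .leaf 0⟩)))
 (.node (.node (.leaf ⟨[49, 61], 0x601028000000000000, .branch [51] [53, 60, 69, 70] [[0, 0, 0, (-1), 0, 0]] 227 239⟩)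
 (.leaf ⟨[], 0x0, .leaf 0⟩))
 (.node (.leaf ⟨[], 0xfffeffbb4000000000, .branch [38, 57] [40, 41, 43, 44, 45, 47, 48, 49, 50, 51, 52, 53, 54, 55, 58, 59, 60, 61, 62, 63, 64, 65, 66, 67, 68, 69, 70, 71] [[0, 0, 0, 0, 0, 1], [1, 0, 0, 0, 0, 0]] 461 495⟩)
 (.leaf ⟨[], 0x0, .leaf 0⟩)))))

def twE6T17 : TwTree :=
 .node (.node (.node (.node (.node (.leaf ⟨[37, 42], 0x0, .word [56, 15, 56, 36, 35, 36] 16⟩)
 (.leaf ⟨[46, 53, 65], 0x200000000000000000, .branch [69] [] [[(-1), (-1), (-2), (-2), (-2), (-1)]] 507 528⟩))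
 (.node (.leaf ⟨[45, 51, 59], 0x828000000000000000, .solve [65] [63, 71] [] (some (71, [63])) 272⟩)
 (.leaf ⟨[], 0x0, .leaf 0⟩)))
 (.node (.node (.leaf ⟨[41, 53, 58], 0x0, .word [56, 15, 56, 36, 35, 36] 144⟩)
 (.leaf ⟨[36, 56, 69], 0xc00000000000000000, .solve [70] [71] [39] none 656⟩))
 (.node (.leaf ⟨[47, 51, 63, 70], 0x0, .word [46, 25, 46] 185⟩)
 (.leaf ⟨[], 0x0, .leaf 0⟩))))
 (.node (.node (.node (.leaf ⟨[38, 57, 70], 0x0, .word [42, 29, 42, 37, 34, 37] 80⟩)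
 (.leaf ⟨[39, 44, 48, 50], 0x941000000000000000, .solve [60] [66, 68, 71] [] (some (66, [68, 71])) 592⟩))
 (.node (.leaf ⟨[], 0xfff8ff300000000000, .branch [44] [45, 48, 49, 50, 51, 52, 53, 54, 55, 59, 60, 61, 62, 63, 64, 65, 66, 67, 68, 69, 70, 71] [[0, (-1), 0, 0, 0, 0]] 305 336⟩)
 (.leaf ⟨[], 0x0, .leaf 0⟩)))
 (.node (.node (.leaf ⟨[40, 43, 69], 0x0, .word [42, 29, 42, 37, 34, 37] 144⟩)
 (.leaf ⟨[], 0x0, .leaf 0⟩))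
 (.node (.leaf ⟨[38, 57], 0xc00000000000000000, .branch [70] [71] [[0, (-1), 0, 0, 0, 0]] 463 464⟩)
 (.leaf ⟨[], 0x0, .leaf 0⟩)))))
 (.node (.node (.node (.node (.leaf ⟨[40, 43, 47], 0x0, .word [39, 32, 39] 48⟩)
 (.leaf ⟨[39], 0x9c0080000000000000, .branch [55, 67] [66, 68, 71] [[0, 0, (-1), 0, 1, (-1)], [(-1), 0, 1, 0, (-1), 0]] 558 560⟩))
 (.node (.leaf ⟨[], 0xfff8ff200000000000, .branch [48, 50] [45, 49, 51, 52, 53, 54, 55, 59, 60, 61, 62, 63, 64, 65, 66, 67, 68, 69, 70, 71] [[0, 0, 0, 0, 0, (-1)], [(-1), 0, 0, 0, 0, 0]] 284 304⟩)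
 (.leaf ⟨[], 0x0, .leaf 0⟩)))
 (.node (.node (.leaf ⟨[51, 66, 68], 0x400000000000000000, .solve [70] [] [40, 43] none 55⟩)
 (.leaf ⟨[36, 56], 0xfffefffbc000000000, .solve [38, 57] [39, 40, 41, 43, 44, 45, 46, 47, 48, 49, 50, 51, 52, 53, 54, 55, 58, 59, 60, 61, 62, 63, 64, 65, 66, 67, 68, 69, 70, 71] [37, 42] none 688⟩))
 (.node (.leaf ⟨[40, 43], 0xa20000000000000000, .branch [65] [69, 71] [[0, (-1), 0, (-1), 0, 0]] 430 432⟩)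
 (.leaf ⟨[], 0x0, .leaf 0⟩))))
 (.node (.node (.node (.leaf ⟨[60], 0xfd00c0000000000000, .solve [66, 68] [54, 55, 64, 67, 69, 70, 71] [48, 50] none 112⟩)
 (.leaf ⟨[37, 42, 53], 0xc00000000000000000, .solve [70] [71] [60] none 624⟩))
 (.node (.leaf ⟨[47], 0x400000000000000000, .branch [70] [] [[0, (-1), 0, 1, 0, 0]] 367 368⟩)
 (.leaf ⟨[], 0x0, .leaf 0⟩)))
 (.node (.node (.leaf ⟨[49, 61], 0xe01028000000000000, .solve [71] [51, 53, 60, 69, 70] [55, 67] none 240⟩)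
 (.leaf ⟨[], 0x0, .leaf 0⟩))
 (.node (.leaf ⟨[46], 0x0, .word [39, 32, 39] 367⟩)
 (.leaf ⟨[], 0x0, .leaf 0⟩)))))

def twE6T18 : TwTree :=
 .node (.node (.node (.node (.node (.leaf ⟨[40, 43], 0x0, .word [39, 32, 39] 17⟩)
 (.leaf ⟨[46, 53, 65], 0x340000000000000000, .solve [66, 68] [69] [37, 42] none 529⟩))
 (.node (.leaf ⟨[45, 51, 59], 0x828020000000000000, .solve [53] [63, 65, 71] [39] none 273⟩)
 (.leaf ⟨[], 0x0, .leaf 0⟩)))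
 (.node (.node (.leaf ⟨[45, 53, 59], 0x0, .word [42, 29, 42, 37, 34, 37] 145⟩)
 (.leaf ⟨[36, 56], 0xe00000000000000000, .branch [69] [70, 71] [[0, 0, 0, (-1), 0, 0]] 655 657⟩))
 (.node (.leaf ⟨[47, 51, 63], 0x400000000000000000, .branch [70] [] [[(-1), (-1), (-2), (-3), (-2), (-1)]] 400 401⟩)
 (.leaf ⟨[], 0x0, .leaf 0⟩))))
 (.node (.node (.node (.leaf ⟨[37, 42, 70], 0x0, .word [56, 15, 56, 36, 35, 36] 81⟩)
 (.leaf ⟨[39, 44], 0x941005000000000000, .branch [48, 50] [60, 66, 68, 71] [[0, 1, 0, 1, 1, 0], [0, 1, 1, 1, 0, 0]] 590 593⟩))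
 (.node (.leaf ⟨[41, 58], 0x800000000000000000, .branch [71] [] [[0, (-1), 0, (-1), 0, 0]] 19 85⟩)
 (.leaf ⟨[], 0x0, .leaf 0⟩)))
 (.node (.node (.leaf ⟨[48, 50, 69], 0x0, .word [46, 25, 46] 209⟩)
 (.leaf ⟨[], 0x0, .leaf 0⟩))
 (.node (.leaf ⟨[36, 56, 69], 0x0, .word [39, 32, 39] 80⟩)
 (.leaf ⟨[], 0x0, .leaf 0⟩)))))
 (.node (.node (.node (.node (.leaf ⟨[39, 48, 50], 0x0, .word [46, 25, 46] 49⟩)
 (.leaf ⟨[39, 60], 0x800000000000000000, .branch [71] [] [[(-1), (-2), 0, (-1), 0, (-1)]] 33 127⟩))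
 (.node (.leaf ⟨[44], 0x800000000000000000, .branch [71] [] [[(-1), 2, 0, 0, 0, (-1)]] 2 67⟩)
 (.leaf ⟨[], 0x0, .leaf 0⟩)))
 (.node (.node (.leaf ⟨[51], 0x540000000000000000, .branch [66, 68] [70] [[0, 0, 0, 0, 1, 1], [1, 0, 1, 0, 0, 0]] 176 177⟩)
 (.leaf ⟨[36, 56], 0xfffeffffe000000000, .solve [37, 42] [38, 39, 40, 41, 43, 44, 45, 46, 47, 48, 49, 50, 51, 52, 53, 54, 55, 57, 58, 59, 60, 61, 62, 63, 64, 65, 66, 67, 68, 69, 70, 71] [] (some (38, [39, 40, 41, 43, 44, 45, 46, 47, 48, 49, 50, 51, 52, 53, 54, 55, 57, 58, 59, 60, 61, 62, 63, 64, 65, 66, 67, 68, 69, 70, 71])) 689⟩))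
 (.node (.leaf ⟨[40, 43, 60], 0x800000000000000000, .branch [71] [] [[(-1), (-2), 0, (-3), 0, (-1)]] 229 233⟩)
 (.leaf ⟨[], 0x0, .leaf 0⟩))))
 (.node (.node (.node (.leaf ⟨[60], 0xff00c0000000000000, .solve [65] [54, 55, 64, 66, 67, 68, 69, 70, 71] [47] none 113⟩)
 (.leaf ⟨[37, 42, 53], 0xc08000000000000000, .solve [63] [70, 71] [] (some (71, [70])) 625⟩))
 (.node (.leaf ⟨[47, 55, 67], 0x0, .word [46, 25, 46] 52⟩)
 (.leaf ⟨[], 0x0, .leaf 0⟩)))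
 (.node (.node (.leaf ⟨[49, 61], 0xf41028000000000000, .solve [66, 68] [51, 53, 60, 69, 70, 71] [45, 59] none 241⟩)
 (.leaf ⟨[], 0x0, .leaf 0⟩))
 (.node (.leaf ⟨[46, 53], 0x0, .word [39, 32, 39] 377⟩)
 (.leaf ⟨[], 0x0, .leaf 0⟩)))))

def twE6T19 : TwTree :=
 .node (.node (.node (.node (.node (.leaf ⟨[41, 58], 0x0, .word [56, 15, 56, 36, 35, 36] 18⟩)
 (.leaf ⟨[46, 53], 0x360000000000000000, .branch [65] [66, 68, 69] [[0, 0, (-1), 0, (-1), 0]] 527 530⟩))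
 (.node (.leaf ⟨[45, 59], 0x828028000000000000, .branch [51] [53, 63, 65, 71] [[0, 0, 0, (-1), 0, 0]] 261 274⟩)
 (.leaf ⟨[], 0x0, .leaf 0⟩)))
 (.node (.node (.leaf ⟨[52, 53, 62], 0x0, .word [46, 25, 46] 146⟩)
 (.leaf ⟨[36, 47, 56], 0x400000000000000000, .branch [70] [] [[0, (-1), 0, 1, 0, 0]] 45 262⟩))
 (.node (.leaf ⟨[47, 51, 63], 0x540000000000000000, .solve [66, 68] [70] [40, 43] none 402⟩)
 (.leaf ⟨[], 0x0, .leaf 0⟩))))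
 (.node (.node (.node (.leaf ⟨[37, 42, 71], 0x0, .word [46, 25, 46] 82⟩)
 (.leaf ⟨[39, 44], 0x9c1085000000000000, .solve [55, 67] [48, 50, 60, 66, 68, 71] [49, 61] none 594⟩))
 (.node (.leaf ⟨[41, 58, 69], 0x0, .word [56, 15, 56, 36, 35, 36] 209⟩)
 (.leaf ⟨[], 0x0, .leaf 0⟩)))
 (.node (.node (.leaf ⟨[49, 61, 69], 0x0, .word [56, 15, 56, 36, 35, 36] 210⟩)
 (.leaf ⟨[], 0x0, .leaf 0⟩))
 (.node (.leaf ⟨[38, 57, 65], 0x0, .word [42, 29, 42, 37, 34, 37] 466⟩)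
 (.leaf ⟨[], 0x0, .leaf 0⟩)))))
 (.node (.node (.node (.node (.leaf ⟨[39, 48, 50, 55, 67], 0x0, .word [59, 45] 50⟩)
 (.leaf ⟨[39, 55, 60, 67], 0x800000000000000000, .solve [71] [] [49, 61] none 189⟩))
 (.node (.leaf ⟨[44, 66, 68], 0x800000000000000000, .solve [71] [] [48, 50] none 54⟩)
 (.leaf ⟨[], 0x0, .leaf 0⟩)))
 (.node (.node (.leaf ⟨[51, 63], 0x400000000000000000, .branch [70] [] [[(-1), 0, (-2), (-2), (-2), (-1)]] 35 129⟩)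
 (.leaf ⟨[], 0xfffffffff000000000, .branch [36, 56] [37, 38, 39, 40, 41, 42, 43, 44, 45, 46, 47, 48, 49, 50, 51, 52, 53, 54, 55, 57, 58, 59, 60, 61, 62, 63, 64, 65, 66, 67, 68, 69, 70, 71] [[0, 0, 0, 0, 1, 1], [1, 0, 1, 0, 0, 0]] 651 690⟩))
 (.node (.leaf ⟨[40, 43, 60], 0xa00000000000000000, .solve [69] [71] [51] none 434⟩)
 (.leaf ⟨[], 0x0, .leaf 0⟩))))
 (.node (.node (.node (.leaf ⟨[60], 0xff80c0000000000000, .solve [63] [54, 55, 64, 65, 66, 67, 68, 69, 70, 71] [46] none 114⟩)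
 (.leaf ⟨[37, 42, 53], 0xc09000000000000000, .solve [60] [63, 70, 71] [] (some (70, [63, 71])) 626⟩))
 (.node (.leaf ⟨[47, 66, 68], 0x0, .word [56, 15, 56, 36, 35, 36] 370⟩)
 (.leaf ⟨[], 0x0, .leaf 0⟩)))
 (.node (.node (.leaf ⟨[49, 61], 0xfc10a8000000000000, .solve [55, 67] [51, 53, 60, 66, 68, 69, 70, 71] [44] (some (71, [51, 53, 60, 66, 68, 69, 70])) 242⟩)
 (.leaf ⟨[], 0x0, .leaf 0⟩))
 (.node (.leaf ⟨[46, 65], 0x0, .word [56, 15, 56, 36, 35, 36] 498⟩)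
 (.leaf ⟨[], 0x0, .leaf 0⟩)))))

def twE6T20 : TwTree :=
 .node (.node (.node (.node (.node (.leaf ⟨[45, 59], 0x0, .word [42, 29, 42, 37, 34, 37] 19⟩)
 (.leaf ⟨[46, 53], 0x3e0080000000000000, .solve [55, 67] [65, 66, 68, 69] [38, 57] none 531⟩))
 (.node (.leaf ⟨[45, 59], 0xc28028000000000000, .solve [70] [51, 53, 63, 65, 71] [54, 64] none 275⟩)
 (.leaf ⟨[], 0x0, .leaf 0⟩)))
 (.node (.node (.leaf ⟨[52, 62, 65], 0x0, .word [56, 15, 56, 36, 35, 36] 147⟩)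
 (.leaf ⟨[36, 47, 56], 0xc00000000000000000, .solve [71] [70] [69] none 659⟩))
 (.node (.leaf ⟨[47, 51], 0x548000000000000000, .branch [63] [66, 68, 70] [[(-1), (-1), 0, 1, 0, (-1)]] 399 403⟩)
 (.leaf ⟨[], 0x0, .leaf 0⟩))))
 (.node (.node (.node (.leaf ⟨[40, 43, 71], 0x0, .word [39, 32, 39] 83⟩)
 (.leaf ⟨[39, 44], 0x9c3087000000000000, .solve [49, 61] [48, 50, 55, 60, 66, 67, 68, 71] [] (some (67, [48, 50, 55, 60, 66, 68, 71])) 595⟩))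
 (.node (.leaf ⟨[41, 58, 69], 0x800000000000000000, .solve [71] [] [47] none 339⟩)
 (.leaf ⟨[], 0x0, .leaf 0⟩)))
 (.node (.node (.leaf ⟨[49, 61, 69], 0x400000000000000000, .solve [70] [] [39] none 211⟩)
 (.leaf ⟨[], 0x0, .leaf 0⟩))
 (.node (.leaf ⟨[38, 57, 65], 0x800000000000000000, .solve [71] [] [51] none 467⟩)
 (.leaf ⟨[], 0x0, .leaf 0⟩)))))
 (.node (.node (.node (.node (.leaf ⟨[39, 55, 67], 0x0, .word [26, 12] 51⟩)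
 (.leaf ⟨[39, 60], 0x880080000000000000, .branch [55, 67] [71] [[0, (-1), (-1), 0, 2, (-1)], [(-1), (-1), 2, 0, (-1), 0]] 562 563⟩))
 (.node (.leaf ⟨[44], 0x940000000000000000, .branch [66, 68] [71] [[0, 0, 0, 0, 1, 1], [1, 0, 1, 0, 0, 0]] 306 307⟩)
 (.leaf ⟨[], 0x0, .leaf 0⟩)))
 (.node (.node (.leaf ⟨[51, 63], 0x540000000000000000, .solve [66, 68] [70] [40, 43] none 179⟩)
 (.leaf ⟨[], 0x0, .leaf 0⟩))
 (.node (.leaf ⟨[40, 43, 60], 0xa20000000000000000, .solve [65] [69, 71] [47] none 435⟩)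
 (.leaf ⟨[], 0x0, .leaf 0⟩))))
 (.node (.node (.node (.leaf ⟨[], 0xff90c0000000000000, .branch [60] [54, 55, 63, 64, 65, 66, 67, 68, 69, 70, 71] [[0, (-1), 0, 0, 0, 0]] 100 115⟩)
 (.leaf ⟨[37, 42], 0xc09020000000000000, .branch [53] [60, 63, 70, 71] [[0, 0, (-1), (-2), (-1), 0]] 622 627⟩))
 (.node (.leaf ⟨[47, 66, 68], 0x400000000000000000, .solve [70] [] [40, 43] none 371⟩)
 (.leaf ⟨[], 0x0, .leaf 0⟩)))
 (.node (.node (.leaf ⟨[49, 61], 0xfe10a8000000000000, .solve [65] [51, 53, 55, 60, 66, 67, 68, 69, 70, 71] [41, 58] none 243⟩)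
 (.leaf ⟨[], 0x0, .leaf 0⟩))
 (.node (.leaf ⟨[46, 69], 0x0, .word [42, 29, 42, 37, 34, 37] 499⟩)
 (.leaf ⟨[], 0x0, .leaf 0⟩)))))

def twE6T21 : TwTree :=
 .node (.node (.node (.node (.node (.leaf ⟨[52, 62], 0x0, .word [46, 25, 46] 20⟩)
 (.leaf ⟨[46, 53], 0x3f00c0000000000000, .solve [54, 64] [55, 65, 66, 67, 68, 69] [36, 56] none 532⟩))
 (.node (.leaf ⟨[45, 59], 0xe28028000000000000, .solve [69] [51, 53, 63, 65, 70, 71] [52, 62] none 276⟩)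
 (.leaf ⟨[], 0x0, .leaf 0⟩)))
 (.node (.node (.leaf ⟨[52, 62, 65], 0x400000000000000000, .solve [70] [] [44] none 148⟩)
 (.leaf ⟨[36, 47, 56], 0xe00000000000000000, .solve [69] [70, 71] [] (some (71, [70])) 660⟩))
 (.node (.leaf ⟨[47, 51], 0x5c8080000000000000, .solve [55, 67] [63, 66, 68, 70] [41, 58] none 404⟩)
 (.leaf ⟨[], 0x0, .leaf 0⟩))))
 (.node (.node (.node (.leaf ⟨[41, 58, 71], 0x0, .word [56, 15, 56, 36, 35, 36] 84⟩)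
 (.leaf ⟨[39, 44], 0x9c3887200000000000, .solve [45, 59] [48, 49, 50, 55, 60, 61, 66, 67, 68, 71] [36, 56] none 596⟩))
 (.node (.leaf ⟨[41, 58], 0xa00000000000000000, .branch [69] [71] [[0, (-1), 0, (-1), 0, 0]] 338 340⟩)
 (.leaf ⟨[], 0x0, .leaf 0⟩)))
 (.node (.node (.leaf ⟨[49, 61], 0x600000000000000000, .branch [69] [70] [[0, 0, 0, (-1), 0, 0]] 208 212⟩)
 (.leaf ⟨[], 0x0, .leaf 0⟩))
 (.node (.leaf ⟨[38, 57, 65], 0xc00000000000000000, .solve [70] [71] [44] none 468⟩)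
 (.leaf ⟨[], 0x0, .leaf 0⟩)))))
 (.node (.node (.node (.node (.leaf ⟨[39, 66, 68], 0x0, .word [56, 15, 56, 36, 35, 36] 52⟩)
 (.leaf ⟨[39, 60], 0x9c0080000000000000, .solve [66, 68] [55, 67, 71] [48, 50] none 564⟩))
 (.node (.leaf ⟨[44, 54, 64], 0x800000000000000000, .solve [71] [] [52, 62] none 90⟩)
 (.leaf ⟨[], 0x0, .leaf 0⟩)))
 (.node (.node (.leaf ⟨[51], 0x548000000000000000, .branch [63] [66, 68, 70] [[(-1), (-2), 0, 0, 0, (-1)]] 178 180⟩)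
 (.leaf ⟨[], 0x0, .leaf 0⟩))
 (.node (.leaf ⟨[40, 43], 0xa21000000000000000, .branch [60] [65, 69, 71] [[0, (-1), 0, (-1), 0, 0]] 433 436⟩)
 (.leaf ⟨[], 0x0, .leaf 0⟩))))
 (.node (.node (.node (.leaf ⟨[53], 0x200000000000000000, .branch [69] [] [[0, 0, (-1), 0, (-1), 0]] 4 37⟩)
 (.leaf ⟨[37, 42, 46], 0x20000000000000, .branch [53] [] [[0, (-1), (-1), (-2), (-1), 0]] 48 265⟩))
 (.node (.leaf ⟨[47], 0x540000000000000000, .branch [66, 68] [70] [[0, 0, 0, 1, 1, 1], [1, 0, 1, 1, 0, 0]] 369 372⟩)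
 (.leaf ⟨[], 0x0, .leaf 0⟩)))
 (.node (.node (.leaf ⟨[49, 61], 0xfe90a8000000000000, .solve [63] [51, 53, 55, 60, 65, 66, 67, 68, 69, 70, 71] [38, 57] none 244⟩)
 (.leaf ⟨[], 0x0, .leaf 0⟩))
 (.node (.leaf ⟨[46], 0x200000000000000000, .branch [69] [] [[0, 0, (-1), 0, (-1), 0]] 497 500⟩)
 (.leaf ⟨[], 0x0, .leaf 0⟩)))))

def twE6T22 : TwTree :=
 .node (.node (.node (.node (.node (.leaf ⟨[54, 64], 0x0, .word [39, 32, 39] 21⟩)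
 (.leaf ⟨[46], 0x3f00e0000000000000, .branch [53] [54, 55, 64, 65, 66, 67, 68, 69] [[(-1), 0, 0, 0, 0, (-1)]] 524 533⟩))
 (.node (.leaf ⟨[45, 59], 0xf68028000000000000, .solve [66, 68] [51, 53, 63, 65, 69, 70, 71] [49, 61] none 277⟩)
 (.leaf ⟨[], 0x0, .leaf 0⟩)))
 (.node (.node (.leaf ⟨[52, 62], 0x420000000000000000, .branch [65] [70] [[(-1), 0, 0, 0, 0, (-1)]] 141 149⟩)
 (.leaf ⟨[36, 56], 0xe00000800000000000, .branch [47] [69, 70, 71] [[0, (-1), 0, 0, 0, 0]] 658 661⟩))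
 (.node (.leaf ⟨[47, 51], 0x5cc090000000000000, .solve [52, 62] [55, 63, 66, 67, 68, 70] [36, 56] none 405⟩)
 (.leaf ⟨[], 0x0, .leaf 0⟩))))
 (.node (.node (.node (.leaf ⟨[45, 59, 71], 0x0, .word [42, 29, 42, 37, 34, 37] 85⟩)
 (.leaf ⟨[39], 0x9c3887300000000000, .branch [44] [45, 48, 49, 50, 55, 59, 60, 61, 66, 67, 68, 71] [[(-1), 0, 0, 0, 0, (-1)]] 584 597⟩))
 (.node (.leaf ⟨[41, 58, 63], 0x0, .word [56, 15, 56, 36, 35, 36] 214⟩)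
 (.leaf ⟨[], 0x0, .leaf 0⟩)))
 (.node (.node (.leaf ⟨[40, 43, 51], 0x0, .word [42, 29, 42, 37, 34, 37] 49⟩)
 (.leaf ⟨[], 0x0, .leaf 0⟩))
 (.node (.leaf ⟨[38, 57], 0xc20000000000000000, .branch [65] [70, 71] [[0, 0, (-1), (-1), (-1), 0]] 465 469⟩)
 (.leaf ⟨[], 0x0, .leaf 0⟩)))))
 (.node (.node (.node (.node (.leaf ⟨[44, 66, 68], 0x0, .word [42, 29, 42, 37, 34, 37] 53⟩)
 (.leaf ⟨[39], 0x9c1080000000000000, .branch [60] [55, 66, 67, 68, 71] [[(-1), 0, 0, 0, 0, (-1)]] 561 565⟩))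
 (.node (.leaf ⟨[44, 54, 64], 0x940000000000000000, .solve [66, 68] [71] [38, 57] none 309⟩)
 (.leaf ⟨[], 0x0, .leaf 0⟩)))
 (.node (.node (.leaf ⟨[38, 44, 57, 71], 0x1000000000000000, .solve [60] [] [41, 58] none 158⟩)
 (.leaf ⟨[], 0x0, .leaf 0⟩))
 (.node (.leaf ⟨[40, 43, 51], 0x800000000000000000, .solve [71] [] [65] none 214⟩)
 (.leaf ⟨[], 0x0, .leaf 0⟩))))
 (.node (.node (.node (.leaf ⟨[53, 66, 68], 0x200000000000000000, .solve [69] [] [37, 42] none 56⟩)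
 (.leaf ⟨[37, 42, 46], 0x800020000000000000, .solve [71] [53] [70] none 629⟩))
 (.node (.leaf ⟨[47, 55, 67], 0x400000000000000000, .solve [70] [] [41, 58] none 370⟩)
 (.leaf ⟨[], 0x0, .leaf 0⟩)))
 (.node (.node (.leaf ⟨[49, 61], 0xff90e8000000000000, .solve [54, 64] [51, 53, 55, 60, 63, 65, 66, 67, 68, 69, 70, 71] [40, 43] none 245⟩)
 (.leaf ⟨[], 0x0, .leaf 0⟩))
 (.node (.leaf ⟨[46, 54, 64], 0x0, .word [39, 32, 39] 389⟩)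
 (.leaf ⟨[], 0x0, .leaf 0⟩)))))

def twE6T23 : TwTree :=
 .node (.node (.node (.node (.node (.leaf ⟨[55, 67], 0x0, .word [42, 29, 42, 37, 34, 37] 22⟩)
 (.leaf ⟨[38, 46, 57], 0x20000000000000000, .branch [65] [] [[(-1), 0, 1, 0, 1, (-1)]] 47 264⟩))
 (.node (.leaf ⟨[45, 59], 0xfe80a8000000000000, .solve [55, 67] [51, 53, 63, 65, 66, 68, 69, 70, 71] [48, 50] none 278⟩)
 (.leaf ⟨[], 0x0, .leaf 0⟩)))
 (.node (.node (.leaf ⟨[39, 49, 61], 0x0, .word [56, 15, 56, 36, 35, 36] 50⟩)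
 (.leaf ⟨[36, 46, 56], 0x200000000000000000, .branch [69] [] [[0, (-1), 0, (-2), 0, 0]] 46 263⟩))
 (.node (.leaf ⟨[47], 0x5cc098000000000000, .branch [51] [52, 55, 62, 63, 66, 67, 68, 70] [[(-1), 0, 0, 0, 0, (-1)]] 396 406⟩)
 (.leaf ⟨[], 0x0, .leaf 0⟩))))
 (.node (.node (.node (.leaf ⟨[52, 62, 70], 0x0, .word [46, 25, 46] 86⟩)
 (.leaf ⟨[39], 0xdc3887300000000000, .solve [70] [44, 45, 48, 49, 50, 55, 59, 60, 61, 66, 67, 68, 71] [69] none 598⟩))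
 (.node (.leaf ⟨[41, 58, 63], 0x800000000000000000, .solve [71] [] [53] none 342⟩)
 (.leaf ⟨[], 0x0, .leaf 0⟩)))
 (.node (.node (.leaf ⟨[44, 48, 50], 0x0, .word [46, 25, 46] 214⟩)
 (.leaf ⟨[], 0x0, .leaf 0⟩))
 (.node (.leaf ⟨[38, 51, 57], 0x0, .word [56, 15, 56, 36, 35, 36] 143⟩)
 (.leaf ⟨[], 0x0, .leaf 0⟩)))))
 (.node (.node (.node (.node (.leaf ⟨[51, 66, 68], 0x0, .word [46, 25, 46] 54⟩)
 (.leaf ⟨[39, 49, 61], 0x1000000000000000, .branch [60] [] [[(-1), 0, (-1), (-1), (-1), (-1)]] 151 268⟩))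
 (.node (.leaf ⟨[44], 0x950040000000000000, .branch [54, 64] [66, 68, 71] [[0, 0, 1, 0, (-2), (-1)], [(-1), 0, (-2), 0, 1, 0]] 308 310⟩)
 (.leaf ⟨[], 0x0, .leaf 0⟩)))
 (.node (.node (.leaf ⟨[38, 44, 57, 60, 71], 0x0, .demote [60] 182⟩)
 (.leaf ⟨[], 0x0, .leaf 0⟩))
 (.node (.leaf ⟨[40, 43, 51], 0xa00000000000000000, .solve [69] [71] [60] none 438⟩)
 (.leaf ⟨[], 0x0, .leaf 0⟩))))
 (.node (.node (.node (.leaf ⟨[53], 0x340000000000000000, .branch [66, 68] [69] [[0, 0, 0, 1, 1, 1], [1, 0, 1, 1, 0, 0]] 117 118⟩)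
 (.leaf ⟨[37, 42, 46], 0xc00020000000000000, .solve [70] [53, 71] [] (some (71, [53])) 630⟩))
 (.node (.leaf ⟨[47, 55, 67], 0x540000000000000000, .solve [66, 68] [70] [36, 56] none 374⟩)
 (.leaf ⟨[], 0x0, .leaf 0⟩)))
 (.node (.node (.leaf ⟨[49, 61], 0xffd0f8000000000000, .solve [52, 62] [51, 53, 54, 55, 60, 63, 64, 65, 66, 67, 68, 69, 70, 71] [37, 42] none 246⟩)
 (.leaf ⟨[], 0x0, .leaf 0⟩))
 (.node (.leaf ⟨[46, 55, 67], 0x0, .word [42, 29, 42, 37, 34, 37] 502⟩)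
 (.leaf ⟨[], 0x0, .leaf 0⟩)))))

def twE6T24 : TwTree :=
 .node (.node (.node (.node (.node (.leaf ⟨[66, 68], 0x0, .word [56, 15, 56, 36, 35, 36] 23⟩)
 (.leaf ⟨[38, 46, 57], 0x220000000000000000, .solve [69] [65] [55, 67] none 535⟩))
 (.node (.leaf ⟨[45, 59], 0xff80e8000000000000, .solve [54, 64] [51, 53, 55, 63, 65, 66, 67, 68, 69, 70, 71] [47] (some (70, [51, 53, 55, 63, 65, 66, 67, 68, 69, 71])) 279⟩)
 (.leaf ⟨[], 0x0, .leaf 0⟩)))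
 (.node (.node (.leaf ⟨[44, 52, 62], 0x0, .word [42, 29, 42, 37, 34, 37] 151⟩)
 (.leaf ⟨[36, 46, 56], 0xa00000000000000000, .solve [71] [69] [70] none 663⟩))
 (.node (.leaf ⟨[41, 47, 58], 0x0, .word [56, 15, 56, 36, 35, 36] 49⟩)
 (.leaf ⟨[], 0x0, .leaf 0⟩))))
 (.node (.node (.node (.leaf ⟨[54, 64, 69], 0x0, .word [39, 32, 39] 87⟩)
 (.leaf ⟨[39], 0xfc3887300000000000, .solve [69] [44, 45, 48, 49, 50, 55, 59, 60, 61, 66, 67, 68, 70, 71] [] (some (70, [44, 45, 48, 49, 50, 55, 59, 60, 61, 66, 67, 68, 71])) 599⟩))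
 (.node (.leaf ⟨[41, 58, 63], 0xa00000000000000000, .solve [69] [71] [44] none 343⟩)
 (.leaf ⟨[], 0x0, .leaf 0⟩)))
 (.node (.node (.leaf ⟨[49, 60, 61], 0x0, .word [56, 15, 56, 36, 35, 36] 215⟩)
 (.leaf ⟨[], 0x0, .leaf 0⟩))
 (.node (.leaf ⟨[38, 51, 57, 70], 0x0, .word [56, 15, 56, 36, 35, 36] 160⟩)
 (.leaf ⟨[], 0x0, .leaf 0⟩)))))
 (.node (.node (.node (.node (.leaf ⟨[53, 66, 68], 0x0, .word [39, 32, 39] 55⟩)
 (.leaf ⟨[39, 49, 61], 0x801000000000000000, .solve [71] [60] [55, 67] none 567⟩))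
 (.node (.leaf ⟨[44, 60], 0x800000000000000000, .branch [71] [] [[(-1), (-2), (-2), 0, (-2), (-1)]] 34 128⟩)
 (.leaf ⟨[], 0x0, .leaf 0⟩)))
 (.node (.node (.leaf ⟨[32, 44, 60, 71], 0x0, .word [30, 13] 183⟩)
 (.leaf ⟨[], 0x0, .leaf 0⟩))
 (.node (.leaf ⟨[40, 43, 51], 0xa20000000000000000, .solve [65] [69, 71] [] (some (71, [69])) 439⟩)
 (.leaf ⟨[], 0x0, .leaf 0⟩))))
 (.node (.node (.node (.leaf ⟨[38, 44, 57], 0x0, .word [42, 29, 42, 37, 34, 37] 44⟩)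
 (.leaf ⟨[37, 42, 46], 0xc08020000000000000, .solve [63] [53, 70, 71] [60] none 631⟩))
 (.node (.leaf ⟨[47], 0x5c0080000000000000, .branch [55, 67] [66, 68, 70] [[0, 0, 0, 1, 1, 0], [0, 0, 1, 1, 0, 0]] 373 375⟩)
 (.leaf ⟨[], 0x0, .leaf 0⟩)))
 (.node (.node (.leaf ⟨[], 0xfff0fa000000000000, .branch [49, 61] [51, 52, 53, 54, 55, 60, 62, 63, 64, 65, 66, 67, 68, 69, 70, 71] [[0, 0, 0, 0, 0, 1], [1, 0, 0, 0, 0, 0]] 203 247⟩)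
 (.leaf ⟨[], 0x0, .leaf 0⟩))
 (.node (.leaf ⟨[46, 66, 68], 0x0, .word [56, 15, 56, 36, 35, 36] 503⟩)
 (.leaf ⟨[], 0x0, .leaf 0⟩)))))

def twE6T25 : TwTree :=
 .node (.node (.node (.node (.node (.leaf ⟨[66, 68], 0x800000000000000000, .solve [71] [] [48, 50] none 24⟩)
 (.leaf ⟨[38, 46, 57], 0x360000000000000000, .solve [66, 68] [65, 69] [54, 64] none 536⟩))
 (.node (.leaf ⟨[45, 59], 0xffc0f8000000000000, .solve [52, 62] [51, 53, 54, 55, 63, 64, 65, 66, 67, 68, 69, 70, 71] [46] (some (69, [51, 53, 54, 55, 63, 64, 65, 66, 67, 68, 70, 71])) 280⟩)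
 (.leaf ⟨[], 0x0, .leaf 0⟩)))
 (.node (.node (.leaf ⟨[52, 60, 62], 0x0, .word [56, 15, 56, 36, 35, 36] 152⟩)
 (.leaf ⟨[36, 46, 56], 0xe00000000000000000, .solve [70] [69, 71] [] (some (71, [69])) 664⟩))
 (.node (.leaf ⟨[41, 47, 58, 63], 0x0, .word [56, 15, 56, 36, 35, 36] 266⟩)
 (.leaf ⟨[], 0x0, .leaf 0⟩))))
 (.node (.node (.node (.leaf ⟨[54, 64], 0x200000000000000000, .branch [69] [] [[0, 0, (-1), (-1), (-1), 0]] 22 88⟩)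
 (.leaf ⟨[39], 0xfe3887300000000000, .solve [65] [44, 45, 48, 49, 50, 55, 59, 60, 61, 66, 67, 68, 69, 70, 71] [63] none 600⟩))
 (.node (.leaf ⟨[41, 58], 0xa08000000000000000, .branch [63] [69, 71] [[0, (-1), 1, 0, 1, 0]] 341 344⟩)
 (.leaf ⟨[], 0x0, .leaf 0⟩)))
 (.node (.node (.leaf ⟨[49, 60, 61], 0x400000000000000000, .solve [70] [] [53] none 216⟩)
 (.leaf ⟨[], 0x0, .leaf 0⟩))
 (.node (.leaf ⟨[38, 51, 57], 0x400000000000000000, .branch [70] [] [[0, (-1), 1, 1, 1, 0]] 471 472⟩)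
 (.leaf ⟨[], 0x0, .leaf 0⟩)))))
 (.node (.node (.node (.node (.leaf ⟨[55, 65, 67], 0x0, .word [56, 15, 56, 36, 35, 36] 56⟩)
 (.leaf ⟨[39, 49, 61], 0x941000000000000000, .solve [66, 68] [60, 71] [45, 59] none 568⟩))
 (.node (.leaf ⟨[44, 54, 60, 64], 0x800000000000000000, .solve [71] [] [52, 62] none 190⟩)
 (.leaf ⟨[], 0x0, .leaf 0⟩)))
 (.node (.node (.leaf ⟨[39, 44, 60, 71], 0x0, .word [39, 32, 39] 184⟩)
 (.leaf ⟨[], 0x0, .leaf 0⟩))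
 (.node (.leaf ⟨[40, 43, 51], 0xa21000000000000000, .solve [60] [65, 69, 71] [] (some (69, [65, 71])) 440⟩)
 (.leaf ⟨[], 0x0, .leaf 0⟩))))
 (.node (.node (.node (.leaf ⟨[38, 44, 57], 0x1000000000000000, .solve [60] [] [41, 58] none 120⟩)
 (.leaf ⟨[37, 42, 46], 0xc09020000000000000, .solve [60] [53, 63, 70, 71] [] (some (63, [53, 70, 71])) 632⟩))
 (.node (.leaf ⟨[47, 51], 0x0, .word [46, 25, 46] 32⟩)
 (.leaf ⟨[], 0x0, .leaf 0⟩)))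
 (.node (.node (.leaf ⟨[45, 59], 0x800000000000000000, .branch [71] [] [[0, (-1), (-1), 0, (-1), 0]] 20 86⟩)
 (.leaf ⟨[], 0x0, .leaf 0⟩))
 (.node (.leaf ⟨[46, 66, 68], 0x200000000000000000, .solve [69] [] [37, 42] none 504⟩)
 (.leaf ⟨[], 0x0, .leaf 0⟩)))))

def twE6T26 : TwTree :=
 .node (.node (.node (.node (.node (.leaf ⟨[66, 68], 0xc00000000000000000, .solve [70] [71] [40, 43] none 25⟩)
 (.leaf ⟨[38, 46, 57], 0x3e0080000000000000, .solve [55, 67] [65, 66, 68, 69] [53] (some (69, [65, 66, 68])) 537⟩))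
 (.node (.leaf ⟨[45, 59], 0xffd0f8000000000000, .solve [60] [51, 52, 53, 54, 55, 62, 63, 64, 65, 66, 67, 68, 69, 70, 71] [36, 56] none 281⟩)
 (.leaf ⟨[], 0x0, .leaf 0⟩)))
 (.node (.node (.leaf ⟨[52, 60, 62], 0x400000000000000000, .solve [70] [] [53] none 153⟩)
 (.leaf ⟨[36, 46, 56], 0xe00000800000000000, .solve [47] [69, 70, 71] [39] none 665⟩))
 (.node (.leaf ⟨[41, 47, 58], 0x8000000000000000, .branch [63] [] [[(-1), (-1), (-1), (-1), (-1), (-1)]] 408 409⟩)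
 (.leaf ⟨[], 0x0, .leaf 0⟩))))
 (.node (.node (.node (.leaf ⟨[44, 54, 64], 0x0, .word [42, 29, 42, 37, 34, 37] 52⟩)
 (.leaf ⟨[39], 0xfeb887300000000000, .solve [63] [44, 45, 48, 49, 50, 55, 59, 60, 61, 65, 66, 67, 68, 69, 70, 71] [] (some (65, [44, 45, 48, 49, 50, 55, 59, 60, 61, 66, 67, 68, 69, 70, 71])) 601⟩))
 (.node (.leaf ⟨[41, 53, 58], 0x200000000000000000, .branch [69] [] [[0, (-1), 1, 0, 1, 0]] 145 162⟩)
 (.leaf ⟨[], 0x0, .leaf 0⟩)))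
 (.node (.node (.leaf ⟨[49, 60, 61], 0x600000000000000000, .solve [69] [70] [51] none 217⟩)
 (.leaf ⟨[], 0x0, .leaf 0⟩))
 (.node (.leaf ⟨[38, 51, 57], 0xc00000000000000000, .solve [71] [70] [65] none 473⟩)
 (.leaf ⟨[], 0x0, .leaf 0⟩)))))
 (.node (.node (.node (.node (.leaf ⟨[55, 67], 0x20000000000000000, .branch [65] [] [[0, 0, 0, (-1), 0, 0]] 23 57⟩)
 (.leaf ⟨[39, 49, 61], 0x9c1080000000000000, .solve [55, 67] [60, 66, 68, 71] [44] (some (71, [60, 66, 68])) 569⟩))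
 (.node (.leaf ⟨[44, 60], 0x810040000000000000, .branch [54, 64] [71] [[0, (-1), 1, 0, (-3), (-1)], [(-1), (-1), (-3), 0, 1, 0]] 312 313⟩)
 (.leaf ⟨[], 0x0, .leaf 0⟩)))
 (.node (.node (.leaf ⟨[39, 44, 60, 66, 68], 0x0, .word [50, 48] 185⟩)
 (.leaf ⟨[], 0x0, .leaf 0⟩))
 (.node (.leaf ⟨[40, 43], 0xa21008000000000000, .branch [51] [60, 65, 69, 71] [[0, 0, (-1), 0, (-1), 0]] 437 441⟩)
 (.leaf ⟨[], 0x0, .leaf 0⟩))))
 (.node (.node (.node (.leaf ⟨[38, 44, 57, 60], 0x0, .demote [60] 121⟩)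
 (.leaf ⟨[37, 42], 0xc09020400000000000, .branch [46] [53, 60, 63, 70, 71] [[0, (-1), 0, 0, 0, 0]] 628 633⟩))
 (.node (.leaf ⟨[47, 63], 0x0, .word [56, 15, 56, 36, 35, 36] 377⟩)
 (.leaf ⟨[], 0x0, .leaf 0⟩)))
 (.node (.node (.leaf ⟨[45, 59, 65], 0x0, .word [56, 15, 56, 36, 35, 36] 146⟩)
 (.leaf ⟨[], 0x0, .leaf 0⟩))
 (.node (.leaf ⟨[46], 0x340000000000000000, .branch [66, 68] [69] [[0, 0, 0, 0, 1, 1], [1, 0, 1, 0, 0, 0]] 501 505⟩)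
 (.leaf ⟨[], 0x0, .leaf 0⟩)))))

def twE6T27 : TwTree :=
 .node (.node (.node (.node (.node (.leaf ⟨[66, 68], 0xe00000000000000000, .solve [69] [70, 71] [37, 42] none 26⟩)
 (.leaf ⟨[38, 46, 57], 0x3f00c0000000000000, .solve [54, 64] [55, 65, 66, 67, 68, 69] [] (some (66, [55, 65, 67, 68, 69])) 538⟩))
 (.node (.leaf ⟨[45, 59], 0xfff0fa000000000000, .solve [49, 61] [51, 52, 53, 54, 55, 60, 62, 63, 64, 65, 66, 67, 68, 69, 70, 71] [] (some (66, [51, 52, 53, 54, 55, 60, 62, 63, 64, 65, 67, 68, 69, 70, 71])) 282⟩)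
 (.leaf ⟨[], 0x0, .leaf 0⟩)))
 (.node (.node (.leaf ⟨[52, 60, 62], 0x420000000000000000, .solve [65] [70] [47] none 154⟩)
 (.leaf ⟨[36, 56], 0xe00000c00000000000, .branch [46] [47, 69, 70, 71] [[0, (-1), 0, 0, 0, 0]] 662 666⟩))
 (.node (.leaf ⟨[41, 47, 58], 0x408000000000000000, .solve [70] [63] [55, 67] none 410⟩)
 (.leaf ⟨[], 0x0, .leaf 0⟩))))
 (.node (.node (.node (.leaf ⟨[51, 54, 64], 0x0, .word [46, 25, 46] 90⟩)
 (.leaf ⟨[39], 0xffb8c7300000000000, .solve [54, 64] [44, 45, 48, 49, 50, 55, 59, 60, 61, 63, 65, 66, 67, 68, 69, 70, 71] [52, 62] none 602⟩))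
 (.node (.leaf ⟨[41, 53, 58], 0xa00000000000000000, .solve [71] [69] [63] none 346⟩)
 (.leaf ⟨[], 0x0, .leaf 0⟩)))
 (.node (.node (.leaf ⟨[49, 61], 0x601000000000000000, .branch [60] [69, 70] [[0, (-1), (-1), 0, (-1), 0]] 213 218⟩)
 (.leaf ⟨[], 0x0, .leaf 0⟩))
 (.node (.leaf ⟨[38, 51, 57], 0xc20000000000000000, .solve [65] [70, 71] [] (some (71, [70])) 474⟩)
 (.leaf ⟨[], 0x0, .leaf 0⟩)))))
 (.node (.node (.node (.node (.leaf ⟨[55, 67], 0x820000000000000000, .solve [71] [65] [49, 61] none 58⟩)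
 (.leaf ⟨[39], 0x9c3082000000000000, .branch [49, 61] [55, 60, 66, 67, 68, 71] [[0, 0, 0, 0, 0, 1], [1, 0, 0, 0, 0, 0]] 566 570⟩))
 (.node (.leaf ⟨[44, 60], 0x950040000000000000, .solve [66, 68] [54, 64, 71] [48, 50] none 314⟩)
 (.leaf ⟨[], 0x0, .leaf 0⟩)))
 (.node (.node (.leaf ⟨[39, 41, 44, 58, 66, 68], 0x0, .word [57, 38] 186⟩)
 (.leaf ⟨[], 0x0, .leaf 0⟩))
 (.node (.leaf ⟨[40, 43, 47], 0x8000000000000, .branch [51] [] [[0, (-1), (-1), (-1), (-1), 0]] 49 266⟩)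
 (.leaf ⟨[], 0x0, .leaf 0⟩))))
 (.node (.node (.node (.leaf ⟨[32, 44, 60], 0x0, .word [30, 13] 122⟩)
 (.leaf ⟨[37, 42], 0xe09020400000000000, .solve [69] [46, 53, 60, 63, 70, 71] [66, 68] none 634⟩))
 (.node (.leaf ⟨[47, 51, 70], 0x0, .word [46, 25, 46] 126⟩)
 (.leaf ⟨[], 0x0, .leaf 0⟩)))
 (.node (.node (.leaf ⟨[45, 59, 65], 0x800000000000000000, .solve [71] [] [51] none 250⟩)
 (.leaf ⟨[], 0x0, .leaf 0⟩))
 (.node (.leaf ⟨[46, 53, 65], 0x0, .word [39, 32, 39] 400⟩)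
 (.leaf ⟨[], 0x0, .leaf 0⟩)))))

def twE6T28 : TwTree :=
 .node (.node (.node (.node (.node (.leaf ⟨[], 0xf40000000000000000, .branch [66, 68] [69, 70, 71] [[0, 0, 0, 0, 1, 1], [1, 0, 1, 0, 0, 0]] 14 27⟩)
 (.leaf ⟨[38, 46, 57], 0x3f00e0000000000000, .solve [53] [54, 55, 64, 65, 66, 67, 68, 69] [] (some (67, [54, 55, 64, 65, 66, 68, 69])) 539⟩))
 (.node (.leaf ⟨[], 0xfff8fa200000000000, .branch [45, 59] [49, 51, 52, 53, 54, 55, 60, 61, 62, 63, 64, 65, 66, 67, 68, 69, 70, 71] [[0, 0, 0, 0, 1, 1], [1, 0, 1, 0, 0, 0]] 248 283⟩)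
 (.leaf ⟨[], 0x0, .leaf 0⟩)))
 (.node (.node (.leaf ⟨[52, 62], 0x421000000000000000, .branch [60] [65, 70] [[(-1), 0, 0, 0, 0, (-1)]] 150 155⟩)
 (.leaf ⟨[36, 39, 56], 0x800000000000000000, .branch [71] [] [[0, (-2), 0, (-1), 0, 0]] 44 157⟩))
 (.node (.leaf ⟨[41, 47, 58], 0x548000000000000000, .solve [66, 68] [63, 70] [52, 62] none 411⟩)
 (.leaf ⟨[], 0x0, .leaf 0⟩))))
 (.node (.node (.node (.leaf ⟨[54, 63, 64], 0x0, .word [56, 15, 56, 36, 35, 36] 91⟩)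
 (.leaf ⟨[39], 0xffb8e7300000000000, .solve [53] [44, 45, 48, 49, 50, 54, 55, 59, 60, 61, 63, 64, 65, 66, 67, 68, 69, 70, 71] [51] none 603⟩))
 (.node (.leaf ⟨[41, 53, 58], 0xa08000000000000000, .solve [63] [69, 71] [] (some (71, [69])) 347⟩)
 (.leaf ⟨[], 0x0, .leaf 0⟩)))
 (.node (.node (.leaf ⟨[48, 50, 65], 0x0, .word [46, 25, 46] 144⟩)
 (.leaf ⟨[], 0x0, .leaf 0⟩))
 (.node (.leaf ⟨[38, 57], 0xc20008000000000000, .branch [51] [65, 70, 71] [[0, (-1), 0, 0, 0, 0]] 470 475⟩)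
 (.leaf ⟨[], 0x0, .leaf 0⟩)))))
 (.node (.node (.node (.node (.leaf ⟨[55, 67], 0xc20000000000000000, .solve [70] [65, 71] [41, 58] none 59⟩)
 (.leaf ⟨[39, 45, 59], 0x800000000000000000, .branch [71] [] [[0, (-2), (-2), (-3), (-2), 0]] 388 390⟩))
 (.node (.leaf ⟨[44], 0x951040000000000000, .branch [60] [54, 64, 66, 68, 71] [[(-1), 0, (-1), 0, (-1), (-1)]] 311 315⟩)
 (.leaf ⟨[], 0x0, .leaf 0⟩)))
 (.node (.node (.leaf ⟨[39, 44, 66, 68], 0x0, .word [19, 9] 187⟩)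
 (.leaf ⟨[], 0x0, .leaf 0⟩))
 (.node (.leaf ⟨[40, 43, 47], 0x800008000000000000, .solve [71] [51] [69] none 443⟩)
 (.leaf ⟨[], 0x0, .leaf 0⟩))))
 (.node (.node (.node (.leaf ⟨[39, 44, 60], 0x0, .word [39, 32, 39] 123⟩)
 (.leaf ⟨[37, 42], 0xf49020400000000000, .solve [66, 68] [46, 53, 60, 63, 69, 70, 71] [65] (some (69, [46, 53, 60, 63, 70, 71])) 635⟩))
 (.node (.leaf ⟨[47, 63, 70], 0x0, .word [56, 15, 56, 36, 35, 36] 379⟩)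
 (.leaf ⟨[], 0x0, .leaf 0⟩)))
 (.node (.node (.leaf ⟨[45, 59], 0x820000000000000000, .branch [65] [71] [[0, 0, 0, (-1), 0, 0]] 249 251⟩)
 (.leaf ⟨[], 0x0, .leaf 0⟩))
 (.node (.leaf ⟨[46, 53, 69], 0x0, .word [42, 29, 42, 37, 34, 37] 507⟩)
 (.leaf ⟨[], 0x0, .leaf 0⟩)))))

def twE6T29 : TwTree :=
 .node (.node (.node (.node (.node (.leaf ⟨[37, 42], 0x100000000000, .solve [44] [] [40, 43] none 17⟩)
 (.leaf ⟨[46], 0x3f02e0004000000000, .branch [38, 57] [53, 54, 55, 64, 65, 66, 67, 68, 69] [[0, 0, 0, 0, 0, 1], [1, 0, 0, 0, 0, 0]] 534 540⟩))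
 (.node (.leaf ⟨[48, 50], 0x400000000000000000, .branch [70] [] [[0, 0, 0, (-1), 0, 0]] 204 206⟩)
 (.leaf ⟨[], 0x0, .leaf 0⟩)))
 (.node (.node (.leaf ⟨[36, 39, 56, 71], 0x0, .word [62, 52, 20, 53] 44⟩)
 (.leaf ⟨[36, 39, 56], 0xc00000000000000000, .solve [70] [71] [69] none 668⟩))
 (.node (.leaf ⟨[41, 47, 58], 0x5c8080000000000000, .solve [55, 67] [63, 66, 68, 70] [51] (some (70, [63, 66, 68])) 412⟩)
 (.leaf ⟨[], 0x0, .leaf 0⟩))))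
 (.node (.node (.node (.leaf ⟨[54, 63, 64], 0x200000000000000000, .solve [69] [] [44] none 92⟩)
 (.leaf ⟨[39], 0xfff8f7300000000000, .solve [52, 62] [44, 45, 48, 49, 50, 53, 54, 55, 59, 60, 61, 63, 64, 65, 66, 67, 68, 69, 70, 71] [] (some (54, [44, 45, 48, 49, 50, 53, 55, 59, 60, 61, 63, 64, 65, 66, 67, 68, 69, 70, 71])) 604⟩))
 (.node (.leaf ⟨[41, 58], 0xa08020000000000000, .branch [53] [63, 69, 71] [[0, (-1), 0, (-1), 0, 0]] 345 348⟩)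
 (.leaf ⟨[], 0x0, .leaf 0⟩)))
 (.node (.node (.leaf ⟨[49, 53, 61], 0x0, .word [56, 15, 56, 36, 35, 36] 220⟩)
 (.leaf ⟨[], 0x0, .leaf 0⟩))
 (.node (.leaf ⟨[38, 44, 57], 0x800000000000000000, .branch [71] [] [[(-1), 2, 0, (-1), 0, (-1)]] 120 158⟩)
 (.leaf ⟨[], 0x0, .leaf 0⟩)))))
 (.node (.node (.node (.node (.leaf ⟨[55, 67], 0xe20000000000000000, .solve [69] [65, 70, 71] [38, 57] none 60⟩)
 (.leaf ⟨[39, 45, 59], 0x940000000000000000, .solve [66, 68] [71] [49, 61] none 572⟩))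
 (.node (.leaf ⟨[44, 52, 62], 0x1000000000000000, .branch [60] [] [[(-1), 0, (-1), (-1), (-1), (-1)]] 152 269⟩)
 (.leaf ⟨[], 0x0, .leaf 0⟩)))
 (.node (.node (.leaf ⟨[39, 55, 60, 67], 0x0, .word [56, 15, 56, 36, 35, 36] 188⟩)
 (.leaf ⟨[], 0x0, .leaf 0⟩))
 (.node (.leaf ⟨[40, 43, 47], 0xa00008000000000000, .solve [69] [51, 71] [] (some (71, [51])) 444⟩)
 (.leaf ⟨[], 0x0, .leaf 0⟩))))
 (.node (.node (.node (.leaf ⟨[39, 44, 60, 66, 68, 71], 0x0, .word [50, 48] 124⟩)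
 (.leaf ⟨[37, 42], 0xf69020400000000000, .solve [65] [46, 53, 60, 63, 66, 68, 69, 70, 71] [] (some (66, [46, 53, 60, 63, 68, 69, 70, 71])) 636⟩))
 (.node (.leaf ⟨[47, 63], 0x400000000000000000, .branch [70] [] [[(-1), 1, 0, (-1), 0, (-1)]] 378 380⟩)
 (.leaf ⟨[], 0x0, .leaf 0⟩)))
 (.node (.node (.leaf ⟨[45, 51, 59], 0x0, .word [46, 25, 46] 152⟩)
 (.leaf ⟨[], 0x0, .leaf 0⟩))
 (.node (.leaf ⟨[46, 65, 69], 0x0, .word [56, 15, 56, 36, 35, 36] 508⟩)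
 (.leaf ⟨[], 0x0, .leaf 0⟩)))))

def twE6T30 : TwTree :=
 .node (.node (.node (.node (.node (.leaf ⟨[37, 42, 44], 0x0, .demote [44] 29⟩)
 (.leaf ⟨[46], 0xbf02e0004000000000, .solve [71] [38, 53, 54, 55, 57, 64, 65, 66, 67, 68, 69] [70] none 541⟩))
 (.node (.leaf ⟨[48, 50, 69], 0x400000000000000000, .solve [70] [] [39] none 210⟩)
 (.leaf ⟨[], 0x0, .leaf 0⟩)))
 (.node (.node (.leaf ⟨[38, 44, 57, 71], 0x0, .word [42, 29, 42, 37, 34, 37] 157⟩)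
 (.leaf ⟨[36, 39, 56], 0xe00000000000000000, .solve [69] [70, 71] [] (some (70, [71])) 669⟩))
 (.node (.leaf ⟨[41, 47, 58], 0x5cc090000000000000, .solve [52, 62] [55, 63, 66, 67, 68, 70] [] (some (66, [55, 63, 67, 68, 70])) 413⟩)
 (.leaf ⟨[], 0x0, .leaf 0⟩))))
 (.node (.node (.node (.leaf ⟨[54, 64], 0x208000000000000000, .branch [63] [69] [[0, (-1), 0, 0, 0, 0]] 89 93⟩)
 (.leaf ⟨[39], 0xfff8ff300000000000, .solve [51] [44, 45, 48, 49, 50, 52, 53, 54, 55, 59, 60, 61, 62, 63, 64, 65, 66, 67, 68, 69, 70, 71] [] (some (53, [44, 45, 48, 49, 50, 52, 54, 55, 59, 60, 61, 62, 63, 64, 65, 66, 67, 68, 69, 70, 71])) 605⟩))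
 (.node (.leaf ⟨[41, 44, 58], 0x800000000000000000, .branch [71] [] [[(-1), 2, 0, 3, 0, (-1)]] 228 232⟩)
 (.leaf ⟨[], 0x0, .leaf 0⟩)))
 (.node (.node (.leaf ⟨[48, 50, 65, 69], 0x0, .word [46, 25, 46] 161⟩)
 (.leaf ⟨[], 0x0, .leaf 0⟩))
 (.node (.leaf ⟨[38, 44, 57], 0xc00000000000000000, .solve [70] [71] [65] none 477⟩)
 (.leaf ⟨[], 0x0, .leaf 0⟩)))))
 (.node (.node (.node (.node (.leaf ⟨[55, 67], 0xf60000000000000000, .solve [66, 68] [65, 69, 70, 71] [36, 56] none 61⟩)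
 (.leaf ⟨[39, 45, 59], 0x9c0080000000000000, .solve [55, 67] [66, 68, 71] [48, 50] none 573⟩))
 (.node (.leaf ⟨[44, 52, 62], 0x801000000000000000, .solve [71] [60] [54, 64] none 317⟩)
 (.leaf ⟨[], 0x0, .leaf 0⟩)))
 (.node (.node (.leaf ⟨[44, 54, 60, 64], 0x0, .word [42, 29, 42, 37, 34, 37] 189⟩)
 (.leaf ⟨[], 0x0, .leaf 0⟩))
 (.node (.leaf ⟨[40, 43, 47], 0xa20008000000000000, .solve [65] [51, 69, 71] [60] none 445⟩)
 (.leaf ⟨[], 0x0, .leaf 0⟩))))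
 (.node (.node (.node (.leaf ⟨[39, 44, 71], 0x0, .word [23, 21] 125⟩)
 (.leaf ⟨[37, 42], 0xfe90a0400000000000, .solve [55, 67] [46, 53, 60, 63, 65, 66, 68, 69, 70, 71] [54, 64] none 637⟩))
 (.node (.leaf ⟨[47, 51, 66, 68], 0x0, .word [46, 25, 46] 188⟩)
 (.leaf ⟨[], 0x0, .leaf 0⟩)))
 (.node (.node (.leaf ⟨[45, 59, 63], 0x0, .word [56, 15, 56, 36, 35, 36] 253⟩)
 (.leaf ⟨[], 0x0, .leaf 0⟩))
 (.node (.leaf ⟨[46, 65], 0x200000000000000000, .branch [69] [] [[(-1), 0, (-1), 0, (-1), (-1)]] 499 509⟩)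
 (.leaf ⟨[], 0x0, .leaf 0⟩)))))

def twE6T31 : TwTree :=
 .node (.node (.node (.node (.node (.leaf ⟨[32, 44], 0x0, .word [31, 28] 30⟩)
 (.leaf ⟨[46], 0xff02e0004000000000, .solve [70] [38, 53, 54, 55, 57, 64, 65, 66, 67, 68, 69, 71] [] (some (71, [38, 53, 54, 55, 57, 64, 65, 66, 67, 68, 69])) 542⟩))
 (.node (.leaf ⟨[48, 50], 0x600000000000000000, .branch [69] [70] [[0, 0, 0, (-1), 0, 0]] 285 286⟩)
 (.leaf ⟨[], 0x0, .leaf 0⟩)))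
 (.node (.node (.leaf ⟨[37, 42, 60, 71], 0x0, .word [56, 15, 56, 36, 35, 36] 158⟩)
 (.leaf ⟨[36, 39, 56], 0xe00000800000000000, .solve [47] [69, 70, 71] [46] none 670⟩))
 (.node (.leaf ⟨[41, 47, 58], 0x5cc098000000000000, .solve [51] [52, 55, 62, 63, 66, 67, 68, 70] [] (some (67, [52, 55, 62, 63, 66, 68, 70])) 414⟩)
 (.leaf ⟨[], 0x0, .leaf 0⟩))))
 (.node (.node (.node (.leaf ⟨[54, 64], 0xa08000000000000000, .solve [71] [63, 69] [52, 62] none 94⟩)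
 (.leaf ⟨[39], 0xfffcff320000000000, .solve [41, 58] [44, 45, 48, 49, 50, 51, 52, 53, 54, 55, 59, 60, 61, 62, 63, 64, 65, 66, 67, 68, 69, 70, 71] [38, 57] none 606⟩))
 (.node (.leaf ⟨[41, 44, 58], 0xa00000000000000000, .solve [69] [71] [63] none 350⟩)
 (.leaf ⟨[], 0x0, .leaf 0⟩)))
 (.node (.node (.leaf ⟨[49, 53, 61, 69], 0x0, .word [56, 15, 56, 36, 35, 36] 222⟩)
 (.leaf ⟨[], 0x0, .leaf 0⟩))
 (.node (.leaf ⟨[38, 44, 57], 0xc20000000000000000, .solve [65] [70, 71] [] (some (70, [71])) 478⟩)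
 (.leaf ⟨[], 0x0, .leaf 0⟩)))))
 (.node (.node (.node (.node (.leaf ⟨[], 0xfe0080000000000000, .branch [55, 67] [65, 66, 68, 69, 70, 71] [[0, 0, 0, 0, 1, 0], [0, 0, 1, 0, 0, 0]] 43 62⟩)
 (.leaf ⟨[39, 45, 59], 0x9c1080000000000000, .solve [60] [55, 66, 67, 68, 71] [36, 56] none 574⟩))
 (.node (.leaf ⟨[44, 52, 62], 0x941000000000000000, .solve [66, 68] [60, 71] [41, 58] none 318⟩)
 (.leaf ⟨[], 0x0, .leaf 0⟩)))
 (.node (.node (.leaf ⟨[51, 54, 63, 64], 0x0, .word [46, 25, 46] 190⟩)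
 (.leaf ⟨[], 0x0, .leaf 0⟩))
 (.node (.leaf ⟨[40, 43, 47], 0xa21008000000000000, .solve [60] [51, 65, 69, 71] [] (some (65, [51, 69, 71])) 446⟩)
 (.leaf ⟨[], 0x0, .leaf 0⟩))))
 (.node (.node (.node (.leaf ⟨[39, 60, 71], 0x0, .word [56, 15, 56, 36, 35, 36] 126⟩)
 (.leaf ⟨[37, 42], 0xff90e0400000000000, .solve [54, 64] [46, 53, 55, 60, 63, 65, 66, 67, 68, 69, 70, 71] [] (some (67, [46, 53, 55, 60, 63, 65, 66, 68, 69, 70, 71])) 638⟩))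
 (.node (.leaf ⟨[47, 55, 63, 67], 0x0, .word [56, 15, 56, 36, 35, 36] 382⟩)
 (.leaf ⟨[], 0x0, .leaf 0⟩)))
 (.node (.node (.leaf ⟨[45, 59, 63], 0x800000000000000000, .solve [71] [] [53] none 254⟩)
 (.leaf ⟨[], 0x0, .leaf 0⟩))
 (.node (.leaf ⟨[46, 65], 0x340000000000000000, .solve [66, 68] [69] [37, 42] none 510⟩)
 (.leaf ⟨[], 0x0, .leaf 0⟩)))))

def twE6Tree : TwTree :=
 .node (.node (.node (.node (.node (twE6T0)
 (twE6T16))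
 (.node (twE6T8)
 (twE6T24)))
 (.node (.node (twE6T4)
 (twE6T20))
 (.node (twE6T12)
 (twE6T28))))
 (.node (.node (.node (twE6T2)
 (twE6T18))
 (.node (twE6T10)
 (twE6T26)))
 (.node (.node (twE6T6)
 (twE6T22))
 (.node (twE6T14)
 (twE6T30)))))
 (.node (.node (.node (.node (twE6T1)
 (twE6T17))
 (.node (twE6T9)
 (twE6T25)))
 (.node (.node (twE6T5)
 (twE6T21))
 (.node (twE6T13)
 (twE6T29))))
 (.node (.node (.node (twE6T3)
 (twE6T19))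
 (.node (twE6T11)
 (twE6T27)))
 (.node (.node (twE6T7)
 (twE6T23))
 (.node (twE6T15)
 (twE6T31)))))

def twE6Tg : List (List ℕ) := [[], [39], [36, 56], [36, 39, 56]]

end CfsgLib.Chev
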