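import Cfsg.Agent.Lib.Chev.CentRoot
import Cfsg.Agent.Lib.Chev.Order
import Cfsg.Agent.Lib.Chev.All

/-!
Pairs of conjugates of the highest root subgroup in characteristic 2.
-/

set_option autoImplicit false
set_option maxRecDepth 100000

namespace CfsgLib.Chev

open Cfsg.Lie

/-- For each root `s` other than `0`, a word making it and the highest root both positive. -/
def Tab.chkLongPairs (T : Tab) (Ws : List (List ℕ)) : Bool :=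
  T.chkCentral (T.n - 1) && (List.range T.n).all fun s => decide (s = 0) ||
    ((Ws.getD s []).all (fun i => decide (i < T.l)) &&
      decide (T.half ≤ rword T (Ws.getD s []) (T.n - 1) ∧ T.half ≤ rword T (Ws.getD s []) s))

/-- Words for type G2. -/
def pairWordsG2 : List (List ℕ) :=
  [[], [1, 0], [0, 1, 0], [0, 1], [0], [1], [], [], [], [], [], []]

theorem chkPairsG2 : tabG2.chkLongPairs pairWordsG2 = true := by decide +kernel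

/-- Words for type D4. -/
def pairWordsD4 : List (List ℕ) :=
  [[], [3, 1, 2, 0], [2, 1, 0], [3, 1, 0], [1, 0], [0], [3, 1, 2], [2, 1], [3, 1], [1], [2], [3],
    [], [], [], [], [], [], [], [], [], [], [], []]

theorem chkPairsD4 : tabD4.chkLongPairs pairWordsD4 = true := by decide +kernel

/-- Words for type E6. -/
def pairWordsE6 : List (List ℕ) :=
  [[], [5, 4, 3, 2, 1, 3, 4, 0, 2, 3], [5, 4, 3, 2, 1, 3, 4, 0, 2], [5, 4, 3, 2, 1, 3, 0, 2],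
    [4, 3, 2, 1, 3, 0, 2], [5, 4, 3, 2, 1, 3, 4, 0], [5, 4, 3, 2, 1, 3, 0], [4, 3, 2, 1, 3, 0],
    [5, 4, 3, 2, 1, 0], [4, 3, 2, 1, 0], [3, 2, 1, 0], [5, 4, 3, 2, 0], [4, 3, 2, 0], [3, 2, 0],
    [2, 0], [0], [5, 4, 3, 2, 1, 3, 4], [5, 4, 3, 2, 1, 3], [4, 3, 2, 1, 3], [5, 4, 3, 2, 1],
    [4, 3, 2, 1], [3, 2, 1], [5, 4, 3, 1], [4, 3, 1], [3, 1], [1], [5, 4, 3, 2], [4, 3, 2],
    [3, 2], [2], [5, 4, 3], [4, 3], [3], [5, 4], [4], [5], [], [], [], [], [], [], [], [], [],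
    [], [], [], [], [], [], [], [], [], [], [], [], [], [], [], [], [], [], [], [], [], [], [],
    [], [], [], []]

theorem chkPairsE6 : tabE6.chkLongPairs pairWordsE6 = true := by decide +kernel

/-- Words for type E7. -/
def pairWordsE7 : List (List ℕ) :=
  [[], [6, 5, 4, 3, 2, 1, 3, 4, 5, 0, 2, 3, 4, 1, 3, 2],
    [6, 5, 4, 3, 2, 1, 3, 4, 5, 0, 2, 3, 4, 1, 3], [6, 5, 4, 3, 2, 1, 3, 4, 5, 0, 2, 3, 4, 1],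
    [6, 5, 4, 3, 2, 1, 3, 4, 5, 0, 2, 3, 1], [6, 5, 4, 3, 2, 1, 3, 4, 0, 2, 3, 1],
    [5, 4, 3, 2, 1, 3, 4, 0, 2, 3, 1], [6, 5, 4, 3, 2, 1, 3, 4, 5, 0, 2, 3, 4],
    [6, 5, 4, 3, 2, 1, 3, 4, 5, 0, 2, 3], [6, 5, 4, 3, 2, 1, 3, 4, 0, 2, 3],
    [5, 4, 3, 2, 1, 3, 4, 0, 2, 3], [6, 5, 4, 3, 2, 1, 3, 4, 5, 0, 2],
    [6, 5, 4, 3, 2, 1, 3, 4, 0, 2], [5, 4, 3, 2, 1, 3, 4, 0, 2], [6, 5, 4, 3, 2, 1, 3, 0, 2],
    [5, 4, 3, 2, 1, 3, 0, 2], [4, 3, 2, 1, 3, 0, 2], [6, 5, 4, 3, 2, 1, 3, 4, 5, 0],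
    [6, 5, 4, 3, 2, 1, 3, 4, 0], [5, 4, 3, 2, 1, 3, 4, 0], [6, 5, 4, 3, 2, 1, 3, 0],
    [5, 4, 3, 2, 1, 3, 0], [4, 3, 2, 1, 3, 0], [6, 5, 4, 3, 2, 1, 0], [5, 4, 3, 2, 1, 0],
    [4, 3, 2, 1, 0], [3, 2, 1, 0], [6, 5, 4, 3, 2, 0], [5, 4, 3, 2, 0], [4, 3, 2, 0], [3, 2, 0],
    [2, 0], [0], [6, 5, 4, 3, 2, 1, 3, 4, 5], [6, 5, 4, 3, 2, 1, 3, 4], [5, 4, 3, 2, 1, 3, 4],
    [6, 5, 4, 3, 2, 1, 3], [5, 4, 3, 2, 1, 3], [4, 3, 2, 1, 3], [6, 5, 4, 3, 2, 1],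
    [5, 4, 3, 2, 1], [4, 3, 2, 1], [3, 2, 1], [6, 5, 4, 3, 1], [5, 4, 3, 1], [4, 3, 1], [3, 1],
    [1], [6, 5, 4, 3, 2], [5, 4, 3, 2], [4, 3, 2], [3, 2], [2], [6, 5, 4, 3], [5, 4, 3], [4, 3],
    [3], [6, 5, 4], [5, 4], [4], [6, 5], [5], [6], [], [], [], [], [], [], [], [], [], [], [],
    [], [], [], [], [], [], [], [], [], [], [], [], [], [], [], [], [], [], [], [], [], [], [],
    [], [], [], [], [], [], [], [], [], [], [], [], [], [], [], [], [], [], [], [], [], [], [],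
    [], [], [], [], [], []]

theorem chkPairsE7 : tabE7.chkLongPairs pairWordsE7 = true := by decide +kernel

/-- Words for type E8. -/
def pairWordsE8 : List (List ℕ) :=
  [[], [7, 6, 5, 4, 3, 2, 1, 3, 4, 5, 6, 0, 2, 3, 4, 5, 1, 3, 4, 2, 3, 0, 2, 1, 3, 4, 5, 6],
    [7, 6, 5, 4, 3, 2, 1, 3, 4, 5, 6, 0, 2, 3, 4, 5, 1, 3, 4, 2, 3, 0, 2, 1, 3, 4, 5],
    [7, 6, 5, 4, 3, 2, 1, 3, 4, 5, 6, 0, 2, 3, 4, 5, 1, 3, 4, 2, 3, 0, 2, 1, 3, 4],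
    [7, 6, 5, 4, 3, 2, 1, 3, 4, 5, 6, 0, 2, 3, 4, 5, 1, 3, 4, 2, 3, 0, 2, 1, 3],
    [7, 6, 5, 4, 3, 2, 1, 3, 4, 5, 6, 0, 2, 3, 4, 5, 1, 3, 4, 2, 3, 0, 2, 1],
    [7, 6, 5, 4, 3, 2, 1, 3, 4, 5, 6, 0, 2, 3, 4, 5, 1, 3, 4, 2, 3, 1, 0],
    [7, 6, 5, 4, 3, 2, 1, 3, 4, 5, 6, 0, 2, 3, 4, 5, 1, 3, 4, 2, 3, 0, 2],
    [7, 6, 5, 4, 3, 2, 1, 3, 4, 5, 6, 0, 2, 3, 4, 5, 1, 3, 4, 2, 3, 0],
    [7, 6, 5, 4, 3, 2, 1, 3, 4, 5, 6, 0, 2, 3, 4, 5, 1, 3, 4, 2, 0],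
    [7, 6, 5, 4, 3, 2, 1, 3, 4, 5, 6, 0, 2, 3, 4, 5, 1, 3, 2, 0],
    [7, 6, 5, 4, 3, 2, 1, 3, 4, 5, 6, 0, 2, 3, 4, 1, 3, 2, 0],
    [7, 6, 5, 4, 3, 2, 1, 3, 4, 5, 0, 2, 3, 4, 1, 3, 2, 0],
    [6, 5, 4, 3, 2, 1, 3, 4, 5, 0, 2, 3, 4, 1, 3, 2, 0],
    [7, 6, 5, 4, 3, 2, 1, 3, 4, 5, 6, 0, 2, 3, 4, 5, 1, 3, 4, 2, 3, 1],
    [7, 6, 5, 4, 3, 2, 1, 3, 4, 5, 6, 0, 2, 3, 4, 5, 1, 3, 4, 2, 3],
    [7, 6, 5, 4, 3, 2, 1, 3, 4, 5, 6, 0, 2, 3, 4, 5, 1, 3, 4, 2],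
    [7, 6, 5, 4, 3, 2, 1, 3, 4, 5, 6, 0, 2, 3, 4, 5, 1, 3, 2],
    [7, 6, 5, 4, 3, 2, 1, 3, 4, 5, 6, 0, 2, 3, 4, 1, 3, 2],
    [7, 6, 5, 4, 3, 2, 1, 3, 4, 5, 0, 2, 3, 4, 1, 3, 2],
    [6, 5, 4, 3, 2, 1, 3, 4, 5, 0, 2, 3, 4, 1, 3, 2],
    [7, 6, 5, 4, 3, 2, 1, 3, 4, 5, 6, 0, 2, 3, 4, 5, 1, 3, 4],
    [7, 6, 5, 4, 3, 2, 1, 3, 4, 5, 6, 0, 2, 3, 4, 5, 1, 3],
    [7, 6, 5, 4, 3, 2, 1, 3, 4, 5, 6, 0, 2, 3, 4, 1, 3],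
    [7, 6, 5, 4, 3, 2, 1, 3, 4, 5, 0, 2, 3, 4, 1, 3],
    [6, 5, 4, 3, 2, 1, 3, 4, 5, 0, 2, 3, 4, 1, 3],
    [7, 6, 5, 4, 3, 2, 1, 3, 4, 5, 6, 0, 2, 3, 4, 5, 1],
    [7, 6, 5, 4, 3, 2, 1, 3, 4, 5, 6, 0, 2, 3, 4, 1],
    [7, 6, 5, 4, 3, 2, 1, 3, 4, 5, 0, 2, 3, 4, 1], [6, 5, 4, 3, 2, 1, 3, 4, 5, 0, 2, 3, 4, 1],
    [7, 6, 5, 4, 3, 2, 1, 3, 4, 5, 6, 0, 2, 3, 1], [7, 6, 5, 4, 3, 2, 1, 3, 4, 5, 0, 2, 3, 1],
    [6, 5, 4, 3, 2, 1, 3, 4, 5, 0, 2, 3, 1], [7, 6, 5, 4, 3, 2, 1, 3, 4, 0, 2, 3, 1],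
    [6, 5, 4, 3, 2, 1, 3, 4, 0, 2, 3, 1], [5, 4, 3, 2, 1, 3, 4, 0, 2, 3, 1],
    [7, 6, 5, 4, 3, 2, 1, 3, 4, 5, 6, 0, 2, 3, 4, 5],
    [7, 6, 5, 4, 3, 2, 1, 3, 4, 5, 6, 0, 2, 3, 4], [7, 6, 5, 4, 3, 2, 1, 3, 4, 5, 0, 2, 3, 4],
    [6, 5, 4, 3, 2, 1, 3, 4, 5, 0, 2, 3, 4], [7, 6, 5, 4, 3, 2, 1, 3, 4, 5, 6, 0, 2, 3],
    [7, 6, 5, 4, 3, 2, 1, 3, 4, 5, 0, 2, 3], [6, 5, 4, 3, 2, 1, 3, 4, 5, 0, 2, 3],
    [7, 6, 5, 4, 3, 2, 1, 3, 4, 0, 2, 3], [6, 5, 4, 3, 2, 1, 3, 4, 0, 2, 3],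
    [5, 4, 3, 2, 1, 3, 4, 0, 2, 3], [7, 6, 5, 4, 3, 2, 1, 3, 4, 5, 6, 0, 2],
    [7, 6, 5, 4, 3, 2, 1, 3, 4, 5, 0, 2], [6, 5, 4, 3, 2, 1, 3, 4, 5, 0, 2],
    [7, 6, 5, 4, 3, 2, 1, 3, 4, 0, 2], [6, 5, 4, 3, 2, 1, 3, 4, 0, 2],
    [5, 4, 3, 2, 1, 3, 4, 0, 2], [7, 6, 5, 4, 3, 2, 1, 3, 0, 2], [6, 5, 4, 3, 2, 1, 3, 0, 2],
    [5, 4, 3, 2, 1, 3, 0, 2], [4, 3, 2, 1, 3, 0, 2], [7, 6, 5, 4, 3, 2, 1, 3, 4, 5, 6, 0],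
    [7, 6, 5, 4, 3, 2, 1, 3, 4, 5, 0], [6, 5, 4, 3, 2, 1, 3, 4, 5, 0],
    [7, 6, 5, 4, 3, 2, 1, 3, 4, 0], [6, 5, 4, 3, 2, 1, 3, 4, 0], [5, 4, 3, 2, 1, 3, 4, 0],
    [7, 6, 5, 4, 3, 2, 1, 3, 0], [6, 5, 4, 3, 2, 1, 3, 0], [5, 4, 3, 2, 1, 3, 0],
    [4, 3, 2, 1, 3, 0], [7, 6, 5, 4, 3, 2, 1, 0], [6, 5, 4, 3, 2, 1, 0], [5, 4, 3, 2, 1, 0],
    [4, 3, 2, 1, 0], [3, 2, 1, 0], [7, 6, 5, 4, 3, 2, 0], [6, 5, 4, 3, 2, 0], [5, 4, 3, 2, 0],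
    [4, 3, 2, 0], [3, 2, 0], [2, 0], [0], [7, 6, 5, 4, 3, 2, 1, 3, 4, 5, 6],
    [7, 6, 5, 4, 3, 2, 1, 3, 4, 5], [6, 5, 4, 3, 2, 1, 3, 4, 5], [7, 6, 5, 4, 3, 2, 1, 3, 4],
    [6, 5, 4, 3, 2, 1, 3, 4], [5, 4, 3, 2, 1, 3, 4], [7, 6, 5, 4, 3, 2, 1, 3],
    [6, 5, 4, 3, 2, 1, 3], [5, 4, 3, 2, 1, 3], [4, 3, 2, 1, 3], [7, 6, 5, 4, 3, 2, 1],
    [6, 5, 4, 3, 2, 1], [5, 4, 3, 2, 1], [4, 3, 2, 1], [3, 2, 1], [7, 6, 5, 4, 3, 1],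
    [6, 5, 4, 3, 1], [5, 4, 3, 1], [4, 3, 1], [3, 1], [1], [7, 6, 5, 4, 3, 2], [6, 5, 4, 3, 2],
    [5, 4, 3, 2], [4, 3, 2], [3, 2], [2], [7, 6, 5, 4, 3], [6, 5, 4, 3], [5, 4, 3], [4, 3], [3],
    [7, 6, 5, 4], [6, 5, 4], [5, 4], [4], [7, 6, 5], [6, 5], [5], [7, 6], [6], [7], [], [], [],
    [], [], [], [], [], [], [], [], [], [], [], [], [], [], [], [], [], [], [], [], [], [], [],
    [], [], [], [], [], [], [], [], [], [], [], [], [], [], [], [], [], [], [], [], [], [], [],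
    [], [], [], [], [], [], [], [], [], [], [], [], [], [], [], [], [], [], [], [], [], [], [],
    [], [], [], [], [], [], [], [], [], [], [], [], [], [], [], [], [], [], [], [], [], [], [],
    [], [], [], [], [], [], [], [], [], [], [], [], [], [], [], [], [], [], [], [], [], [], [],
    [], []]

theorem chkPairsE8 : tabE8.chkLongPairs pairWordsE8 = true := by decide +kernel

namespace Cert

variable {D : ChevalleyDatum} {T : Tab} {C : Tab.Cover} (h : Cert D T C) {F : Type*} [Field F]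
include h

omit h in
lemma map_conj_gen_eq {g : GL D.Idx F} {r s : ℕ} (hM : Maps D g r s) :
    (gen D F {r}).map (MulAut.conj g).toMonoidHom = gen D F {s} := by
  refine le_antisymm ?_ ?_
  · rintro _ ⟨x, hx, rfl⟩
    exact conj_gen_le (S' := {s}) (fun a (ha : a = r) => ⟨s, rfl, ha ▸ hM⟩) hx
  · intro y hy
    refine ⟨g⁻¹ * y * g, ?_, by simp [mul_assoc]⟩
    have := conj_gen_le (g := g⁻¹) (S' := {r}) (fun a (ha : a = s) => ⟨r, rfl, ha ▸ Maps_inv hM⟩) hy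
    simpa using this

/-- Two long root groups generate a 2-group or a conjugate of the opposite pair. -/
theorem long_root_pairs [Fintype F] [CharP F 2] {Ws : List (List ℕ)}
    (hW : T.chkLongPairs Ws = true) {g : GL D.Idx F} (hg : g ∈ D.group F) :
    IsPGroup 2 ↥(D.rootSubgroup F (D.nroots - 1) ⊔
      (D.rootSubgroup F (D.nroots - 1)).map (MulAut.conj g).toMonoidHom) ∨
    ∃ a ∈ D.group F, (D.rootSubgroup F (D.nroots - 1) ⊔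
      (D.rootSubgroup F (D.nroots - 1)).map (MulAut.conj g).toMonoidHom).map
        (MulAut.conj a).toMonoidHom =
      D.rootSubgroup F (D.nroots - 1) ⊔ D.rootSubgroup F 0 := by
  simp only [Tab.chkLongPairs, Bool.and_eq_true, Bool.or_eq_true, List.all_eq_true, List.mem_range,
    decide_eq_true_eq] at hW
  obtain ⟨hcen, hW⟩ := hW
  rw [h.rootSubgroup_eq, h.rootSubgroup_eq, show D.nroots - 1 = T.n - 1 from congrArg (· - 1) h.nroots_eq]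
  set a := T.n - 1 with had
  have ha : T.half ≤ a ∧ a < T.n := by
    have h1 := hcen
    simp only [Tab.chkCentral, Bool.and_eq_true, decide_eq_true_eq] at h1
    exact h1.1
  obtain ⟨b, hb, n, hn, u, hu, rfl⟩ := h.bruhat_exists hg
  obtain ⟨w, hw, t₁, ht₁, rfl⟩ := h.exists_word_of_monomial hn
  have huU : u ∈ D.posUnipotent F := by
    rw [h.cellUnipotent_eq (π := rword T w) fun r hr =>
      ⟨h.rword_lt hw hr, Maps_mul (h.Maps_diagonal ht₁ hr) (h.Maps_nW hw hr)⟩] at hu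
    rw [h.posUnipotent_eq]; exact gen_mono D Set.sdiff_subset hu
  have hUfix : ∀ v ∈ D.posUnipotent F, Maps D v a a := fun v hv =>
    ⟨1, one_ne_zero, fun t => by
      rw [one_mul, mul_inv_eq_iff_eq_mul]
      exact Subgroup.mem_centralizer_singleton_iff.1 (h.posUnipotent_central hcen t hv)⟩
  have hbfix : ∀ v ∈ D.borelSubgroup F, Maps D v a a := fun v hv => by
    obtain ⟨v', hv', t, ht, rfl⟩ := h.mem_borel_iff.1 hv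
    exact Maps_mul (h.Maps_diagonal ht ha.2) (hUfix v' hv')
  set s := rword T w a with hsd
  have hs : s < T.n := h.rword_lt hw ha.2
  have hmu : Maps D (nW D F w * t₁ * u) a s :=
    Maps_mul (hUfix u huU) (Maps_mul (h.Maps_diagonal ht₁ ha.2) (h.Maps_nW hw ha.2))
  have key : gen D F {a} ⊔ (gen D F {a}).map (MulAut.conj (b * (nW D F w * t₁) * u)).toMonoidHom =
      (gen D F {a} ⊔ gen D F {s}).map (MulAut.conj b).toMonoidHom := by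
    rw [Subgroup.map_sup, map_conj_gen_eq (hbfix b hb), mul_assoc b, map_mul,
      ← map_conj_gen_eq hmu, Subgroup.map_map]
    rfl
  rw [key]
  rcases hW s hs with hs0 | ⟨hok, hpa, hps⟩
  · refine Or.inr ⟨b⁻¹, inv_mem (h.borel_le_group hb), ?_⟩
    rw [Subgroup.map_map, hs0]
    convert Subgroup.map_id _ using 2
    ext x
    simp [mul_assoc]
  · refine Or.inl ?_
    set v := Ws.getD s [] with hvd
    have hv : WordOK T v := hok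
    have hU2 : IsPGroup 2 ↥(D.posUnipotent F) := by
      obtain ⟨k, -, hk⟩ := FiniteField.card F 2
      exact IsPGroup.of_card (n := (k : ℕ) * T.half) (by rw [h.card_posUnipotent, hk, pow_mul])
    have hle : (gen D F {a} ⊔ gen D F {s}).map (MulAut.conj (nW D F v)).toMonoidHom ≤
        D.posUnipotent F := by
      rw [Subgroup.map_sup, map_conj_gen_eq (h.Maps_nW hv ha.2),
        map_conj_gen_eq (h.Maps_nW hv hs), h.posUnipotent_eq]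
      refine sup_le (gen_mono D ?_) (gen_mono D ?_) <;> rintro x rfl
      exacts [⟨hpa, h.rword_lt hv ha.2⟩, ⟨hps, h.rword_lt hv hs⟩]
    have h1 : IsPGroup 2 ↥(gen D F {a} ⊔ gen D F {s}) :=
      (hU2.to_le hle).of_equiv (Subgroup.equivMapOfInjective _ _ (MulEquiv.injective _)).symm
    exact h1.of_equiv (Subgroup.equivMapOfInjective _ _ (MulEquiv.injective _))

end Cert

end CfsgLib.Chev
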