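import Cfsg.Agent.Lib.Chev.PElementCount
import Cfsg.Agent.Lib.Chev.TwistWord
import Cfsg.Agent.Lib.Chev.SteinbergChar
import Cfsg.Agent.Lib.Char.DefectZeroMod
import Cfsg.Agent.Lib.Coxeter.MinRep

/-!
Representations of a Chevalley group in the defining characteristic: a vector fixed by `U` that is
an eigenvector of the operators of the simple reflections, the subspace spanned by its translates
under the opposite unipotent group, and the uniqueness of the character of defect zero.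
-/

set_option autoImplicit false
set_option linter.unusedSectionVars false

namespace CfsgLib.Chev

open Cfsg.Lie Matrix CfsgLib.BN CfsgLib.Coxeter

variable {D : ChevalleyDatum} {T : Tab} {C : Tab.Cover} {F : Type*} [Field F]

open Classical in
/-- A matrix as an element of the group. -/
noncomputable def gEl (D : ChevalleyDatum) (g : GL D.Idx F) : ↥(D.group F) :=
  if hg : g ∈ D.group F then ⟨g, hg⟩ else 1

lemma coe_gEl {g : GL D.Idx F} (hg : g ∈ D.group F) : ((gEl D g : ↥(D.group F)) : GL D.Idx F) = g := by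
  rw [gEl, dif_pos hg]

lemma gEl_mul {a b : GL D.Idx F} (ha : a ∈ D.group F) (hb : b ∈ D.group F) :
    gEl D (a * b) = gEl D a * gEl D b := Subtype.ext (by
  rw [coe_gEl (mul_mem ha hb), Subgroup.coe_mul, coe_gEl ha, coe_gEl hb])

lemma gEl_inv {a : GL D.Idx F} (ha : a ∈ D.group F) : gEl D a⁻¹ = (gEl D a)⁻¹ := Subtype.ext (by
  rw [coe_gEl (inv_mem ha), Subgroup.coe_inv, coe_gEl ha])

lemma gEl_coe (g : ↥(D.group F)) : gEl D (g : GL D.Idx F) = g := Subtype.ext (coe_gEl g.2)

lemma gEl_one : gEl D (1 : GL D.Idx F) = 1 := Subtype.ext (coe_gEl (one_mem _))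

variable (D F) in
/-- The positive unipotent subgroup inside the group. -/
def Upos : Subgroup ↥(D.group F) := (D.posUnipotent F).subgroupOf (D.group F)

variable (D F) in
/-- The negative unipotent subgroup inside the group. -/
def Uneg : Subgroup ↥(D.group F) := (D.negUnipotent F).subgroupOf (D.group F)

variable (D F) in
/-- The diagonal subgroup inside the group. -/
def Tor : Subgroup ↥(D.group F) := (D.diagonalSubgroup F).subgroupOf (D.group F)

namespace Cert

variable (h : Cert D T C)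
include h

section Relations

lemma nS_mem_group {i : ℕ} (hi : i < T.l) : nS D F i ∈ D.group F :=
  h.monomial_le_group (h.nS_mem_monomial hi)

lemma gEl_mem_Upos {g : GL D.Idx F} (hg : g ∈ D.posUnipotent F) : gEl D g ∈ Upos D F := by
  rw [Upos, Subgroup.mem_subgroupOf, coe_gEl (h.posUnipotent_le_group hg)]; exact hg

lemma gEl_mem_Tor {g : GL D.Idx F} (hg : g ∈ D.diagonalSubgroup F) : gEl D g ∈ Tor D F := by
  rw [Tor, Subgroup.mem_subgroupOf, coe_gEl (h.diagonal_le_group hg)]; exact hg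

lemma gEl_mem_Uneg {g : GL D.Idx F} (hg : g ∈ D.negUnipotent F) : gEl D g ∈ Uneg D F := by
  rw [Uneg, Subgroup.mem_subgroupOf, coe_gEl (h.negUnipotent_le_group hg)]; exact hg

lemma neg_simple_lt {i : ℕ} (hi : i < T.l) : T.neg (T.simple i) < T.half := by
  have := (h.simple_spec hi).1
  have := h.two_mul_half
  have := h.simple_lt hi
  unfold Tab.neg; omega

lemma X_neg_simple_mem {i : ℕ} (hi : i < T.l) (t : F) :
    X D (T.neg (T.simple i)) t ∈ D.negUnipotent F := by
  rw [h.negUnipotent_eq]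
  exact X_mem_gen D (S := {r | r < T.half}) (h.neg_simple_lt hi) t

/-- The basic relation of rank one. -/
lemma nS_mul_X {i : ℕ} (hi : i < T.l) (c : F) :
    nS D F i * X D (T.simple i) c =
      (hU D (T.simple i) (-c))⁻¹ * X D (T.simple i) (-c) * X D (T.neg (T.simple i)) c⁻¹ := by
  rw [h.X_neg_simple_eq hi c⁻¹, inv_inv]
  have e : X D (T.simple i) (-c) * X D (T.simple i) c = 1 := by
    rw [h.X_add (h.simple_lt hi), neg_add_cancel, h.X_zero (h.simple_lt hi)]
  calc nS D F i * X D (T.simple i) c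
      = (hU D (T.simple i) (-c))⁻¹ * ((X D (T.simple i) (-c) * X D (T.simple i) c) *
          (hU D (T.simple i) (-c) * nS D F i) * X D (T.simple i) c) := by rw [e]; group
    _ = _ := by group

/-- Conjugation of the negative root group by the simple reflection. -/
lemma nS_conj_neg {i : ℕ} (hi : i < T.l) (t : F) :
    nS D F i * X D (T.neg (T.simple i)) t * (nS D F i)⁻¹ =
      X D (T.simple i) ((T.eta i (T.neg (T.simple i)) : F) * t) := by
  have hp := h.simple_lt hi
  have := h.nS_conj_X hi (neg_lt (T := T) hp) t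
  rwa [(h.refl_spec hi hp).2.2.1, h.refl_simple hi, neg_neg (T := T) hp] at this

lemma nS_inv_conj_mem {i : ℕ} (hi : i < T.l) (t : F) :
    (nS D F i)⁻¹ * X D (T.simple i) t * nS D F i ∈ D.negUnipotent F := by
  refine ?_
  have hη : (T.eta i (T.neg (T.simple i)) : F) ≠ 0 := by
    rcases T.eta_cases i (T.neg (T.simple i)) with e | e <;> simp [e]
  have e := h.nS_conj_neg hi ((T.eta i (T.neg (T.simple i)) : F)⁻¹ * t)
  rw [mul_inv_cancel_left₀ hη] at e
  rw [← e, show (nS D F i)⁻¹ * (nS D F i *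
    X D (T.neg (T.simple i)) ((T.eta i (T.neg (T.simple i)) : F)⁻¹ * t) * (nS D F i)⁻¹) *
      nS D F i = X D (T.neg (T.simple i)) ((T.eta i (T.neg (T.simple i)) : F)⁻¹ * t) by group]
  exact h.X_neg_simple_mem hi _

lemma nS_inv_conj_posBut {i : ℕ} (hi : i < T.l) {v : GL D.Idx F}
    (hv : v ∈ CfsgLib.Chev.gen D F (posBut T i)) :
    (nS D F i)⁻¹ * v * nS D F i ∈ CfsgLib.Chev.gen D F (posBut T i) := by
  have h1 := h.nS_conj_posBut hi hv
  have h2 := (Subgroup.mem_normalizer_iff''.1 (h.diagonal_le_normalizer_gen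
    (fun r hr => hr.1.2) (h.nS_mul_self (F := F) hi)) _).1 h1
  convert h2 using 1
  group

lemma hU_one {r : ℕ} (hr : r < T.n) : hU D r (1 : F) = 1 := by
  have h1 : hU D r (1 : F) * hU D r 1 = hU D r (1 : F) := by
    refine Units.ext ?_
    rw [Units.val_mul, h.hU_root hr one_ne_zero, torus_mul]
    exact torus_congr D fun s _ => by simp [charOf]
  simpa using h1

lemma hU_mul' {r : ℕ} (hr : r < T.n) {a b : F} (ha : a ≠ 0) (hb : b ≠ 0) :
    hU D r a * hU D r b = hU D r (a * b) := by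
  refine Units.ext ?_
  rw [Units.val_mul, h.hU_root hr ha, h.hU_root hr hb, h.hU_root hr (mul_ne_zero ha hb), torus_mul]
  refine torus_congr D fun s _ => ?_
  simp only [charOf, mul_zpow, Finset.prod_mul_distrib]

/-- The simple coroots generate the diagonal subgroup. -/
lemma diagonal_le_closure :
    D.diagonalSubgroup F ≤
      Subgroup.closure {g | ∃ i < T.l, ∃ t : F, t ≠ 0 ∧ g = hU D (T.simple i) t} := by
  intro g hg
  obtain ⟨c, hc, e⟩ := h.mem_diagonalSubgroup_iff.1 hg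
  rw [h.torus_charOf_eq_word hc] at e
  have key : ∀ k ≤ T.l, ∃ u ∈ Subgroup.closure
      {g : GL D.Idx F | ∃ i < T.l, ∃ t : F, t ≠ 0 ∧ g = hU D (T.simple i) t},
      (u : Matrix D.Idx D.Idx F) =
        D.wordMat F ((List.range k).flatMap fun i => D.hWord (D.simple i) (c i)) := by
    intro k
    induction k with
    | zero => intro _; exact ⟨1, one_mem _, by simp [ChevalleyDatum.wordMat]⟩
    | succ k ih =>
      intro hk
      obtain ⟨u, hu, eu⟩ := ih (by omega)
      refine ⟨u * hU D (D.simple k) (c k), mul_mem hu (Subgroup.subset_closure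
        ⟨k, by omega, c k, hc k (by omega), by rw [h.simple_eq (by omega)]⟩), ?_⟩
      rw [List.range_succ, List.flatMap_append, wordMat_append, Units.val_mul, eu, h.coe_hU]
      simp [ChevalleyDatum.hMat]
  obtain ⟨u, hu, eu⟩ := key T.l le_rfl
  rwa [show g = u from Units.ext (e.trans eu.symm)]

/-- A monomial element exchanging the two unipotent groups, with its effect on the simple
reflections. -/
theorem exists_swap [Fintype F] :
    ∃ n₀ ∈ D.monomialSubgroup F,
      (∀ u ∈ D.posUnipotent F, n₀ * u * n₀⁻¹ ∈ D.negUnipotent F) ∧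
      (∀ y ∈ D.negUnipotent F, n₀ * y * n₀⁻¹ ∈ D.posUnipotent F) ∧
      (∀ y ∈ D.negUnipotent F, n₀⁻¹ * y * n₀ ∈ D.posUnipotent F) ∧
      ∀ i < T.l, ∃ j < T.l, ∃ t ∈ D.diagonalSubgroup F, nS D F i * n₀ = n₀ * nS D F j * t := by
  classical
  obtain ⟨P, hB, hN, hS⟩ := h.exists_bnPair (F := F)
  have hexidx : ∀ s : P.S, ∃ i < T.l, ((s : ↥(D.group F)) : GL D.Idx F) = nS D F i := fun s => by
    have h1 := s.2
    simp only [hS] at h1
    exact h1
  choose idx hidx hval using hexidx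
  have hgen : ∀ i < T.l, ∃ s : P.S, idx s = i := fun i hi => by
    have hkS : (⟨nS D F i, h.nS_mem_group hi⟩ : ↥(D.group F)) ∈ P.S := by
      rw [hS]; exact ⟨i, hi, rfl⟩
    refine ⟨⟨_, hkS⟩, h.nS_inj (F := F) (hidx _) hi ?_⟩
    rw [← hval]
    simp
  obtain ⟨w₀, hw₀⟩ := gens.exists_longest (σ := CfsgLib.BN.gen P) gen_len_ne
  obtain ⟨L, -, rfl⟩ := gens.exists_std_word (J := (Set.univ : Set P.S)) (v := w₀) (by
    obtain ⟨L, rfl⟩ := gens.exists_word w₀
    exact Gens.wprod_mem_std fun _ _ => Set.mem_univ _)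
  set w := L.map idx with hw
  have hwOK : WordOK T w := fun i hi => by
    obtain ⟨s, -, rfl⟩ := List.mem_map.1 hi; exact hidx s
  have hcoe : ∀ L : List P.S, ((rep P L : ↥(D.group F)) : GL D.Idx F) = nW D F (L.map idx) := by
    intro L
    induction L with
    | nil => simp [rep, nW]
    | cons s L ih =>
      rw [List.map_cons, nW_cons, ← ih, ← hval s]
      simp [rep]
  have hsimple : ∀ i < T.l, rword T w (T.simple i) < T.half := by
    intro i hi
    obtain ⟨s, rfl⟩ := hgen i hi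
    have hcell : rep P L * (s : ↥(D.group F)) ∈
        cell P (wprod (CfsgLib.BN.gen P) L * CfsgLib.BN.gen P s) := by
      have h1 := rep_mem_cell (P := P) (L ++ [s])
      rwa [wprod_append, show wprod (CfsgLib.BN.gen P) [s] = CfsgLib.BN.gen P s by simp,
        show rep P (L ++ [s]) = rep P L * (s : ↥(D.group F)) by simp [rep]] at h1
    have hw' : WordOK T (w ++ [idx s]) := fun a ha => by
      rcases List.mem_append.1 ha with ha | ha
      · exact hwOK a ha
      · rw [List.mem_singleton.1 ha]; exact hidx s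
    have h1 := h.rword_simple_of_len hB (hidx s) (hval s) hw' (m := rep P L * (s : ↥(D.group F)))
      (by rw [Subgroup.coe_mul, hcoe, hval s, nW_append]; simp [nW, hw]) hcell
      (by rw [mul_assoc, gen_sq, mul_one]; exact (hw₀ s).le)
    rw [rword_append, show rword T [idx s] (T.simple (idx s)) =
      T.refl (idx s) (T.simple (idx s)) from rfl, h.refl_simple (hidx s),
      h.rword_neg hwOK (h.simple_lt (hidx s))] at h1
    exact (h.half_le_neg_iff (h.rword_lt hwOK (h.simple_lt (hidx s)))).1 h1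
  have hneg : ∀ r, T.half ≤ r → r < T.n → rword T w r < T.half := fun r hh hr =>
    h.rword_neg_of_simple hwOK hsimple hh hr
  have htwo := h.two_mul_half
  set n₀ := nW D F w with hn₀
  have hmono : n₀ ∈ D.monomialSubgroup F := h.nW_mem_monomial hwOK
  have hPU : ∀ u ∈ D.posUnipotent F, n₀ * u * n₀⁻¹ ∈ D.negUnipotent F := fun u hu => by
    rw [h.posUnipotent_eq] at hu
    rw [h.negUnipotent_eq]
    exact conj_gen_le (S' := {r | r < T.half})
      (fun r hr => ⟨_, hneg r hr.1 hr.2, h.Maps_nW hwOK hr.2⟩) hu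
  have hNU : ∀ y ∈ D.negUnipotent F, n₀ * y * n₀⁻¹ ∈ D.posUnipotent F := fun y hy => by
    rw [h.negUnipotent_eq] at hy
    rw [h.posUnipotent_eq]
    refine conj_gen_le (S' := posSet T) (fun r (hr : r < T.half) => ?_) hy
    have hr' : r < T.n := by omega
    refine ⟨_, ⟨?_, h.rword_lt hwOK hr'⟩, h.Maps_nW hwOK hr'⟩
    have h1 := hneg _ ((h.half_le_neg_iff hr').2 hr) (neg_lt (T := T) hr')
    rw [h.rword_neg hwOK hr'] at h1
    unfold Tab.neg at h1
    omega
  -- the longest element is an involution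
  have hsq : wprod (CfsgLib.BN.gen P) L * wprod (CfsgLib.BN.gen P) L = 1 := by
    have := gens.len_longest_mul exchange hw₀ (wprod (CfsgLib.BN.gen P) L)
    exact gens.len_eq_zero.1 (by omega)
  have hnn : n₀ * n₀ ∈ D.diagonalSubgroup F := by
    have h1 : rep P L * rep P L ∈ cell P (1 : CfsgLib.BN.Weyl P) := by
      have h2 := rep_mem_cell (P := P) (L ++ L)
      rwa [wprod_append, hsq, show rep P (L ++ L) = rep P L * rep P L by simp [rep]] at h2
    rw [mem_cell_one, hB, Subgroup.mem_subgroupOf, Subgroup.coe_mul, hcoe] at h1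
    rw [← h.borel_inf_monomial]
    exact Subgroup.mem_inf.2 ⟨h1, mul_mem hmono hmono⟩
  refine ⟨n₀, hmono, hPU, hNU, fun y hy => ?_, fun i hi => ?_⟩
  · have h1 := hNU y hy
    have h2 : (n₀ * n₀)⁻¹ * (n₀ * y * n₀⁻¹) * (n₀ * n₀) ∈ D.posUnipotent F := by
      rw [h.posUnipotent_eq] at h1 ⊢
      exact (Subgroup.mem_normalizer_iff''.1
        (h.diagonal_le_normalizer_gen (fun r hr => hr.2) hnn) _).1 h1
    convert h2 using 1
    group
  · obtain ⟨s, rfl⟩ := hgen i hi
    set g := wprod (CfsgLib.BN.gen P) L with hg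
    have hlen : len (CfsgLib.BN.gen P) (g * (CfsgLib.BN.gen P s * g)) = 1 := by
      have h1 := gens.len_longest_mul exchange hw₀ (CfsgLib.BN.gen P s * g)
      have h2 := gens.len_longest_mul exchange hw₀ (CfsgLib.BN.gen P s)
      have h3 : len (CfsgLib.BN.gen P) (CfsgLib.BN.gen P s * g) =
          len (CfsgLib.BN.gen P) (g * CfsgLib.BN.gen P s) := by
        rw [← gens.len_inv, _root_.mul_inv_rev, gen_inv, inv_eq_of_mul_eq_one_right hsq]
      rw [len_gen_eq_one] at h2
      omega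
    obtain ⟨M, -, hM, hMl⟩ := gens.exists_red (g * (CfsgLib.BN.gen P s * g))
    rw [hlen, List.length_eq_one_iff] at hMl
    obtain ⟨s', rfl⟩ := hMl
    rw [show wprod (CfsgLib.BN.gen P) [s'] = CfsgLib.BN.gen P s' by simp] at hM
    refine ⟨idx s', hidx s', (n₀ * nS D F (idx s'))⁻¹ * (nS D F (idx s) * n₀), ?_, by group⟩
    have hN' : (n₀ * nS D F (idx s'))⁻¹ * (nS D F (idx s) * n₀) ∈ D.monomialSubgroup F :=
      mul_mem (inv_mem (mul_mem hmono (h.nS_mem_monomial (hidx s'))))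
        (mul_mem (h.nS_mem_monomial (hidx s)) hmono)
    rw [← h.borel_inf_monomial]
    refine Subgroup.mem_inf.2 ⟨?_, hN'⟩
    let a : P.N := ⟨rep P (L ++ [s']), rep_mem_N _⟩
    let b : P.N := ⟨rep P (s :: L), rep_mem_N _⟩
    have he : (QuotientGroup.mk a : CfsgLib.BN.Weyl P) = QuotientGroup.mk b := by
      rw [mk_rep, mk_rep, wprod_append, wprod_cons, wprod_cons, wprod_nil, mul_one, hM,
        ← hg, ← mul_assoc g g, hsq, one_mul]
    have h1 := mk_eq_mk.1 he
    rw [hB, Subgroup.mem_subgroupOf] at h1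
    simpa [a, b, hcoe, nW_append, nW_cons, nW, hn₀, hw] using h1

/-- In the ascending case the simple root group is conjugated into `U`. -/
lemma conj_simple_of_up {P : Cfsg.BNPair ↥(D.group F)}
    (hB : P.B = (D.borelSubgroup F).subgroupOf (D.group F)) {s : P.S} {i : ℕ} (hi : i < T.l)
    (hs : ((s : ↥(D.group F)) : GL D.Idx F) = nS D F i) {m : ↥(D.group F)}
    (hmN : (m : GL D.Idx F) ∈ D.monomialSubgroup F) {w : CfsgLib.BN.Weyl P} (hm : m ∈ cell P w)
    (hup : len (CfsgLib.BN.gen P) w ≤ len (CfsgLib.BN.gen P) (CfsgLib.BN.gen P s * w)) (b : F) :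
    (m : GL D.Idx F)⁻¹ * X D (T.simple i) b * (m : GL D.Idx F) ∈ D.posUnipotent F := by
  obtain ⟨w', hw', t, ht, e⟩ := h.exists_word_of_monomial (inv_mem hmN)
  have hwG := h.monomial_le_group (h.nW_mem_monomial (F := F) hw')
  have hcell : (⟨nW D F w', hwG⟩ : ↥(D.group F)) ∈ cell P w⁻¹ := by
    have htB : (⟨t, h.diagonal_le_group ht⟩ : ↥(D.group F)) ∈ P.B := by
      rw [hB, Subgroup.mem_subgroupOf]; exact Subgroup.mem_sup_right ht
    have h1 := right_cell (inv_cell hm) (inv_mem htB)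
    convert h1 using 1
    refine Subtype.ext ?_
    simp only [Subgroup.coe_mul, Subgroup.coe_inv, e, mul_inv_cancel_right]
  have hlen : len (CfsgLib.BN.gen P) w⁻¹ ≤
      len (CfsgLib.BN.gen P) (w⁻¹ * CfsgLib.BN.gen P s) := by
    rw [gens.len_inv, gens.len_mul_gen, inv_inv]
    exact hup
  have hpos := h.rword_simple_of_len hB hi hs hw' (m := ⟨nW D F w', hwG⟩) rfl hcell hlen
  have hp := h.simple_lt hi
  obtain ⟨c, -, ec⟩ := Maps_mul (h.Maps_diagonal ht hp) (h.Maps_nW hw' hp)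
  have e1 : (m : GL D.Idx F)⁻¹ * X D (T.simple i) b * (m : GL D.Idx F) =
      X D (rword T w' (T.simple i)) (c * b) := by
    rw [← ec b, ← e, inv_inv]
  rw [e1, h.posUnipotent_eq]
  exact X_mem_gen D (S := posSet T) ⟨hpos, h.rword_lt hw' hp⟩ _

end Relations

section Module

variable [Fintype F] {k : Type*} [Field k] {V : Type*} [AddCommGroup V] [Module k V]
  (ρ : Representation k ↥(D.group F) V)

omit h in
/-- The operator of a simple reflection. -/
noncomputable def aOp (T : Tab) (i : ℕ) : V →ₗ[k] V :=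
  ∑ a : F, ρ (gEl D (X D (T.simple i) a) * gEl D (nS D F i))

omit h in
/-- The span of the translates under the positive unipotent group. -/
noncomputable def tspan (z : V) : Submodule k V :=
  Submodule.span k (Set.range fun u : ↥(Upos D F) => ρ (u : ↥(D.group F)) z)

lemma aOp_apply (i : ℕ) (v : V) :
    aOp ρ T i v = ∑ a : F, ρ (gEl D (X D (T.simple i) a)) (ρ (gEl D (nS D F i)) v) := by
  simp [aOp, LinearMap.sum_apply]

/-- The span of the translates is invariant. -/
theorem tspan_invariant {z : V} (hV : ∀ y ∈ Uneg D F, ρ y z = z)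
    (hT : ∀ t ∈ Tor D F, ∃ c : k, ρ t z = c • z)
    (hn : ∀ i < T.l, ρ (gEl D (nS D F i)) z ∈ tspan ρ z) :
    ∀ g, ∀ w ∈ tspan ρ z, ρ g w ∈ tspan ρ z := by
  classical
  set S := tspan ρ z with hS
  have hgenS : ∀ u ∈ Upos D F, ρ u z ∈ S := fun u hu => Submodule.subset_span ⟨⟨u, hu⟩, rfl⟩
  have hstep : ∀ g, (∀ u ∈ Upos D F, ρ g (ρ u z) ∈ S) → ∀ w ∈ S, ρ g w ∈ S := fun g hg w hw => by
    rw [hS, tspan] at hw
    induction hw using Submodule.span_induction with
    | mem w hw => obtain ⟨u, rfl⟩ := hw; exact hg u u.2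
    | zero => rw [map_zero]; exact zero_mem _
    | add a b _ _ ha hb => rw [map_add]; exact add_mem ha hb
    | smul c a _ ha => rw [map_smul]; exact S.smul_mem _ ha
  let H : Subgroup ↥(D.group F) :=
    { carrier := {g | ∀ w ∈ S, ρ g w ∈ S}
      one_mem' := fun w hw => by rwa [map_one, Module.End.one_apply]
      mul_mem' := fun {a b} ha hb w hw => by
        rw [map_mul, Module.End.mul_apply]; exact ha _ (hb _ hw)
      inv_mem' := fun {a} ha => by
        have hpow : ∀ n : ℕ, ∀ w ∈ S, ρ (a ^ n) w ∈ S := by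
          intro n
          induction n with
          | zero => intro w hw; rwa [pow_zero, map_one, Module.End.one_apply]
          | succ n ih =>
            intro w hw
            rw [pow_succ', map_mul, Module.End.mul_apply]
            exact ha _ (ih _ hw)
        have e : a⁻¹ = a ^ (orderOf a - 1) := by
          refine inv_eq_of_mul_eq_one_right ?_
          rw [← pow_succ', Nat.sub_add_cancel (orderOf_pos a), pow_orderOf_eq_one]
        intro w hw
        rw [e]
        exact hpow _ w hw }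
  have hUH : ∀ u ∈ Upos D F, u ∈ H := fun u hu => hstep u fun u' hu' => by
    rw [← Module.End.mul_apply, ← map_mul]
    exact hgenS _ (mul_mem hu hu')
  have hTH : ∀ t ∈ Tor D F, t ∈ H := fun t ht => hstep t fun u hu => by
    obtain ⟨c, hc⟩ := hT t ht
    have hconj : t * u * t⁻¹ ∈ Upos D F := by
      rw [Upos, Subgroup.mem_subgroupOf] at hu ⊢
      rw [h.posUnipotent_eq] at hu ⊢
      exact (Subgroup.mem_normalizer_iff.1 (h.diagonal_le_normalizer_gen (fun r hr => hr.2)
        (Subgroup.mem_subgroupOf.1 ht)) _).1 hu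
    rw [← Module.End.mul_apply, ← map_mul, show t * u = t * u * t⁻¹ * t by group, map_mul,
      Module.End.mul_apply, hc, map_smul]
    exact S.smul_mem _ (hgenS _ hconj)
  have hnH : ∀ i < T.l, gEl D (nS D F i) ∈ H := fun i hi => hstep _ fun u hu => by
    obtain ⟨v, hv, a, e⟩ := h.exists_posBut_mul hi (Subgroup.mem_subgroupOf.1 hu)
    have hvU : v ∈ D.posUnipotent F := h.gen_pos_le (fun r hr => hr.1) hv
    have hxU : ∀ b, X D (T.simple i) b ∈ D.posUnipotent F := h.X_simple_mem_posUnipotent hi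
    have hnG := h.nS_mem_group (F := F) hi
    have hvG := h.posUnipotent_le_group hvU
    have hv' : nS D F i * v * (nS D F i)⁻¹ ∈ D.posUnipotent F :=
      h.gen_pos_le (fun r hr => hr.1) (h.nS_conj_posBut hi hv)
    have eu : u = gEl D v * gEl D (X D (T.simple i) a) := by
      rw [← gEl_mul hvG (h.posUnipotent_le_group (hxU a)), ← e, gEl_coe]
    have hsplit : gEl D (nS D F i) * u =
        gEl D (nS D F i * v * (nS D F i)⁻¹) *
          (gEl D (nS D F i) * gEl D (X D (T.simple i) a)) := by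
      rw [eu, gEl_mul (mul_mem hnG hvG) (inv_mem hnG), gEl_mul hnG hvG, gEl_inv hnG]
      group
    rw [← Module.End.mul_apply, ← map_mul, hsplit, map_mul, Module.End.mul_apply]
    refine hUH _ (h.gEl_mem_Upos hv') _ ?_
    by_cases ha : a = 0
    · rw [ha, h.X_zero (h.simple_lt hi), gEl_one, mul_one]
      exact hn i hi
    · have hhT : (hU D (T.simple i) (-a))⁻¹ ∈ D.diagonalSubgroup F :=
        inv_mem (h.hU_mem (h.simple_lt hi) (neg_ne_zero.2 ha))
      have hy := h.X_neg_simple_mem (F := F) hi a⁻¹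
      rw [← gEl_mul hnG (h.posUnipotent_le_group (hxU a)), h.nS_mul_X hi a,
        gEl_mul (mul_mem (h.diagonal_le_group hhT) (h.posUnipotent_le_group (hxU _)))
          (h.negUnipotent_le_group hy),
        gEl_mul (h.diagonal_le_group hhT) (h.posUnipotent_le_group (hxU _)), map_mul, map_mul,
        Module.End.mul_apply, Module.End.mul_apply, hV _ (h.gEl_mem_Uneg hy)]
      exact hTH _ (h.gEl_mem_Tor hhT) _ (hgenS _ (h.gEl_mem_Upos (hxU _)))
  have hW : ∀ w : List ℕ, WordOK T w → gEl D (nW D F w) ∈ H := by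
    intro w
    induction w with
    | nil => intro _; rw [show nW D F ([] : List ℕ) = 1 from rfl, gEl_one]; exact one_mem _
    | cons i w ih =>
      intro hw
      rw [nW_cons, gEl_mul (h.nS_mem_group hw.head)
        (h.monomial_le_group (h.nW_mem_monomial hw.tail))]
      exact mul_mem (hnH i hw.head) (ih hw.tail)
  obtain ⟨n₀, hmono, -, -, hNU, -⟩ := h.exists_swap (F := F)
  have hn₀ : gEl D n₀ ∈ H := by
    obtain ⟨w, hw, t, ht, rfl⟩ := h.exists_word_of_monomial hmono
    rw [gEl_mul (h.monomial_le_group (h.nW_mem_monomial hw)) (h.diagonal_le_group ht)]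
    exact mul_mem (hW w hw) (hTH _ (h.gEl_mem_Tor ht))
  suffices H = ⊤ from fun g => (this ▸ Subgroup.mem_top g : g ∈ H)
  rw [eq_top_iff]
  intro g _
  have key : D.group F ≤ H.map (D.group F).subtype := by
    conv_lhs => rw [h.group_eq, CfsgLib.Chev.gen]
    rw [Subgroup.closure_le]
    rintro _ ⟨r, hr, t, rfl⟩
    refine ⟨gEl D (X D r t), ?_, coe_gEl (h.X_mem_group hr t)⟩
    rcases Nat.lt_or_ge r T.half with hlt | hge
    · have hy : X D r t ∈ D.negUnipotent F := by
        rw [h.negUnipotent_eq]; exact X_mem_gen D (S := {r | r < T.half}) hlt t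
      have h1 := hUH _ (h.gEl_mem_Upos (hNU _ hy))
      rw [gEl_mul (mul_mem (inv_mem (h.monomial_le_group hmono)) (h.negUnipotent_le_group hy))
        (h.monomial_le_group hmono), gEl_mul (inv_mem (h.monomial_le_group hmono))
        (h.negUnipotent_le_group hy), gEl_inv (h.monomial_le_group hmono)] at h1
      have h2 := mul_mem (mul_mem hn₀ h1) (inv_mem hn₀)
      simpa [mul_assoc] using h2
    · refine hUH _ (h.gEl_mem_Upos ?_)
      rw [h.posUnipotent_eq]; exact X_mem_gen D (S := posSet T) ⟨hge, hr⟩ t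
  obtain ⟨g', hg', e⟩ := key g.2
  rwa [show g = g' from Subtype.ext e.symm]

omit h in
open Classical in
/-- The cosets of `U` in the orbit of a coset under `U`. -/
noncomputable def orbF (m : ↥(D.group F)) : Finset (↥(D.group F) ⧸ Upos D F) :=
  have := Fintype.ofFinite ↥(Upos D F)
  Finset.univ.image fun u : ↥(Upos D F) => (((u : ↥(D.group F)) * m : ↥(D.group F)) :
    ↥(D.group F) ⧸ Upos D F)

omit h in
/-- The sum over an orbit of cosets. -/
noncomputable def orbSum (m : ↥(D.group F)) : V →ₗ[k] V := ∑ q ∈ orbF m, ρ (Quotient.out q)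

omit h in
lemma mem_orbF {m : ↥(D.group F)} {q : ↥(D.group F) ⧸ Upos D F} :
    q ∈ orbF m ↔ ∃ u ∈ Upos D F, ((u * m : ↥(D.group F)) : ↥(D.group F) ⧸ Upos D F) = q := by
  simp [orbF]

omit h in
lemma out_apply {v : V} (hv : ∀ u ∈ Upos D F, ρ u v = v) (g : ↥(D.group F)) :
    ρ (Quotient.out (g : ↥(D.group F) ⧸ Upos D F)) v = ρ g v := by
  obtain ⟨u, hu⟩ := QuotientGroup.mk_out_eq_mul (Upos D F) g
  rw [hu, map_mul, Module.End.mul_apply, hv _ u.2]

omit h in
lemma orbSum_one {v : V} (hv : ∀ u ∈ Upos D F, ρ u v = v) :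
    orbSum ρ (1 : ↥(D.group F)) v = v := by
  classical
  have e : orbF (1 : ↥(D.group F)) = {(((1 : ↥(D.group F))) : ↥(D.group F) ⧸ Upos D F)} := by
    ext q
    rw [mem_orbF, Finset.mem_singleton]
    constructor
    · rintro ⟨u, hu, rfl⟩
      rw [mul_one, QuotientGroup.eq, mul_one]
      exact inv_mem hu
    · rintro rfl; exact ⟨1, one_mem _, by rw [mul_one]⟩
  rw [orbSum, e, Finset.sum_singleton, out_apply ρ hv, map_one, Module.End.one_apply]

omit h in
lemma orbSum_fixed {v : V} (hv : ∀ u ∈ Upos D F, ρ u v = v) (m : ↥(D.group F)) :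
    ∀ u ∈ Upos D F, ρ u (orbSum ρ m v) = orbSum ρ m v := by
  classical
  intro u hu
  rw [orbSum, LinearMap.sum_apply, map_sum]
  refine Finset.sum_bij (fun q _ => u • q) (fun q hq => ?_) (fun a _ b _ e => MulAction.injective u e)
    (fun q hq => ?_) fun q hq => ?_
  · obtain ⟨w, hw, rfl⟩ := mem_orbF.1 hq
    exact mem_orbF.2 ⟨u * w, mul_mem hu hw, by rw [mul_assoc]; rfl⟩
  · obtain ⟨w, hw, rfl⟩ := mem_orbF.1 hq
    refine ⟨_, mem_orbF.2 ⟨u⁻¹ * w, mul_mem (inv_mem hu) hw, rfl⟩, ?_⟩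
    show ((u * (u⁻¹ * w * m) : ↥(D.group F)) : ↥(D.group F) ⧸ Upos D F) = _
    congr 1; group
  · obtain ⟨w, hw, rfl⟩ := mem_orbF.1 hq
    rw [show u • ((w * m : ↥(D.group F)) : ↥(D.group F) ⧸ Upos D F) =
      ((u * (w * m) : ↥(D.group F)) : ↥(D.group F) ⧸ Upos D F) from rfl, out_apply ρ hv,
      out_apply ρ hv (u * _), map_mul ρ u, Module.End.mul_apply]

lemma tor_normalizes {t u : ↥(D.group F)} (ht : t ∈ Tor D F) (hu : u ∈ Upos D F) :
    t * u * t⁻¹ ∈ Upos D F := by
  rw [Upos, Subgroup.mem_subgroupOf] at hu ⊢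
  rw [h.posUnipotent_eq] at hu ⊢
  exact (Subgroup.mem_normalizer_iff.1 (h.diagonal_le_normalizer_gen (fun r hr => hr.2)
    (Subgroup.mem_subgroupOf.1 ht)) _).1 hu

lemma orbSum_mul_tor {v : V} (hv : ∀ u ∈ Upos D F, ρ u v = v) (m : ↥(D.group F)) {t : ↥(D.group F)}
    (ht : t ∈ Tor D F) : orbSum ρ (m * t) v = orbSum ρ m (ρ t v) := by
  classical
  have hv' : ∀ u ∈ Upos D F, ρ u (ρ t v) = ρ t v := fun u hu => by
    have h1 := h.tor_normalizes (inv_mem ht) hu
    rw [inv_inv] at h1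
    rw [← Module.End.mul_apply, ← map_mul, show u * t = t * (t⁻¹ * u * t) by group, map_mul,
      Module.End.mul_apply, hv _ h1]
  rw [orbSum, orbSum, LinearMap.sum_apply, LinearMap.sum_apply]
  symm
  refine Finset.sum_bij (fun q _ => ((Quotient.out q * t : ↥(D.group F)) : ↥(D.group F) ⧸ Upos D F))
    (fun q hq => ?_) (fun a _ b _ e => ?_) (fun q hq => ?_) fun q hq => ?_
  · obtain ⟨w, hw, rfl⟩ := mem_orbF.1 hq
    obtain ⟨u, hu⟩ := QuotientGroup.mk_out_eq_mul (Upos D F) (w * m)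
    refine mem_orbF.2 ⟨w, hw, ?_⟩
    rw [hu, QuotientGroup.eq]
    have h1 := h.tor_normalizes (inv_mem ht) u.2
    rw [inv_inv] at h1
    convert h1 using 1
    group
  · rw [QuotientGroup.eq] at e
    rw [← QuotientGroup.out_eq' a, ← QuotientGroup.out_eq' b, QuotientGroup.eq]
    have h1 := h.tor_normalizes ht e
    convert h1 using 1
    group
  · obtain ⟨w, hw, rfl⟩ := mem_orbF.1 hq
    refine ⟨_, mem_orbF.2 ⟨w, hw, rfl⟩, ?_⟩
    obtain ⟨u, hu⟩ := QuotientGroup.mk_out_eq_mul (Upos D F) (w * m)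
    rw [hu, QuotientGroup.eq]
    have h1 := h.tor_normalizes (inv_mem ht) (inv_mem u.2)
    rw [inv_inv] at h1
    convert h1 using 1
    group
  · rw [out_apply ρ hv, map_mul, Module.End.mul_apply]

lemma tor_orbSum {v : V} (hv : ∀ u ∈ Upos D F, ρ u v = v) (m : ↥(D.group F)) {t : ↥(D.group F)}
    (ht : t ∈ Tor D F) (htm : m⁻¹ * t * m ∈ Tor D F) :
    ρ t (orbSum ρ m v) = orbSum ρ m (ρ (m⁻¹ * t * m) v) := by
  classical
  rw [← h.orbSum_mul_tor ρ hv m htm, show m * (m⁻¹ * t * m) = t * m by group, orbSum, orbSum,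
    LinearMap.sum_apply, LinearMap.sum_apply, map_sum]
  refine Finset.sum_bij (fun q _ => t • q) (fun q hq => ?_) (fun a _ b _ e => MulAction.injective t e)
    (fun q hq => ?_) fun q hq => ?_
  · obtain ⟨w, hw, rfl⟩ := mem_orbF.1 hq
    refine mem_orbF.2 ⟨t * w * t⁻¹, h.tor_normalizes ht hw, ?_⟩
    show _ = ((t * (w * m) : ↥(D.group F)) : ↥(D.group F) ⧸ Upos D F)
    congr 1; group
  · obtain ⟨w, hw, rfl⟩ := mem_orbF.1 hq
    have h1 := h.tor_normalizes (inv_mem ht) hw
    rw [inv_inv] at h1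
    refine ⟨_, mem_orbF.2 ⟨_, h1, rfl⟩, ?_⟩
    show ((t * (t⁻¹ * w * t * m) : ↥(D.group F)) : ↥(D.group F) ⧸ Upos D F) = _
    congr 1; group
  · obtain ⟨w, hw, rfl⟩ := mem_orbF.1 hq
    rw [show t • ((w * m : ↥(D.group F)) : ↥(D.group F) ⧸ Upos D F) =
      ((t * (w * m) : ↥(D.group F)) : ↥(D.group F) ⧸ Upos D F) from rfl, out_apply ρ hv,
      out_apply ρ hv (t * _), map_mul ρ t, Module.End.mul_apply]

/-- Composition with the operator of a simple reflection. -/
lemma aOp_orbSum {P : Cfsg.BNPair ↥(D.group F)}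
    (hB : P.B = (D.borelSubgroup F).subgroupOf (D.group F)) {v : V}
    (hv : ∀ u ∈ Upos D F, ρ u v = v) {s : P.S} {i : ℕ} (hi : i < T.l)
    (hs : ((s : ↥(D.group F)) : GL D.Idx F) = nS D F i) {m : ↥(D.group F)} (hmN : (m : GL D.Idx F) ∈ D.monomialSubgroup F)
    {w : CfsgLib.BN.Weyl P} (hm : m ∈ cell P w)
    (hup : len (CfsgLib.BN.gen P) w ≤ len (CfsgLib.BN.gen P) (CfsgLib.BN.gen P s * w)) :
    aOp ρ T i (orbSum ρ m v) = orbSum ρ ((s : ↥(D.group F)) * m) v := by
  classical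
  have hsG : gEl D (nS D F i) = (s : ↥(D.group F)) := by rw [← hs, gEl_coe]
  have hUB : ∀ u ∈ Upos D F, u ∈ P.B := fun u hu => by
    rw [hB, Subgroup.mem_subgroupOf]
    exact Subgroup.mem_sup_left (Subgroup.mem_subgroupOf.1 hu)
  have hxU : ∀ b, gEl D (X D (T.simple i) b) ∈ Upos D F := fun b =>
    h.gEl_mem_Upos (h.X_simple_mem_posUnipotent hi b)
  have hxG : ∀ b, X D (T.simple i) b ∈ D.group F := fun b => h.X_mem_group (h.simple_lt hi) b
  have hconj : ∀ b, m⁻¹ * gEl D (X D (T.simple i) b) * m ∈ Upos D F := by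
    intro b
    rw [Upos, Subgroup.mem_subgroupOf]
    simp only [Subgroup.coe_mul, Subgroup.coe_inv, coe_gEl (hxG b)]
    exact h.conj_simple_of_up hB hi hs hmN hm hup b
  rw [h.aOp_apply, orbSum, orbSum, LinearMap.sum_apply, LinearMap.sum_apply]
  simp only [map_sum, ← Module.End.mul_apply, ← map_mul, hsG]
  rw [← Finset.sum_product']
  refine Finset.sum_bij (fun p _ => ((gEl D (X D (T.simple i) p.1) * (s : ↥(D.group F)) *
    Quotient.out p.2 : ↥(D.group F)) : ↥(D.group F) ⧸ Upos D F))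
    (fun p hp => ?_) (fun p hp p' hp' e => ?_) (fun q hq => ?_) fun p hp => ?_
  · obtain ⟨u, hu, eq⟩ := mem_orbF.1 (Finset.mem_product.1 hp).2
    obtain ⟨v', hv', b, eu⟩ := h.exists_posBut_mul hi (Subgroup.mem_subgroupOf.1 hu)
    have hv'G : v' ∈ D.group F :=
      h.posUnipotent_le_group (h.gen_pos_le (fun r hr => hr.1) hv')
    have eu' : u = gEl D v' * gEl D (X D (T.simple i) b) := by
      rw [← gEl_mul hv'G (hxG b), ← eu, gEl_coe]
    obtain ⟨u', hu'⟩ := QuotientGroup.mk_out_eq_mul (Upos D F) (u * m)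
    have hc : (s : ↥(D.group F)) * gEl D v' * (s : ↥(D.group F))⁻¹ ∈ Upos D F := by
      rw [Upos, Subgroup.mem_subgroupOf]
      simp only [Subgroup.coe_mul, Subgroup.coe_inv, hs, coe_gEl hv'G]
      exact h.gen_pos_le (fun r hr => hr.1) (h.nS_conj_posBut hi hv')
    refine mem_orbF.2 ⟨gEl D (X D (T.simple i) p.1) * ((s : ↥(D.group F)) * gEl D v' *
      (s : ↥(D.group F))⁻¹), mul_mem (hxU _) hc, ?_⟩
    rw [← eq, hu', QuotientGroup.eq]
    have h1 := mul_mem (hconj b) u'.2
    convert h1 using 1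
    rw [eu']
    group
  · obtain ⟨a, q⟩ := p
    obtain ⟨a', q'⟩ := p'
    obtain ⟨u, hu, rfl⟩ := mem_orbF.1 (Finset.mem_product.1 hp).2
    obtain ⟨u', hu', rfl⟩ := mem_orbF.1 (Finset.mem_product.1 hp').2
    simp only [QuotientGroup.eq] at e
    obtain ⟨r, hr⟩ := QuotientGroup.mk_out_eq_mul (Upos D F) (u * m)
    obtain ⟨r', hr'⟩ := QuotientGroup.mk_out_eq_mul (Upos D F) (u' * m)
    have haa : a = a' := by
      by_contra hne
      set x := (s : ↥(D.group F))⁻¹ * ((gEl D (X D (T.simple i) a))⁻¹ *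
        gEl D (X D (T.simple i) a')) * (s : ↥(D.group F)) with hx
      have hxB : (gEl D (X D (T.simple i) a))⁻¹ * gEl D (X D (T.simple i) a') ∈ P.B :=
        hUB _ (mul_mem (inv_mem (hxU a)) (hxU a'))
      have hxcell : x ∈ cell P (CfsgLib.BN.gen P s) := by
        rcases step' (right_cell (inv_gen_mem s) hxB) (gen_mem_cell s) with h1 | h1
        · exfalso
          rw [gen_sq, mem_cell_one, hB, Subgroup.mem_subgroupOf] at h1
          simp only [Subgroup.coe_mul, Subgroup.coe_inv, hs, coe_gEl (hxG _)] at h1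
          rw [h.X_inv (h.simple_lt hi), h.X_add (h.simple_lt hi)] at h1
          have h2 : (nS D F i)⁻¹ * X D (T.simple i) (-a + a') * nS D F i ∈
              D.borelSubgroup F ⊓ D.negUnipotent F := ⟨h1, h.nS_inv_conj_mem hi _⟩
          rw [h.borel_inf_negUnipotent, Subgroup.mem_bot] at h2
          have h3 : X D (T.simple i) (-a + a') = 1 := by
            calc X D (T.simple i) (-a + a') = nS D F i * ((nS D F i)⁻¹ *
                  X D (T.simple i) (-a + a') * nS D F i) * (nS D F i)⁻¹ := by group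
              _ = 1 := by rw [h2]; group
          rw [h.X_eq_one_iff (h.simple_lt hi)] at h3
          exact hne (neg_add_eq_zero.1 h3)
        · exact h1
      have h4 := mul_cell_of_len s hxcell hup
        (right_cell (left_cell hm (hUB u' hu')) (hUB _ r'.2))
      have h5 : x * (u' * m * (r' : ↥(D.group F))) ∈ cell P w := by
        have h6 := right_cell (left_cell hm (hUB u hu))
          (mul_mem (hUB _ r.2) (hUB _ e))
        convert h6 using 1
        rw [hx, hr, hr']
        group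
      have h7 := cell_inj h4 h5
      rw [mul_eq_right] at h7
      exact gen_ne_one s h7
    subst haa
    refine Prod.ext rfl ?_
    rw [← QuotientGroup.out_eq' ((u * m : ↥(D.group F)) : ↥(D.group F) ⧸ Upos D F),
      ← QuotientGroup.out_eq' ((u' * m : ↥(D.group F)) : ↥(D.group F) ⧸ Upos D F),
      QuotientGroup.eq]
    convert e using 1
    group
  · obtain ⟨u, hu, rfl⟩ := mem_orbF.1 hq
    obtain ⟨v', hv', a, eu⟩ := h.exists_posBut_mul hi (Subgroup.mem_subgroupOf.1 hu)
    have hv'' := (Subgroup.mem_normalizer_iff''.1 (h.simple_normalizes_posBut hi (h.simple_lt hi)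
      (h.wt_simple_zero hi).1 (X_mem_gen D (Set.mem_singleton _) a)) v').1 hv'
    have hy := h.gen_pos_le (fun r hr => hr.1) (h.nS_inv_conj_posBut hi hv'')
    refine ⟨(a, ((gEl D _ * m : ↥(D.group F)) : ↥(D.group F) ⧸ Upos D F)),
      Finset.mem_product.2 ⟨Finset.mem_univ a, mem_orbF.2 ⟨_, h.gEl_mem_Upos hy, rfl⟩⟩, ?_⟩
    obtain ⟨r, hr⟩ := QuotientGroup.mk_out_eq_mul (Upos D F)
      (gEl D ((nS D F i)⁻¹ * ((X D (T.simple i) a)⁻¹ * v' * X D (T.simple i) a) * nS D F i) * m)
    rw [hr, QuotientGroup.eq]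
    have h1 : u = gEl D (X D (T.simple i) a) * ((s : ↥(D.group F)) *
        gEl D ((nS D F i)⁻¹ * ((X D (T.simple i) a)⁻¹ * v' * X D (T.simple i) a) * nS D F i) *
        (s : ↥(D.group F))⁻¹) := by
      refine Subtype.ext ?_
      simp only [Subgroup.coe_mul, Subgroup.coe_inv, coe_gEl (hxG a), hs,
        coe_gEl (h.posUnipotent_le_group hy)]
      rw [eu]
      group
    convert inv_mem r.2 using 1
    rw [h1]
    group
  · rw [out_apply ρ hv, mul_assoc]


omit h in
/-- The vector is fixed by `U` and an eigenvector of the diagonal subgroup. -/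
def IsWeightVec (v : V) : Prop :=
  (∀ u ∈ Upos D F, ρ u v = v) ∧ ∀ t ∈ Tor D F, ∃ c : k, ρ t v = c • v

lemma conj_tor_mem {m t : ↥(D.group F)} (hm : (m : GL D.Idx F) ∈ D.monomialSubgroup F)
    (ht : t ∈ Tor D F) : m⁻¹ * t * m ∈ Tor D F := by
  rw [Tor, Subgroup.mem_subgroupOf]
  simp only [Subgroup.coe_mul, Subgroup.coe_inv]
  exact (Subgroup.mem_normalizer_iff''.1 (h.monomial_le_normalizer_diagonal hm) _).1
    (Subgroup.mem_subgroupOf.1 ht)

lemma isWeightVec_orbSum {v : V} (hv : IsWeightVec ρ v) {m : ↥(D.group F)}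
    (hm : (m : GL D.Idx F) ∈ D.monomialSubgroup F) : IsWeightVec ρ (orbSum ρ m v) := by
  refine ⟨orbSum_fixed ρ hv.1 m, fun t ht => ?_⟩
  obtain ⟨c, hc⟩ := hv.2 _ (h.conj_tor_mem hm ht)
  exact ⟨c, by rw [h.tor_orbSum ρ hv.1 m ht (h.conj_tor_mem hm ht), hc, map_smul]⟩

/-- The operator of a simple reflection is the sum over the orbit of its element. -/
lemma aOp_eq_orbSum {v : V} (hv : ∀ u ∈ Upos D F, ρ u v = v) {i : ℕ} (hi : i < T.l) :
    aOp ρ T i v = orbSum ρ (gEl D (nS D F i)) v := by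
  obtain ⟨P, hB, -, hS⟩ := h.exists_bnPair (F := F)
  have hsS : gEl D (nS D F i) ∈ P.S := by
    rw [hS]; exact ⟨i, hi, coe_gEl (h.nS_mem_group hi)⟩
  have h1 := h.aOp_orbSum ρ hB hv (s := ⟨_, hsS⟩) hi (coe_gEl (h.nS_mem_group hi)) (m := 1)
    (one_mem _) (w := 1) (mem_cell_one.2 (one_mem _)) (by
      rw [mul_one, gens.len_eq_zero.2 rfl]; exact Nat.zero_le _)
  rw [orbSum_one ρ hv, mul_one] at h1
  exact h1

open Classical in
/-- The quadratic relation on a weight vector. -/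
lemma aOp_aOp (hq : (Fintype.card F : k) = 0) {v : V} (hv : IsWeightVec ρ v) {i : ℕ} (hi : i < T.l)
    (κ : F → k) (hκ : ∀ b : F, b ≠ 0 →
      ρ ((gEl D (nS D F i))⁻¹ * (gEl D (hU D (T.simple i) (-b)))⁻¹ * gEl D (nS D F i)) v = κ b • v) :
    aOp ρ T i (aOp ρ T i v) =
      (∑ b ∈ Finset.univ.erase (0 : F), κ b) • aOp ρ T i v := by
  have hp := h.simple_lt hi
  have hnG := h.nS_mem_group (F := F) hi
  have hxG : ∀ b, X D (T.simple i) b ∈ D.group F := fun b => h.X_mem_group hp b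
  have hxU : ∀ b, gEl D (X D (T.simple i) b) ∈ Upos D F := fun b =>
    h.gEl_mem_Upos (h.X_simple_mem_posUnipotent hi b)
  set x := fun b : F => ρ (gEl D (X D (T.simple i) b)) with hx
  set n := ρ (gEl D (nS D F i)) with hn
  have hA : ∀ w, aOp ρ T i w = ∑ a : F, x a (n w) := fun w => h.aOp_apply ρ i w
  have hxadd : ∀ a b w, x a (x b w) = x (a + b) w := fun a b w => by
    simp only [hx]
    rw [← Module.End.mul_apply, ← map_mul, ← gEl_mul (hxG a) (hxG b), h.X_add hp]
  rw [hA (aOp ρ T i v), hA v, map_sum]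
  simp only [map_sum]
  rw [Finset.sum_comm, ← Finset.add_sum_erase _ _ (Finset.mem_univ (0 : F))]
  have h0 : ∑ a : F, x a (n (x 0 (n v))) = 0 := by
    have e0 : x 0 = 1 := by simp only [hx]; rw [h.X_zero hp, gEl_one, map_one]
    have hnn : gEl D (nS D F i) * gEl D (nS D F i) ∈ Tor D F := by
      rw [← gEl_mul hnG hnG]; exact h.gEl_mem_Tor (h.nS_mul_self hi)
    obtain ⟨c, hc⟩ := hv.2 _ hnn
    rw [e0, Module.End.one_apply, hn, ← Module.End.mul_apply, ← map_mul, hc]
    simp only [hx, map_smul, hv.1 _ (hxU _)]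
    rw [Finset.sum_const, Finset.card_univ, ← Nat.cast_smul_eq_nsmul k, hq, zero_smul]
  rw [h0, zero_add, Finset.sum_smul]
  refine Finset.sum_congr rfl fun b hb => ?_
  have hb0 : b ≠ 0 := (Finset.mem_erase.1 hb).1
  have hhU := h.hU_mem (F := F) hp (neg_ne_zero.2 hb0)
  have hhG := h.diagonal_le_group hhU
  have hyG : X D (T.neg (T.simple i)) b⁻¹ ∈ D.group F :=
    h.negUnipotent_le_group (h.X_neg_simple_mem hi _)
  have hη : (T.eta i (T.simple i) : F) ≠ 0 := by
    rcases T.eta_cases i (T.simple i) with e | e <;> simp [e]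
  have hyn : ρ (gEl D (X D (T.neg (T.simple i)) b⁻¹)) (n v) = n v := by
    have e := h.nS_conj_X (F := F) hi hp ((T.eta i (T.simple i) : F)⁻¹ * b⁻¹)
    rw [h.refl_simple hi, mul_inv_cancel_left₀ hη] at e
    rw [← e, hn, ← Module.End.mul_apply, ← map_mul, gEl_mul (mul_mem hnG (hxG _)) (inv_mem hnG),
      gEl_mul hnG (hxG _), gEl_inv hnG, inv_mul_cancel_right, map_mul, Module.End.mul_apply,
      hv.1 _ (hxU _)]
  obtain ⟨b', hb'⟩ : ∃ b', gEl D ((hU D (T.simple i) (-b))⁻¹) * gEl D (X D (T.simple i) (-b)) =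
      gEl D (X D (T.simple i) b') * gEl D ((hU D (T.simple i) (-b))⁻¹) := by
    obtain ⟨c, -, ec⟩ := h.Maps_diagonal (inv_mem hhU) hp
    refine ⟨c * -b, ?_⟩
    rw [← gEl_mul (inv_mem hhG) (hxG _), ← gEl_mul (hxG _) (inv_mem hhG), ← ec (-b)]
    congr 1
    group
  have hinner : n (x b (n v)) = κ b • x b' (n v) := by
    simp only [hx]
    conv_lhs => rw [hn, ← Module.End.mul_apply, ← map_mul, ← gEl_mul hnG (hxG _), h.nS_mul_X hi b,
      gEl_mul (mul_mem (inv_mem hhG) (hxG _)) hyG, gEl_mul (inv_mem hhG) (hxG _), map_mul,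
      Module.End.mul_apply, ← hn, hyn, hb', map_mul, Module.End.mul_apply, hn,
      ← Module.End.mul_apply (ρ (gEl D (hU D (T.simple i) (-b))⁻¹)), ← map_mul, gEl_inv hhG,
      show (gEl D (hU D (T.simple i) (-b)))⁻¹ * gEl D (nS D F i) = gEl D (nS D F i) *
        ((gEl D (nS D F i))⁻¹ * (gEl D (hU D (T.simple i) (-b)))⁻¹ * gEl D (nS D F i)) by group,
      map_mul, Module.End.mul_apply, hκ b hb0, map_smul, map_smul]
  rw [Finset.sum_congr rfl fun a _ => by rw [hinner, map_smul, hxadd], ← Finset.smul_sum]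
  congr 1
  exact Fintype.sum_equiv (Equiv.addRight b') _ _ fun a => rfl

/-- Every invariant subspace has an eigenvector of all the operators. -/
theorem exists_eigen [IsAlgClosed k] [FiniteDimensional k V] (hq : (Fintype.card F : k) = 0)
    {p : ℕ} [Fact p.Prime] [CharP k p] (hU : IsPGroup p (Upos D F)) {W : Submodule k V}
    (hW : ∀ g, ∀ v ∈ W, ρ g v ∈ W) (hW0 : W ≠ ⊥) :
    ∃ v ∈ W, v ≠ 0 ∧ IsWeightVec ρ v ∧ ∀ i < T.l, ∃ μ : k, aOp ρ T i v = μ • v := by
  classical
  -- a weight vector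
  let P : Submodule k V → Prop := fun E => E ≠ ⊥ ∧ E ≤ W ∧ (∀ t ∈ Tor D F, ∀ v ∈ E, ρ t v ∈ E) ∧
    ∀ v ∈ E, ∀ u ∈ Upos D F, ρ u v = v
  have hP₀ : ∃ n, ∃ E, P E ∧ Module.finrank k E = n := by
    obtain ⟨v, hv, hv0⟩ := Submodule.exists_mem_ne_zero_of_ne_bot hW0
    obtain ⟨w, hw, hw0, hfix⟩ := DefectMod.exists_fixed ρ hU (fun g _ => hW g) hv hv0
    refine ⟨_, W ⊓ ⨅ u : ↥(Upos D F), LinearMap.ker (ρ (u : ↥(D.group F)) - 1),
      ⟨fun hb => hw0 ?_, inf_le_left, fun t ht v hv => ?_, fun v hv u hu => ?_⟩, rfl⟩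
    · have h1 : w ∈ W ⊓ ⨅ u : ↥(Upos D F), LinearMap.ker (ρ (u : ↥(D.group F)) - 1) :=
        ⟨hw, (Submodule.mem_iInf _).2 fun u => by simp [hfix _ u.2]⟩
      rw [hb, Submodule.mem_bot] at h1
      exact h1
    · refine ⟨hW t v hv.1, (Submodule.mem_iInf _).2 fun u => ?_⟩
      have h1 := h.tor_normalizes (inv_mem ht) u.2
      rw [inv_inv] at h1
      have h2 := (Submodule.mem_iInf _).1 hv.2 ⟨_, h1⟩
      simp only [LinearMap.mem_ker, LinearMap.sub_apply, Module.End.one_apply, sub_eq_zero] at h2 ⊢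
      rw [← Module.End.mul_apply, ← map_mul, show (u : ↥(D.group F)) * t =
        t * (t⁻¹ * u * t) by group, map_mul, Module.End.mul_apply, h2]
    · have h2 := (Submodule.mem_iInf _).1 hv.2 ⟨u, hu⟩
      simpa [sub_eq_zero] using h2
  obtain ⟨E, ⟨hE0, hEW, hEt, hEu⟩, hEn⟩ := Nat.find_spec hP₀
  have hscal : ∀ t ∈ Tor D F, ∃ c : k, ∀ v ∈ E, ρ t v = c • v := by
    intro t ht
    let f : Module.End k E := (ρ t).restrict (hEt t ht)
    have : Nontrivial E := Submodule.nontrivial_iff_ne_bot.2 hE0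
    obtain ⟨c, hc⟩ := Module.End.exists_eigenvalue f
    refine ⟨c, fun v hv => ?_⟩
    have hE' : E ⊓ LinearMap.ker (ρ t - c • 1) = E := by
      refine Submodule.eq_of_le_of_finrank_le inf_le_left ?_
      rw [hEn]
      refine Nat.find_min' hP₀ ⟨_, ⟨fun hb => ?_, inf_le_left.trans hEW, fun t' ht' w hw => ?_,
        fun w hw => hEu w hw.1⟩, rfl⟩
      · obtain ⟨w, hw⟩ := hc.exists_hasEigenvector
        refine hw.2 (Subtype.ext ?_)
        have h1 : (w : V) ∈ E ⊓ LinearMap.ker (ρ t - c • 1) := by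
          refine ⟨w.2, ?_⟩
          simp only [SetLike.mem_coe, LinearMap.mem_ker, LinearMap.sub_apply,
            LinearMap.smul_apply, Module.End.one_apply, sub_eq_zero]
          exact congrArg Subtype.val hw.apply_eq_smul
        rw [hb, Submodule.mem_bot] at h1
        exact h1
      · refine ⟨hEt t' ht' w hw.1, ?_⟩
        have h2 := hw.2
        simp only [SetLike.mem_coe, LinearMap.mem_ker, LinearMap.sub_apply, LinearMap.smul_apply,
          Module.End.one_apply, sub_eq_zero] at h2 ⊢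
        have hcomm : t * t' = t' * t := Subtype.ext (h.diagonal_comm
          (Subgroup.mem_subgroupOf.1 ht) (Subgroup.mem_subgroupOf.1 ht'))
        rw [← Module.End.mul_apply, ← map_mul, hcomm, map_mul, Module.End.mul_apply, h2, map_smul]
    have h1 : v ∈ E ⊓ LinearMap.ker (ρ t - c • 1) := hE'.symm ▸ hv
    simpa [sub_eq_zero] using h1.2
  obtain ⟨v₀, hv₀, hv₀0⟩ := Submodule.exists_mem_ne_zero_of_ne_bot hE0
  have hwt₀ : IsWeightVec ρ v₀ := ⟨hEu v₀ hv₀, fun t ht => (hscal t ht).imp fun c hc => hc v₀ hv₀⟩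
  -- the longest word not killing it
  obtain ⟨P', hB, hN, hS⟩ := h.exists_bnPair (F := F)
  have hexidx : ∀ s : P'.S, ∃ i < T.l, ((s : ↥(D.group F)) : GL D.Idx F) = nS D F i := fun s => by
    have h1 := s.2
    simp only [hS] at h1
    exact h1
  have hrepN : ∀ L : List P'.S, ((rep P' L : ↥(D.group F)) : GL D.Idx F) ∈ D.monomialSubgroup F :=
    fun L => by
      have h1 := rep_mem_N L
      rw [hN, Subgroup.mem_subgroupOf] at h1
      exact h1
  obtain ⟨w₁, hw₁⟩ := Finite.exists_max (fun w : CfsgLib.BN.Weyl P' => len (CfsgLib.BN.gen P') w)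
  let Good : ℕ → Prop := fun n => ∃ L : List P'.S, IsRed (CfsgLib.BN.gen P') L ∧ L.length = n ∧
    orbSum ρ (rep P' L) v₀ ≠ 0
  have hG0 : Good 0 := ⟨[], IsRed.nil, rfl, by
    rw [show rep P' ([] : List P'.S) = 1 from rfl, orbSum_one ρ hwt₀.1]; exact hv₀0⟩
  set N := Nat.findGreatest Good (len (CfsgLib.BN.gen P') w₁) with hNdef
  obtain ⟨L, hL, hLN, hLne⟩ : Good N := Nat.findGreatest_spec (Nat.zero_le _) hG0
  have hmax : ∀ n, N < n → ¬ Good n := by
    rintro n hn ⟨L', hL', rfl, hne⟩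
    have h1 : L'.length ≤ len (CfsgLib.BN.gen P') w₁ := hL' ▸ hw₁ (wprod _ L')
    exact Nat.findGreatest_is_greatest hn h1 ⟨L', hL', rfl, hne⟩
  set v := orbSum ρ (rep P' L) v₀ with hv
  refine ⟨v, ?_, hLne, h.isWeightVec_orbSum ρ hwt₀ (hrepN L), fun i hi => ?_⟩
  · rw [hv, orbSum, LinearMap.sum_apply]
    exact W.sum_mem fun q _ => hW _ _ (hEW hv₀)
  have hsS : gEl D (nS D F i) ∈ P'.S := by rw [hS]; exact ⟨i, hi, coe_gEl (h.nS_mem_group hi)⟩
  let s : P'.S := ⟨_, hsS⟩
  have hs : ((s : ↥(D.group F)) : GL D.Idx F) = nS D F i := coe_gEl (h.nS_mem_group hi)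
  have hcons : ∀ L : List P'.S, rep P' (s :: L) = (s : ↥(D.group F)) * rep P' L := fun L => by
    simp [rep]
  rcases lt_or_gt_of_ne (len_gen_mul_ne s (wprod (CfsgLib.BN.gen P') L)) with hlt | hgt
  · obtain ⟨L', hL', hw', hlen'⟩ := gens.exists_red (CfsgLib.BN.gen P' s * wprod (CfsgLib.BN.gen P') L)
    have hup : len (CfsgLib.BN.gen P') (wprod (CfsgLib.BN.gen P') L') ≤
        len (CfsgLib.BN.gen P') (CfsgLib.BN.gen P' s * wprod (CfsgLib.BN.gen P') L') := by
      rw [hw', gens.cancel_left]; omega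
    set v₁ := orbSum ρ (rep P' L') v₀ with hv₁
    have hA : aOp ρ T i v₁ = orbSum ρ (rep P' (s :: L')) v₀ := by
      rw [hcons]; exact h.aOp_orbSum ρ hB hwt₀.1 hi hs (hrepN L') (rep_mem_cell L') hup
    have he : (QuotientGroup.mk (⟨rep P' (s :: L'), rep_mem_N _⟩ : P'.N) : CfsgLib.BN.Weyl P') =
        QuotientGroup.mk ⟨rep P' L, rep_mem_N _⟩ := by
      rw [mk_rep, mk_rep, wprod_cons, hw', gens.cancel_left]
    have hd := mk_eq_mk.1 he
    have ht : (rep P' (s :: L'))⁻¹ * rep P' L ∈ Tor D F := by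
      rw [hB, Subgroup.mem_subgroupOf] at hd
      rw [Tor, Subgroup.mem_subgroupOf, ← h.borel_inf_monomial]
      exact Subgroup.mem_inf.2 ⟨hd, mul_mem (inv_mem (hrepN _)) (hrepN _)⟩
    obtain ⟨c, hc⟩ := hwt₀.2 _ ht
    have hvv : v = c • aOp ρ T i v₁ := by
      rw [hv, hA, show rep P' L = rep P' (s :: L') * ((rep P' (s :: L'))⁻¹ * rep P' L) by group,
        h.orbSum_mul_tor ρ hwt₀.1 _ ht, hc, map_smul]
    have hwt₁ := h.isWeightVec_orbSum ρ hwt₀ (hrepN L')
    rw [← hv₁] at hwt₁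
    choose! κ hκ using fun b (hb : b ≠ (0 : F)) => hwt₁.2 _ (h.conj_tor_mem
      (m := gEl D (nS D F i)) (by rw [coe_gEl (h.nS_mem_group hi)]; exact h.nS_mem_monomial hi)
      (inv_mem (h.gEl_mem_Tor (h.hU_mem (h.simple_lt hi) (neg_ne_zero.2 hb)))))
    refine ⟨∑ b ∈ Finset.univ.erase (0 : F), κ b, ?_⟩
    rw [hvv, map_smul, h.aOp_aOp ρ hq hwt₁ hi κ hκ, smul_comm]
  · refine ⟨0, ?_⟩
    rw [zero_smul, hv, h.aOp_orbSum ρ hB hwt₀.1 hi hs (hrepN L) (rep_mem_cell L) hgt.le, ← hcons]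
    by_contra hne
    have hr : IsRed (CfsgLib.BN.gen P') (s :: L) := by
      have h1 := gens.len_gen_mul_le s (wprod (CfsgLib.BN.gen P') L)
      unfold IsRed at hL ⊢
      rw [wprod_cons, List.length_cons]
      omega
    exact hmax (N + 1) (Nat.lt_succ_self N) ⟨s :: L, hr, by rw [List.length_cons, hLN], hne⟩

omit h in
/-- The vector of highest weight at the swapping element. -/
def IsSwapped (n₀ : GL D.Idx F) : Prop :=
  n₀ ∈ D.monomialSubgroup F ∧
    (∀ y ∈ D.negUnipotent F, n₀ * y * n₀⁻¹ ∈ D.posUnipotent F) ∧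
    (∀ y ∈ D.negUnipotent F, n₀⁻¹ * y * n₀ ∈ D.posUnipotent F) ∧
    ∀ i < T.l, ∃ j < T.l, ∃ t ∈ D.diagonalSubgroup F, nS D F i * n₀ = n₀ * nS D F j * t

/-- The translates of the swapped vector span an invariant subspace. -/
theorem swapped_invariant {n₀ : GL D.Idx F} (hn₀ : IsSwapped (T := T) n₀) {v : V}
    (hv : IsWeightVec ρ v) (hμ : ∀ i < T.l, ∃ μ : k, aOp ρ T i v = μ • v) :
    ∀ g, ∀ w ∈ tspan ρ (ρ (gEl D n₀) v), ρ g w ∈ tspan ρ (ρ (gEl D n₀) v) := by
  classical
  obtain ⟨hmono, hNU, hNU', hperm⟩ := hn₀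
  have h0G := h.monomial_le_group hmono
  set S := tspan ρ (ρ (gEl D n₀) v) with hS
  have hgenS : ∀ u ∈ Upos D F, ρ u (ρ (gEl D n₀) v) ∈ S := fun u hu =>
    Submodule.subset_span ⟨⟨u, hu⟩, rfl⟩
  refine h.tspan_invariant ρ (fun y hy => ?_) (fun t ht => ?_) (fun i hi => ?_)
  · have h1 : (gEl D n₀)⁻¹ * y * gEl D n₀ ∈ Upos D F := by
      rw [Upos, Subgroup.mem_subgroupOf]
      simp only [Subgroup.coe_mul, Subgroup.coe_inv, coe_gEl h0G]
      exact hNU' _ (Subgroup.mem_subgroupOf.1 hy)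
    rw [← Module.End.mul_apply, ← map_mul,
      show y * gEl D n₀ = gEl D n₀ * ((gEl D n₀)⁻¹ * y * gEl D n₀) by group, map_mul,
      Module.End.mul_apply, hv.1 _ h1]
  · obtain ⟨c, hc⟩ := hv.2 _ (h.conj_tor_mem (m := gEl D n₀) (by rw [coe_gEl h0G]; exact hmono) ht)
    refine ⟨c, ?_⟩
    rw [← Module.End.mul_apply, ← map_mul,
      show t * gEl D n₀ = gEl D n₀ * ((gEl D n₀)⁻¹ * t * gEl D n₀) by group, map_mul,
      Module.End.mul_apply, hc, map_smul]
  · obtain ⟨j, hj, t, ht, e⟩ := hperm i hi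
    have hjG := h.nS_mem_group (F := F) hj
    obtain ⟨c, hc⟩ := hv.2 _ (h.gEl_mem_Tor ht)
    have e' : gEl D (nS D F i) * gEl D n₀ = gEl D n₀ * gEl D (nS D F j) * gEl D t := by
      rw [← gEl_mul (h.nS_mem_group hi) h0G, e, gEl_mul (mul_mem h0G hjG) (h.diagonal_le_group ht),
        gEl_mul h0G hjG]
    rw [← Module.End.mul_apply, ← map_mul, e', map_mul, map_mul, Module.End.mul_apply,
      Module.End.mul_apply, hc, map_smul, map_smul]
    refine S.smul_mem _ ?_
    obtain ⟨μ, hμj⟩ := hμ j hj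
    have hxG : ∀ a, X D (T.simple j) a ∈ D.group F := fun a => h.X_mem_group (h.simple_lt hj) a
    have e2 : ρ (gEl D (nS D F j)) v = μ • v - ∑ a ∈ Finset.univ.erase (0 : F),
        ρ (gEl D (X D (T.simple j) a)) (ρ (gEl D (nS D F j)) v) := by
      rw [eq_sub_iff_add_eq, ← hμj, h.aOp_apply, ← Finset.add_sum_erase _ _ (Finset.mem_univ (0 : F)),
        h.X_zero (h.simple_lt hj), gEl_one, map_one, Module.End.one_apply]
    rw [e2, map_sub, map_smul, map_sum]
    have h00 := hgenS 1 (one_mem _)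
    rw [map_one, Module.End.one_apply] at h00
    refine S.sub_mem (S.smul_mem _ h00) (S.sum_mem fun a ha => ?_)
    have ha0 : a ≠ 0 := (Finset.mem_erase.1 ha).1
    have hhU := h.hU_mem (F := F) (h.simple_lt hj) (neg_ne_zero.2 ha0)
    have hyU := h.X_neg_simple_mem (F := F) hj a⁻¹
    have hyG := h.negUnipotent_le_group hyU
    -- `x n v` is a multiple of `y v`
    obtain ⟨κ, hκ⟩ := hv.2 _ (h.conj_tor_mem (m := gEl D (nS D F j))
      (by rw [coe_gEl hjG]; exact h.nS_mem_monomial hj) (h.gEl_mem_Tor hhU))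
    have hy : ρ (gEl D (X D (T.neg (T.simple j)) a⁻¹)) v =
        κ • ρ (gEl D (X D (T.simple j) a)) (ρ (gEl D (nS D F j)) v) := by
      rw [h.X_neg_simple_eq hj a⁻¹, inv_inv,
        gEl_mul (mul_mem (hxG a) (mul_mem (h.diagonal_le_group hhU) hjG)) (hxG a),
        gEl_mul (hxG a) (mul_mem (h.diagonal_le_group hhU) hjG),
        gEl_mul (h.diagonal_le_group hhU) hjG, map_mul, Module.End.mul_apply,
        hv.1 _ (h.gEl_mem_Upos (h.X_simple_mem_posUnipotent hj a)), map_mul, Module.End.mul_apply,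
        show gEl D (hU D (T.simple j) (-a)) * gEl D (nS D F j) = gEl D (nS D F j) *
          ((gEl D (nS D F j))⁻¹ * gEl D (hU D (T.simple j) (-a)) * gEl D (nS D F j)) by group,
        map_mul, Module.End.mul_apply, hκ, map_smul, map_smul]
    by_cases hv0 : v = 0
    · simp [hv0]
    have hκ0 : κ ≠ 0 := fun e0 => hv0 (by
      have h1 := congrArg (ρ ((gEl D (nS D F j))⁻¹ * gEl D (hU D (T.simple j) (-a)) *
        gEl D (nS D F j))⁻¹) hκ
      rwa [← Module.End.mul_apply, ← map_mul, inv_mul_cancel, map_one, Module.End.one_apply, e0,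
        zero_smul, map_zero] at h1)
    have e3 : ρ (gEl D (X D (T.simple j) a)) (ρ (gEl D (nS D F j)) v) =
        κ⁻¹ • ρ (gEl D (X D (T.neg (T.simple j)) a⁻¹)) v := by
      rw [hy, inv_smul_smul₀ hκ0]
    rw [e3, map_smul]
    refine S.smul_mem _ ?_
    rw [← Module.End.mul_apply, ← map_mul,
      show gEl D n₀ * gEl D (X D (T.neg (T.simple j)) a⁻¹) =
        (gEl D n₀ * gEl D (X D (T.neg (T.simple j)) a⁻¹) * (gEl D n₀)⁻¹) * gEl D n₀ by group,
      map_mul, Module.End.mul_apply]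
    refine hgenS _ ?_
    rw [Upos, Subgroup.mem_subgroupOf]
    simp only [Subgroup.coe_mul, Subgroup.coe_inv, coe_gEl h0G, coe_gEl hyG]
    exact hNU _ hyU

/-- In a large minimal invariant subspace the weight is trivial and every eigenvalue is `-1`. -/
theorem eigen_values (hq : (Fintype.card F : k) = 0) [FiniteDimensional k V] {W : Submodule k V}
    (hW : ∀ g, ∀ w ∈ W, ρ g w ∈ W)
    (hmin : ∀ W' : Submodule k V, W' ≤ W → W' ≠ ⊥ → (∀ g, ∀ w ∈ W', ρ g w ∈ W') → W' = W)
    (hlarge : Nat.card (Upos D F) ≤ Module.finrank k W) {n₀ : GL D.Idx F}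
    (hn₀ : IsSwapped (T := T) n₀) {v : V} (hvW : v ∈ W) (hv0 : v ≠ 0) (hv : IsWeightVec ρ v)
    (hμ : ∀ i < T.l, ∃ μ : k, aOp ρ T i v = μ • v) :
    (∀ t ∈ Tor D F, ρ t v = v) ∧ ∀ i < T.l, aOp ρ T i v = -v := by
  classical
  have h0G := h.monomial_le_group hn₀.1
  set z := ρ (gEl D n₀) v with hz
  have hinv := h.swapped_invariant ρ hn₀ hv hμ
  have hzS : z ∈ tspan ρ z := Submodule.subset_span ⟨1, by simp⟩
  have hz0 : z ≠ 0 := fun e => hv0 (by
    have h1 := congrArg (ρ (gEl D n₀)⁻¹) e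
    rwa [hz, ← Module.End.mul_apply, ← map_mul, inv_mul_cancel, map_one, Module.End.one_apply,
      map_zero] at h1)
  have hSW : tspan ρ z = W := by
    refine hmin _ ?_ ?_ hinv
    · rw [tspan, Submodule.span_le]; rintro _ ⟨u, rfl⟩; exact hW _ _ (hW _ _ hvW)
    · exact fun hb => hz0 (by rw [hb, Submodule.mem_bot] at hzS; exact hzS)
  have : Fintype ↥(Upos D F) := Fintype.ofFinite _
  have hli : LinearIndependent k fun u : ↥(Upos D F) => ρ (u : ↥(D.group F)) z := by
    rw [linearIndependent_iff_card_le_finrank_span]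
    show _ ≤ Module.finrank k (tspan ρ z)
    rwa [hSW, ← Nat.card_eq_fintype_card]
  -- no operator kills the vector
  have hμ0 : ∀ i < T.l, ∀ μ : k, aOp ρ T i v = μ • v → μ ≠ 0 := by
    intro i hi μ hμi e0
    rw [e0, zero_smul, h.aOp_apply] at hμi
    have hiG := h.nS_mem_group (F := F) hi
    have hg : ∀ a : F, n₀ * ((nS D F i)⁻¹ * X D (T.simple i) a * nS D F i) * n₀⁻¹ ∈
        D.posUnipotent F := fun a => hn₀.2.1 _ (h.nS_inv_conj_mem hi a)
    let g : F → ↥(Upos D F) := fun a => ⟨gEl D (n₀ * ((nS D F i)⁻¹ * X D (T.simple i) a *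
      nS D F i) * n₀⁻¹), h.gEl_mem_Upos (hg a)⟩
    have hginj : Function.Injective g := by
      intro a b e
      have e1 := congrArg (fun u : ↥(Upos D F) => ((u : ↥(D.group F)) : GL D.Idx F)) e
      simp only [g, coe_gEl (h.posUnipotent_le_group (hg _))] at e1
      have e2 : X D (T.simple i) a = X D (T.simple i) b := by
        simpa using e1
      have e3 : X D (T.simple i) (-a + b) = 1 := by
        rw [← h.X_add (h.simple_lt hi), ← e2, h.X_add (h.simple_lt hi), neg_add_cancel,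
          h.X_zero (h.simple_lt hi)]
      rw [h.X_eq_one_iff (h.simple_lt hi)] at e3
      exact neg_add_eq_zero.1 e3
    have hsum : ∑ a : F, ρ (g a : ↥(D.group F)) z = 0 := by
      have h1 := congrArg (fun w => ρ (gEl D n₀) (ρ (gEl D (nS D F i))⁻¹ w)) hμi
      simp only [map_sum, map_zero] at h1
      refine Eq.trans (Finset.sum_congr rfl fun a _ => ?_) h1
      simp only [hz, ← Module.End.mul_apply, ← map_mul]
      congr 2
      refine Subtype.ext ?_
      simp only [g, Subgroup.coe_mul, Subgroup.coe_inv, coe_gEl h0G, coe_gEl hiG,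
        coe_gEl (h.X_mem_group (h.simple_lt hi) a), coe_gEl (h.posUnipotent_le_group (hg a))]
      group
    exact one_ne_zero (linearIndependent_iff'.1 (hli.comp g hginj) Finset.univ (fun _ => 1)
      (by simpa using hsum) (0 : F) (Finset.mem_univ _))
  -- the weight
  choose! c hc using hv.2
  have hcu : ∀ t ∈ Tor D F, ∀ a : k, ρ t v = a • v → c t = a := fun t ht a ha =>
    smul_left_injective k hv0 ((hc t ht).symm.trans ha)
  have hcinv : ∀ i < T.l, ∀ t ∈ Tor D F,
      c ((gEl D (nS D F i))⁻¹ * t * gEl D (nS D F i)) = c t := by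
    intro i hi t ht
    obtain ⟨μ, hμi⟩ := hμ i hi
    have hm : ((gEl D (nS D F i) : ↥(D.group F)) : GL D.Idx F) ∈ D.monomialSubgroup F := by
      rw [coe_gEl (h.nS_mem_group hi)]; exact h.nS_mem_monomial hi
    have ht' := h.conj_tor_mem hm ht
    have h1 := h.tor_orbSum ρ hv.1 (gEl D (nS D F i)) ht ht'
    rw [hc _ ht', map_smul, ← h.aOp_eq_orbSum ρ hv.1 hi, hμi, map_smul, hc t ht, smul_smul,
      smul_smul] at h1
    have h2 := smul_left_injective k hv0 h1
    rw [mul_comm (c _) μ] at h2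
    exact (mul_left_cancel₀ (hμ0 i hi μ hμi) h2).symm
  have hone : ∀ i < T.l, ∀ b : F, b ≠ 0 → c (gEl D (hU D (T.simple i) b)) = 1 := by
    intro i hi
    have hp := h.simple_lt hi
    let ψ : Fˣ →* k :=
      { toFun := fun b => c (gEl D (hU D (T.simple i) (b : F)))
        map_one' := hcu _ (h.gEl_mem_Tor (h.hU_mem hp (Units.ne_zero _))) 1 (by
          rw [Units.val_one, h.hU_one hp, gEl_one, map_one, one_smul]; rfl)
        map_mul' := fun a b => hcu _ (h.gEl_mem_Tor (h.hU_mem hp (Units.ne_zero _))) _ (by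
          rw [Units.val_mul, ← h.hU_mul' hp a.ne_zero b.ne_zero,
            gEl_mul (h.diagonal_le_group (h.hU_mem hp a.ne_zero))
              (h.diagonal_le_group (h.hU_mem hp b.ne_zero)), map_mul, Module.End.mul_apply,
            hc _ (h.gEl_mem_Tor (h.hU_mem hp b.ne_zero)), map_smul,
            hc _ (h.gEl_mem_Tor (h.hU_mem hp a.ne_zero)), smul_smul, mul_comm]) }
    obtain ⟨μ, hμi⟩ := hμ i hi
    have hψ : ψ = 1 := by
      by_contra hne
      have hquad := h.aOp_aOp ρ hq hv hi (fun b => c (gEl D (hU D (T.simple i) (-b)))⁻¹)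
        (fun b hb => by
          have ht := inv_mem (h.gEl_mem_Tor (h.hU_mem (F := F) hp (neg_ne_zero.2 hb)))
          rw [← hcinv i hi _ ht]
          exact hc _ (h.conj_tor_mem (by rw [coe_gEl (h.nS_mem_group hi)]
                                         exact h.nS_mem_monomial hi) ht))
      rw [hμi, map_smul, hμi, smul_smul, smul_smul] at hquad
      have h2 := smul_left_injective k hv0 hquad
      refine mul_ne_zero (hμ0 i hi μ hμi) (hμ0 i hi μ hμi) (h2.trans ?_)
      have hsum : ∑ b ∈ Finset.univ.erase (0 : F), c (gEl D (hU D (T.simple i) (-b)))⁻¹ =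
          ∑ u : Fˣ, ψ u := by
        refine Finset.sum_bij (fun b hb => (Units.mk0 (-b) (neg_ne_zero.2 (Finset.mem_erase.1 hb).1))⁻¹)
          (fun _ _ => Finset.mem_univ _) (fun a _ b _ e => ?_) (fun u _ => ?_) fun b hb => ?_
        · simpa [Units.ext_iff] using e
        · exact ⟨-(u⁻¹ : Fˣ), by simp, by ext; simp⟩
        · show _ = c (gEl D (hU D (T.simple i) _))
          congr 1
          rw [← gEl_inv (h.diagonal_le_group (h.hU_mem hp (neg_ne_zero.2 (Finset.mem_erase.1 hb).1)))]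
          congr 1
          refine inv_eq_of_mul_eq_one_right ?_
          rw [h.hU_mul' hp (neg_ne_zero.2 (Finset.mem_erase.1 hb).1) (Units.ne_zero _)]
          simp only [Units.val_inv_eq_inv_val, Units.val_mk0]
          rw [mul_inv_cancel₀ (neg_ne_zero.2 (Finset.mem_erase.1 hb).1), h.hU_one hp]
      rw [hsum, sum_hom_units_eq_zero ψ hne, zero_mul]
    intro b hb
    exact DFunLike.congr_fun hψ (Units.mk0 b hb)
  have hfix : ∀ t ∈ Tor D F, ρ t v = v := by
    intro t ht
    let K : Subgroup ↥(D.group F) :=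
      { carrier := {g | ρ g v = v}
        one_mem' := by simp
        mul_mem' := fun {a b} ha hb => by
          show ρ (a * b) v = v
          rw [map_mul, Module.End.mul_apply, hb, ha]
        inv_mem' := fun {a} ha => by
          show ρ a⁻¹ v = v
          conv_lhs => rw [← ha, ← Module.End.mul_apply, ← map_mul, inv_mul_cancel, map_one,
            Module.End.one_apply] }
    have h1 : D.diagonalSubgroup F ≤ K.map (D.group F).subtype := by
      refine h.diagonal_le_closure.trans ((Subgroup.closure_le _).2 ?_)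
      rintro _ ⟨i, hi, b, hb, rfl⟩
      have hm := h.hU_mem (F := F) (h.simple_lt hi) hb
      refine ⟨gEl D (hU D (T.simple i) b), ?_, coe_gEl (h.diagonal_le_group hm)⟩
      show ρ _ v = v
      rw [hc _ (h.gEl_mem_Tor hm), hone i hi b hb, one_smul]
    obtain ⟨t', ht', e⟩ := h1 (Subgroup.mem_subgroupOf.1 ht)
    rw [← show t' = t from Subtype.ext e]
    exact ht'
  refine ⟨hfix, fun i hi => ?_⟩
  obtain ⟨μ, hμi⟩ := hμ i hi
  have hquad := h.aOp_aOp ρ hq hv hi (fun _ => 1) (fun b hb => by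
    rw [one_smul]
    exact hfix _ (h.conj_tor_mem (by rw [coe_gEl (h.nS_mem_group hi)]; exact h.nS_mem_monomial hi)
      (inv_mem (h.gEl_mem_Tor (h.hU_mem (h.simple_lt hi) (neg_ne_zero.2 hb))))))
  rw [hμi, map_smul, hμi, smul_smul, smul_smul] at hquad
  have h2 := smul_left_injective k hv0 hquad
  rw [Finset.sum_const, Finset.card_erase_of_mem (Finset.mem_univ _), Finset.card_univ,
    nsmul_eq_mul, mul_one, Nat.cast_sub Fintype.card_pos, hq, Nat.cast_one, zero_sub] at h2
  rw [hμi, mul_right_cancel₀ (hμ0 i hi μ hμi) h2, neg_one_smul]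

end Module

/-- Only one character has defect zero. -/
theorem defect_zero_unique [Fintype F] {p : ℕ} [hp : Fact p.Prime] [CharP F p]
    {χ ψ : Cfsg.IrrCharacter ↥(D.group F)}
    (hχ : DefectMod.IsDefectZero p (χ : ↥(D.group F) → ℂ))
    (hψ : DefectMod.IsDefectZero p (ψ : ↥(D.group F) → ℂ)) : χ = ψ := by
  classical
  by_contra hne
  have : Fintype ↥(D.group F) := Fintype.ofFinite _
  obtain ⟨k, _, _, _, e, f, W, W', hW, hW', hker⟩ := DefectMod.exists_two hne hχ hψ
  obtain ⟨m, -, hcard⟩ := FiniteField.card F p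
  have hq : (Fintype.card F : k) = 0 := by
    rw [hcard, Nat.cast_pow, CharP.cast_eq_zero, zero_pow m.pos.ne']
  have hcU : Nat.card (Upos D F) = Fintype.card F ^ T.half := by
    rw [Upos, Nat.card_congr (Subgroup.subgroupOfEquivOfLe h.posUnipotent_le_group).toEquiv,
      h.card_posUnipotent]
  have hU : IsPGroup p (Upos D F) := IsPGroup.of_card (n := (m : ℕ) * T.half) (by
    rw [hcU, hcard, ← pow_mul])
  set ρ := DefectMod.lreg k (G := ↥(D.group F)) with hρ
  obtain ⟨n₀, hmono, -, hNU, hNU', hperm⟩ := h.exists_swap (F := F)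
  have hn₀ : IsSwapped (T := T) n₀ := ⟨hmono, hNU, hNU', hperm⟩
  obtain ⟨v, hvW, hv0, hv, hμ⟩ := h.exists_eigen ρ hq hU hW.invariant hW.ne_bot
  obtain ⟨v', hvW', hv0', hv', hμ'⟩ := h.exists_eigen ρ hq hU hW'.invariant hW'.ne_bot
  obtain ⟨ht, hA⟩ := h.eigen_values ρ hq hW.invariant hW.minimal (hW.large _ hU) hn₀ hvW hv0 hv hμ
  obtain ⟨ht', hA'⟩ := h.eigen_values ρ hq hW'.invariant hW'.minimal (hW'.large _ hU) hn₀ hvW' hv0'
    hv' hμ'
  have hsum : IsWeightVec ρ (v + v') := ⟨fun u hu => by rw [map_add, hv.1 u hu, hv'.1 u hu],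
    fun t h' => ⟨1, by rw [map_add, ht t h', ht' t h', one_smul]⟩⟩
  have hinv := h.swapped_invariant ρ hn₀ hsum fun i hi =>
    ⟨-1, by rw [map_add, hA i hi, hA' i hi, neg_one_smul, neg_add]⟩
  set S := tspan ρ (ρ (gEl D n₀) (v + v')) with hS
  have hzS : ρ (gEl D n₀) (v + v') ∈ S := Submodule.subset_span ⟨1, by simp⟩
  have hz1 : ρ (gEl D n₀) v ∈ W := hW.invariant _ _ hvW
  have hz2 : ρ (gEl D n₀) v' ∈ W' := hW'.invariant _ _ hvW'
  have hne0 : ∀ w, ρ (gEl D n₀) w = 0 → w = 0 := fun w e0 => by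
    have h1 := congrArg (ρ (gEl D n₀)⁻¹) e0
    rwa [← Module.End.mul_apply, ← map_mul, inv_mul_cancel, map_one, Module.End.one_apply,
      map_zero] at h1
  have h1 : ρ (gEl D n₀) v ∈ S := by
    have h2 := DefectMod.act_mem (e := e) hinv hzS
    rwa [map_add (ρ (gEl D n₀)), map_add, hW.act_id _ hz1, hker _ hz2, add_zero] at h2
  have h2 : ρ (gEl D n₀) v' ∈ S := by
    have := S.sub_mem hzS h1
    rwa [map_add, add_sub_cancel_left] at this
  have hWS : ∀ (W₀ : Submodule k _) (w : ↥(D.group F) → k),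
      (∀ W'' : Submodule k _, W'' ≤ W₀ → W'' ≠ ⊥ →
        (∀ g, ∀ x ∈ W'', ρ g x ∈ W'') → W'' = W₀) → (∀ g, ∀ x ∈ W₀, ρ g x ∈ W₀) →
      w ∈ W₀ → w ∈ S → w ≠ 0 → W₀ ≤ S := by
    intro W₀ w hmin hinv₀ hw hwS hw0
    have h3 := hmin (W₀ ⊓ S) inf_le_left (fun hb => hw0 (by
      have : w ∈ W₀ ⊓ S := ⟨hw, hwS⟩
      rwa [hb, Submodule.mem_bot] at this)) fun g x hx => ⟨hinv₀ g x hx.1, hinv g x hx.2⟩
    exact h3 ▸ inf_le_right
  have hle : W ⊔ W' ≤ S := sup_le
    (hWS W _ hW.minimal hW.invariant hz1 h1 fun e0 => hv0 (hne0 _ e0))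
    (hWS W' _ hW'.minimal hW'.invariant hz2 h2 fun e0 => hv0' (hne0 _ e0))
  have hdisj : W ⊓ W' = ⊥ := (Submodule.eq_bot_iff _).2 fun x hx => by
    rw [← hW.act_id x hx.1, hker x hx.2]
  have hdim := Submodule.finrank_sup_add_finrank_inf_eq W W'
  rw [hdisj, finrank_bot, add_zero] at hdim
  have hSle : Module.finrank k S ≤ Nat.card (Upos D F) := by
    have : Fintype ↥(Upos D F) := Fintype.ofFinite _
    rw [Nat.card_eq_fintype_card]
    exact finrank_range_le_card _
  have := Submodule.finrank_mono hle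
  have := hW.large _ hU
  have := hW'.large _ hU
  have : 0 < Nat.card (Upos D F) := Nat.card_pos
  omega

end Cert

end CfsgLib.Chev
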