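import Cfsg.Agent.Lib.Chev.Comm

/-!
Linear functions on the roots with the signs of the coroot coefficients.
-/

set_option autoImplicit false

namespace CfsgLib.Chev

open Cfsg.Lie

namespace Cert

variable {D : ChevalleyDatum} {T : Tab} {C : Tab.Cover} (h : Cert D T C)

/-- A linear function of the roots with the sign of the `k`-th coroot coefficient. -/
noncomputable def wt (k r : ℕ) : ℤ := T.weight h.weightOk.choose k r

include h

lemma wt_eq_sum (k r : ℕ) :
    h.wt k r = ∑ j ∈ Finset.range T.l, (h.weightOk.choose.getD k []).getD j 0 * T.car j r := rfl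

lemma wt_sign {k r : ℕ} (hk : k < T.l) (hr : r < T.n) : (h.wt k r).sign = (T.cor r k).sign := by
  have h0 := h.weightOk.choose_spec
  unfold Cert.wt at *
  generalize h.weightOk.choose = B at *
  simp only [Tab.chkWeight, List.all_eq_true, List.mem_range, Bool.and_eq_true,
    decide_eq_true_eq] at h0
  exact (h0 r hr).1 k hk

lemma wt_eq_zero_iff {k r : ℕ} (hk : k < T.l) (hr : r < T.n) : h.wt k r = 0 ↔ T.cor r k = 0 := by
  rw [← Int.sign_eq_zero_iff_zero, h.wt_sign hk hr, Int.sign_eq_zero_iff_zero]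

lemma wt_nonneg {k r : ℕ} (hk : k < T.l) (hr : r < T.n) (hh : T.half ≤ r) : 0 ≤ h.wt k r := by
  rw [← Int.sign_nonneg_iff, h.wt_sign hk hr, Int.sign_nonneg_iff]
  exact (h.root_spec hr hk).1 hh

lemma wt_nonpos {k r : ℕ} (hk : k < T.l) (hr : r < T.n) (hh : r < T.half) : h.wt k r ≤ 0 := by
  have h1 := (h.root_spec hr hk).2.1 hh
  have h2 := h.wt_sign hk hr
  rcases lt_trichotomy (h.wt k r) 0 with a | a | a
  · exact a.le
  · exact a.le
  · rw [Int.sign_eq_one_of_pos a] at h2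
    have := Int.sign_eq_one_iff_pos.1 h2.symm
    omega

/-- A root with a positive weight is positive. -/
lemma pos_of_wt_pos {k r : ℕ} (hk : k < T.l) (hr : r < T.n) (hp : 0 < h.wt k r) : T.half ≤ r :=
  not_lt.1 fun hh => absurd (h.wt_nonpos hk hr hh) (not_le.2 hp)

lemma neg_of_wt_neg {k r : ℕ} (hk : k < T.l) (hr : r < T.n) (hp : h.wt k r < 0) : r < T.half :=
  not_le.1 fun hh => absurd (h.wt_nonneg hk hr hh) (not_le.2 hp)

lemma exists_wt_ne {r : ℕ} (hr : r < T.n) : ∃ k < T.l, h.wt k r ≠ 0 := by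
  obtain ⟨k, hk, hne⟩ := h.exists_cor_ne hr
  exact ⟨k, hk, fun e => hne ((h.wt_eq_zero_iff hk hr).1 e)⟩

lemma wt_simple {i k : ℕ} (hi : i < T.l) (hk : k < T.l) :
    if i = k then 0 < h.wt k (T.simple i) else h.wt k (T.simple i) = 0 := by
  have h1 := (h.simple_spec hi).2.2.2 k hk
  split_ifs with e
  · rw [if_pos e] at h1
    have h2 := h.wt_sign hk (h.simple_lt hi)
    rw [h1] at h2
    exact Int.sign_eq_one_iff_pos.1 h2
  · rw [if_neg e] at h1
    exact (h.wt_eq_zero_iff hk (h.simple_lt hi)).2 h1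

lemma wt_simple_of_ne {i k : ℕ} (hi : i < T.l) (hk : k < T.l) (hne : i ≠ k) :
    h.wt k (T.simple i) = 0 := by
  have := h.wt_simple hi hk
  rwa [if_neg hne] at this

lemma exists_wt_pos_of_ne_simple {r i : ℕ} (hh : T.half ≤ r) (hr : r < T.n) (hi : i < T.l)
    (hne : r ≠ T.simple i) : ∃ k < T.l, k ≠ i ∧ 0 < h.wt k r := by
  have h0 := h.weightOk.choose_spec
  simp only [Tab.chkWeight, List.all_eq_true, List.any_eq_true, List.mem_range, Bool.and_eq_true,
    Bool.or_eq_true, decide_eq_true_eq] at h0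
  rcases (h0 r hr).2 with e | e
  · omega
  rcases e i hi with e | ⟨k, hk, hki, hc⟩
  · exact absurd e.symm hne
  · refine ⟨k, hk, hki, lt_of_le_of_ne (h.wt_nonneg hk hr hh) fun e => hc ?_⟩
    exact (h.wt_eq_zero_iff hk hr).1 e.symm

lemma wt_neg {r : ℕ} (hr : r < T.n) (k : ℕ) : h.wt k (T.neg r) = -h.wt k r := by
  simp only [h.wt_eq_sum, ← Finset.sum_neg_distrib]
  exact Finset.sum_congr rfl fun j hj => by
    rw [(h.root_spec hr (Finset.mem_range.1 hj)).2.2.2, mul_neg]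

lemma wt_refl {i s : ℕ} (hi : i < T.l) (hs : s < T.n) (k : ℕ) :
    h.wt k (T.refl i s) = h.wt k s - T.car i s * h.wt k (T.simple i) := by
  simp only [h.wt_eq_sum, Finset.mul_sum, ← Finset.sum_sub_distrib]
  refine Finset.sum_congr rfl fun j hj => ?_
  rw [(h.refl_spec hi hs).2.2.2.2.2.2.2.1 j (Finset.mem_range.1 hj)]
  ring

lemma wt_lin {r s : ℕ} (hr : r < T.n) (hs : s < T.n) {q : (ℕ × ℤ) × ℕ}
    (hq : q ∈ (T.entry r s).zipIdx 1) (k : ℕ) :
    h.wt k q.1.1 = h.wt k s + q.2 * h.wt k r := by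
  simp only [h.wt_eq_sum, Finset.mul_sum, ← Finset.sum_add_distrib]
  refine Finset.sum_congr rfl fun j hj => ?_
  rw [h.lin_spec hr hs hq (Finset.mem_range.1 hj)]
  ring

lemma wt_chainRoot {r s i u : ℕ} (hr : r < T.n) (hs : s < T.n) (hi : 1 ≤ i)
    (e : T.chainRoot r s i = some u) (k : ℕ) : h.wt k u = h.wt k s + i * h.wt k r := by
  simp only [Tab.chainRoot, Option.map_eq_some_iff] at e
  obtain ⟨a, ha, rfl⟩ := e
  have hq : ((a.1, a.2), i) ∈ (T.entry r s).zipIdx 1 :=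
    List.mk_mem_zipIdx_iff_le_and_getElem?_sub.2 ⟨hi, ha⟩
  exact h.wt_lin hr hs hq k

/-- The roots of the commutator formula are positive combinations. -/
lemma commTerms_wt {r s : ℕ} (hr : r < T.n) (hs : s < T.n) {q : ℕ × ℤ × ℕ × ℕ}
    (hq : q ∈ T.commTerms r s) :
    ∃ a b : ℕ, 0 < a ∧ 0 < b ∧ ∀ k, h.wt k q.1 = a * h.wt k r + b * h.wt k s := by
  rcases T.mem_commTerms hq with e | e | e | e | e | ⟨m, e, e'⟩ | ⟨m, e, e'⟩
  · refine ⟨1, 1, one_pos, one_pos, fun k => ?_⟩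
    rw [h.wt_chainRoot hr hs le_rfl e]; ring
  · refine ⟨2, 1, two_pos, one_pos, fun k => ?_⟩
    rw [h.wt_chainRoot hr hs (by omega) e]; ring
  · refine ⟨1, 2, one_pos, two_pos, fun k => ?_⟩
    rw [h.wt_chainRoot hs hr (by omega) e]; ring
  · refine ⟨3, 1, by omega, one_pos, fun k => ?_⟩
    rw [h.wt_chainRoot hr hs (by omega) e]; ring
  · refine ⟨1, 3, one_pos, by omega, fun k => ?_⟩
    rw [h.wt_chainRoot hs hr (by omega) e]; ring
  · refine ⟨3, 2, by omega, two_pos, fun k => ?_⟩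
    rw [h.wt_chainRoot (h.chainRoot_lt hr hs e) hs le_rfl e', h.wt_chainRoot hr hs (by omega) e]
    push_cast; ring
  · refine ⟨2, 3, two_pos, by omega, fun k => ?_⟩
    rw [h.wt_chainRoot (h.chainRoot_lt hs hr e) hr le_rfl e', h.wt_chainRoot hs hr (by omega) e]
    push_cast; ring

lemma inRootSub_iff {J : Set ℕ} {r : ℕ} :
    D.InRootSub J r ↔ r < T.n ∧ ∀ i < T.l, i ∉ J → h.wt i r = 0 := by
  unfold ChevalleyDatum.InRootSub
  rw [h.nroots_eq]
  refine and_congr_right fun hr => ?_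
  constructor
  · intro hc i hi hJ
    have := hc i (lt_of_lt_of_eq hi h.rank_eq.symm) hJ
    rw [h.agrees.cor_eq hr hi] at this
    exact (h.wt_eq_zero_iff hi hr).2 this
  · intro hc i hi hJ
    have hi' : i < T.l := lt_of_lt_of_eq hi h.rank_eq
    rw [h.agrees.cor_eq hr hi']
    exact (h.wt_eq_zero_iff hi' hr).1 (hc i hi' hJ)

/-- `±p` and another positive root produce positive roots other than `p`. -/
lemma commTerms_simple {i r s : ℕ} (hi : i < T.l) (hr : r < T.n)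
    (hrp : ∀ k < T.l, k ≠ i → h.wt k r = 0) (hh : T.half ≤ s) (hs : s < T.n)
    (hne : s ≠ T.simple i) {q : ℕ × ℤ × ℕ × ℕ} (hq : q ∈ T.commTerms r s) :
    T.half ≤ q.1 ∧ q.1 < T.n ∧ q.1 ≠ T.simple i := by
  obtain ⟨k, hk, hki, hpos⟩ := h.exists_wt_pos_of_ne_simple hh hs hi hne
  obtain ⟨a, b, -, hb, he⟩ := h.commTerms_wt hr hs hq
  have hlt := h.commTerms_lt hr hs hq
  have hq' : 0 < h.wt k q.1 := by
    rw [he k, hrp k hk hki, mul_zero, zero_add]
    exact mul_pos (by exact_mod_cast hb) hpos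
  refine ⟨h.pos_of_wt_pos hk hlt hq', hlt, fun e => ?_⟩
  rw [e, h.wt_simple_of_ne hi hk (Ne.symm hki)] at hq'
  exact lt_irrefl 0 hq'

lemma wt_simple_zero {i : ℕ} (hi : i < T.l) :
    (∀ k < T.l, k ≠ i → h.wt k (T.simple i) = 0) ∧
      ∀ k < T.l, k ≠ i → h.wt k (T.neg (T.simple i)) = 0 :=
  ⟨fun _ hk hne => h.wt_simple_of_ne hi hk (Ne.symm hne), fun _ hk hne => by
    rw [h.wt_neg (h.simple_lt hi), h.wt_simple_of_ne hi hk (Ne.symm hne), neg_zero]⟩

end Cert

end CfsgLib.Chev
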