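import Cfsg.Agent.Lib.Chev.Group
import Cfsg.Agent.Lib.Chev.Weight

/-!
The monomial subgroup and the Weyl group as permutations of the roots.
-/

set_option autoImplicit false

namespace CfsgLib.Chev

open Cfsg.Lie Matrix

/-- The action of a word in the simple reflections on the roots. -/
def rword (T : Tab) (w : List ℕ) (r : ℕ) : ℕ := w.foldr T.refl r

/-- The product of the `n_p` along a word. -/
noncomputable def nW (D : ChevalleyDatum) (F : Type*) [Field F] (w : List ℕ) : GL D.Idx F :=
  (w.map (nS D F)).prod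

/-- All letters are indices of simple roots. -/
def WordOK (T : Tab) (w : List ℕ) : Prop := ∀ i ∈ w, i < T.l

/-- Conjugation by `g` takes the root subgroup of `r` to that of `s`. -/
def Maps (D : ChevalleyDatum) {F : Type*} [Field F] (g : GL D.Idx F) (r s : ℕ) : Prop :=
  ∃ c : F, c ≠ 0 ∧ ∀ t, g * X D r t * g⁻¹ = X D s (c * t)

lemma rword_cons (T : Tab) (i : ℕ) (w : List ℕ) (r : ℕ) :
    rword T (i :: w) r = T.refl i (rword T w r) := rfl

lemma rword_append (T : Tab) (v w : List ℕ) (r : ℕ) :
    rword T (v ++ w) r = rword T v (rword T w r) := by simp [rword, List.foldr_append]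

lemma nW_append (D : ChevalleyDatum) (F : Type*) [Field F] (v w : List ℕ) :
    nW D F (v ++ w) = nW D F v * nW D F w := by simp [nW]

lemma nW_cons (D : ChevalleyDatum) (F : Type*) [Field F] (i : ℕ) (w : List ℕ) :
    nW D F (i :: w) = nS D F i * nW D F w := by simp [nW]

lemma WordOK.tail {T : Tab} {i : ℕ} {w : List ℕ} (hw : WordOK T (i :: w)) : WordOK T w :=
  fun j hj => hw j (List.mem_cons_of_mem _ hj)

lemma WordOK.head {T : Tab} {i : ℕ} {w : List ℕ} (hw : WordOK T (i :: w)) : i < T.l :=
  hw i List.mem_cons_self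

lemma WordOK.left {T : Tab} {v w : List ℕ} (hw : WordOK T (v ++ w)) : WordOK T v :=
  fun j hj => hw j (List.mem_append_left _ hj)

namespace Cert

variable {D : ChevalleyDatum} {T : Tab} {C : Tab.Cover} (h : Cert D T C)
include h

lemma rword_lt {w : List ℕ} (hw : WordOK T w) {r : ℕ} (hr : r < T.n) : rword T w r < T.n := by
  induction w with
  | nil => exact hr
  | cons i w ih => exact h.refl_lt hw.head (ih hw.tail)

lemma rword_neg {w : List ℕ} (hw : WordOK T w) {r : ℕ} (hr : r < T.n) :
    rword T w (T.neg r) = T.neg (rword T w r) := by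
  induction w with
  | nil => rfl
  | cons i w ih =>
    rw [rword_cons, rword_cons, ih hw.tail, (h.refl_spec hw.head (h.rword_lt hw.tail hr)).2.2.1]

lemma rword_reverse {w : List ℕ} (hw : WordOK T w) {r : ℕ} (hr : r < T.n) :
    rword T w (rword T w.reverse r) = r := by
  induction w generalizing r with
  | nil => rfl
  | cons i w ih =>
    rw [List.reverse_cons, rword_append, rword_cons, show rword T [i] r = T.refl i r from rfl,
      ih hw.tail (h.refl_lt hw.head hr)]
    exact h.refl_refl hw.head hr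

lemma car_rword_refl {w : List ℕ} (hw : WordOK T w) {i r : ℕ} (hi : i < T.l) (hr : r < T.n)
    {m : ℕ} (hm : m < T.l) :
    T.car m (rword T w (T.refl i r)) =
      T.car m (rword T w r) - T.car i r * T.car m (rword T w (T.simple i)) := by
  induction w generalizing m with
  | nil => exact (h.refl_spec hi hr).2.2.2.2.2.2.2.1 m hm
  | cons j w ih =>
    have hj := hw.head
    simp only [rword_cons]
    rw [(h.refl_spec hj (h.rword_lt hw.tail (h.refl_lt hi hr))).2.2.2.2.2.2.2.1 m hm,
      (h.refl_spec hj (h.rword_lt hw.tail hr)).2.2.2.2.2.2.2.1 m hm,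
      (h.refl_spec hj (h.rword_lt hw.tail (h.simple_lt hi))).2.2.2.2.2.2.2.1 m hm,
      ih hw.tail hm, ih hw.tail hj]
    ring

lemma wt_rword_refl {w : List ℕ} (hw : WordOK T w) {i r : ℕ} (hi : i < T.l) (hr : r < T.n)
    (k : ℕ) : h.wt k (rword T w (T.refl i r)) =
      h.wt k (rword T w r) - T.car i r * h.wt k (rword T w (T.simple i)) := by
  simp only [h.wt_eq_sum, Finset.mul_sum, ← Finset.sum_sub_distrib]
  refine Finset.sum_congr rfl fun j hj => ?_
  rw [h.car_rword_refl hw hi hr (Finset.mem_range.1 hj)]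
  ring

/-- A positive root which is not simple is lowered by some simple reflection. -/
lemma exists_lower {r : ℕ} (hh : T.half ≤ r) (hr : r < T.n) :
    (∃ i < T.l, T.simple i = r) ∨
      ∃ i < T.l, T.half ≤ T.refl i r ∧ T.refl i r < r ∧ 0 < T.car i r := by
  by_contra hne
  push Not at hne
  obtain ⟨hs, hd⟩ := hne
  have h1 := allBelow_eq_true h.descOk r hr
  rw [Nat.ble_eq_true_of_le hh, cond_true, Bool.not_eq_true'] at h1
  refine Bool.false_ne_true (h1.symm.trans (allBelow_of_forall fun i hi => ?_))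
  rw [force_eq, T.reflF_eq]
  cases e1 : Nat.beq (Tab.field 8 T.simpleP i) r
  · rw [cond_false]
    cases e2 : Nat.ble T.half (T.refl i r)
    · rfl
    · rw [cond_true]
      cases e3 : Nat.blt (T.refl i r) r
      · rfl
      · exfalso
        have hle := Nat.le_of_ble_eq_true e2
        have hlt : T.refl i r < r := Nat.le_of_ble_eq_true e3
        have hcar := hd i hi hle hlt
        have e := h.refl_eq_reflCalc hi hr
        obtain ⟨hp, hp', -, -⟩ := h.simple_spec hi
        have hrp : r ≠ T.simple i := fun e' => hs i hi e'.symm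
        have hrn : r ≠ T.neg (T.simple i) := fun e' => by
          have := (h.half_le_neg_iff hp').1 (e' ▸ hh); omega
        simp only [Tab.reflCalc, if_neg hrp, if_neg hrn, if_neg (not_lt.2 hcar)] at e
        split at e
        · cases e0 : T.chainRoot (T.simple i) r (-T.car i r).toNat with
          | none => rw [e0, Option.getD_none] at e; omega
          | some u =>
            rw [e0, Option.getD_some] at e
            obtain ⟨m, hm⟩ := chainRoot_mem (T := T) e0
            obtain ⟨-, h2, -⟩ := (h.chain_spec hp' hr (List.ne_nil_of_mem hm)).2.2.2 _ hm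
            have := (h2 hp).1
            simp only at this
            omega
        · omega
  · exact absurd (Nat.eq_of_beq_eq_true e1) (hs i hi)

/-- A word sending every simple root to a negative root sends every positive root to one. -/
lemma rword_neg_of_simple {w : List ℕ} (hw : WordOK T w)
    (hs : ∀ i < T.l, rword T w (T.simple i) < T.half) {r : ℕ} (hh : T.half ≤ r) (hr : r < T.n) :
    rword T w r < T.half := by
  suffices ∀ k < T.l, h.wt k (rword T w r) ≤ 0 by
    obtain ⟨k, hk, hne⟩ := h.exists_wt_ne (h.rword_lt hw hr)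
    exact h.neg_of_wt_neg hk (h.rword_lt hw hr) (lt_of_le_of_ne (this k hk) hne)
  induction r using Nat.strong_induction_on with
  | _ r ih =>
    intro k hk
    rcases h.exists_lower hh hr with ⟨i, hi, rfl⟩ | ⟨i, hi, hpos, hlt, hcar⟩
    · exact h.wt_nonpos hk (h.rword_lt hw hr) (hs i hi)
    · have e := h.wt_rword_refl hw hi (h.refl_lt hi hr) k
      rw [h.refl_refl hi hr, h.car_refl hi hr] at e
      have h1 := ih _ hlt hpos (h.refl_lt hi hr) k hk
      have h2 := h.wt_nonpos hk (h.rword_lt hw (h.simple_lt hi)) (hs i hi)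
      rw [e]
      nlinarith

variable {F : Type*} [Field F]

lemma root_eq_of_X_eq {r s : ℕ} (hr : r < T.n) (hs : s < T.n) {a b : F} (ha : a ≠ 0)
    (e : X D r a = X D s b) : r = s := by
  by_contra hne
  refine ha (h.eq_zero_of_cor_mul hr fun i hi => ?_)
  have hn := h.nroots_eq
  have hlt := neg_lt (T := T) hr
  have h1 := congrArg (fun g : GL D.Idx F => (g : Matrix D.Idx D.Idx F)
    (Sum.inl ⟨i, lt_of_lt_of_eq hi h.rank_eq.symm⟩) (Sum.inr ⟨T.neg r, by omega⟩)) e
  simp only [h.coe_X, h.x_inl_inr hr, h.x_inl_inr hs, if_true] at h1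
  rw [h1, if_neg]
  intro e'
  exact hne (by rw [← neg_neg (T := T) hr, e', neg_neg (T := T) hs])

lemma Maps_unique {g : GL D.Idx F} {r s s' : ℕ} (hs : s < T.n) (hs' : s' < T.n)
    (h1 : Maps D g r s) (h2 : Maps D g r s') : s = s' := by
  obtain ⟨c, hc, e⟩ := h1
  obtain ⟨c', -, e'⟩ := h2
  exact h.root_eq_of_X_eq hs hs' (a := c * 1) (by simpa using hc) ((e 1).symm.trans (e' 1))

omit h in
lemma Maps_mul {g g' : GL D.Idx F} {r s u : ℕ} (h1 : Maps D g' r s) (h2 : Maps D g s u) :
    Maps D (g * g') r u := by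
  obtain ⟨c, hc, e⟩ := h1
  obtain ⟨c', hc', e'⟩ := h2
  refine ⟨c' * c, mul_ne_zero hc' hc, fun t => ?_⟩
  rw [show g * g' * X D r t * (g * g')⁻¹ = g * (g' * X D r t * g'⁻¹) * g⁻¹ by group, e, e',
    mul_assoc]

omit h in
lemma Maps_inv {g : GL D.Idx F} {r s : ℕ} (h1 : Maps D g r s) : Maps D g⁻¹ s r := by
  obtain ⟨c, hc, e⟩ := h1
  refine ⟨c⁻¹, inv_ne_zero hc, fun t => ?_⟩
  have := e (c⁻¹ * t)
  rw [mul_inv_cancel_left₀ hc] at this
  rw [← this]; group

lemma Maps_diagonal {g : GL D.Idx F} (hg : g ∈ D.diagonalSubgroup F) {r : ℕ} (hr : r < T.n) :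
    Maps D g r r := by
  obtain ⟨c, hc, e⟩ := h.mem_diagonalSubgroup_iff.1 hg
  refine ⟨charOf T c r, charOf_ne_zero hc r, fun t => ?_⟩
  rw [mul_inv_eq_iff_eq_mul]
  refine Units.ext ?_
  rw [Units.val_mul, Units.val_mul, h.coe_X, h.coe_X, e, h.torus_mul_x (h.isChar_charOf hc) hr]

lemma Maps_nS {i r : ℕ} (hi : i < T.l) (hr : r < T.n) : Maps D (nS D F i) r (T.refl i r) :=
  ⟨(T.eta i r : F), by rcases T.eta_cases i r with e | e <;> simp [e], h.nS_conj_X hi hr⟩

lemma Maps_nW {w : List ℕ} (hw : WordOK T w) {r : ℕ} (hr : r < T.n) :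
    Maps D (nW D F w) r (rword T w r) := by
  induction w with
  | nil => exact ⟨1, one_ne_zero, fun t => by simp [nW, rword]⟩
  | cons i w ih =>
    rw [nW_cons, rword_cons]
    exact Maps_mul (ih hw.tail) (h.Maps_nS hw.head (h.rword_lt hw.tail hr))

lemma nU_one_mul_neg_one {r : ℕ} (hr : r < T.n) : nU D r (1 : F) * nU D r (-1) = 1 := by
  refine Units.ext ?_
  show ((hU D r (1 : F) : GL D.Idx F) : Matrix D.Idx D.Idx F) = _
  rw [h.coe_hU, h.hMat_root hr one_ne_zero, Units.val_one, ← torus_one D]
  exact torus_congr D fun s _ => one_zpow _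

lemma nU_inv {r : ℕ} (hr : r < T.n) : (nU D r (1 : F))⁻¹ = nU D r (-1) :=
  inv_eq_of_mul_eq_one_right (h.nU_one_mul_neg_one hr)

lemma nS_mul_self {i : ℕ} (hi : i < T.l) :
    nS D F i * nS D F i ∈ D.diagonalSubgroup F := by
  have hp : D.simple i < T.n := by rw [h.simple_eq hi]; exact h.simple_lt hi
  have h2 : hU D (D.simple i) (-1 : F) ∈ D.diagonalSubgroup F :=
    h.hU_mem hp (neg_ne_zero.2 one_ne_zero)
  have e : hU D (D.simple i) (-1 : F) = (nS D F i * nS D F i)⁻¹ := by
    rw [_root_.mul_inv_rev, nS, h.nU_inv hp]; rfl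
  rw [e] at h2
  exact inv_mem_iff.1 h2

lemma nS_conj_diagonal {i : ℕ} (hi : i < T.l) {g : GL D.Idx F} (hg : g ∈ D.diagonalSubgroup F) :
    nS D F i * g * (nS D F i)⁻¹ ∈ D.diagonalSubgroup F := by
  induction hg using Subgroup.closure_induction with
  | mem g hg =>
    obtain ⟨r, t, hr, ht, e⟩ := hg
    rw [h.nroots_eq] at hr
    have : nS D F i * g * (nS D F i)⁻¹ = hU D (T.refl i r) t := by
      rw [mul_inv_eq_iff_eq_mul]
      refine Units.ext ?_
      rw [Units.val_mul, Units.val_mul, h.coe_nS, h.coe_hU, e, h.hMat_root hr ht,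
        h.hMat_root (h.refl_lt hi hr) ht, h.nMat_mul_torus hi]
      congr 1
      refine torus_congr D fun s hs => ?_
      rw [h.nroots_eq] at hs
      rw [← h.pairing_refl hi hr (h.refl_lt hi hs), h.refl_refl hi hs]
    rw [this]
    exact h.hU_mem (h.refl_lt hi hr) ht
  | one => simp
  | mul a b _ _ ha hb =>
    have := mul_mem ha hb
    simpa [mul_assoc] using this
  | inv a _ ha =>
    have := inv_mem ha
    simpa [mul_assoc] using this

lemma nS_mem_normalizer_diagonal {i : ℕ} (hi : i < T.l) :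
    nS D F i ∈ Subgroup.normalizer (D.diagonalSubgroup F : Set (GL D.Idx F)) := by
  rw [Subgroup.mem_normalizer_iff]
  refine fun a => ⟨h.nS_conj_diagonal hi, fun ha => ?_⟩
  have h1 := h.nS_conj_diagonal hi ha
  have h2 := h.nS_mul_self (F := F) hi
  have h3 := mul_mem (mul_mem (inv_mem h2) h1) h2
  simpa [mul_assoc] using h3

lemma nW_conj_nU {w : List ℕ} (hw : WordOK T w) {r : ℕ} (hr : r < T.n) :
    ∃ e : F, (e = 1 ∨ e = -1) ∧
      nW D F w * nU D r 1 * (nW D F w)⁻¹ = nU D (rword T w r) e := by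
  induction w with
  | nil => exact ⟨1, Or.inl rfl, by simp [nW, rword]⟩
  | cons i w ih =>
    obtain ⟨e, he, h1⟩ := ih hw.tail
    refine ⟨(T.eta i (rword T w r) : F) * e, ?_, ?_⟩
    · rcases T.eta_cases i (rword T w r) with a | a <;> rcases he with b | b <;> simp [a, b]
    · rw [nW_cons, rword_cons,
        show nS D F i * nW D F w * nU D r 1 * (nS D F i * nW D F w)⁻¹ =
          nS D F i * (nW D F w * nU D r 1 * (nW D F w)⁻¹) * (nS D F i)⁻¹ by group, h1,
        mul_inv_eq_iff_eq_mul]
      refine Units.ext ?_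
      rw [Units.val_mul, Units.val_mul, h.coe_nS, h.coe_nU, h.coe_nU,
        h.nMat_mul_nMat hw.head (h.rword_lt hw.tail hr)]

lemma nU_pm_mem_sup {i : ℕ} (hi : i < T.l) {e : F} (he : e = 1 ∨ e = -1) :
    nU D (T.simple i) e = nS D F i ∨ nU D (T.simple i) e = (nS D F i)⁻¹ := by
  unfold nS
  rw [h.simple_eq hi, h.nU_inv (h.simple_lt hi)]
  rcases he with rfl | rfl
  · exact Or.inl rfl
  · exact Or.inr rfl

/-- `n_p` for all roots from those of the simple roots. -/
theorem monomial_eq :
    D.monomialSubgroup F =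
      Subgroup.closure {g | ∃ i < T.l, g = nS D F i} ⊔ D.diagonalSubgroup F := by
  refine le_antisymm (sup_le le_sup_right ((Subgroup.closure_le _).2 ?_))
    (sup_le ((Subgroup.closure_le _).2 ?_) le_sup_left)
  · rintro g ⟨r, hr, e⟩
    rw [h.nroots_eq] at hr
    rw [show g = nU D r 1 from Units.ext (e.trans (h.coe_nU r 1).symm)]
    set K := Subgroup.closure {g | ∃ i < T.l, g = nS D F i} ⊔ D.diagonalSubgroup F with hK
    have hgen : ∀ i < T.l, nS D F i ∈ K := fun i hi =>
      Subgroup.mem_sup_left (Subgroup.subset_closure ⟨i, hi, rfl⟩)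
    refine h.root_induction (P := fun r => ∀ e : F, e = 1 ∨ e = -1 → nU D r e ∈ K) ?_ ?_ hr 1
      (Or.inl rfl)
    · intro i hi e he
      rcases h.nU_pm_mem_sup hi he with a | a <;> rw [a]
      · exact hgen i hi
      · exact inv_mem (hgen i hi)
    · intro i hi r hr ih e he
      have hrw : nS D F i * nU D r ((T.eta i r : F) * e) * (nS D F i)⁻¹ =
          nU D (T.refl i r) e := by
        rw [mul_inv_eq_iff_eq_mul]
        refine Units.ext ?_
        rw [Units.val_mul, Units.val_mul, h.coe_nS, h.coe_nU, h.coe_nU, h.nMat_mul_nMat hi hr]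
        congr 2
        rcases T.eta_cases i r with a | a <;> simp [a]
      rw [← hrw]
      refine mul_mem (mul_mem (hgen i hi) (ih _ ?_)) (inv_mem (hgen i hi))
      rcases T.eta_cases i r with a | a <;> rcases he with b | b <;> simp [a, b]
  · rintro _ ⟨i, hi, rfl⟩
    exact h.nS_mem_monomial hi

/-- Every monomial element is a word times a diagonal one. -/
theorem exists_word_of_monomial {g : GL D.Idx F} (hg : g ∈ D.monomialSubgroup F) :
    ∃ w, WordOK T w ∧ ∃ t ∈ D.diagonalSubgroup F, g = nW D F w * t := by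
  have hle : Subgroup.closure {g | ∃ i < T.l, g = nS D F i} ≤
      Subgroup.normalizer (D.diagonalSubgroup F : Set (GL D.Idx F)) :=
    (Subgroup.closure_le _).2 fun g ⟨i, hi, e⟩ => e ▸ h.nS_mem_normalizer_diagonal hi
  rw [h.monomial_eq, ← SetLike.mem_coe, Subgroup.coe_mul_of_left_le_normalizer_right _ _ hle] at hg
  obtain ⟨a, ha, t₀, ht₀, rfl⟩ := hg
  suffices ∃ w, WordOK T w ∧ ∃ t ∈ D.diagonalSubgroup F, a = nW D F w * t by
    obtain ⟨w, hw, t, ht, rfl⟩ := this
    exact ⟨w, hw, t * t₀, mul_mem ht ht₀, mul_assoc _ _ _⟩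
  clear ht₀
  induction ha using Subgroup.closure_induction_right with
  | one => exact ⟨[], fun i hi => absurd hi List.not_mem_nil, 1, one_mem _, by simp [nW]⟩
  | mul_right x hx y hy ih =>
    obtain ⟨w, hw, t, ht, rfl⟩ := ih
    obtain ⟨i, hi, rfl⟩ := hy
    refine ⟨w ++ [i], fun j hj => ?_, (nS D F i)⁻¹ * t * nS D F i, ?_, ?_⟩
    · rcases List.mem_append.1 hj with hj | hj
      · exact hw j hj
      · simp only [List.mem_singleton] at hj; exact hj ▸ hi
    · exact (Subgroup.mem_normalizer_iff''.1 (h.nS_mem_normalizer_diagonal hi) t).1 ht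
    · rw [nW_append, show nW D F [i] = nS D F i by simp [nW]]; group
  | mul_inv_cancel x hx y hy ih =>
    obtain ⟨w, hw, t, ht, rfl⟩ := ih
    obtain ⟨i, hi, rfl⟩ := hy
    refine ⟨w ++ [i], fun j hj => ?_,
      ((nS D F i)⁻¹ * t * nS D F i) * (nS D F i * nS D F i)⁻¹, ?_, ?_⟩
    · rcases List.mem_append.1 hj with hj | hj
      · exact hw j hj
      · simp only [List.mem_singleton] at hj; exact hj ▸ hi
    · exact mul_mem ((Subgroup.mem_normalizer_iff''.1 (h.nS_mem_normalizer_diagonal hi) t).1 ht)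
        (inv_mem (h.nS_mul_self hi))
    · rw [nW_append, show nW D F [i] = nS D F i by simp [nW]]; group

lemma nW_mem_monomial {w : List ℕ} (hw : WordOK T w) : nW D F w ∈ D.monomialSubgroup F := by
  refine list_prod_mem fun g hg => ?_
  obtain ⟨i, hi, rfl⟩ := List.mem_map.1 hg
  exact h.nS_mem_monomial (hw i hi)

theorem monomial_le_normalizer_diagonal :
    D.monomialSubgroup F ≤ Subgroup.normalizer (D.diagonalSubgroup F : Set (GL D.Idx F)) := by
  rw [h.monomial_eq]
  exact sup_le ((Subgroup.closure_le _).2 fun g ⟨i, hi, e⟩ => e ▸ h.nS_mem_normalizer_diagonal hi)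
    Subgroup.le_normalizer

/-- The exchange step. -/
lemma exchange_word : ∀ {w : List ℕ}, WordOK T w → ∀ {i : ℕ}, i < T.l →
    rword T w (T.simple i) < T.half →
    ∃ w', WordOK T w' ∧ w'.length + 1 = w.length ∧
      ∃ t ∈ D.diagonalSubgroup F, nW D F w = nW D F w' * nS D F i * t := by
  intro w
  induction w with
  | nil =>
    intro _ i hi hlt
    have := (h.simple_spec hi).1
    simp only [rword, List.foldr_nil] at hlt
    omega
  | cons j b ih =>
    intro hw i hi hlt
    have hj := hw.head
    have hbp := h.rword_lt hw.tail (h.simple_lt hi)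
    by_cases hneg : rword T b (T.simple i) < T.half
    · obtain ⟨b', hb', hlen, t, ht, e⟩ := ih hw.tail hi hneg
      refine ⟨j :: b', fun k hk => ?_, by simp [hlen], t, ht, ?_⟩
      · rcases List.mem_cons.1 hk with rfl | hk
        · exact hj
        · exact hb' k hk
      · rw [nW_cons, e, nW_cons]; group
    · have hjp : rword T b (T.simple i) = T.simple j := by
        by_contra hne
        have := (h.refl_spec hj hbp).2.2.2.1 (not_lt.1 hneg) hne
        rw [rword_cons] at hlt
        omega
      obtain ⟨e, he, hconj⟩ := h.nW_conj_nU (F := F) hw.tail (h.simple_lt hi)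
      rw [hjp, show nU D (T.simple i) (1 : F) = nS D F i by rw [nS, h.simple_eq hi]] at hconj
      have hnorm := h.monomial_le_normalizer_diagonal (F := F) (h.nW_mem_monomial hw.tail)
      have hsq := h.nS_mul_self (F := F) hi
      have hsq' := h.nS_mul_self (F := F) hj
      refine ⟨b, hw.tail, by simp, ?_⟩
      rcases h.nU_pm_mem_sup hj he with a | a
      · rw [a] at hconj
        refine ⟨1, one_mem _, ?_⟩
        rw [nW_cons, ← hconj]; group
      · rw [a] at hconj
        have e2 : nS D F j = nW D F b * (nS D F i)⁻¹ * (nW D F b)⁻¹ := by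
          rw [← inv_inv (nS D F j), ← hconj]; group
        refine ⟨(nS D F i * nS D F i)⁻¹, inv_mem hsq, ?_⟩
        rw [nW_cons, e2]; group

/-- A word which keeps the simple roots positive is diagonal. -/
theorem nW_mem_diagonal {w : List ℕ} (hw : WordOK T w)
    (hpos : ∀ i < T.l, T.half ≤ rword T w (T.simple i)) : nW D F w ∈ D.diagonalSubgroup F := by
  induction hk : w.length using Nat.strong_induction_on generalizing w with
  | _ k ih =>
    rcases List.eq_nil_or_concat' w with rfl | ⟨u, i, rfl⟩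
    · simp [nW]
    have hi : i < T.l := hw i (List.mem_append_right _ List.mem_cons_self)
    have hp := h.simple_lt hi
    have hup : rword T u (T.simple i) < T.half := by
      have h1 := hpos i hi
      rw [rword_append, show rword T [i] (T.simple i) = T.neg (T.simple i) from h.refl_simple hi,
        h.rword_neg hw.left hp] at h1
      exact (h.half_le_neg_iff (h.rword_lt hw.left hp)).1 h1
    obtain ⟨u', hu', hlen, t, ht, e⟩ := h.exchange_word (F := F) hw.left hi hup
    have ht' : (nS D F i * t * (nS D F i)⁻¹) * (nS D F i * nS D F i) ∈ D.diagonalSubgroup F :=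
      mul_mem (h.nS_conj_diagonal hi ht) (h.nS_mul_self hi)
    have e' : nW D F (u ++ [i]) =
        nW D F u' * ((nS D F i * t * (nS D F i)⁻¹) * (nS D F i * nS D F i)) := by
      rw [nW_append, e, show nW D F [i] = nS D F i by simp [nW]]; group
    rw [e']
    refine mul_mem (ih _ ?_ hu' (fun j hj => ?_) rfl) ht'
    · rw [← hk, List.length_append, List.length_singleton]; omega
    · have h1 := h.Maps_nW (F := F) hw (h.simple_lt hj)
      rw [e'] at h1
      have h2 : Maps D (nW D F u' * ((nS D F i * t * (nS D F i)⁻¹) * (nS D F i * nS D F i)))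
          (T.simple j) (rword T u' (T.simple j)) :=
        Maps_mul (h.Maps_diagonal ht' (h.simple_lt hj)) (h.Maps_nW hu' (h.simple_lt hj))
      rw [← h.Maps_unique (h.rword_lt hw (h.simple_lt hj)) (h.rword_lt hu' (h.simple_lt hj)) h1 h2]
      exact hpos j hj

/-- The longest word. -/
theorem exists_longest : ∃ w, WordOK T w ∧ ∀ r, T.half ≤ r → r < T.n → rword T w r < T.half := by
  classical
  let S : List ℕ → Finset ℕ := fun w => (Finset.Ico T.half T.n).filter fun r => rword T w r < T.half
  obtain ⟨m, ⟨w, hw, hm⟩, hmax⟩ : ∃ m, (∃ w, WordOK T w ∧ (S w).card = m) ∧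
      ∀ w, WordOK T w → (S w).card ≤ m := by
    have hne : (Set.ofPred fun m => ∃ w, WordOK T w ∧ (S w).card = m).Nonempty :=
      ⟨_, [], fun i hi => absurd hi List.not_mem_nil, rfl⟩
    have hbdd : BddAbove (Set.ofPred fun m => ∃ w, WordOK T w ∧ (S w).card = m) :=
      ⟨T.n, fun m ⟨w, _, hm⟩ => hm ▸ (Finset.card_filter_le _ _).trans (by simp)⟩
    exact ⟨_, Nat.sSup_mem hne hbdd, fun w hw => le_csSup hbdd ⟨w, hw, rfl⟩⟩
  refine ⟨w, hw, fun r hh hr => h.rword_neg_of_simple hw (fun i hi => ?_) hh hr⟩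
  by_contra hge
  have hp := h.simple_spec hi
  have hw' : WordOK T (w ++ [i]) := fun j hj => by
    rcases List.mem_append.1 hj with hj | hj
    · exact hw j hj
    · simp only [List.mem_singleton] at hj; exact hj ▸ hi
  have hsub : insert (T.simple i) ((S w).image (T.refl i)) ⊆ S (w ++ [i]) := by
    intro r hr
    simp only [S, Finset.mem_insert, Finset.mem_image, Finset.mem_filter, Finset.mem_Ico] at hr ⊢
    rw [rword_append, show rword T [i] r = T.refl i r from rfl]
    rcases hr with rfl | ⟨s, ⟨⟨hs, hs'⟩, hsn⟩, rfl⟩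
    · refine ⟨⟨hp.1, hp.2.1⟩, ?_⟩
      rw [h.refl_simple hi, h.rword_neg hw hp.2.1]
      have := h.rword_lt hw hp.2.1
      have := h.two_mul_half
      unfold Tab.neg
      omega
    · have hne : s ≠ T.simple i := fun e => hge (e ▸ hsn)
      refine ⟨⟨(h.refl_spec hi hs').2.2.2.1 hs hne, h.refl_lt hi hs'⟩, ?_⟩
      rwa [h.refl_refl hi hs']
  have hcard : (insert (T.simple i) ((S w).image (T.refl i))).card = m + 1 := by
    rw [Finset.card_insert_of_notMem, Finset.card_image_of_injOn, hm]
    · intro a ha b hb e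
      simp only [S, Finset.coe_filter, Finset.mem_Ico, Set.mem_ofPred_eq] at ha hb
      rw [← h.refl_refl hi ha.1.2, e, h.refl_refl hi hb.1.2]
    · intro hmem
      obtain ⟨s, hs, e⟩ := Finset.mem_image.1 hmem
      simp only [S, Finset.mem_filter, Finset.mem_Ico] at hs
      have := congrArg (T.refl i) e
      rw [h.refl_refl hi hs.1.2, h.refl_simple hi] at this
      have := (h.half_le_neg_iff hp.2.1).1 (this ▸ hs.1.1)
      omega
  have := Finset.card_le_card hsub
  have := hmax _ hw'
  omega

end Cert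

end CfsgLib.Chev
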