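import Cfsg.Agent.Lib.Chev.Basic

/-!
The elements `n_p(t)`, `h_p(t)` for a simple root `p`, characters, and their action on root elements.
-/

set_option autoImplicit false

namespace CfsgLib.Chev

open Cfsg.Lie Matrix

lemma wordMat_append {D : ChevalleyDatum} {F : Type*} [Field F] (v w : List (ℕ × F)) :
    D.wordMat F (v ++ w) = D.wordMat F v * D.wordMat F w := by
  simp [ChevalleyDatum.wordMat]

lemma hMat_eq (D : ChevalleyDatum) {F : Type*} [Field F] (r : ℕ) (t : F) :
    D.hMat F r t = D.nMat F r t * D.nMat F r (-1) := wordMat_append _ _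

/-- A diagonal matrix with entry one at the coroots and `f s` at the root `s`. -/
def torus (D : ChevalleyDatum) {F : Type*} [Field F] (f : ℕ → F) : Matrix D.Idx D.Idx F :=
  Matrix.diagonal (Sum.elim (fun _ => 1) (fun s : Fin D.nroots => f s.val))

lemma torus_congr (D : ChevalleyDatum) {F : Type*} [Field F] {f g : ℕ → F}
    (h : ∀ s < D.nroots, f s = g s) : torus D f = torus D g := by
  unfold torus
  congr 1
  funext a
  rcases a with i | s
  · rfl
  · exact h _ s.isLt

lemma torus_mul (D : ChevalleyDatum) {F : Type*} [Field F] (f g : ℕ → F) :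
    torus D f * torus D g = torus D (fun s => f s * g s) := by
  unfold torus
  rw [Matrix.diagonal_mul_diagonal]
  congr 1
  funext a
  rcases a with i | s <;> simp

lemma torus_one (D : ChevalleyDatum) {F : Type*} [Field F] :
    torus D (fun _ => (1 : F)) = 1 := by
  rw [← Matrix.diagonal_one]
  unfold torus
  congr 1
  funext a
  rcases a with i | s <;> rfl

/-- A multiplicative character of the root system. -/
structure IsChar (T : Tab) {F : Type*} [Field F] (f : ℕ → F) : Prop where
  mul_neg : ∀ r < T.n, f r * f (T.neg r) = 1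
  chain : ∀ r < T.n, ∀ s < T.n, ∀ q ∈ (T.entry r s).zipIdx 1, f q.1.1 = f s * f r ^ q.2

namespace Cert

variable {D : ChevalleyDatum} {T : Tab} {C : Tab.Cover} (h : Cert D T C)
include h

omit h in
/-- The reflection as a map of root indices. -/
def rf (h : Cert D T C) {i : ℕ} (hi : i < T.l) (s : Fin D.nroots) : Fin D.nroots :=
  ⟨T.refl i s,
    lt_of_lt_of_eq (h.refl_lt hi (lt_of_lt_of_eq s.isLt h.nroots_eq)) h.nroots_eq.symm⟩

lemma rf_rf {i : ℕ} (hi : i < T.l) (s : Fin D.nroots) : h.rf hi (h.rf hi s) = s :=
  Fin.ext (h.refl_refl hi (lt_of_lt_of_eq s.isLt h.nroots_eq))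

omit h in
lemma nCol_root {i c : ℕ} (hc : c < T.n) :
    T.nCol i c = [((T.refl i c, (-T.car i c).toNat, (T.car i c).toNat), T.eta i c)] :=
  if_neg (not_le.2 hc)

omit h in
lemma nCol_cor (i k : ℕ) :
    T.nCol i (T.n + k) = [((T.n + k, 0, 0), 1), ((T.n + i, 0, 0), -T.car k (T.simple i))] := by
  rw [Tab.nCol, if_pos (Nat.le_add_right _ _), Nat.add_sub_cancel_left]

variable {F : Type*} [Field F] {i : ℕ} (hi : i < T.l)
include hi

omit h hi in
lemma wordAt_nWordE (h : Cert D T C) (hi : i < T.l) (c : F) :
    wordAt (T.nWordE i) c c⁻¹ = D.nWord (D.simple i) c := by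
  rw [ChevalleyDatum.nWord, h.simple_eq hi, h.neg_eq (h.simple_lt hi)]
  simp [wordAt, Tab.nWordE]

lemma n_ev {c : F} (hc : c ≠ 0) (row col : D.Idx) :
    D.nMat F (D.simple i) c row col = ev c c⁻¹ (T.nCol i (enc col)) (enc row) := by
  unfold ChevalleyDatum.nMat
  rw [← h.wordAt_nWordE hi, wordMat_apply h.agrees true _ c c⁻¹ (fun _ => mul_inv_cancel₀ hc)]
  refine ev_eq_of_same c c⁻¹ _ true (fun _ => mul_inv_cancel₀ hc) ?_
  have h1 := h.nOk
  simp only [Tab.chkN, List.all_eq_true, List.mem_range] at h1
  exact h1 i hi _ (enc_lt h.agrees col)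

lemma n_inr_inr {c : F} (hc : c ≠ 0) (v s : Fin D.nroots) :
    D.nMat F (D.simple i) c (Sum.inr v) (Sum.inr s) =
      if v = h.rf hi s then (T.eta i s : F) * c ^ (-T.car i s) else 0 := by
  have hn := h.nroots_eq
  rw [h.n_ev hi hc]
  simp only [enc, nCol_root (T := T) (show s.val < T.n by omega), ev_cons, ev_nil, evTerm, add_zero,
    rf, Fin.ext_iff]
  by_cases e : v.val = T.refl i s
  · rw [if_pos e.symm, if_pos e, mul_assoc]
    congr 1
    rw [inv_pow, ← zpow_natCast, ← zpow_natCast, ← div_eq_mul_inv, ← zpow_sub₀ hc]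
    congr 1
    omega
  · rw [if_neg (Ne.symm e), if_neg e]

lemma n_inl_inr {c : F} (hc : c ≠ 0) (j : Fin D.rank) (s : Fin D.nroots) :
    D.nMat F (D.simple i) c (Sum.inl j) (Sum.inr s) = 0 := by
  have hn := h.nroots_eq
  have := h.refl_lt hi (show s.val < T.n by omega)
  rw [h.n_ev hi hc]
  simp only [enc, nCol_root (T := T) (show s.val < T.n by omega), ev_cons, ev_nil, evTerm, add_zero]
  rw [if_neg (by omega)]

lemma n_inr_inl {c : F} (hc : c ≠ 0) (v : Fin D.nroots) (k : Fin D.rank) :
    D.nMat F (D.simple i) c (Sum.inr v) (Sum.inl k) = 0 := by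
  have hn := h.nroots_eq
  rw [h.n_ev hi hc]
  simp only [enc, show D.nroots + k.val = T.n + k.val by omega, nCol_cor (T := T), ev_cons, ev_nil,
    evTerm, add_zero]
  rw [if_neg (by omega), if_neg (by omega), add_zero]

lemma n_inl_inl {c : F} (hc : c ≠ 0) (j k : Fin D.rank) :
    D.nMat F (D.simple i) c (Sum.inl j) (Sum.inl k) =
      (if j = k then 1 else 0) - (if j.val = i then ((T.car k (T.simple i) : ℤ) : F) else 0) := by
  have hn := h.nroots_eq
  rw [h.n_ev hi hc]
  simp only [enc, show D.nroots + k.val = T.n + k.val by omega,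
    show D.nroots + j.val = T.n + j.val by omega, nCol_cor (T := T), ev_cons, ev_nil, evTerm,
    Nat.add_left_cancel_iff, Fin.ext_iff, Int.cast_one, pow_zero,
    Int.cast_neg, mul_one, add_zero]
  split_ifs <;> first | (exfalso; omega) | ring1

lemma n_mul_inr {c : F} (hc : c ≠ 0) (X : Matrix D.Idx D.Idx F) (v : Fin D.nroots) (col : D.Idx) :
    (D.nMat F (D.simple i) c * X) (Sum.inr v) col =
      (T.eta i (h.rf hi v) : F) * c ^ (-T.car i (h.rf hi v)) * X (Sum.inr (h.rf hi v)) col := by
  rw [Matrix.mul_apply, Fintype.sum_sum_type,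
    Finset.sum_eq_zero fun k _ => by rw [h.n_inr_inl hi hc, zero_mul], zero_add,
    Finset.sum_eq_single (h.rf hi v)]
  · rw [h.n_inr_inr hi hc, h.rf_rf hi, if_pos rfl]
  · intro s _ hs
    rw [h.n_inr_inr hi hc, if_neg (fun e => hs (by rw [e, h.rf_rf hi])), zero_mul]
  · simp

lemma n_mul_inl {c : F} (hc : c ≠ 0) (X : Matrix D.Idx D.Idx F) (j : Fin D.rank) (col : D.Idx) :
    (D.nMat F (D.simple i) c * X) (Sum.inl j) col = X (Sum.inl j) col -
      if j.val = i then ∑ k : Fin D.rank, ((T.car k (T.simple i) : ℤ) : F) * X (Sum.inl k) col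
      else 0 := by
  rw [Matrix.mul_apply, Fintype.sum_sum_type]
  rw [Finset.sum_eq_zero (s := (Finset.univ : Finset (Fin D.nroots)))
    fun s _ => by rw [h.n_inl_inr hi hc, zero_mul], add_zero]
  simp only [h.n_inl_inl hi hc, sub_mul, Finset.sum_sub_distrib, ite_mul, one_mul, zero_mul,
    Finset.sum_ite_eq, Finset.mem_univ, if_true]
  split <;> simp

lemma mul_n_inr {c : F} (hc : c ≠ 0) (X : Matrix D.Idx D.Idx F) (row : D.Idx) (s : Fin D.nroots) :
    (X * D.nMat F (D.simple i) c) row (Sum.inr s) =
      (T.eta i s : F) * c ^ (-T.car i s) * X row (Sum.inr (h.rf hi s)) := by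
  rw [Matrix.mul_apply, Fintype.sum_sum_type,
    Finset.sum_eq_zero fun k _ => by rw [h.n_inl_inr hi hc, mul_zero], zero_add,
    Finset.sum_eq_single (h.rf hi s)]
  · rw [h.n_inr_inr hi hc, if_pos rfl]; ring
  · intro u _ hu
    rw [h.n_inr_inr hi hc, if_neg hu, mul_zero]
  · simp

lemma mul_n_inl {c : F} (hc : c ≠ 0) (X : Matrix D.Idx D.Idx F) (row : D.Idx) (k : Fin D.rank) :
    (X * D.nMat F (D.simple i) c) row (Sum.inl k) =
      X row (Sum.inl k) - ((T.car k (T.simple i) : ℤ) : F) *
        X row (Sum.inl ⟨i, by rw [h.rank_eq]; exact hi⟩) := by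
  rw [Matrix.mul_apply, Fintype.sum_sum_type]
  rw [Finset.sum_eq_zero (s := (Finset.univ : Finset (Fin D.nroots)))
    fun s _ => by rw [h.n_inr_inl hi hc, mul_zero], add_zero]
  simp only [h.n_inl_inl hi hc, mul_sub, Finset.sum_sub_distrib, mul_ite, mul_one, mul_zero,
    Finset.sum_ite_eq', Finset.mem_univ, if_true]
  congr 1
  rw [Finset.sum_eq_single (⟨i, by rw [h.rank_eq]; exact hi⟩ : Fin D.rank)]
  · rw [if_pos rfl, mul_comm]
  · intro j _ hj; rw [if_neg (fun e => hj (Fin.ext e))]
  · simp

lemma car_refl {s : ℕ} (hs : s < T.n) : T.car i (T.refl i s) = -T.car i s := by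
  rw [(h.refl_spec hi hs).2.2.2.2.2.2.2.1 i hi, (h.simple_spec hi).2.2.1]; ring

/-- The element `h_p(c)` is diagonal. -/
lemma hMat_simple {c : F} (hc : c ≠ 0) :
    D.hMat F (D.simple i) c = torus D (fun s => c ^ T.car i s) := by
  have h1 : (-1 : F) ≠ 0 := neg_ne_zero.2 one_ne_zero
  have hn := h.nroots_eq
  rw [hMat_eq]
  ext row col
  rcases row with j | v
  · rw [h.n_mul_inl hi hc]
    rcases col with k | s
    · simp only [h.n_inl_inl hi h1, mul_sub, Finset.sum_sub_distrib, mul_ite, mul_one, mul_zero,
        Finset.sum_ite_eq', Finset.mem_univ, if_true, torus]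
      rw [Finset.sum_eq_single (⟨i, by rw [h.rank_eq]; exact hi⟩ : Fin D.rank)
        (fun m _ hm => if_neg (fun e => hm (Fin.ext e))) (by simp), if_pos rfl,
        show T.car (⟨i, by rw [h.rank_eq]; exact hi⟩ : Fin D.rank) (T.simple i) = 2 from
          (h.simple_spec hi).2.2.1, Matrix.diagonal_apply]
      simp only [Sum.inl.injEq, Sum.elim_inl]
      push_cast
      split_ifs <;> ring1
    · simp [h.n_inl_inr hi h1, torus]
  · rw [h.n_mul_inr hi hc]
    rcases col with k | s
    · simp [h.n_inr_inl hi h1, torus]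
    · rw [h.n_inr_inr hi h1]
      by_cases e : v = s
      · subst e
        have hv : v.val < T.n := by omega
        obtain ⟨-, -, -, -, -, hsign, -⟩ := h.refl_spec hi hv
        rw [if_pos rfl, torus, Matrix.diagonal_apply_eq]
        show (T.eta i (T.refl i v) : F) * c ^ (-T.car i (T.refl i v)) *
          ((T.eta i v : F) * (-1) ^ (-T.car i v)) = c ^ T.car i v
        have hs : ((T.eta i v : ℤ) : F) * (T.eta i (T.refl i v) : ℤ) =
            (-1) ^ (T.car i v).natAbs := by exact_mod_cast congrArg (Int.cast : ℤ → F) hsign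
        have hm : ((-1 : F)) ^ (-T.car i v) = (-1) ^ (T.car i v).natAbs := by
          rw [← zpow_natCast]
          rcases Int.natAbs_eq (T.car i v) with e | e
          · rw [_root_.zpow_neg, ← _root_.inv_zpow, inv_neg, inv_one, ← e]
          · conv_lhs => rw [e, _root_.neg_neg]
        rw [h.car_refl hi hv, _root_.neg_neg, hm]
        rw [show (T.eta i (T.refl i v) : F) * c ^ T.car i v *
          ((T.eta i v : F) * (-1) ^ (T.car i v).natAbs) = c ^ T.car i v *
            (((T.eta i v : F) * (T.eta i (T.refl i v) : F)) * (-1) ^ (T.car i v).natAbs) by ring,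
          hs, ← mul_pow]
        norm_num
      · rw [if_neg, mul_zero, torus, Matrix.diagonal_apply_ne _ (fun e' => e (Sum.inr.inj e'))]
        intro e'
        exact e (by rw [← h.rf_rf hi v, e', h.rf_rf hi])

omit hi in
lemma isChar_pow (j : ℕ) {c : F} (hc : c ≠ 0) (hj : j < T.l) :
    IsChar T (fun s => c ^ T.car j s) where
  mul_neg r hr := by
    rw [← zpow_add₀ hc, (h.root_spec hr hj).2.2.2, add_neg_cancel, zpow_zero]
  chain r hr s hs q hq := by
    rw [h.lin_spec hr hs hq hj, zpow_add₀ hc, mul_comm (q.2 : ℤ), _root_.zpow_mul, zpow_natCast]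

lemma nMat_inv : D.nMat F (D.simple i) 1 * D.nMat F (D.simple i) (-1) = 1 := by
  rw [← hMat_eq, h.hMat_simple hi one_ne_zero, ← torus_one D]
  simp

lemma nMat_eq_hMat_mul {c : F} :
    D.hMat F (D.simple i) c * D.nMat F (D.simple i) 1 = D.nMat F (D.simple i) c := by
  rw [hMat_eq, Matrix.mul_assoc, mul_eq_one_comm.1 (h.nMat_inv (F := F) hi), Matrix.mul_one]

set_option maxHeartbeats 800000 in
/-- `n_p` carries root elements to root elements. -/
lemma nMat_mul_x {r : ℕ} (hr : r < T.n) (t : F) :
    D.nMat F (D.simple i) 1 * D.x F r t =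
      D.x F (T.refl i r) ((T.eta i r : F) * t) * D.nMat F (D.simple i) 1 := by
  have hn := h.nroots_eq
  have hl := h.rank_eq
  have h1 : (1 : F) ≠ 0 := one_ne_zero
  have hwr := h.refl_lt hi hr
  have hinj : ∀ {a b : ℕ}, a < T.n → b < T.n → (T.refl i a = T.refl i b ↔ a = b) := fun ha hb =>
    ⟨fun e => by rw [← h.refl_refl hi ha, e, h.refl_refl hi hb], fun e => e ▸ rfl⟩
  have hrf : ∀ (v : Fin D.nroots) {a : ℕ}, a < T.n → ((h.rf hi v).val = a ↔ v.val = T.refl i a) :=
    fun v a ha => by
      show T.refl i v = a ↔ _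
      conv_lhs => rw [← h.refl_refl hi ha]
      exact hinj (by omega) (h.refl_lt hi ha)
  obtain ⟨-, -, hneg, -, hen, -, -, hcar, hcor⟩ := h.refl_spec hi hr
  have hsq : (T.eta i r : F) * (T.eta i r : F) = 1 := by exact_mod_cast congrArg (Int.cast : ℤ → F) (T.eta_sq i r)
  ext row col
  rcases row with j | v
  · rw [h.n_mul_inl hi h1]
    rcases col with k | s
    · rw [h.mul_n_inl hi h1]
      simp only [h.x_inl_inl hr, h.x_inl_inl hwr, mul_ite, mul_one, mul_zero, Finset.sum_ite_eq',
        Finset.mem_univ, if_true]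
      simp only [Fin.ext_iff]
    · rw [h.mul_n_inr hi h1, _root_.one_zpow, mul_one, h.x_inl_inr hwr]
      simp only [h.x_inl_inr hr, hrf s (neg_lt (T := T) hwr),
        show T.refl i (T.neg (T.refl i r)) = T.neg r by
          rw [← hneg, h.refl_refl hi (neg_lt (T := T) hr)]]
      by_cases e : s.val = T.neg r
      · simp only [if_pos e, ← mul_assoc, ← Finset.sum_mul]
        rw [hcor j (by omega), show T.eta i s.val = T.eta i r by rw [e, hen]]
        have hp : ∑ k : Fin D.rank, ((T.car k (T.simple i) : ℤ) : F) * (T.cor r k : ℤ) =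
            (T.pairing r (T.simple i) : ℤ) := by
          rw [T.pairing_eq_sum, ← hl, Finset.sum_range, Int.cast_sum]
          exact Finset.sum_congr rfl fun k _ => by push_cast; ring
        rw [hp]
        split_ifs <;> push_cast
        · linear_combination (-((T.cor r j : F) - (T.pairing r (T.simple i) : F)) * t) * hsq
        · linear_combination (-(T.cor r j : F) * t) * hsq
      · simp [if_neg e]
  · rw [h.n_mul_inr hi h1, _root_.one_zpow, mul_one]
    have hv : v.val < T.n := by omega
    rcases col with k | s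
    · rw [h.mul_n_inl hi h1]
      simp only [h.x_inr_inl hr, h.x_inr_inl hwr, hrf v hr]
      by_cases e : v.val = T.refl i r
      · simp only [if_pos e]
        rw [hcar k (by omega), hcar i hi, (h.simple_spec hi).2.2.1,
          show T.eta i (h.rf hi v).val = T.eta i r by
            show T.eta i (T.refl i v) = _
            rw [e, h.refl_refl hi hr]]
        push_cast
        ring
      · simp [if_neg e]
    · rw [h.mul_n_inr hi h1, _root_.one_zpow, mul_one]
      have hs : s.val < T.n := by omega
      have hwv := h.refl_lt hi hv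
      by_cases e1 : s.val = r
      · rw [h.x_inr_inr_self hr _ _ e1, h.x_inr_inr_self hwr _ _ (show T.refl i s = T.refl i r by
          rw [e1])]
        simp only [hrf v hr]
        split_ifs with e
        · rw [show T.eta i (h.rf hi v).val = T.eta i r by
            show T.eta i (T.refl i v) = _; rw [e, h.refl_refl hi hr], e1]
        · simp
      · by_cases e2 : s.val = T.neg r
        · rw [h.x_inr_inr_neg hr _ _ e2, h.x_inr_inr_neg hwr _ _ (show T.refl i s = _ by
            rw [e2, hneg])]
          simp only [hrf v hr, hrf v (neg_lt (T := T) hr), hneg]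
          rw [show T.eta i s.val = T.eta i r by rw [e2, hen]]
          split_ifs with a b
          · rw [show T.eta i (h.rf hi v).val = T.eta i r by
              show T.eta i (T.refl i v) = _
              rw [a, ← hneg, h.refl_refl hi (neg_lt (T := T) hr), hen]]
          · rw [show T.eta i (h.rf hi v).val = T.eta i r by
              show T.eta i (T.refl i v) = _; rw [b, h.refl_refl hi hr]]
            linear_combination ((T.eta i r : F) * t ^ 2) * hsq
          · simp
        · rw [h.x_inr_inr hr _ _ e1 e2, h.x_inr_inr hwr _ _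
            (show T.refl i s ≠ _ from fun e => e1 ((hinj hs hr).1 e))
            (show T.refl i s ≠ _ from fun e =>
              e2 ((hinj hs (neg_lt (T := T) hr)).1 (e.trans hneg.symm))),
            mul_add, mul_add, ← List.sum_map_mul_left, ← List.sum_map_mul_left]
          congr 1
          · simp only [hrf v hs, show (h.rf hi s).val = T.refl i s from rfl]
            split_ifs with e
            · rw [show (h.rf hi v).val = s.val from (hrf v hs).2 e]
            · simp
          · show _ = (List.map _ ((T.entry (T.refl i r) (T.refl i s)).zipIdx 1)).sum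
            rw [h.conj_entry hi hr hs, List.zipIdx_map, List.map_map]
            have hzz : ∀ (L : List (ℕ × ℤ)) (m : ℕ),
                (L.zipIdx m).zipIdx m = (L.zipIdx m).map fun q => (q, q.2) := by
              intro L; induction L with
              | nil => simp
              | cons a L ih => intro m; simp [List.zipIdx_cons, ih]
            rw [hzz, List.map_map]
            refine congrArg List.sum (List.map_congr_left fun q hq => ?_)
            have hq' := h.entry_lt hr hs hq
            simp only [Function.comp_apply, Prod.map_apply, id_eq]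
            by_cases e : q.1.1 = (h.rf hi v).val
            · have e' : T.refl i q.1.1 = v.val := by
                rw [e]; exact h.refl_refl hi hv
              rw [if_pos e, if_pos e']
              have hs2 : (T.eta i s : F) * (T.eta i s : F) = 1 := by
                exact_mod_cast congrArg (Int.cast : ℤ → F) (T.eta_sq i s)
              have hr2 : ((T.eta i r : F)) ^ q.2 * (T.eta i r : F) ^ q.2 = 1 := by
                rw [← mul_pow, hsq, one_pow]
              rw [← e]
              push_cast
              rw [mul_pow]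
              linear_combination (-(T.eta i q.1.1 : F) * (q.1.2 : F) * t ^ q.2) *
                ((T.eta i s : F) * (T.eta i s : F) * hr2 + hs2)
            · have e' : ¬ T.refl i q.1.1 = v.val := fun e' => e (by
                show q.1.1 = T.refl i v
                rw [← e', h.refl_refl hi hq'])
              rw [if_neg e, if_neg e', mul_zero, mul_zero]

end Cert

/-- Diagonal elements scale root elements. -/
lemma Cert.torus_mul_x {D : ChevalleyDatum} {T : Tab} {C : Tab.Cover} (h : Cert D T C)
    {F : Type*} [Field F] {f : ℕ → F} (hf : IsChar T f) {r : ℕ} (hr : r < T.n) (t : F) :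
    torus D f * D.x F r t = D.x F r (f r * t) * torus D f := by
  have hn := h.nroots_eq
  have hmn := hf.mul_neg r hr
  ext row col
  rw [torus, Matrix.diagonal_mul, Matrix.mul_diagonal]
  rcases row with j | v <;> rcases col with k | s <;> simp only [Sum.elim_inl, Sum.elim_inr]
  · simp [h.x_inl_inl hr]
  · rw [h.x_inl_inr hr, h.x_inl_inr hr]
    split_ifs with e
    · rw [e]; linear_combination (-(T.cor r j : F) * t) * hmn
    · simp
  · rw [h.x_inr_inl hr, h.x_inr_inl hr]
    split_ifs with e
    · rw [e]; ring
    · simp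
  · by_cases e1 : s.val = r
    · rw [h.x_inr_inr_self hr _ _ e1, h.x_inr_inr_self hr _ _ e1]
      split_ifs with e
      · rw [e, e1]; ring
      · simp
    · by_cases e2 : s.val = T.neg r
      · rw [h.x_inr_inr_neg hr _ _ e2, h.x_inr_inr_neg hr _ _ e2]
        split_ifs with a b
        · rw [a, e2]; ring
        · rw [b, e2]; linear_combination (f r * t ^ 2) * hmn
        · simp
      · rw [h.x_inr_inr hr _ _ e1 e2, h.x_inr_inr hr _ _ e1 e2, mul_add, add_mul,
          ← List.sum_map_mul_left, ← List.sum_map_mul_right]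
        congr 1
        · split_ifs with e
          · rw [e]; ring
          · simp
        · refine congrArg List.sum (List.map_congr_left fun q hq => ?_)
          split_ifs with e
          · rw [← e, hf.chain r hr s.val (by omega) q hq, mul_pow]; ring
          · simp

end CfsgLib.Chev
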