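import Cfsg.Agent.Lib.Chev.RadicalCentralizer
import Cfsg.Agent.Lib.Chev.CentComm

/-!
Centralizers of root elements of dominant roots lie in parabolic subgroups.
-/

set_option autoImplicit false

namespace CfsgLib.Chev

open Cfsg.Lie Matrix

/-- A dominant root `r`, a list `L₀` of positive roots above it whose root groups are normalized by
`U`, and a reflection-invariant list `L ⊇ L₀` of roots, closed in the positive roots, without `r`. -/
def Tab.chkDom (T : Tab) (r : ℕ) (L₀ L : List ℕ) : Bool :=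
  decide (T.half ≤ r ∧ r < T.n) &&
  ((List.range T.l).all fun i => decide (0 ≤ T.car i r)) &&
  ((List.range T.n).all fun s => decide (s < T.half ∨ s = r) ||
    (T.commTerms s r).all fun q => decide (q.1 ∈ L₀)) &&
  (L₀.all fun b => decide (T.half ≤ b ∧ b < T.n ∧ b ∈ L) &&
    (List.range T.n).all fun s => decide (s < T.half ∨ b = s) ||
      (T.commTerms s b).all fun q => decide (q.1 ∈ L₀)) &&
  (L.all fun a => decide (a < T.n) && (List.range T.l).all fun i => decide (T.refl i a ∈ L)) &&
  (L.all fun a => decide (a < T.half) || L.all fun b => decide (b < T.half ∨ b = a) ||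
    (T.commTerms a b).all fun q => decide (q.1 ∈ L)) &&
  decide (r ∉ L)

/-- Every root climbs by simple reflections to one of the roots of `R`. -/
def Tab.chkClimb (T : Tab) (R : List ℕ) : Bool :=
  (List.range T.n).all fun r => decide (r ∈ R) ||
    (List.range T.l).any fun i => decide (r < T.refl i r)

namespace Cert

variable {D : ChevalleyDatum} {T : Tab} {C : Tab.Cover} (h : Cert D T C)
include h

lemma refl_eq_self {i r : ℕ} (hi : i < T.l) (hr : r < T.n) (hc : T.car i r = 0) :
    T.refl i r = r := by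
  have h2 := (h.simple_spec hi).2.2.1
  have h3 := (h.root_spec (h.simple_lt hi) hi).2.2.2
  have e1 : r ≠ T.simple i := fun e => by rw [e, h2] at hc; omega
  have e2 : r ≠ T.neg (T.simple i) := fun e => by rw [e, h3, h2] at hc; omega
  rw [h.refl_eq_reflCalc hi hr]
  simp [Tab.reflCalc, e1, e2, hc]

/-- Some simple root is not orthogonal to a given positive root. -/
lemma exists_car_ne {r : ℕ} (hh : T.half ≤ r) (hr : r < T.n) : ∃ i < T.l, T.car i r ≠ 0 := by
  by_contra hc
  push Not at hc
  obtain ⟨w, hw, -, hneg⟩ := h.exists_word_neg (J := Set.univ) r ⟨hh, hr⟩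
    (h.inRootSub_iff.2 ⟨hr, fun i _ hi => absurd (Set.mem_univ i) hi⟩)
  have hfix : ∀ v, WordOK T v → rword T v r = r := by
    intro v
    induction v with
    | nil => intro _; rfl
    | cons i v ih =>
      intro hv
      rw [rword_cons, ih hv.tail, h.refl_eq_self hv.head hr (hc i hv.head)]
  rw [hfix w hw] at hneg
  omega

lemma exists_word_climb {R : List ℕ} (hR : T.chkClimb R = true) :
    ∀ r, r < T.n → ∃ w, WordOK T w ∧ rword T w r ∈ R := by
  simp only [Tab.chkClimb, List.all_eq_true, List.mem_range, Bool.or_eq_true, List.any_eq_true,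
    decide_eq_true_eq] at hR
  intro r
  induction hk : T.n - r using Nat.strong_induction_on generalizing r with
  | _ k ih =>
    intro hr
    rcases hR r hr with hr' | ⟨i, hi, hlt⟩
    · exact ⟨[], fun a ha => absurd ha List.not_mem_nil, hr'⟩
    · obtain ⟨w, hw, hm⟩ := ih (T.n - T.refl i r) (by have := h.refl_lt hi hr; omega) _ rfl
        (h.refl_lt hi hr)
      refine ⟨w ++ [i], fun a ha => ?_, by rw [rword_append]; exact hm⟩
      rcases List.mem_append.1 ha with ha | ha
      · exact hw a ha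
      · rw [List.mem_singleton.1 ha]; exact hi

variable {F : Type*} [Field F]

/-- A word fixing a dominant root gives an element of its parabolic subgroup. -/
lemma nW_mem_parabolic_of_fix {r : ℕ} (hr : r < T.n) (hdom : ∀ i < T.l, 0 ≤ T.car i r) :
    ∀ {w : List ℕ}, WordOK T w → rword T w r = r →
      nW D F w ∈ D.parabolicSubgroup F {i | T.car i r = 0} := by
  intro w
  induction hk : w.length using Nat.strong_induction_on generalizing w with
  | _ k ih =>
    intro hw hfix
    have hBP : D.borelSubgroup F ≤ D.parabolicSubgroup F {i | T.car i r = 0} := le_sup_left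
    by_cases hpos : ∀ i < T.l, T.half ≤ rword T w (T.simple i)
    · exact hBP (Subgroup.mem_sup_right (h.nW_mem_diagonal hw hpos))
    push Not at hpos
    obtain ⟨i, hi, hneg⟩ := hpos
    have hc : T.car i r = 0 := by
      refine le_antisymm ?_ (hdom i hi)
      have e := h.pairing_rword hw (h.simple_lt hi) hr
      rw [hfix, h.pairing_simple hi] at e
      rw [← e, Tab.pairing_eq_sum]
      exact Finset.sum_nonpos fun j hj => mul_nonpos_of_nonpos_of_nonneg
        (h.cor_nonpos hneg (Finset.mem_range.1 hj)) (hdom j (Finset.mem_range.1 hj))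
    obtain ⟨w', hw', hlen, t, ht, e⟩ := h.exchange_word (F := F) hw hi hneg
    have hfix' : rword T w' r = r := by
      have h1 := h.Maps_nW (F := F) hw hr
      rw [hfix, e] at h1
      have h2 : Maps D (nW D F w' * nS D F i * t) r (rword T w' r) := by
        have h3 := h.Maps_nS (F := F) hi hr
        rw [h.refl_eq_self hi hr hc] at h3
        exact Maps_mul (h.Maps_diagonal ht hr) (Maps_mul h3 (h.Maps_nW hw' hr))
      exact h.Maps_unique (h.rword_lt hw' hr) hr h2 h1
    rw [e]
    exact mul_mem (mul_mem (ih w'.length (by omega) rfl hw' hfix') (h.nS_mem_parabolic hi hc))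
      (hBP (Subgroup.mem_sup_right ht))

/-- Elements of two closed subgroups of `U` lie in the subgroup of the common roots. -/
lemma gen_inter {S S' : Set ℕ} (hS : S ⊆ posSet T) (hc : CommClosed T S) (hS' : S' ⊆ posSet T)
    (hc' : CommClosed T S') {g : GL D.Idx F} (hg : g ∈ gen D F S) (hg' : g ∈ gen D F S') :
    g ∈ gen D F (S ∩ S') := by
  classical
  obtain ⟨c, e, hz⟩ := h.exists_coords hS hc hg
  obtain ⟨c', e', hz'⟩ := h.exists_coords hS' hc' hg'
  have heq := h.prodX_inj (posList T) sortedLT_posList (fun r hr => mem_posList.1 hr) _ _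
    (e.symm.trans e')
  rw [e, h.prodX_filter (fun r => decide (r ∈ S ∩ S')) (posList T) c
    (fun r hr => (mem_posList.1 hr).2) fun r hr hp => ?_]
  · refine gen_mono D (fun r hr => ?_) (prodX_mem_gen _ c)
    have := (List.mem_filter.1 hr).2
    rwa [decide_eq_true_eq] at this
  · rw [decide_eq_false_iff_not] at hp
    by_cases h1 : r ∈ S
    · rw [heq r hr]; exact hz' r fun h2 => hp ⟨h1, h2⟩
    · exact hz r h1

/-- A product of two root elements outside a closed set is not in its subgroup. -/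
lemma X_mul_X_not_mem {S : Set ℕ} (hS : S ⊆ posSet T) (hc : CommClosed T S) {i j : ℕ}
    (hi : i ∈ posSet T) (hj : j ∈ posSet T) (hne : i ≠ j) (hiS : i ∉ S) {a b : F} (ha : a ≠ 0) :
    X D i a * X D j b ∉ gen D F S := by
  classical
  suffices key : ∀ i j, i ∈ posSet T → j ∈ posSet T → i < j → ∀ a b : F,
      X D i a * X D j b ∈ gen D F S → (i ∉ S → a = 0) ∧ (j ∉ S → b = 0) by
    intro hm
    rcases lt_or_gt_of_ne hne with hlt | hlt
    · exact ha ((key i j hi hj hlt a b hm).1 hiS)
    · have h1 := inv_mem hm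
      rw [_root_.mul_inv_rev, h.X_inv hj.2, h.X_inv hi.2] at h1
      exact ha (neg_eq_zero.1 ((key j i hj hi hlt _ _ h1).2 hiS))
  intro i j hi hj hlt a b hm
  obtain ⟨c, e, hz⟩ := h.exists_coords hS hc hm
  let d : ℕ → F := fun r => if r = i then a else if r = j then b else 0
  have hd : X D i a * X D j b = prodX D (posList T) d := by
    rw [h.prodX_filter (fun r => decide (r = i ∨ r = j)) (posList T) d
      (fun r hr => (mem_posList.1 hr).2) fun r _ hp => ?_]
    · have e1 : (posList T).filter (fun r => decide (r = i ∨ r = j)) = [i, j] := by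
        refine List.Perm.eq_of_pairwise (le := (· < ·)) (fun x y _ _ h1 h2 => absurd h2 h1.asymm)
          ((List.SortedLT.pairwise sortedLT_posList).filter _) (by simp [hlt]) ?_
        refine (List.perm_ext_iff_of_nodup (((sortedLT_posList (T := T)).nodup).filter _)
          (by simp [hlt.ne])).2 fun r => ?_
        simp only [List.mem_filter, mem_posList, decide_eq_true_eq, List.mem_cons,
          List.not_mem_nil, or_false]
        exact ⟨fun h => h.2, fun h => ⟨by rcases h with rfl | rfl <;> assumption, h⟩⟩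
      rw [e1]
      simp [prodX, d, hlt.ne']
    · simp only [decide_eq_false_iff_not, not_or] at hp
      simp [d, hp.1, hp.2]
  have heq := h.prodX_inj (posList T) sortedLT_posList (fun r hr => mem_posList.1 hr) _ _
    (hd.symm.trans e)
  constructor
  · intro hn
    have := heq i (mem_posList.2 hi)
    simpa [d, hz i hn] using this
  · intro hn
    have := heq j (mem_posList.2 hj)
    simpa [d, hlt.ne', hz j hn] using this

/-- The centralizer of a root element of a dominant root is in the parabolic subgroup of the simple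
roots orthogonal to it. -/
theorem centralizer_X_le_parabolic {r : ℕ} {L₀ L : List ℕ} (hchk : T.chkDom r L₀ L = true)
    {a : F} (ha : a ≠ 0) {g : GL D.Idx F} (hg : g ∈ D.group F)
    (hgx : g * X D r a * g⁻¹ = X D r a) :
    g ∈ D.parabolicSubgroup F {i | T.car i r = 0} := by
  classical
  simp only [Tab.chkDom, Bool.and_eq_true, Bool.or_eq_true, List.all_eq_true, List.mem_range,
    decide_eq_true_eq] at hchk
  obtain ⟨⟨⟨⟨⟨⟨hrp, hdom⟩, hlead⟩, hnorm₀⟩, hinvL⟩, hclL⟩, hrL⟩ := hchk
  have hr : r < T.n := hrp.2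
  have hrpos : r ∈ posSet T := hrp
  set S₀ : Set ℕ := {q | q ∈ L₀} with hS₀
  set S : Set ℕ := {q | q ∈ L ∧ q ∈ posSet T} with hS
  have hS₀pos : S₀ ⊆ posSet T := fun q hq => ⟨(hnorm₀ q hq).1.1, (hnorm₀ q hq).1.2.1⟩
  have hS₀S : S₀ ⊆ S := fun q hq => ⟨(hnorm₀ q hq).1.2.2, hS₀pos hq⟩
  have hScl : CommClosed T S := by
    rintro x ⟨hxL, hx⟩ y ⟨hyL, hy⟩ hne q hq
    refine ⟨?_, h.commClosed_posSet x hx y hy hne q hq⟩
    rcases hclL x hxL with e | e
    · have := hx.1; omega
    rcases e y hyL with (e | e) | e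
    · have := hy.1; omega
    · exact absurd e hne
    · exact e q hq
  have hS₀cl : CommClosed T S₀ := by
    intro x hx y hy hne q hq
    rcases (hnorm₀ y hy).2 x (hS₀pos hx).2 with (e | e) | e
    · have := (hS₀pos hx).1; omega
    · exact absurd e hne
    · exact e q hq
  -- `U` normalizes the subgroup of `L₀`
  have hUn : D.posUnipotent F ≤ Subgroup.normalizer (gen D F S₀ : Set (GL D.Idx F)) := by
    rw [h.posUnipotent_eq, gen, Subgroup.closure_le]
    rintro _ ⟨s, hs, z, rfl⟩
    refine (le_normalizer_closure (H := gen D F {s}) fun y hy w hw => ?_)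
      (X_mem_gen D (Set.mem_singleton s) z)
    obtain ⟨c, rfl⟩ := (h.gen_singleton hs.2).1 hy
    obtain ⟨q, hq, v, rfl⟩ := hw
    by_cases e : q = s
    · subst e
      rw [h.X_inv hs.2, h.X_add hs.2, h.X_add hs.2]
      exact X_mem_gen D hq _
    · refine h.X_conj_mem (S := S₀) hs.2 (hS₀pos hq).2 e (posSet_neg_ne h hs (hS₀pos hq)) hq
        (fun p hp => ?_) c v
      rcases (hnorm₀ q hq).2 s hs.2 with (e' | e') | e'
      · have := hs.1; omega
      · exact absurd e' e
      · exact e' p hp
  -- leading terms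
  have hlead' : ∀ u ∈ D.posUnipotent F, ∀ c : F,
      (X D r c)⁻¹ * (u * X D r c * u⁻¹) ∈ gen D F S₀ := by
    intro u hu
    have hu' := hu
    rw [h.posUnipotent_eq] at hu'
    induction hu' using Subgroup.closure_induction with
    | mem g hg =>
      obtain ⟨s, hs, z, rfl⟩ := hg
      intro c
      by_cases e : r = s
      · subst e
        rw [h.X_inv hs.2, h.X_inv hs.2, h.X_add hs.2, h.X_add hs.2, h.X_add hs.2]
        rw [show -c + (z + c + -z) = 0 by ring, h.X_zero hs.2]
        exact one_mem _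
      · have hc := h.X_conj (F := F) hs.2 hr e (posSet_neg_ne h hs hrpos) (-z) c
        rw [_root_.neg_neg, ← h.X_inv hs.2 z] at hc
        rw [hc, inv_mul_cancel_left]
        refine list_prod_mem fun y hy => ?_
        obtain ⟨q, hq, rfl⟩ := List.mem_map.1 hy
        rcases hlead s hs.2 with (e' | e') | e'
        · have := hs.1; omega
        · exact absurd e'.symm e
        · exact X_mem_gen D (show q.1 ∈ S₀ from e' q hq) _
    | one => intro c; simp
    | mul x y hx hy ihx ihy =>
      intro c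
      have hx' : x ∈ D.posUnipotent F := by rw [h.posUnipotent_eq]; exact hx
      have hy' : y ∈ D.posUnipotent F := by rw [h.posUnipotent_eq]; exact hy
      rw [show (X D r c)⁻¹ * (x * y * X D r c * (x * y)⁻¹) =
        ((X D r c)⁻¹ * (x * X D r c * x⁻¹)) *
          (x * ((X D r c)⁻¹ * (y * X D r c * y⁻¹)) * x⁻¹) by group]
      exact mul_mem (ihx hx' c) ((Subgroup.mem_normalizer_iff.1 (hUn hx') _).1 (ihy hy' c))
    | inv x hx ih =>
      intro c
      have hx' : x ∈ D.posUnipotent F := by rw [h.posUnipotent_eq]; exact hx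
      rw [show (X D r c)⁻¹ * (x⁻¹ * X D r c * x⁻¹⁻¹) =
        x⁻¹ * ((X D r c)⁻¹ * (x * X D r c * x⁻¹))⁻¹ * x⁻¹⁻¹ by group]
      exact (Subgroup.mem_normalizer_iff.1 (hUn (inv_mem hx')) _).1 (inv_mem (ih hx' c))
  have hdiag : ∀ t ∈ D.diagonalSubgroup F, ∀ c : F, c ≠ 0 → ∀ Y ∈ gen D F S₀,
      ∃ c' : F, c' ≠ 0 ∧ ∃ Y' ∈ gen D F S₀, t * (X D r c * Y) * t⁻¹ = X D r c' * Y' := by
    intro t ht c hc Y hY
    obtain ⟨m, hm, e⟩ := h.conj_X_of_mem_diagonal ht hr c
    refine ⟨m * c, mul_ne_zero hm hc, t * Y * t⁻¹, (Subgroup.mem_normalizer_iff.1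
      (h.diagonal_le_normalizer_gen (fun q hq => (hS₀pos hq).2) ht) Y).1 hY, ?_⟩
    rw [← e]; group
  -- Bruhat decomposition
  obtain ⟨b, hb, n, hn, u, hu, rfl⟩ := h.bruhat_exists hg
  obtain ⟨w, hw, t, ht, rfl⟩ := h.exists_word_of_monomial hn
  have hu' : u ∈ D.posUnipotent F := by
    rw [h.cellUnipotent_eq (π := rword T w) fun q hq =>
      ⟨h.rword_lt hw hq, Maps_mul (h.Maps_diagonal ht hq) (h.Maps_nW hw hq)⟩] at hu
    rw [h.posUnipotent_eq]; exact gen_mono D Set.sdiff_subset hu
  obtain ⟨a₁, ha₁, Y₁, hY₁, e₁⟩ := hdiag t ht a ha _ (hlead' u hu' a)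
  rw [mul_inv_cancel_left] at e₁
  obtain ⟨v, hv, t', ht', eb⟩ := h.mem_borel_iff.1 (inv_mem hb)
  obtain ⟨m, hm, em⟩ := h.conj_X_of_mem_diagonal ht' hr a
  set a₂ : F := m * a with ha₂def
  have ha₂ : a₂ ≠ 0 := mul_ne_zero hm ha
  have hY₂ := hlead' v hv a₂
  set Y₂ := (X D r a₂)⁻¹ * (v * X D r a₂ * v⁻¹) with hY₂def
  have e₂ : b⁻¹ * X D r a * b⁻¹⁻¹ = X D r a₂ * Y₂ := by
    rw [hY₂def, mul_inv_cancel_left, eb, ← em]; group
  have key : nW D F w * (X D r a₁ * Y₁) * (nW D F w)⁻¹ = X D r a₂ * Y₂ := by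
    rw [← e₁, ← e₂]
    conv_rhs => rw [← hgx]
    group
  -- `w r` is positive
  have hwr := h.rword_lt hw hr
  set K : Set ℕ := posSet T ∩ {q | T.half ≤ rword T w q} with hK
  have hS₁cl : CommClosed T (insert r S₀) := by
    intro x hx y hy hne q hq
    refine Or.inr ?_
    have hxp : x ∈ posSet T := by rcases hx with rfl | hx; exacts [hrpos, hS₀pos hx]
    rcases hy with rfl | hy
    · rcases hlead x hxp.2 with (e' | e') | e'
      · have := hxp.1; omega
      · exact absurd e'.symm hne
      · exact e' q hq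
    · rcases (hnorm₀ y hy).2 x hxp.2 with (e' | e') | e'
      · have := hxp.1; omega
      · exact absurd e' hne
      · exact e' q hq
  have hS₁pos : insert r S₀ ⊆ posSet T := by
    rintro q (rfl | hq); exacts [hrpos, hS₀pos hq]
  have hU₀ : gen D F S₀ ≤ D.posUnipotent F := by
    rw [h.posUnipotent_eq]; exact gen_mono D hS₀pos
  have hXU : ∀ c, X D r c ∈ D.posUnipotent F := fun c => by
    rw [h.posUnipotent_eq]; exact X_mem_gen D hrpos c
  have hvK : X D r a₁ * Y₁ ∈ gen D F K := by
    have hvU : X D r a₁ * Y₁ ∈ gen D F {q | q ∈ posList T} := by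
      rw [posList_set, ← h.posUnipotent_eq]; exact mul_mem (hXU _) (hU₀ hY₁)
    obtain ⟨x, hx, y, hy, exy⟩ := h.exists_split {q | T.half ≤ rword T w q} (posList T)
      sortedLT_posList (fun q hq => mem_posList.1 hq)
      (by rw [posList_set]; exact h.commClosed_posSet) _ hvU
    rw [posList_set] at hx hy
    have hx' : nW D F w * x * (nW D F w)⁻¹ ∈ D.posUnipotent F := by
      rw [h.posUnipotent_eq]
      exact conj_gen_le (S' := posSet T)
        (fun q hq => ⟨rword T w q, ⟨hq.2, h.rword_lt hw hq.1.2⟩, h.Maps_nW hw hq.1.2⟩) hx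
    have hy' : nW D F w * y * (nW D F w)⁻¹ ∈ D.borelSubgroup F ⊓ D.negUnipotent F := by
      refine Subgroup.mem_inf.2 ⟨Subgroup.mem_sup_left ?_, ?_⟩
      · have := mul_mem (inv_mem hx') (mul_mem (hXU a₂) (hU₀ hY₂))
        rw [← key, exy] at this
        convert this using 1
        group
      · rw [h.negUnipotent_eq]
        exact conj_gen_le (S' := {q | q < T.half})
          (fun q hq => ⟨rword T w q, (show rword T w q < T.half from not_le.1 hq.2),
            h.Maps_nW hw hq.1.2⟩) hy
    rw [h.borel_inf_negUnipotent, Subgroup.mem_bot, conj_eq_one_iff] at hy'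
    rw [exy, hy', mul_one]; exact hx
  have hvS₁ : X D r a₁ * Y₁ ∈ gen D F (insert r S₀) :=
    mul_mem (X_mem_gen D (Set.mem_insert r _) a₁) (gen_mono D (Set.subset_insert r _) hY₁)
  have hv₂ := h.gen_inter hS₁pos hS₁cl Set.inter_subset_left (h.commClosed_keep hw) hvS₁ hvK
  have hrK : r ∈ K := by
    by_contra hn
    have h1 : X D r a₁ * Y₁ ∈ gen D F S₀ := gen_mono D (fun q hq => by
      rcases hq.1 with rfl | hq'
      · exact absurd hq.2 hn
      · exact hq') hv₂
    have h2 : X D r a₁ ∈ gen D F S₀ := by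
      have := mul_mem h1 (inv_mem hY₁)
      rwa [mul_inv_cancel_right] at this
    exact hrL (hS₀S (h.root_mem_of_X_mem_gen hS₀pos hS₀cl hr ha₁ h2)).1
  have hY₁K : Y₁ ∈ gen D F (S₀ ∩ K) := by
    refine h.gen_inter hS₀pos hS₀cl Set.inter_subset_left (h.commClosed_keep hw) hY₁ ?_
    have := mul_mem (inv_mem (X_mem_gen D hrK a₁)) hvK
    rwa [inv_mul_cancel_left] at this
  have hLw : ∀ v, WordOK T v → ∀ q ∈ L, rword T v q ∈ L := by
    intro v
    induction v with
    | nil => exact fun _ q hq => hq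
    | cons i v ih => exact fun hv q hq => (hinvL _ (ih hv.tail q hq)).2 i hv.head
  have hY₁' : nW D F w * Y₁ * (nW D F w)⁻¹ ∈ gen D F S :=
    conj_gen_le (S' := S) (fun q hq => ⟨rword T w q,
      ⟨hLw w hw q (hS₀S hq.1).1, hq.2.2, h.rword_lt hw hq.2.1.2⟩, h.Maps_nW hw hq.2.1.2⟩) hY₁K
  obtain ⟨m₃, hm₃, e₃⟩ := h.Maps_nW (F := F) hw hr
  -- `w r = r`
  have hfix : rword T w r = r := by
    by_contra hne
    refine h.X_mul_X_not_mem (S := S) (fun q hq => hq.2) hScl (i := r) (j := rword T w r)
      hrpos ⟨hrK.2, hwr⟩ (Ne.symm hne) (fun hq => hrL hq.1) (a := -a₂) (neg_ne_zero.2 ha₂)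
      (b := m₃ * a₁) ?_
    have e4 : X D (rword T w r) (m₃ * a₁) * (nW D F w * Y₁ * (nW D F w)⁻¹) = X D r a₂ * Y₂ := by
      rw [← key, ← e₃ a₁]; group
    rw [← h.X_inv hr, eq_mul_inv_of_mul_eq e4, mul_assoc, inv_mul_cancel_left]
    exact mul_mem (gen_mono D hS₀S hY₂) (inv_mem hY₁')
  have hB : D.borelSubgroup F ≤ D.parabolicSubgroup F {i | T.car i r = 0} := le_sup_left
  exact mul_mem (mul_mem (hB hb) (mul_mem (h.nW_mem_parabolic_of_fix hr (fun i hi => hdom i hi) hw
    hfix) (hB (Subgroup.mem_sup_right ht)))) (hB (Subgroup.mem_sup_left hu'))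

end Cert

end CfsgLib.Chev
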