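import Mathlib
import Cfsg.Prelude.Def_Classical

/-!
The elementary subgroup of the isometry group of a split quadratic form: it contains the commutator
subgroup.
-/

set_option autoImplicit false
set_option linter.unusedSectionVars false

namespace CfsgLib.ChevOrth

open Matrix QuadraticMap
open scoped commutatorElement

variable {F : Type*} [Field F] {ι : Type} [Fintype ι] [DecidableEq ι]

/-- The partner of an index of a hyperbolic frame. -/
def bar {m : ℕ} (p : Fin m × Bool) : Fin m × Bool := (p.1, !p.2)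

@[simp] theorem bar_bar {m : ℕ} (p : Fin m × Bool) : bar (bar p) = p := by simp [bar]

theorem bar_ne {m : ℕ} (p : Fin m × Bool) : bar p ≠ p := fun h => by
  simpa [bar] using congrArg Prod.snd h

/-- A split frame of a quadratic form. -/
structure Frame (F : Type*) [Field F] (ι : Type) [Fintype ι] [DecidableEq ι] where
  Q : QuadraticForm F (ι → F)
  m : ℕ
  e : Fin m × Bool → ι → F
  e0 : ι → F
  sing : ∀ p, Q (e p) = 0
  pair : ∀ p q, polar Q (e p) (e q) = if q = bar p then 1 else 0
  orth0 : ∀ p, polar Q (e p) e0 = 0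
  rest : ∀ x, (∀ p, polar Q (e p) x = 0) → ∃ s : F, x = s • e0
  q0 : e0 = 0 ∨ Q e0 = 1

namespace Frame

variable (K : Frame F ι)

/-- The isometry group. -/
abbrev O : Subgroup (GL ι F) := Cfsg.isometryGroup F K.Q

/-- The action on vectors. -/
def act (g : K.O) : (ι → F) →ₗ[F] (ι → F) := Matrix.mulVecLin ((g : GL ι F) : Matrix ι ι F)

theorem act_mul (g h : K.O) (x : ι → F) : K.act (g * h) x = K.act g (K.act h x) := by
  simp [act, Matrix.mulVec_mulVec]

@[simp] theorem act_one (x : ι → F) : K.act 1 x = x := by simp [act]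

theorem act_Q (g : K.O) (x : ι → F) : K.Q (K.act g x) = K.Q x := g.2 x x

theorem act_polar (g : K.O) (x y : ι → F) :
    polar K.Q (K.act g x) (K.act g y) = polar K.Q x y := by
  simp only [polar, ← map_add, act_Q]

theorem act_inv (g : K.O) {x y : ι → F} (h : K.act g x = y) : K.act g⁻¹ y = x := by
  rw [← h, ← act_mul, inv_mul_cancel, act_one]

theorem ext_act {g h : K.O} (H : ∀ x, K.act g x = K.act h x) : g = h :=
  Subtype.ext (Units.ext (Matrix.ext_iff_mulVec.2 H))

/-- Coordinates in the frame. -/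
theorem decomp (x : ι → F) : ∃ s : F, x = (∑ p, polar K.Q (K.e (bar p)) x • K.e p) + s • K.e0 := by
  obtain ⟨s, hs⟩ := K.rest (x - ∑ p, polar K.Q (K.e (bar p)) x • K.e p) fun q => by
    rw [← polarBilin_apply_apply, map_sub, map_sum]
    simp only [polarBilin_apply_apply, polar_smul_right, K.pair, smul_eq_mul, mul_ite, mul_one,
      mul_zero]
    simp
  exact ⟨s, sub_eq_iff_eq_add'.1 hs⟩

theorem ext_frame {f g : (ι → F) →ₗ[F] (ι → F)} (h : ∀ p, f (K.e p) = g (K.e p))
    (h0 : f K.e0 = g K.e0) : f = g := by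
  refine LinearMap.ext fun x => ?_
  obtain ⟨s, hs⟩ := K.decomp x
  rw [hs]; simp [map_sum, h, h0]

theorem ext_act_frame {g h : K.O} (H : ∀ p, K.act g (K.e p) = K.act h (K.e p))
    (H0 : K.act g K.e0 = K.act h K.e0) : g = h :=
  K.ext_act fun x => by rw [K.ext_frame H H0]

theorem aniso {s : F} (h : K.Q (s • K.e0) = 0) : s • K.e0 = 0 := by
  rcases K.q0 with h0 | h0
  · simp [h0]
  · rw [QuadraticMap.map_smul, h0, smul_eq_mul, mul_one, mul_self_eq_zero] at h
    simp [h]

theorem polar_self' (p : Fin K.m × Bool) : polar K.Q (K.e p) (K.e p) = 0 := by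
  rw [K.pair, if_neg (bar_ne p).symm]

/-- A Siegel transformation. -/
def sgl (e v : ι → F) : (ι → F) →ₗ[F] (ι → F) :=
  LinearMap.id + (polarBilin K.Q e).smulRight v - (polarBilin K.Q v).smulRight e
    - K.Q v • (polarBilin K.Q e).smulRight e

theorem sgl_apply (e v x : ι → F) : K.sgl e v x =
    x + polar K.Q e x • v - polar K.Q v x • e - (K.Q v * polar K.Q e x) • e := by
  simp [sgl, smul_smul]

theorem sgl_isom {e v : ι → F} (he : K.Q e = 0) (hev : polar K.Q e v = 0) (x : ι → F) :
    K.Q (K.sgl e v x) = K.Q x := by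
  rw [sgl_apply, show x + polar K.Q e x • v - polar K.Q v x • e - (K.Q v * polar K.Q e x) • e =
    (x + polar K.Q e x • v) + (-(polar K.Q v x + K.Q v * polar K.Q e x)) • e by module]
  rw [QuadraticMap.map_add K.Q (x + _), QuadraticMap.map_add K.Q x, QuadraticMap.map_smul,
    QuadraticMap.map_smul, polar_smul_right, polar_smul_right, polar_add_left, polar_smul_left,
    polar_comm _ x e, polar_comm _ x v, polar_comm _ v e, hev, he]
  simp only [smul_eq_mul]
  ring

theorem sgl_comp {e v w : ι → F} (he : K.Q e = 0) (hv : polar K.Q e v = 0)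
    (hw : polar K.Q e w = 0) (x : ι → F) : K.sgl e v (K.sgl e w x) = K.sgl e (v + w) x := by
  have he' : polar K.Q e e = 0 := by rw [polar_self, he, smul_zero]
  simp only [sgl_apply, polar_add_right, polar_sub_right, polar_smul_right, smul_eq_mul, hw, he',
    polar_comm _ v e, hv, polar_add_left, QuadraticMap.map_add K.Q]
  module

/-- `g` acts as the Siegel transformation given by `e` and `v`. -/
def IsS (g : K.O) (e v : ι → F) : Prop := ∀ x, K.act g x = K.sgl e v x

theorem exists_isS {e v : ι → F} (he : K.Q e = 0) (hev : polar K.Q e v = 0) :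
    ∃ g : K.O, K.IsS g e v := by
  have hinv : ∀ w, polar K.Q e w = 0 → ∀ x, K.sgl e w (K.sgl e (-w) x) = x := fun w hw x => by
    rw [K.sgl_comp he hw (by rw [polar_neg_right, hw, neg_zero]), add_neg_cancel, sgl_apply]
    simp
  let u : GL ι F :=
    ⟨LinearMap.toMatrix' (K.sgl e v), LinearMap.toMatrix' (K.sgl e (-v)),
      by
        rw [← LinearMap.toMatrix'_comp, ← LinearMap.toMatrix'_id]
        congr 1
        exact LinearMap.ext (hinv v hev),
      by
        rw [← LinearMap.toMatrix'_comp, ← LinearMap.toMatrix'_id]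
        congr 1
        refine LinearMap.ext fun x => ?_
        have := hinv (-v) (by rw [polar_neg_right, hev, neg_zero]) x
        rwa [neg_neg] at this⟩
  have hu : ∀ x, (u : Matrix ι ι F) *ᵥ x = K.sgl e v x := fun x => LinearMap.toMatrix'_mulVec _ _
  exact ⟨⟨u, fun x _ => by
    show K.Q ((u : Matrix ι ι F) *ᵥ x) = K.Q x
    rw [hu]; exact K.sgl_isom he hev x⟩, hu⟩

/-- The elementary subgroup. -/
def E : Subgroup K.O :=
  Subgroup.closure {g | ∃ (p : Fin K.m × Bool) (t : F),
    (∃ q, q ≠ p ∧ q ≠ bar p ∧ K.IsS g (K.e p) (t • K.e q)) ∨ K.IsS g (K.e p) (t • K.e0)}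

theorem mem_E {g : K.O} {p : Fin K.m × Bool} {v : ι → F} (hv : polar K.Q (K.e p) v = 0)
    (hg : K.IsS g (K.e p) v) : g ∈ K.E := by
  classical
  let M : AddSubmonoid (ι → F) :=
    { carrier := {w | polar K.Q (K.e p) w = 0 ∧ ∀ g, K.IsS g (K.e p) w → g ∈ K.E}
      zero_mem' := ⟨polar_zero_right _ _, fun g hg => by
        have : g = 1 := K.ext_act fun x => by rw [hg x, sgl_apply]; simp
        rw [this]; exact one_mem _⟩
      add_mem' := fun {a b} ha hb => ⟨by rw [polar_add_right, ha.1, hb.1, add_zero], fun g hg => by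
        obtain ⟨g₁, h₁⟩ := K.exists_isS (K.sing p) ha.1
        obtain ⟨g₂, h₂⟩ := K.exists_isS (K.sing p) hb.1
        have : g = g₁ * g₂ := K.ext_act fun x => by
          rw [hg x, act_mul, h₂ x, h₁ _, K.sgl_comp (K.sing p) ha.1 hb.1]
        rw [this]; exact mul_mem (ha.2 _ h₁) (hb.2 _ h₂)⟩ }
  suffices h : v ∈ M from h.2 g hg
  obtain ⟨s, hs⟩ := K.decomp v
  rw [hs]
  refine M.add_mem (M.sum_mem fun q _ => ?_) ⟨by rw [polar_smul_right, K.orth0, smul_zero],
    fun g hg => Subgroup.subset_closure ⟨p, s, Or.inr hg⟩⟩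
  by_cases hq : q = bar p
  · subst hq
    rw [bar_bar, hv, zero_smul]; exact M.zero_mem
  refine ⟨by rw [polar_smul_right, K.pair, if_neg hq, smul_zero], fun g hg => ?_⟩
  by_cases hqp : q = p
  · subst hqp
    have : g = 1 := K.ext_act fun x => by
      rw [hg x, sgl_apply, QuadraticMap.map_smul, K.sing, polar_smul_left, act_one]
      simp [smul_smul, mul_comm]
    rw [this]; exact one_mem _
  · exact Subgroup.subset_closure ⟨p, _, Or.inl ⟨q, hqp, hq, hg⟩⟩

theorem exists_mem_E (p : Fin K.m × Bool) {v : ι → F} (hv : polar K.Q (K.e p) v = 0) :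
    ∃ g ∈ K.E, K.IsS g (K.e p) v := by
  obtain ⟨g, hg⟩ := K.exists_isS (K.sing p) hv
  exact ⟨g, K.mem_E hv hg, hg⟩

/-! ### Transitivity -/

/-- The vector lives on the pairs in `J`. -/
def Supp (J : Finset (Fin K.m)) (x : ι → F) : Prop := ∀ p, p.1 ∉ J → polar K.Q (K.e p) x = 0

/-- The isometry fixes the pairs outside `J`. -/
def Fixes (J : Finset (Fin K.m)) (g : K.O) : Prop := ∀ p, p.1 ∉ J → K.act g (K.e p) = K.e p

theorem Fixes.mul {J : Finset (Fin K.m)} {g h : K.O} (hg : K.Fixes J g) (hh : K.Fixes J h) :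
    K.Fixes J (g * h) := fun p hp => by rw [act_mul, hh p hp, hg p hp]

theorem Fixes.inv {J : Finset (Fin K.m)} {g : K.O} (hg : K.Fixes J g) : K.Fixes J g⁻¹ :=
  fun p hp => K.act_inv g (hg p hp)

theorem Fixes.supp {J : Finset (Fin K.m)} {g : K.O} (hg : K.Fixes J g) {x : ι → F}
    (hx : K.Supp J x) : K.Supp J (K.act g x) := fun p hp => by
  rw [← hg p hp, act_polar, hx p hp]

theorem supp_e {J : Finset (Fin K.m)} {q : Fin K.m × Bool} (hq : q.1 ∈ J) : K.Supp J (K.e q) :=
  fun p hp => by
    rw [K.pair, if_neg]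
    rintro rfl; exact hp hq

theorem exists_fix {J : Finset (Fin K.m)} {p : Fin K.m × Bool} (hp : p.1 ∈ J) {v : ι → F}
    (hv : polar K.Q (K.e p) v = 0) (hs : K.Supp J v) :
    ∃ g ∈ K.E, K.Fixes J g ∧ K.IsS g (K.e p) v := by
  obtain ⟨g, hg, hS⟩ := K.exists_mem_E p hv
  refine ⟨g, hg, fun q hq => ?_, hS⟩
  rw [hS, sgl_apply, K.supp_e hp q hq |> fun h => (polar_comm _ _ _).trans h,
    (polar_comm _ _ _).trans (hs q hq)]
  simp

theorem move_second {J : Finset (Fin K.m)} {p : Fin K.m × Bool} (hp : p.1 ∈ J) {y : ι → F}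
    (hy : K.Q y = 0) (hs : K.Supp J y) (h1 : polar K.Q (K.e p) y = 1) :
    ∃ g ∈ K.E, K.Fixes J g ∧ K.act g (K.e p) = K.e p ∧ K.act g (K.e (bar p)) = y := by
  set c := polar K.Q (K.e (bar p)) y with hc
  set v := y - K.e (bar p) - c • K.e p with hv
  have hpv : polar K.Q (K.e p) v = 0 := by
    rw [hv, polar_sub_right, polar_sub_right, polar_smul_right, h1, K.pair, if_pos rfl, K.polar_self']
    simp
  have hbv : polar K.Q (K.e (bar p)) v = 0 := by
    rw [hv, polar_sub_right, polar_sub_right, polar_smul_right, ← hc, K.polar_self', K.pair,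
      bar_bar, if_pos rfl]
    simp
  have hsv : K.Supp J v := fun q hq => by
    rw [hv, polar_sub_right, polar_sub_right, polar_smul_right, hs q hq,
      K.supp_e (q := bar p) hp q hq, K.supp_e hp q hq]
    simp
  obtain ⟨g, hg, hf, hS⟩ := K.exists_fix hp hpv hsv
  refine ⟨g, hg, hf, ?_, ?_⟩
  · rw [hS, sgl_apply, K.polar_self', polar_comm _ v, hpv]; simp
  · rw [hS, sgl_apply, K.pair, if_pos rfl, polar_comm _ v, hbv]
    have e : K.Q v + c = 0 := by
      have e1 : y = v + (K.e (bar p) + c • K.e p) := by rw [hv]; abel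
      have e2 := congrArg K.Q e1
      rw [hy, QuadraticMap.map_add K.Q v, QuadraticMap.map_add K.Q (K.e (bar p)),
        QuadraticMap.map_smul, K.sing, K.sing, polar_add_right, polar_smul_right, polar_smul_right,
        polar_comm _ v, polar_comm _ v, hbv, hpv, K.pair, bar_bar, if_pos rfl] at e2
      simpa using e2.symm
    rw [eq_neg_of_add_eq_zero_left e, hv]
    module

theorem move_first_core {J : Finset (Fin K.m)} {k : Fin K.m} (hk : k ∈ J) {x : ι → F}
    (hx : K.Q x = 0) (hs : K.Supp J x) {q : Fin K.m × Bool} (hq : q.1 ∈ J) (hqk : q.1 ≠ k)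
    (hne : polar K.Q (K.e q) x ≠ 0) :
    ∃ g ∈ K.E, K.Fixes J g ∧ K.act g (K.e (k, false)) = x := by
  set a : Fin K.m × Bool := (k, false)
  have hqa : q ≠ a := fun h => hqk (congrArg Prod.fst h)
  have hqb : q ≠ bar a := fun h => hqk (congrArg Prod.fst h)
  set t := (polar K.Q (K.e (bar a)) x - 1) / polar K.Q (K.e q) x with ht
  have hv : polar K.Q (K.e a) (t • K.e q) = 0 := by
    rw [polar_smul_right, K.pair, if_neg hqb, smul_zero]
  have hsv : K.Supp J (t • K.e q) := fun r hr => by
    rw [polar_smul_right, K.supp_e hq r hr, smul_zero]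
  obtain ⟨g, hg, hf, hS⟩ := K.exists_fix (p := a) hk hv hsv
  have h1 : polar K.Q (K.e (bar a)) (K.act g x) = 1 := by
    rw [hS, sgl_apply, polar_sub_right, polar_sub_right, polar_add_right, polar_smul_right,
      polar_smul_right, polar_smul_right, polar_smul_right, polar_smul_left, QuadraticMap.map_smul,
      K.sing q, K.pair (bar a) q, bar_bar, if_neg hqa, K.pair (bar a) a, bar_bar, if_pos rfl]
    simp only [smul_eq_mul, mul_zero, zero_mul, add_zero, mul_one, sub_zero]
    rw [ht, div_mul_cancel₀ _ hne]; ring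
  obtain ⟨g', hg', hf', -, h2⟩ := K.move_second (p := bar a) (J := J) hk
    (by rw [act_Q, hx]) (hf.supp K hs) h1
  rw [bar_bar] at h2
  refine ⟨g⁻¹ * g', mul_mem (inv_mem hg) hg', (hf.inv K).mul K hf', ?_⟩
  rw [act_mul, h2]
  exact K.act_inv g rfl

theorem move_first {J : Finset (Fin K.m)} {k j : Fin K.m} (hk : k ∈ J) (hj : j ∈ J) (hjk : j ≠ k)
    {x : ι → F} (hx : K.Q x = 0) (hx0 : x ≠ 0) (hs : K.Supp J x) :
    ∃ g ∈ K.E, K.Fixes J g ∧ K.act g (K.e (k, false)) = x := by
  by_cases h : ∃ q : Fin K.m × Bool, q.1 ∈ J ∧ q.1 ≠ k ∧ polar K.Q (K.e q) x ≠ 0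
  · obtain ⟨q, h1, h2, h3⟩ := h
    exact K.move_first_core hk hx hs h1 h2 h3
  push Not at h
  obtain ⟨b, hb⟩ : ∃ b : Bool, polar K.Q (K.e (k, b)) x ≠ 0 := by
    by_contra hb
    push Not at hb
    obtain ⟨s, rfl⟩ := K.rest x fun p => by
      by_cases hp : p.1 ∈ J
      · by_cases hpk : p.1 = k
        · have := hb p.2; rwa [← hpk] at this
        · exact h p hp hpk
      · exact hs p hp
    exact hx0 (K.aniso hx)
  have hv : polar K.Q (K.e (k, b)) (K.e (j, false)) = 0 := by
    rw [K.pair, if_neg]; intro e; exact hjk (congrArg Prod.fst e)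
  obtain ⟨g, hg, hf, hS⟩ := K.exists_fix (p := (k, b)) hk hv (K.supp_e hj)
  have hne : polar K.Q (K.e (j, true)) (K.act g x) ≠ 0 := by
    rw [hS, sgl_apply, polar_sub_right, polar_sub_right, polar_add_right, polar_smul_right,
      polar_smul_right, polar_smul_right, h (j, true) hj hjk, K.sing, K.pair, if_pos (by rfl)]
    simpa [K.pair, bar, Prod.ext_iff, hjk, hjk.symm] using hb
  obtain ⟨g', hg', hf', h2⟩ := K.move_first_core hk (by rw [act_Q, hx]) (hf.supp K hs)
    (q := (j, true)) hj hjk hne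
  exact ⟨g⁻¹ * g', mul_mem (inv_mem hg) hg', (hf.inv K).mul K hf', by
    rw [act_mul, h2]; exact K.act_inv g rfl⟩

/-- Every isometry agrees, up to the elementary subgroup, with one fixing all pairs but the `k`th. -/
theorem reduce {k : Fin K.m} : ∀ (J : Finset (Fin K.m)), k ∈ J → ∀ g : K.O, K.Fixes J g →
    ∃ h ∈ K.E, K.Fixes {k} (h⁻¹ * g) := by
  intro J
  induction J using Finset.strongInduction with
  | _ J ih =>
    intro hk g hg
    by_cases hJ : J = {k}
    · exact ⟨1, one_mem _, by rw [inv_one, one_mul, ← hJ]; exact hg⟩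
    obtain ⟨j, hj, hjk⟩ : ∃ j ∈ J, j ≠ k := by
      by_contra h
      push Not at h
      exact hJ (Finset.eq_singleton_iff_unique_mem.2 ⟨hk, h⟩)
    have hne : K.act g (K.e (j, false)) ≠ 0 := fun e => by
      have := K.act_polar g (K.e (j, false)) (K.e (j, true))
      rw [e, K.pair, if_pos (by rfl), polar_zero_left] at this
      exact zero_ne_one this
    obtain ⟨h₁, hh₁, hf₁, e₁⟩ := K.move_first hj hk hjk.symm (by rw [act_Q, K.sing]) hne
      (hg.supp K (K.supp_e hj))
    have hf : K.Fixes J (h₁⁻¹ * g) := (hf₁.inv K).mul K hg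
    have ea : K.act (h₁⁻¹ * g) (K.e (j, false)) = K.e (j, false) := by
      rw [act_mul]; exact K.act_inv h₁ e₁
    obtain ⟨h₂, hh₂, hf₂, ea₂, eb₂⟩ := K.move_second (p := (j, false)) (J := J)
      (y := K.act (h₁⁻¹ * g) (K.e (j, true))) hj (by rw [act_Q, K.sing]) (hf.supp K (K.supp_e hj))
      (by rw [← ea, act_polar, K.pair, if_pos (by rfl)])
    have hf' : K.Fixes (J.erase j) (h₂⁻¹ * (h₁⁻¹ * g)) := fun p hp => by
      by_cases hpJ : p.1 ∈ J
      · have hpj : p.1 = j := by
          by_contra h; exact hp (Finset.mem_erase.2 ⟨h, hpJ⟩)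
        obtain ⟨p1, p2⟩ := p
        obtain rfl : p1 = j := hpj
        cases p2
        · rw [act_mul, ea]; exact K.act_inv h₂ ea₂
        · rw [act_mul]; exact K.act_inv h₂ eb₂
      · exact ((hf₂.inv K).mul K hf) p hpJ
    obtain ⟨h, hh, hfh⟩ := ih (J.erase j) (Finset.erase_ssubset hj)
      (Finset.mem_erase.2 ⟨hjk.symm, hk⟩) _ hf'
    refine ⟨h₁ * h₂ * h, mul_mem (mul_mem hh₁ hh₂) hh, ?_⟩
    rw [show (h₁ * h₂ * h)⁻¹ * g = h⁻¹ * (h₂⁻¹ * (h₁⁻¹ * g)) by group]
    exact hfh

/-! ### Reflections -/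

/-- A reflection. -/
def refl' (u : ι → F) : (ι → F) →ₗ[F] (ι → F) :=
  LinearMap.id - (K.Q u)⁻¹ • (polarBilin K.Q u).smulRight u

theorem refl'_apply (u x : ι → F) : K.refl' u x = x - ((K.Q u)⁻¹ * polar K.Q u x) • u := by
  simp [refl', smul_smul]

/-- `g` acts as the reflection in `u`. -/
def IsR (g : K.O) (u : ι → F) : Prop := ∀ x, K.act g x = K.refl' u x

theorem exists_isR {u : ι → F} (hu : K.Q u ≠ 0) : ∃ g : K.O, K.IsR g u := by
  have hsq : ∀ x, K.refl' u (K.refl' u x) = x := fun x => by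
    simp only [refl'_apply, polar_sub_right, polar_smul_right, smul_eq_mul, polar_self,
      nsmul_eq_mul]
    match_scalars
    · ring
    · field_simp; ring
  let w : GL ι F := ⟨LinearMap.toMatrix' (K.refl' u), LinearMap.toMatrix' (K.refl' u),
    by rw [← LinearMap.toMatrix'_comp, ← LinearMap.toMatrix'_id]; congr 1; exact LinearMap.ext hsq,
    by rw [← LinearMap.toMatrix'_comp, ← LinearMap.toMatrix'_id]; congr 1; exact LinearMap.ext hsq⟩
  have hw : ∀ x, (w : Matrix ι ι F) *ᵥ x = K.refl' u x := fun x => LinearMap.toMatrix'_mulVec _ _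
  refine ⟨⟨w, fun x _ => ?_⟩, hw⟩
  show K.Q ((w : Matrix ι ι F) *ᵥ x) = K.Q x
  rw [hw, refl'_apply, sub_eq_add_neg, ← neg_smul, QuadraticMap.map_add K.Q,
    QuadraticMap.map_smul, polar_smul_right, polar_comm _ x u, smul_eq_mul, smul_eq_mul]
  field_simp
  ring

theorem conj_isS {g x : K.O} {e v : ι → F} (h : K.IsS x e v) :
    K.IsS (g * x * g⁻¹) (K.act g e) (K.act g v) := by
  intro y
  have hy : K.act g (K.act g⁻¹ y) = y := by rw [← act_mul, mul_inv_cancel, act_one]
  rw [act_mul, act_mul, h, sgl_apply, sgl_apply, map_sub, map_sub, map_add, map_smul, map_smul,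
    map_smul, hy, act_Q]
  conv_rhs => rw [← hy, act_polar, act_polar]
  rw [hy]

theorem sgl_smul (e v : ι → F) (c : F) : K.sgl (c • e) v = K.sgl e (c • v) := by
  refine LinearMap.ext fun x => ?_
  simp only [sgl_apply, polar_smul_left, QuadraticMap.map_smul, smul_eq_mul]
  module

/-- An isometry which permutes the lines of the frame normalizes `E`. -/
theorem normalize {g : K.O} (h : ∀ p, ∃ (c : F) (q : _), K.act g (K.e p) = c • K.e q) :
    ∀ x ∈ K.E, g * x * g⁻¹ ∈ K.E := by
  have hgen : ∀ (p : Fin K.m × Bool) (v : ι → F) (x : K.O), polar K.Q (K.e p) v = 0 →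
      K.IsS x (K.e p) v → g * x * g⁻¹ ∈ K.E := by
    intro p v x hv hx
    obtain ⟨c, q, hq⟩ := h p
    have e := K.conj_isS (g := g) hx
    rw [hq] at e
    refine K.mem_E (p := q) (v := c • K.act g v) ?_ fun y => by rw [e y, K.sgl_smul]
    rw [← hv, ← K.act_polar g (K.e p) v, hq, polar_smul_left, polar_smul_right]
  intro x hx
  induction hx using Subgroup.closure_induction with
  | mem x hx =>
    obtain ⟨p, t, ⟨q, -, hq, hS⟩ | hS⟩ := hx
    · exact hgen p _ x (by rw [polar_smul_right, K.pair, if_neg hq, smul_zero]) hS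
    · exact hgen p _ x (by rw [polar_smul_right, K.orth0, smul_zero]) hS
  | one => simp
  | mul a b _ _ ha hb =>
    rw [show g * (a * b) * g⁻¹ = (g * a * g⁻¹) * (g * b * g⁻¹) by group]; exact mul_mem ha hb
  | inv a _ ha =>
    rw [show g * a⁻¹ * g⁻¹ = (g * a * g⁻¹)⁻¹ by group]; exact inv_mem ha

/-! ### The torus -/

/-- The vector of a reflection on one pair. -/
def wv (k : Fin K.m) (c : F) : ι → F := K.e (k, false) - c • K.e (k, true)

theorem Q_wv (k : Fin K.m) (c : F) : K.Q (K.wv k c) = -c := by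
  rw [wv, sub_eq_add_neg, ← neg_smul, QuadraticMap.map_add K.Q, QuadraticMap.map_smul, K.sing,
    K.sing, polar_smul_right, K.pair, if_pos (by rfl)]
  simp

variable {K}

theorem w_false {k : Fin K.m} {c : F} (hc : c ≠ 0) {g : K.O} (h : K.IsR g (K.wv k c)) :
    K.act g (K.e (k, false)) = c • K.e (k, true) := by
  rw [h, refl'_apply, Q_wv, wv, polar_sub_left, polar_smul_left, K.polar_self',
    K.pair (k, true), if_pos (by rfl), smul_eq_mul, mul_one, zero_sub,
    inv_mul_cancel₀ (neg_ne_zero.2 hc), one_smul]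
  abel

theorem w_true {k : Fin K.m} {c : F} (hc : c ≠ 0) {g : K.O} (h : K.IsR g (K.wv k c)) :
    K.act g (K.e (k, true)) = c⁻¹ • K.e (k, false) := by
  rw [h, refl'_apply, Q_wv, wv, polar_sub_left, polar_smul_left, K.polar_self',
    K.pair (k, false), if_pos (by rfl), smul_eq_mul, mul_zero, sub_zero, mul_one, inv_neg,
    smul_sub, smul_smul, neg_mul, inv_mul_cancel₀ hc]
  module

theorem w_fix {k : Fin K.m} {c : F} {g : K.O} (h : K.IsR g (K.wv k c)) {p : Fin K.m × Bool}
    (hp : p.1 ≠ k) : K.act g (K.e p) = K.e p := by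
  rw [h, refl'_apply, wv, polar_sub_left, polar_smul_left, K.pair (k, false), K.pair (k, true),
    if_neg (fun e => hp (congrArg Prod.fst e)), if_neg (fun e => hp (congrArg Prod.fst e))]
  simp

theorem w_e0 {k : Fin K.m} {c : F} {g : K.O} (h : K.IsR g (K.wv k c)) :
    K.act g K.e0 = K.e0 := by
  rw [h, refl'_apply, wv, polar_sub_left, polar_smul_left, K.orth0, K.orth0]
  simp

theorem r_fix {g : K.O} (h : K.IsR g K.e0) (p : Fin K.m × Bool) :
    K.act g (K.e p) = K.e p := by
  rw [h, refl'_apply, polar_comm, K.orth0]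
  simp

theorem r_e0 {g : K.O} (h : K.IsR g K.e0) : K.act g K.e0 = -K.e0 := by
  rcases K.q0 with h0 | h0
  · simp [h0]
  · rw [h, refl'_apply, polar_self, h0]
    module

variable (K)

/-- The square torus elements lie in `E`. -/
theorem torus_mem {j k : Fin K.m} (hjk : j ≠ k) {c : F} (hc : c ≠ 0) :
    ∃ g ∈ K.E, (K.act g (K.e (k, false)) = (c * c) • K.e (k, false)) ∧
      (K.act g (K.e (k, true)) = (c * c)⁻¹ • K.e (k, true)) ∧
      (∀ p : Fin K.m × Bool, p.1 ≠ k → K.act g (K.e p) = K.e p) ∧ K.act g K.e0 = K.e0 := by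
  -- the torus element of the root given by `(k, false)` and `(j, b)`
  have key : ∀ b : Bool, ∃ g ∈ K.E, K.act g (K.e (k, false)) = c • K.e (k, false) ∧
      K.act g (K.e (k, true)) = c⁻¹ • K.e (k, true) ∧ K.act g (K.e (j, b)) = c • K.e (j, b) ∧
      K.act g (K.e (j, !b)) = c⁻¹ • K.e (j, !b) ∧
      (∀ p : Fin K.m × Bool, p.1 ≠ k → p.1 ≠ j → K.act g (K.e p) = K.e p) ∧
      K.act g K.e0 = K.e0 := by
    intro b
    have ha : ∀ t : F, polar K.Q (K.e (k, false)) (t • K.e (j, b)) = 0 := fun t => by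
      rw [polar_smul_right, K.pair, if_neg (fun e => hjk (congrArg Prod.fst e)), smul_zero]
    have hb : ∀ t : F, polar K.Q (K.e (k, true)) (t • K.e (j, !b)) = 0 := fun t => by
      rw [polar_smul_right, K.pair, if_neg (fun e => hjk (congrArg Prod.fst e)), smul_zero]
    obtain ⟨u, hu, hu'⟩ := K.exists_mem_E (k, false) (ha c)
    obtain ⟨l, hl, hl'⟩ := K.exists_mem_E (k, true) (hb c⁻¹)
    obtain ⟨u₁, hu₁, hu₁'⟩ := K.exists_mem_E (k, false) (ha (-1))
    obtain ⟨l₁, hl₁, hl₁'⟩ := K.exists_mem_E (k, true) (hb (-1))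
    refine ⟨u * l * u * (u₁ * l₁ * u₁),
      mul_mem (mul_mem (mul_mem hu hl) hu) (mul_mem (mul_mem hu₁ hl₁) hu₁), ?_⟩
    have hjk' : k ≠ j := hjk.symm
    have hnb : (b == !b) = false := by cases b <;> rfl
    refine ⟨?_, ?_, ?_, ?_, fun p h1 h2 => ?_, ?_⟩ <;>
      simp [act_mul, hu' _, hl' _, hu₁' _, hl₁' _, sgl_apply, QuadraticMap.map_smul, K.sing, K.pair, K.orth0,
        polar_smul_left, bar, Prod.ext_iff, polar_add_right, polar_sub_right, polar_smul_right,
        polar_neg_left, polar_neg_right, hjk, hjk', *] <;>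
      match_scalars <;> field_simp <;> ring
  obtain ⟨g₁, h₁, a1, b1, c1, d1, f1, z1⟩ := key false
  obtain ⟨g₂, h₂, a2, b2, c2, d2, f2, z2⟩ := key true
  refine ⟨g₁ * g₂, mul_mem h₁ h₂, ?_, ?_, fun p hp => ?_, ?_⟩
  · rw [act_mul, a2, map_smul, a1, smul_smul]
  · rw [act_mul, b2, map_smul, b1, smul_smul, mul_inv]
  · by_cases hpj : p.1 = j
    · obtain ⟨p1, p2⟩ := p
      obtain rfl : p1 = j := hpj
      simp only [Bool.not_true, Bool.not_false] at d1 d2
      cases p2
      · rw [act_mul, d2, map_smul, c1, smul_smul, inv_mul_cancel₀ hc, one_smul]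
      · rw [act_mul, c2, map_smul, d1, smul_smul, mul_inv_cancel₀ hc, one_smul]
    · rw [act_mul, f2 p hp hpj, f1 p hp hpj]
  · rw [act_mul, z2, z1]

/-- The reflections on the `k`th pair and in the anisotropic vector. -/
def H (k : Fin K.m) : Set K.O :=
  {g | (∃ c, c ≠ 0 ∧ K.IsR g (K.wv k c)) ∨ K.IsR g K.e0}

theorem h_normalize {k : Fin K.m} {g : K.O} (hg : g ∈ K.H k) (p : Fin K.m × Bool) :
    ∃ (c : F) (q : _), K.act g (K.e p) = c • K.e q := by
  rcases hg with ⟨c, hc, h⟩ | h
  · by_cases hp : p.1 = k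
    · obtain ⟨p1, p2⟩ := p
      obtain rfl : p1 = k := hp
      cases p2
      · exact ⟨c, _, w_false hc h⟩
      · exact ⟨c⁻¹, _, w_true hc h⟩
    · exact ⟨1, p, by rw [w_fix h hp, one_smul]⟩
  · exact ⟨1, p, by rw [r_fix h p, one_smul]⟩

/-- The residual isometries. -/
theorem residual {k : Fin K.m} (g : K.O) (hg : K.Fixes {k} g) :
    g ∈ Subgroup.closure ((K.E : Set K.O) ∪ K.H k) := by
  set C := Subgroup.closure ((K.E : Set K.O) ∪ K.H k)
  have hEC : ∀ x ∈ K.E, x ∈ C := fun x hx => Subgroup.subset_closure (Or.inl hx)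
  have hk : k ∈ ({k} : Finset (Fin K.m)) := Finset.mem_singleton_self k
  -- an isometry scaling the first vector of the pair
  have main : ∀ g : K.O, K.Fixes {k} g → ∀ c : F, c ≠ 0 →
      K.act g (K.e (k, false)) = c • K.e (k, false) → g ∈ C := by
    intro g hg c hc hgc
    obtain ⟨h, hh, hf, ha, hb⟩ := K.move_second (p := (k, false)) (J := {k})
      (y := c • K.act g (K.e (k, true))) hk (by rw [QuadraticMap.map_smul, act_Q, K.sing, smul_zero])
      (fun p hp => by rw [polar_smul_right, hg.supp K (K.supp_e (q := (k, true)) hk) p hp, smul_zero])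
      (by
        rw [polar_smul_right, ← polar_smul_left, ← hgc, act_polar, K.pair, if_pos (by rfl)])
    set g' := h⁻¹ * g
    have hfa : K.act g' (K.e (k, false)) = c • K.e (k, false) := by
      rw [act_mul, hgc, map_smul, K.act_inv h ha]
    have hfb : K.act g' (K.e (k, true)) = c⁻¹ • K.e (k, true) := by
      rw [act_mul]
      refine K.act_inv h ?_
      rw [map_smul, show K.act h (K.e (k, true)) = _ from hb, smul_smul, inv_mul_cancel₀ hc, one_smul]
    have hf' : K.Fixes {k} g' := (hf.inv K).mul K hg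
    obtain ⟨s, hs⟩ := K.rest (K.act g' K.e0) fun p => by
      by_cases hp : p.1 = k
      · obtain ⟨p1, p2⟩ := p
        obtain rfl : p1 = k := hp
        cases p2
        · have := K.act_polar g' (K.e (p1, false)) K.e0
          rw [hfa, polar_smul_left, K.orth0] at this
          exact (smul_eq_zero.1 this).resolve_left hc
        · have := K.act_polar g' (K.e (p1, true)) K.e0
          rw [hfb, polar_smul_left, K.orth0] at this
          exact (smul_eq_zero.1 this).resolve_left (inv_ne_zero hc)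
      · have := K.act_polar g' (K.e p) K.e0
        rwa [hf' p (by simpa using hp), K.orth0] at this
    have hs' : K.act g' K.e0 = K.e0 ∨ K.act g' K.e0 = -K.e0 := by
      rcases K.q0 with h0 | h0
      · simp [h0]
      · have := K.act_Q g' K.e0
        rw [hs, QuadraticMap.map_smul, h0, smul_eq_mul, mul_one] at this
        rcases mul_self_eq_one_iff.1 this with rfl | rfl
        · left; simpa using hs
        · right; simpa using hs
    obtain ⟨w₁, hw₁⟩ := K.exists_isR (u := K.wv k 1) (by rw [Q_wv]; simp)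
    obtain ⟨w₂, hw₂⟩ := K.exists_isR (u := K.wv k c) (by rw [Q_wv]; simpa using hc)
    have hWC : w₁ * w₂ ∈ C := mul_mem (Subgroup.subset_closure (Or.inr (Or.inl ⟨1, one_ne_zero, hw₁⟩)))
      (Subgroup.subset_closure (Or.inr (Or.inl ⟨c, hc, hw₂⟩)))
    have hgW : ∀ p, K.act g' (K.e p) = K.act (w₁ * w₂) (K.e p) := fun p => by
      by_cases hp : p.1 = k
      · obtain ⟨p1, p2⟩ := p
        obtain rfl : p1 = k := hp
        cases p2
        · rw [hfa, act_mul, w_false hc hw₂, map_smul, w_true one_ne_zero hw₁, inv_one, one_smul]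
        · rw [hfb, act_mul, w_true hc hw₂, map_smul, w_false one_ne_zero hw₁, one_smul]
      · rw [hf' p (by simpa using hp), act_mul, w_fix hw₂ hp, w_fix hw₁ hp]
    have hg'C : g' ∈ C := by
      have hW0 : K.act (w₁ * w₂) K.e0 = K.e0 := by rw [act_mul, w_e0 hw₂, w_e0 hw₁]
      rcases K.q0 with h0 | h0
      · rw [K.ext_act_frame hgW (by simp [h0])]; exact hWC
      rcases hs' with h' | h'
      · rw [K.ext_act_frame hgW (h'.trans hW0.symm)]; exact hWC
      · obtain ⟨r, hr⟩ := K.exists_isR (u := K.e0) (by rw [h0]; exact one_ne_zero)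
        have e : g' = r * (w₁ * w₂) := K.ext_act_frame (fun p => by
            rw [hgW p, act_mul K r]
            obtain ⟨d, q, hq⟩ : ∃ (d : F) (q : _), K.act (w₁ * w₂) (K.e p) = d • K.e q := by
              rw [← hgW p]
              by_cases hp : p.1 = k
              · obtain ⟨p1, p2⟩ := p
                obtain rfl : p1 = k := hp
                cases p2
                · exact ⟨_, _, hfa⟩
                · exact ⟨_, _, hfb⟩
              · exact ⟨1, p, by rw [hf' p (by simpa using hp), one_smul]⟩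
            rw [hq, map_smul, r_fix hr])
          (by rw [h', act_mul, hW0, r_e0 hr])
        rw [e]; exact mul_mem (Subgroup.subset_closure (Or.inr (Or.inr hr))) hWC
    have : g = h * g' := by rw [mul_inv_cancel_left]
    rw [this]; exact mul_mem (hEC h hh) hg'C
  set x := K.act g (K.e (k, false)) with hx
  have hsx : K.Supp {k} x := hg.supp K (K.supp_e hk)
  have hQx : K.Q x = 0 := by rw [hx, act_Q, K.sing]
  set c := polar K.Q (K.e (k, true)) x with hc
  obtain ⟨s, hs⟩ := K.decomp x
  have hsum : x = c • K.e (k, false) + polar K.Q (K.e (k, false)) x • K.e (k, true) + s • K.e0 := by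
    conv_lhs => rw [hs]
    congr 1
    rw [Fintype.sum_prod_type, Finset.sum_eq_single k (fun j _ hj => by
      simp [hsx (bar (j, true)) (by simpa [bar] using hj),
        hsx (bar (j, false)) (by simpa [bar] using hj)]) (by simp), Fintype.sum_bool, add_comm]
    rfl
  set d := polar K.Q (K.e (k, false)) x
  have hQ : c * d + s * s * K.Q K.e0 = 0 := by
    rw [hsum, QuadraticMap.map_add K.Q, QuadraticMap.map_add K.Q, QuadraticMap.map_smul,
      QuadraticMap.map_smul, QuadraticMap.map_smul, K.sing, K.sing, polar_smul_left, polar_smul_right,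
      polar_add_left, polar_smul_left, polar_smul_left, polar_smul_right, polar_smul_right,
      K.orth0, K.orth0, K.pair, if_pos (by rfl)] at hQx
    simpa [mul_assoc] using hQx
  by_cases hc0 : c = 0
  · rw [hc0, zero_mul, zero_add] at hQ
    have hs0 : s • K.e0 = 0 := K.aniso (by rw [QuadraticMap.map_smul, smul_eq_mul]; exact hQ)
    rw [hc0, hs0, zero_smul, zero_add, add_zero] at hsum
    have hd : d ≠ 0 := fun h0 => by
      have := K.act_polar g (K.e (k, false)) (K.e (k, true))
      rw [← hx, hsum, h0, zero_smul, polar_zero_left, K.pair, if_pos (by rfl)] at this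
      exact zero_ne_one this
    obtain ⟨w, hw⟩ := K.exists_isR (u := K.wv k 1) (by rw [Q_wv]; simp)
    have hwC : w ∈ C := Subgroup.subset_closure (Or.inr (Or.inl ⟨1, one_ne_zero, hw⟩))
    have hwg : w * g ∈ C := main _ (fun p hp => by
        rw [act_mul, hg p hp, w_fix hw (by simpa using hp)]) d hd (by
        rw [act_mul, ← hx, hsum, map_smul, w_true one_ne_zero hw, inv_one, one_smul])
    rw [← inv_mul_cancel_left w g]; exact mul_mem (inv_mem hwC) hwg
  · have hv : polar K.Q (K.e (k, true)) ((s / c) • K.e0) = 0 := by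
      rw [polar_smul_right, K.orth0, smul_zero]
    obtain ⟨h, hh, hf, hS⟩ := K.exists_fix (p := (k, true)) (J := {k}) hk hv fun p _ => by
      rw [polar_smul_right, K.orth0, smul_zero]
    have hha : K.act h (c • K.e (k, false)) = x := by
      rw [map_smul, hS, sgl_apply, K.pair (k, true), if_pos (by rfl), polar_smul_left,
        polar_comm _ K.e0, K.orth0, QuadraticMap.map_smul, hsum]
      have hd : d = -(s * s * K.Q K.e0) / c := by
        field_simp
        linear_combination hQ
      rw [hd]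
      simp only [smul_eq_mul, mul_one, mul_zero]
      match_scalars <;> field_simp <;> ring
    have := main (h⁻¹ * g) ((hf.inv K).mul K hg) c hc0 (by rw [act_mul]; exact K.act_inv h hha)
    rw [← mul_inv_cancel_left h g]; exact mul_mem (hEC h hh) this

theorem closure_eq_top (k : Fin K.m) : Subgroup.closure ((K.E : Set K.O) ∪ K.H k) = ⊤ := by
  rw [eq_top_iff]
  intro g _
  obtain ⟨h, hh, hf⟩ := K.reduce Finset.univ (Finset.mem_univ k) g fun p hp =>
    absurd (Finset.mem_univ _) hp
  rw [← mul_inv_cancel_left h g]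
  exact mul_mem (Subgroup.subset_closure (Or.inl hh)) (K.residual _ hf)

theorem normal (k : Fin K.m) : K.E.Normal := by
  have hn : ∀ g ∈ K.H k, g * g = 1 := by
    rintro g (⟨c, hc, hg⟩ | hg)
    · refine K.ext_act_frame (fun p => ?_) (by rw [act_mul, w_e0 hg, w_e0 hg, act_one])
      rw [act_one, act_mul]
      by_cases hp : p.1 = k
      · obtain ⟨p1, p2⟩ := p
        obtain rfl : p1 = k := hp
        cases p2
        · rw [w_false hc hg, map_smul, w_true hc hg, smul_smul, mul_inv_cancel₀ hc, one_smul]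
        · rw [w_true hc hg, map_smul, w_false hc hg, smul_smul, inv_mul_cancel₀ hc, one_smul]
      · rw [w_fix hg hp, w_fix hg hp]
    · exact K.ext_act_frame (fun p => by rw [act_one, act_mul, r_fix hg, r_fix hg])
        (by rw [act_one, act_mul, r_e0 hg, map_neg, r_e0 hg, neg_neg])
  rw [← Subgroup.normalizer_eq_top_iff, eq_top_iff, ← K.closure_eq_top k, Subgroup.closure_le]
  rintro g (hg | hg)
  · exact Subgroup.le_normalizer hg
  · refine Subgroup.mem_normalizer_iff.2 fun x => ⟨K.normalize (K.h_normalize hg) x, fun hx => ?_⟩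
    have e : g⁻¹ = g := inv_eq_of_mul_eq_one_right (hn g hg)
    have := K.normalize (K.h_normalize hg) _ hx
    rwa [e, show g * (g * x * g) * g = (g * g) * x * (g * g) by group, hn g hg, one_mul,
      mul_one] at this

/-- The commutator subgroup of the isometry group lies in the elementary subgroup. -/
theorem commutator_le (hm : 2 ≤ K.m) : commutator K.O ≤ K.E := by
  set k : Fin K.m := ⟨0, by omega⟩
  set j : Fin K.m := ⟨1, by omega⟩
  have hjk : j ≠ k := by simp [j, k, Fin.ext_iff]
  haveI := K.normal k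
  let π := QuotientGroup.mk' K.E
  have hcomm : ∀ g ∈ K.H k, ∀ h ∈ K.H k, π g * π h = π h * π g := by
    have hwr : ∀ {c : F} {g r : K.O}, c ≠ 0 → K.IsR g (K.wv k c) → K.IsR r K.e0 →
        g * r = r * g := fun {c g r} hc hg hr => by
      refine K.ext_act_frame (fun p => ?_) (by
        rw [act_mul, act_mul, r_e0 hr, w_e0 hg, map_neg, w_e0 hg, r_e0 hr])
      obtain ⟨d, q, hq⟩ := K.h_normalize (Or.inl ⟨c, hc, hg⟩ : g ∈ K.H k) p
      rw [act_mul, act_mul, r_fix hr, hq, map_smul, r_fix hr]
    rintro g (⟨c, hc, hg⟩ | hg) h (⟨d, hd, hh⟩ | hh)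
    · obtain ⟨z, hz, za, zb, zf, z0⟩ := K.torus_mem hjk (c := d / c) (div_ne_zero hd hc)
      have e : g * h = z * (h * g) := K.ext_act_frame (fun p => by
          simp only [act_mul]
          by_cases hp : p.1 = k
          · obtain ⟨p1, p2⟩ := p
            obtain rfl : p1 = k := hp
            cases p2
            · rw [w_false hd hh, map_smul, w_true hc hg, w_false hc hg, map_smul, w_true hd hh,
                map_smul, map_smul, za, smul_smul, smul_smul, smul_smul]
              congr 1; field_simp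
            · rw [w_true hd hh, map_smul, w_false hc hg, w_true hc hg, map_smul, w_false hd hh,
                map_smul, map_smul, zb, smul_smul, smul_smul, smul_smul]
              congr 1; field_simp
          · rw [w_fix hh hp, w_fix hg hp, w_fix hh hp, zf p hp])
        (by simp only [act_mul, w_e0 hh, w_e0 hg, z0])
      rw [← map_mul, e, map_mul π z, show π z = 1 from (QuotientGroup.eq_one_iff z).2 hz, one_mul,
        map_mul]
    · rw [← map_mul, hwr hc hg hh, map_mul]
    · rw [← map_mul, ← hwr hd hh hg, map_mul]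
    · rw [show g = h from K.ext_act fun x => (hg x).trans (hh x).symm]
  have hall : ∀ x : K.O ⧸ K.E, x ∈ Subgroup.closure (π '' K.H k) := by
    intro x
    obtain ⟨g, rfl⟩ := QuotientGroup.mk'_surjective K.E x
    have : Subgroup.closure ((K.E : Set K.O) ∪ K.H k) ≤
        (Subgroup.closure (π '' K.H k)).comap π := by
      rw [Subgroup.closure_le]
      rintro y (hy | hy)
      · rw [SetLike.mem_coe, Subgroup.mem_comap, show π y = 1 from (QuotientGroup.eq_one_iff y).2 hy]
        exact one_mem _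
      · exact Subgroup.subset_closure ⟨y, hy, rfl⟩
    exact this (by rw [K.closure_eq_top k]; trivial)
  have hab : ∀ x y : K.O ⧸ K.E, x * y = y * x := fun x y => by
    haveI := Subgroup.isMulCommutative_closure (k := π '' K.H k) (by
      rintro _ ⟨g, hg, rfl⟩ _ ⟨h, hh, rfl⟩; exact hcomm g hg h hh)
    exact congrArg Subtype.val
      (IsMulCommutative.is_comm.comm (⟨x, hall x⟩ : Subgroup.closure (π '' K.H k)) ⟨y, hall y⟩)
  rw [commutator_def, Subgroup.commutator_le]
  intro x _ y _
  refine (QuotientGroup.eq_one_iff _).1 ?_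
  show π ⁅x, y⁆ = 1
  rw [map_commutatorElement, commutatorElement_eq_one_iff_mul_comm]
  exact hab _ _

end Frame

end CfsgLib.ChevOrth
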