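import Cfsg.Prelude.Def_Chevalley
import Cfsg.Agent.Lib.Chev.Siegel

/-!
A Chevalley group as the central quotient of an orthogonal group, from a representation of its Lie
algebra given by sparse integer matrices.
-/

set_option autoImplicit false
set_option linter.unusedSectionVars false

namespace CfsgLib.ChevOrth

open Matrix QuadraticMap
open scoped commutatorElement

/-! ### Sparse integer matrices -/

/-- A sparse integer matrix: a list of entries to be added up. -/
abbrev SM (ι : Type) := List (ι × ι × ℤ)

variable {ι : Type} [Fintype ι] [DecidableEq ι] {F : Type*} [Field F]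

/-- The matrix of a sparse matrix. -/
def toM (F : Type*) [Field F] (L : SM ι) : Matrix ι ι F :=
  (L.map fun e => Matrix.single e.1 e.2.1 (e.2.2 : F)).sum

/-- An entry of a sparse matrix. -/
def val (L : SM ι) (x y : ι) : ℤ :=
  ((L.filter fun e => decide (e.1 = x) && decide (e.2.1 = y)).map fun e => e.2.2).sum

/-- Scaling. -/
def sm (c : ℤ) (L : SM ι) : SM ι := L.map fun e => (e.1, e.2.1, c * e.2.2)

/-- Product. -/
def mulS (A B : SM ι) : SM ι :=
  A.flatMap fun a => B.flatMap fun b => if a.2.1 = b.1 then [(a.1, b.2.1, a.2.2 * b.2.2)] else []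

/-- Identity. -/
def oneS (l : List ι) : SM ι := l.map fun i => (i, i, 1)

/-- All entries vanish. -/
def chkZero (L : SM ι) : Bool := L.all fun e => val L e.1 e.2.1 == 0

@[simp] theorem toM_nil : toM F ([] : SM ι) = 0 := rfl

@[simp] theorem toM_cons (e : ι × ι × ℤ) (L : SM ι) :
    toM F (e :: L) = Matrix.single e.1 e.2.1 (e.2.2 : F) + toM F L := rfl

@[simp] theorem toM_append (A B : SM ι) : toM F (A ++ B) = toM F A + toM F B := by
  induction A with
  | nil => simp
  | cons a A ih => simp [ih, add_assoc]

theorem toM_sm (c : ℤ) (L : SM ι) : toM F (sm c L) = (c : F) • toM F L := by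
  induction L with
  | nil => simp [sm]
  | cons a L ih =>
    simp only [sm, List.map_cons, toM_cons] at ih ⊢
    rw [ih, smul_add, Matrix.smul_single, smul_eq_mul, Int.cast_mul]

theorem toM_mulS (A B : SM ι) : toM F (mulS A B) = toM F A * toM F B := by
  induction A with
  | nil => simp [mulS]
  | cons a A ih =>
    have h : ∀ B : SM ι, toM F (B.flatMap fun b =>
        if a.2.1 = b.1 then [(a.1, b.2.1, a.2.2 * b.2.2)] else []) =
        Matrix.single a.1 a.2.1 (a.2.2 : F) * toM F B := by
      intro B
      induction B with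
      | nil => simp
      | cons b B ihB =>
        simp only [List.flatMap_cons, toM_append, toM_cons, mul_add, ihB]
        split
        · next e => rw [e, Matrix.single_mul_single_same]; simp
        · next e => rw [Matrix.single_mul_single_of_ne _ _ _ _ e]; simp
    simp only [mulS, List.flatMap_cons, toM_append, toM_cons, add_mul] at ih ⊢
    rw [h, ih]

theorem toM_apply (L : SM ι) (x y : ι) : toM F L x y = (val L x y : F) := by
  induction L with
  | nil => simp [val]
  | cons a L ih =>
    rw [toM_cons, Matrix.add_apply, ih, Matrix.single_apply]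
    by_cases h : a.1 = x ∧ a.2.1 = y
    · simp [val, h.1, h.2]
    · rw [if_neg h, zero_add]
      simp only [not_and] at h
      by_cases h1 : a.1 = x
      · simp [val, h1, h h1]
      · simp [val, h1]

theorem toM_eq_zero {L : SM ι} (h : chkZero L = true) : toM F L = 0 := by
  ext x y
  rw [toM_apply, Matrix.zero_apply]
  suffices val L x y = 0 by simp [this]
  by_cases hxy : ∃ e ∈ L, e.1 = x ∧ e.2.1 = y
  · obtain ⟨e, he, rfl, rfl⟩ := hxy
    simpa using List.all_eq_true.1 h e he
  · push Not at hxy
    rw [val, List.filter_eq_nil_iff.2 fun e he => by simpa using hxy e he]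
    rfl

theorem toM_oneS {l : List ι} (hn : l.Nodup) (hl : ∀ i, i ∈ l) : toM F (oneS l) = 1 := by
  rw [toM, oneS, List.map_map,
    ← List.sum_toFinset _ hn, show l.toFinset = Finset.univ from Finset.eq_univ_iff_forall.2 fun i =>
      List.mem_toFinset.2 (hl i)]
  simp only [Function.comp_apply, Int.cast_one]
  exact Matrix.sum_single_one

/-! ### Root elements as sparse matrices -/

/-- The data of a root element: `e_p`, `e_q` (or the anisotropic vector) and a sign. -/
abbrev RootDat (m : ℕ) := (Fin m × Bool) × Option (Fin m × Bool) × ℤ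

/-- The coefficient of `t` of a root element. -/
def matA {m : ℕ} (idx : Fin m × Bool → ι) (i0 : ι) : RootDat m → SM ι
  | (p, some q, s) => [(idx q, idx (bar p), s), (idx p, idx (bar q), -s)]
  | (p, none, s) => [(i0, idx (bar p), s), (idx p, i0, -2 * s)]

/-- The coefficient of `t²` of a root element. -/
def matB {m : ℕ} (idx : Fin m × Bool → ι) : RootDat m → SM ι
  | (_, some _, _) => []
  | (p, none, s) => [(idx p, idx (bar p), -(s * s))]

/-- A representation of the Lie algebra of a datum on a split quadratic space. -/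
structure Model (D : Cfsg.Lie.ChevalleyDatum) (ι : Type) [Fintype ι] [DecidableEq ι] where
  m : ℕ
  idx : Fin m × Bool → ι
  i0 : ι
  dat : Fin D.nroots → RootDat m
  R : D.Idx → SM ι
  all : List ι

namespace Model

variable {D : Cfsg.Lie.ChevalleyDatum} (M : Model D ι)

/-- The list of basis indices of the Lie algebra. -/
def cols (D : Cfsg.Lie.ChevalleyDatum) : List D.Idx :=
  (List.finRange D.rank).map Sum.inl ++ (List.finRange D.nroots).map Sum.inr

theorem mem_cols (j : D.Idx) : j ∈ cols D := by
  rcases j with i | s <;> simp [cols]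

theorem nodup_cols : (cols D).Nodup := by
  refine List.nodup_append.2 ⟨(List.nodup_finRange _).map Sum.inl_injective,
    (List.nodup_finRange _).map Sum.inr_injective, ?_⟩
  simp [List.mem_map]

/-- The coefficient of `t^k` of a root element. -/
def X (r : Fin D.nroots) : ℕ → SM ι
  | 0 => oneS M.all
  | 1 => matA M.idx M.i0 (M.dat r)
  | 2 => matB M.idx (M.dat r)
  | _ => []

/-- The coefficient of `t^k` of an entry of `xMat`. -/
def coef (D : Cfsg.Lie.ChevalleyDatum) (r : Fin D.nroots) (k : ℕ) (row col : D.Idx) : ℤ :=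
  match col with
  | Sum.inl i =>
    (match row with
     | Sum.inl i' => if k = 0 ∧ i' = i then 1 else 0
     | Sum.inr u => if k = 1 ∧ u = r then -(D.cartanSR.getD i.val #[]).getD r.val 0 else 0)
  | Sum.inr s =>
    if s = r then (match row with | Sum.inr u => if k = 0 ∧ u = r then 1 else 0 | Sum.inl _ => 0)
    else if s.val = D.negIdx.getD r.val 0 then
      (match row with
       | Sum.inl i => if k = 1 then (D.coroot.getD r.val #[]).getD i.val 0 else 0
       | Sum.inr u => if u = s then (if k = 0 then 1 else 0) else if k = 2 ∧ u = r then -1 else 0)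
    else
      (match row with
       | Sum.inl _ => 0
       | Sum.inr u => (if k = 0 ∧ u = s then 1 else 0) +
          (((D.chainCoeff r.val s.val u.val).filter fun km => km.1 == k).map fun km => km.2).sum)

/-- The chains have length at most two. -/
def chkShort (D : Cfsg.Lie.ChevalleyDatum) : Bool :=
  (List.range D.nroots).all fun r => (D.chain.getD r #[]).toList.all fun e =>
    decide (e.2.toList.length ≤ 2)

theorem chain_short (h : chkShort D = true) (r : Fin D.nroots) (s u : ℕ) :
    ∀ km ∈ D.chainCoeff r.val s u, km.1 = 1 ∨ km.1 = 2 := by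
  intro km hkm
  simp only [Cfsg.Lie.ChevalleyDatum.chainCoeff, List.mem_flatMap, List.mem_map,
    List.mem_filter] at hkm
  obtain ⟨e, ⟨he, -⟩, q, ⟨hq, -⟩, rfl⟩ := hkm
  have h2 := List.snd_lt_add_of_mem_zipIdx hq
  have h3 : e.2.toList.length ≤ 2 := by
    have := List.all_eq_true.1 (List.all_eq_true.1 h r.val (List.mem_range.2 r.isLt)) e he
    simpa using this
  simp only
  omega

theorem sum_deg (L : List (ℕ × ℤ)) (hL : ∀ km ∈ L, km.1 = 1 ∨ km.1 = 2) (t : F) :
    (L.map fun km => ((km.2 : ℤ) : F) * t ^ km.1).sum =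
      (((L.filter fun km => km.1 == 1).map fun km => km.2).sum : F) * t +
      (((L.filter fun km => km.1 == 2).map fun km => km.2).sum : F) * (t * t) := by
  induction L with
  | nil => simp
  | cons a L ih =>
    rw [List.map_cons, List.sum_cons, ih fun km hkm => hL km (List.mem_cons_of_mem _ hkm)]
    rcases hL a List.mem_cons_self with e | e <;> simp [e] <;> ring

theorem xMat_apply (h : chkShort D = true) (r : Fin D.nroots) (t : F) (row col : D.Idx) :
    D.xMat F r t row col = (coef D r 0 row col : F) + (coef D r 1 row col : F) * t +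
      (coef D r 2 row col : F) * (t * t) := by
  rcases col with i | s <;> rcases row with i' | u
  · simp only [Cfsg.Lie.ChevalleyDatum.xMat, Matrix.of_apply, coef]
    split_ifs <;> simp_all
  · simp only [Cfsg.Lie.ChevalleyDatum.xMat, Matrix.of_apply, coef]
    split_ifs <;> simp_all
  · simp only [Cfsg.Lie.ChevalleyDatum.xMat, Matrix.of_apply, coef]
    split_ifs <;> simp_all
  · simp only [Cfsg.Lie.ChevalleyDatum.xMat, Matrix.of_apply, coef]
    have hd := chain_short h r s.val u.val
    have h0 : (D.chainCoeff r.val s.val u.val).filter (fun km => km.1 == 0) = [] :=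
      List.filter_eq_nil_iff.2 fun km hkm => by rcases hd km hkm with e | e <;> simp [e]
    rw [sum_deg _ hd, h0]
    split_ifs <;> simp_all [pow_two, Function.comp_def] <;> ring

/-- The coefficient of `t^k` of the image of a basis vector under the adjoint root element. -/
def comb (r : Fin D.nroots) (col : D.Idx) (k : ℕ) : SM ι :=
  (cols D).flatMap fun u => if coef D r k u col = 0 then [] else sm (coef D r k u col) (M.R u)

theorem toM_comb (r : Fin D.nroots) (col : D.Idx) (k : ℕ) :
    toM F (M.comb r col k) = ∑ u, (coef D r k u col : F) • toM F (M.R u) := by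
  have h : ∀ l : List D.Idx, toM F (l.flatMap fun u =>
      if coef D r k u col = 0 then [] else sm (coef D r k u col) (M.R u)) =
      (l.map fun u => (coef D r k u col : F) • toM F (M.R u)).sum := by
    intro l
    induction l with
    | nil => simp
    | cons u l ih =>
      rw [List.flatMap_cons, toM_append, ih, List.map_cons, List.sum_cons]
      split
      · next e => simp [e]
      · rw [toM_sm]
  rw [comb, h, ← List.sum_toFinset _ nodup_cols]
  exact Finset.sum_congr (Finset.eq_univ_iff_forall.2 fun j => List.mem_toFinset.2 (mem_cols j))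
    fun _ _ => rfl

/-- The image of the Lie algebra. -/
def rho (F : Type*) [Field F] (v : D.Idx → F) : Matrix ι ι F := ∑ j, v j • toM F (M.R j)

/-- A root element. -/
def xh (r : Fin D.nroots) (t : F) : Matrix ι ι F :=
  toM F (M.X r 0) + t • toM F (M.X r 1) + (t * t) • toM F (M.X r 2)

/-- The representation commutes with the root elements. -/
def chkEquiv (r : Fin D.nroots) : Bool :=
  let X₀ := M.X r 0
  let X₁ := M.X r 1
  let X₂ := M.X r 2
  (cols D).all fun j =>
    let C₀ := M.comb r j 0
    let C₁ := M.comb r j 1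
    let C₂ := M.comb r j 2
    chkZero (mulS C₀ X₀ ++ sm (-1) (mulS X₀ (M.R j))) &&
    chkZero (mulS C₀ X₁ ++ (mulS C₁ X₀ ++ sm (-1) (mulS X₁ (M.R j)))) &&
    chkZero (mulS C₀ X₂ ++ (mulS C₁ X₁ ++ (mulS C₂ X₀ ++ sm (-1) (mulS X₂ (M.R j))))) &&
    chkZero (mulS C₁ X₂ ++ mulS C₂ X₁) && chkZero (mulS C₂ X₂)

theorem equiv_col {r : Fin D.nroots} (hs : chkShort D = true) (h : M.chkEquiv r = true) (t : F)
    (j : D.Idx) :
    (∑ u, D.xMat F r t u j • toM F (M.R u)) * M.xh r t = M.xh r t * toM F (M.R j) := by
  have hj := List.all_eq_true.1 h j (mem_cols j)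
  simp only [Bool.and_eq_true] at hj
  obtain ⟨⟨⟨⟨h0, h1⟩, h2⟩, h3⟩, h4⟩ := hj
  have e0 := toM_eq_zero (F := F) h0
  have e1 := toM_eq_zero (F := F) h1
  have e2 := toM_eq_zero (F := F) h2
  have e3 := toM_eq_zero (F := F) h3
  have e4 := toM_eq_zero (F := F) h4
  simp only [toM_append, toM_mulS, toM_sm, Int.cast_neg, Int.cast_one] at e0 e1 e2 e3 e4
  have hsum : ∑ u, D.xMat F r t u j • toM F (M.R u) =
      toM F (M.comb r j 0) + t • toM F (M.comb r j 1) + (t * t) • toM F (M.comb r j 2) := by
    simp only [toM_comb, Finset.smul_sum, smul_smul, ← Finset.sum_add_distrib]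
    refine Finset.sum_congr rfl fun u _ => ?_
    rw [xMat_apply hs]; module
  rw [hsum, xh]
  simp only [add_mul, mul_add, smul_mul_assoc, mul_smul_comm, smul_smul]
  linear_combination (norm := module) e0 + t • e1 + (t * t) • e2 + (t * t * t) • e3 +
    (t * t * t * t) • e4

theorem rho_mulVec (A : Matrix D.Idx D.Idx F) (v : D.Idx → F) :
    M.rho F (A *ᵥ v) = ∑ j, v j • ∑ u, A u j • toM F (M.R u) := by
  simp only [rho, Matrix.mulVec, dotProduct, Finset.sum_smul, Finset.smul_sum, smul_smul]
  rw [Finset.sum_comm]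
  simp only [mul_comm]

theorem rho_xMat {r : Fin D.nroots} (hs : chkShort D = true) (h : M.chkEquiv r = true) (t : F)
    (v : D.Idx → F) : M.rho F (D.xMat F r t *ᵥ v) * M.xh r t = M.xh r t * M.rho F v := by
  rw [rho_mulVec, rho, Finset.sum_mul, Finset.mul_sum]
  refine Finset.sum_congr rfl fun j _ => ?_
  rw [smul_mul_assoc, M.equiv_col hs h, mul_smul_comm]

theorem rho_single (j : D.Idx) : M.rho F (Pi.single j 1) = toM F (M.R j) := by
  rw [rho, Finset.sum_eq_single j (fun k _ hk => by simp [hk]) (by simp), Pi.single_eq_same,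
    one_smul]

/-- Some entry of the image of a basis vector is moved by a unit. -/
def chkMove (r : Fin D.nroots) (j : D.Idx) (x y : ι) : Bool :=
  let v := val (M.comb r j 0 ++ (M.comb r j 1 ++ (M.comb r j 2 ++ sm (-1) (M.R j)))) x y
  v == 1 || v == -1

/-- Off-diagonal entries of a matrix commuting with the representation vanish. -/
def chkOff : Bool :=
  M.all.all fun a => M.all.all fun x => x == a || (cols D).any fun j => M.all.any fun b =>
    (val (M.R j) a b == 1 || val (M.R j) a b == -1) &&
      (M.all.all fun y => y == a || val (M.R j) y b == 0) &&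
      (M.all.all fun y => val (M.R j) x y == 0)

/-- An entry linking two diagonal entries. -/
def chkLink (a b : ι) : Bool :=
  (cols D).any fun j => val (M.R j) a b == 1 || val (M.R j) a b == -1

/-- The diagonal entries are linked. -/
def chkConn : List ι → List (ι × ι) → Bool
  | seen, [] => M.all.all fun x => seen.contains x
  | seen, (a, b) :: L => seen.contains a && M.chkLink a b && chkConn (b :: seen) L

theorem scalar_of_comm (hall : ∀ i, i ∈ M.all) (hoff : M.chkOff = true) {a₀ : ι}
    {edges : List (ι × ι)} (hconn : M.chkConn [a₀] edges = true) {W : Matrix ι ι F}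
    (hW : ∀ j, W * toM F (M.R j) = toM F (M.R j) * W) : W = W a₀ a₀ • (1 : Matrix ι ι F) := by
  have hoffW : ∀ x a, x ≠ a → W x a = 0 := by
    intro x a hxa
    have h := List.all_eq_true.1 (List.all_eq_true.1 hoff a (hall a)) x (hall x)
    simp only [Bool.or_eq_true, beq_iff_eq, hxa, false_or, List.any_eq_true, Bool.and_eq_true,
      List.all_eq_true] at h
    obtain ⟨j, -, b, -, ⟨hu, hc⟩, hr⟩ := h
    have e := congrFun (congrFun (hW j) x) b
    rw [Matrix.mul_apply, Matrix.mul_apply, Finset.sum_eq_single a (fun y _ hy => by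
        rw [toM_apply, (hc y (hall y)).resolve_left hy]; simp) (by simp),
      Finset.sum_eq_zero (fun y _ => by rw [toM_apply, hr y (hall y)]; simp), toM_apply] at e
    rcases hu with hu | hu <;> rw [hu] at e <;> simpa using e
  have hlink : ∀ a b, M.chkLink a b = true → W a a = W b b := by
    intro a b h
    simp only [chkLink, List.any_eq_true, Bool.or_eq_true, beq_iff_eq] at h
    obtain ⟨j, -, hu⟩ := h
    have e := congrFun (congrFun (hW j) a) b
    rw [Matrix.mul_apply, Matrix.mul_apply,
      Finset.sum_eq_single a (fun y _ hy => by rw [hoffW a y hy.symm, zero_mul]) (by simp),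
      Finset.sum_eq_single b (fun y _ hy => by rw [hoffW y b hy, mul_zero]) (by simp),
      toM_apply] at e
    rcases hu with hu | hu <;> rw [hu] at e <;> simpa using e
  have hdiag : ∀ (edges : List (ι × ι)) (seen : List ι), M.chkConn seen edges = true →
      (∀ a ∈ seen, W a a = W a₀ a₀) → ∀ a, W a a = W a₀ a₀ := by
    intro edges
    induction edges with
    | nil =>
      intro seen h hs a
      have := List.all_eq_true.1 h a (hall a)
      exact hs a (by simpa using this)
    | cons e L ih =>
      obtain ⟨a, b⟩ := e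
      intro seen h hs
      simp only [chkConn, Bool.and_eq_true, List.contains_iff_mem] at h
      obtain ⟨⟨ha, hl⟩, hrest⟩ := h
      refine ih _ hrest fun c hc => ?_
      rcases List.mem_cons.1 hc with rfl | hc
      · rw [← hlink a c hl, hs a ha]
      · exact hs c hc
  ext x y
  by_cases h : x = y
  · subst h; simp [hdiag edges [a₀] hconn (by simp) x]
  · simp [h, hoffW x y h]

/-- Every elementary generator is a root element. -/
def chkCover : Bool :=
  (List.finRange M.m).all fun i => [false, true].all fun b =>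
    (List.finRange M.m).all fun k => [false, true].all fun c =>
      (k, c) == (i, b) || (k, c) == bar (i, b) || (List.finRange D.nroots).any fun r =>
        ((M.dat r).1 == (i, b) && (M.dat r).2.1 == some (k, c) ||
          (M.dat r).1 == (k, c) && (M.dat r).2.1 == some (i, b)) &&
          ((M.dat r).2.2 == 1 || (M.dat r).2.2 == -1)

/-- Every short elementary generator is a root element. -/
def chkCover0 : Bool :=
  (List.finRange M.m).all fun i => [false, true].all fun b => (List.finRange D.nroots).any fun r =>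
    (M.dat r).1 == (i, b) && (M.dat r).2.1 == none && ((M.dat r).2.2 == 1 || (M.dat r).2.2 == -1)

/-- Root data are pairs of orthogonal singular vectors. -/
def chkDat : Bool :=
  (List.finRange D.nroots).all fun r =>
    match (M.dat r).2.1 with
    | some q => q != bar (M.dat r).1
    | none => true

end Model

/-- A coordinate model of a frame. -/
structure Fits {D : Cfsg.Lie.ChevalleyDatum} (M : Model D ι) (K : Frame F ι) (ev : K.m = M.m) : Prop where
  e_eq : ∀ p, K.e p = Pi.single (M.idx (Fin.cast ev p.1, p.2)) 1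
  polar_eq : ∀ p x, polar K.Q (K.e p) x = x (M.idx (bar (Fin.cast ev p.1, p.2)))
  e0_eq : ∀ r, (M.dat r).2.1 = none →
    K.e0 = Pi.single M.i0 1 ∧ ∀ x, polar K.Q K.e0 x = 2 * x M.i0
  e0_cover : M.chkCover0 = true ∨ K.e0 = 0
  all_mem : ∀ i, i ∈ M.all
  all_nodup : M.all.Nodup
  cover : M.chkCover = true
  dat_ok : M.chkDat = true
  short : Model.chkShort D = true
  equiv : ∀ r, M.chkEquiv r = true

namespace Fits

variable {D : Cfsg.Lie.ChevalleyDatum} {M : Model D ι} {K : Frame F ι} {ev : K.m = M.m}

/-- An index of the model as an index of the frame. -/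
def back (ev : K.m = M.m) (p : Fin M.m × Bool) : Fin K.m × Bool := (Fin.cast ev.symm p.1, p.2)

theorem e_back (h : Fits M K ev) (p : Fin M.m × Bool) : K.e (back ev p) = Pi.single (M.idx p) 1 := by
  rw [h.e_eq]; rfl

theorem polar_back (h : Fits M K ev) (p : Fin M.m × Bool) (x : ι → F) :
    polar K.Q (K.e (back ev p)) x = x (M.idx (bar p)) := by
  rw [h.polar_eq]; rfl

/-- The second vector of a root element. -/
def vec (ev : K.m = M.m) (r : Fin D.nroots) : ι → F :=
  match (M.dat r).2.1 with
  | some q => K.e (back ev q)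
  | none => K.e0

theorem polar_vec (h : Fits M K ev) (r : Fin D.nroots) :
    polar K.Q (K.e (back ev (M.dat r).1)) (vec ev r) = 0 := by
  unfold vec
  split
  · next q hq =>
    have h' := List.all_eq_true.1 h.dat_ok r (List.mem_finRange r)
    rw [hq] at h'
    simp only [bne_iff_ne, ne_eq] at h'
    rw [K.pair, if_neg]
    intro e
    exact h' (by
      have := congrArg (fun p : Fin K.m × Bool => (Fin.cast ev p.1, p.2)) e
      simpa [back, bar] using this)
  · exact K.orth0 _

theorem single_one_mulVec (a b : ι) (c : F) (x : ι → F) :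
    Matrix.single a b c *ᵥ x = (c * x b) • Pi.single a 1 := by
  rw [Matrix.single_mulVec]
  funext i
  by_cases h : i = a
  · subst h; simp
  · simp [h]

theorem xh_mulVec (h : Fits M K ev) (r : Fin D.nroots) (t : F) (x : ι → F) :
    M.xh r t *ᵥ x =
      K.sgl (K.e (back ev (M.dat r).1)) ((t * ((M.dat r).2.2 : F)) • vec ev r) x := by
  rw [Frame.sgl_apply, polar_smul_left, QuadraticMap.map_smul, h.polar_back, h.e_back, Model.xh,
    show M.X r 0 = oneS M.all from rfl, toM_oneS h.all_nodup h.all_mem, Matrix.add_mulVec,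
    Matrix.add_mulVec, Matrix.one_mulVec, Matrix.smul_mulVec, Matrix.smul_mulVec]
  rcases hd : M.dat r with ⟨p, q, s⟩
  cases q with
  | some q =>
    rw [vec, hd]
    simp only
    rw [h.polar_back, h.e_back, ← h.e_back q, K.sing, h.e_back]
    simp only [Model.X, hd, matA, matB, toM_cons, toM_nil, add_zero, Matrix.add_mulVec,
      single_one_mulVec, Matrix.zero_mulVec, smul_zero, mul_zero, zero_mul, zero_smul,
      smul_eq_mul, Int.cast_neg]
    match_scalars <;> ring
  | none =>
    obtain ⟨h0, hp0⟩ := h.e0_eq r (by rw [hd])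
    have hq : K.Q K.e0 = 1 := by
      rcases K.q0 with h' | h'
      · rw [h0] at h'
        simpa using congrFun h' M.i0
      · exact h'
    rw [vec, hd]
    simp only
    rw [hp0, hq, h0]
    simp only [Model.X, hd, matA, matB, toM_cons, toM_nil, add_zero, Matrix.add_mulVec,
      single_one_mulVec, smul_eq_mul, Int.cast_neg, Int.cast_mul, Int.cast_ofNat]
    match_scalars <;> ring

theorem exists_root (h : Fits M K ev) (r : Fin D.nroots) (t : F) :
    ∃ g ∈ K.E, ((g : GL ι F) : Matrix ι ι F) = M.xh r t := by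
  have hv : polar K.Q (K.e (back ev (M.dat r).1)) ((t * ((M.dat r).2.2 : F)) • vec ev r) = 0 := by
    rw [polar_smul_right, h.polar_vec, smul_zero]
  obtain ⟨g, hg, hS⟩ := K.exists_mem_E _ hv
  exact ⟨g, hg, Matrix.ext_iff_mulVec.2 fun x => (hS x).trans (h.xh_mulVec r t x).symm⟩

/-- A chosen root element of the orthogonal group. -/
noncomputable def root (h : Fits M K ev) (r : Fin D.nroots) (t : F) : K.O :=
  (h.exists_root r t).choose

theorem coe_root (h : Fits M K ev) (r : Fin D.nroots) (t : F) :
    ((h.root r t : GL ι F) : Matrix ι ι F) = M.xh r t := (h.exists_root r t).choose_spec.2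

theorem isS_root (h : Fits M K ev) (r : Fin D.nroots) (t : F) :
    K.IsS (h.root r t) (K.e (back ev (M.dat r).1)) ((t * ((M.dat r).2.2 : F)) • vec ev r) := fun x => by
  show ((h.root r t : GL ι F) : Matrix ι ι F) *ᵥ x = _
  rw [h.coe_root, h.xh_mulVec]

theorem root_add (h : Fits M K ev) (r : Fin D.nroots) (s t : F) :
    h.root r (s + t) = h.root r s * h.root r t := K.ext_act fun x => by
  rw [Frame.act_mul, h.isS_root, h.isS_root r t x, h.isS_root r s,
    K.sgl_comp (K.sing _) (by rw [polar_smul_right, h.polar_vec, smul_zero])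
      (by rw [polar_smul_right, h.polar_vec, smul_zero]), add_mul, add_smul]

theorem cast_back (p : Fin K.m × Bool) : back ev (Fin.cast ev p.1, p.2) = p := rfl

theorem E_le_closure (h : Fits M K ev) :
    K.E ≤ Subgroup.closure {g | ∃ r t, g = h.root r t} := by
  refine (Subgroup.closure_le _).2 ?_
  rintro g ⟨p, t, ⟨q, hqp, hqb, hS⟩ | hS⟩
  · have hc := h.cover
    simp only [Model.chkCover, List.all_eq_true, List.any_eq_true, Bool.or_eq_true,
      Bool.and_eq_true, beq_iff_eq] at hc
    rcases hc (Fin.cast ev p.1) (List.mem_finRange _) p.2 (by cases p.2 <;> simp)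
      (Fin.cast ev q.1) (List.mem_finRange _) q.2 (by cases q.2 <;> simp) with
      (e | e) | ⟨r, -, hd, hs⟩
    · exact absurd (by rw [← cast_back (ev := ev) q, e]; rfl) hqp
    · exact absurd (by rw [← cast_back (ev := ev) q, e]; rfl) hqb
    · have hs' : ((M.dat r).2.2 : F) * ((M.dat r).2.2 : F) = 1 := by
        rcases hs with hs | hs <;> simp [hs]
      rcases hd with ⟨h1, h2⟩ | ⟨h1, h2⟩
      · refine Subgroup.subset_closure ⟨r, t * ((M.dat r).2.2 : F), K.ext_act fun x => ?_⟩
        rw [hS x, h.isS_root, mul_assoc, hs', mul_one]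
        simp only [vec, h2, h1, cast_back]
      · refine Subgroup.subset_closure ⟨r, -(t * ((M.dat r).2.2 : F)), K.ext_act fun x => ?_⟩
        rw [hS x, h.isS_root, neg_mul, mul_assoc, hs', mul_one]
        simp only [vec, h2, h1, cast_back, Frame.sgl_apply, QuadraticMap.map_smul, K.sing,
          polar_smul_left, smul_eq_mul, mul_zero, zero_mul, zero_smul, sub_zero]
        module
  · rcases h.e0_cover with hc | hc
    · simp only [Model.chkCover0, List.all_eq_true, List.any_eq_true, Bool.and_eq_true,
        Bool.or_eq_true, beq_iff_eq] at hc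
      obtain ⟨r, -, ⟨h1, h2⟩, hs⟩ := hc (Fin.cast ev p.1) (List.mem_finRange _) p.2
        (by cases p.2 <;> simp)
      have hs' : ((M.dat r).2.2 : F) * ((M.dat r).2.2 : F) = 1 := by
        rcases hs with hs | hs <;> simp [hs]
      refine Subgroup.subset_closure ⟨r, t * ((M.dat r).2.2 : F), K.ext_act fun x => ?_⟩
      rw [hS x, h.isS_root, mul_assoc, hs', mul_one]
      simp only [vec, h2, h1, cast_back]
    · have : g = 1 := K.ext_act fun x => by
        rw [hS x, hc, Frame.act_one, Frame.sgl_apply]; simp
      rw [this]; exact one_mem _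

/-! ### The isomorphism -/

/-- Pairs of group elements related by the representation. -/
def rel (M : Model D ι) (K : Frame F ι) : Subgroup (GL D.Idx F × K.O) where
  carrier := {P | ∀ v, M.rho F ((P.1 : Matrix D.Idx D.Idx F) *ᵥ v) * ((P.2 : GL ι F) : Matrix ι ι F)
    = ((P.2 : GL ι F) : Matrix ι ι F) * M.rho F v}
  one_mem' v := by simp
  mul_mem' {a b} ha hb v := by
    simp only [Prod.fst_mul, Prod.snd_mul, Units.val_mul, Subgroup.coe_mul, ← Matrix.mulVec_mulVec]
    rw [← mul_assoc, ha, mul_assoc, hb, mul_assoc]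
  inv_mem' {a} ha v := by
    have := ha ((↑a.1⁻¹ : Matrix D.Idx D.Idx F) *ᵥ v)
    rw [Matrix.mulVec_mulVec, Units.mul_inv, Matrix.one_mulVec] at this
    simp only [Prod.fst_inv, Prod.snd_inv, Subgroup.coe_inv]
    rw [Units.eq_inv_mul_iff_mul_eq, ← mul_assoc, ← this, mul_assoc, Units.mul_inv, mul_one]

theorem iso_spec (h : Fits M K ev) {a₀ : ι} {edges : List (ι × ι)} (hoff : M.chkOff = true)
    (hconn : M.chkConn [a₀] edges = true) {r₀ : Fin D.nroots} {j₀ : D.Idx} {x₀ y₀ : ι}
    (hmove : M.chkMove r₀ j₀ x₀ y₀ = true) (hsimple : IsSimpleGroup ↥(D.group F))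
    (hperf : commutator ↥(D.group F) = ⊤) (hm : 2 ≤ K.m)
    (hX : ∀ (r : Fin D.nroots) (t : F), ∃ g : GL D.Idx F, g.val = D.xMat F r t) :
    ∃ e : ↥(D.group F) ≃* Cfsg.POmega F (⇑K.Q), ∀ (r : Fin D.nroots) (t : F),
      ∃ s : ↥(Cfsg.Omega F (⇑K.Q)), (s : K.O) = h.root r t ∧
        ∀ W : ↥(D.group F), (W : GL D.Idx F).val = D.xMat F r t → e W = QuotientGroup.mk s := by
  classical
  choose xg hxg using hX
  let x : Fin D.nroots → F → ↥(D.group F) := fun r t =>
    ⟨xg r t, Subgroup.subset_closure ⟨r, t, hxg r t⟩⟩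
  set P : Subgroup (↥(D.group F) × K.O) :=
    Subgroup.closure {p | ∃ (r : _) (t : F), (p.1 : GL D.Idx F).val = D.xMat F r t ∧ p.2 = h.root r t}
    with hPdef
  have hrel : P ≤ (rel M K).comap ((D.group F).subtype.prodMap (MonoidHom.id K.O)) := by
    refine (Subgroup.closure_le _).2 ?_
    rintro ⟨W, g⟩ ⟨r, t, hW, rfl⟩ v
    show M.rho F ((W : GL D.Idx F).val *ᵥ v) * ((h.root r t : GL ι F) : Matrix ι ι F) =
      ((h.root r t : GL ι F) : Matrix ι ι F) * M.rho F v
    rw [hW, h.coe_root]
    exact M.rho_xMat h.short (h.equiv r) t v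
  have hfst : ∀ W : ↥(D.group F), ∃ g, (W, g) ∈ P := by
    have : (⊤ : Subgroup ↥(D.group F)) ≤ P.map (MonoidHom.fst _ _) := by
      rintro ⟨W, hW⟩ -
      induction hW using Subgroup.closure_induction with
      | mem W hW =>
        obtain ⟨r, t, e⟩ := hW
        exact ⟨(⟨W, _⟩, h.root r t), Subgroup.subset_closure ⟨r, t, e, rfl⟩, rfl⟩
      | one => exact one_mem _
      | mul a b _ _ ha hb => exact mul_mem ha hb
      | inv a _ ha => exact inv_mem ha
    intro W
    obtain ⟨⟨W', g⟩, hg, rfl⟩ := this (Subgroup.mem_top W)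
    exact ⟨g, hg⟩
  have hgen : ∀ r t, ∃ W, (W, h.root r t) ∈ P := fun r t =>
    ⟨x r t, Subgroup.subset_closure ⟨r, t, hxg r t, rfl⟩⟩
  -- the first kernel
  let N : Subgroup ↥(D.group F) := P.comap (MonoidHom.inl _ _)
  haveI hN : N.Normal := ⟨fun n hn W => by
    obtain ⟨g, hg⟩ := hfst W
    show (W * n * W⁻¹, (1 : K.O)) ∈ P
    have := mul_mem (mul_mem hg (show (n, (1 : K.O)) ∈ P from hn)) (inv_mem hg)
    simpa using this⟩
  have hN1 : N = ⊥ := by
    refine (hsimple.eq_bot_or_eq_top_of_normal N hN).resolve_right fun e => ?_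
    have hW : x r₀ 1 ∈ N := e ▸ Subgroup.mem_top _
    have := hrel hW (Pi.single j₀ 1)
    change M.rho F ((xg r₀ 1).val *ᵥ Pi.single j₀ 1) * 1 = 1 * M.rho F (Pi.single j₀ 1) at this
    rw [mul_one, one_mul, M.rho_single, hxg, M.rho_mulVec, Finset.sum_eq_single j₀ (fun k _ hk => by simp [hk]) (by simp),
      Pi.single_eq_same, one_smul] at this
    have e2 : toM F (M.comb r₀ j₀ 0 ++ (M.comb r₀ j₀ 1 ++ (M.comb r₀ j₀ 2 ++ sm (-1) (M.R j₀)))) = 0 := by
      simp only [toM_append, toM_sm, M.toM_comb]
      simp only [Model.xMat_apply h.short, add_smul, Finset.sum_add_distrib, mul_one] at this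
      rw [← add_assoc, ← add_assoc, this]
      simp
    have e3 := congrFun (congrFun e2 x₀) y₀
    rw [toM_apply, Matrix.zero_apply] at e3
    simp only [Model.chkMove, Bool.or_eq_true, beq_iff_eq] at hmove
    rcases hmove with hv | hv <;> simp [hv] at e3
  have hsnd : ∀ g ∈ K.E, ∃ W, (W, g) ∈ P := by
    intro g hg
    have hg' := h.E_le_closure hg
    clear hg
    induction hg' using Subgroup.closure_induction with
    | mem g hg => obtain ⟨r, t, rfl⟩ := hg; exact hgen r t
    | one => exact ⟨1, one_mem _⟩
    | mul a b _ _ ha hb =>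
      obtain ⟨A, hA⟩ := ha; obtain ⟨B, hB⟩ := hb; exact ⟨A * B, mul_mem hA hB⟩
    | inv a _ ha => obtain ⟨A, hA⟩ := ha; exact ⟨A⁻¹, inv_mem hA⟩
  have huniq : ∀ {W W' : ↥(D.group F)} {g : K.O}, (W, g) ∈ P → (W', g) ∈ P → W = W' := by
    intro W W' g hW hW'
    have : W * W'⁻¹ ∈ N := by
      show (W * W'⁻¹, (1 : K.O)) ∈ P
      simpa using mul_mem hW (inv_mem hW')
    rwa [hN1, Subgroup.mem_bot, mul_inv_eq_one] at this
  let φ : K.E →* ↥(D.group F) :=
    { toFun := fun g => (hsnd g.1 g.2).choose
      map_one' := huniq (hsnd _ (1 : K.E).2).choose_spec (one_mem P)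
      map_mul' := fun a b => huniq (hsnd _ (a * b).2).choose_spec
        (mul_mem (hsnd _ a.2).choose_spec (hsnd _ b.2).choose_spec) }
  have hφ : ∀ g : K.E, (φ g, (g : K.O)) ∈ P := fun g => (hsnd g.1 g.2).choose_spec
  have hroot : ∀ r t, h.root r t ∈ K.E := fun r t => (h.exists_root r t).choose_spec.1
  have hsurj : Function.Surjective φ := by
    have hle : P ≤ (⊤ : Subgroup ↥(D.group F)).prod K.E := by
      refine (Subgroup.closure_le _).2 ?_
      rintro ⟨W, g⟩ ⟨r, t, -, rfl⟩
      exact ⟨trivial, hroot r t⟩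
    intro W
    obtain ⟨g, hg⟩ := hfst W
    exact ⟨⟨g, (hle hg).2⟩, huniq (hφ _) hg⟩
  -- the kernel is the centre
  have hscalar : ∀ g : K.E, g ∈ φ.ker → ∃ c : F, c * c = 1 ∧
      ((g.1 : GL ι F) : Matrix ι ι F) = c • (1 : Matrix ι ι F) := by
    intro g hg
    have hg' := hrel (hφ g)
    rw [MonoidHom.mem_ker.1 hg] at hg'
    have hcomm : ∀ j, ((g.1 : GL ι F) : Matrix ι ι F) * toM F (M.R j) =
        toM F (M.R j) * ((g.1 : GL ι F) : Matrix ι ι F) := fun j => by
      have := hg' (Pi.single j 1)
      change M.rho F ((1 : Matrix D.Idx D.Idx F) *ᵥ Pi.single j 1) * _ = _ * _ at this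
      rw [Matrix.one_mulVec, M.rho_single] at this
      exact this.symm
    have e := M.scalar_of_comm h.all_mem hoff hconn hcomm
    refine ⟨_, ?_, e⟩
    set p : Fin K.m × Bool := (⟨0, by omega⟩, false)
    have hQ : K.Q (K.e p + K.e (bar p)) = 1 := by
      rw [QuadraticMap.map_add K.Q, K.sing, K.sing, K.pair, if_pos rfl]; simp
    have := g.1.2 (K.e p + K.e (bar p)) 0
    simp only [Units.coeHom_apply] at this
    rw [e, Matrix.smul_mulVec, Matrix.one_mulVec, QuadraticMap.map_smul, hQ] at this
    simpa using this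
  have hker : φ.ker = Subgroup.center K.E := by
    apply le_antisymm
    · intro g hg
      obtain ⟨c, -, e⟩ := hscalar g hg
      refine Subgroup.mem_center_iff.2 fun y => Subtype.ext (Subtype.ext (Units.ext ?_))
      simp only [Subgroup.coe_mul, Units.val_mul, e, smul_mul_assoc, mul_smul_comm, one_mul, mul_one]
    · intro g hg
      have hc : φ g ∈ Subgroup.center ↥(D.group F) := Subgroup.mem_center_iff.2 fun W => by
        obtain ⟨y, rfl⟩ := hsurj W
        rw [← map_mul, ← map_mul, Subgroup.mem_center_iff.1 hg y]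
      rcases hsimple.eq_bot_or_eq_top_of_normal (Subgroup.center ↥(D.group F)) inferInstance with
        e | (e : Subgroup.center ↥(D.group F) = ⊤)
      · rwa [e, Subgroup.mem_bot] at hc
      · have hcom : commutator ↥(D.group F) = ⊥ := by
          rw [commutator_def, Subgroup.commutator_eq_bot_iff_le_centralizer]
          intro a _ b _
          exact (Subgroup.mem_center_iff.1 (e ▸ Subgroup.mem_top a) b)
        rw [hperf] at hcom
        exact absurd hcom (top_ne_bot (α := Subgroup ↥(D.group F)))
  -- the elementary subgroup is the commutator subgroup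
  have hle : K.E ≤ commutator K.O := by
    intro g hg
    have hg' := h.E_le_closure hg
    refine (Subgroup.closure_le _).2 ?_ hg'
    rintro _ ⟨r, t, rfl⟩
    have hsq : ∀ t, ∃ z d : K.O, h.root r t = z * d ∧ d ∈ commutator K.O ∧
        ∃ c : F, c * c = 1 ∧ ((z : GL ι F) : Matrix ι ι F) = c • (1 : Matrix ι ι F) := by
      intro t
      let y : K.E := ⟨h.root r t, hroot r t⟩
      have hy : φ y ∈ (commutator K.E).map φ := by
        rw [commutator_def, Subgroup.map_commutator,
          Subgroup.map_top_of_surjective φ hsurj, ← commutator_def, hperf]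
        trivial
      obtain ⟨d, hd, e⟩ := hy
      obtain ⟨c, hc, hz⟩ := hscalar (y * d⁻¹) (by rw [MonoidHom.mem_ker, map_mul, map_inv, e, mul_inv_cancel])
      refine ⟨(y * d⁻¹ : K.E), (d : K.O), by simp [y], ?_, c, hc, hz⟩
      have : (commutator K.E).map K.E.subtype ≤ commutator K.O := by
        rw [commutator_def, Subgroup.map_commutator]
        exact Subgroup.commutator_mono le_top le_top
      exact this ⟨d, hd, rfl⟩
    by_cases h2 : (2 : F) = 0
    · obtain ⟨z, d, e, hd, c, hc, hz⟩ := hsq t
      have hc1 : c = 1 := by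
        have : (c - 1) * (c - 1) = 0 := by linear_combination hc - (c - 1) * h2
        exact sub_eq_zero.1 (mul_self_eq_zero.1 this)
      have : z = 1 := Subtype.ext (Units.ext (by rw [hz, hc1, one_smul]; rfl))
      rw [SetLike.mem_coe, e, this, one_mul]; exact hd
    · obtain ⟨z, d, e, hd, c, hc, hz⟩ := hsq (t / 2)
      have hzc : ∀ y : K.O, z * y = y * z := fun y => Subtype.ext (Units.ext (by
        simp only [Subgroup.coe_mul, Units.val_mul, hz, smul_mul_assoc, mul_smul_comm, one_mul, mul_one]))
      have hz2 : z * z = 1 := Subtype.ext (Units.ext (by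
        simp only [Subgroup.coe_mul, Units.val_mul, hz, smul_mul_assoc, mul_smul_comm, one_mul,
          smul_smul, hc, one_smul]
        rfl))
      rw [SetLike.mem_coe, show t = t / 2 + t / 2 by field_simp; ring, h.root_add, e,
        show z * d * (z * d) = (z * z) * (d * d) by rw [mul_assoc, ← mul_assoc d, ← hzc d]; group,
        hz2, one_mul]
      exact mul_mem hd hd
  have hE : commutator K.O = K.E := le_antisymm (K.commutator_le hm) hle
  let u : K.E ≃* ↥(Cfsg.Omega F (⇑K.Q)) := MulEquiv.subgroupCongr hE.symm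
  refine ⟨(QuotientGroup.quotientKerEquivOfSurjective φ hsurj).symm.trans
    (QuotientGroup.congr φ.ker (Subgroup.center _) u ?_), ?_⟩
  swap
  · intro r t
    refine ⟨u ⟨h.root r t, hroot r t⟩, rfl, fun W hW => ?_⟩
    let y : K.E := ⟨h.root r t, hroot r t⟩
    have hy : φ y = W := huniq (hφ y) (Subgroup.subset_closure ⟨r, t, hW, rfl⟩)
    have hq : (QuotientGroup.quotientKerEquivOfSurjective φ hsurj).symm W = QuotientGroup.mk y := by
      rw [MulEquiv.symm_apply_eq, ← hy]
      rfl
    rw [MulEquiv.trans_apply, hq]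
    rfl
  rw [hker]
  ext y
  simp only [Subgroup.mem_map, Subgroup.mem_center_iff]
  constructor
  · rintro ⟨w, hw, rfl⟩ z
    obtain ⟨z, rfl⟩ := u.surjective z
    show u z * u w = u w * u z
    rw [← map_mul, ← map_mul, hw]
  · intro hy
    refine ⟨u.symm y, fun z => u.injective ?_, u.apply_symm_apply y⟩
    rw [map_mul, map_mul, u.apply_symm_apply]
    exact hy (u z)

/-- The group of the datum is the orthogonal group modulo centre. -/
theorem iso (h : Fits M K ev) {a₀ : ι} {edges : List (ι × ι)} (hoff : M.chkOff = true)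
    (hconn : M.chkConn [a₀] edges = true) {r₀ : Fin D.nroots} {j₀ : D.Idx} {x₀ y₀ : ι}
    (hmove : M.chkMove r₀ j₀ x₀ y₀ = true) (hsimple : IsSimpleGroup ↥(D.group F))
    (hperf : commutator ↥(D.group F) = ⊤) (hm : 2 ≤ K.m)
    (hX : ∀ (r : Fin D.nroots) (t : F), ∃ g : GL D.Idx F, g.val = D.xMat F r t) :
    Nonempty (↥(D.group F) ≃* Cfsg.POmega F (⇑K.Q)) :=
  let ⟨e, _⟩ := h.iso_spec hoff hconn hmove hsimple hperf hm hX
  ⟨e⟩

end Fits

end CfsgLib.ChevOrth
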