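import Cfsg.Prelude.Def_ChevD4
import Cfsg.Prelude.Def_ChevB2
import Cfsg.Agent.Lib.Chev.OrthIso

/-!
The orthogonal models of the Chevalley groups of types D4 and B2.
-/

set_option autoImplicit false
set_option maxRecDepth 100000

namespace CfsgLib.ChevOrth

open QuadraticMap Cfsg.Lie

/-- Coordinates of the natural module of type D4. -/
abbrev IxD4 := Fin 4 ⊕ Fin 4

/-- Coordinates of the natural module of type B2. -/
abbrev IxB2 := Unit ⊕ (Fin 2 ⊕ Fin 2)

/-- The root elements of type D4. -/
def datD4 : Fin chevD4.nroots → RootDat 4 :=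
  fun r => [((0, true), some (1, true), -1),
    ((0, true), some (2, true), 1),
    ((3, false), some (0, true), 1),
    ((0, true), some (3, true), -1),
    ((2, false), some (0, true), 1),
    ((1, false), some (0, true), 1),
    ((1, true), some (2, true), 1),
    ((3, false), some (1, true), 1),
    ((1, true), some (3, true), -1),
    ((2, false), some (1, true), 1),
    ((3, false), some (2, true), 1),
    ((2, true), some (3, true), -1),
    ((2, false), some (3, false), 1),
    ((2, false), some (3, true), 1),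
    ((1, false), some (2, true), 1),
    ((1, false), some (3, false), 1),
    ((1, false), some (3, true), 1),
    ((1, false), some (2, false), -1),
    ((0, false), some (1, true), 1),
    ((0, false), some (2, true), 1),
    ((0, false), some (3, false), 1),
    ((0, false), some (3, true), 1),
    ((0, false), some (2, false), -1),
    ((0, false), some (1, false), 1)].getD r.val ((0, true), some (1, true), -1)
/-- The images of the coroots of type D4. -/
def corD4 : List (SM (IxD4)) :=
  [[(.inl 0, .inl 0, 1), (.inl 1, .inl 1, -1), (.inr 0, .inr 0, -1), (.inr 1, .inr 1, 1)],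
    [(.inl 1, .inl 1, 1), (.inl 2, .inl 2, -1), (.inr 1, .inr 1, -1), (.inr 2, .inr 2, 1)],
    [(.inl 2, .inl 2, 1), (.inl 3, .inl 3, -1), (.inr 2, .inr 2, -1), (.inr 3, .inr 3, 1)],
    [(.inl 2, .inl 2, 1), (.inl 3, .inl 3, 1), (.inr 2, .inr 2, -1), (.inr 3, .inr 3, -1)]]

/-- The root elements of type B2. -/
def datB2 : Fin chevB2.nroots → RootDat 2 :=
  fun r => [((0, true), some (1, true), -1),
    ((0, true), none, 1),
    ((1, true), none, -1),
    ((1, false), some (0, true), 1),
    ((0, false), some (1, true), 1),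
    ((1, false), none, 1),
    ((0, false), none, -1),
    ((0, false), some (1, false), 1)].getD r.val ((0, true), some (1, true), -1)
/-- The images of the coroots of type B2. -/
def corB2 : List (SM (IxB2)) :=
  [[(.inr (.inl 1), .inr (.inl 1), 2), (.inr (.inr 1), .inr (.inr 1), -2)],
    [(.inr (.inl 0), .inr (.inl 0), 1), (.inr (.inl 1), .inr (.inl 1), -1), (.inr (.inr 0), .inr (.inr 0), -1), (.inr (.inr 1), .inr (.inr 1), 1)]]

/-- The model of type D4. -/
def modelD4 : Model chevD4 IxD4 where
  m := 4
  idx p := if p.2 then .inr p.1 else .inl p.1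
  i0 := .inl 0
  dat := datD4
  R
    | .inl i => corD4.getD i.val []
    | .inr s => matA (fun p => if p.2 then .inr p.1 else .inl p.1) (.inl 0) (datD4 s)
  all := (List.finRange 4).map .inl ++ (List.finRange 4).map .inr

/-- The model of type B2. -/
def modelB2 : Model chevB2 IxB2 where
  m := 2
  idx p := if p.2 then .inr (.inr p.1) else .inr (.inl p.1)
  i0 := .inl ()
  dat := datB2
  R
    | .inl i => corB2.getD i.val []
    | .inr s => matA (fun p => if p.2 then .inr (.inr p.1) else .inr (.inl p.1)) (.inl ()) (datB2 s)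
  all := .inl () :: ((List.finRange 2).map (fun i => .inr (.inl i)) ++ (List.finRange 2).map fun i => .inr (.inr i))

variable (F : Type*) [Field F]

/-- The plus form as a quadratic form. -/
noncomputable def qPlus : QuadraticForm F (IxD4 → F) :=
  (∑ i : Fin 4, QuadraticMap.proj (R := F) (.inl i : IxD4) (.inr i)).copy (Cfsg.quadFormPlus 4 F) (by
    funext v; simp [Cfsg.quadFormPlus, QuadraticMap.sum_apply])

/-- The odd form as a quadratic form. -/
noncomputable def qOdd : QuadraticForm F (IxB2 → F) :=
  (QuadraticMap.proj (R := F) (.inl () : IxB2) (.inl ()) +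
    ∑ i : Fin 2, QuadraticMap.proj (R := F) (.inr (.inl i) : IxB2) (.inr (.inr i))).copy
    (Cfsg.quadFormOdd 2 F) (by
    funext v; simp [Cfsg.quadFormOdd, QuadraticMap.sum_apply, pow_two])

theorem polar_qPlus (x y : IxD4 → F) : polar (⇑(qPlus F)) x y =
    ∑ i : Fin 4, (x (.inl i) * y (.inr i) + y (.inl i) * x (.inr i)) := by
  show polar (Cfsg.quadFormPlus 4 F) x y = _
  simp only [polar, Cfsg.quadFormPlus, Pi.add_apply, ← Finset.sum_sub_distrib]
  exact Finset.sum_congr rfl fun i _ => by ring

theorem polar_qOdd (x y : IxB2 → F) : polar (⇑(qOdd F)) x y = 2 * (x (.inl ()) * y (.inl ())) +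
    ∑ i : Fin 2, (x (.inr (.inl i)) * y (.inr (.inr i)) + y (.inr (.inl i)) * x (.inr (.inr i))) := by
  show polar (Cfsg.quadFormOdd 2 F) x y = _
  simp only [polar, Cfsg.quadFormOdd, Pi.add_apply, Fin.sum_univ_two]
  ring

theorem polarD4 (p : Fin 4 × Bool) (x : IxD4 → F) :
    polar (⇑(qPlus F)) (Pi.single (modelD4.idx p) 1) x = x (modelD4.idx (bar p)) := by
  obtain ⟨i, b⟩ := p
  rw [polar_qPlus]
  cases b <;> simp [modelD4, bar, Pi.single_apply]

theorem polarB2 (p : Fin 2 × Bool) (x : IxB2 → F) :
    polar (⇑(qOdd F)) (Pi.single (modelB2.idx p) 1) x = x (modelB2.idx (bar p)) := by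
  obtain ⟨i, b⟩ := p
  rw [polar_qOdd]
  cases b <;> simp [modelB2, bar, Pi.single_apply]

/-- The frame of type D4. -/
noncomputable def frameD4 : Frame F IxD4 where
  Q := qPlus F
  m := 4
  e p := Pi.single (modelD4.idx p) 1
  e0 := 0
  sing := by
    intro p
    show Cfsg.quadFormPlus 4 F _ = 0
    obtain ⟨i, b⟩ := p
    cases b <;> simp [Cfsg.quadFormPlus, modelD4, Pi.single_apply]
  pair p q := by
    rw [polarD4]
    obtain ⟨i, b⟩ := p
    obtain ⟨j, c⟩ := q
    cases b <;> cases c <;> simp [modelD4, bar, Pi.single_apply, @eq_comm _ i j]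
  orth0 p := polar_zero_right _ _
  rest x hx := ⟨0, by
    rw [zero_smul]
    funext i
    rcases i with i | i
    · exact (polarD4 F (i, true) x).symm.trans (hx (i, true))
    · exact (polarD4 F (i, false) x).symm.trans (hx (i, false))⟩
  q0 := Or.inl rfl

/-- The frame of type B2. -/
noncomputable def frameB2 : Frame F IxB2 where
  Q := qOdd F
  m := 2
  e p := Pi.single (modelB2.idx p) 1
  e0 := Pi.single (.inl ()) 1
  sing := by
    intro p
    show Cfsg.quadFormOdd 2 F _ = 0
    obtain ⟨i, b⟩ := p
    cases b <;> simp [Cfsg.quadFormOdd, modelB2, Pi.single_apply]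
  pair p q := by
    rw [polarB2]
    obtain ⟨i, b⟩ := p
    obtain ⟨j, c⟩ := q
    cases b <;> cases c <;> simp [modelB2, bar, Pi.single_apply, @eq_comm _ i j]
  orth0 p := by
    rw [polarB2]
    obtain ⟨i, b⟩ := p
    cases b <;> simp [modelB2, bar]
  rest x hx := ⟨x (.inl ()), by
    funext i
    rcases i with ⟨⟩ | i | i
    · simp
    · exact ((polarB2 F (i, true) x).symm.trans (hx (i, true))).trans (by simp)
    · exact ((polarB2 F (i, false) x).symm.trans (hx (i, false))).trans (by simp)⟩
  q0 := Or.inr (by
    show Cfsg.quadFormOdd 2 F _ = 1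
    simp [Cfsg.quadFormOdd])

theorem equivD4 : ∀ r, modelD4.chkEquiv r = true := by decide +kernel

theorem equivB2 : ∀ r, modelB2.chkEquiv r = true := by decide +kernel

theorem fitsD4 : Fits modelD4 (frameD4 F) rfl where
  e_eq _ := rfl
  polar_eq p x := polarD4 F p x
  e0_eq := by
    have : ∀ r, (modelD4.dat r).2.1 ≠ none := by decide +kernel
    exact fun r h => absurd h (this r)
  e0_cover := Or.inr rfl
  all_mem := by rintro (i | i) <;> simp [modelD4]
  all_nodup := by decide +kernel
  cover := by decide +kernel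
  dat_ok := by decide +kernel
  short := by decide +kernel
  equiv := equivD4

theorem fitsB2 : Fits modelB2 (frameB2 F) rfl where
  e_eq _ := rfl
  polar_eq p x := polarB2 F p x
  e0_eq r _ := ⟨rfl, fun x => by
    show polar (⇑(qOdd F)) (Pi.single (.inl ()) 1) x = _
    rw [polar_qOdd]; simp [modelB2]⟩
  e0_cover := Or.inl (by decide +kernel)
  all_mem := by rintro (⟨⟩ | i | i) <;> simp [modelB2]
  all_nodup := by decide +kernel
  cover := by decide +kernel
  dat_ok := by decide +kernel
  short := by decide +kernel
  equiv := equivB2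

end CfsgLib.ChevOrth
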