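import Cfsg.Agent.Lib.BNPair.PCount
import Cfsg.Agent.Lib.Chev.SteinbergChar
import Cfsg.Agent.Lib.Chev.RadicalCentralizer

/-!
The number of elements of `p`-power order of a Chevalley group.
-/

set_option autoImplicit false

namespace CfsgLib.Chev

open Cfsg.Lie Matrix CfsgLib.BN CfsgLib.Coxeter

namespace Cert

variable {D : ChevalleyDatum} {T : Tab} {C : Tab.Cover} (h : Cert D T C)
include h

/-- A word over `J` sending the simple roots of `J` to negative roots does so for all positive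
roots of `Φ_J`. -/
lemma rword_neg_of_simple_in {J : Set ℕ} {w : List ℕ} (hw : WordOK T w)
    (hs : ∀ i < T.l, i ∈ J → rword T w (T.simple i) < T.half) {r : ℕ} (hh : T.half ≤ r)
    (hin : D.InRootSub J r) : rword T w r < T.half := by
  have hr := h.inRootSub_lt hin
  suffices ∀ k < T.l, h.wt k (rword T w r) ≤ 0 by
    obtain ⟨k, hk, hne⟩ := h.exists_wt_ne (h.rword_lt hw hr)
    exact h.neg_of_wt_neg hk (h.rword_lt hw hr) (lt_of_le_of_ne (this k hk) hne)
  induction r using Nat.strong_induction_on with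
  | _ r ih =>
    intro k hk
    obtain ⟨-, hwt⟩ := h.inRootSub_iff.1 hin
    rcases h.exists_lower hh hr with ⟨i, hi, rfl⟩ | ⟨i, hi, hpos, hlt, hcar⟩
    · have hiJ : i ∈ J := by
        by_contra hiJ
        have h1 := h.wt_simple hi hi
        rw [if_pos rfl, hwt i hi hiJ] at h1
        exact lt_irrefl 0 h1
      exact h.wt_nonpos hk (h.rword_lt hw hr) (hs i hi hiJ)
    · have hiJ : i ∈ J := by
        by_contra hiJ
        have h1 := h.wt_refl hi hr i
        have h2 := h.wt_nonneg hi (h.refl_lt hi hr) hpos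
        have h3 := h.wt_simple hi hi
        rw [if_pos rfl] at h3
        rw [hwt i hi hiJ] at h1
        have := mul_pos hcar h3
        omega
      have hin' : D.InRootSub J (T.refl i r) :=
        h.inRootSub_iff.2 ⟨h.refl_lt hi hr, fun k hk hkJ => by
          rw [h.wt_refl hi hr, h.wt_simple_of_ne hi hk (fun e => hkJ (by rwa [← e])), mul_zero,
            sub_zero, hwt k hk hkJ]⟩
      have e := h.wt_rword_refl hw hi (h.refl_lt hi hr) k
      rw [h.refl_refl hi hr, h.car_refl hi hr] at e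
      have h1 := ih _ hlt hpos hin' (h.refl_lt hi hr) k hk
      have h2 := h.wt_nonpos hk (h.rword_lt hw (h.simple_lt hi)) (hs i hi hiJ)
      rw [e]
      nlinarith

variable {F : Type*} [Field F]

/-- An element of `U` in `n B n⁻¹` is in the radical. -/
lemma mem_radical_of_conj_borel {J : Set ℕ} {w : List ℕ} (hw : WordOK T w)
    (hJ : ∀ i ∈ w, i ∈ J) (hs : ∀ i < T.l, i ∈ J → rword T w (T.simple i) < T.half)
    {u : GL D.Idx F} (hu : u ∈ D.posUnipotent F)
    (hc : (nW D F w)⁻¹ * u * nW D F w ∈ D.borelSubgroup F) :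
    u ∈ D.unipotentRadical F J := by
  set n := nW D F w with hn
  have hnP : n ∈ D.parabolicSubgroup F J := by
    refine list_prod_mem fun x hx => ?_
    obtain ⟨i, hi, rfl⟩ := List.mem_map.1 hx
    exact h.nS_mem_parabolic (hw i hi) (hJ i hi)
  have hnN : n ∈ Subgroup.normalizer (D.unipotentRadical F J : Set (GL D.Idx F)) :=
    h.parabolic_le_normalizer J hnP
  obtain ⟨v, hv, t, ht, e⟩ := h.mem_borel_iff.1 hc
  have hmono : n ∈ D.monomialSubgroup F := h.nW_mem_monomial hw
  have ht' : n * t * n⁻¹ ∈ D.diagonalSubgroup F :=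
    (Subgroup.mem_normalizer_iff.1 (h.monomial_le_normalizer_diagonal hmono) t).1 ht
  have eu : u = n * v * n⁻¹ * (n * t * n⁻¹) := by
    rw [show n * v * n⁻¹ * (n * t * n⁻¹) = n * (v * t) * n⁻¹ by group, ← e]; group
  have hv' := hv
  rw [h.posUnipotent_eq, ← posList_set] at hv'
  obtain ⟨a, ha, b, hb, rfl⟩ := h.exists_split {r | T.half ≤ rword T w r} (posList T)
    sortedLT_posList (fun r hr => mem_posList.1 hr)
    (by rw [posList_set]; exact h.commClosed_posSet) v hv'
  rw [posList_set] at ha hb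
  have haR : a ∈ D.unipotentRadical F J := by
    rw [h.unipotentRadical_eq]
    refine gen_mono D (fun r hr => ?_) ha
    exact ⟨hr.1, fun hin => absurd (h.rword_neg_of_simple_in hw hs hr.1.1 hin) (not_lt.2 hr.2)⟩
  have haR' := (Subgroup.mem_normalizer_iff.1 hnN a).1 haR
  have hRU : D.unipotentRadical F J ≤ D.posUnipotent F := by
    rw [h.unipotentRadical_eq]; exact h.gen_pos_le fun r hr => hr.1
  have hb1 : n * b * n⁻¹ ∈ D.borelSubgroup F ⊓ D.negUnipotent F := by
    refine Subgroup.mem_inf.2 ⟨?_, ?_⟩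
    · have := mul_mem (mul_mem (inv_mem (Subgroup.mem_sup_left (hRU haR') :
          n * a * n⁻¹ ∈ D.borelSubgroup F)) (Subgroup.mem_sup_left hu : u ∈ D.borelSubgroup F))
        (inv_mem (Subgroup.mem_sup_right ht' : n * t * n⁻¹ ∈ D.borelSubgroup F))
      rwa [eu, show (n * a * n⁻¹)⁻¹ * (n * (a * b) * n⁻¹ * (n * t * n⁻¹)) * (n * t * n⁻¹)⁻¹ =
        n * b * n⁻¹ by group] at this
    · rw [h.negUnipotent_eq]
      exact conj_gen_le (S' := {r | r < T.half})
        (fun r hr => ⟨rword T w r, (show rword T w r < T.half from not_le.1 hr.2),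
          h.Maps_nW hw hr.1.2⟩) hb
  rw [h.borel_inf_negUnipotent, Subgroup.mem_bot, conj_eq_one_iff] at hb1
  rw [hb1, mul_one] at eu
  have h1 : n * t * n⁻¹ ∈ D.posUnipotent F ⊓ D.diagonalSubgroup F := by
    refine Subgroup.mem_inf.2 ⟨?_, ht'⟩
    have := mul_mem (inv_mem (hRU haR')) hu
    rwa [eu, inv_mul_cancel_left] at this
  rw [h.posUnipotent_inf_diagonal, Subgroup.mem_bot] at h1
  rw [eu, h1, mul_one]
  exact haR'

/-- A word whose element lies in the cell of `v` keeps the simple root positive unless `v` has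
that descent. -/
lemma rword_simple_of_len {P : Cfsg.BNPair ↥(D.group F)}
    (hB : P.B = (D.borelSubgroup F).subgroupOf (D.group F)) {s : P.S} {i : ℕ} (hi : i < T.l)
    (hs : ((s : ↥(D.group F)) : GL D.Idx F) = nS D F i) {w : List ℕ} (hw : WordOK T w)
    {m : ↥(D.group F)} (hm : (m : GL D.Idx F) = nW D F w) {v : CfsgLib.BN.Weyl P}
    (hv : m ∈ cell P v) (hlen : len (CfsgLib.BN.gen P) v ≤
      len (CfsgLib.BN.gen P) (v * CfsgLib.BN.gen P s)) :
    T.half ≤ rword T w (T.simple i) := by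
  by_contra hneg
  set r := T.neg (T.simple i) with hrdef
  have hr : r < T.n := neg_lt (T := T) (h.simple_lt hi)
  have hX : (⟨X D r (1 : F), h.X_mem_group hr 1⟩ : ↥(D.group F)) ∈
      cell P (CfsgLib.BN.gen P s) := by
    have e1 := h.X_neg_simple_eq (F := F) hi 1
    have hb : ∀ z : F, X D (T.simple i) z ∈ D.borelSubgroup F := fun z =>
      h.X_mem_borel (h.simple_spec hi).1 (h.simple_lt hi) z
    have hh : hU D (T.simple i) (-(1 : F)⁻¹) ∈ D.borelSubgroup F :=
      Subgroup.mem_sup_right (h.hU_mem (h.simple_lt hi) (by simp))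
    rw [CfsgLib.BN.gen]
    refine mem_cell_mk.2 ⟨⟨X D (T.simple i) (1 : F)⁻¹ * hU D (T.simple i) (-(1 : F)⁻¹),
      mul_mem (h.borel_le_group (hb _)) (h.borel_le_group hh)⟩, ?_,
      ⟨X D (T.simple i) (1 : F)⁻¹, h.borel_le_group (hb _)⟩, ?_, ?_⟩
    · rw [hB, Subgroup.mem_subgroupOf]; exact mul_mem (hb _) hh
    · rw [hB, Subgroup.mem_subgroupOf]; exact hb _
    · refine Subtype.ext ?_
      show X D r (1 : F) = X D (T.simple i) (1 : F)⁻¹ * hU D (T.simple i) (-(1 : F)⁻¹) *
        ((s : ↥(D.group F)) : GL D.Idx F) * X D (T.simple i) (1 : F)⁻¹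
      rw [hs, hrdef, e1]; simp only [mul_assoc]
  have h1 := mul_cell_right_of_len s hX hlen hv
  have hpos : T.half ≤ rword T w r := by
    rw [hrdef, h.rword_neg hw (h.simple_lt hi)]
    exact (h.half_le_neg_iff (h.rword_lt hw (h.simple_lt hi))).2 (not_le.1 hneg)
  obtain ⟨a, -, ea⟩ := h.Maps_nW (F := F) hw hr
  have hu : X D (rword T w r) (a * 1) ∈ D.borelSubgroup F :=
    h.X_mem_borel hpos (h.rword_lt hw hr) _
  have h2 : m * ⟨X D r (1 : F), h.X_mem_group hr 1⟩ ∈ cell P v := by
    have := left_cell (b := (⟨_, h.borel_le_group hu⟩ : ↥(D.group F))) hv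
      (by rw [hB, Subgroup.mem_subgroupOf]; exact hu)
    convert this using 1
    refine Subtype.ext ?_
    simp only [Subgroup.coe_mul, hm]
    rw [← ea 1]; group
  have := cell_inj h1 h2
  rw [mul_eq_left] at this
  exact gen_ne_one _ this

/-- The number of elements of `p`-power order. -/
theorem card_pElements [Fintype F] {p : ℕ} [hp : Fact p.Prime] [CharP F p] :
    Nat.card {g : ↥(D.group F) // ∃ k : ℕ, orderOf g = p ^ k} =
      Fintype.card F ^ (2 * (D.nroots / 2)) := by
  classical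
  obtain ⟨P, hB, hN, hS⟩ := h.exists_bnPair (F := F)
  have : Fintype P.S := Fintype.ofFinite _
  obtain ⟨m, -, hcard⟩ := FiniteField.card F p
  have hexidx : ∀ s : P.S, ∃ i < T.l, ((s : ↥(D.group F)) : GL D.Idx F) = nS D F i := fun s => by
    have h1 := s.2
    simp only [hS] at h1
    exact h1
  choose idx hidx hval using hexidx
  have hUG : D.posUnipotent F ≤ D.group F := h.posUnipotent_le_group
  set U := (D.posUnipotent F).subgroupOf (D.group F) with hUdef
  set R := fun J : Set P.S => (D.unipotentRadical F (idx '' J)).subgroupOf (D.group F) with hR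
  have hUB : U ≤ P.B := fun x hx => by
    rw [hB, Subgroup.mem_subgroupOf]
    exact Subgroup.mem_sup_left (Subgroup.mem_subgroupOf.1 hx)
  have hrad : ∀ J : Set ℕ, D.unipotentRadical F J ≤ D.posUnipotent F := fun J => by
    rw [h.unipotentRadical_eq]; exact h.gen_pos_le fun r hr => hr.1
  have hRU : ∀ J, R J ≤ U := fun J x hx => by
    rw [hUdef, Subgroup.mem_subgroupOf]
    exact hrad _ (Subgroup.mem_subgroupOf.1 hx)
  have hparle : ∀ J : Set P.S, par P J ≤
      (D.parabolicSubgroup F (idx '' J)).subgroupOf (D.group F) := by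
    intro J
    refine sup_le ?_ ((Subgroup.closure_le _).2 ?_)
    · rw [hB]; exact fun x hx => Subgroup.mem_sup_left hx
    · rintro _ ⟨s, hs, rfl⟩
      show ((s : ↥(D.group F)) : GL D.Idx F) ∈ D.parabolicSubgroup F (idx '' J)
      rw [hval s]
      exact h.nS_mem_parabolic (hidx s) ⟨s, hs, rfl⟩
  have hRn : ∀ (J : Set P.S), ∀ g ∈ par P J, ∀ x ∈ R J, g * x * g⁻¹ ∈ R J := by
    intro J g hg x hx
    exact (Subgroup.mem_normalizer_iff.1 (h.parabolic_le_normalizer _ (hparle J hg))
      (x : GL D.Idx F)).1 hx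
  -- the order of `U`
  have hcU : Nat.card U = p ^ ((m : ℕ) * T.half) := by
    rw [hUdef, Nat.card_congr (Subgroup.subgroupOfEquivOfLe hUG).toEquiv, h.card_posUnipotent,
      hcard, ← pow_mul]
  have hU : ∀ x ∈ U, ∃ k : ℕ, orderOf x = p ^ k := fun x hx => by
    have h1 : orderOf (⟨x, hx⟩ : U) ∣ p ^ ((m : ℕ) * T.half) := hcU ▸ orderOf_dvd_natCard _
    rw [← Subgroup.orderOf_coe] at h1
    obtain ⟨k, -, e⟩ := (Nat.dvd_prime_pow hp.out).1 h1
    exact ⟨k, e⟩
  obtain ⟨Q, hQ⟩ : ∃ Q : Sylow p ↥(D.group F), (Q : Subgroup ↥(D.group F)) = U := by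
    refine ⟨Sylow.ofCard U ?_, rfl⟩
    rw [hcU, h.factorization_card_group, hcard, ← pow_mul]
  have hinto : ∀ (J : Set P.S) (x : ↥(D.group F)), x ∈ par P J → (∃ k : ℕ, orderOf x = p ^ k) →
      ∃ g ∈ par P J, g * x * g⁻¹ ∈ U := by
    intro J x hx hord
    obtain ⟨k, hk⟩ := hord
    have hz : IsPGroup p (Subgroup.zpowers (⟨x, hx⟩ : ↥(par P J))) := by
      refine IsPGroup.of_card (n := k) ?_
      rw [Nat.card_zpowers, ← Subgroup.orderOf_coe]
      exact hk
    obtain ⟨Q', hQ'⟩ := hz.exists_le_sylow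
    have hQle : (Q : Subgroup ↥(D.group F)) ≤ par P J := hQ ▸ hUB.trans (B_le_par J)
    obtain ⟨g, hg⟩ := MulAction.exists_smul_eq ↥(par P J) Q' (Q.subtype hQle)
    refine ⟨g, g.2, ?_⟩
    have h1 : MulAut.conj g (⟨x, hx⟩ : ↥(par P J)) ∈ (Q.subtype hQle : Subgroup ↥(par P J)) := by
      rw [← hg, Sylow.coe_subgroup_smul]
      exact Subgroup.smul_mem_pointwise_smul _ (MulAut.conj g) _
        (hQ' (Subgroup.mem_zpowers _))
    rw [← hQ]
    exact h1
  -- words over a set of generators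
  have hword : ∀ (J : Set P.S) (v : CfsgLib.BN.Weyl P), v ∈ std (CfsgLib.BN.gen P) J →
      ∃ w : List ℕ, WordOK T w ∧ (∀ i ∈ w, i ∈ idx '' J) ∧
        ∃ m : ↥(D.group F), (m : GL D.Idx F) = nW D F w ∧ m ∈ cell P v := by
    intro J v hv
    obtain ⟨L, hL, rfl⟩ := gens.exists_std_word hv
    refine ⟨L.map idx, fun i hi => ?_, fun i hi => ?_, rep P L, ?_, rep_mem_cell L⟩
    · obtain ⟨s, -, rfl⟩ := List.mem_map.1 hi; exact hidx s
    · obtain ⟨s, hs, rfl⟩ := List.mem_map.1 hi; exact ⟨s, hL s hs, rfl⟩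
    · clear hL hv
      induction L with
      | nil => simp [rep, nW]
      | cons s L ih =>
        rw [List.map_cons, nW_cons, ← ih, ← hval s]
        simp [rep]
  -- the values on `U`
  have hfix : ∀ (J : Set P.S) (v : CfsgLib.BN.Weyl P), v ∈ std (CfsgLib.BN.gen P) J →
      (∀ s ∈ J, len (CfsgLib.BN.gen P) (v * CfsgLib.BN.gen P s) < len (CfsgLib.BN.gen P) v) →
      cellCard P v * Nat.card ↥(R J) = Nat.card ↥U ∧
        ∀ x ∈ U, fixCell P x v = if x ∈ R J then cellCard P v else 0 := by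
    intro J v hv hd
    obtain ⟨w, hw, hwJ, n, hn, hnv⟩ := hword J v hv
    have hneg : ∀ i < T.l, i ∈ idx '' J → rword T w (T.simple i) < T.half := by
      rintro _ hi ⟨s, hs, rfl⟩
      have hcell : n * (s : ↥(D.group F)) ∈ cell P (v * CfsgLib.BN.gen P s) := by
        have hnN : n ∈ P.N := by
          rw [hN, Subgroup.mem_subgroupOf, hn]
          exact h.nW_mem_monomial hw
        rw [cell_inj hnv (mk_mem_cell ⟨n, hnN⟩)]
        exact mk_mem_cell ((⟨n, hnN⟩ : P.N) * ⟨(s : ↥(D.group F)), P.subset s.2⟩)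
      have hw' : WordOK T (w ++ [idx s]) := fun i hi => by
        rcases List.mem_append.1 hi with hi | hi
        · exact hw i hi
        · rw [List.mem_singleton.1 hi]; exact hidx s
      have h1 := h.rword_simple_of_len hB (hidx s) (hval s) hw' (m := n * (s : ↥(D.group F)))
        (by rw [Subgroup.coe_mul, hn, hval s, nW_append]; simp [nW]) hcell
        (by rw [mul_assoc, gen_sq, mul_one]; exact (hd s hs).le)
      rw [rword_append, show rword T [idx s] (T.simple (idx s)) =
        T.refl (idx s) (T.simple (idx s)) from rfl, h.refl_simple (hidx s),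
        h.rword_neg hw (h.simple_lt (hidx s))] at h1
      exact (h.half_le_neg_iff (h.rword_lt hw (h.simple_lt (hidx s)))).1 h1
    -- the stabiliser of `n B` in `U`
    have hst : ∀ u ∈ U, n⁻¹ * u * n ∈ P.B ↔ u ∈ R J := by
      intro u hu
      rw [hB, Subgroup.mem_subgroupOf]
      simp only [Subgroup.coe_mul, Subgroup.coe_inv, hn, hR, Subgroup.mem_subgroupOf]
      refine ⟨fun hc => h.mem_radical_of_conj_borel hw hwJ hneg (Subgroup.mem_subgroupOf.1 hu) hc,
        fun hc => Subgroup.mem_sup_left (hrad (idx '' J) ?_)⟩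
      have hnN : nW D F w ∈ D.parabolicSubgroup F (idx '' J) := by
        refine list_prod_mem fun x hx => ?_
        obtain ⟨i, hi, rfl⟩ := List.mem_map.1 hx
        exact h.nS_mem_parabolic (hw i hi) (hwJ i hi)
      exact (Subgroup.mem_normalizer_iff''.1 (h.parabolic_le_normalizer _ hnN) _).1 hc
    -- the cosets of the cell are the translates by `U`
    let f : ↥U → {z : ↥(D.group F) ⧸ P.B // z ∈ cosets P v} := fun u =>
      ⟨(((u : ↥(D.group F)) * n : ↥(D.group F)) : ↥(D.group F) ⧸ P.B),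
        mk_mem_cosets.2 (left_cell hnv (hUB u.2))⟩
    have hf : Function.Surjective f := by
      rintro ⟨z, g, hg, rfl⟩
      have hnN : n ∈ P.N := by
        rw [hN, Subgroup.mem_subgroupOf, hn]
        exact h.nW_mem_monomial hw
      have h1 : v = QuotientGroup.mk ⟨n, hnN⟩ := cell_inj hnv (mk_mem_cell ⟨n, hnN⟩)
      rw [h1] at hg
      obtain ⟨b, hb, b', hb', rfl⟩ := mem_cell_mk.1 hg
      rw [hB, Subgroup.mem_subgroupOf] at hb
      obtain ⟨u, hu, t, ht, e⟩ := h.mem_borel_iff.1 hb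
      refine ⟨⟨⟨u, hUG hu⟩, hu⟩, Subtype.ext (QuotientGroup.eq.2 ?_)⟩
      rw [show ((⟨u, hUG hu⟩ : ↥(D.group F)) * n)⁻¹ * (b * n * b') =
        (n⁻¹ * (⟨u, hUG hu⟩⁻¹ * b) * n) * b' by group]
      refine mul_mem ?_ hb'
      rw [hB, Subgroup.mem_subgroupOf]
      simp only [Subgroup.coe_mul, Subgroup.coe_inv, hn, e, inv_mul_cancel_left]
      refine Subgroup.mem_sup_right ((Subgroup.mem_normalizer_iff''.1
        (h.monomial_le_normalizer_diagonal (h.nW_mem_monomial hw)) t).1 ht)
    have hfeq : ∀ a b : ↥U, f a = f b ↔ ((a⁻¹ * b : ↥U) : ↥(D.group F)) ∈ R J := by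
      intro a b
      rw [Subtype.ext_iff, ← hst _ (a⁻¹ * b).2, QuotientGroup.eq]
      simp only [Subgroup.coe_mul, Subgroup.coe_inv]
      rw [show ((a : ↥(D.group F)) * n)⁻¹ * ((b : ↥(D.group F)) * n) =
        n⁻¹ * ((a : ↥(D.group F))⁻¹ * b) * n by group]
    have hcc : cellCard P v = ((R J).subgroupOf U).index := by
      rw [cellCard, Subgroup.index_eq_card]
      symm
      refine Nat.card_eq_of_bijective (Quotient.lift f fun a b hab => (hfeq a b).2 ?_) ⟨?_, ?_⟩
      · exact Subgroup.mem_subgroupOf.1 (QuotientGroup.leftRel_apply.1 (hab : QuotientGroup.leftRel ((R J).subgroupOf U) a b))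
      · intro p₁ p₂
        induction p₁ using Quotient.ind with
        | _ a =>
          induction p₂ using Quotient.ind with
          | _ b =>
            exact fun e => Quotient.sound (QuotientGroup.leftRel_apply.2
              (Subgroup.mem_subgroupOf.2 ((hfeq a b).1 e)))
      · intro z
        obtain ⟨u, rfl⟩ := hf z
        exact ⟨Quotient.mk _ u, rfl⟩
    refine ⟨?_, fun x hx => ?_⟩
    · rw [hcc, ← Nat.card_congr (Subgroup.subgroupOfEquivOfLe (hRU J)).toEquiv]
      exact Subgroup.index_mul_card _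
    · have hfixiff : ∀ u : ↥U, x • (f u).1 = (f u).1 ↔ x ∈ R J := by
        intro u
        have h1 : x • (f u).1 = (f (⟨x, hx⟩ * u)).1 :=
          congrArg (fun y : ↥(D.group F) => (y : ↥(D.group F) ⧸ P.B)) (mul_assoc x _ n).symm
        rw [h1, ← Subtype.ext_iff, hfeq]
        have hn' : ∀ g ∈ U, ∀ y ∈ R J, g * y * g⁻¹ ∈ R J := fun g hg =>
          hRn J g ((hUB.trans (B_le_par J)) hg)
        simp only [Subgroup.coe_mul, Subgroup.coe_inv]
        constructor
        · intro hc
          have h2 := hn' _ u.2 _ (inv_mem hc)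
          simpa [mul_assoc] using h2
        · intro hc
          have h2 := hn' _ (inv_mem u.2) _ (inv_mem hc)
          simpa [mul_assoc] using h2
      rw [fixCell, cellCard]
      split_ifs with hc
      · refine Nat.card_congr (Equiv.subtypeEquivRight fun z => and_iff_left_of_imp fun hz => ?_)
        obtain ⟨u, hu⟩ := hf ⟨z, hz⟩
        have := (hfixiff u).2 hc
        rwa [hu] at this
      · have : IsEmpty {z : ↥(D.group F) ⧸ P.B // z ∈ cosets P v ∧ x • z = z} := ⟨fun ⟨z, hz, hz'⟩ => by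
          obtain ⟨u, hu⟩ := hf ⟨z, hz⟩
          refine hc ((hfixiff u).1 ?_)
          rw [hu]; exact hz'⟩
        exact Nat.card_of_isEmpty
  obtain ⟨w₀, hw₀, hd₀⟩ := gens.exists_descents exchange (σ := CfsgLib.BN.gen P) gen_len_ne
    (↑(Finset.univ : Finset P.S) : Set P.S)
  have hkey := card_in_par U (fun g => ∃ k : ℕ, orderOf g = p ^ k)
    (fun g x hx => by
      obtain ⟨k, hk⟩ := hx
      exact ⟨k, (orderOf_injective (MulAut.conj g).toMonoidHom
        (MulAut.conj g).injective x).trans hk⟩)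
    hU hUB hinto R hRU hRn hfix Finset.univ w₀ hw₀ hd₀
  have htop : ∀ g : ↥(D.group F), g ∈ par P (↑(Finset.univ : Finset P.S) : Set P.S) := by
    intro g
    obtain ⟨v, hv⟩ := exists_cell (P := P) g
    refine cell_subset_par ?_ hv
    obtain ⟨L, rfl⟩ := gens.exists_word v
    exact Gens.wprod_mem_std fun s _ => by simp
  have hRtop : R (↑(Finset.univ : Finset P.S) : Set P.S) = ⊥ := by
    refine (Subgroup.eq_bot_iff_forall _).2 fun x hx => Subtype.ext ?_
    have hemp : radSet D T (idx '' (↑(Finset.univ : Finset P.S) : Set P.S)) = ∅ := by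
      refine Set.eq_empty_iff_forall_notMem.2 fun r hr => ?_
      obtain ⟨-, k, hk, hkJ, -⟩ := h.mem_radSet_iff.1 hr
      have hkG : nS D F k ∈ D.group F := h.monomial_le_group (h.nS_mem_monomial hk)
      have hkS : (⟨nS D F k, hkG⟩ : ↥(D.group F)) ∈ P.S := by rw [hS]; exact ⟨k, hk, rfl⟩
      refine hkJ ⟨⟨_, hkS⟩, by simp, h.nS_inj (F := F) (hidx _) hk ?_⟩
      rw [← hval]
      simp
    have hx' := Subgroup.mem_subgroupOf.1 hx
    rw [h.unipotentRadical_eq, hemp, CfsgLib.Chev.gen] at hx'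
    simpa using hx'
  obtain ⟨hc, -⟩ := hfix _ w₀ hw₀ hd₀
  rw [hRtop, Subgroup.card_bot, mul_one] at hc
  rw [Nat.card_congr (Equiv.subtypeEquivRight fun g => (and_iff_right (htop g)))] at hkey
  rw [hkey, hc, hUdef, Nat.card_congr (Subgroup.subgroupOfEquivOfLe hUG).toEquiv,
    h.card_posUnipotent, ← pow_add, h.nroots_eq]
  congr 1
  have := h.two_mul_half
  omega

end Cert

end CfsgLib.Chev
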