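import Cfsg.Agent.Lib.BNPair.HeckeCenter
import Cfsg.Agent.Lib.Chev.BN
import Cfsg.Agent.Lib.Chev.Bruhat

/-!
The constituents of the permutation character of a Chevalley group on the cosets of its Borel
subgroup.
-/

set_option autoImplicit false

namespace CfsgLib.Chev

open Cfsg.Lie Matrix CfsgLib.BN CfsgLib.Coxeter

namespace Cert

variable {D : ChevalleyDatum} {T : Tab} {C : Tab.Cover} (h : Cert D T C) {F : Type*} [Field F]
include h

/-- A simple cell consists of `q` cosets. -/
lemma cellCard_gen [Fintype F] {P : Cfsg.BNPair ↥(D.group F)}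
    (hB : P.B = (D.borelSubgroup F).subgroupOf (D.group F)) {s : P.S} {i : ℕ} (hi : i < T.l)
    (hs : ((s : ↥(D.group F)) : GL D.Idx F) = nS D F i) :
    cellCard P (CfsgLib.BN.gen P s) = Fintype.card F := by
  have hp := h.simple_lt hi
  have hXB : ∀ a : F, X D (T.simple i) a ∈ D.borelSubgroup F := fun a =>
    h.X_mem_borel (h.simple_spec hi).1 hp a
  rw [← Nat.card_eq_fintype_card (α := F), cellCard]
  symm
  refine Nat.card_eq_of_bijective
    (fun a : F => ⟨(((⟨X D (T.simple i) a, h.borel_le_group (hXB a)⟩ : ↥(D.group F)) *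
      (s : ↥(D.group F)) : ↥(D.group F)) : ↥(D.group F) ⧸ P.B),
      mk_mem_cosets.2 (left_cell (gen_mem_cell s)
        (by rw [hB, Subgroup.mem_subgroupOf]; exact hXB a))⟩) ⟨?_, ?_⟩
  · intro a b e
    have e' := congrArg Subtype.val e
    simp only [QuotientGroup.eq] at e'
    rw [hB, Subgroup.mem_subgroupOf] at e'
    simp only [Subgroup.coe_mul, Subgroup.coe_inv, hs, _root_.mul_inv_rev] at e'
    have hd : ∀ t, nS D F i * X D (T.simple i) t * (nS D F i)⁻¹ ∈ D.borelSubgroup F → t = 0 := by
      intro t ht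
      rw [h.nS_conj_X hi hp, h.refl_simple hi] at ht
      have hlt : T.neg (T.simple i) < T.half := by
        have := (h.simple_spec hi).1
        have := h.two_mul_half
        unfold Tab.neg; omega
      have h2 : X D (T.neg (T.simple i)) ((T.eta i (T.simple i) : F) * t) ∈
          D.borelSubgroup F ⊓ D.negUnipotent F :=
        ⟨ht, h.gen_neg_le (S := {T.neg (T.simple i)}) (fun r hr => hr ▸ hlt)
          (X_mem_gen D (Set.mem_singleton _) _)⟩
      rw [h.borel_inf_negUnipotent, Subgroup.mem_bot, h.X_eq_one_iff (neg_lt (T := T) hp),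
        mul_eq_zero] at h2
      exact h2.resolve_left (by rcases T.eta_cases i (T.simple i) with e | e <;> simp [e])
    have hss : nS D F i * nS D F i ∈ D.borelSubgroup F :=
      Subgroup.mem_sup_right (h.nS_mul_self hi)
    have h3 : nS D F i * (X D (T.simple i) (-a) * X D (T.simple i) b) * (nS D F i)⁻¹ ∈
        D.borelSubgroup F := by
      have := mul_mem (mul_mem hss e') (inv_mem hss)
      rw [← h.X_inv hp a]
      convert this using 1
      group
    rw [h.X_add hp] at h3
    exact (neg_add_eq_zero.1 (hd _ h3))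
  · rintro ⟨z, g, hg, rfl⟩
    obtain ⟨b, hb, b', hb', rfl⟩ := (show g ∈ cell P (QuotientGroup.mk
      (⟨(s : ↥(D.group F)), P.subset s.2⟩ : P.N)) from hg) |> mem_cell_mk.1
    have hb2 := hb
    rw [hB, Subgroup.mem_subgroupOf] at hb2
    obtain ⟨u, hu, t, ht, e⟩ := h.mem_borel_iff.1 hb2
    obtain ⟨v, hv, a, rfl⟩ := h.exists_posBut_mul hi hu
    refine ⟨a, Subtype.ext (QuotientGroup.eq.2 ?_)⟩
    simp only [Subgroup.coe_mk]
    rw [hB, Subgroup.mem_subgroupOf]
    simp only [Subgroup.coe_mul, Subgroup.coe_inv, hs, _root_.mul_inv_rev]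
    rw [e]
    have hv' : (X D (T.simple i) a)⁻¹ * v * X D (T.simple i) a ∈ CfsgLib.Chev.gen D F (posBut T i) :=
      (Subgroup.mem_normalizer_iff''.1 (h.simple_normalizes_posBut hi hp (h.wt_simple_zero hi).1
        (X_mem_gen D (Set.mem_singleton _) a)) v).1 hv
    have hv'' := h.nS_conj_posBut hi hv'
    have hsmul : (nS D F i * nS D F i) ∈ D.borelSubgroup F :=
      Subgroup.mem_sup_right (h.nS_mul_self hi)
    have hconjB : ∀ y : GL D.Idx F, nS D F i * y * (nS D F i)⁻¹ ∈ D.borelSubgroup F →
        (nS D F i)⁻¹ * y * nS D F i ∈ D.borelSubgroup F := by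
      intro y hy
      have := mul_mem (mul_mem (inv_mem hsmul) hy) hsmul
      convert this using 1
      group
    have h1 := hconjB _ (Subgroup.mem_sup_left (h.gen_pos_le (fun r hr => hr.1) hv''))
    have h2 : (nS D F i)⁻¹ * t * nS D F i ∈ D.borelSubgroup F :=
      Subgroup.mem_sup_right ((Subgroup.mem_normalizer_iff''.1
        (h.monomial_le_normalizer_diagonal (h.nS_mem_monomial hi)) t).1 ht)
    have hb'' := hb'
    rw [hB, Subgroup.mem_subgroupOf] at hb''
    have := mul_mem (mul_mem h1 h2) hb''
    convert this using 1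
    group

/-- The constituents are as many as the classes of the Weyl group. -/
theorem card_principal [Fintype F] {M : Type*} [Group M] (φ : ↥(D.monomialSubgroup F) →* M)
    (hφ : Function.Surjective φ)
    (hker : φ.ker = (D.diagonalSubgroup F).subgroupOf (D.monomialSubgroup F)) :
    Nat.card {χ : Cfsg.IrrCharacter ↥(D.group F) //
      ∃ ψ : ↥(D.group F) → ℂ, Cfsg.IsCharacter ↥(D.group F) ψ ∧
        Cfsg.fixedPointCharacter ((D.borelSubgroup F).subgroupOf (D.group F)) =
          (χ : ↥(D.group F) → ℂ) + ψ} = Nat.card (ConjClasses M) := by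
  classical
  obtain ⟨P, hB, hN, hS⟩ := h.exists_bnPair (F := F)
  have : Fintype ↥(D.group F) := Fintype.ofFinite _
  rw [← hB, card_constituents (q := Fintype.card F) Fintype.card_pos (fun s => by
    have h1 := s.2
    simp only [hS] at h1
    obtain ⟨i, hi, e⟩ := h1
    exact h.cellCard_gen hB hi e)]
  let e₀ : P.N →* ↥(D.monomialSubgroup F) :=
    { toFun := fun n => ⟨((n : ↥(D.group F)) : GL D.Idx F), by
        have := n.2
        simp only [hN, Subgroup.mem_subgroupOf] at this
        exact this⟩
      map_one' := rfl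
      map_mul' := fun _ _ => rfl }
  have hsurj : Function.Surjective (φ.comp e₀) := fun m => by
    obtain ⟨g, rfl⟩ := hφ m
    exact ⟨⟨⟨g, h.monomial_le_group g.2⟩, by rw [hN, Subgroup.mem_subgroupOf]; exact g.2⟩, rfl⟩
  have hk : torusN P = (φ.comp e₀).ker := by
    ext n
    have hn : ((n : ↥(D.group F)) : GL D.Idx F) ∈ D.monomialSubgroup F := (e₀ n).2
    rw [MonoidHom.mem_ker, MonoidHom.comp_apply, ← MonoidHom.mem_ker, hker,
      Subgroup.mem_subgroupOf, Subgroup.mem_subgroupOf, Subgroup.mem_inf, hB,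
      Subgroup.mem_subgroupOf, ← h.borel_inf_monomial]
    exact ⟨fun hx => Subgroup.mem_inf.2 ⟨hx.1, hn⟩, fun hx => ⟨(Subgroup.mem_inf.1 hx).1, n.2⟩⟩
  let e : Weyl P ≃* M :=
    (QuotientGroup.quotientMulEquivOfEq hk).trans
      (QuotientGroup.quotientKerEquivOfSurjective (φ.comp e₀) hsurj)
  exact Nat.card_congr
    { toFun := ConjClasses.map e.toMonoidHom
      invFun := ConjClasses.map e.symm.toMonoidHom
      left_inv := fun c => by
        induction c using Quotient.ind with
        | _ a => exact congrArg ConjClasses.mk (e.symm_apply_apply a)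
      right_inv := fun c => by
        induction c using Quotient.ind with
        | _ a => exact congrArg ConjClasses.mk (e.apply_symm_apply a) }

end Cert

end CfsgLib.Chev
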