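import Cfsg.Agent.Lib.Chev.NMat

/-!
All roots: additivity, the units `X r t`, and the elements `h_r(t)`.
-/

set_option autoImplicit false

namespace CfsgLib.Chev

open Cfsg.Lie Matrix

lemma testBit_bitsOf (L : List ℕ) (r : ℕ) : (Tab.bitsOf L).testBit r = true ↔ r ∈ L := by
  induction L with
  | nil => simp [Tab.bitsOf]
  | cons a L ih =>
    change (Tab.bitsOf L ||| 2 ^ a).testBit r = true ↔ _
    rw [Nat.testBit_lor, Bool.or_eq_true, ih, Nat.testBit_two_pow, decide_eq_true_eq, List.mem_cons,
      eq_comm (a := a), or_comm]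

lemma covers_spec {step : ℕ → ℕ → ℕ → Bool} {P : ℕ → Prop} :
    ∀ (L : List (ℕ × ℕ × ℕ)) (seen : ℕ) {out : ℕ}, Tab.covers step seen L = some out →
      (∀ r, seen.testBit r = true → P r) →
      (∀ e ∈ L, step e.1 e.2.1 e.2.2 = true → P e.2.2 → P e.1) →
      ∀ r, out.testBit r = true → P r := by
  intro L
  induction L with
  | nil => intro seen out h hseen _; cases h; exact hseen
  | cons e L ih =>
    obtain ⟨a, i, b⟩ := e
    intro seen out h hseen hstep
    simp only [Tab.covers] at h
    split at h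
    · next hc =>
      rw [Bool.and_eq_true] at hc
      refine ih _ h (fun r hr => ?_) fun e he => hstep e (List.mem_cons_of_mem _ he)
      rw [Nat.testBit_lor, Bool.or_eq_true] at hr
      rcases hr with hr | hr
      · exact hseen r hr
      · rw [Nat.testBit_two_pow, decide_eq_true_eq] at hr
        subst hr
        exact hstep (a, i, b) List.mem_cons_self hc.2 (hseen b hc.1)
    · cases h

/-- Binomial expansion, as the engine writes it. -/
lemma ev_binom {F : Type*} [Field F] (t u : F) (row : ℕ) (L : List (ℕ × ℕ × ℤ)) :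
    ev t u (L.flatMap fun q => (List.range (q.2.1 + 1)).map fun k =>
        ((q.1, k, q.2.1 - k), q.2.2 * (Nat.choose q.2.1 k : ℤ))) row =
      (L.map fun q => if q.1 = row then (q.2.2 : F) * (t + u) ^ q.2.1 else 0).sum := by
  induction L with
  | nil => simp
  | cons q L ih =>
    rw [List.flatMap_cons, ev_append, ih, List.map_cons, List.sum_cons]
    congr 1
    simp only [ev, List.map_map, Function.comp_def, evTerm]
    by_cases e : q.1 = row
    · simp only [if_pos e]
      rw [add_pow, Finset.mul_sum, ← List.sum_toFinset _ (List.nodup_range), List.toFinset_range]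
      refine Finset.sum_congr rfl fun k _ => ?_
      push_cast
      ring
    · simp [if_neg e]

open Classical in
/-- The root element as a unit. -/
noncomputable def X (D : ChevalleyDatum) {F : Type*} [Field F] (r : ℕ) (t : F) : GL D.Idx F :=
  if h : IsUnit (D.x F r t) then h.unit else 1

/-- `n_r(t)` as a unit. -/
noncomputable def nU (D : ChevalleyDatum) {F : Type*} [Field F] (r : ℕ) (t : F) : GL D.Idx F :=
  X D r t * X D (D.neg r) (-t⁻¹) * X D r t

/-- `h_r(t)` as a unit. -/
noncomputable def hU (D : ChevalleyDatum) {F : Type*} [Field F] (r : ℕ) (t : F) : GL D.Idx F :=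
  nU D r t * nU D r (-1)

namespace Cert

variable {D : ChevalleyDatum} {T : Tab} {C : Tab.Cover} (h : Cert D T C)
include h

/-- Induction over all roots from the base roots. -/
lemma base_induction {P : ℕ → Prop} (hb : ∀ b ∈ C.base, P b.1)
    (hw : ∀ i < T.l, ∀ r < T.n, (r, i) ∈ C.tree.map (fun e => (e.2.2, e.2.1)) → P r → P (T.refl i r))
    {r : ℕ} (hr : r < T.n) : P r := by
  have h0 := h.coverOk
  simp only [Tab.chkCover, Bool.and_eq_true, Tab.chkTree] at h0
  obtain ⟨h1, -⟩ := h0
  split at h1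
  · cases h1
  next seen hs =>
    rw [List.all_eq_true] at h1
    refine covers_spec _ _ hs (fun s hs' => ?_) (fun e he hst hP => ?_) r
      (h1 r (List.mem_range.2 hr))
    · rw [testBit_bitsOf, List.mem_map] at hs'
      obtain ⟨b, hb', rfl⟩ := hs'
      exact hb b hb'
    · simp only [decide_eq_true_eq] at hst
      obtain ⟨hi, hlt, he'⟩ := hst
      rw [← he']
      exact hw _ hi _ hlt (List.mem_map.2 ⟨e, he, rfl⟩) hP

lemma base_lt {b : ℕ × List ℕ × List (ℕ × ℕ × ℕ)} (hb : b ∈ C.base) : b.1 < T.n := by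
  have h0 := h.coverOk
  simp only [Tab.chkCover, Bool.and_eq_true, List.all_eq_true, decide_eq_true_eq] at h0
  exact (h0.2.1 b hb).1

variable {F : Type*} [Field F]

lemma x_mul_n {i : ℕ} (hi : i < T.l) {r : ℕ} (hr : r < T.n) (t : F) :
    D.x F (T.refl i r) t * D.nMat F (D.simple i) 1 =
      D.nMat F (D.simple i) 1 * D.x F r ((T.eta i r : F) * t) := by
  rw [h.nMat_mul_x hi hr]
  congr 2
  rcases T.eta_cases i r with e | e <;> simp [e]

lemma nMat_cancel {i : ℕ} (hi : i < T.l) {A B : Matrix D.Idx D.Idx F}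
    (e : A * D.nMat F (D.simple i) 1 = B * D.nMat F (D.simple i) 1) : A = B := by
  have := congrArg (· * D.nMat F (D.simple i) (-1)) e
  simpa [Matrix.mul_assoc, h.nMat_inv hi] using this

/-- `x_r` is additive. -/
theorem x_add {r : ℕ} (hr : r < T.n) (t u : F) :
    D.x F r t * D.x F r u = D.x F r (t + u) := by
  refine h.base_induction (P := fun r => ∀ t u : F, D.x F r t * D.x F r u = D.x F r (t + u))
    (fun b hb t u => ?_) (fun i hi r hr _ ih t u => ?_) hr t u
  · have h0 := h.coverOk
    simp only [Tab.chkCover, Bool.and_eq_true, List.all_eq_true] at h0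
    have hadd := (h0.2.1 b hb).2.1
    simp only [Tab.chkAdd, List.all_eq_true, List.mem_range] at hadd
    ext row col
    have e1 : D.x F b.1 t * D.x F b.1 u =
        D.wordMat F (wordAt [(b.1, 1, 1, 0), (b.1, 1, 0, 1)] t u) := by
      simp [ChevalleyDatum.wordMat, wordAt]
    rw [e1, wordMat_apply h.agrees false _ t u (by simp), x_apply h.agrees (h.base_lt hb), ← ev_binom]
    exact ev_eq_of_same t u _ false (by simp) (hadd _ (enc_lt h.agrees col))
  · refine h.nMat_cancel hi ?_
    rw [Matrix.mul_assoc, h.x_mul_n hi hr, ← Matrix.mul_assoc, h.x_mul_n hi hr, Matrix.mul_assoc,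
      ih, h.x_mul_n hi hr, mul_add]

lemma isUnit_x (r : ℕ) (t : F) : IsUnit (D.x F r t) := by
  by_cases hr : r < T.n
  · exact ⟨⟨D.x F r t, D.x F r (-t), by rw [h.x_add hr, add_neg_cancel, h.x_zero hr],
      by rw [h.x_add hr, neg_add_cancel, h.x_zero hr]⟩, rfl⟩
  · rw [x_of_le h.agrees (not_lt.1 hr)]; exact isUnit_one

@[simp] lemma coe_X (r : ℕ) (t : F) : (X D r t : Matrix D.Idx D.Idx F) = D.x F r t := by
  rw [X, dif_pos (h.isUnit_x r t)]; rfl

lemma X_add {r : ℕ} (hr : r < T.n) (t u : F) : X D r t * X D r u = X D r (t + u) :=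
  Units.ext (by simp [h.coe_X, h.x_add hr])

lemma X_zero {r : ℕ} (hr : r < T.n) : X D r (0 : F) = 1 := Units.ext (by simp [h.coe_X, h.x_zero hr])

lemma X_eq_one_iff {r : ℕ} (hr : r < T.n) (t : F) : X D r t = 1 ↔ t = 0 := by
  rw [← h.x_eq_one_iff hr t, ← h.coe_X, Units.val_eq_one]

lemma X_inv {r : ℕ} (hr : r < T.n) (t : F) : (X D r t)⁻¹ = X D r (-t) :=
  inv_eq_of_mul_eq_one_right (by rw [h.X_add hr, add_neg_cancel, h.X_zero hr])

lemma coe_nU (r : ℕ) (t : F) : (nU D r t : Matrix D.Idx D.Idx F) = D.nMat F r t := by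
  simp [nU, h.coe_X, ChevalleyDatum.nMat, ChevalleyDatum.nWord, ChevalleyDatum.wordMat,
    Matrix.mul_assoc]

lemma coe_hU (r : ℕ) (t : F) : (hU D r t : Matrix D.Idx D.Idx F) = D.hMat F r t := by
  rw [hU, hMat_eq, Units.val_mul, h.coe_nU, h.coe_nU]

/-- The pairing is invariant under the simple reflections. -/
lemma pairing_refl {i : ℕ} (hi : i < T.l) {r s : ℕ} (hr : r < T.n) (hs : s < T.n) :
    T.pairing (T.refl i r) (T.refl i s) = T.pairing r s := by
  obtain ⟨-, -, -, -, -, -, -, -, hcor⟩ := h.refl_spec hi hr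
  obtain ⟨-, -, -, -, -, -, -, hcar, -⟩ := h.refl_spec hi hs
  simp only [Tab.pairing_eq_sum]
  have : ∀ k ∈ Finset.range T.l, T.cor (T.refl i r) k * T.car k (T.refl i s) =
      T.cor r k * T.car k s - T.car i s * (T.cor r k * T.car k (T.simple i)) +
        (if k = i then T.pairing r (T.simple i) * T.car i s else 0) := by
    intro k hk
    rw [hcor k (Finset.mem_range.1 hk)]
    split_ifs with e
    · subst e
      rw [hcar k hi, (h.simple_spec hi).2.2.1]; ring
    · rw [hcar k (Finset.mem_range.1 hk)]; ring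
  rw [Finset.sum_congr rfl this, Finset.sum_add_distrib, Finset.sum_sub_distrib, ← Finset.mul_sum,
    Finset.sum_ite_eq' (Finset.range T.l) i, if_pos (Finset.mem_range.2 hi)]
  simp only [← Tab.pairing_eq_sum]
  ring

lemma pairing_simple {j : ℕ} (hj : j < T.l) (s : ℕ) : T.pairing (T.simple j) s = T.car j s := by
  rw [Tab.pairing_eq_sum, Finset.sum_eq_single j]
  · rw [(h.simple_spec hj).2.2.2 j hj, if_pos rfl, one_mul]
  · intro k hk hne
    rw [(h.simple_spec hj).2.2.2 k (Finset.mem_range.1 hk), if_neg (Ne.symm hne), zero_mul]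
  · simp [hj]

lemma nMat_mul_torus {i : ℕ} (hi : i < T.l) (f : ℕ → F) :
    D.nMat F (D.simple i) 1 * torus D f =
      torus D (fun s => f (T.refl i s)) * D.nMat F (D.simple i) 1 := by
  ext row col
  rw [torus, torus, Matrix.mul_diagonal, Matrix.diagonal_mul]
  rcases row with j | v <;> rcases col with k | s <;> simp only [Sum.elim_inl, Sum.elim_inr]
  · rw [one_mul, mul_one]
  · rw [h.n_inl_inr hi one_ne_zero]; simp
  · rw [h.n_inr_inl hi one_ne_zero]; simp
  · rw [h.n_inr_inr hi one_ne_zero]
    split_ifs with e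
    · rw [show T.refl i v.val = s.val by
        rw [congrArg Fin.val e]; exact h.refl_refl hi (lt_of_lt_of_eq s.isLt h.nroots_eq)]
      ring
    · simp

lemma nMat_mul_nMat {i : ℕ} (hi : i < T.l) {r : ℕ} (hr : r < T.n) (t : F) :
    D.nMat F (D.simple i) 1 * D.nMat F r t =
      D.nMat F (T.refl i r) ((T.eta i r : F) * t) * D.nMat F (D.simple i) 1 := by
  have hn : ∀ (s : ℕ) (t : F), s < T.n →
      D.nMat F s t = D.x F s t * (D.x F (T.neg s) (-t⁻¹) * D.x F s t) := by
    intro s t hs
    simp [ChevalleyDatum.nMat, ChevalleyDatum.nWord, ChevalleyDatum.wordMat, h.neg_eq hs]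
  rw [hn r t hr, hn _ _ (h.refl_lt hi hr), ← Matrix.mul_assoc, h.nMat_mul_x hi hr, Matrix.mul_assoc,
    ← Matrix.mul_assoc (D.nMat F (D.simple i) 1), h.nMat_mul_x hi (neg_lt (T := T) hr),
    Matrix.mul_assoc, h.nMat_mul_x hi hr, (h.refl_spec hi hr).2.2.1,
    (h.refl_spec hi hr).2.2.2.2.1]
  simp only [Matrix.mul_assoc]
  congr 3
  rcases T.eta_cases i r with e | e <;> simp [e]

/-- The element `h_r(t)` for any root. -/
theorem hMat_root {r : ℕ} (hr : r < T.n) {t : F} (ht : t ≠ 0) :
    D.hMat F r t = torus D (fun s => t ^ T.pairing r s) := by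
  refine h.root_induction (P := fun r => ∀ t : F, t ≠ 0 →
    D.hMat F r t = torus D (fun s => t ^ T.pairing r s)) ?_ ?_ hr t ht
  · intro i hi t ht
    rw [← h.simple_eq hi, h.hMat_simple hi ht]
    exact torus_congr D fun s _ => by rw [h.simple_eq hi, h.pairing_simple hi]
  · intro i hi r hr ih t ht
    refine h.nMat_cancel hi ?_
    have hwr := h.refl_lt hi hr
    have h1 : D.nMat F r 1 * D.nMat F r (-1) = 1 := by
      rw [← hMat_eq, ih 1 one_ne_zero, ← torus_one D]; simp
    have h1' : D.nMat F r (-1) * D.nMat F r 1 = 1 := mul_eq_one_comm.1 h1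
    have hsq : D.nMat F r 1 * D.nMat F r 1 = torus D (fun s => (-1 : F) ^ T.pairing r s) := by
      have e := ih (-1 : F) (neg_ne_zero.2 one_ne_zero)
      have e2 : D.hMat F r (-1) * D.hMat F r (-1) = 1 := by
        rw [e, torus_mul, ← torus_one D]
        refine torus_congr D fun s _ => ?_
        rw [← mul_zpow]; simp
      rw [← e]
      calc D.nMat F r 1 * D.nMat F r 1
          = D.nMat F r 1 * D.nMat F r 1 * (D.hMat F r (-1) * D.hMat F r (-1)) := by
            rw [e2, Matrix.mul_one]
        _ = D.nMat F r 1 * (D.nMat F r 1 * D.nMat F r (-1)) * D.nMat F r (-1) * D.hMat F r (-1) := by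
            simp only [hMat_eq, Matrix.mul_assoc]
        _ = D.hMat F r (-1) := by rw [h1, Matrix.mul_one, h1, Matrix.one_mul]
    have he : ∀ a : F, D.nMat F (T.refl i r) a * D.nMat F (D.simple i) 1 =
        D.nMat F (D.simple i) 1 * D.nMat F r ((T.eta i r : F) * a) := by
      intro a
      rw [h.nMat_mul_nMat hi hr]
      congr 2
      rcases T.eta_cases i r with e | e <;> simp [e]
    have key : D.nMat F r ((T.eta i r : F) * t) * D.nMat F r ((T.eta i r : F) * -1) =
        torus D (fun s => t ^ T.pairing r s) := by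
      rcases T.eta_cases i r with e | e
      · simp only [e, Int.cast_one, one_mul]
        rw [← hMat_eq, ih t ht]
      · simp only [e, Int.cast_neg, Int.cast_one, neg_mul, one_mul, _root_.neg_neg]
        rw [← Matrix.mul_one (D.nMat F r (-t)), ← h1', ← Matrix.mul_assoc (D.nMat F r (-t)),
          ← hMat_eq, ih _ (neg_ne_zero.2 ht), Matrix.mul_assoc, hsq, torus_mul]
        refine torus_congr D fun s _ => ?_
        rw [← mul_zpow]; simp
    rw [hMat_eq, Matrix.mul_assoc, he, ← Matrix.mul_assoc, he, Matrix.mul_assoc, key,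
      h.nMat_mul_torus hi]
    congr 1
    refine torus_congr D fun s hs => ?_
    rw [h.nroots_eq] at hs
    rw [← h.pairing_refl hi hr (h.refl_lt hi hs), h.refl_refl hi hs]

lemma isChar_pairing (r : ℕ) {t : F} (ht : t ≠ 0) :
    IsChar T (fun s => t ^ T.pairing r s) where
  mul_neg s hs := by
    rw [← zpow_add₀ ht]
    have : T.pairing r (T.neg s) = -T.pairing r s := by
      simp only [Tab.pairing_eq_sum, ← Finset.sum_neg_distrib]
      exact Finset.sum_congr rfl fun k hk => by
        rw [(h.root_spec hs (Finset.mem_range.1 hk)).2.2.2, mul_neg]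
    rw [this, add_neg_cancel, zpow_zero]
  chain a ha s hs q hq := by
    rw [h.pairing_lin ha hs hq r, zpow_add₀ ht, mul_comm (q.2 : ℤ), _root_.zpow_mul, zpow_natCast]

lemma hMat_mul_x {r : ℕ} (hr : r < T.n) {c : F} (hc : c ≠ 0) {s : ℕ} (hs : s < T.n) (t : F) :
    D.hMat F r c * D.x F s t = D.x F s (c ^ T.pairing r s * t) * D.hMat F r c := by
  rw [h.hMat_root hr hc, h.torus_mul_x (h.isChar_pairing r hc) hs]

end Cert

end CfsgLib.Chev
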