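import Cfsg.Agent.Lib.Blocks.ConstrainedCentralizer
import Cfsg.Agent.Lib.Blocks.Green
import Cfsg.Agent.Lib.SLBlocks.Idem
import Cfsg.Agent.Lib.Chev.RootCentralizer
import Cfsg.Agent.Lib.Chev.ModularSteinberg
import Cfsg.Agent.Lib.Chev.SimpleData
import Cfsg.Agent.Lib.Chev.All

/-!
The blocks of a Chevalley group in the defining characteristic: every block of positive defect has
a root element in a defect group, so it is the principal block.
-/

set_option autoImplicit false

namespace CfsgLib.Chev

open Cfsg Cfsg.Lie Matrix CfsgLib.Blocks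

/-- Dominant roots with their lists, every root climbing to one of them. -/
def Tab.chkRootData (T : Tab) (R : List (ℕ × List ℕ × List ℕ)) : Bool :=
  (R.all fun e => T.chkDom e.1 e.2.1 e.2.2) && T.chkClimb (R.map fun e => e.1)

theorem rootDataG2 : tabG2.chkRootData
    [(9, [10, 11], [11, 10, 6, 5, 1, 0]), (11, [], [])] = true := by decide +kernel

theorem rootDataF4 : tabF4.chkRootData
    [(44, [45, 46, 47], [47, 46, 45, 43, 32, 42, 31, 41, 26, 30, 24, 25, 23, 22, 21, 17, 16, 6, 5,
      15, 4, 2, 1, 0]), (47, [], [])] = true := by decide +kernel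

theorem rootDataE8 : tabE8.chkRootData [(239, [], [])] = true := by decide +kernel

namespace Cert

variable {D : ChevalleyDatum} {T : Tab} {C : Tab.Cover} (h : Cert D T C)
variable {F : Type*} [Field F] [Fintype F] {p : ℕ} [hp : Fact p.Prime] [CharP F p]
include h

lemma orderOf_gEl_X {r : ℕ} (hr : r < T.n) {a : F} (ha : a ≠ 0) :
    orderOf (gEl D (X D r a) : ↥(D.group F)) = p := by
  have hG := h.X_mem_group hr a
  rw [← Subgroup.orderOf_coe, coe_gEl hG]
  refine orderOf_eq_prime ?_ fun e => ha ((h.X_eq_one_iff hr a).1 e)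
  have hpow : ∀ k : ℕ, X D r a ^ k = X D r ((k : F) * a) := by
    intro k
    induction k with
    | zero => simp [h.X_zero hr]
    | succ k ih => rw [pow_succ, ih, h.X_add hr, Nat.cast_succ, add_mul, one_mul]
  rw [hpow, CharP.cast_eq_zero, zero_mul, h.X_zero hr]

lemma isPGroup_posUnipotent : IsPGroup p ↥(D.posUnipotent F) := by
  obtain ⟨m, -, hm⟩ := FiniteField.card F p
  exact IsPGroup.of_card (n := (m : ℕ) * T.half) (by rw [h.card_posUnipotent, hm, ← pow_mul])

/-- The centralizer of a root element of a dominant root is `p`-constrained. -/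
theorem constrained_gEl_X (hconn : Connected T) {r : ℕ} {L₀ L : List ℕ}
    (hchk : T.chkDom r L₀ L = true) {a : F} (ha : a ≠ 0) :
    SingleBlock.Constrained p
      (Subgroup.centralizer ({gEl D (X D r a)} : Set ↥(D.group F))) := by
  have hdom := hchk
  simp only [Tab.chkDom, Bool.and_eq_true, List.all_eq_true, List.mem_range,
    decide_eq_true_eq] at hdom
  obtain ⟨⟨⟨⟨⟨⟨hrp, -⟩, -⟩, -⟩, -⟩, -⟩, -⟩ := hdom
  set J : Set ℕ := {i | T.car i r = 0}
  obtain ⟨j, hj, hjne⟩ := h.exists_car_ne hrp.1 hrp.2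
  have hG := h.X_mem_group hrp.2 a
  refine SingleBlock.constrained_centralizer (P := (D.parabolicSubgroup F J).subgroupOf (D.group F))
    (O := (D.unipotentRadical F J).subgroupOf (D.group F)) ?_ ?_ ?_ ?_ ?_
  · exact IsPGroup.of_card (n := 1) (by rw [Nat.card_zpowers, h.orderOf_gEl_X (p := p) hrp.2 ha, pow_one])
  · intro g hg
    rw [Subgroup.mem_centralizer_singleton_iff] at hg
    have hg' := congrArg Subtype.val hg
    simp only [Subgroup.coe_mul, coe_gEl hG] at hg'
    rw [Subgroup.mem_subgroupOf]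
    exact h.centralizer_X_le_parabolic hchk ha g.2 (mul_inv_eq_iff_eq_mul.2 hg')
  · have hrad : D.unipotentRadical F J ≤ D.posUnipotent F := by
      rw [h.unipotentRadical_eq, h.posUnipotent_eq]; exact gen_mono D fun q hq => hq.1
    exact ((h.isPGroup_posUnipotent).to_le hrad).of_equiv (Subgroup.subgroupOfEquivOfLe
      (hrad.trans h.posUnipotent_le_group)).symm
  · intro g hg
    rw [Subgroup.mem_subgroupOf] at hg
    have hn := Subgroup.mem_normalizer_iff.1 (h.parabolic_le_normalizer J hg)
    rw [Subgroup.mem_normalizer_iff]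
    intro x
    simp only [Subgroup.mem_subgroupOf, Subgroup.coe_mul, Subgroup.coe_inv]
    exact hn _
  · intro g hg hgc
    rw [Subgroup.mem_subgroupOf] at hg ⊢
    rw [h.unipotentRadical_eq]
    refine h.centralizer_radical_le hconn ⟨j, hj, hjne⟩ hg fun x hx => ?_
    rw [← h.unipotentRadical_eq] at hx
    have hxG : x ∈ D.group F := h.posUnipotent_le_group (by
      rw [h.unipotentRadical_eq] at hx
      rw [h.posUnipotent_eq]; exact gen_mono D (fun q hq => hq.1) hx)
    exact mul_inv_eq_iff_eq_mul.2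
      (congrArg Subtype.val (hgc ⟨x, hxG⟩ (Subgroup.mem_subgroupOf.2 hx)))

/-- A root element with conjugate dominant root has a constrained centralizer. -/
theorem constrained_gEl_X_of_root (hconn : Connected T) {R : List (ℕ × List ℕ × List ℕ)}
    (hR : T.chkRootData R = true) {q : ℕ} (hq : q < T.n) {c : F} (hc : c ≠ 0) :
    SingleBlock.Constrained p
      (Subgroup.centralizer ({gEl D (X D q c)} : Set ↥(D.group F))) := by
  simp only [Tab.chkRootData, Bool.and_eq_true, List.all_eq_true] at hR
  obtain ⟨w, hw, hm⟩ := h.exists_word_climb hR.2 q hq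
  obtain ⟨e, he, hr⟩ := List.mem_map.1 hm
  obtain ⟨m, hm0, hmap⟩ := h.Maps_nW (F := F) hw hq
  have hn := h.monomial_le_group (h.nW_mem_monomial (F := F) hw)
  set n : ↥(D.group F) := ⟨nW D F w, hn⟩
  have e1 : gEl D (X D q c) = n⁻¹ * gEl D (X D e.1 (m * c)) * n := by
    refine Subtype.ext ?_
    rw [hr, Subgroup.coe_mul, Subgroup.coe_mul, Subgroup.coe_inv, coe_gEl (h.X_mem_group hq c),
      coe_gEl (h.X_mem_group (h.rword_lt hw hq) _), ← hmap c, show (n : GL D.Idx F) = nW D F w from rfl]
    group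
  have e2 : (Subgroup.centralizer ({gEl D (X D e.1 (m * c))} : Set ↥(D.group F))).map
      (MulAut.conj n⁻¹).toMonoidHom = Subgroup.centralizer ({gEl D (X D q c)} : Set ↥(D.group F)) := by
    ext x
    rw [Subgroup.mem_map_equiv, Subgroup.mem_centralizer_singleton_iff,
      Subgroup.mem_centralizer_singleton_iff, e1]
    simp only [MulAut.conj_symm_apply, inv_inv]
    constructor
    · intro hx
      calc x * (n⁻¹ * gEl D (X D e.1 (m * c)) * n)
          = n⁻¹ * ((n * x * n⁻¹) * gEl D (X D e.1 (m * c))) * n := by group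
        _ = _ := by rw [hx]; group
    · intro hx
      calc n * x * n⁻¹ * gEl D (X D e.1 (m * c))
          = n * (x * (n⁻¹ * gEl D (X D e.1 (m * c)) * n)) * n⁻¹ := by group
        _ = _ := by rw [hx]; group
  rw [← e2]
  exact (h.constrained_gEl_X hconn (hR.1 e he) (mul_ne_zero hm0 hc)).conj _

/-- In the defining characteristic there are two blocks. -/
theorem card_blocks_eq_two (hconn : Connected T) {R : List (ℕ × List ℕ × List ℕ)}
    (hR : T.chkRootData R = true) (hl : 0 < T.l) {M : Ideal AlgInt} (hM : IsPModular p M) :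
    Nat.card {B : Set (IrrCharacter ↥(D.group F)) // IsPBlock M B} = 2 := by
  classical
  haveI := isPrime_of_isPModular hM
  haveI : Fintype ↥(D.group F) := Fintype.ofFinite _
  have hfac := h.factorization_card_group (F := F) (p := p)
  let St : IrrCharacter ↥(D.group F) := ⟨D.steinbergCharacter F, h.steinberg_irr⟩
  have hdegSt : charDegree (St : ↥(D.group F) → ℂ) = Fintype.card F ^ T.half := by
    show ⌊(D.steinbergCharacter F 1).re⌋₊ = _
    rw [h.steinberg_degree, ← Nat.cast_pow, Complex.natCast_re, Nat.floor_natCast]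
  have hSt : SLBlocks.DZ p St := by
    rw [SLBlocks.DZ, hdegSt, ← hfac, hp.out.factorization_pow, Finsupp.single_eq_same]
  have hU : IsPGroup p ↥((D.posUnipotent F).subgroupOf (D.group F)) :=
    (h.isPGroup_posUnipotent).of_equiv (Subgroup.subgroupOfEquivOfLe h.posUnipotent_le_group).symm
  have hcU : Nat.card ↥((D.posUnipotent F).subgroupOf (D.group F)) =
      p ^ (Nat.card ↥(D.group F)).factorization p := by
    rw [hfac, Nat.card_congr (Subgroup.subgroupOfEquivOfLe h.posUnipotent_le_group).toEquiv,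
      h.card_posUnipotent]
  -- blocks of positive defect are principal
  have hpos : ∀ B : Set (IrrCharacter ↥(D.group F)), IsPBlock M B → blockDefect p B ≠ 0 →
      B = principalBlock M ↥(D.group F) := by
    intro B hB hd
    obtain ⟨D₀, hD₀⟩ := exists_isDefectGroup hM hB
    let P : Sylow p ↥(D.group F) := Sylow.ofCard _ hcU
    obtain ⟨Q, hQ⟩ := (IsDefectGroup.isPGroup hM hD₀).exists_le_sylow
    obtain ⟨x, hx⟩ := MulAction.exists_smul_eq ↥(D.group F) Q P
    set E := D₀.map (MulAut.conj x).toMonoidHom with hEdef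
    have hE : IsDefectGroup p M B E := IsDefectGroup.conj hM hD₀ x
    have hEP : E ≤ (D.posUnipotent F).subgroupOf (D.group F) := by
      rintro _ ⟨d, hd', rfl⟩
      have h1 : MulAut.conj x d ∈ (P : Subgroup ↥(D.group F)) := by
        rw [← hx, Sylow.coe_subgroup_smul]
        exact Subgroup.smul_mem_pointwise_smul d (MulAut.conj x) _ (hQ hd')
      rwa [Sylow.coe_ofCard] at h1
    obtain ⟨g, -, -, hgE⟩ := IsDefectGroup.exists_inter_conj hM hB hE hU hEP
    obtain ⟨b, hb, n, hn, u, hu, hg⟩ := h.bruhat_exists g.2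
    obtain ⟨w, hw, t, ht, rfl⟩ := h.exists_word_of_monomial hn
    have hu' : u ∈ D.posUnipotent F := by
      rw [h.cellUnipotent_eq (π := rword T w) fun q hq =>
        ⟨h.rword_lt hw hq, Maps_mul (h.Maps_diagonal ht hq) (h.Maps_nW hw hq)⟩] at hu
      rw [h.posUnipotent_eq]; exact gen_mono D Set.sdiff_subset hu
    obtain ⟨v, hv, s, hs, eb⟩ := h.mem_borel_iff.1 hb
    have htU : ∀ y, y ∈ D.posUnipotent F → (t * u) * y * (t * u)⁻¹ ∈ D.posUnipotent F := fun y hy => by
      rw [show t * u * y * (t * u)⁻¹ = t * (u * y * u⁻¹) * t⁻¹ by group]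
      exact (Subgroup.mem_normalizer_iff.1 (h.diagonal_le_normalizer_posUnipotent ht) _).1
        (mul_mem (mul_mem hu' hy) (inv_mem hu'))
    have hbU : ∀ y, y ∈ D.posUnipotent F ↔ b * y * b⁻¹ ∈ D.posUnipotent F := by
      intro y
      rw [eb, show v * s * y * (v * s)⁻¹ = v * (s * y * s⁻¹) * v⁻¹ by group,
        ← Subgroup.mem_normalizer_iff.1 (Subgroup.le_normalizer hv),
        ← Subgroup.mem_normalizer_iff.1 (h.diagonal_le_normalizer_posUnipotent hs)]
    -- a root element in the defect group
    obtain ⟨q, hqp, hwq⟩ : ∃ q ∈ posSet T, T.half ≤ rword T w q := by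
      by_contra hno
      push Not at hno
      apply hd
      have hbot : E = ⊥ := by
        rw [eq_bot_iff]
        intro y hy
        rw [← hgE] at hy
        obtain ⟨hyU, z, hz, hzy⟩ := hy
        have hzy' : (g : GL D.Idx F) * z * (g : GL D.Idx F)⁻¹ = (y : GL D.Idx F) :=
          congrArg Subtype.val hzy
        set z' := t * u * (z : GL D.Idx F) * (t * u)⁻¹ with hz'def
        have hz' : z' ∈ D.posUnipotent F := htU _ hz
        have hV : nW D F w * z' * (nW D F w)⁻¹ ∈ D.negUnipotent F := by
          rw [h.posUnipotent_eq] at hz'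
          rw [h.negUnipotent_eq]
          exact conj_gen_le (S' := {q | q < T.half})
            (fun q hq => ⟨rword T w q, hno q hq, h.Maps_nW hw hq.2⟩) hz'
        have e : (y : GL D.Idx F) = b * (nW D F w * z' * (nW D F w)⁻¹) * b⁻¹ := by
          rw [← hzy', hg, hz'def]; group
        have hm : nW D F w * z' * (nW D F w)⁻¹ ∈ D.borelSubgroup F ⊓ D.negUnipotent F := by
          refine Subgroup.mem_inf.2 ⟨Subgroup.mem_sup_left ((hbU _).2 ?_), hV⟩
          rw [← e]; exact hyU
        rw [h.borel_inf_negUnipotent, Subgroup.mem_bot] at hm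
        rw [hm, mul_one, mul_inv_cancel] at e
        exact Subgroup.mem_bot.2 (Subtype.ext e)
      have hcard := IsDefectGroup.card_eq hM hB hE
      rw [hbot, Subgroup.card_bot] at hcard
      exact (Nat.pow_eq_one.mp hcard.symm).resolve_left hp.out.one_lt.ne'
    have hq' := h.rword_lt hw hqp.2
    obtain ⟨m, hm, hmap⟩ := h.Maps_nW (F := F) hw hqp.2
    set y₀ := gEl D (X D (rword T w q) m) with hy₀
    have hbG : b ∈ D.group F := h.borel_le_group hb
    set bG : ↥(D.group F) := ⟨b, hbG⟩
    have hy₀v := coe_gEl (h.X_mem_group (F := F) hq' m)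
    have hmem : bG * y₀ * bG⁻¹ ∈ E := by
      rw [← hgE]
      have hXU : ∀ r ∈ posSet T, ∀ c : F, X D r c ∈ D.posUnipotent F := fun r hr c => by
        rw [h.posUnipotent_eq]; exact X_mem_gen D hr c
      refine Subgroup.mem_inf.2 ⟨?_, ?_⟩
      · rw [Subgroup.mem_subgroupOf]
        show b * (y₀ : GL D.Idx F) * b⁻¹ ∈ _
        rw [hy₀v, ← hbU]
        exact hXU _ ⟨hwq, hq'⟩ m
      · have hz : (t * u)⁻¹ * X D q 1 * (t * u) ∈ D.posUnipotent F := by
          have h1 := (Subgroup.mem_normalizer_iff.1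
            (h.diagonal_le_normalizer_posUnipotent (inv_mem ht)) _).1 (hXU q hqp 1)
          have h2 := mul_mem (mul_mem (inv_mem hu') h1) hu'
          rwa [show u⁻¹ * (t⁻¹ * X D q 1 * t⁻¹⁻¹) * u = (t * u)⁻¹ * X D q 1 * (t * u) by group] at h2
        refine ⟨⟨_, h.posUnipotent_le_group hz⟩, Subgroup.mem_subgroupOf.2 hz, Subtype.ext ?_⟩
        show (g : GL D.Idx F) * ((t * u)⁻¹ * X D q 1 * (t * u)) * (g : GL D.Idx F)⁻¹ =
          b * (y₀ : GL D.Idx F) * b⁻¹
        have e := hmap 1
        rw [mul_one] at e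
        rw [hy₀v, ← e, hg]; group
    refine SingleBlock.eq_principalBlock_of_mem hM hB hE hmem ?_ ?_
    · rw [show bG * y₀ * bG⁻¹ = (MulAut.conj bG).toMonoidHom y₀ from rfl,
        orderOf_injective _ (MulAut.conj bG).injective, hy₀]
      exact h.orderOf_gEl_X hq' hm
    · have hC := (h.constrained_gEl_X_of_root (p := p) hconn hR hq' hm).conj bG
      convert hC using 1
      ext z
      rw [Subgroup.mem_map_equiv, Subgroup.mem_centralizer_singleton_iff,
        Subgroup.mem_centralizer_singleton_iff, MulAut.conj_symm_apply]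
      constructor
      · intro hz
        calc bG⁻¹ * z * bG * y₀ = bG⁻¹ * (z * (bG * y₀ * bG⁻¹)) * bG := by group
          _ = y₀ * (bG⁻¹ * z * bG) := by rw [hz]; group
      · intro hz
        calc z * (bG * y₀ * bG⁻¹) = bG * ((bG⁻¹ * z * bG) * y₀) * bG⁻¹ := by group
          _ = bG * y₀ * bG⁻¹ * z := by rw [hz, hy₀]; group
  -- the two blocks
  have hN : 0 < (Nat.card ↥(D.group F)).factorization p := by
    by_contra hN
    rw [Nat.eq_zero_of_not_pos hN, pow_zero] at hfac
    have h2 : 1 < Fintype.card F ^ T.half := Nat.one_lt_pow ?_ Fintype.one_lt_card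
    · omega
    · have h3 := h.simple_spec hl
      have h4 := h.two_mul_half
      omega
  have hBSt : IsPBlock M ({St} : Set (IrrCharacter ↥(D.group F))) :=
    ⟨St, (SLBlocks.blockOf_singleton hM hSt).symm⟩
  have htriv : ¬ SLBlocks.DZ p (trivIrr ↥(D.group F)) := by
    intro hd
    rw [SLBlocks.DZ, show charDegree ((trivIrr ↥(D.group F) : IrrCharacter ↥(D.group F)) : ↥(D.group F) → ℂ) = 1 by
      show ⌊((1 : ℂ)).re⌋₊ = 1
      simp, Nat.factorization_one] at hd
    simp only [Finsupp.coe_zero, Pi.zero_apply] at hd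
    omega
  have hne : principalBlock M ↥(D.group F) ≠ ({St} : Set (IrrCharacter ↥(D.group F))) := by
    intro e
    apply htriv
    have h1 : trivIrr ↥(D.group F) ∈ principalBlock M ↥(D.group F) := mem_blockOf_self (trivIrr ↥(D.group F))
    rw [e, Set.mem_singleton_iff] at h1
    rwa [h1]
  have hall : {B : Set (IrrCharacter ↥(D.group F)) | IsPBlock M B} =
      {principalBlock M ↥(D.group F), ({St} : Set (IrrCharacter ↥(D.group F)))} := by
    ext B
    simp only [Set.mem_ofPred_eq, Set.mem_insert_iff, Set.mem_singleton_iff]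
    refine ⟨fun hB => ?_, fun hB => hB.elim (fun e => e ▸ isPBlock_principalBlock) fun e => e ▸ hBSt⟩
    by_cases hd : blockDefect p B = 0
    · right
      obtain ⟨χ, hχ⟩ := IsPBlock.nonempty hB
      have hχd : SLBlocks.DZ p χ := by
        have := (blockDefect_le_and_degree hM hB).2.2.1 χ hχ
        rwa [hd, Nat.sub_zero] at this
      have hdz : ∀ ψ : IrrCharacter ↥(D.group F), SLBlocks.DZ p ψ →
          DefectMod.IsDefectZero p (ψ : ↥(D.group F) → ℂ) := by
        intro ψ hψ
        obtain ⟨d, hd', hd0, -⟩ := Char.exists_degree_dvd_card ψ.2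
        refine ⟨ψ.2, d, hd', ?_⟩
        rw [SLBlocks.DZ, charDegree, hd', Complex.natCast_re, Nat.floor_natCast] at hψ
        exact (hp.out.pow_dvd_iff_le_factorization hd0.ne').2 hψ
      rw [IsPBlock.eq_blockOf hB hχ, h.defect_zero_unique (hdz χ hχd) (hdz St hSt),
        SLBlocks.blockOf_singleton hM hSt]
    · exact Or.inl (hpos B hB hd)
  rw [show Nat.card {B : Set (IrrCharacter ↥(D.group F)) // IsPBlock M B} =
    Set.ncard {B : Set (IrrCharacter ↥(D.group F)) | IsPBlock M B} from Nat.card_coe_set_eq _, hall]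
  exact Set.ncard_pair hne

end Cert

end CfsgLib.Chev
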