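import Cfsg.Agent.Lib.Chev.Engine

/-!
The matrices `x_r(t)` of a datum, read from its packed tables.
-/

set_option autoImplicit false

namespace CfsgLib.Chev

open Cfsg.Lie Matrix

variable {D : ChevalleyDatum} {T : Tab} {F : Type*} [Field F]

/-- The engine's number of a coordinate: roots first, then fundamental coroots. -/
def enc : D.Idx → ℕ
  | Sum.inl i => D.nroots + i.val
  | Sum.inr s => s.val

lemma enc_injective : Function.Injective (enc (D := D)) := by
  rintro (i | s) (j | u) h <;> simp only [enc] at h
  · rw [Fin.ext (show i.val = j.val by omega)]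
  · have := u.isLt; omega
  · have := s.isLt; omega
  · rw [Fin.ext h]

lemma array_toList_getD {α : Type*} (A : Array α) (k : ℕ) (d : α) :
    A.getD k d = A.toList.getD k d := by
  simp [Array.getD, List.getD]
  split <;> simp_all

lemma getD_of_toList_eq_map {α : Type*} {A : Array α} {f : ℕ → α} {n k : ℕ} (d : α)
    (h : A.toList = (List.range n).map f) (hk : k < n) : A.getD k d = f k := by
  rw [array_toList_getD, h, List.getD_eq_getElem _ _ (by simpa using hk)]
  simp

lemma toList_getD_of_eq {α : Type*} {A : Array (Array α)} {f : ℕ → List α} {n k : ℕ}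
    (h : A.toList.map Array.toList = (List.range n).map f) (hk : k < n) :
    (A.getD k #[]).toList = f k := by
  have hlen : A.toList.length = n := by simpa using congrArg List.length h
  have h2 : (A.toList.map Array.toList).getD k [] = f k := by
    rw [h, List.getD_eq_getElem _ _ (by simpa using hk)]; simp
  rw [List.getD_eq_getElem _ _ (by simpa [hlen] using hk), List.getElem_map] at h2
  rw [array_toList_getD, List.getD_eq_getElem _ _ (by omega)]
  exact h2

namespace Tab.Agrees

variable (h : T.Agrees D)
include h

lemma rank_eq : D.rank = T.l := h.1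
lemma nroots_eq : D.nroots = T.n := h.2.1

lemma negIdx_eq {r : ℕ} (hr : r < T.n) : D.negIdx.getD r 0 = T.neg r :=
  getD_of_toList_eq_map 0 h.2.2.1 hr

lemma neg_eq {r : ℕ} (hr : r < T.n) : D.neg r = T.neg r := h.negIdx_eq hr

lemma simple_eq {i : ℕ} (hi : i < T.l) : D.simple i = T.simple i :=
  getD_of_toList_eq_map 0 h.2.2.2.1 hi

lemma coroot_toList {r : ℕ} (hr : r < T.n) :
    (D.coroot.getD r #[]).toList = (List.range T.l).map (T.cor r) :=
  toList_getD_of_eq h.2.2.2.2.1 hr

lemma cor_eq {r i : ℕ} (hr : r < T.n) (hi : i < T.l) :
    (D.coroot.getD r #[]).getD i 0 = T.cor r i :=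
  getD_of_toList_eq_map 0 (h.coroot_toList hr) hi

lemma cartan_eq {i s : ℕ} (hi : i < T.l) (hs : s < T.n) : D.cartan i s = T.car i s :=
  getD_of_toList_eq_map 0 (toList_getD_of_eq h.2.2.2.2.2.1 hi) hs

lemma chain_toList {r : ℕ} (hr : r < T.n) :
    (D.chain.getD r #[]).toList.map (fun e => (e.1, e.2.toList)) = T.keys r := by
  have h6 := h.2.2.2.2.2.2
  have hlen : D.chain.toList.length = T.n := by simpa using congrArg List.length h6
  have h2 : (D.chain.toList.map fun a => a.toList.map fun e => (e.1, e.2.toList)).getD r []
      = T.keys r := by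
    rw [h6, List.getD_eq_getElem _ _ (by simpa using hr)]; simp
  rw [List.getD_eq_getElem _ _ (by simpa [hlen] using hr), List.getElem_map] at h2
  rw [array_toList_getD, List.getD_eq_getElem _ _ (by omega)]
  exact h2

end Tab.Agrees

namespace Tab

variable (T)

lemma mem_keys_iff {r s : ℕ} {L : List (ℕ × ℤ)} :
    (s, L) ∈ T.keys r ↔ s < T.n ∧ L ≠ [] ∧ T.entry r s = L := by
  simp only [keys, List.mem_filterMap, List.mem_range]
  constructor
  · rintro ⟨a, ha, hm⟩
    cases he : T.entry r a with
    | nil => rw [he] at hm; simp at hm
    | cons x L' => rw [he] at hm; simp at hm; obtain ⟨rfl, rfl⟩ := hm; exact ⟨ha, by simp, he⟩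
  · rintro ⟨hs, hne, he⟩
    refine ⟨s, hs, ?_⟩
    cases L with
    | nil => exact absurd rfl hne
    | cons x L' => rw [he]

/-- Looking a chain up in the list of nonempty ones. -/
lemma filter_keys (r s : ℕ) :
    (T.keys r).filter (fun e => e.1 = s) =
      if s < T.n ∧ T.entry r s ≠ [] then [(s, T.entry r s)] else [] := by
  unfold keys
  induction T.n with
  | zero => simp
  | succ m ih =>
    rw [List.range_succ, List.filterMap_append, List.filter_append, ih]
    rcases lt_trichotomy s m with h | rfl | h
    · cases he : T.entry r m with
      | nil =>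
        simp [he, h, Nat.lt_succ_of_lt h]
      | cons x L => simp [he, h, Nat.lt_succ_of_lt h, h.ne']
    · cases he : T.entry r s with
      | nil => simp [he]
      | cons x L => simp [he]
    · cases he : T.entry r m with
      | nil => simp [he, show ¬ s < m by omega, show ¬ s < m + 1 by omega]
      | cons x L => simp [he, h.ne, show ¬ s < m by omega, show ¬ s < m + 1 by omega]

end Tab

namespace Tab.Agrees

variable (h : T.Agrees D)
include h

lemma chainCoeff_eq {r : ℕ} (hr : r < T.n) {s : ℕ} (hs : s < T.n) (u : ℕ) :
    D.chainCoeff r s u = ((T.entry r s).zipIdx.filter (fun q => q.1.1 = u)).map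
      fun q => (q.2 + 1, q.1.2) := by
  unfold ChevalleyDatum.chainCoeff
  have key : ∀ (L : List (ℕ × Array (ℕ × ℤ))),
      ((L.filter (fun e => e.1 = s)).flatMap fun e =>
        ((e.2.toList.zipIdx).filter (fun q => q.1.1 = u)).map fun q => (q.2 + 1, q.1.2)) =
      (((L.map fun e => (e.1, e.2.toList)).filter (fun e => e.1 = s)).flatMap fun e =>
        ((e.2.zipIdx).filter (fun q => q.1.1 = u)).map fun q => (q.2 + 1, q.1.2)) := by
    intro L
    induction L with
    | nil => rfl
    | cons a L ih =>
      simp only [List.map_cons, List.filter_cons]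
      split <;> simp [ih]
  rw [key, h.chain_toList hr, T.filter_keys]
  by_cases he : T.entry r s = []
  · simp [he]
  · simp [hs, he]

lemma chainEntry_eq {r : ℕ} (hr : r < T.n) {s : ℕ} (hs : s < T.n) :
    D.chainEntry r s = T.entry r s := by
  unfold ChevalleyDatum.chainEntry
  have key : ∀ (L : List (ℕ × Array (ℕ × ℤ))),
      (match L.find? (fun e => e.1 = s) with
        | none => ([] : List (ℕ × ℤ))
        | some e => e.2.toList) =
      (((L.map fun e => (e.1, e.2.toList)).filter (fun e => e.1 = s)).head?.map Prod.snd).getD [] := by
    intro L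
    induction L with
    | nil => rfl
    | cons a L ih =>
      simp only [List.map_cons, List.filter_cons, List.find?_cons]
      by_cases ha : a.1 = s <;> simp [ha, ih]
  refine (key _).trans ?_
  rw [h.chain_toList hr, T.filter_keys]
  by_cases he : T.entry r s = []
  · simp [he]
  · simp [hs, he]

end Tab.Agrees

/-- A vector over the coordinates of `D`. -/
def vec (D : ChevalleyDatum) (t u : F) (V : SVec) : D.Idx → F := fun row => ev t u V (enc row)

lemma sum_map_filter_eq {α : Type*} (L : List α) (p : α → Bool) (f : α → F) :
    ((L.filter p).map f).sum = (L.map fun a => if p a then f a else 0).sum := by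
  induction L with
  | nil => rfl
  | cons a L ih =>
    simp only [List.filter_cons]
    by_cases ha : p a = true
    · simp [ha, ih]
    · simp [ha, ih]

/-- A column of `x_r(t)`. -/
lemma x_apply (h : T.Agrees D) {r : ℕ} (hr : r < T.n) (t : F) (row col : D.Idx) :
    D.x F r t row col = ((T.col r (enc col)).map fun q =>
      if q.1 = enc row then (q.2.2 : F) * t ^ q.2.1 else 0).sum := by
  have hn := h.nroots_eq
  have hl := h.rank_eq
  have hr' : r < D.nroots := by omega
  simp only [ChevalleyDatum.x, dif_pos hr', ChevalleyDatum.xMat, Matrix.of_apply, Tab.col]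
  rcases col with i | s
  · have hi : i.val < T.l := by omega
    have hcar : (D.cartanSR.getD i.val #[]).getD r 0 = T.car i.val r := h.cartan_eq hi hr
    have e1 : enc (Sum.inl i : D.Idx) = T.n + i.val := by simp [enc, hn]
    rw [e1, if_pos (Nat.le_add_right _ _), Nat.add_sub_cancel_left]
    simp only [List.map_cons, List.map_nil, List.sum_cons, List.sum_nil, add_zero]
    rcases row with j | v
    · have : ¬ r = D.nroots + j.val := by omega
      simp only [enc, this, if_false, pow_zero, Int.cast_one, mul_one, add_zero, ← hn,
        Nat.add_left_cancel_iff]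
      by_cases hij : j = i
      · simp [hij]
      · simp [hij, Fin.val_inj, Ne.symm hij]
    · have : ¬ T.n + i.val = v.val := by omega
      simp only [enc, this, if_false, zero_add, pow_one, hcar]
      by_cases hv : v = ⟨r, hr'⟩
      · subst hv; simp
      · have : ¬ r = v.val := fun e => hv (Fin.ext e.symm)
        simp [hv, this]
  · have hs : s.val < T.n := by omega
    have e1 : enc (Sum.inr s : D.Idx) = s.val := rfl
    dsimp only
    rw [e1, if_neg (show ¬ T.n ≤ s.val by omega)]
    by_cases hsr : s.val = r
    · have : s = ⟨r, hr'⟩ := Fin.ext hsr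
      subst this
      rw [if_pos rfl, if_pos hsr]
      simp only [List.map_cons, List.map_nil, List.sum_cons, List.sum_nil, pow_zero,
        Int.cast_one, mul_one, add_zero]
      rcases row with j | v
      · have : ¬ r = D.nroots + j.val := by omega
        simp [enc, this]
      · simp only [enc]
        by_cases hv : v = ⟨r, hr'⟩
        · subst hv; simp
        · have : ¬ r = v.val := fun e => hv (Fin.ext e.symm)
          simp [hv, this]
    · have hsr' : s ≠ ⟨r, hr'⟩ := fun e => hsr (congrArg Fin.val e)
      rw [if_neg hsr, if_neg hsr', h.negIdx_eq hr]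
      by_cases hsn : s.val = T.neg r
      · rw [if_pos hsn, if_pos hsn]
        simp only [List.map_cons, List.sum_cons, List.map_map, pow_zero, Int.cast_one, mul_one]
        rcases row with j | v
        · have hj : j.val < T.l := by omega
          have h1 : ¬ s.val = D.nroots + j.val := by omega
          have h2 : ¬ r = D.nroots + j.val := by omega
          simp only [enc, h1, h2, if_false, zero_add, h.cor_eq hr hj]
          show _ = ∑ k ∈ Finset.range T.l,
            (if T.n + k = D.nroots + j.val then ((T.cor r k : ℤ) : F) * t ^ 1 else 0)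
          rw [Finset.sum_eq_single j.val]
          · simp [hn]
          · intro k _ hk; rw [if_neg (by omega)]
          · simp [hj]
        · have h3 : ∀ k, ¬ T.n + k = v.val := fun k => by omega
          simp only [enc, Function.comp_def, h3, if_false]
          by_cases hvs : v = s
          · subst hvs
            have : ¬ r = v.val := fun e => hsr e.symm
            simp [this]
          · have hvs' : ¬ s.val = v.val := fun e => hvs (Fin.ext e.symm)
            by_cases hvr : v = ⟨r, hr'⟩
            · subst hvr; simp [hvs, hvs']
            · have : ¬ r = v.val := fun e => hvr (Fin.ext e.symm)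
              simp [hvs, hvr, this, hvs']
      · rw [if_neg hsn, if_neg hsn]
        simp only [List.map_cons, List.sum_cons, List.map_map, pow_zero, Int.cast_one, mul_one]
        rcases row with j | v
        · have h1 : ¬ s.val = D.nroots + j.val := by omega
          simp only [enc, h1, if_false, zero_add]
          refine (List.sum_eq_zero ?_).symm
          intro x hx
          simp only [List.mem_map, Function.comp_apply, List.mem_filter, decide_eq_true_eq] at hx
          obtain ⟨q, ⟨-, hlt⟩, rfl⟩ := hx
          exact if_neg (by omega)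
        · dsimp only [enc]
          rw [h.chainCoeff_eq hr hs, List.map_map, sum_map_filter_eq, sum_map_filter_eq]
          simp only [Function.comp_def, decide_eq_true_eq]
          refine congrArg₂ (· + ·) ?_ (congrArg List.sum (List.map_congr_left fun q _ => ?_))
          · by_cases hvs : v = s
            · subst hvs; simp
            · have : ¬ s.val = v.val := fun e => hvs (Fin.ext e.symm)
              rw [if_neg hvs]; exact (if_neg this).symm
          · have := v.isLt
            by_cases hq : q.1.1 = v.val
            · rw [if_pos hq, if_pos (show q.1.1 < T.n by omega)]; exact (if_pos hq).symm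
            · rw [if_neg hq]; split
              · exact (if_neg hq).symm
              · rfl

lemma x_of_le {r : ℕ} (h : T.Agrees D) (hr : T.n ≤ r) (t : F) : D.x F r t = 1 := by
  have := h.nroots_eq
  simp [ChevalleyDatum.x, show ¬ r < D.nroots by omega]

lemma exists_enc (h : T.Agrees D) {k : ℕ} (hk : k < T.dim) : ∃ c : D.Idx, enc c = k := by
  have hn := h.nroots_eq
  have hl := h.rank_eq
  unfold Tab.dim at hk
  by_cases hkn : k < T.n
  · exact ⟨Sum.inr ⟨k, by omega⟩, rfl⟩
  · exact ⟨Sum.inl ⟨k - T.n, by omega⟩, by simp [enc]; omega⟩

lemma enc_lt (h : T.Agrees D) (c : D.Idx) : enc c < T.dim := by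
  have hn := h.nroots_eq
  have hl := h.rank_eq
  unfold Tab.dim
  rcases c with i | s <;> simp only [enc]
  · have := i.isLt; omega
  · have := s.isLt; omega

/-- One engine step is multiplication by a root element. -/
lemma vec_step (h : T.Agrees D) (red : Bool) (r : ℕ) (c : ℤ) (a b : ℕ) (t u : F)
    (htu : red = true → t * u = 1) (V : SVec) :
    D.x F r ((c : F) * t ^ a * u ^ b) *ᵥ vec D t u V = vec D t u (T.step red r c a b V) := by
  by_cases hr : T.n ≤ r
  · rw [x_of_le h hr, Matrix.one_mulVec]
    simp [Tab.step, hr]
  have hr' : r < T.n := by omega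
  funext row
  simp only [vec, Tab.step, if_neg hr]
  rw [ev_norm t u _ red htu]
  induction V with
  | nil => simp [Matrix.mulVec, dotProduct, vec]
  | cons e V ih =>
    rw [List.flatMap_cons, ev_append, ← ih]
    simp only [Matrix.mulVec, dotProduct, vec, ev_cons, mul_add, Finset.sum_add_distrib]
    congr 1
    obtain ⟨⟨k, i, j⟩, cf⟩ := e
    simp only
    by_cases hk : T.dim ≤ k
    · rw [if_pos hk, ev_nil]
      refine Finset.sum_eq_zero fun col _ => ?_
      have := enc_lt h col
      rw [evTerm, if_neg (by simp only; omega), mul_zero]
    rw [if_neg hk]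
    obtain ⟨c0, hc0⟩ := exists_enc h (not_le.1 hk)
    rw [Finset.sum_eq_single c0]
    · rw [x_apply h hr']
      simp only [evTerm, hc0, if_true, ev, List.map_map, Function.comp_def]
      rw [← List.sum_map_mul_right]
      refine congrArg List.sum (List.map_congr_left fun q _ => ?_)
      split
      · push_cast
        rw [mul_pow, mul_pow, ← pow_mul, ← pow_mul, pow_add, pow_add]
        ring
      · simp
    · intro col _ hne
      rw [evTerm, if_neg (fun e => hne (enc_injective (e.symm.trans hc0.symm))), mul_zero]
    · simp

/-- The scalars of an engine word at `(t, u)`. -/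
def wordAt (w : List (ℕ × ℤ × ℕ × ℕ)) (t u : F) : List (ℕ × F) :=
  w.map fun g => (g.1, (g.2.1 : F) * t ^ g.2.2.1 * u ^ g.2.2.2)

/-- The engine computes columns of word matrices. -/
lemma wordMat_apply (h : T.Agrees D) (red : Bool) (w : List (ℕ × ℤ × ℕ × ℕ)) (t u : F)
    (htu : red = true → t * u = 1) (row col : D.Idx) :
    D.wordMat F (wordAt w t u) row col = ev t u (T.appWord red w (enc col)) (enc row) := by
  have key : D.wordMat F (wordAt w t u) *ᵥ (Pi.single col (1 : F)) =
      vec D t u (T.appWord red w (enc col)) := by
    induction w with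
    | nil =>
      funext r'
      simp only [ChevalleyDatum.wordMat, wordAt, List.map_nil, List.prod_nil, Matrix.one_mulVec,
        vec, Tab.appWord, List.foldr_nil, ev_cons, ev_nil, evTerm, add_zero]
      by_cases hc : r' = col
      · subst hc; simp
      · have : ¬ enc col = enc r' := fun e => hc (enc_injective e.symm)
        simp [hc, this]
    | cons g w ih =>
      have e : D.wordMat F (wordAt (g :: w) t u) =
          D.x F g.1 ((g.2.1 : F) * t ^ g.2.2.1 * u ^ g.2.2.2) * D.wordMat F (wordAt w t u) := by
        simp [ChevalleyDatum.wordMat, wordAt]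
      rw [e, ← Matrix.mulVec_mulVec, ih, vec_step h red _ _ _ _ t u htu]
      rfl
  have := congrFun key row
  rwa [Matrix.mulVec_single_one] at this

/-- Equality of two word matrices, checked by the engine. -/
lemma wordMat_eq_of_same (h : T.Agrees D) (red : Bool) (w₁ w₂ : List (ℕ × ℤ × ℕ × ℕ))
    (hsame : ∀ c < T.dim, same red (T.appWord red w₁ c) (T.appWord red w₂ c) = true) (t u : F)
    (htu : red = true → t * u = 1) :
    D.wordMat F (wordAt w₁ t u) = D.wordMat F (wordAt w₂ t u) := by
  ext row col
  rw [wordMat_apply h red w₁ t u htu, wordMat_apply h red w₂ t u htu]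
  exact ev_eq_of_same t u _ red htu (hsame _ (enc_lt h col))

end CfsgLib.Chev
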