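import Cfsg.Agent.Lib.Chev.All
import Cfsg.Agent.Lib.Chev.Bruhat
import Cfsg.Prelude.Def_ChevAutomorphisms

/-!
Generation by the monomial subgroup and one short root subgroup.
-/

set_option autoImplicit false
set_option maxRecDepth 100000

namespace CfsgLib.Chev

open Cfsg.Lie Matrix

namespace Tab

/-- `T.pairing`-based long root test, as `ChevalleyDatum.isLong`. -/
def longT (T : Tab) (r : ℕ) : Bool :=
  (List.range T.n).any fun s => s != r && s != T.neg r && decide (2 ≤ (T.pairing s r).natAbs)

/-- One closure step of a set of roots under simple reflections. -/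
def orbStep (T : Tab) (seen : ℕ) : ℕ :=
  (List.range T.n).foldl (fun acc r => if acc.testBit r then
    (List.range T.l).foldl (fun acc i => acc ||| 2 ^ T.refl i r) acc else acc) seen

/-- `k` closure steps. -/
def orbIter (T : Tab) : ℕ → ℕ → ℕ
  | 0, seen => seen
  | k + 1, seen => orbIter T k (orbStep T seen)

/-- Every simple root is in the orbit of the simple root `i`, or is the only term of the commutator
of two roots from that orbit, with constant `± c`. -/
def chkGenFrom (T : Tab) (i k : ℕ) (c : ℤ) : Bool :=
  let O := T.orbIter k (2 ^ T.simple i)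
  (List.range T.l).all fun j => O.testBit (T.simple j) ||
    (List.range T.n).any fun a => O.testBit a && (List.range T.n).any fun b =>
      O.testBit b && a != b && b != T.neg a &&
        match T.commTerms a b with
        | [q] => decide (q.1 = T.simple j ∧ q.2.2.1 = 1 ∧ q.2.2.2 = 1 ∧ q.2.1.natAbs = c.natAbs)
        | _ => false

/-- The same for all short simple roots. -/
def chkShortGen (T : Tab) (k : ℕ) (c : ℤ) : Bool :=
  (List.range T.l).all fun i => T.longT (T.simple i) || T.chkGenFrom i k c

end Tab

lemma shortGenG2 : tabG2.chkShortGen 6 3 = true := by decide +kernel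
lemma shortGenB2 : tabB2.chkShortGen 4 2 = true := by decide +kernel
lemma shortGenD4 : tabD4.chkShortGen 6 1 = true := by decide +kernel
lemma shortGenF4 : tabF4.chkShortGen 10 2 = true := by decide +kernel
lemma shortGenE6 : tabE6.chkShortGen 8 1 = true := by decide +kernel
lemma shortGenE7 : tabE7.chkShortGen 10 1 = true := by decide +kernel
lemma shortGenE8 : tabE8.chkShortGen 12 1 = true := by decide +kernel

namespace Cert

variable {D : ChevalleyDatum} {T : Tab} {C : Tab.Cover} (h : Cert D T C)
include h

lemma pairing_eq {r : ℕ} (hr : r < T.n) {s : ℕ} (hs : s < T.n) :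
    D.pairing r s = T.pairing r s := by
  unfold ChevalleyDatum.pairing Tab.pairing
  rw [h.rank_eq]
  refine congrArg List.sum (List.map_congr_left fun i hi => ?_)
  rw [h.agrees.cor_eq hr (List.mem_range.1 hi), h.cartan_eq (List.mem_range.1 hi) hs]

lemma isLong_eq {r : ℕ} (hr : r < T.n) : D.isLong r = T.longT r := by
  unfold ChevalleyDatum.isLong Tab.longT
  rw [h.nroots_eq, h.neg_eq hr]
  rw [Bool.eq_iff_iff, List.any_eq_true, List.any_eq_true]
  exact exists_congr fun s => and_congr_right fun hs => by
    rw [h.pairing_eq (List.mem_range.1 hs) hr]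

variable {F : Type*} [Field F]

lemma mem_of_orbit {i : ℕ} (hi : i < T.l) {K : Subgroup (GL D.Idx F)}
    (hN : D.monomialSubgroup F ≤ K) (hX : ∀ t : F, X D (T.simple i) t ∈ K) :
    ∀ (k seen : ℕ), (∀ r, seen.testBit r = true → r < T.n ∧ ∀ t : F, X D r t ∈ K) →
      ∀ r, (T.orbIter k seen).testBit r = true → r < T.n ∧ ∀ t : F, X D r t ∈ K := by
  intro k
  induction k with
  | zero => intro seen hs r hr; exact hs r hr
  | succ k ih =>
    intro seen hs r hr
    refine ih (T.orbStep seen) ?_ r hr
    unfold Tab.orbStep
    generalize hL : List.range T.n = L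
    have hLn : ∀ r ∈ L, r < T.n := fun r hr => List.mem_range.1 (hL ▸ hr)
    clear hL hr
    induction L generalizing seen with
    | nil => exact hs
    | cons a L ihL =>
      rw [List.foldl_cons]
      refine ihL _ ?_ fun r hr => hLn r (List.mem_cons_of_mem _ hr)
      split_ifs with ha
      · obtain ⟨han, hat⟩ := hs a ha
        generalize hM : List.range T.l = M
        have hMl : ∀ j ∈ M, j < T.l := fun j hj => List.mem_range.1 (hM ▸ hj)
        clear hM
        have : ∀ acc : ℕ, (∀ r, acc.testBit r = true → r < T.n ∧ ∀ t : F, X D r t ∈ K) →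
            ∀ r, (M.foldl (fun acc i => acc ||| 2 ^ T.refl i a) acc).testBit r = true →
              r < T.n ∧ ∀ t : F, X D r t ∈ K := by
          induction M with
          | nil => exact fun _ h => h
          | cons j M ihM =>
            intro acc hacc
            rw [List.foldl_cons]
            refine ihM (fun j hj => hMl j (List.mem_cons_of_mem _ hj)) _ fun r hr => ?_
            rw [Nat.testBit_or, Bool.or_eq_true, Nat.testBit_two_pow, decide_eq_true_eq] at hr
            rcases hr with hr | rfl
            · exact hacc r hr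
            · have hj := hMl j List.mem_cons_self
              refine ⟨h.refl_lt hj han, fun t => ?_⟩
              have hn := hN (h.nS_mem_monomial (F := F) hj)
              have e := h.nS_conj_X (F := F) hj han ((T.eta j a : F) * t)
              rw [← mul_assoc, ← Int.cast_mul, T.eta_sq, Int.cast_one, one_mul] at e
              rw [← e]
              exact mul_mem (mul_mem hn (hat _)) (inv_mem hn)
        exact this seen hs
      · exact hs

theorem group_le_short {k : ℕ} {c : ℤ} (hc : T.chkShortGen k c = true)
    (hcF : ∀ m : ℤ, m.natAbs = c.natAbs → (m : F) ≠ 0) {i : ℕ} (hi : i < T.l)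
    (hshort : D.isLong (D.simple i) = false) :
    D.group F ≤ D.monomialSubgroup F ⊔ D.rootSubgroup F (D.simple i) := by
  rw [h.simple_eq hi, h.isLong_eq (h.simple_lt hi)] at *
  simp only [Tab.chkShortGen, Tab.chkGenFrom, List.all_eq_true, List.mem_range, Bool.or_eq_true,
    List.any_eq_true, Bool.and_eq_true, bne_iff_ne] at hc
  have hc' := (hc i hi).resolve_left (by simp [hshort])
  set K := D.monomialSubgroup F ⊔ D.rootSubgroup F (T.simple i)
  have hX : ∀ t : F, X D (T.simple i) t ∈ K := fun t => Subgroup.mem_sup_right (by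
    rw [h.rootSubgroup_eq]; exact X_mem_gen D (Set.mem_singleton _) t)
  have horb : ∀ r, (T.orbIter k (2 ^ T.simple i)).testBit r = true →
      r < T.n ∧ ∀ t : F, X D r t ∈ K := h.mem_of_orbit hi le_sup_left hX k _ fun r hr => by
    rw [Nat.testBit_two_pow, decide_eq_true_eq] at hr
    subst hr
    exact ⟨h.simple_lt hi, hX⟩
  refine h.group_le_of (fun j hj => ?_) fun j hj => Subgroup.mem_sup_left (h.nS_mem_monomial hj)
  rcases hc' j hj with e | ⟨a, -, ha, b, -, ⟨⟨⟨hb, hne⟩, hneg⟩, e⟩⟩
  · exact (horb _ e).2
  obtain ⟨han, hat⟩ := horb a ha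
  obtain ⟨hbn, hbt⟩ := horb b hb
  intro t
  split at e
  next q hq =>
    obtain ⟨q1, m, i1, j1⟩ := q
    simp only [decide_eq_true_eq] at e
    obtain ⟨rfl, rfl, rfl, hm⟩ := e
    have hm0 : (m : F) ≠ 0 := hcF m hm
    have e := h.X_conj (F := F) han hbn (Ne.symm hne) hneg 1 (-t / m)
    rw [hq] at e
    simp only [List.map_cons, List.map_nil, List.prod_cons, List.prod_nil, mul_one, pow_one] at e
    rw [show (m : F) * -1 * (-t / m) = t by field_simp] at e
    have h1 := mul_mem (inv_mem (hbt (-t / m)))
      (mul_mem (mul_mem (hat (-1)) (hbt (-t / m))) (hat 1))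
    rwa [e, ← mul_assoc, inv_mul_cancel, one_mul] at h1
  next => exact absurd e Bool.false_ne_true

theorem group_le_two {k i j : ℕ} (hi : i < T.l) (hj : j < T.l)
    (hc : ((List.range T.l).all fun m => (T.orbIter k (2 ^ T.simple i)).testBit (T.simple m) ||
      (T.orbIter k (2 ^ T.simple j)).testBit (T.simple m)) = true) :
    D.group F ≤ D.monomialSubgroup F ⊔ D.rootSubgroup F (D.simple i) ⊔
      D.rootSubgroup F (D.simple j) := by
  rw [h.simple_eq hi, h.simple_eq hj]
  set K := D.monomialSubgroup F ⊔ D.rootSubgroup F (T.simple i) ⊔ D.rootSubgroup F (T.simple j)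
  have hN : D.monomialSubgroup F ≤ K := le_sup_of_le_left le_sup_left
  have key : ∀ m, m < T.l → D.rootSubgroup F (T.simple m) ≤ K →
      ∀ r, (T.orbIter k (2 ^ T.simple m)).testBit r = true → ∀ t : F, X D r t ∈ K := by
    intro m hm hle r hr
    have hX : ∀ t : F, X D (T.simple m) t ∈ K := fun t => hle (by
      rw [h.rootSubgroup_eq]; exact X_mem_gen D (Set.mem_singleton _) t)
    exact (h.mem_of_orbit hm hN hX k _ (fun q hq => by
      rw [Nat.testBit_two_pow, decide_eq_true_eq] at hq
      subst hq
      exact ⟨h.simple_lt hm, hX⟩) r hr).2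
  refine h.group_le_of (fun m hm => ?_) fun m hm => hN (h.nS_mem_monomial hm)
  simp only [List.all_eq_true, List.mem_range, Bool.or_eq_true] at hc
  rcases hc m hm with e | e
  · exact key i hi (le_sup_of_le_left le_sup_right) _ e
  · exact key j hj le_sup_right _ e

end Cert

namespace Tab

/-- The orbits of a short and of a long simple root contain all simple roots. -/
def chkTwo (T : Tab) (k : ℕ) : Bool :=
  (List.range T.l).all fun i => (List.range T.l).all fun j =>
    T.longT (T.simple i) || !T.longT (T.simple j) ||
      (List.range T.l).all fun m => (T.orbIter k (2 ^ T.simple i)).testBit (T.simple m) ||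
        (T.orbIter k (2 ^ T.simple j)).testBit (T.simple m)

end Tab

theorem chkTwoG2 : tabG2.chkTwo 6 = true := by decide +kernel
theorem chkTwoB2 : tabB2.chkTwo 4 = true := by decide +kernel
theorem chkTwoF4 : tabF4.chkTwo 10 = true := by decide +kernel

theorem Cert.group_le_short_long {D : ChevalleyDatum} {T : Tab} {C : Tab.Cover} (h : Cert D T C)
    {F : Type*} [Field F] {k : ℕ} (hc : T.chkTwo k = true) {i j : ℕ} (hi : i < D.rank)
    (hj : j < D.rank) (hs : D.isLong (D.simple i) = false) (hl : D.isLong (D.simple j) = true) :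
    D.group F ≤ D.monomialSubgroup F ⊔ D.rootSubgroup F (D.simple i) ⊔
      D.rootSubgroup F (D.simple j) := by
  rw [h.rank_eq] at hi hj
  refine h.group_le_two hi hj (k := k) ?_
  rw [h.simple_eq hi, h.isLong_eq (h.simple_lt hi)] at hs
  rw [h.simple_eq hj, h.isLong_eq (h.simple_lt hj)] at hl
  simp only [Tab.chkTwo, List.all_eq_true, List.mem_range, Bool.or_eq_true, Bool.not_eq_true'] at hc
  rcases hc i hi j hj with (e | e) | e
  · rw [hs] at e; exact absurd e Bool.false_ne_true
  · rw [hl] at e; exact absurd e.symm Bool.false_ne_true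
  · simpa using e

end CfsgLib.Chev
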