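import Cfsg.Agent.Lib.Chev.StPresent

/-!
Additive lifts of root subgroups before the commutator relations are known: injectivity on small
closed sets, and bimultiplicativity of the error in one commutator relation.
-/

set_option autoImplicit false
set_option maxRecDepth 100000

namespace CfsgLib.Chev

open Cfsg.Lie Matrix

/-- Additive lifts of the root elements. -/
structure RootLift (D : ChevalleyDatum) (T : Tab) (F : Type*) [Field F] (E : Type*) [Group E] where
  x : ℕ → F → E
  π : E →* GL D.Idx F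
  π_x : ∀ r, r < T.n → ∀ t, π (x r t) = X D r t
  x_add : ∀ r, r < T.n → ∀ t u, x r t * x r u = x r (t + u)

namespace RootLift

variable {D : ChevalleyDatum} {T : Tab} {F : Type*} [Field F] {E : Type*} [Group E]

/-- The subgroup generated by the lifts of a set of roots. -/
def sub (L : RootLift D T F E) (S : Set ℕ) : Subgroup E :=
  Subgroup.closure {g | ∃ r ∈ S, ∃ t, g = L.x r t}

/-- The right hand side of the commutator relation. -/
def terms (L : RootLift D T F E) (r s : ℕ) (t u : F) : E :=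
  ((T.commTerms r s).map fun c => L.x c.1 ((c.2.1 : F) * (-t) ^ c.2.2.1 * u ^ c.2.2.2)).prod

/-- The commutator relation at one pair. -/
def CommAt (L : RootLift D T F E) (r s : ℕ) : Prop :=
  ∀ t u : F, L.x r (-t) * L.x s u * L.x r t = L.x s u * L.terms r s t u

/-- The error in one commutator relation. -/
def err (L : RootLift D T F E) (r s : ℕ) (t u : F) : E :=
  L.x r (-t) * L.x s u * L.x r t * (L.x s u * L.terms r s t u)⁻¹

variable (L : RootLift D T F E)

lemma x_mem {S : Set ℕ} {r : ℕ} (hr : r ∈ S) (t : F) : L.x r t ∈ L.sub S :=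
  Subgroup.subset_closure ⟨r, hr, t, rfl⟩

lemma sub_mono {S S' : Set ℕ} (hS : S ⊆ S') : L.sub S ≤ L.sub S' :=
  Subgroup.closure_mono fun _ ⟨r, hr, t, e⟩ => ⟨r, hS hr, t, e⟩

lemma x_zero {r : ℕ} (hr : r < T.n) : L.x r 0 = 1 := by
  have := L.x_add r hr 0 0
  rwa [add_zero, mul_eq_left] at this

lemma x_inv {r : ℕ} (hr : r < T.n) (t : F) : (L.x r t)⁻¹ = L.x r (-t) :=
  inv_eq_of_mul_eq_one_right (by rw [L.x_add r hr, add_neg_cancel, L.x_zero hr])

lemma π_sub {S : Set ℕ} (hS : ∀ r ∈ S, r < T.n) {g : E} (hg : g ∈ L.sub S) :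
    L.π g ∈ gen D F S := by
  have : L.sub S ≤ (gen D F S).comap L.π := (Subgroup.closure_le _).2 fun g ⟨r, hr, t, e⟩ => by
    subst e
    show L.π _ ∈ gen D F S
    rw [L.π_x r (hS r hr)]; exact X_mem_gen D hr t
  exact this hg

lemma terms_mem {r s : ℕ} {S : Set ℕ} (hq : ∀ q ∈ T.commTerms r s, q.1 ∈ S) (t u : F) :
    L.terms r s t u ∈ L.sub S := by
  refine list_prod_mem fun g hg => ?_
  obtain ⟨c, hc, rfl⟩ := List.mem_map.1 hg
  exact L.x_mem (hq c hc) _

lemma conj_mem {r s : ℕ} (hr : r < T.n) (hc : L.CommAt r s)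
    {S : Set ℕ} (hsS : s ∈ S) (hq : ∀ q ∈ T.commTerms r s, q.1 ∈ S) (t u : F) :
    L.x r t * L.x s u * (L.x r t)⁻¹ ∈ L.sub S := by
  have := hc (-t) u
  rw [_root_.neg_neg] at this
  rw [L.x_inv hr, this]
  exact mul_mem (L.x_mem hsS u) (L.terms_mem hq _ _)

lemma sub_singleton {r : ℕ} (hr : r < T.n) {g : E} (hg : g ∈ L.sub {r}) :
    ∃ t : F, g = L.x r t := by
  induction hg using Subgroup.closure_induction with
  | mem g hg => obtain ⟨s, rfl, t, e⟩ := hg; exact ⟨t, e⟩
  | one => exact ⟨0, (L.x_zero hr).symm⟩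
  | mul a b _ _ ha hb =>
    obtain ⟨t, rfl⟩ := ha; obtain ⟨u, rfl⟩ := hb; exact ⟨t + u, L.x_add r hr t u⟩
  | inv a _ ha => obtain ⟨t, rfl⟩ := ha; exact ⟨-t, L.x_inv hr t⟩

variable {C : Tab.Cover} (h : Cert D T C)
include h

/-- Injectivity on a closed set inside a positive system, given the relations inside the set. -/
theorem eq_one_of_π_eq_one {w : List ℕ} (hw : WordOK T w) :
    ∀ S : Finset ℕ, (∀ r ∈ S, r ∈ Rel.posW T w) → CommClosed T {r | r ∈ S} →
      (∀ b ∈ S, ∀ s ∈ S, s ≠ b → L.CommAt b s) →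
      ∀ a ∈ L.sub {r | r ∈ S}, L.π a = 1 → a = 1 := by
  classical
  let f : ℕ → ℤ := fun r => h.htW (rword T w r)
  have fpos : ∀ r ∈ Rel.posW T w, 0 < f r := fun r hr => h.htW_pos ⟨hr.2, h.rword_lt hw hr.1⟩
  intro S
  induction S using Finset.strongInduction with
  | _ S ih =>
    intro hS hcl hrel a ha hπa
    by_cases hne : S.Nonempty
    swap
    · rw [Finset.not_nonempty_iff_eq_empty] at hne
      subst hne
      have : L.sub {r | r ∈ (∅ : Finset ℕ)} = ⊥ := by simp [sub]
      rwa [this, Subgroup.mem_bot] at ha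
    obtain ⟨r, hr, hmin⟩ := Finset.exists_min_image S f hne
    have hrn := (hS r hr).1
    have hterm : ∀ b ∈ S, ∀ s ∈ S, ∀ q ∈ T.commTerms b s, f r < f q.1 := fun b hb s hs q hq =>
      lt_of_le_of_lt (hmin b hb)
        (h.htW_comm (hS b hb).1 (hS s hs).1 hq hw (fpos b (hS b hb)) (fpos s (hS s hs))).1
    have hsub : ∀ b ∈ S, ∀ s ∈ S, s ≠ b → ∀ q ∈ T.commTerms b s, q.1 ∈ S.erase r :=
      fun b hb s hs hsb q hq => Finset.mem_erase.2
        ⟨fun e => (hterm b hb s hs q hq).ne (by rw [e]), hcl b hb s hs hsb q hq⟩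
    have hcl' : CommClosed T {s | s ∈ S.erase r} := fun b hb s hs hsb q hq =>
      hsub b (Finset.mem_of_mem_erase hb) s (Finset.mem_of_mem_erase hs) hsb q hq
    have hnorm : L.sub {r} ≤ Subgroup.normalizer (L.sub {s | s ∈ S.erase r} : Set E) := by
      refine le_normalizer_closure fun g hg b hb => ?_
      obtain ⟨c, rfl⟩ := L.sub_singleton hrn hg
      obtain ⟨s, hs, u, rfl⟩ := hb
      have hsS := Finset.mem_of_mem_erase hs
      exact L.conj_mem hrn (hrel r hr s hsS (Finset.ne_of_mem_erase hs)) hs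
        (fun q hq => hsub r hr s hsS (Finset.ne_of_mem_erase hs) q hq) c u
    have hle : L.sub {s | s ∈ S} ≤ L.sub {r} ⊔ L.sub {s | s ∈ S.erase r} := by
      refine (Subgroup.closure_le _).2 ?_
      rintro _ ⟨s, hs, u, rfl⟩
      by_cases e : s = r
      · exact Subgroup.mem_sup_left (L.x_mem (show s ∈ ({r} : Set ℕ) from e) u)
      · exact Subgroup.mem_sup_right (L.x_mem (Finset.mem_erase.2 ⟨e, hs⟩) u)
    have ha' := hle ha
    rw [← SetLike.mem_coe, Subgroup.coe_mul_of_left_le_normalizer_right _ _ hnorm] at ha'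
    obtain ⟨x, hx, b, hb, rfl⟩ := ha'
    obtain ⟨c, rfl⟩ := L.sub_singleton hrn hx
    have hlt : ∀ s ∈ ({s | s ∈ S.erase r} : Set ℕ), s < T.n := fun s hs =>
      (hS s (Finset.mem_of_mem_erase hs)).1
    -- move to the standard positive system
    have hX : X D r c ∈ gen D F {s | s ∈ S.erase r} := by
      rw [map_mul, L.π_x r hrn, mul_eq_one_iff_eq_inv] at hπa
      rw [hπa]
      exact inv_mem (L.π_sub hlt hb)
    obtain ⟨d, hd, hconj⟩ := h.Maps_nW (F := F) hw hrn
    set S' : Set ℕ := {p | p ∈ posSet T ∧ p ≠ rword T w r ∧ f r ≤ h.htW p}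
    have h1 : X D (rword T w r) (d * c) ∈ gen D F S' := by
      rw [← hconj]
      refine Cert.conj_gen_le (S' := S') (fun s hs => ?_) hX
      have hsS := Finset.mem_of_mem_erase hs
      exact ⟨rword T w s, ⟨⟨(hS s hsS).2, h.rword_lt hw (hlt s hs)⟩,
        fun e => Finset.ne_of_mem_erase hs (h.rword_inj hw (hlt s hs) hrn e), hmin s hsS⟩,
        h.Maps_nW hw (hlt s hs)⟩
    have hcl'' : CommClosed T S' := by
      intro b hb s hs hsb q hq
      have h2 := h.htW_comm hb.1.2 hs.1.2 hq (w := []) (fun i hi => absurd hi List.not_mem_nil)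
        (h.htW_pos hb.1) (h.htW_pos hs.1)
      simp only [rword, List.foldr_nil] at h2
      have hb3 : f r ≤ h.htW b := hb.2.2
      refine ⟨(h.commClosed_posSet b hb.1 s hs.1 hsb q hq), fun e => ?_, ?_⟩
      · rw [e] at h2
        have : h.htW (rword T w r) = f r := rfl
        omega
      · show f r ≤ h.htW q.1
        omega
    have := h.eq_zero_of_mem_gen (fun p hp => hp.1) hcl''
      ⟨(hS r hr).2, h.rword_lt hw hrn⟩ (fun e => e.2.1 rfl) h1
    simp only [(mul_eq_zero.1 this).resolve_left hd, L.x_zero hrn, one_mul] at hπa ⊢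
    exact ih _ (Finset.erase_ssubset hr) (fun s hs => hS s (Finset.mem_of_mem_erase hs)) hcl'
      (fun b hb s hs => hrel b (Finset.mem_of_mem_erase hb) s (Finset.mem_of_mem_erase hs)) b hb hπa

lemma π_terms {r s : ℕ} (hr : r < T.n) (hs : s < T.n) (t u : F) :
    L.π (L.terms r s t u) = ((T.commTerms r s).map fun c =>
      X D c.1 ((c.2.1 : F) * (-t) ^ c.2.2.1 * u ^ c.2.2.2)).prod := by
  rw [terms, map_list_prod, List.map_map]
  exact congrArg List.prod (List.map_congr_left fun c hc => L.π_x _ (h.commTerms_lt hr hs hc) _)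

lemma π_err {r s : ℕ} (hr : r < T.n) (hs : s < T.n) (hne : s ≠ r) (hneg : s ≠ T.neg r) (t u : F) :
    L.π (L.err r s t u) = 1 := by
  rw [err, map_mul, map_mul, map_mul, map_inv, map_mul, L.π_x r hr, L.π_x r hr, L.π_x s hs,
    L.π_terms h hr hs, h.X_conj hr hs hne hneg, mul_inv_cancel]

end RootLift

/-- Roots around a pair: all are positive after `w`, closed, and the pairs among them and with `r`
have fewer terms. -/
def Tab.chkAround (T : Tab) (w : List ℕ) (r s : ℕ) : Bool :=
  (w.all fun i => decide (i < T.l)) &&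
  (let S := s :: (T.commTerms r s).map Prod.fst
   S.all fun a => decide (a < T.n ∧ T.half ≤ rword T w a) && S.all fun b =>
    decide (b = a) || ((T.commTerms a b).all fun q => decide (q.1 ∈ S)) &&
      decide ((T.commTerms a b).length < (T.commTerms r s).length) &&
      decide (b ≠ T.neg a)) &&
  ((T.commTerms r s).all fun c =>
    decide (c.1 ≠ r) && decide (c.1 ≠ T.neg r) &&
      ((T.commTerms r c.1).all fun q => decide (q.1 ∈ (T.commTerms r s).map Prod.fst)) &&
      decide ((T.commTerms r c.1).length < (T.commTerms r s).length))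

namespace RootLift

variable {D : ChevalleyDatum} {T : Tab} {F : Type*} [Field F] {E : Type*} [Group E]
  (L : RootLift D T F E) {C : Tab.Cover} (h : Cert D T C)
include h

/-- The error in a relation is bimultiplicative, given the relations with fewer terms. -/
theorem err_bimult (hker : L.π.ker ≤ Subgroup.center E) {r s : ℕ} (hr : r < T.n) (hs : s < T.n)
    (hne : s ≠ r) (hneg : s ≠ T.neg r) {w : List ℕ} (hchk : T.chkAround w r s = true)
    (hsmall : ∀ a < T.n, ∀ b < T.n, b ≠ a → b ≠ T.neg a →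
      (T.commTerms a b).length < (T.commTerms r s).length → L.CommAt a b) :
    (∀ t t' u, L.err r s (t + t') u = L.err r s t u * L.err r s t' u) ∧
      ∀ t u u', L.err r s t (u + u') = L.err r s t u * L.err r s t u' := by
  classical
  simp only [Tab.chkAround, Bool.and_eq_true, Bool.or_eq_true, List.all_eq_true,
    decide_eq_true_eq] at hchk
  obtain ⟨⟨hwd, hS⟩, hR⟩ := hchk
  have hw : WordOK T w := fun i hi => hwd i hi
  set Sl := s :: (T.commTerms r s).map Prod.fst with hSl
  set S : Finset ℕ := Sl.toFinset with hSdef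
  have hSpos : ∀ a ∈ S, a ∈ Rel.posW T w := fun a ha => (hS a (List.mem_toFinset.1 ha)).1
  have hcl : CommClosed T {a | a ∈ S} := fun a ha b hb hba q hq =>
    List.mem_toFinset.2
      ((((hS a (List.mem_toFinset.1 ha)).2 b (List.mem_toFinset.1 hb)).resolve_left hba).1.1 q hq)
  have hrel : ∀ a ∈ S, ∀ b ∈ S, b ≠ a → L.CommAt a b := fun a ha b hb hba => by
    have k := ((hS a (List.mem_toFinset.1 ha)).2 b (List.mem_toFinset.1 hb)).resolve_left hba
    exact hsmall a (hSpos a ha).1 b (hSpos b hb).1 hba k.2 k.1.2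
  have hsS : s ∈ ({a | a ∈ S} : Set ℕ) := List.mem_toFinset.2 List.mem_cons_self
  have hqS : ∀ c ∈ T.commTerms r s, c.1 ∈ ({a | a ∈ S} : Set ℕ) := fun c hc =>
    List.mem_toFinset.2 (List.mem_cons_of_mem _ (List.mem_map.2 ⟨c, hc, rfl⟩))
  set P : F → F → E := fun t u => L.x s u * L.terms r s t u with hP
  have hPmem : ∀ t u, P t u ∈ L.sub {a | a ∈ S} := fun t u =>
    mul_mem (L.x_mem hsS u) (L.terms_mem hqS t u)
  have hinj : ∀ a ∈ L.sub {a | a ∈ S}, ∀ b ∈ L.sub {a | a ∈ S}, L.π a = L.π b → a = b := by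
    intro a ha b hb e
    have := L.eq_one_of_π_eq_one h hw S hSpos hcl hrel (a * b⁻¹) (mul_mem ha (inv_mem hb))
      (by rw [map_mul, map_inv, e, mul_inv_cancel])
    exact mul_inv_eq_one.1 this
  have hπerr := L.π_err h hr hs hne hneg
  have hc : ∀ t u y, Commute (L.err r s t u) y := fun t u y =>
    (Subgroup.mem_center_iff.1 (hker (hπerr t u)) y).symm
  have he : ∀ t u, L.x r (-t) * L.x s u * L.x r t = L.err r s t u * P t u := fun t u => by
    rw [err, hP, inv_mul_cancel_right]
  refine ⟨fun t t' u => ?_, fun t u u' => ?_⟩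
  · set M := L.x r (-t') * L.terms r s t u * L.x r t' with hM
    have hMmem : M ∈ L.sub {a | a ∈ S} := by
      have hM' : M = L.x r (-t') * L.terms r s t u * (L.x r (-t'))⁻¹ := by
        rw [hM, L.x_inv hr, _root_.neg_neg]
      rw [hM']
      have key : L.sub {a | a ∈ ((T.commTerms r s).map Prod.fst)} ≤
          (L.sub {a | a ∈ S}).comap (MulAut.conj (L.x r (-t'))).toMonoidHom :=
        (Subgroup.closure_le _).2 fun g ⟨a, ha, v, e⟩ => by
          subst e
          obtain ⟨c, hcm, rfl⟩ := List.mem_map.1 ha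
          obtain ⟨⟨⟨k1, k2⟩, k3⟩, k4⟩ := hR c hcm
          exact L.conj_mem hr (hsmall r hr c.1 (h.commTerms_lt hr hs hcm) k1 k2 k4) (hqS c hcm)
            (fun q hq => List.mem_toFinset.2 (List.mem_cons_of_mem _ (k3 q hq))) _ v
      exact key (L.terms_mem (fun c hcm => List.mem_map.2 ⟨c, hcm, rfl⟩) t u)
    have e2 : L.err r s (t + t') u * P (t + t') u = L.err r s t u * L.err r s t' u * (P t' u * M) := by
      rw [← he, neg_add, add_comm (-t), ← L.x_add r hr, ← L.x_add r hr,
        show L.x r (-t') * L.x r (-t) * L.x s u * (L.x r t * L.x r t') =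
          L.x r (-t') * (L.x r (-t) * L.x s u * L.x r t) * L.x r t' by group, he, hP]
      have hsq : L.x r t' * L.x r (-t') = 1 := by rw [L.x_add r hr, add_neg_cancel, L.x_zero hr]
      calc L.x r (-t') * (L.err r s t u * (L.x s u * L.terms r s t u)) * L.x r t'
          = L.err r s t u * (L.x r (-t') * L.x s u * (L.x r t' * L.x r (-t')) * L.terms r s t u *
              L.x r t') := by
            rw [hsq, mul_one, ← mul_assoc (L.x r (-t')), ← (hc t u (L.x r (-t'))).eq]
            simp [mul_assoc]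
        _ = L.err r s t u * ((L.x r (-t') * L.x s u * L.x r t') * M) := by
            rw [hM]; simp [mul_assoc]
        _ = _ := by rw [he]; simp [hP, mul_assoc]
    have e3 : L.π (P (t + t') u) = L.π (P t' u * M) := by
      have := congrArg L.π e2
      simpa only [map_mul, hπerr, one_mul] using this
    rw [← hinj _ (hPmem _ _) _ (mul_mem (hPmem _ _) hMmem) e3] at e2
    exact mul_right_cancel e2
  · have e2 : L.err r s t (u + u') * P t (u + u') =
        L.err r s t u * L.err r s t u' * (P t u * P t u') := by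
      have hxx : L.x r t * L.x r (-t) = 1 := by rw [L.x_add r hr, add_neg_cancel, L.x_zero hr]
      rw [← he]
      calc L.x r (-t) * L.x s (u + u') * L.x r t
          = L.x r (-t) * L.x s u * (L.x r t * L.x r (-t)) * L.x s u' * L.x r t := by
            rw [hxx, mul_one, ← L.x_add s hs]; simp [mul_assoc]
        _ = (L.err r s t u * P t u) * (L.err r s t u' * P t u') := by
            rw [← he, ← he]; simp [mul_assoc]
        _ = _ := by
            rw [mul_assoc (L.err r s t u) (P t u), ← mul_assoc (P t u),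
              ← (hc t u' (P t u)).eq]
            simp [mul_assoc]
    have e3 : L.π (P t (u + u')) = L.π (P t u * P t u') := by
      have := congrArg L.π e2
      simpa only [map_mul, hπerr, one_mul] using this
    rw [← hinj _ (hPmem _ _) _ (mul_mem (hPmem _ _) (hPmem _ _)) e3] at e2
    exact mul_right_cancel e2

end RootLift

end CfsgLib.Chev
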