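import Cfsg.Agent.Lib.Chev.StExt
import Cfsg.Agent.Lib.Chev.StPre

/-!
Lifts of the root subgroups to a central extension that are respected by the monomial elements.
-/

set_option autoImplicit false
set_option maxRecDepth 100000

namespace CfsgLib.Chev

open Cfsg.Lie Matrix
open scoped commutatorElement

namespace Ext

variable {D : ChevalleyDatum} {F : Type*} [Field F] {E : Type*} [Group E]

/-- Additive lifts respected by the torus and the `n_p`. -/
structure Canon (Y : Ext D F E) (T : Tab) where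
  x : ℕ → F → E
  θ_x : ∀ r, r < T.n → ∀ t, Y.θ (x r t) = CfsgLib.Chev.X D r t
  x_add : ∀ r, r < T.n → ∀ t u, x r t * x r u = x r (t + u)
  nu : ∀ i, i < T.l → ∀ r, r < T.n → ∀ t,
    Y.lft (nS D F i) * x r t * (Y.lft (nS D F i))⁻¹ = x (T.refl i r) ((T.eta i r : F) * t)
  tor : ∀ (w : Fin T.l → Fˣ) r, r < T.n → ∀ t,
    Y.lft (Cert.torusHom (D := D) (T := T) (F := F) w) * x r t *
      (Y.lft (Cert.torusHom (D := D) (T := T) (F := F) w))⁻¹ = x r (chi T w r * t)

variable {Y : Ext D F E} {T : Tab}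

/-- The underlying lifts. -/
def Canon.lift (K : Y.Canon T) : RootLift D T F E where
  x := K.x
  π := Y.θ
  π_x := K.θ_x
  x_add := K.x_add

variable (Y) {C : Tab.Cover} (h : Cert D T C)
include h

/-- Lifts of two roots with trivial bracket commute. -/
lemma commute_of_Z {r s : ℕ} (hz : Y.Z r s) {a b : E} {t u : F}
    (ea : Y.θ a = CfsgLib.Chev.X D r t) (eb : Y.θ b = CfsgLib.Chev.X D s u) : Commute a b :=
  Y.commute_of_br (by rw [ea, eb]; exact hz t u)

/-- Two additive lifts scaled by the same element agree. -/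
lemma eq_of_scaled {r : ℕ} (hr : r < T.n) (y y' : F → E)
    (hy : ∀ t, Y.θ (y t) = X D r t) (hy' : ∀ t, Y.θ (y' t) = X D r t)
    (hya : ∀ t u, y t * y u = y (t + u)) (hy'a : ∀ t u, y' t * y' u = y' (t + u))
    {g : E} {c : F} (hc : c ≠ 1) (e : ∀ t, g * y t * g⁻¹ = y (c * t))
    (e' : ∀ t, g * y' t * g⁻¹ = y' (c * t)) (t : F) : y t = y' t := by
  set z : F → F → E := fun t _ => y t * (y' t)⁻¹ with hz
  have hθz : ∀ t u, Y.θ (z t u) = 1 := fun t u => by
    rw [hz, map_mul, map_inv, hy, hy', mul_inv_cancel]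
  have hcen : ∀ t u a, Commute (z t u) a := fun t u a => Y.commute_of_θ_eq_one (hθz t u) a
  have hl : ∀ t t' u, z (t + t') u = z t u * z t' u := by
    intro t t' u
    show y (t + t') * (y' (t + t'))⁻¹ = y t * (y' t)⁻¹ * (y t' * (y' t')⁻¹)
    rw [← hya, ← hy'a, _root_.mul_inv_rev]
    calc y t * y t' * ((y' t')⁻¹ * (y' t)⁻¹) = y t * (z t' u * (y' t)⁻¹) := by
          simp [hz, mul_assoc]
      _ = y t * ((y' t)⁻¹ * z t' u) := by rw [(hcen t' u _).eq]
      _ = _ := by simp [hz, mul_assoc]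
  have hinv : ∀ t u, z (c * t) u = z t u := fun t u => by
    show y (c * t) * (y' (c * t))⁻¹ = _
    rw [← e, ← e', show g * y t * g⁻¹ * (g * y' t * g⁻¹)⁻¹ = g * z t u * g⁻¹ by
      simp [hz, mul_assoc], ← (hcen t u g).eq, mul_inv_cancel_right]
  exact mul_inv_eq_one.1 (kill_left hl hc hinv t 0)

/-- Conjugation of the lifts by the torus. -/
lemma br_torus_X (w : Fin T.l → Fˣ) {r : ℕ} (hr : r < T.n) (t : F) :
    Y.θ (Y.br (Cert.torusHom (D := D) (T := T) (F := F) w) (X D r t)) =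
      X D r ((chi T w r - 1) * t) := by
  rw [Y.θ_br (torusHom_mem h w) (h.X_mem_group hr t), commutatorElement_def,
    torusHom_conj h w hr, h.X_inv hr, h.X_add hr]
  congr 1
  ring

/-- The lifts as commutators with the torus. -/
theorem exists_canon_of_torus (hw : ∀ r < T.n, ∃ w : Fin T.l → Fˣ, chi T w r ≠ 1)
    (hz : ∀ r < T.n, Y.Z r r) : Nonempty (Y.Canon T) := by
  classical
  let τ : (Fin T.l → Fˣ) → GL D.Idx F := fun w => Cert.torusHom (D := D) (T := T) (F := F) w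
  choose W hW using hw
  let x : ℕ → F → E := fun r t =>
    if hr : r < T.n then Y.br (τ (W r hr)) (X D r ((chi T (W r hr) r - 1)⁻¹ * t)) else 1
  have hx : ∀ r (hr : r < T.n) t,
      x r t = Y.br (τ (W r hr)) (X D r ((chi T (W r hr) r - 1)⁻¹ * t)) := fun r hr t => dif_pos hr
  have θx : ∀ r, r < T.n → ∀ t, Y.θ (x r t) = X D r t := fun r hr t => by
    rw [hx r hr, Y.br_torus_X h _ hr, mul_inv_cancel_left₀ (sub_ne_zero.2 (hW r hr))]
  have xadd : ∀ r, r < T.n → ∀ t u, x r t * x r u = x r (t + u) := by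
    intro r hr t u
    rw [hx r hr, hx r hr, hx r hr, mul_add, ← h.X_add hr]
    set k := (chi T (W r hr) r - 1)⁻¹
    have hm := h.X_mem_group (F := F) hr
    have hcm : Commute (Y.lft (X D r (k * t))) (Y.br (τ (W r hr)) (X D r (k * u))) :=
      Y.commute_of_Z h (hz r hr) (Y.θ_lft (hm _)) (Y.br_torus_X h _ hr _)
    refine Eq.trans ?_ (Y.br_eq (a := Y.lft (τ (W r hr)))
      (b := Y.lft (X D r (k * t)) * Y.lft (X D r (k * u)))
      (Y.θ_lft (torusHom_mem h _)) (by rw [map_mul, Y.θ_lft (hm _), Y.θ_lft (hm _)])).symm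
    have e : ⁅Y.lft (τ (W r hr)), Y.lft (X D r (k * t)) * Y.lft (X D r (k * u))⁆ =
        Y.br (τ (W r hr)) (X D r (k * t)) * (Y.lft (X D r (k * t)) *
          Y.br (τ (W r hr)) (X D r (k * u)) * (Y.lft (X D r (k * t)))⁻¹) := by
      simp only [br, commutatorElement_def]; group
    rw [e, hcm.eq, mul_inv_cancel_right]
  have xtor : ∀ (w : Fin T.l → Fˣ) r, r < T.n → ∀ t,
      Y.lft (τ w) * x r t * (Y.lft (τ w))⁻¹ = x r (chi T w r * t) := by
    intro w r hr t
    rw [hx r hr, hx r hr, Y.conj_br _ (torusHom_mem h _) (h.X_mem_group hr _),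
      Y.θ_lft (torusHom_mem h w)]
    congr 1
    · show τ w * τ (W r hr) * (τ w)⁻¹ = τ (W r hr)
      simp only [τ]
      rw [← map_mul, mul_comm w, map_mul, mul_inv_cancel_right]
    · rw [torusHom_conj h w hr]
      congr 1
      ring
  refine ⟨⟨x, θx, xadd, ?_, xtor⟩⟩
  intro i hi r hr t
  have hr' := h.refl_lt hi hr
  have hn : nS D F i ∈ D.group F := h.monomial_le_group (h.nS_mem_monomial hi)
  have hη : (T.eta i r : F) * (T.eta i r : F) = 1 := by
    exact_mod_cast congrArg (Int.cast : ℤ → F) (T.eta_sq i r)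
  set ν := Y.lft (nS D F i) with hν
  have key : ∀ u, ν * x r ((T.eta i r : F) * u) * ν⁻¹ = x (T.refl i r) u := by
    intro u
    obtain ⟨w', hw'⟩ : ∃ w', τ w' = nS D F i * τ (W r hr) * (nS D F i)⁻¹ := by
      have hd : nS D F i * τ (W r hr) * (nS D F i)⁻¹ ∈ D.diagonalSubgroup F := by
        have hmem : τ (W r hr) ∈ D.diagonalSubgroup F := by
          rw [← h.range_torusHom]; exact ⟨_, rfl⟩
        obtain ⟨c, hc, e⟩ := h.mem_diagonalSubgroup_iff.1 hmem
        have := (Subgroup.mem_normalizer_iff.1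
          (h.monomial_le_normalizer_diagonal (h.nS_mem_monomial hi)) _).1 hmem
        exact this
      rw [← h.range_torusHom] at hd
      exact hd
    have hg : Y.θ (ν * Y.lft (τ (W r hr)) * ν⁻¹) = τ w' := by
      rw [map_mul, map_mul, map_inv, hν, Y.θ_lft hn, Y.θ_lft (torusHom_mem h _), hw']
    have eθ : ∀ v, Y.θ (ν * x r ((T.eta i r : F) * v) * ν⁻¹) = X D (T.refl i r) v := fun v => by
      rw [map_mul, map_mul, map_inv, hν, Y.θ_lft hn, θx r hr, h.nS_conj_X hi hr, ← mul_assoc, hη,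
        one_mul]
    have e1 : ∀ v, (ν * Y.lft (τ (W r hr)) * ν⁻¹) * (ν * x r ((T.eta i r : F) * v) * ν⁻¹) *
        (ν * Y.lft (τ (W r hr)) * ν⁻¹)⁻¹ =
        ν * x r ((T.eta i r : F) * (chi T (W r hr) r * v)) * ν⁻¹ := fun v => by
      rw [show (T.eta i r : F) * (chi T (W r hr) r * v) =
        chi T (W r hr) r * ((T.eta i r : F) * v) by ring, ← xtor _ r hr]
      group
    have e2 : ∀ v, (ν * Y.lft (τ (W r hr)) * ν⁻¹) * x (T.refl i r) v *
        (ν * Y.lft (τ (W r hr)) * ν⁻¹)⁻¹ = x (T.refl i r) (chi T w' (T.refl i r) * v) := fun v => by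
      rw [← xtor w' _ hr']
      exact Y.conj_congr (by rw [hg, Y.θ_lft (torusHom_mem h _)]) _
    have hchi : chi T w' (T.refl i r) = chi T (W r hr) r := by
      have a1 := congrArg Y.θ (e1 1)
      have a2 := congrArg Y.θ (e2 1)
      rw [map_mul, map_mul, map_inv, eθ, eθ, mul_one] at a1
      rw [map_mul, map_mul, map_inv, θx _ hr', θx _ hr', mul_one, a1] at a2
      exact (h.X_param_inj hr' a2).symm
    refine eq_of_scaled Y h hr' (fun v => ν * x r ((T.eta i r : F) * v) * ν⁻¹)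
      (fun v => x (T.refl i r) v) eθ (θx _ hr') (fun a b => ?_) (xadd _ hr') (hW r hr)
      (g := ν * Y.lft (τ (W r hr)) * ν⁻¹) (fun v => e1 v) (fun v => by rw [e2, hchi]) u
    show ν * x r _ * ν⁻¹ * (ν * x r _ * ν⁻¹) = _
    rw [mul_add, ← xadd r hr]; group
  rw [← key, ← mul_assoc, hη, one_mul]

/-- The lifts from a family of complements permuted by the monomial elements. -/
theorem exists_canon_of_subgroups (K : ℕ → Subgroup E)
    (hsurj : ∀ r < T.n, ∀ t, ∃ a ∈ K r, Y.θ a = X D r t)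
    (hle : ∀ r < T.n, ∀ a ∈ K r, ∃ t, Y.θ a = X D r t)
    (hinj : ∀ r < T.n, ∀ a ∈ K r, Y.θ a = 1 → a = 1)
    (hnu : ∀ i < T.l, ∀ r < T.n, ∀ a ∈ K r,
      Y.lft (nS D F i) * a * (Y.lft (nS D F i))⁻¹ ∈ K (T.refl i r))
    (htor : ∀ (w : Fin T.l → Fˣ), ∀ r < T.n, ∀ a ∈ K r,
      Y.lft (Cert.torusHom (D := D) (T := T) (F := F) w) * a *
        (Y.lft (Cert.torusHom (D := D) (T := T) (F := F) w))⁻¹ ∈ K r) :
    ∃ R : Y.Canon T, ∀ r < T.n, ∀ t, R.x r t ∈ K r := by
  classical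
  have huniq : ∀ r, r < T.n → ∀ a ∈ K r, ∀ b ∈ K r, Y.θ a = Y.θ b → a = b := fun r hr a ha b hb e =>
    mul_inv_eq_one.1 (hinj r hr _ (mul_mem ha (inv_mem hb))
      (by rw [map_mul, map_inv, e, mul_inv_cancel]))
  choose A hA hA' using hsurj
  let x : ℕ → F → E := fun r t => if hr : r < T.n then A r hr t else 1
  have hx : ∀ r (hr : r < T.n) t, x r t = A r hr t := fun r hr t => dif_pos hr
  refine ⟨⟨x, fun r hr t => by rw [hx r hr]; exact hA' r hr t, fun r hr t u => ?_,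
    fun i hi r hr t => ?_, fun w r hr t => ?_⟩, fun r hr t => ?_⟩
  · rw [hx r hr, hx r hr, hx r hr]
    exact huniq r hr _ (mul_mem (hA r hr t) (hA r hr u)) _ (hA r hr _)
      (by rw [map_mul, hA', hA', hA', h.X_add hr])
  · rw [hx r hr, hx _ (h.refl_lt hi hr)]
    refine huniq _ (h.refl_lt hi hr) _ (hnu i hi r hr _ (hA r hr t)) _ (hA _ _ _) ?_
    rw [map_mul, map_mul, map_inv, Y.θ_lft (h.monomial_le_group (h.nS_mem_monomial hi)), hA', hA',
      h.nS_conj_X hi hr]
  · rw [hx r hr, hx r hr]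
    refine huniq _ hr _ (htor w r hr _ (hA r hr t)) _ (hA _ _ _) ?_
    rw [map_mul, map_mul, map_inv, Y.θ_lft (torusHom_mem h w), hA', hA', torusHom_conj h w hr]
  · show x r t ∈ K r
    rw [hx r hr]; exact hA r hr t

end Ext

end CfsgLib.Chev
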