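import Cfsg.Agent.Lib.Chev.StCanon

/-!
The commutator relations for the canonical lifts, from the representative pairs.
-/

set_option autoImplicit false
set_option maxRecDepth 100000

namespace CfsgLib.Chev

open Cfsg.Lie Matrix
open scoped commutatorElement

/-- The roots of the commutator terms are the combinations given by their exponents. -/
def Tab.chkExps (T : Tab) (r s : ℕ) : Bool :=
  (T.commTerms r s).all fun c => (List.range T.l).all fun j =>
    decide (T.car j c.1 = c.2.2.1 * T.car j r + c.2.2.2 * T.car j s)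

lemma chi_comb {T : Tab} {F : Type*} [Field F] (w : Fin T.l → Fˣ) {q r s i j : ℕ}
    (e : ∀ m < T.l, T.car m q = i * T.car m r + j * T.car m s) :
    chi T w q = chi T w r ^ i * chi T w s ^ j := by
  rw [chi, chi, chi, charOf, charOf, charOf, ← Finset.prod_pow, ← Finset.prod_pow,
    ← Finset.prod_mul_distrib]
  refine Finset.prod_congr rfl fun m hm => ?_
  rw [e m (Finset.mem_range.1 hm), zpow_add₀ (Cert.extC_ne_zero w m), mul_comm (i : ℤ),
    mul_comm (j : ℤ), _root_.zpow_mul, _root_.zpow_mul, zpow_natCast, zpow_natCast]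

namespace Ext

variable {D : ChevalleyDatum} {F : Type*} [Field F] {E : Type*} [Group E]

/-- Every biadditive central function fixed by the torus vanishes at the pair. -/
def Kill (Y : Ext D F E) (T : Tab) (r s : ℕ) : Prop :=
  ∀ f : F → F → E, (∀ t u, Y.θ (f t u) = 1) → (∀ t t' u, f (t + t') u = f t u * f t' u) →
    (∀ t u u', f t (u + u') = f t u * f t u') →
    (∀ (w : Fin T.l → Fˣ) t u, f (chi T w r * t) (chi T w s * u) = f t u) → ∀ t u, f t u = 1

variable (Y : Ext D F E) {T : Tab}

lemma kill_of_torus {r s : ℕ} (w : Fin T.l → Fˣ)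
    (hw : chi T w r ≠ 1 ∧ chi T w s = 1 ∨ chi T w r = 1 ∧ chi T w s ≠ 1) : Y.Kill T r s := by
  intro f _ hl hr hinv t u
  rcases hw with ⟨a, b⟩ | ⟨a, b⟩
  · exact kill_left hl a (fun t u => by have := hinv w t u; rwa [b, one_mul] at this) t u
  · exact kill_right hr b (fun t u => by have := hinv w t u; rwa [a, one_mul] at this) t u

lemma kill_of_char {p : ℕ} [CharP F p] (hp : ∀ z, Y.θ z = 1 → z ^ p = 1 → z = 1) (r s : ℕ) :
    Y.Kill T r s := by
  intro f hθ hl _ _ t u
  exact kill_char hl (p := p) (fun t u => hp _ (hθ t u)) t u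

variable {Y}

/-- The relation at a pair, given those with fewer terms. -/
def Canon.Good (K : Y.Canon T) (r s : ℕ) : Prop :=
  (∀ a < T.n, ∀ b < T.n, b ≠ a → b ≠ T.neg a →
    (T.commTerms a b).length < (T.commTerms r s).length → K.lift.CommAt a b) → K.lift.CommAt r s

variable (K : Y.Canon T) {C : Tab.Cover} (h : Cert D T C)
include h

/-- A checked pair with vanishing error. -/
theorem Canon.good_of_kill {r s : ℕ} (hr : r < T.n) (hs : s < T.n) (hne : s ≠ r) (hneg : s ≠ T.neg r)
    {w : List ℕ} (hchk : T.chkAround w r s = true) (hexp : T.chkExps r s = true)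
    (hk : Y.Kill T r s) : K.Good r s := by
  intro hsmall
  simp only [Tab.chkExps, List.all_eq_true, List.mem_range, decide_eq_true_eq] at hexp
  obtain ⟨hl, hrr⟩ := K.lift.err_bimult h Y.central hr hs hne hneg hchk hsmall
  have hθ : ∀ t u, Y.θ (K.lift.err r s t u) = 1 := K.lift.π_err h hr hs hne hneg
  have hinv : ∀ (v : Fin T.l → Fˣ) t u,
      K.lift.err r s (chi T v r * t) (chi T v s * u) = K.lift.err r s t u := by
    intro v t u
    set τ := Y.lft (Cert.torusHom (D := D) (T := T) (F := F) v)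
    have ex : ∀ q, q < T.n → ∀ a, MulAut.conj τ (K.lift.x q a) = K.lift.x q (chi T v q * a) :=
      fun q hq a => by rw [MulAut.conj_apply]; exact K.tor v q hq a
    have eterms : MulAut.conj τ (K.lift.terms r s t u) =
        K.lift.terms r s (chi T v r * t) (chi T v s * u) := by
      rw [RootLift.terms, RootLift.terms, map_list_prod, List.map_map]
      refine congrArg List.prod (List.map_congr_left fun c hc => ?_)
      rw [Function.comp_apply, ex _ (h.commTerms_lt hr hs hc),
        chi_comb v (fun m hm => hexp c hc m hm)]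
      congr 1
      rw [neg_mul_eq_mul_neg, mul_pow, mul_pow]
      ring
    have key : MulAut.conj τ (K.lift.err r s t u) =
        K.lift.err r s (chi T v r * t) (chi T v s * u) := by
      rw [RootLift.err, RootLift.err, map_mul, map_mul, map_mul, map_inv, map_mul, ex r hr, ex r hr,
        ex s hs, eterms, mul_neg]
    rw [← key, MulAut.conj_apply, ← ((Y.commute_of_θ_eq_one (hθ t u)) τ).eq, mul_inv_cancel_right]
  intro t u
  have := hk _ hθ hl hrr hinv t u
  rwa [RootLift.err, mul_inv_eq_one] at this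

lemma Canon.commAt_of_empty {r s : ℕ} (hr : r < T.n) (hs : s < T.n) (hne : s ≠ r) (hneg : s ≠ T.neg r)
    (hT : T.commTerms r s = []) (hz : Y.Z r s) : K.lift.CommAt r s := by
  intro t u
  have hc : Commute (K.x r t) (K.x s u) :=
    Y.commute_of_Z h hz (K.θ_x r hr t) (K.θ_x s hs u)
  rw [RootLift.terms, hT, List.map_nil, List.prod_nil, mul_one]
  show K.x r (-t) * K.x s u * K.x r t = K.x s u
  rw [mul_assoc, ← hc.eq, ← mul_assoc, K.x_add r hr, neg_add_cancel]
  show K.lift.x r 0 * _ = _
  rw [K.lift.x_zero hr, one_mul]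

omit h in
lemma commute_of_terms_nil (h : Cert D T C) {r s : ℕ} (hr : r < T.n) (hs : s < T.n) (hne : s ≠ r)
    (hneg : s ≠ T.neg r) (hT : T.commTerms r s = []) (t u : F) :
    Commute (X D r t) (X D s u) := by
  have e := h.X_conj (F := F) hr hs hne hneg t u
  rw [hT, List.map_nil, List.prod_nil, mul_one, ← h.X_inv hr, mul_assoc, inv_mul_eq_iff_eq_mul] at e
  exact e.symm

lemma Canon.commAt_refl {i r s : ℕ} (hi : i < T.l) (hr : r < T.n) (hs : s < T.n)
    (he : T.chkEdge i r = true) (hc : K.lift.CommAt r s) :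
    K.lift.CommAt (T.refl i r) (T.refl i s) := by
  intro t u
  set ν := Y.lft (nS D F i)
  have hη : ∀ {a : ℕ}, (T.eta i a : F) * (T.eta i a : F) = 1 := fun {a} => by
    exact_mod_cast congrArg (Int.cast : ℤ → F) (T.eta_sq i a)
  have ex : ∀ q, q < T.n → ∀ a, MulAut.conj ν (K.lift.x q a) =
      K.lift.x (T.refl i q) ((T.eta i q : F) * a) :=
    fun q hq a => by rw [MulAut.conj_apply]; exact K.nu i hi q hq a
  have key := congrArg (MulAut.conj ν) (hc ((T.eta i r : F) * t) ((T.eta i s : F) * u))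
  rw [map_mul, map_mul, map_mul, ex r hr, ex r hr, ex s hs, mul_neg, ← mul_assoc _ _ t, hη,
    one_mul, ← mul_assoc _ _ u, hη, one_mul] at key
  rw [key, RootLift.terms, RootLift.terms, map_list_prod, h.edge_spec hi hr he hs, List.map_map,
    List.map_map]
  congr 2
  refine List.map_congr_left fun c hc => ?_
  simp only [Function.comp_apply]
  rw [ex _ (h.commTerms_lt hr hs hc)]
  congr 1
  push_cast
  rw [neg_mul_eq_mul_neg, mul_pow, mul_pow]
  ring

/-- All the relations. -/
theorem Canon.commAt_all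
    (hZ : ∀ r < T.n, ∀ s < T.n, s ≠ r → s ≠ T.neg r →
      (∀ t u : F, Commute (X D r t) (X D s u)) → Y.Z r s)
    (hgood : ∀ b ∈ C.base, ∀ a ∈ b.2.1, T.commTerms b.1 a ≠ [] → K.Good b.1 a) :
    ∀ r < T.n, ∀ s < T.n, s ≠ r → s ≠ T.neg r → K.lift.CommAt r s := by
  suffices H : ∀ m : ℕ, ∀ r < T.n, ∀ s < T.n, s ≠ r → s ≠ T.neg r →
      (T.commTerms r s).length = m → K.lift.CommAt r s from
    fun r hr s hs hne hneg => H _ r hr s hs hne hneg rfl
  intro m
  induction m using Nat.strong_induction_on with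
  | _ m ih =>
    intro r hr s hs hne hneg hm
    refine h.pair_induction
      (P := fun r s => (T.commTerms r s).length = m → K.lift.CommAt r s)
      (fun i r s hi hr hs _ _ he hP hm' => ?_) (fun b hb a ha hne hneg hm' => ?_) hr hs hne hneg hm
    · rw [h.edge_spec hi hr he hs, List.length_map] at hm'
      exact K.commAt_refl h hi hr hs he (hP hm')
    · have hbn := h.base_lt hb
      have han : a < T.n := by
        have h0 := h.coverOk
        simp only [Tab.chkCover, Bool.and_eq_true, List.all_eq_true, decide_eq_true_eq] at h0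
        exact ((h0.2.1 b hb).2.2.2 a ha).1
      by_cases hT : T.commTerms b.1 a = []
      · exact K.commAt_of_empty h hbn han hne hneg hT
          (hZ _ hbn _ han hne hneg (commute_of_terms_nil h hbn han hne hneg hT))
      · exact hgood b hb a ha hT fun p hp q hq n1 n2 hlt =>
          ih _ (hm' ▸ hlt) p hp q hq n1 n2 rfl

omit h in
/-- The lifts generate. -/
lemma generate_top (K : Y.Canon T) (h : Cert D T C) :
    Subgroup.closure {g | ∃ r, r < T.n ∧ ∃ t, g = K.x r t} = ⊤ := by
  set H := Subgroup.closure {g | ∃ r, r < T.n ∧ ∃ t, g = K.x r t}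
  have hmap : D.group F ≤ H.map Y.θ := by
    rw [h.group_eq]
    refine (Subgroup.closure_le _).2 ?_
    rintro _ ⟨r, hr, t, rfl⟩
    exact ⟨K.x r t, Subgroup.subset_closure ⟨r, hr, t, rfl⟩, K.θ_x r hr t⟩
  have hfac : ∀ e : E, ∃ a ∈ H, ∀ y, e * y * e⁻¹ = a * y * a⁻¹ := fun e => by
    obtain ⟨a, ha, ea⟩ := hmap (Y.θ_mem e)
    exact ⟨a, ha, fun y => Y.conj_congr ea.symm y⟩
  rw [eq_top_iff, ← Y.perfect, commutator_def, Subgroup.commutator_le]
  intro p _ q _
  obtain ⟨a, ha, ea⟩ := hmap (Y.θ_mem p)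
  obtain ⟨b, hb, eb⟩ := hmap (Y.θ_mem q)
  rw [Y.comm_congr ea.symm eb.symm, commutatorElement_def]
  exact mul_mem (mul_mem (mul_mem ha hb) (inv_mem ha)) (inv_mem hb)

/-- The extension satisfies the relations (A) and (B). -/
theorem Canon.exists_rel
    (hZ : ∀ r < T.n, ∀ s < T.n, s ≠ r → s ≠ T.neg r →
      (∀ t u : F, Commute (X D r t) (X D s u)) → Y.Z r s)
    (hgood : ∀ b ∈ C.base, ∀ a ∈ b.2.1, T.commTerms b.1 a ≠ [] → K.Good b.1 a) :
    ∃ L : Rel D T F E, L.π = Y.θ :=
  ⟨{ x := K.x, π := Y.θ, π_x := K.θ_x, x_add := K.x_add,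
     comm := fun r hr s hs hne hneg => K.commAt_all h hZ hgood r hr s hs hne hneg,
     generate := generate_top K h }, rfl⟩

end Ext

end CfsgLib.Chev
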