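import Cfsg.Agent.Lib.Chev.StRoutes

/-!
Commutators of root elements commuting with a root subgroup, and extensions whose kernel has no
torsion of the characteristic.
-/

set_option autoImplicit false
set_option maxRecDepth 100000

namespace CfsgLib.Chev

open Cfsg.Lie Matrix
open scoped commutatorElement

namespace Ext

variable {D : ChevalleyDatum} {F : Type*} [Field F] {E : Type*} [Group E] (Y : Ext D F E)

/-- A product in the second variable when the value commutes with the first factor. -/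
lemma br_mul_of_commute {g k k' : GL D.Idx F} (hg : g ∈ D.group F) (hk : k ∈ D.group F)
    (hk' : k' ∈ D.group F) (hc : Commute (Y.lft k) (Y.br g k')) :
    Y.br g (k * k') = Y.br g k * Y.br g k' := by
  rw [Y.br_eq (a := Y.lft g) (b := Y.lft k * Y.lft k') (Y.θ_lft hg)
    (by rw [map_mul, Y.θ_lft hk, Y.θ_lft hk'])]
  have e : ⁅Y.lft g, Y.lft k * Y.lft k'⁆ =
      Y.br g k * (Y.lft k * Y.br g k' * (Y.lft k)⁻¹) := by
    simp only [br, commutatorElement_def]; group
  rw [e, hc.eq, mul_inv_cancel_right]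

variable {T : Tab} {C : Tab.Cover} (h : Cert D T C)
include h

lemma gen_le_group {S : Set ℕ} (hS : ∀ q ∈ S, q < T.n) : gen D F S ≤ D.group F :=
  (Subgroup.closure_le _).2 fun g ⟨q, hq, v, e⟩ => e ▸ h.X_mem_group (hS q hq) v

/-- A root subgroup commutes in the extension with lifts of the commutators of what it centralises
in the Chevalley group. -/
lemma Z_of_derived {r s : ℕ} (hr : r < T.n) {S S' : Set ℕ} (hS : ∀ q ∈ S, q < T.n)
    (hS' : ∀ q ∈ S', q < T.n) (hc : ∀ q ∈ S, ∀ t u : F, Commute (X D r t) (X D q u))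
    (hz : ∀ q ∈ S', Y.Z r q)
    (hmem : ∀ u, X D s u ∈ ⁅gen D F S, gen D F S⁆ ⊔ gen D F S') : Y.Z r s := by
  intro t u
  have hRg : Y.θ (Y.lft (X D r t)) = X D r t := Y.θ_lft (h.X_mem_group hr t)
  have key : ⁅gen D F S, gen D F S⁆ ⊔ gen D F S' ≤
      (Subgroup.centralizer {Y.lft (X D r t)}).map Y.θ := by
    refine sup_le (Subgroup.commutator_le.2 fun g hg k hk => ?_) ((Subgroup.closure_le _).2 ?_)
    · have hg' := gen_le_group h hS hg
      have hk' := gen_le_group h hS hk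
      have hcomm : ∀ x ∈ gen D F S, Commute (X D r t) x := fun x hx => by
        have hle : gen D F S ≤ Subgroup.centralizer {X D r t} :=
          (Subgroup.closure_le _).2 fun y ⟨q, hq, v, e⟩ =>
            e ▸ Subgroup.mem_centralizer_singleton_iff.2 (hc q hq t v).symm.eq
        exact (Subgroup.mem_centralizer_singleton_iff.1 (hle hx)).symm
      refine ⟨⁅Y.lft g, Y.lft k⁆, Subgroup.mem_centralizer_singleton_iff.2 ?_,
        by rw [map_commutatorElement, Y.θ_lft hg', Y.θ_lft hk']⟩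
      have e : Y.lft (X D r t) * ⁅Y.lft g, Y.lft k⁆ * (Y.lft (X D r t))⁻¹ = ⁅Y.lft g, Y.lft k⁆ := by
        refine (map_commutatorElement (MulAut.conj (Y.lft (X D r t))) _ _).trans (Y.comm_congr ?_ ?_)
        · rw [MulAut.conj_apply, map_mul, map_mul, map_inv, hRg, Y.θ_lft hg', (hcomm g hg).eq,
            mul_inv_cancel_right]
        · rw [MulAut.conj_apply, map_mul, map_mul, map_inv, hRg, Y.θ_lft hk', (hcomm k hk).eq,
            mul_inv_cancel_right]
      exact (mul_inv_eq_iff_eq_mul.1 e).symm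
    · rintro _ ⟨q, hq, v, rfl⟩
      refine ⟨Y.lft (X D q v), Subgroup.mem_centralizer_singleton_iff.2 ?_,
        Y.θ_lft (h.X_mem_group (hS' q hq) v)⟩
      exact (Y.commute_of_Z h (hz q hq) hRg (Y.θ_lft (h.X_mem_group (hS' q hq) v))).symm.eq
  obtain ⟨b, hb, eb⟩ := key (hmem u)
  rw [Y.br_eq hRg eb, commutatorElement_eq_one_iff_commute]
  exact (Subgroup.mem_centralizer_singleton_iff.1 hb).symm

omit h in
/-- Commuting when all the structure constants vanish in the field. -/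
lemma commute_of_terms_zero (h : Cert D T C) {r s : ℕ} (hr : r < T.n) (hs : s < T.n) (hne : s ≠ r)
    (hneg : s ≠ T.neg r) (hT : ∀ c ∈ T.commTerms r s, (c.2.1 : F) = 0) (t u : F) :
    Commute (X D r t) (X D s u) := by
  have e := h.X_conj (F := F) hr hs hne hneg t u
  rw [show ((T.commTerms r s).map fun c =>
      X D c.1 ((c.2.1 : F) * (-t) ^ c.2.2.1 * u ^ c.2.2.2)).prod = 1 from ?_, mul_one,
    ← h.X_inv hr, mul_assoc, inv_mul_eq_iff_eq_mul] at e
  · exact e.symm
  · refine List.prod_eq_one fun x hx => ?_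
    obtain ⟨c, hc, rfl⟩ := List.mem_map.1 hx
    rw [hT c hc, zero_mul, zero_mul, h.X_zero (h.commTerms_lt hr hs hc)]

/-- The first term of a pair lies in commutators and the other terms. -/
lemma X_mem_derived {a b k : ℕ} {c : ℤ} (ha : a < T.n) (hb : b < T.n) (hne : b ≠ a)
    (hneg : b ≠ T.neg a) {l : List (ℕ × ℤ × ℕ × ℕ)}
    (hk : T.commTerms a b = (k, c, 1, 1) :: l) (hc : (c : F) ≠ 0) (z : F) :
    X D k z ∈ ⁅gen D F {q | q = a ∨ q = b}, gen D F {q | q = a ∨ q = b}⁆ ⊔
      gen D F {q | q ∈ l.map Prod.fst} := by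
  set u := -(z / (c : F)) with hu
  have e := h.X_conj (F := F) ha hb hne hneg 1 u
  rw [hk, List.map_cons, List.prod_cons] at e
  simp only [pow_one] at e
  rw [show (c : F) * (-1) * u = z by rw [hu]; field_simp] at e
  set P := (l.map fun d => X D d.1 ((d.2.1 : F) * (-1) ^ d.2.2.1 * u ^ d.2.2.2)).prod
  have key : X D k z = ⁅(X D b u)⁻¹, X D a (-1)⁆ * P⁻¹ := by
    rw [commutatorElement_def, inv_inv, h.X_inv ha, _root_.neg_neg,
      show (X D b u)⁻¹ * X D a (-1) * X D b u * X D a 1 =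
        (X D b u)⁻¹ * (X D a (-1) * X D b u * X D a 1) by group, e, inv_mul_cancel_left,
      mul_inv_cancel_right]
  rw [key]
  refine mul_mem (Subgroup.mem_sup_left (Subgroup.commutator_mem_commutator
    (inv_mem (X_mem_gen D (show b ∈ {q | q = a ∨ q = b} from Or.inr rfl) u))
    (X_mem_gen D (show a ∈ {q | q = a ∨ q = b} from Or.inl rfl) _))) (inv_mem ?_)
  refine Subgroup.mem_sup_right (list_prod_mem fun x hx => ?_)
  obtain ⟨d, hd, rfl⟩ := List.mem_map.1 hx
  exact X_mem_gen D (show d.1 ∈ {q | q ∈ l.map Prod.fst} from List.mem_map.2 ⟨d, hd, rfl⟩) _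

/-- Commutation from a decomposition: `s` is the first term of `(a, b)`; `r` centralises `a`, `b`
and commutes with the other terms. -/
theorem Z_of_split {r s a b : ℕ} {c : ℤ} {l : List (ℕ × ℤ × ℕ × ℕ)} (hr : r < T.n) (ha : a < T.n)
    (hb : b < T.n) (hne : b ≠ a) (hneg : b ≠ T.neg a)
    (hk : T.commTerms a b = (s, c, 1, 1) :: l) (hc : (c : F) ≠ 0)
    (hca : ∀ t u : F, Commute (X D r t) (X D a u)) (hcb : ∀ t u : F, Commute (X D r t) (X D b u))
    (hl : ∀ d ∈ l, Y.Z r d.1) : Y.Z r s :=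
  Y.Z_of_derived h hr (S := {q | q = a ∨ q = b}) (S' := {q | q ∈ l.map Prod.fst})
    (by rintro q (rfl | rfl) <;> assumption)
    (fun q hq => by
      obtain ⟨d, hd, rfl⟩ := List.mem_map.1 hq
      exact h.commTerms_lt ha hb (hk ▸ List.mem_cons_of_mem _ hd))
    (by rintro q (rfl | rfl) <;> assumption)
    (fun q hq => by obtain ⟨d, hd, rfl⟩ := List.mem_map.1 hq; exact hl d hd)
    (X_mem_derived h ha hb hne hneg hk hc)

/-! ### No torsion of the characteristic in the kernel -/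

/-- The torus brackets are of order dividing the characteristic. -/
lemma exists_exp_of_torus {p : ℕ} [CharP F p] {r : ℕ} (hr : r < T.n) (hz : Y.Z r r)
    (w : Fin T.l → Fˣ) (hw : chi T w r ≠ 1) (t : F) :
    ∃ a, Y.θ a = X D r t ∧ a ^ p = 1 := by
  set γ := Cert.torusHom (D := D) (T := T) (F := F) w
  have hsub : chi T w r - 1 ≠ 0 := sub_ne_zero.2 hw
  set f : F → F → E := fun t _ => Y.br γ (X D r t) with hf
  have hl : ∀ t t' u, f (t + t') u = f t u * f t' u := fun t t' u => by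
    show Y.br γ (X D r (t + t')) = _
    rw [← h.X_add hr]
    exact Y.br_mul_of_commute (torusHom_mem h w) (h.X_mem_group hr t) (h.X_mem_group hr t')
      (Y.commute_of_Z h hz (Y.θ_lft (h.X_mem_group hr t)) (Y.br_torus_X h w hr t'))
  refine ⟨f ((chi T w r - 1)⁻¹ * t) 0, ?_, ?_⟩
  · show Y.θ (Y.br γ _) = _
    rw [Y.br_torus_X h w hr, mul_inv_cancel_left₀ hsub]
  · have h0 := hl 0 0 0
    rw [add_zero, left_eq_mul] at h0
    rw [← kill_nsmul hl _ (0 : F) p, CharP.cast_eq_zero, zero_mul, h0]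

/-- Route without torsion of the characteristic. -/
theorem rel_of_char {p : ℕ} [CharP F p] (hp : ∀ z, Y.θ z = 1 → z ^ p = 1 → z = 1)
    {L : List PairCert} (hL : T.chkList C L = true)
    (hexp : (∀ r < T.n, Y.Z r r) → ∀ b ∈ C.base, ∀ t, ∃ a, Y.θ a = X D b.1 t ∧ a ^ p = 1) :
    ∃ R : Rel D T F E, R.π = Y.θ := by
  have hself : ∀ r < T.n, Y.Z r r := fun r hr =>
    Y.Z_of_char h (p := p) hp hr hr (Ext.commute_self (h' := h) hr)
  refine Y.rel_of_list h hL (fun e he => ?_) fun _ => ?_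
  · simp only [Tab.chkList, Bool.and_eq_true, List.all_eq_true, decide_eq_true_eq] at hL
    obtain ⟨⟨b1, b2, b3, b4⟩, hpair⟩ := hL.2 e he
    refine ⟨fun hc => Y.Z_of_char h (p := p) hp b1 b2 hc, fun hT K => ?_⟩
    simp only [Tab.chkPair, Bool.or_eq_true, Bool.and_eq_true, decide_eq_true_eq] at hpair
    obtain ⟨ha, hx⟩ := hpair.resolve_left hT
    exact K.good_of_kill h b1 b2 b3 b4 ha hx (Y.kill_of_char (p := p) hp _ _)
  · have hall : ∀ r < T.n, ∀ t, ∃ a, Y.θ a = X D r t ∧ a ^ p = 1 := fun r hr =>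
      h.base_induction (P := fun r => ∀ t, ∃ a, Y.θ a = X D r t ∧ a ^ p = 1) (hexp hself)
        (fun i hi r hr _ ih t => by
          obtain ⟨a, ea, hpa⟩ := ih ((T.eta i r : F) * t)
          refine ⟨Y.lft (nS D F i) * a * (Y.lft (nS D F i))⁻¹, ?_,
            by rw [conj_pow, hpa, mul_one, mul_inv_cancel]⟩
          have hη : (T.eta i r : F) * (T.eta i r : F) = 1 := by
            exact_mod_cast congrArg (Int.cast : ℤ → F) (T.eta_sq i r)
          rw [map_mul, map_mul, map_inv, Y.θ_lft (h.monomial_le_group (h.nS_mem_monomial hi)), ea,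
            h.nS_conj_X hi hr, ← mul_assoc, hη, one_mul]) hr
    let K : ℕ → Subgroup E := fun r => if hr : r < T.n then
      { carrier := {a | (∃ t, Y.θ a = X D r t) ∧ a ^ p = 1}
        one_mem' := ⟨⟨0, by rw [map_one, h.X_zero hr]⟩, one_pow p⟩
        mul_mem' := by
          rintro a b ⟨⟨t, ea⟩, ha⟩ ⟨⟨u, eb⟩, hb⟩
          refine ⟨⟨t + u, by rw [map_mul, ea, eb, h.X_add hr]⟩, ?_⟩
          rw [(Y.commute_of_Z h (hself r hr) ea eb).mul_pow, ha, hb, one_mul]
        inv_mem' := by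
          rintro a ⟨⟨t, ea⟩, ha⟩
          exact ⟨⟨-t, by rw [map_inv, ea, h.X_inv hr]⟩, by rw [inv_pow, ha, inv_one]⟩ }
      else ⊥
    have hK : ∀ r, r < T.n → ∀ a, a ∈ K r ↔ ((∃ t, Y.θ a = X D r t) ∧ a ^ p = 1) := fun r hr a => by
      simp only [K, dif_pos hr]; rfl
    refine (Y.exists_canon_of_subgroups h K (fun r hr t => ?_) (fun r hr a ha => ((hK r hr a).1 ha).1)
      (fun r hr a ha e => hp a e ((hK r hr a).1 ha).2) (fun i hi r hr a ha => ?_)
      (fun w r hr a ha => ?_)).nonempty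
    · obtain ⟨a, ea, hpa⟩ := hall r hr t
      exact ⟨a, (hK r hr a).2 ⟨⟨t, ea⟩, hpa⟩, ea⟩
    · obtain ⟨⟨t, ea⟩, hpa⟩ := (hK r hr a).1 ha
      refine (hK _ (h.refl_lt hi hr) _).2 ⟨⟨(T.eta i r : F) * t, ?_⟩,
        by rw [conj_pow, hpa, mul_one, mul_inv_cancel]⟩
      rw [map_mul, map_mul, map_inv, Y.θ_lft (h.monomial_le_group (h.nS_mem_monomial hi)), ea,
        h.nS_conj_X hi hr]
    · obtain ⟨⟨t, ea⟩, hpa⟩ := (hK r hr a).1 ha
      refine (hK _ hr _).2 ⟨⟨chi T w r * t, ?_⟩, by rw [conj_pow, hpa, mul_one, mul_inv_cancel]⟩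
      rw [map_mul, map_mul, map_inv, Y.θ_lft (torusHom_mem h w), ea, torusHom_conj h w hr]

end Ext

end CfsgLib.Chev
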