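import Cfsg.Agent.Lib.Chev.StLift
import Cfsg.Agent.Lib.Chev.Parabolic

/-!
The kernel of the map from a group with the relations (A) and (B) onto a Chevalley group is central
and lies in the subgroup generated by the `h_p(t)`.
-/

set_option autoImplicit false

namespace CfsgLib.Chev

open Cfsg.Lie Matrix

namespace Cert

variable {D : ChevalleyDatum} {T : Tab} {C : Tab.Cover} (h : Cert D T C) {F : Type*} [Field F]
include h

lemma X_param_inj {r : ℕ} (hr : r < T.n) {a b : F} (e : X D r a = X D r b) : a = b := by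
  have h1 : X D r (a - b) = 1 := by
    rw [sub_eq_add_neg, ← h.X_add hr, e, h.X_add hr, add_neg_cancel, h.X_zero hr]
  exact sub_eq_zero.1 ((h.X_eq_one_iff hr _).1 h1)

/-- A monomial element acts inversely on opposite root subgroups. -/
lemma monomial_pair {g : GL D.Idx F} (hg : g ∈ D.monomialSubgroup F) {r : ℕ} (hr : r < T.n) :
    ∃ (s : ℕ) (c : F), s < T.n ∧ c ≠ 0 ∧ (∀ t, g * X D r t * g⁻¹ = X D s (c * t)) ∧
      ∀ t, g * X D (T.neg r) t * g⁻¹ = X D (T.neg s) (c⁻¹ * t) := by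
  obtain ⟨w, hw, t₀, ht₀, rfl⟩ := h.exists_word_of_monomial hg
  induction w with
  | nil =>
    obtain ⟨c, hc, e⟩ := h.mem_diagonalSubgroup_iff.1 ht₀
    have key : ∀ s < T.n, ∀ t, nW D F [] * t₀ * X D s t * (nW D F [] * t₀)⁻¹ =
        X D s (charOf T c s * t) := by
      intro s hs t
      rw [show nW D F [] = 1 by simp [nW], one_mul, mul_inv_eq_iff_eq_mul]
      refine Units.ext ?_
      rw [Units.val_mul, Units.val_mul, h.coe_X, h.coe_X, e,
        h.torus_mul_x (h.isChar_charOf hc) hs]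
    refine ⟨r, charOf T c r, hr, charOf_ne_zero hc r, key r hr, fun t => ?_⟩
    rw [key _ (neg_lt (T := T) hr)]
    congr 2
    exact eq_inv_of_mul_eq_one_right ((h.isChar_charOf hc).mul_neg r hr)
  | cons i w ih =>
    obtain ⟨s, c, hs, hc, e1, e2⟩ := ih hw.tail (mul_mem (h.nW_mem_monomial hw.tail)
      (diagonal_le_monomial ht₀))
    have hi := hw.head
    refine ⟨T.refl i s, (T.eta i s : F) * c, h.refl_lt hi hs,
      mul_ne_zero (by rcases T.eta_cases i s with e | e <;> simp [e]) hc, fun t => ?_, fun t => ?_⟩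
    · rw [nW_cons, show nS D F i * nW D F w * t₀ * X D r t * (nS D F i * nW D F w * t₀)⁻¹ =
        nS D F i * ((nW D F w * t₀) * X D r t * (nW D F w * t₀)⁻¹) * (nS D F i)⁻¹ by group, e1,
        h.nS_conj_X hi hs, mul_assoc]
    · rw [nW_cons, show nS D F i * nW D F w * t₀ * X D (T.neg r) t * (nS D F i * nW D F w * t₀)⁻¹ =
        nS D F i * ((nW D F w * t₀) * X D (T.neg r) t * (nW D F w * t₀)⁻¹) * (nS D F i)⁻¹ by group,
        e2, h.nS_conj_X hi (neg_lt (T := T) hs), (h.refl_spec hi hs).2.2.1,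
        (h.refl_spec hi hs).2.2.2.2.1, ← mul_assoc]
      congr 2
      rcases T.eta_cases i s with e | e <;> simp [e, inv_neg]

lemma nU_simple_mem_monomial {i : ℕ} (hi : i < T.l) {t : F} (ht : t ≠ 0) :
    nU D (T.simple i) t ∈ D.monomialSubgroup F := by
  have e : nU D (T.simple i) t = hU D (T.simple i) t * nS D F i := by
    refine Units.ext ?_
    rw [Units.val_mul, h.coe_nU, h.coe_hU, h.coe_nS, ← h.simple_eq hi, h.nMat_eq_hMat_mul hi]
  rw [e]
  exact mul_mem (diagonal_le_monomial (h.hU_mem (h.simple_lt hi) ht)) (h.nS_mem_monomial hi)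

lemma unipotentRadical_empty : D.unipotentRadical F ∅ = D.posUnipotent F := by
  unfold ChevalleyDatum.unipotentRadical ChevalleyDatum.posUnipotent
  congr 1
  ext g
  simp only [Set.mem_ofPred_eq]
  refine exists₂_congr fun r t => and_congr_right fun hp => ⟨fun e => e.2, fun e => ⟨?_, e⟩⟩
  intro hin
  have hr : r < T.n := (h.isPosRoot_iff.1 hp).2
  obtain ⟨k, hk, hne⟩ := h.exists_wt_ne hr
  exact hne ((h.inRootSub_iff.1 hin).2 k hk (Set.notMem_empty k))

/-- The Chevalley group has trivial centre. -/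
theorem center_group : Subgroup.center ↥(D.group F) = ⊥ := by
  have hle : Subgroup.center ↥(D.group F) ≤ (D.borelSubgroup F).subgroupOf (D.group F) := by
    intro z hz
    rw [Subgroup.mem_subgroupOf]
    have hN : (z : GL D.Idx F) ∈
        Subgroup.normalizer (D.unipotentRadical F ∅ : Set (GL D.Idx F)) ⊓ D.group F := by
      refine ⟨?_, z.2⟩
      rw [h.unipotentRadical_empty]
      have hc : ∀ a : GL D.Idx F, a ∈ D.posUnipotent F → (z : GL D.Idx F) * a = a * z := fun a ha =>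
        (congrArg Subtype.val (Subgroup.mem_center_iff.1 hz
          ⟨a, h.borel_le_group (Subgroup.mem_sup_left ha)⟩)).symm
      refine Subgroup.mem_normalizer_iff.2 fun a => ⟨fun ha => by rw [hc a ha, mul_inv_cancel_right]; exact ha,
        fun ha => ?_⟩
      have := hc _ ha
      rw [inv_mul_cancel_right] at this
      exact (mul_left_cancel this) ▸ ha
    rw [h.normalizer_radical ∅] at hN
    have : D.parabolicSubgroup F ∅ = D.borelSubgroup F := by
      simp [ChevalleyDatum.parabolicSubgroup]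
    rwa [this] at hN
  rw [eq_bot_iff, ← h.normalCore_borel (F := F)]
  exact Subgroup.normal_le_normalCore.2 hle

end Cert

namespace Rel

variable {D : ChevalleyDatum} {T : Tab} {F : Type*} [Field F] {Γ : Type*} [Group Γ]

/-- `h_p(t)` in the covering group. -/
def hG (L : Rel D T F Γ) (r : ℕ) (t : F) : Γ := L.nG r t * L.nG r (-1)

/-- The monomial subgroup of the covering group. -/
def NN (L : Rel D T F Γ) : Subgroup Γ :=
  Subgroup.closure {g | ∃ i < T.l, ∃ t : F, t ≠ 0 ∧ g = L.nG (T.simple i) t}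

/-- The subgroup generated by the `h_p(t)`. -/
def HH (L : Rel D T F Γ) : Subgroup Γ :=
  Subgroup.closure {g | ∃ (i : ℕ) (t : F), i < T.l ∧ t ≠ 0 ∧ g = L.hG (T.simple i) t}

/-- A word of `n_p(1)`. -/
def nWG (L : Rel D T F Γ) (w : List ℕ) : Γ := (w.map fun i => L.nG (T.simple i) 1).prod

/-- The hypothesis that each node has a neighbour. -/
def Nbr (T : Tab) : Prop := ∀ i < T.l, ∃ j < T.l, j ≠ i ∧ T.car j (T.simple i) ≠ 0

variable (L : Rel D T F Γ)

lemma nWG_cons (i : ℕ) (w : List ℕ) : L.nWG (i :: w) = L.nG (T.simple i) 1 * L.nWG w := by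
  simp [nWG]

lemma nWG_append (v w : List ℕ) : L.nWG (v ++ w) = L.nWG v * L.nWG w := by simp [nWG]

lemma moves_one (r : ℕ) : L.Moves 1 r r := ⟨1, one_ne_zero, fun t => by simp⟩

lemma mem_center_of_fix {g : Γ} (hg : ∀ r < T.n, ∀ t, g * L.x r t * g⁻¹ = L.x r t) :
    g ∈ Subgroup.center Γ := by
  refine Subgroup.mem_center_iff.2 fun y => ?_
  have hy : y ∈ Subgroup.centralizer {g} := by
    have hle : Subgroup.closure {g | ∃ r, r < T.n ∧ ∃ t, g = L.x r t} ≤
        Subgroup.centralizer {g} := (Subgroup.closure_le _).2 fun y ⟨r, hr, t, e⟩ => by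
      subst e
      refine Subgroup.mem_centralizer_singleton_iff.2 ?_
      exact (mul_inv_eq_iff_eq_mul.1 (hg r hr t)).symm
    exact hle (by rw [L.generate]; trivial)
  exact Subgroup.mem_centralizer_singleton_iff.1 hy

variable {C : Tab.Cover} (h : Cert D T C)
include h

lemma nG_inv {i : ℕ} (hi : i < T.l) (t : F) :
    (L.nG (T.simple i) t)⁻¹ = L.nG (T.simple i) (-t) := by
  have hp := h.simple_lt hi
  simp only [nG, _root_.mul_inv_rev, L.x_inv hp, L.x_inv (Cert.neg_lt (T := T) hp), inv_neg,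
    mul_assoc, _root_.neg_neg]

lemma nG_eq_hG_mul {i : ℕ} (hi : i < T.l) (t : F) :
    L.nG (T.simple i) t = L.hG (T.simple i) t * L.nG (T.simple i) 1 := by
  rw [hG, mul_assoc, ← L.nG_inv h hi 1, inv_mul_cancel, mul_one]

variable (hnb : Nbr T)
include hnb

lemma exists_perm_NN {g : Γ} (hg : g ∈ L.NN) :
    ∃ w, WordOK T w ∧ ∀ r < T.n, L.Moves g r (rword T w r) := by
  induction hg using Subgroup.closure_induction with
  | mem g hg =>
    obtain ⟨i, hi, t, ht, rfl⟩ := hg
    exact ⟨[i], fun k hk => List.mem_singleton.1 hk ▸ hi,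
      fun r hr => L.moves_nG h hnb hi hr ht⟩
  | one => exact ⟨[], fun k hk => absurd hk List.not_mem_nil, fun r _ => L.moves_one r⟩
  | mul a b _ _ ha hb =>
    obtain ⟨v, hv, hva⟩ := ha
    obtain ⟨w, hw, hwb⟩ := hb
    refine ⟨v ++ w, fun k hk => (List.mem_append.1 hk).elim (hv k) (hw k), fun r hr => ?_⟩
    rw [rword_append]
    exact (hwb r hr).mul (hva _ (h.rword_lt hw hr))
  | inv a _ ha =>
    obtain ⟨w, hw, hwa⟩ := ha
    have hwr : WordOK T w.reverse := fun k hk => hw k (List.mem_reverse.1 hk)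
    refine ⟨w.reverse, hwr, fun r hr => ?_⟩
    have := (hwa _ (h.rword_lt hwr hr)).inv
    rwa [h.rword_reverse hw hr] at this

lemma π_NN {g : Γ} (hg : g ∈ L.NN) : L.π g ∈ D.monomialSubgroup F := by
  have : L.NN ≤ (D.monomialSubgroup F).comap L.π :=
    (Subgroup.closure_le _).2 fun g ⟨i, hi, t, ht, e⟩ => by
      subst e
      show L.π _ ∈ D.monomialSubgroup F
      rw [L.π_nG h hi]; exact h.nU_simple_mem_monomial hi ht
  exact this hg

lemma x_mem_simple {r : ℕ} (hr : r < T.n) (t : F) : L.x r t ∈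
    Subgroup.closure {g | ∃ i < T.l, ∃ u : F,
      g = L.x (T.simple i) u ∨ g = L.x (T.neg (T.simple i)) u} := by
  refine h.root_induction (P := fun r => ∀ t, L.x r t ∈ Subgroup.closure {g | ∃ i < T.l, ∃ u : F,
      g = L.x (T.simple i) u ∨ g = L.x (T.neg (T.simple i)) u})
    (fun i hi t => Subgroup.subset_closure ⟨i, hi, t, Or.inl rfl⟩) (fun i hi r hr ih t => ?_) hr t
  obtain ⟨c, hc, e⟩ := L.moves_nG h hnb hi hr (one_ne_zero (α := F))
  have := e (c⁻¹ * t)
  rw [mul_inv_cancel_left₀ hc] at this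
  rw [← this]
  have hn : L.nG (T.simple i) (1 : F) ∈ Subgroup.closure {g | ∃ i < T.l, ∃ u : F,
      g = L.x (T.simple i) u ∨ g = L.x (T.neg (T.simple i)) u} :=
    mul_mem (mul_mem (Subgroup.subset_closure ⟨i, hi, _, Or.inl rfl⟩)
      (Subgroup.subset_closure ⟨i, hi, _, Or.inr rfl⟩)) (Subgroup.subset_closure ⟨i, hi, _, Or.inl rfl⟩)
  exact mul_mem (mul_mem hn (ih _)) (inv_mem hn)

omit hnb in
lemma exists_split_simple {i : ℕ} (hi : i < T.l) {u : Γ} (hu : u ∈ L.sub (posSet T)) :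
    ∃ v ∈ L.sub (posBut T i), ∃ a : F, u = v * L.x (T.simple i) a := by
  have hp := h.simple_lt hi
  have hnorm : L.sub {T.simple i} ≤ Subgroup.normalizer (L.sub (posBut T i) : Set Γ) := by
    refine le_normalizer_closure fun g hg a ha => ?_
    obtain ⟨b, rfl⟩ := L.sub_singleton hp hg
    obtain ⟨s, ⟨⟨hh, hs⟩, hne⟩, u, rfl⟩ := ha
    refine L.conj_mem (S := posBut T i) hp hs hne (fun e => ?_) ⟨⟨hh, hs⟩, hne⟩ (fun q hq => ?_) b u
    · have := (h.half_le_neg_iff hp).1 (e ▸ hh)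
      have := (h.simple_spec hi).1
      omega
    · obtain ⟨a1, a2, a3⟩ := h.commTerms_simple hi hp (h.wt_simple_zero hi).1 hh hs hne hq
      exact ⟨⟨a1, a2⟩, a3⟩
  have hle : L.sub (posSet T) ≤ L.sub (posBut T i) ⊔ L.sub {T.simple i} := by
    refine (Subgroup.closure_le _).2 ?_
    rintro _ ⟨s, hs, v, rfl⟩
    by_cases e : s = T.simple i
    · exact Subgroup.mem_sup_right (L.x_mem (show s ∈ ({T.simple i} : Set ℕ) from e) v)
    · exact Subgroup.mem_sup_left (L.x_mem (show s ∈ posBut T i from ⟨hs, e⟩) v)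
  have hu' := hle hu
  rw [← SetLike.mem_coe, Subgroup.coe_mul_of_right_le_normalizer_left _ _ hnorm] at hu'
  obtain ⟨v, hv, x, hx, rfl⟩ := hu'
  obtain ⟨a, rfl⟩ := L.sub_singleton hp hx
  exact ⟨v, hv, a, rfl⟩

/-- The Bruhat decomposition in the covering group. -/
theorem exists_bruhat (z : Γ) :
    ∃ u ∈ L.sub (posSet T), ∃ g ∈ L.NN, ∃ u' ∈ L.sub (posSet T), z = u * g * u' := by
  set Ω : Set Γ := {z | ∃ u ∈ L.sub (posSet T), ∃ g ∈ L.NN, ∃ u' ∈ L.sub (posSet T), z = u * g * u'}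
  have hx : ∀ i < T.l, ∀ a, L.x (T.simple i) a ∈ L.sub (posSet T) := fun i hi a =>
    L.x_mem (S := posSet T) ⟨(h.simple_spec hi).1, h.simple_lt hi⟩ a
  have hU : ∀ v ∈ L.sub (posSet T), ∀ z ∈ Ω, v * z ∈ Ω := by
    rintro v hv _ ⟨u, hu, g, hg, u', hu', rfl⟩
    exact ⟨v * u, mul_mem hv hu, g, hg, u', hu', by simp [mul_assoc]⟩
  have hn : ∀ i < T.l, ∀ t : F, t ≠ 0 → ∀ z ∈ Ω, L.nG (T.simple i) t * z ∈ Ω := by
    rintro i hi t ht _ ⟨u, hu, g, hg, u', hu', rfl⟩
    obtain ⟨v, hv, c, rfl⟩ := L.exists_split_simple h hi hu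
    set n := L.nG (T.simple i) t with hn_def
    have hnN : n ∈ L.NN := Subgroup.subset_closure ⟨i, hi, t, ht, rfl⟩
    have hp := h.simple_lt hi
    have hv' : n * v * n⁻¹ ∈ L.sub (posSet T) := by
      refine conj_sub_mem (S := posBut T i) (S' := posSet T) (fun r hr => ⟨T.refl i r,
        ⟨(h.refl_spec hi hr.1.2).2.2.2.1 hr.1.1 hr.2, h.refl_lt hi hr.1.2⟩,
        L.moves_nG h hnb hi hr.1.2 ht⟩) hv
    rw [show n * (v * L.x (T.simple i) c * g * u') =
      (n * v * n⁻¹) * (n * L.x (T.simple i) c * g * u') by group]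
    refine hU _ hv' _ ?_
    obtain ⟨w, hw, hwg⟩ := L.exists_perm_NN h hnb hg
    have hwr : WordOK T w.reverse := fun k hk => hw k (List.mem_reverse.1 hk)
    set q := rword T w.reverse (T.simple i) with hq
    have hql : q < T.n := h.rword_lt hwr hp
    have hgq : L.Moves g q (T.simple i) := by
      have := hwg q hql
      rwa [hq, h.rword_reverse hw hp] at this
    by_cases hqp : T.half ≤ q
    · obtain ⟨d, hd, e⟩ := hgq
      have e' := e (d⁻¹ * c)
      rw [mul_inv_cancel_left₀ hd] at e'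
      refine ⟨1, one_mem _, n * g, mul_mem hnN hg, L.x q (d⁻¹ * c) * u',
        mul_mem (L.x_mem (show q ∈ posSet T from ⟨hqp, hql⟩) _) hu', ?_⟩
      rw [← e']; group
    obtain ⟨d, hd, e⟩ := L.moves_nG h hnb hi hp ht
    rw [h.refl_simple hi] at e
    by_cases hc : c = 0
    · refine ⟨1, one_mem _, n * g, mul_mem hnN hg, u', hu', ?_⟩
      rw [hc, L.x_zero hp]; group
    set e₁ := d * c with he₁
    have he₁0 : e₁ ≠ 0 := mul_ne_zero hd hc
    set n' := L.nG (T.simple i) (-e₁⁻¹) with hn'_def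
    have hn'N : n' ∈ L.NN :=
      Subgroup.subset_closure ⟨i, hi, _, neg_ne_zero.2 (inv_ne_zero he₁0), rfl⟩
    have hxneg : L.x (T.neg (T.simple i)) e₁ =
        L.x (T.simple i) e₁⁻¹ * n' * L.x (T.simple i) e₁⁻¹ := by
      rw [hn'_def, nG, inv_neg, _root_.neg_neg, inv_inv, ← mul_assoc, ← mul_assoc, L.x_add _ hp,
        add_neg_cancel, L.x_zero hp, one_mul, mul_assoc, L.x_add _ hp, neg_add_cancel, L.x_zero hp,
        mul_one]
    have e2 : n * L.x (T.simple i) c = L.x (T.simple i) e₁⁻¹ * n' * L.x (T.simple i) e₁⁻¹ * n := by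
      rw [← hxneg, ← e c, ← hn_def]; group
    -- `x_p` moves past `n g` into a positive root
    have hnl := Cert.neg_lt (T := T) hql
    have hm : L.Moves (n * g) (T.neg q) (T.simple i) := by
      have h1 := hwg _ hnl
      rw [h.rword_neg hw hql, show rword T w q = T.simple i by rw [hq, h.rword_reverse hw hp]] at h1
      have h2 := L.moves_nG h hnb hi (Cert.neg_lt (T := T) hp) ht
      rw [(h.refl_spec hi hp).2.2.1, h.refl_simple hi, Cert.neg_neg (T := T) hp] at h2
      exact h1.mul h2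
    obtain ⟨d', hd', e3⟩ := hm
    have e3' := e3 (d'⁻¹ * e₁⁻¹)
    rw [mul_inv_cancel_left₀ hd'] at e3'
    refine ⟨L.x (T.simple i) e₁⁻¹, hx i hi _, n' * (n * g), mul_mem hn'N (mul_mem hnN hg),
      L.x (T.neg q) (d'⁻¹ * e₁⁻¹) * u', mul_mem (L.x_mem (show T.neg q ∈ posSet T from
        ⟨(h.half_le_neg_iff hql).2 (not_le.1 hqp), hnl⟩) _) hu', ?_⟩
    rw [e2]
    calc L.x (T.simple i) e₁⁻¹ * n' * L.x (T.simple i) e₁⁻¹ * n * g * u'
        = L.x (T.simple i) e₁⁻¹ * n' * (L.x (T.simple i) e₁⁻¹ * (n * g)) * u' := by group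
      _ = _ := by rw [← e3']; group
  have hneg : ∀ i < T.l, ∀ t, ∀ z ∈ Ω, L.x (T.neg (T.simple i)) t * z ∈ Ω := by
    intro i hi t z hz
    have hp := h.simple_lt hi
    by_cases ht : t = 0
    · rw [ht, L.x_zero (Cert.neg_lt (T := T) hp), one_mul]; exact hz
    have e : L.x (T.neg (T.simple i)) t =
        L.x (T.simple i) t⁻¹ * L.nG (T.simple i) (-t⁻¹) * L.x (T.simple i) t⁻¹ := by
      rw [nG, inv_neg, _root_.neg_neg, inv_inv, ← mul_assoc, ← mul_assoc, L.x_add _ hp,
        add_neg_cancel, L.x_zero hp, one_mul, mul_assoc, L.x_add _ hp, neg_add_cancel, L.x_zero hp,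
        mul_one]
    rw [e, mul_assoc, mul_assoc]
    exact hU _ (hx i hi _) _ (hn i hi _ (neg_ne_zero.2 (inv_ne_zero ht)) _ (hU _ (hx i hi _) _ hz))
  have hz : z ∈ Subgroup.closure {g | ∃ i < T.l, ∃ u : F,
      g = L.x (T.simple i) u ∨ g = L.x (T.neg (T.simple i)) u} := by
    have hle : Subgroup.closure {g | ∃ r, r < T.n ∧ ∃ t, g = L.x r t} ≤ _ :=
      (Subgroup.closure_le _).2 fun g ⟨r, hr, t, e⟩ => e ▸ L.x_mem_simple h hnb hr t
    exact hle (by rw [L.generate]; trivial)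
  show z ∈ Ω
  induction hz using Subgroup.closure_induction_left with
  | one => exact ⟨1, one_mem _, 1, one_mem _, 1, one_mem _, by simp⟩
  | mul_left x hx' y _ ih =>
    obtain ⟨i, hi, a, rfl | rfl⟩ := hx'
    · exact hU _ (hx i hi a) _ ih
    · exact hneg i hi a _ ih
  | inv_mul_cancel x hx' y _ ih =>
    obtain ⟨i, hi, a, rfl | rfl⟩ := hx'
    · exact hU _ (inv_mem (hx i hi a)) _ ih
    · rw [L.x_inv (Cert.neg_lt (T := T) (h.simple_lt hi))]
      exact hneg i hi _ _ ih

/-- The kernel is central and monomial. -/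
theorem ker_spec {z : Γ} (hz : L.π z = 1) : z ∈ Subgroup.center Γ ∧ z ∈ L.NN := by
  obtain ⟨u, hu, g, hg, u', hu', rfl⟩ := L.exists_bruhat h hnb z
  have hlt : ∀ r ∈ posSet T, r < T.n := fun r hr => hr.2
  have hpu : ∀ a ∈ L.sub (posSet T), L.π a ∈ D.posUnipotent F := fun a ha => by
    rw [h.posUnipotent_eq]; exact L.π_sub hlt ha
  rw [map_mul, map_mul] at hz
  have hg1 : L.π g = 1 := by
    have : L.π g ∈ D.posUnipotent F ⊓ D.monomialSubgroup F := by
      refine Subgroup.mem_inf.2 ⟨?_, L.π_NN h hnb hg⟩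
      have e : L.π g = (L.π u)⁻¹ * (L.π u')⁻¹ := by
        rw [mul_eq_one_iff_eq_inv] at hz
        rw [← hz]; group
      rw [e]; exact mul_mem (inv_mem (hpu u hu)) (inv_mem (hpu u' hu'))
    rwa [h.posUnipotent_inf_monomial, Subgroup.mem_bot] at this
  obtain ⟨w, hw, hwg⟩ := L.exists_perm_NN h hnb hg
  have hgc : g ∈ Subgroup.center Γ := by
    refine L.mem_center_of_fix fun r hr t => ?_
    obtain ⟨c, hc, e⟩ := hwg r hr
    have hl := h.rword_lt hw hr
    have e1 := congrArg L.π (e 1)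
    rw [map_mul, map_mul, map_inv, hg1, one_mul, inv_one, mul_one, L.π_x r hr, L.π_x _ hl,
      mul_one] at e1
    have hrr := h.root_eq_of_X_eq hr hl one_ne_zero e1
    rw [← hrr] at e1 e
    rw [e, ← h.X_param_inj hr e1, one_mul]
  have huu : u * u' = 1 := by
    refine L.eq_one_of_π_eq_one h (w := []) (fun k hk => absurd hk List.not_mem_nil)
      (L.sub_mono (S := posSet T) (S' := posW T []) (fun r hr => ⟨hr.2, hr.1⟩) (mul_mem hu hu')) ?_
    rw [hg1, mul_one] at hz
    rw [map_mul, hz]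
  have : u * g * u' = g := by
    rw [mul_assoc, ← Subgroup.mem_center_iff.1 hgc u', ← mul_assoc, huu, one_mul]
  rw [this]
  exact ⟨hgc, hg⟩

/-- The kernel is the centre. -/
theorem ker_eq_center : L.π.ker = Subgroup.center Γ := by
  refine le_antisymm (fun z hz => (L.ker_spec h hnb hz).1) fun z hz => ?_
  have hrange : ∀ y, L.π y ∈ D.group F := by
    intro y
    have hle : Subgroup.closure {g | ∃ r, r < T.n ∧ ∃ t, g = L.x r t} ≤ (D.group F).comap L.π :=
      (Subgroup.closure_le _).2 fun g ⟨r, hr, t, e⟩ => by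
        subst e
        show L.π _ ∈ D.group F
        rw [L.π_x r hr]; exact h.X_mem_group hr t
    exact hle (by rw [L.generate]; trivial)
  have hmem : (⟨L.π z, hrange z⟩ : ↥(D.group F)) ∈ Subgroup.center ↥(D.group F) := by
    refine Subgroup.mem_center_iff.2 fun W => ?_
    obtain ⟨W, hW⟩ := W
    rw [h.group_eq] at hW
    refine Subtype.ext ?_
    show W * L.π z = L.π z * W
    have hle : gen D F {r | r < T.n} ≤ Subgroup.centralizer {L.π z} :=
      (Subgroup.closure_le _).2 fun a ⟨r, hr, t, e⟩ => by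
        subst e
        refine Subgroup.mem_centralizer_singleton_iff.2 ?_
        rw [← L.π_x r hr, ← map_mul, ← map_mul, Subgroup.mem_center_iff.1 hz (L.x r t)]
    exact Subgroup.mem_centralizer_singleton_iff.1 (hle hW)
  rw [h.center_group, Subgroup.mem_bot] at hmem
  exact congrArg Subtype.val hmem

/-! ### The torus -/

omit hnb in
lemma hG_mem_NN {i : ℕ} (hi : i < T.l) {t : F} (ht : t ≠ 0) : L.hG (T.simple i) t ∈ L.NN :=
  mul_mem (Subgroup.subset_closure ⟨i, hi, t, ht, rfl⟩)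
    (Subgroup.subset_closure ⟨i, hi, _, neg_ne_zero.2 one_ne_zero, rfl⟩)

omit hnb in
lemma HH_le : L.HH ≤ L.NN :=
  (Subgroup.closure_le _).2 fun g ⟨i, t, hi, ht, e⟩ => e ▸ L.hG_mem_NN h hi ht

lemma moves_HH {g : Γ} (hg : g ∈ L.HH) {r : ℕ} (hr : r < T.n) : L.Moves g r r := by
  revert r
  induction hg using Subgroup.closure_induction with
  | mem g hg =>
    obtain ⟨i, t, hi, ht, rfl⟩ := hg
    intro r hr
    have h1 := (L.moves_nG h hnb hi hr (neg_ne_zero.2 (one_ne_zero (α := F)))).mul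
      (L.moves_nG h hnb hi (h.refl_lt hi hr) ht)
    rwa [h.refl_refl hi hr] at h1
  | one => exact fun _ => L.moves_one _
  | mul a b _ _ ha hb => exact fun hr => (hb hr).mul (ha hr)
  | inv a _ ha => exact fun hr => (ha hr).inv

/-- A monomial element moving a simple root to a simple root carries `n_p` to `n_q`. -/
lemma conj_nG {g : Γ} (hg : g ∈ L.NN) {k q : ℕ} (hk : k < T.l) (hq : q < T.n)
    (hm : L.Moves g (T.simple k) q) :
    ∃ c : F, c ≠ 0 ∧ ∀ t, g * L.nG (T.simple k) t * g⁻¹ = L.nG q (c * t) := by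
  have hp := h.simple_lt hk
  obtain ⟨w, hw, hwg⟩ := L.exists_perm_NN h hnb hg
  have hwk : rword T w (T.simple k) = q :=
    h.Maps_unique (h.rword_lt hw hp) hq ((hwg _ hp).π hp (h.rword_lt hw hp)) (hm.π hp hq)
  obtain ⟨c, hc, e⟩ := hm
  obtain ⟨c', hc', e'⟩ := hwg _ (Cert.neg_lt (T := T) hp)
  rw [h.rword_neg hw hp, hwk] at e'
  obtain ⟨s, d, hs, hd, f1, f2⟩ := h.monomial_pair (L.π_NN h hnb hg) hp
  have eπ := congrArg L.π (e 1)
  rw [map_mul, map_mul, map_inv, L.π_x _ hp, L.π_x _ hq, f1, mul_one, mul_one] at eπ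
  have hsi := h.root_eq_of_X_eq hs hq hd eπ
  subst hsi
  have eπ' := congrArg L.π (e' 1)
  rw [map_mul, map_mul, map_inv, L.π_x _ (Cert.neg_lt (T := T) hp),
    L.π_x _ (Cert.neg_lt (T := T) hq), f2, mul_one, mul_one] at eπ'
  have hdc := h.X_param_inj hq eπ
  have hcc : c' = c⁻¹ := by rw [← h.X_param_inj (Cert.neg_lt (T := T) hq) eπ', hdc]
  refine ⟨c, hc, fun t => ?_⟩
  rw [nG, nG, show g * (L.x (T.simple k) t * L.x (T.neg (T.simple k)) (-t⁻¹) * L.x (T.simple k) t) *
      g⁻¹ = (g * L.x (T.simple k) t * g⁻¹) * (g * L.x (T.neg (T.simple k)) (-t⁻¹) * g⁻¹) *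
      (g * L.x (T.simple k) t * g⁻¹) by group, e, e', hcc]
  congr 3
  rw [mul_inv, mul_neg]

lemma nG_conj_HH {j : ℕ} (hj : j < T.l) {g : Γ} (hg : g ∈ L.HH) :
    L.nG (T.simple j) 1 * g * (L.nG (T.simple j) 1)⁻¹ ∈ L.HH := by
  obtain ⟨c, hc, e⟩ := L.conj_nG h hnb (L.HH_le h hg) hj (h.simple_lt hj) (L.moves_HH h hnb hg (h.simple_lt hj))
  replace e := e 1
  rw [mul_one, L.nG_eq_hG_mul h hj c] at e
  have : L.nG (T.simple j) 1 * g * (L.nG (T.simple j) 1)⁻¹ = (L.hG (T.simple j) c)⁻¹ * g := by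
    have e2 : g * (L.nG (T.simple j) 1)⁻¹ * g⁻¹ =
        (L.nG (T.simple j) 1)⁻¹ * (L.hG (T.simple j) c)⁻¹ := by
      rw [← _root_.mul_inv_rev, ← e]; group
    calc L.nG (T.simple j) 1 * g * (L.nG (T.simple j) 1)⁻¹
        = L.nG (T.simple j) 1 * (g * (L.nG (T.simple j) 1)⁻¹ * g⁻¹) * g := by group
      _ = _ := by rw [e2]; group
  rw [this]
  exact mul_mem (inv_mem (Subgroup.subset_closure ⟨j, c, hj, hc, rfl⟩)) hg

omit hnb in
lemma nG_sq_mem {j : ℕ} (hj : j < T.l) :
    L.nG (T.simple j) (1 : F) * L.nG (T.simple j) 1 ∈ L.HH := by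
  have : L.hG (T.simple j) (-1 : F) =
      (L.nG (T.simple j) (1 : F) * L.nG (T.simple j) 1)⁻¹ := by
    rw [hG, _root_.mul_inv_rev, L.nG_inv h hj]
  rw [← inv_mem_iff, ← this]
  exact Subgroup.subset_closure ⟨j, _, hj, neg_ne_zero.2 one_ne_zero, rfl⟩

lemma nWG_conj_HH {p : List ℕ} (hp : WordOK T p) {g : Γ} (hg : g ∈ L.HH) :
    L.nWG p * g * (L.nWG p)⁻¹ ∈ L.HH := by
  induction p with
  | nil => simpa [nWG] using hg
  | cons i p ih =>
    rw [L.nWG_cons, show L.nG (T.simple i) 1 * L.nWG p * g * (L.nG (T.simple i) 1 * L.nWG p)⁻¹ =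
      L.nG (T.simple i) 1 * (L.nWG p * g * (L.nWG p)⁻¹) * (L.nG (T.simple i) 1)⁻¹ by group]
    exact L.nG_conj_HH h hnb hp.head (ih hp.tail)

omit hnb in
lemma nWG_mem {w : List ℕ} (hw : WordOK T w) : L.nWG w ∈ L.NN := by
  refine list_prod_mem fun g hg => ?_
  obtain ⟨i, hi, rfl⟩ := List.mem_map.1 hg
  exact Subgroup.subset_closure ⟨i, hw i hi, 1, one_ne_zero, rfl⟩

lemma moves_nWG {w : List ℕ} (hw : WordOK T w) {r : ℕ} (hr : r < T.n) :
    L.Moves (L.nWG w) r (rword T w r) := by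
  induction w with
  | nil => simpa [nWG, rword] using L.moves_one r
  | cons i w ih =>
    rw [L.nWG_cons, rword_cons]
    exact (ih hw.tail).mul (L.moves_nG h hnb hw.head (h.rword_lt hw.tail hr) one_ne_zero)

omit hnb in
lemma exists_turn : ∀ {v : List ℕ}, WordOK T v → ∀ {a : ℕ}, a < T.n → T.half ≤ a →
    rword T v a < T.half → ∃ p i s, v = p ++ i :: s ∧ rword T s a = T.simple i := by
  intro v
  induction v with
  | nil => intro _ a _ h1 h2; simp [rword] at h2; omega
  | cons i v ih =>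
    intro hv a ha h1 h2
    by_cases hneg : rword T v a < T.half
    · obtain ⟨p, j, s, e, e'⟩ := ih hv.tail ha h1 hneg
      exact ⟨i :: p, j, s, by rw [e]; rfl, e'⟩
    · refine ⟨[], i, v, rfl, ?_⟩
      by_contra hne
      have := (h.refl_spec hv.head (h.rword_lt hv.tail ha)).2.2.2.1 (not_lt.1 hneg) hne
      rw [rword_cons] at h2
      omega

lemma nWG_mem_HH : ∀ (m : ℕ) {w : List ℕ}, w.length ≤ m → WordOK T w →
    (∀ r < T.n, rword T w r = r) → L.nWG w ∈ L.HH := by
  intro m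
  induction m using Nat.strong_induction_on with
  | _ m ih =>
    intro w hlen hw hfix
    rcases List.eq_nil_or_concat' w with rfl | ⟨v, k, rfl⟩
    · simp [nWG]
    have hk : k < T.l := hw k (List.mem_append_right _ List.mem_cons_self)
    have hv : WordOK T v := hw.left
    have hp := h.simple_lt hk
    have hneg : rword T v (T.simple k) = T.neg (T.simple k) := by
      have h1 := hfix _ hp
      rw [rword_append, show rword T [k] (T.simple k) = T.refl k (T.simple k) from rfl,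
        h.refl_simple hk, h.rword_neg hv hp] at h1
      rw [← Cert.neg_neg (T := T) (h.rword_lt hv hp), h1]
    obtain ⟨p, i, s, rfl, hs⟩ := exists_turn h hv hp (h.simple_spec hk).1 (by
      rw [hneg]
      exact (h.half_le_neg_iff (Cert.neg_lt (T := T) hp)).1 (by
        rw [Cert.neg_neg (T := T) hp]; exact (h.simple_spec hk).1))
    have hwp : WordOK T p := hv.left
    have hi : i < T.l := hv i (List.mem_append_right _ List.mem_cons_self)
    have hws : WordOK T s := fun j hj => hv j (List.mem_append_right _ (List.mem_cons_of_mem _ hj))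
    have hms := L.moves_nWG h hnb hws hp
    rw [hs] at hms
    obtain ⟨c, hc, e⟩ := L.conj_nG h hnb (L.nWG_mem h hws) hk (h.simple_lt hi) hms
    replace e := e 1
    rw [mul_one, L.nG_eq_hG_mul h hi c, mul_inv_eq_iff_eq_mul] at e
    set n := L.nG (T.simple i) (1 : F)
    set h' := n * L.hG (T.simple i) c * n⁻¹ * (n * n)
    have hh' : h' ∈ L.HH :=
      mul_mem (L.nG_conj_HH h hnb hi (Subgroup.subset_closure ⟨i, c, hi, hc, rfl⟩))
        (L.nG_sq_mem h hi)
    have ew : L.nWG (p ++ i :: s ++ [k]) = L.nWG p * h' * (L.nWG p)⁻¹ * L.nWG (p ++ s) := by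
      rw [L.nWG_append, L.nWG_append, L.nWG_append, L.nWG_cons,
        show L.nWG [k] = L.nG (T.simple k) 1 by simp [nWG], mul_assoc (L.nWG p), mul_assoc n, e]
      simp only [h']; group
    have hps : WordOK T (p ++ s) := fun j hj => (List.mem_append.1 hj).elim (hwp j) (hws j)
    have hmem := L.nWG_conj_HH h hnb hwp hh'
    have hfix' : ∀ r < T.n, rword T (p ++ s) r = r := by
      intro r hr
      have h1 := L.moves_nWG h hnb hw hr
      rw [hfix r hr, ew] at h1
      have hl := h.rword_lt hps hr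
      have h2 := (L.moves_nWG h hnb hps hr).mul (L.moves_HH h hnb hmem hl)
      exact (h.Maps_unique hr hl (h1.π hr hr) (h2.π hr hl)).symm
    rw [ew]
    refine mul_mem hmem (ih (p ++ s).length ?_ le_rfl hps hfix')
    simp only [List.length_append, List.length_cons, List.length_nil] at hlen ⊢
    omega

/-- Monomial elements are words up to the torus. -/
lemma exists_word_NN {g : Γ} (hg : g ∈ L.NN) :
    ∃ w, WordOK T w ∧ ∃ y ∈ L.HH, g = y * L.nWG w := by
  have step : ∀ i < T.l, ∀ t : F, t ≠ 0 → ∀ y ∈ L.HH, ∀ w, WordOK T w →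
      ∃ w', WordOK T w' ∧ ∃ y' ∈ L.HH, L.nG (T.simple i) t * (y * L.nWG w) = y' * L.nWG w' := by
    intro i hi t ht y hy w hw
    refine ⟨i :: w, fun j hj => ?_, L.hG (T.simple i) t *
      (L.nG (T.simple i) 1 * y * (L.nG (T.simple i) 1)⁻¹), mul_mem
        (Subgroup.subset_closure ⟨i, t, hi, ht, rfl⟩) (L.nG_conj_HH h hnb hi hy), ?_⟩
    · rcases List.mem_cons.1 hj with rfl | hj
      · exact hi
      · exact hw j hj
    · rw [L.nWG_cons, L.nG_eq_hG_mul h hi t]; group
  induction hg using Subgroup.closure_induction_left with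
  | one => exact ⟨[], fun j hj => absurd hj List.not_mem_nil, 1, one_mem _, by simp [nWG]⟩
  | mul_left x hx y _ ih =>
    obtain ⟨i, hi, t, ht, rfl⟩ := hx
    obtain ⟨w, hw, y', hy', rfl⟩ := ih
    exact step i hi t ht y' hy' w hw
  | inv_mul_cancel x hx y _ ih =>
    obtain ⟨i, hi, t, ht, rfl⟩ := hx
    obtain ⟨w, hw, y', hy', rfl⟩ := ih
    rw [L.nG_inv h hi]
    exact step i hi _ (neg_ne_zero.2 ht) y' hy' w hw

/-- The kernel lies in the torus. -/
theorem ker_le_HH : L.π.ker ≤ L.HH := by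
  intro z hz
  obtain ⟨hzc, hzN⟩ := L.ker_spec h hnb hz
  obtain ⟨w, hw, y, hy, e⟩ := L.exists_word_NN h hnb hzN
  rw [e]
  refine mul_mem hy (L.nWG_mem_HH h hnb _ le_rfl hw fun r hr => ?_)
  have hl := h.rword_lt hw hr
  have h1 : L.Moves z r (rword T w r) := by
    rw [e]
    exact (L.moves_nWG h hnb hw hr).mul (L.moves_HH h hnb hy hl)
  have h2 : L.Moves z r r := ⟨1, one_ne_zero, fun t => by
    rw [← Subgroup.mem_center_iff.1 hzc, mul_inv_cancel_right, one_mul]⟩
  exact (h.Maps_unique hr hl (h2.π hr hr) (h1.π hr hl)).symm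

end Rel

end CfsgLib.Chev
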