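import Cfsg.Agent.Lib.Chev.Simple
import Cfsg.Agent.Lib.Chev.Order

/-!
Groups with root elements satisfying the addition and commutator relations, mapped to a Chevalley
group: conjugation by the elements `n_p(t)` permutes the root subgroups.
-/

set_option autoImplicit false

namespace CfsgLib.Chev

open Cfsg.Lie Matrix

/-- A group with root elements satisfying the relations (A) and (B), over the Chevalley group. -/
structure Rel (D : ChevalleyDatum) (T : Tab) (F : Type*) [Field F] (Γ : Type*) [Group Γ] where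
  x : ℕ → F → Γ
  π : Γ →* GL D.Idx F
  π_x : ∀ r, r < T.n → ∀ t, π (x r t) = X D r t
  x_add : ∀ r, r < T.n → ∀ t u, x r t * x r u = x r (t + u)
  comm : ∀ r, r < T.n → ∀ s, s < T.n → s ≠ r → s ≠ T.neg r → ∀ t u : F,
    x r (-t) * x s u * x r t = x s u *
      ((T.commTerms r s).map fun c => x c.1 ((c.2.1 : F) * (-t) ^ c.2.2.1 * u ^ c.2.2.2)).prod
  generate : Subgroup.closure {g | ∃ r, r < T.n ∧ ∃ t, g = x r t} = ⊤

namespace Cert

variable {D : ChevalleyDatum} {T : Tab} {C : Tab.Cover} (h : Cert D T C)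
include h

/-- The same after moving by a word. -/
lemma commTerms_wt_rword {r s : ℕ} (hr : r < T.n) (hs : s < T.n) {q : ℕ × ℤ × ℕ × ℕ}
    (hq : q ∈ T.commTerms r s) {w : List ℕ} (hw : WordOK T w) :
    ∃ a b : ℕ, 0 < a ∧ 0 < b ∧ ∀ k,
      h.wt k (rword T w q.1) = a * h.wt k (rword T w r) + b * h.wt k (rword T w s) := by
  obtain ⟨a, b, ha, hb, he⟩ := h.commTerms_car hr hs hq
  have hql := h.commTerms_lt hr hs hq
  suffices ∀ m < T.l, T.car m (rword T w q.1) =
      a * T.car m (rword T w r) + b * T.car m (rword T w s) by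
    refine ⟨a, b, ha, hb, fun k => ?_⟩
    simp only [h.wt_eq_sum, Finset.mul_sum, ← Finset.sum_add_distrib]
    exact Finset.sum_congr rfl fun j hj => by rw [this j (Finset.mem_range.1 hj)]; ring
  induction w with
  | nil => exact he
  | cons i w ih =>
    intro m hm
    have hi := hw.head
    simp only [rword_cons]
    rw [(h.refl_spec hi (h.rword_lt hw.tail hql)).2.2.2.2.2.2.2.1 m hm,
      (h.refl_spec hi (h.rword_lt hw.tail hr)).2.2.2.2.2.2.2.1 m hm,
      (h.refl_spec hi (h.rword_lt hw.tail hs)).2.2.2.2.2.2.2.1 m hm,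
      ih hw.tail m hm, ih hw.tail i hi]
    ring

/-- A linear height. -/
noncomputable def htW (r : ℕ) : ℤ := ∑ k ∈ Finset.range T.l, h.wt k r

lemma htW_pos {r : ℕ} (hr : r ∈ posSet T) : 0 < h.htW r := by
  obtain ⟨k, hk, hne⟩ := h.exists_wt_ne hr.2
  refine Finset.sum_pos' (fun j hj => h.wt_nonneg (Finset.mem_range.1 hj) hr.2 hr.1)
    ⟨k, Finset.mem_range.2 hk, lt_of_le_of_ne (h.wt_nonneg hk hr.2 hr.1) hne.symm⟩

lemma htW_comm {r s : ℕ} (hr : r < T.n) (hs : s < T.n) {q : ℕ × ℤ × ℕ × ℕ}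
    (hq : q ∈ T.commTerms r s) {w : List ℕ} (hw : WordOK T w)
    (hpr : 0 < h.htW (rword T w r)) (hps : 0 < h.htW (rword T w s)) :
    h.htW (rword T w r) < h.htW (rword T w q.1) ∧ h.htW (rword T w s) < h.htW (rword T w q.1) := by
  obtain ⟨a, b, ha, hb, he⟩ := h.commTerms_wt_rword hr hs hq hw
  have e : h.htW (rword T w q.1) =
      a * h.htW (rword T w r) + b * h.htW (rword T w s) := by
    simp only [Cert.htW, he, Finset.sum_add_distrib, Finset.mul_sum]
  have ha' : (1 : ℤ) ≤ a := by exact_mod_cast ha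
  have hb' : (1 : ℤ) ≤ b := by exact_mod_cast hb
  constructor <;> nlinarith

variable {F : Type*} [Field F]

/-- A root element outside a closed set of positive roots is outside its subgroup. -/
lemma eq_zero_of_mem_gen {S : Set ℕ} (hS : ∀ r ∈ S, r ∈ posSet T) (hcl : CommClosed T S) {q : ℕ}
    (hq : q ∈ posSet T) (hqS : q ∉ S) {c : F} (hc : X D q c ∈ gen D F S) : c = 0 := by
  classical
  set M := (posList T).filter fun r => decide (r ∈ S) with hM
  have hMS : {r | r ∈ M} = S := by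
    ext r
    simp only [hM, Set.mem_ofPred_eq, List.mem_filter, decide_eq_true_eq, mem_posList]
    exact ⟨fun e => e.2, fun e => ⟨hS r e, e⟩⟩
  rw [← hMS] at hc hcl
  obtain ⟨t, ht⟩ := h.exists_prodX M (sortedLT_posList.pairwise.filter _).sortedLT
    (fun r hr => mem_posList.1 (List.mem_filter.1 hr).1) hcl _ hc
  have key : ∀ (N : List ℕ), (∀ r ∈ N, r < T.n) →
      prodX D N (fun r => if r ∈ S then t r else 0) =
        prodX D (N.filter fun r => decide (r ∈ S)) t := by
    intro N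
    induction N with
    | nil => intro _; rfl
    | cons r N ih =>
      intro hN
      have := ih fun s hs => hN s (List.mem_cons_of_mem _ hs)
      by_cases hr : r ∈ S <;> simp_all [prodX, h.X_zero]
  have key2 : ∀ (N : List ℕ), (∀ r ∈ N, r < T.n) → N.Nodup →
      prodX D N (fun r => if r = q then c else 0) = if q ∈ N then X D q c else 1 := by
    intro N
    induction N with
    | nil => intro _ _; simp [prodX]
    | cons r N ih =>
      intro hN hnd
      have := ih (fun s hs => hN s (List.mem_cons_of_mem _ hs)) (List.nodup_cons.1 hnd).2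
      simp only [prodX, List.map_cons, List.prod_cons] at this ⊢
      rw [this]
      by_cases hr : r = q
      · subst hr; simp [(List.nodup_cons.1 hnd).1]
      · simp [hr, Ne.symm hr, h.X_zero (hN r List.mem_cons_self)]
  have hlt : ∀ r ∈ posList T, r < T.n := fun r hr => (mem_posList.1 hr).2
  have e : prodX D (posList T) (fun r => if r = q then c else 0) =
      prodX D (posList T) (fun r => if r ∈ S then t r else 0) := by
    rw [key _ hlt, ← hM, ← ht, key2 _ hlt sortedLT_posList.nodup, if_pos (mem_posList.2 hq)]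
  have := h.prodX_inj _ sortedLT_posList (fun r hr => mem_posList.1 hr) _ _ e q (mem_posList.2 hq)
  simpa [hqS] using this

lemma Maps_nU_simple {i : ℕ} (hi : i < T.l) {t : F} (ht : t ≠ 0) {r : ℕ} (hr : r < T.n) :
    Maps D (nU D (T.simple i) t) r (T.refl i r) := by
  have hp := h.simple_lt hi
  have e : nU D (T.simple i) t = hU D (T.simple i) t * nS D F i := by
    refine Units.ext ?_
    rw [Units.val_mul, h.coe_nU, h.coe_hU, h.coe_nS, ← h.simple_eq hi, h.nMat_eq_hMat_mul hi]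
  rw [e]
  exact Maps_mul (h.Maps_nS hi hr) (h.Maps_diagonal (h.hU_mem hp ht) (h.refl_lt hi hr))

end Cert

namespace Rel

variable {D : ChevalleyDatum} {T : Tab} {F : Type*} [Field F] {Γ : Type*} [Group Γ]

/-- The subgroup generated by the root elements of a set of roots. -/
def sub (L : Rel D T F Γ) (S : Set ℕ) : Subgroup Γ :=
  Subgroup.closure {g | ∃ r ∈ S, ∃ t, g = L.x r t}

/-- Conjugation by `g` takes the root subgroup of `r` to that of `s`. -/
def Moves (L : Rel D T F Γ) (g : Γ) (r s : ℕ) : Prop :=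
  ∃ c : F, c ≠ 0 ∧ ∀ t, g * L.x r t * g⁻¹ = L.x s (c * t)

/-- `n_p(t)` in the covering group. -/
def nG (L : Rel D T F Γ) (r : ℕ) (t : F) : Γ := L.x r t * L.x (T.neg r) (-t⁻¹) * L.x r t

variable (L : Rel D T F Γ)

lemma x_mem {S : Set ℕ} {r : ℕ} (hr : r ∈ S) (t : F) : L.x r t ∈ L.sub S :=
  Subgroup.subset_closure ⟨r, hr, t, rfl⟩

lemma sub_mono {S S' : Set ℕ} (hS : S ⊆ S') : L.sub S ≤ L.sub S' :=
  Subgroup.closure_mono fun _ ⟨r, hr, t, e⟩ => ⟨r, hS hr, t, e⟩

lemma x_zero {r : ℕ} (hr : r < T.n) : L.x r 0 = 1 := by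
  have := L.x_add r hr 0 0
  rwa [add_zero, mul_eq_left] at this

lemma x_inv {r : ℕ} (hr : r < T.n) (t : F) : (L.x r t)⁻¹ = L.x r (-t) :=
  inv_eq_of_mul_eq_one_right (by rw [L.x_add r hr, add_neg_cancel, L.x_zero hr])

lemma π_sub {S : Set ℕ} (hS : ∀ r ∈ S, r < T.n) {g : Γ} (hg : g ∈ L.sub S) :
    L.π g ∈ gen D F S := by
  have : L.sub S ≤ (gen D F S).comap L.π := (Subgroup.closure_le _).2 fun g ⟨r, hr, t, e⟩ => by
    subst e
    show L.π _ ∈ gen D F S
    rw [L.π_x r (hS r hr)]; exact X_mem_gen D hr t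
  exact this hg

lemma conj_mem {r s : ℕ} (hr : r < T.n) (hs : s < T.n) (hne : s ≠ r) (hneg : s ≠ T.neg r)
    {S : Set ℕ} (hsS : s ∈ S) (hq : ∀ q ∈ T.commTerms r s, q.1 ∈ S) (t u : F) :
    L.x r t * L.x s u * (L.x r t)⁻¹ ∈ L.sub S := by
  have := L.comm r hr s hs hne hneg (-t) u
  rw [_root_.neg_neg] at this
  rw [L.x_inv hr, this]
  refine mul_mem (L.x_mem hsS u) (list_prod_mem fun g hg => ?_)
  obtain ⟨c, hc, rfl⟩ := List.mem_map.1 hg
  exact L.x_mem (hq c hc) _

lemma sub_singleton {r : ℕ} (hr : r < T.n) {g : Γ} (hg : g ∈ L.sub {r}) :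
    ∃ t : F, g = L.x r t := by
  induction hg using Subgroup.closure_induction with
  | mem g hg => obtain ⟨s, rfl, t, e⟩ := hg; exact ⟨t, e⟩
  | one => exact ⟨0, (L.x_zero hr).symm⟩
  | mul a b _ _ ha hb =>
    obtain ⟨t, rfl⟩ := ha; obtain ⟨u, rfl⟩ := hb; exact ⟨t + u, L.x_add r hr t u⟩
  | inv a _ ha => obtain ⟨t, rfl⟩ := ha; exact ⟨-t, L.x_inv hr t⟩

variable {L}

lemma Moves.mul {g g' : Γ} {r s u : ℕ} (h1 : L.Moves g' r s) (h2 : L.Moves g s u) :
    L.Moves (g * g') r u := by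
  obtain ⟨c, hc, e⟩ := h1
  obtain ⟨c', hc', e'⟩ := h2
  refine ⟨c' * c, mul_ne_zero hc' hc, fun t => ?_⟩
  rw [show g * g' * L.x r t * (g * g')⁻¹ = g * (g' * L.x r t * g'⁻¹) * g⁻¹ by group, e, e',
    mul_assoc]

lemma Moves.inv {g : Γ} {r s : ℕ} (h1 : L.Moves g r s) : L.Moves g⁻¹ s r := by
  obtain ⟨c, hc, e⟩ := h1
  refine ⟨c⁻¹, inv_ne_zero hc, fun t => ?_⟩
  have := e (c⁻¹ * t)
  rw [mul_inv_cancel_left₀ hc] at this
  rw [← this]; group

lemma Moves.mem {g : Γ} {r s : ℕ} (h1 : L.Moves g r s) {S : Set ℕ} (hs : s ∈ S) (t : F) :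
    g * L.x r t * g⁻¹ ∈ L.sub S := by
  obtain ⟨c, -, e⟩ := h1
  rw [e]; exact L.x_mem hs _

lemma Moves.π {g : Γ} {r s : ℕ} (hr : r < T.n) (hs : s < T.n) (h1 : L.Moves g r s) :
    Maps D (L.π g) r s := by
  obtain ⟨c, hc, e⟩ := h1
  refine ⟨c, hc, fun t => ?_⟩
  rw [← L.π_x r hr, ← L.π_x s hs, ← e, map_mul, map_mul, map_inv]

lemma conj_sub_mem {g : Γ} {S S' : Set ℕ}
    (hS : ∀ r ∈ S, ∃ s ∈ S', L.Moves g r s) {a : Γ} (ha : a ∈ L.sub S) :
    g * a * g⁻¹ ∈ L.sub S' := by
  have : L.sub S ≤ (L.sub S').comap (MulAut.conj g).toMonoidHom :=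
    (Subgroup.closure_le _).2 fun a ⟨r, hr, t, e⟩ => by
      subst e
      obtain ⟨s, hs, hm⟩ := hS r hr
      exact hm.mem hs t
  exact this ha

variable (L) {C : Tab.Cover} (h : Cert D T C)
include h

/-- The positive system of a word. -/
abbrev posW (T : Tab) (w : List ℕ) : Set ℕ := {r | r < T.n ∧ T.half ≤ rword T w r}

/-- The map to the Chevalley group is injective on the subgroup of a positive system. -/
theorem eq_one_of_π_eq_one {w : List ℕ} (hw : WordOK T w) {a : Γ} (ha : a ∈ L.sub (posW T w))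
    (hπ : L.π a = 1) : a = 1 := by
  classical
  let f : ℕ → ℤ := fun r => h.htW (rword T w r)
  have fpos : ∀ r ∈ posW T w, 0 < f r := fun r hr => h.htW_pos ⟨hr.2, h.rword_lt hw hr.1⟩
  suffices H : ∀ S : Finset ℕ, (∀ r ∈ S, r ∈ posW T w) → CommClosed T {r | r ∈ S} →
      ∀ a ∈ L.sub {r | r ∈ S}, L.π a = 1 → a = 1 by
    refine H ((Finset.range T.n).filter fun r => T.half ≤ rword T w r)
      (fun r hr => by simpa using hr) ?_ a ?_ hπ
    · intro r hr s hs _ q hq
      simp only [Finset.mem_filter, Finset.mem_range, Set.mem_ofPred_eq] at hr hs ⊢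
      refine ⟨h.commTerms_lt hr.1 hs.1 hq, ?_⟩
      obtain ⟨x, y, hx, hy, he⟩ := h.commTerms_wt_rword hr.1 hs.1 hq hw
      obtain ⟨k, hk, hne⟩ := h.exists_wt_ne (h.rword_lt hw hr.1)
      refine h.pos_of_wt_pos hk (h.rword_lt hw (h.commTerms_lt hr.1 hs.1 hq)) ?_
      have h1 := lt_of_le_of_ne (h.wt_nonneg hk (h.rword_lt hw hr.1) hr.2) hne.symm
      have h2 := h.wt_nonneg hk (h.rword_lt hw hs.1) hs.2
      have hx' : (1 : ℤ) ≤ x := by exact_mod_cast hx
      rw [he k]; nlinarith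
    · refine L.sub_mono (fun r hr => ?_) ha
      simpa using hr
  intro S
  induction S using Finset.strongInduction with
  | _ S ih =>
    intro hS hcl a ha hπa
    by_cases hne : S.Nonempty
    swap
    · rw [Finset.not_nonempty_iff_eq_empty] at hne
      subst hne
      have : L.sub {r | r ∈ (∅ : Finset ℕ)} = ⊥ := by simp [sub]
      rwa [this, Subgroup.mem_bot] at ha
    obtain ⟨r, hr, hmin⟩ := Finset.exists_min_image S f hne
    have hrn := (hS r hr).1
    have hterm : ∀ b ∈ S, ∀ s ∈ S, ∀ q ∈ T.commTerms b s, f r < f q.1 := fun b hb s hs q hq =>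
      lt_of_le_of_lt (hmin b hb)
        (h.htW_comm (hS b hb).1 (hS s hs).1 hq hw (fpos b (hS b hb)) (fpos s (hS s hs))).1
    have hsub : ∀ b ∈ S, ∀ s ∈ S, s ≠ b → ∀ q ∈ T.commTerms b s, q.1 ∈ S.erase r :=
      fun b hb s hs hsb q hq => Finset.mem_erase.2
        ⟨fun e => (hterm b hb s hs q hq).ne (by rw [e]), hcl b hb s hs hsb q hq⟩
    have hcl' : CommClosed T {s | s ∈ S.erase r} := fun b hb s hs hsb q hq =>
      hsub b (Finset.mem_of_mem_erase hb) s (Finset.mem_of_mem_erase hs) hsb q hq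
    have hnegne : ∀ s ∈ S, s ≠ T.neg r := by
      intro s hs e
      have h1 := (hS s hs).2
      rw [e, h.rword_neg hw hrn] at h1
      have := (h.half_le_neg_iff (h.rword_lt hw hrn)).1 h1
      have := (hS r hr).2
      omega
    have hnorm : L.sub {r} ≤ Subgroup.normalizer (L.sub {s | s ∈ S.erase r} : Set Γ) := by
      refine le_normalizer_closure fun g hg b hb => ?_
      obtain ⟨c, rfl⟩ := L.sub_singleton hrn hg
      obtain ⟨s, hs, u, rfl⟩ := hb
      have hsS := Finset.mem_of_mem_erase hs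
      exact L.conj_mem hrn (hS s hsS).1 (Finset.ne_of_mem_erase hs) (hnegne s hsS) hs
        (fun q hq => hsub r hr s hsS (Finset.ne_of_mem_erase hs) q hq) c u
    have hle : L.sub {s | s ∈ S} ≤ L.sub {r} ⊔ L.sub {s | s ∈ S.erase r} := by
      refine (Subgroup.closure_le _).2 ?_
      rintro _ ⟨s, hs, u, rfl⟩
      by_cases e : s = r
      · exact Subgroup.mem_sup_left (L.x_mem (show s ∈ ({r} : Set ℕ) from e) u)
      · exact Subgroup.mem_sup_right (L.x_mem (Finset.mem_erase.2 ⟨e, hs⟩) u)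
    have ha' := hle ha
    rw [← SetLike.mem_coe, Subgroup.coe_mul_of_left_le_normalizer_right _ _ hnorm] at ha'
    obtain ⟨x, hx, b, hb, rfl⟩ := ha'
    obtain ⟨c, rfl⟩ := L.sub_singleton hrn hx
    have hlt : ∀ s ∈ ({s | s ∈ S.erase r} : Set ℕ), s < T.n := fun s hs =>
      (hS s (Finset.mem_of_mem_erase hs)).1
    -- move to the standard positive system
    have hX : X D r c ∈ gen D F {s | s ∈ S.erase r} := by
      rw [map_mul, L.π_x r hrn, mul_eq_one_iff_eq_inv] at hπa
      rw [hπa]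
      exact inv_mem (L.π_sub hlt hb)
    obtain ⟨d, hd, hconj⟩ := h.Maps_nW (F := F) hw hrn
    set S' : Set ℕ := {p | p ∈ posSet T ∧ p ≠ rword T w r ∧ f r ≤ h.htW p}
    have h1 : X D (rword T w r) (d * c) ∈ gen D F S' := by
      rw [← hconj]
      refine Cert.conj_gen_le (S' := S') (fun s hs => ?_) hX
      have hsS := Finset.mem_of_mem_erase hs
      exact ⟨rword T w s, ⟨⟨(hS s hsS).2, h.rword_lt hw (hlt s hs)⟩,
        fun e => Finset.ne_of_mem_erase hs (h.rword_inj hw (hlt s hs) hrn e), hmin s hsS⟩,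
        h.Maps_nW hw (hlt s hs)⟩
    have hcl'' : CommClosed T S' := by
      intro b hb s hs hsb q hq
      have h2 := h.htW_comm hb.1.2 hs.1.2 hq (w := []) (fun i hi => absurd hi List.not_mem_nil)
        (h.htW_pos hb.1) (h.htW_pos hs.1)
      simp only [rword, List.foldr_nil] at h2
      have hb3 : f r ≤ h.htW b := hb.2.2
      refine ⟨(h.commClosed_posSet b hb.1 s hs.1 hsb q hq), fun e => ?_, ?_⟩
      · rw [e] at h2
        have : h.htW (rword T w r) = f r := rfl
        omega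
      · show f r ≤ h.htW q.1
        omega
    have := h.eq_zero_of_mem_gen (fun p hp => hp.1) hcl''
      ⟨(hS r hr).2, h.rword_lt hw hrn⟩ (fun e => e.2.1 rfl) h1
    simp only [(mul_eq_zero.1 this).resolve_left hd, L.x_zero hrn, one_mul] at hπa ⊢
    exact ih _ (Finset.erase_ssubset hr) (fun s hs => hS s (Finset.mem_of_mem_erase hs)) hcl' b hb
      hπa

/-- Equal images in the subgroup of a positive system. -/
theorem eq_of_π_eq {w : List ℕ} (hw : WordOK T w) {a b : Γ} (ha : a ∈ L.sub (posW T w))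
    (hb : b ∈ L.sub (posW T w)) (e : L.π a = L.π b) : a = b :=
  inv_mul_eq_one.1 (L.eq_one_of_π_eq_one h hw (mul_mem (inv_mem ha) hb)
    (by rw [map_mul, map_inv, e, inv_mul_cancel])) |>.symm ▸ rfl

omit h in
/-- The roots on one side of the hyperplane of the `i`th simple root, moved by a word. -/
def side (h : Cert D T C) (w : List ℕ) (i : ℕ) (ε : ℤ) : Set ℕ :=
  {s | s < T.n ∧ ∃ k < T.l, k ≠ i ∧ 0 < ε * h.wt k (rword T w s)}

lemma side_pos {w : List ℕ} (hw : WordOK T w) {i s : ℕ} (hi : i < T.l) (hs : s < T.n)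
    (hp : T.half ≤ rword T w s) (hne : rword T w s ≠ T.simple i) : s ∈ side h w i 1 := by
  obtain ⟨k, hk, hki, hpos⟩ := h.exists_wt_pos_of_ne_simple hp (h.rword_lt hw hs) hi hne
  exact ⟨hs, k, hk, hki, by rwa [one_mul]⟩

lemma side_neg {w : List ℕ} (hw : WordOK T w) {i s : ℕ} (hi : i < T.l) (hs : s < T.n)
    (hp : rword T w s < T.half) (hne : rword T w s ≠ T.neg (T.simple i)) :
    s ∈ side h w i (-1) := by
  have hl := h.rword_lt hw hs
  obtain ⟨k, hk, hki, hpos⟩ := h.exists_wt_pos_of_ne_simple ((h.half_le_neg_iff hl).2 hp)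
    (Cert.neg_lt (T := T) hl) hi (fun e => hne (by rw [← e, Cert.neg_neg (T := T) hl]))
  exact ⟨hs, k, hk, hki, by rw [neg_one_mul, ← h.wt_neg hl]; exact hpos⟩

/-- Conjugation by an element of the rank one subgroup of `a` acts on a side as in the Chevalley
group. -/
theorem moves_side {w : List ℕ} (hw : WordOK T w) {i : ℕ} (hi : i < T.l) {a : ℕ} (ha : a < T.n)
    (haw : rword T w a = T.simple i) {ε : ℤ} (hε : ε = 1 ∨ ε = -1) {g : Γ}
    (hg : g ∈ L.sub {a, T.neg a}) {s s' : ℕ} (hs : s ∈ side h w i ε) (hs' : s' ∈ side h w i ε)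
    (hm : Maps D (L.π g) s s') : L.Moves g s s' := by
  have hzero : ∀ b ∈ ({a, T.neg a} : Set ℕ), b < T.n ∧
      ∀ k < T.l, k ≠ i → h.wt k (rword T w b) = 0 := by
    intro b hb
    rcases hb with rfl | rfl
    · exact ⟨ha, fun k hk hki => by rw [haw]; exact (h.wt_simple_zero hi).1 k hk hki⟩
    · exact ⟨Cert.neg_lt (T := T) ha, fun k hk hki => by
        rw [h.rword_neg hw ha, haw]; exact (h.wt_simple_zero hi).2 k hk hki⟩
  have hnorm : L.sub {a, T.neg a} ≤ Subgroup.normalizer (L.sub (side h w i ε) : Set Γ) := by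
    have hgen : L.sub {a, T.neg a} ≤ (Subgroup.normalizer (L.sub (side h w i ε) : Set Γ)) := by
      refine (Subgroup.closure_le _).2 ?_
      rintro _ ⟨b, hb, t, rfl⟩
      obtain ⟨hbn, hb0⟩ := hzero b hb
      refine (le_normalizer_closure (H := L.sub {b}) fun y hy z hz => ?_)
        (L.x_mem (Set.mem_singleton b) t)
      obtain ⟨c, rfl⟩ := L.sub_singleton hbn hy
      obtain ⟨v, ⟨hv, k, hk, hki, hpos⟩, u, rfl⟩ := hz
      refine L.conj_mem (S := side h w i ε) hbn hv ?_ ?_ ⟨hv, k, hk, hki, hpos⟩ (fun q hq => ?_) c u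
      · intro e; rw [e, hb0 k hk hki, mul_zero] at hpos; exact lt_irrefl 0 hpos
      · intro e
        rw [e, h.rword_neg hw hbn, h.wt_neg (h.rword_lt hw hbn), hb0 k hk hki, neg_zero,
          mul_zero] at hpos
        exact lt_irrefl 0 hpos
      · obtain ⟨x, y, -, hy', he⟩ := h.commTerms_wt_rword hbn hv hq hw
        refine ⟨h.commTerms_lt hbn hv hq, k, hk, hki, ?_⟩
        rw [he k, hb0 k hk hki, mul_zero, zero_add, mul_left_comm]
        exact mul_pos (by exact_mod_cast hy') hpos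
    exact hgen
  obtain ⟨w', hw', hsub⟩ : ∃ w', WordOK T w' ∧ side h w i ε ⊆ posW T w' := by
    rcases hε with rfl | rfl
    · refine ⟨w, hw, fun v ⟨hv, k, hk, _, hpos⟩ => ⟨hv, ?_⟩⟩
      rw [one_mul] at hpos
      exact h.pos_of_wt_pos hk (h.rword_lt hw hv) hpos
    · obtain ⟨w₀, hw₀, hneg⟩ := h.exists_longest
      refine ⟨w₀ ++ w, fun j hj => (List.mem_append.1 hj).elim (hw₀ j) (hw j),
        fun v ⟨hv, k, hk, _, hpos⟩ => ⟨hv, ?_⟩⟩
      have hl := h.rword_lt hw hv
      have hn := h.neg_of_wt_neg hk hl (by linarith)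
      rw [rword_append]
      have h1 := hneg _ ((h.half_le_neg_iff hl).2 hn) (Cert.neg_lt (T := T) hl)
      rw [h.rword_neg hw₀ hl] at h1
      by_contra hcon
      have := (h.half_le_neg_iff (h.rword_lt hw₀ hl)).2 (not_le.1 hcon)
      omega
  obtain ⟨c, hc, he⟩ := hm
  refine ⟨c, hc, fun t => L.eq_of_π_eq h hw'
    (L.sub_mono hsub ((Subgroup.mem_normalizer_iff.1 (hnorm hg) _).1 (L.x_mem hs t)))
    (L.sub_mono hsub (L.x_mem hs' _)) ?_⟩
  rw [map_mul, map_mul, map_inv, L.π_x s hs.1, L.π_x s' hs'.1, he]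

lemma π_nG {i : ℕ} (hi : i < T.l) (t : F) :
    L.π (L.nG (T.simple i) t) = nU D (T.simple i) t := by
  rw [nG, map_mul, map_mul, L.π_x _ (h.simple_lt hi),
    L.π_x _ (Cert.neg_lt (T := T) (h.simple_lt hi)), nU, h.neg_eq (h.simple_lt hi)]

lemma nG_mem (r : ℕ) (t : F) : L.nG r t ∈ L.sub {r, T.neg r} :=
  mul_mem (mul_mem (L.x_mem (Or.inl rfl) _) (L.x_mem (Or.inr rfl) _)) (L.x_mem (Or.inl rfl) _)

lemma moves_nG_of_ne {i r : ℕ} (hi : i < T.l) (hr : r < T.n) (h1 : r ≠ T.simple i)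
    (h2 : r ≠ T.neg (T.simple i)) {t : F} (ht : t ≠ 0) :
    L.Moves (L.nG (T.simple i) t) r (T.refl i r) := by
  have hnil : WordOK T [] := fun j hj => absurd hj List.not_mem_nil
  have hp := h.simple_lt hi
  have hm : Maps D (L.π (L.nG (T.simple i) t)) r (T.refl i r) := by
    rw [L.π_nG h hi]; exact h.Maps_nU_simple hi ht hr
  have hl := h.refl_lt hi hr
  by_cases hh : T.half ≤ r
  · refine L.moves_side h hnil hi hp rfl (Or.inl rfl) (L.nG_mem h _ t)
      (side_pos h hnil hi hr hh h1)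
      (side_pos h hnil hi hl ((h.refl_spec hi hr).2.2.2.1 hh h1) fun e => ?_) hm
    have := congrArg (T.refl i) (show T.refl i r = T.simple i from e)
    rw [h.refl_refl hi hr, h.refl_simple hi] at this
    exact h2 this
  · have hn := (h.half_le_neg_iff hr).2 (not_le.1 hh)
    have h3 : T.neg r ≠ T.simple i := fun e => h2 (by rw [← e, Cert.neg_neg (T := T) hr])
    have h4 := (h.refl_spec hi (Cert.neg_lt (T := T) hr)).2.2.2.1 hn h3
    rw [(h.refl_spec hi hr).2.2.1] at h4
    refine L.moves_side h hnil hi hp rfl (Or.inr rfl) (L.nG_mem h _ t)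
      (side_neg h hnil hi hr (not_le.1 hh) h2)
      (side_neg h hnil hi hl ((h.half_le_neg_iff hl).1 h4) fun e => ?_) hm
    have := congrArg (T.refl i) (show T.refl i r = T.neg (T.simple i) from e)
    rw [h.refl_refl hi hr, (h.refl_spec hi hp).2.2.1, h.refl_simple hi,
      Cert.neg_neg (T := T) hp] at this
    exact h1 this

/-- `n_p(t)` permutes the root subgroups. -/
theorem moves_nG (hnb : ∀ i < T.l, ∃ j < T.l, j ≠ i ∧ T.car j (T.simple i) ≠ 0) {i r : ℕ}
    (hi : i < T.l) (hr : r < T.n) {t : F} (ht : t ≠ 0) :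
    L.Moves (L.nG (T.simple i) t) r (T.refl i r) := by
  by_cases hgen : r ≠ T.simple i ∧ r ≠ T.neg (T.simple i)
  · exact L.moves_nG_of_ne h hi hr hgen.1 hgen.2 ht
  obtain ⟨j, hj, hji, hcar⟩ := hnb i hi
  have hp := h.simple_lt hi
  have hq := h.simple_lt hj
  have hne : T.simple i ≠ T.simple j := fun e => by
    have a := (h.simple_spec hi).2.2.2 j hj
    rw [e, (h.simple_spec hj).2.2.2 j hj, if_pos rfl, if_neg (Ne.symm hji)] at a
    exact one_ne_zero a
  have hne' : T.simple i ≠ T.neg (T.simple j) := fun e => by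
    have := (h.half_le_neg_iff hq).1 (e ▸ (h.simple_spec hi).1)
    have := (h.simple_spec hj).1
    omega
  -- the auxiliary root
  set c := T.refl j (T.simple i) with hc_def
  have hcl : c < T.n := h.refl_lt hj hp
  have hch : T.half ≤ c := (h.refl_spec hj hp).2.2.2.1 (h.simple_spec hi).1 hne
  have hci : c ≠ T.simple i := fun e => by
    have h1 := h.car_refl hj hp
    rw [← hc_def, e] at h1
    omega
  have hcj : c ≠ T.simple j := fun e => by
    have h1 := congrArg (T.refl j) e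
    rw [hc_def, h.refl_refl hj hp, h.refl_simple hj] at h1
    exact hne' h1
  have hcn : ∀ k < T.l, c ≠ T.neg (T.simple k) := fun k hk e => by
    have := (h.half_le_neg_iff (h.simple_lt hk)).1 (e ▸ hch)
    have := (h.simple_spec hk).1
    omega
  have hncn : T.neg c < T.half := (h.half_le_neg_iff (Cert.neg_lt (T := T) hcl)).1 (by
    rwa [Cert.neg_neg (T := T) hcl])
  -- the root `r` and its preimage `e`
  obtain ⟨e, he, he', hef, hrf⟩ : ∃ e, e < T.n ∧ T.refl j e = r ∧
      (e ≠ T.simple i ∧ e ≠ T.neg (T.simple i) ∧ e ≠ T.simple j ∧ e ≠ T.neg (T.simple j)) ∧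
      ((T.half ≤ e ∧ T.half ≤ r ∧ r ≠ T.simple j) ∨
        (e < T.half ∧ r < T.half ∧ r ≠ T.neg (T.simple j))) := by
    by_cases hri : r = T.simple i
    · subst hri
      exact ⟨c, hcl, h.refl_refl hj hp, ⟨hci, hcn i hi, hcj, hcn j hj⟩,
        Or.inl ⟨hch, (h.simple_spec hi).1, hne⟩⟩
    · have hrn : r = T.neg (T.simple i) := by
        by_contra hh; exact hgen ⟨hri, hh⟩
      subst hrn
      refine ⟨T.neg c, Cert.neg_lt (T := T) hcl, ?_,
        ⟨fun e => ?_, fun e => hci ?_, fun e => ?_, fun e => hcj ?_⟩,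
        Or.inr ⟨hncn, (h.half_le_neg_iff (Cert.neg_lt (T := T) hp)).1 ?_, fun e => hne ?_⟩⟩
      · rw [(h.refl_spec hj hcl).2.2.1, hc_def, h.refl_refl hj hp]
      · exact hcn i hi (by rw [← Cert.neg_neg (T := T) hcl, e])
      · rw [← Cert.neg_neg (T := T) hcl, e, Cert.neg_neg (T := T) hp]
      · exact hcn j hj (by rw [← Cert.neg_neg (T := T) hcl, e])
      · rw [← Cert.neg_neg (T := T) hcl, e, Cert.neg_neg (T := T) hq]
      · rw [Cert.neg_neg (T := T) hp]; exact (h.simple_spec hi).1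
      · rw [← Cert.neg_neg (T := T) hp, e, Cert.neg_neg (T := T) hq]
  set ni := L.nG (T.simple i) t with hni
  set nj := L.nG (T.simple j) (1 : F) with hnj
  have m1 : L.Moves nj e r := by
    have := L.moves_nG_of_ne h hj he hef.2.2.1 hef.2.2.2 (one_ne_zero (α := F))
    rwa [he'] at this
  have m2 : L.Moves ni e (T.refl i e) := L.moves_nG_of_ne h hi he hef.1 hef.2.1 ht
  -- `ni nj ni⁻¹` lies in the rank one group of the reflected root
  set b := T.refl i (T.simple j) with hb_def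
  have hbl : b < T.n := h.refl_lt hi hq
  have hmem : ni * nj * ni⁻¹ ∈ L.sub {b, T.neg b} := by
    refine conj_sub_mem (fun s hs => ?_) (L.nG_mem h (T.simple j) 1)
    rcases hs with rfl | rfl
    · exact ⟨b, Or.inl rfl, L.moves_nG_of_ne h hi hq hne.symm
        (fun e => hne' (by rw [e, Cert.neg_neg (T := T) hp])) ht⟩
    · refine ⟨T.neg b, Or.inr rfl, ?_⟩
      rw [hb_def, ← (h.refl_spec hi hq).2.2.1]
      exact L.moves_nG_of_ne h hi (Cert.neg_lt (T := T) hq) (Ne.symm hne')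
        (fun e => hne (by rw [← Cert.neg_neg (T := T) hp, ← e, Cert.neg_neg (T := T) hq])) ht
  have hw : WordOK T [i] := fun k hk => List.mem_singleton.1 hk ▸ hi
  have hrw : ∀ v, rword T [i] v = T.refl i v := fun v => rfl
  have hπi : Maps D (L.π ni) r (T.refl i r) := by
    rw [hni, L.π_nG h hi]; exact h.Maps_nU_simple hi ht hr
  have hmap : Maps D (L.π (ni * nj * ni⁻¹)) (T.refl i e) (T.refl i r) := by
    rw [map_mul, map_mul, map_inv]
    exact Cert.Maps_mul (Cert.Maps_inv (m2.π he (h.refl_lt hi he))) (Cert.Maps_mul (m1.π he hr) hπi)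
  have m3 : L.Moves (ni * nj * ni⁻¹) (T.refl i e) (T.refl i r) := by
    have hel := h.refl_lt hi he
    have hrl := h.refl_lt hi hr
    have hbw : rword T [i] b = T.simple j := by rw [hrw, hb_def, h.refl_refl hi hq]
    rcases hrf with ⟨p1, p2, p3⟩ | ⟨p1, p2, p3⟩
    · exact L.moves_side h hw hj hbl hbw (Or.inl rfl) hmem
        (side_pos h hw hj hel (by rwa [hrw, h.refl_refl hi he])
          (by rw [hrw, h.refl_refl hi he]; exact hef.2.2.1))
        (side_pos h hw hj hrl (by rwa [hrw, h.refl_refl hi hr])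
          (by rwa [hrw, h.refl_refl hi hr])) hmap
    · exact L.moves_side h hw hj hbl hbw (Or.inr rfl) hmem
        (side_neg h hw hj hel (by rwa [hrw, h.refl_refl hi he])
          (by rw [hrw, h.refl_refl hi he]; exact hef.2.2.2))
        (side_neg h hw hj hrl (by rwa [hrw, h.refl_refl hi hr])
          (by rwa [hrw, h.refl_refl hi hr])) hmap
  have := (m1.inv.mul m2).mul m3
  rwa [show ni * nj * ni⁻¹ * (ni * nj⁻¹) = ni by group] at this

end Rel

end CfsgLib.Chev
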