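import Cfsg.Agent.Lib.Chev.StMultiplier
import Cfsg.Agent.Lib.Chev.OrthIso

/-!
A small representation of the cover given by sparse matrices: the image of a root element is
`1 + t A_r`. It detects the centre.
-/

set_option autoImplicit false
set_option maxRecDepth 100000

namespace CfsgLib.Chev

open Cfsg.Lie Matrix
open CfsgLib.ChevOrth (SM toM mulS oneS sm toM_mulS toM_sm toM_append toM_eq_zero toM_oneS)

/-- The matrices of a small representation. -/
structure MinRep where
  N : ℕ
  A : List (SM (Fin N))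
  P : List ℕ
  Q : List ℕ
  top : Fin N

namespace MinRep

variable (M : MinRep)

/-- An index from a code. -/
def idx (x : ℕ) : Fin M.N := ⟨x % M.N, Nat.mod_lt _ (lt_of_le_of_lt (Nat.zero_le _) M.top.isLt)⟩

/-- A sign from a code. -/
def sgn (x : ℕ) : ℤ := if x % 2 = 0 then 1 else -1

/-- The row and sign of the entry in a column of a monomial matrix. -/
def rowOf (i : ℕ) (a : Fin M.N) : Fin M.N × ℤ :=
  (M.idx (Tab.field 8 (M.P.getD i 0) a.val / 2), sgn (Tab.field 8 (M.P.getD i 0) a.val))

/-- The column and sign of the entry in a row of a monomial matrix. -/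
def colOf (i : ℕ) (a : Fin M.N) : Fin M.N × ℤ :=
  (M.idx (Tab.field 8 (M.Q.getD i 0) a.val / 2), sgn (Tab.field 8 (M.Q.getD i 0) a.val))

/-- A monomial matrix by columns. -/
def nList (i : ℕ) : SM (Fin M.N) :=
  (List.finRange M.N).map fun j => ((M.rowOf i j).1, j, (M.rowOf i j).2)

/-- A monomial matrix by rows. -/
def nList' (i : ℕ) : SM (Fin M.N) :=
  (List.finRange M.N).map fun a => (a, (M.colOf i a).1, (M.colOf i a).2)

/-- The matrix of a root. -/
def mat (r : ℕ) : SM (Fin M.N) := M.A.getD r []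

/-- The identity. -/
def one : SM (Fin M.N) := oneS (List.finRange M.N)

/-- A column. -/
def col : SM (Fin M.N) := [(M.top, M.top, 1)]

/-- The squares vanish. -/
def chkSq : Bool := M.A.all fun L => ChevOrth.chkZero (mulS L L)

/-- The monomial matrices. -/
def chkN (T : Tab) : Bool :=
  (List.range T.l).all fun i => (M.nList i).isPerm (M.nList' i) &&
    ChevOrth.chkZero (M.nList i ++ sm (-1)
    (mulS (mulS (M.one ++ M.mat (T.simple i)) (M.one ++ sm (-1) (M.mat (T.neg (T.simple i)))))
      (M.one ++ M.mat (T.simple i))))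

/-- Conjugation by the monomial matrices. -/
def chkMove (T : Tab) : Bool :=
  (List.range T.l).all fun i => (List.range T.n).all fun r =>
    ((M.mat r).map fun e => ((M.rowOf i e.1).1, e.2.1, (M.rowOf i e.1).2 * e.2.2)).isPerm
      ((M.mat (T.refl i r)).map fun e =>
        (e.1, (M.colOf i e.2.1).1, T.eta i r * (e.2.2 * (M.colOf i e.2.1).2)))

/-- The commutator identity of a pair. -/
def chkPair (T : Tab) (r s : ℕ) : Bool :=
  ChevOrth.chkZero (mulS (mulS (M.mat r) (M.mat s)) (M.mat r)) &&
    match T.commTerms r s with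
    | [] => ChevOrth.chkZero (mulS (M.mat s) (M.mat r) ++ sm (-1) (mulS (M.mat r) (M.mat s)))
    | [(k, c, 1, 1)] => ChevOrth.chkZero (mulS (M.mat s) (M.mat r) ++
        sm (-1) (mulS (M.mat r) (M.mat s)) ++ sm c (M.mat k)) &&
        ChevOrth.chkZero (mulS (M.mat s) (M.mat k))
    | _ => false

/-- All representative pairs. -/
def chkBase (T : Tab) (C : Tab.Cover) : Bool :=
  C.base.all fun b => b.2.1.all fun a =>
    decide (a = b.1 ∨ a = T.neg b.1) || M.chkPair T b.1 a

/-- The distinguished column is moved by one node only. -/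
def chkTop (T : Tab) (i₀ : ℕ) : Bool :=
  ((List.range T.l).all fun i => decide (i = i₀) ||
    (ChevOrth.chkZero (mulS (M.mat (T.simple i)) M.col) &&
      ChevOrth.chkZero (mulS (M.mat (T.neg (T.simple i))) M.col))) &&
  ChevOrth.chkZero (mulS (M.mat (T.simple i₀)) M.col) &&
  ChevOrth.chkZero
    (mulS (mulS (M.mat (T.simple i₀)) (M.mat (T.neg (T.simple i₀)))) M.col ++ sm (-1) M.col)

variable {K : Type*} [Field K]

lemma toM_perm {ι : Type} [Fintype ι] [DecidableEq ι] {A B : SM ι} (hp : A.Perm B) :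
    toM K A = toM K B := (hp.map _).sum_eq

lemma toM_nList (i : ℕ) :
    toM K (M.nList i) =
      ∑ j, Matrix.single (M.rowOf i j).1 j ((M.rowOf i j).2 : K) := by
  rw [toM, nList, List.map_map, ← List.sum_toFinset _ (List.nodup_finRange _),
    List.toFinset_finRange]
  rfl

lemma toM_nList' (i : ℕ) :
    toM K (M.nList' i) = ∑ a, Matrix.single a (M.colOf i a).1 ((M.colOf i a).2 : K) := by
  rw [toM, nList', List.map_map, ← List.sum_toFinset _ (List.nodup_finRange _),
    List.toFinset_finRange]
  rfl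

lemma nList_mul (i : ℕ) (L : SM (Fin M.N)) :
    toM K (M.nList i) * toM K L =
      toM K (L.map fun e => ((M.rowOf i e.1).1, e.2.1, (M.rowOf i e.1).2 * e.2.2)) := by
  induction L with
  | nil => simp
  | cons e L ih =>
    rw [List.map_cons, ChevOrth.toM_cons, ChevOrth.toM_cons, mul_add, ih, M.toM_nList,
      Finset.sum_mul, Finset.sum_eq_single e.1]
    · rw [Matrix.single_mul_single_same, Int.cast_mul]
    · intro j _ hj
      exact Matrix.single_mul_single_of_ne ((M.rowOf i j).2 : K) _ _ _ hj _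
    · simp

lemma mul_nList' (i : ℕ) (L : SM (Fin M.N)) :
    toM K L * toM K (M.nList' i) =
      toM K (L.map fun e => (e.1, (M.colOf i e.2.1).1, e.2.2 * (M.colOf i e.2.1).2)) := by
  induction L with
  | nil => simp
  | cons e L ih =>
    rw [List.map_cons, ChevOrth.toM_cons, ChevOrth.toM_cons, add_mul, ih, M.toM_nList',
      Finset.mul_sum, Finset.sum_eq_single e.2.1]
    · rw [Matrix.single_mul_single_same, Int.cast_mul]
    · intro j _ hj
      exact Matrix.single_mul_single_of_ne (e.2.2 : K) _ _ _ hj.symm _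
    · simp

/-- The matrix of a root over a field. -/
noncomputable def mK (K : Type*) [Field K] (r : ℕ) : Matrix (Fin M.N) (Fin M.N) K :=
  toM K (M.mat r)

variable (hsq : M.chkSq = true)
include hsq

lemma mK_sq (r : ℕ) : M.mK K r * M.mK K r = 0 := by
  rw [mK, ← toM_mulS]
  refine toM_eq_zero ?_
  unfold mat
  by_cases hr : r < M.A.length
  · rw [List.getD_eq_getElem _ _ hr]
    exact List.all_eq_true.1 hsq _ (List.getElem_mem hr)
  · rw [List.getD_eq_default _ _ (by omega)]; rfl

lemma one_add_mul (r : ℕ) (t u : K) :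
    (1 + t • M.mK K r) * (1 + u • M.mK K r) = 1 + (t + u) • M.mK K r := by
  rw [mul_add, add_mul, add_mul, one_mul, one_mul, mul_one, smul_mul_smul_comm, M.mK_sq hsq,
    smul_zero, add_zero, add_smul, add_assoc]

/-- A root element in the representation. -/
noncomputable def xR (r : ℕ) (t : K) : GL (Fin M.N) K where
  val := 1 + t • M.mK K r
  inv := 1 + (-t) • M.mK K r
  val_inv := by rw [M.one_add_mul hsq, add_neg_cancel, zero_smul, add_zero]
  inv_val := by rw [M.one_add_mul hsq, neg_add_cancel, zero_smul, add_zero]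

lemma coe_xR (r : ℕ) (t : K) :
    (M.xR hsq r t : Matrix (Fin M.N) (Fin M.N) K) = 1 + t • M.mK K r := rfl

lemma xR_mul (r : ℕ) (t u : K) : M.xR hsq r t * M.xR hsq r u = M.xR hsq r (t + u) :=
  Units.ext (M.one_add_mul hsq r t u)

/-- The `n`-element at a simple root. -/
noncomputable def nR (T : Tab) (i : ℕ) (t : K) : GL (Fin M.N) K :=
  M.xR hsq (T.simple i) t * M.xR hsq (T.neg (T.simple i)) (-t⁻¹) * M.xR hsq (T.simple i) t

variable {D : ChevalleyDatum} {T : Tab} {C : Tab.Cover} (h : Cert D T C)
include h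

lemma nR_conj (hN : M.chkN T = true) (hM : M.chkMove T = true) {i r : ℕ} (hi : i < T.l)
    (hr : r < T.n) (t : K) :
    M.nR hsq T i 1 * M.xR hsq r t * (M.nR hsq T i 1)⁻¹ =
      M.xR hsq (T.refl i r) ((T.eta i r : K) * t) := by
  rw [mul_inv_eq_iff_eq_mul]
  refine Units.ext ?_
  have hn : (M.nR (K := K) hsq T i 1 : Matrix (Fin M.N) (Fin M.N) K) =
      toM K (M.nList i) := by
    have h1 := toM_eq_zero (F := K)
      (Bool.and_eq_true_iff.1 (List.all_eq_true.1 hN i (List.mem_range.2 hi))).2
    rw [toM_append, toM_sm, Int.cast_neg, Int.cast_one, neg_one_smul, add_neg_eq_zero] at h1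
    rw [h1, toM_mulS, toM_mulS, toM_append, toM_append, MinRep.one,
      toM_oneS (List.nodup_finRange _) List.mem_finRange, toM_sm, nR, Units.val_mul,
      Units.val_mul, M.coe_xR, M.coe_xR, one_smul, inv_one, Int.cast_neg, Int.cast_one]
    rfl
  have h2 : toM K (M.nList i) * M.mK K r =
      (T.eta i r : K) • (M.mK K (T.refl i r) * toM K (M.nList i)) := by
    have h1 := List.isPerm_iff.1 (List.all_eq_true.1
      (List.all_eq_true.1 hM i (List.mem_range.2 hi)) r (List.mem_range.2 hr))
    have h0 := List.isPerm_iff.1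
      (Bool.and_eq_true_iff.1 (List.all_eq_true.1 hN i (List.mem_range.2 hi))).1
    rw [mK, mK, M.nList_mul, toM_perm h1, toM_perm h0, M.mul_nList', ← toM_sm, sm, List.map_map]
    rfl
  rw [Units.val_mul, Units.val_mul, hn, M.coe_xR, M.coe_xR, mul_add, mul_one, mul_smul_comm, h2,
    add_mul, one_mul, smul_mul_assoc, smul_smul, mul_comm t]

/-- The product of the terms in the representation. -/
noncomputable def termsR (T : Tab) (r s : ℕ) (t u : K) : GL (Fin M.N) K :=
  ((T.commTerms r s).map fun c =>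
    M.xR hsq c.1 ((c.2.1 : K) * (-t) ^ c.2.2.1 * u ^ c.2.2.2)).prod

omit h in
lemma pair_ok {T : Tab} {r s : ℕ} (hp : M.chkPair T r s = true) (t u : K) :
    M.xR hsq r (-t) * M.xR hsq s u * M.xR hsq r t = M.xR hsq s u * M.termsR hsq T r s t u := by
  refine Units.ext ?_
  simp only [MinRep.chkPair, Bool.and_eq_true] at hp
  obtain ⟨h3, hm⟩ := hp
  have h3' : M.mK K r * M.mK K s * M.mK K r = 0 := by
    rw [mK, mK, ← toM_mulS, ← toM_mulS]; exact toM_eq_zero h3
  have expand : (M.xR hsq r (-t) * M.xR hsq s u * M.xR hsq r t : GL (Fin M.N) K).val =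
      1 + u • M.mK K s + (t * u) • (M.mK K s * M.mK K r - M.mK K r * M.mK K s) := by
    simp only [Units.val_mul, M.coe_xR, mul_add, add_mul, one_mul, mul_one, smul_mul_smul_comm,
      h3', M.mK_sq hsq, smul_zero, add_zero, smul_sub, neg_smul, neg_mul, mul_comm u t]
    abel
  rw [expand, MinRep.termsR]
  split at hm
  next hT =>
    have h0 := toM_eq_zero (F := K) hm
    rw [toM_append, toM_sm, toM_mulS, toM_mulS, Int.cast_neg, Int.cast_one, neg_one_smul,
      add_neg_eq_zero] at h0
    rw [hT, List.map_nil, List.prod_nil, mul_one, M.coe_xR, mK, mK, h0, sub_self, smul_zero,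
      add_zero]
  next k c hT =>
    simp only [Bool.and_eq_true] at hm
    have h0 := toM_eq_zero (F := K) hm.1
    rw [toM_append, toM_append, toM_sm, toM_sm, toM_mulS, toM_mulS, Int.cast_neg, Int.cast_one,
      neg_one_smul, ← sub_eq_add_neg] at h0
    have h1 : M.mK K s * M.mK K k = 0 := by
      rw [mK, mK, ← toM_mulS]; exact toM_eq_zero hm.2
    have h0' : M.mK K s * M.mK K r - M.mK K r * M.mK K s = -((c : K) • M.mK K k) :=
      eq_neg_of_add_eq_zero_left h0
    rw [hT]
    simp only [List.map_cons, List.map_nil, List.prod_cons, List.prod_nil, mul_one, pow_one]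
    rw [Units.val_mul, M.coe_xR, M.coe_xR, mul_add, add_mul, add_mul, one_mul, one_mul, mul_one,
      smul_mul_smul_comm, h1, smul_zero, add_zero, h0', smul_neg, smul_smul, ← neg_smul,
      show -(t * u * (c : K)) = (c : K) * -t * u by ring]
  next => cases hm

/-- The relation at every pair. -/
lemma comm_all (hN : M.chkN T = true) (hM : M.chkMove T = true) (hB : M.chkBase T C = true)
    {r s : ℕ} (hr : r < T.n) (hs : s < T.n) (hne : s ≠ r) (hneg : s ≠ T.neg r) :
    ∀ t u : K,
      M.xR hsq r (-t) * M.xR hsq s u * M.xR hsq r t = M.xR hsq s u * M.termsR hsq T r s t u := by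
  refine h.pair_induction
    (P := fun r s => ∀ t u : K, M.xR hsq r (-t) * M.xR hsq s u * M.xR hsq r t =
      M.xR hsq s u * M.termsR hsq T r s t u)
    (fun i r s hi hr hs _ _ he ih t u => ?_) (fun b hb a ha n1 n2 => ?_) hr hs hne hneg
  · have hη : ∀ {a : ℕ}, (T.eta i a : K) * (T.eta i a : K) = 1 := fun {a} => by
      exact_mod_cast congrArg (Int.cast : ℤ → K) (T.eta_sq i a)
    set ν := M.nR (K := K) hsq T i 1
    have ex : ∀ q, q < T.n → ∀ a : K, MulAut.conj ν (M.xR hsq q a) =
        M.xR hsq (T.refl i q) ((T.eta i q : K) * a) :=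
      fun q hq a => by rw [MulAut.conj_apply]; exact M.nR_conj hsq h hN hM hi hq a
    have key := congrArg (MulAut.conj ν) (ih ((T.eta i r : K) * t) ((T.eta i s : K) * u))
    rw [map_mul, map_mul, map_mul, ex r hr, ex r hr, ex s hs, mul_neg, ← mul_assoc _ _ t, hη,
      one_mul, ← mul_assoc _ _ u, hη, one_mul] at key
    rw [key, MinRep.termsR, MinRep.termsR, map_list_prod, h.edge_spec hi hr he hs, List.map_map,
      List.map_map]
    congr 2
    refine List.map_congr_left fun c hc => ?_
    simp only [Function.comp_apply]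
    rw [ex _ (h.commTerms_lt hr hs hc)]
    congr 1
    push_cast
    rw [neg_mul_eq_mul_neg, mul_pow, mul_pow]
    ring
  · have h1 := List.all_eq_true.1 (List.all_eq_true.1 hB b hb) a ha
    simp only [Bool.or_eq_true, decide_eq_true_eq] at h1
    exact M.pair_ok hsq (h1.resolve_left (not_or.2 ⟨n1, n2⟩))

/-- The representation of the cover. -/
theorem exists_rep (hN : M.chkN T = true) (hM : M.chkMove T = true) (hB : M.chkBase T C = true) :
    ∃ ρ : D.SteinbergCover K →* GL (Fin M.N) K, ∀ r, r < T.n → ∀ t,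
      ρ ((h.relOf (R := D.steinbergRelsAB K) le_rfl (steinbergRelsAB_subset D K)).x r t) =
        M.xR hsq r t := by
  have hinv : ∀ (r : ℕ) (t : K), (M.xR hsq r t)⁻¹ = M.xR hsq r (-t) := fun r t => Units.ext rfl
  have hst : ∀ r, r < T.n → ∀ t,
      FreeGroup.lift (fun p : Fin D.nroots × K => M.xR hsq p.1.val p.2) (D.stX r t) =
        M.xR hsq r t := by
    intro r hr t
    rw [ChevalleyDatum.stX, dif_pos (by rw [h.nroots_eq]; exact hr), FreeGroup.lift_apply_of]
  have hrel : ∀ g ∈ D.steinbergRelsAB K,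
      FreeGroup.lift (fun p : Fin D.nroots × K => M.xR hsq p.1.val p.2) g = 1 := by
    rintro g (⟨r, t₁, t₂, hr, rfl⟩ | ⟨r, s, t, u, hr, hs, hne, hneg, rfl⟩)
    · rw [h.nroots_eq] at hr
      rw [map_mul, map_mul, map_inv, hst r hr, hst r hr, hst r hr, M.xR_mul, mul_inv_cancel]
    · rw [h.nroots_eq] at hr hs
      rw [h.neg_eq hr] at hneg
      rw [map_mul, map_mul, map_mul, map_mul, map_inv, map_inv, map_inv, hst r hr, hst s hs,
        hinv r t, mul_inv_eq_one, mul_assoc (M.xR hsq s u)⁻¹, mul_assoc (M.xR hsq s u)⁻¹,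
        M.comm_all hsq h hN hM hB hr hs hne hneg, inv_mul_cancel_left, ChevalleyDatum.stWord,
        map_list_prod, ChevalleyDatum.commWord, h.commTerms_eq hr hs, MinRep.termsR, List.map_map,
        List.map_map]
      exact congrArg List.prod (List.map_congr_left fun c hc =>
        (hst _ (h.commTerms_lt hr hs hc) _).symm)
  refine ⟨PresentedGroup.toGroup hrel, fun r hr t => ?_⟩
  rw [h.relOf_x, ChevalleyDatum.stX, dif_pos (by rw [h.nroots_eq]; exact hr)]
  exact PresentedGroup.toGroup.of hrel

/-- The value on the column of a product of `h`-elements. -/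
theorem torG_col (hN : M.chkN T = true) (hM : M.chkMove T = true) (hB : M.chkBase T C = true)
    {i₀ : ℕ} (hT : M.chkTop T i₀ = true) (hi₀ : i₀ < T.l) (hnb : Rel.Nbr T)
    (hmul : (h.relOf (R := D.steinbergRelsAB K) le_rfl (steinbergRelsAB_subset D K)).Mult)
    {c : Fin T.l → Kˣ}
    (hc : (h.relOf (R := D.steinbergRelsAB K) le_rfl (steinbergRelsAB_subset D K)).torG h hnb
      hmul c = 1) : c ⟨i₀, hi₀⟩ = 1 := by
  classical
  set L := h.relOf (R := D.steinbergRelsAB K) le_rfl (steinbergRelsAB_subset D K)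
  obtain ⟨ρ, hρ₀⟩ := M.exists_rep (K := K) hsq h hN hM hB
  have hρ : ∀ r, r < T.n → ∀ t, ρ (L.x r t) = M.xR hsq r t := hρ₀
  set E : Matrix (Fin M.N) (Fin M.N) K := toM K M.col with hE
  simp only [MinRep.chkTop, Bool.and_eq_true, List.all_eq_true, List.mem_range, Bool.or_eq_true,
    decide_eq_true_eq] at hT
  obtain ⟨⟨hoth, ht0⟩, ht1⟩ := hT
  have hzero : ∀ r, ChevOrth.chkZero (mulS (M.mat r) M.col) = true → M.mK K r * E = 0 :=
    fun r hr => by rw [mK, hE, ← toM_mulS]; exact toM_eq_zero hr
  have hh : ∀ i, i < T.l → ∀ t : Kˣ,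
      (ρ (L.hG (T.simple i) (t : K)) : Matrix (Fin M.N) (Fin M.N) K) * E =
        (if i = i₀ then (t : K) else 1) • E := by
    intro i hi t
    have hp := h.simple_lt hi
    have hm := Cert.neg_lt (T := T) hp
    rw [Rel.hG, Rel.nG, Rel.nG, map_mul, map_mul, map_mul, map_mul, map_mul]
    simp only [hρ _ hp, hρ _ hm, Units.val_mul, M.coe_xR, inv_neg, inv_one, _root_.neg_neg]
    set A := M.mK K (T.simple i)
    set A' := M.mK K (T.neg (T.simple i))
    simp only [mul_assoc]
    by_cases hii : i = i₀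
    · subst hii
      have a0 : A * E = 0 := hzero _ ht0
      have a1 : A * (A' * E) = E := by
        have := toM_eq_zero (F := K) ht1
        rw [toM_append, toM_sm, toM_mulS, toM_mulS, Int.cast_neg, Int.cast_one, neg_one_smul,
          add_neg_eq_zero, mul_assoc] at this
        exact this
      have a2 : A' * (A' * E) = 0 := by rw [← mul_assoc, M.mK_sq hsq, zero_mul]
      have ht : (t : K) ≠ 0 := t.ne_zero
      simp only [add_mul, mul_add, one_mul, mul_one, smul_mul_assoc, mul_smul_comm, a0, a1, a2,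
        smul_zero, add_zero, if_pos]
      match_scalars <;> field_simp <;> ring
    · obtain ⟨b0, b1⟩ := (hoth i hi).resolve_left hii
      have a0 : A * E = 0 := hzero _ b0
      have a1 : A' * E = 0 := hzero _ b1
      simp only [add_mul, one_mul, smul_mul_assoc, a0, a1, smul_zero, add_zero, if_neg hii,
        one_smul]
  let S : Submonoid (Fin T.l → Kˣ) :=
    { carrier := {d | (ρ (L.torG h hnb hmul d) : Matrix (Fin M.N) (Fin M.N) K) * E =
        (d ⟨i₀, hi₀⟩ : K) • E}
      one_mem' := by simp [Set.mem_ofPred_eq]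
      mul_mem' := fun {a b} ha hb => by
        simp only [Set.mem_ofPred_eq] at ha hb ⊢
        rw [map_mul, map_mul, Units.val_mul, mul_assoc, hb, mul_smul_comm, ha, smul_smul,
          Pi.mul_apply, Units.val_mul, mul_comm] }
  have hall : c ∈ S := by
    rw [← Finset.univ_prod_mulSingle c]
    refine Submonoid.prod_mem S fun i _ => ?_
    show _ = _
    rw [L.torG_single h hnb hmul, hh i.1 i.2]
    congr 1
    by_cases hii : (i : ℕ) = i₀
    · subst hii; simp
    · rw [if_neg hii, Pi.mulSingle_eq_of_ne fun e => hii (congrArg Fin.val e).symm, Units.val_one]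
  have he : (ρ (L.torG h hnb hmul c) : Matrix (Fin M.N) (Fin M.N) K) * E =
      (c ⟨i₀, hi₀⟩ : K) • E := hall
  rw [hc, map_one, Units.val_one, one_mul] at he
  refine Units.ext ?_
  have := congrFun (congrFun he M.top) M.top
  simp [hE, MinRep.col] at this
  rw [Units.val_one, this]

end MinRep

end CfsgLib.Chev
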