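import Cfsg.Agent.Lib.Chev.StUniversal

/-!
Certificates for the representative pairs, and the two general routes to the relations.
-/

set_option autoImplicit false
set_option maxRecDepth 100000

namespace CfsgLib.Chev

open Cfsg.Lie Matrix
open scoped commutatorElement

/-- One representative pair: the roots, a cocharacter and a word. -/
structure PairCert where
  r : ℕ
  s : ℕ
  v : List ℤ
  w : List ℕ

/-- A pair certificate: the error of a non-empty pair is bimultiplicative. -/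
def Tab.chkPair (T : Tab) (e : PairCert) : Bool :=
  decide (T.commTerms e.r e.s = []) || (T.chkAround e.w e.r e.s && T.chkExps e.r e.s)

/-- The cocharacter of a certificate moves exactly one of the roots, by at most `K`. -/
def Tab.chkSep (T : Tab) (K : ℕ) (e : PairCert) : Bool :=
  (decide (T.cochar e.v e.r = 0) && decide (T.cochar e.v e.s ≠ 0 ∧ (T.cochar e.v e.s).natAbs ≤ K)) ||
    (decide (T.cochar e.v e.s = 0) && decide (T.cochar e.v e.r ≠ 0 ∧ (T.cochar e.v e.r).natAbs ≤ K))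

/-- Every representative pair has a certificate. -/
def Tab.chkList (T : Tab) (C : Tab.Cover) (L : List PairCert) : Bool :=
  (C.base.all fun b => b.2.1.all fun a => decide (a = b.1 ∨ a = T.neg b.1) ||
    L.any fun e => decide (e.r = b.1 ∧ e.s = a)) &&
  L.all fun e => decide (e.r < T.n ∧ e.s < T.n ∧ e.s ≠ e.r ∧ e.s ≠ T.neg e.r) && T.chkPair e

/-- Every root is moved by at most `K` by some fundamental cocharacter. -/
def Tab.chkMove (T : Tab) (K : ℕ) : Bool :=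
  (List.range T.n).all fun r => (List.range T.l).any fun j =>
    decide (T.car j r ≠ 0 ∧ (T.car j r).natAbs ≤ K)

/-- Enough units for exponents up to `K`. -/
def Units.Enough (F : Type*) [Field F] (K : ℕ) : Prop :=
  ∀ k : ℤ, k ≠ 0 → k.natAbs ≤ K → ∃ c : Fˣ, (c : F) ^ k ≠ 1

theorem Tab.exists_chi_ne_one (T : Tab) {F : Type*} [Field F] {K : ℕ} (hK : Units.Enough F K)
    (hM : T.chkMove K = true) {r : ℕ} (hr : r < T.n) :
    ∃ w : Fin T.l → Fˣ, chi T w r ≠ 1 := by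
  simp only [Tab.chkMove, List.all_eq_true, List.mem_range, List.any_eq_true,
    decide_eq_true_eq] at hM
  obtain ⟨j, hj, hne, hle⟩ := hM r hr
  obtain ⟨c, hc⟩ := hK _ hne hle
  refine ⟨powParam T c ((List.range T.l).map fun m => if m = j then 1 else 0), ?_⟩
  rw [chi_powParam, Tab.cochar, show ((List.range T.l).map fun m =>
    ((List.range T.l).map fun m => if m = j then (1 : ℤ) else 0).getD m 0 * T.car m r).sum =
      T.car j r from ?_]
  · exact hc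
  show ∑ m ∈ Finset.range T.l, _ = _
  rw [Finset.sum_eq_single j]
  · simp [hj]
  · intro m hm hmj
    simp [Finset.mem_range.1 hm, hmj]
  · intro hn
    exact absurd (Finset.mem_range.2 hj) hn

namespace Ext

variable {D : ChevalleyDatum} {F : Type*} [Field F] {E : Type*} [Group E] (Y : Ext D F E)
variable {T : Tab} {C : Tab.Cover} (h : Cert D T C)
include h

omit h in
lemma exists_kill_param {K : ℕ} (hK : Units.Enough F K) {e : PairCert}
    (hS : T.chkSep K e = true) : ∃ w : Fin T.l → Fˣ,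
      chi T w e.r ≠ 1 ∧ chi T w e.s = 1 ∨ chi T w e.r = 1 ∧ chi T w e.s ≠ 1 := by
  simp only [Tab.chkSep, Bool.or_eq_true, Bool.and_eq_true, decide_eq_true_eq] at hS
  rcases hS with ⟨h0, hne, hle⟩ | ⟨h0, hne, hle⟩ <;> obtain ⟨c, hc⟩ := hK _ hne hle <;>
    refine ⟨powParam T c e.v, ?_⟩
  · exact Or.inr ⟨by rw [chi_powParam, h0, _root_.zpow_zero], by rw [chi_powParam]; exact hc⟩
  · exact Or.inl ⟨by rw [chi_powParam]; exact hc, by rw [chi_powParam, h0, _root_.zpow_zero]⟩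

/-- Assembly: a way to kill each representative pair gives the relations. -/
theorem rel_of_list' {L : List PairCert} (hL : T.chkList C L = true) (P : Y.Canon T → Prop)
    (hkill : ∀ e ∈ L, ((∀ t u : F, Commute (X D e.r t) (X D e.s u)) → Y.Z e.r e.s) ∧
      (T.commTerms e.r e.s ≠ [] → ∀ K : Y.Canon T, P K → K.Good e.r e.s))
    (hcanon : (∀ r < T.n, ∀ s < T.n, s ≠ r → s ≠ T.neg r →
      (∀ t u : F, Commute (X D r t) (X D s u)) → Y.Z r s) → ∃ K : Y.Canon T, P K) :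
    ∃ R : Rel D T F E, R.π = Y.θ := by
  simp only [Tab.chkList, Bool.and_eq_true, Bool.or_eq_true, List.all_eq_true, List.any_eq_true,
    decide_eq_true_eq] at hL
  obtain ⟨hcov, hok⟩ := hL
  have find : ∀ b ∈ C.base, ∀ a ∈ b.2.1, a ≠ b.1 → a ≠ T.neg b.1 →
      ∃ e ∈ L, e.r = b.1 ∧ e.s = a := fun b hb a ha n1 n2 =>
    (hcov b hb a ha).resolve_left (not_or.2 ⟨n1, n2⟩)
  have hZ : ∀ r < T.n, ∀ s < T.n, s ≠ r → s ≠ T.neg r →
      (∀ t u : F, Commute (X D r t) (X D s u)) → Y.Z r s := by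
    intro r hr s hs hne hneg hc
    refine h.pair_induction
      (P := fun r s => (∀ t u : F, Commute (X D r t) (X D s u)) → Y.Z r s)
      (fun i r s hi hr hs _ _ _ ih hc' => ?_) (fun b hb a ha n1 n2 => ?_) hr hs hne hneg hc
    · have hc0 : ∀ t u : F, Commute (X D r t) (X D s u) := by
        have := commute_refl h (F := F) hi (h.refl_lt hi hr) (h.refl_lt hi hs) hc'
        rwa [h.refl_refl hi hr, h.refl_refl hi hs] at this
      exact Y.Z_refl h hi hr hs hc0 (ih hc0)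
    · obtain ⟨e, he, e1, e2⟩ := find b hb a ha n1 n2
      rw [← e1, ← e2]
      exact (hkill e he).1
  obtain ⟨K, hP⟩ := hcanon hZ
  refine K.exists_rel h hZ fun b hb a ha hT => ?_
  have hne : a ≠ b.1 ∧ a ≠ T.neg b.1 := by
    have hbn := h.base_lt hb
    by_cases he : T.entry b.1 a = []
    · exfalso
      have h0 := h.coverOk
      simp only [Tab.chkCover, Bool.and_eq_true, List.all_eq_true, decide_eq_true_eq] at h0
      have han : a < T.n := ((h0.2.1 b hb).2.2.2 a ha).1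
      have hba : T.entry a b.1 = [] := by
        by_contra hne
        exact (h.chain_spec han hbn hne).2.2.1 he
      exact hT (by simp [Tab.commTerms, Tab.chainRoot, he, hba])
    · have h0 := h.coverOk
      simp only [Tab.chkCover, Bool.and_eq_true, List.all_eq_true, decide_eq_true_eq] at h0
      have han : a < T.n := ((h0.2.1 b hb).2.2.2 a ha).1
      exact ⟨(h.chain_spec hbn han he).1, (h.chain_spec hbn han he).2.1⟩
  obtain ⟨e, he, e1, e2⟩ := find b hb a ha hne.1 hne.2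
  rw [← e1, ← e2] at hT ⊢
  exact (hkill e he).2 hT K hP

/-- Assembly with any canonical lifts. -/
theorem rel_of_list {L : List PairCert} (hL : T.chkList C L = true)
    (hkill : ∀ e ∈ L, ((∀ t u : F, Commute (X D e.r t) (X D e.s u)) → Y.Z e.r e.s) ∧
      (T.commTerms e.r e.s ≠ [] → ∀ K : Y.Canon T, K.Good e.r e.s))
    (hcanon : (∀ r < T.n, ∀ s < T.n, s ≠ r → s ≠ T.neg r →
      (∀ t u : F, Commute (X D r t) (X D s u)) → Y.Z r s) → Nonempty (Y.Canon T)) :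
    ∃ R : Rel D T F E, R.π = Y.θ :=
  Y.rel_of_list' h hL (fun _ => True)
    (fun e he => ⟨(hkill e he).1, fun hT K _ => (hkill e he).2 hT K⟩)
    fun hZ => (hcanon hZ).elim fun K => ⟨K, trivial⟩

/-- Route through the torus. -/
theorem rel_of_torus {N : ℕ} (hN : Units.Enough F N) {L : List PairCert}
    (hL : T.chkList C L = true) (hS : ∀ e ∈ L, T.chkSep N e = true) (hM : T.chkMove N = true)
    (hself : (∀ r < T.n, ∀ s < T.n, s ≠ r → s ≠ T.neg r →
      (∀ t u : F, Commute (X D r t) (X D s u)) → Y.Z r s) → ∀ r < T.n, Y.Z r r) :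
    ∃ R : Rel D T F E, R.π = Y.θ := by
  refine Y.rel_of_list h hL (fun e he => ?_) fun hZ =>
    Y.exists_canon_of_torus h (fun r hr => T.exists_chi_ne_one hN hM hr) (hself hZ)
  have hb : e.r < T.n ∧ e.s < T.n ∧ e.s ≠ e.r ∧ e.s ≠ T.neg e.r := by
    simp only [Tab.chkList, Bool.and_eq_true, List.all_eq_true, decide_eq_true_eq] at hL
    exact (hL.2 e he).1
  obtain ⟨w, hw⟩ := exists_kill_param hN (hS e he)
  refine ⟨fun hc => Y.Z_of_torus h hb.1 hb.2.1 hc w hw, fun hT K => ?_⟩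
  have hp : T.chkPair e = true := by
    simp only [Tab.chkList, Bool.and_eq_true, List.all_eq_true] at hL
    exact (hL.2 e he).2
  simp only [Tab.chkPair, Bool.or_eq_true, Bool.and_eq_true, decide_eq_true_eq] at hp
  obtain ⟨ha, hx⟩ := hp.resolve_left hT
  exact K.good_of_kill h hb.1 hb.2.1 hb.2.2.1 hb.2.2.2 ha hx (Y.kill_of_torus w hw)

end Ext

/-- Certificates of type G2. -/
def pairsStG2 : List PairCert :=
  [⟨9, 0, [-1, 0], [1, 0, 1]⟩, ⟨9, 3, [0, -1], [0, 1]⟩, ⟨9, 5, [2, 3], []⟩, ⟨9, 7, [0, -1], []⟩,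
    ⟨9, 10, [0, -1], []⟩, ⟨11, 1, [1, 3], [1, 0]⟩, ⟨11, 2, [-1, 0], [0, 1, 0]⟩, ⟨11, 4, [1, 2], []⟩,
    ⟨11, 6, [2, 3], []⟩, ⟨11, 8, [-1, 0], []⟩]

/-- Certificates of type B2. -/
def pairsStB2 : List PairCert :=
  [⟨6, 0, [0, -1], [1, 0]⟩, ⟨6, 2, [1, 2], [0]⟩, ⟨6, 4, [1, 1], []⟩, ⟨7, 1, [0, -1], [0, 1]⟩,
    ⟨7, 3, [1, 1], []⟩, ⟨7, 5, [0, -1], []⟩]

/-- Certificates of type D4. -/
def pairsStD4 : List PairCert :=
  [⟨23, 1, [-1, 0, 0, 0], [3, 1, 2, 0]⟩, ⟨23, 5, [-1, 0, 0, 0], []⟩, ⟨23, 10, [0, 0, -1, 0], []⟩,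
    ⟨23, 11, [0, 0, 0, -1], []⟩, ⟨23, 14, [-1, 0, 0, 0], []⟩]

/-- Certificates of type F4. -/
def pairsStF4 : List PairCert :=
  [⟨44, 0, [0, 0, 0, -1], [3, 2, 1, 2, 0, 1, 2, 3]⟩, ⟨44, 7, [0, -1, 0, 0], [1, 2, 3, 0, 1, 2, 1]⟩,
    ⟨44, 15, [0, 0, -1, 0], []⟩, ⟨44, 18, [0, 0, 0, -1], [1, 2, 3]⟩, ⟨44, 33, [0, -1, 0, 0], []⟩,
    ⟨44, 41, [0, 0, 0, -1], []⟩, ⟨47, 1, [0, 0, -1, 0], [3, 2, 1, 2, 0, 1, 2]⟩,
    ⟨47, 3, [-1, 0, 0, 0], [1, 2, 3, 0, 1, 2, 1, 0]⟩, ⟨47, 6, [1, 0, 0, 2], []⟩,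
    ⟨47, 10, [0, -1, 0, 0], []⟩, ⟨47, 24, [0, 0, -1, 0], []⟩, ⟨47, 29, [-1, 0, 0, 0], []⟩]

/-- Certificates of type E6. -/
def pairsStE6 : List PairCert :=
  [⟨71, 1, [0, 0, 0, -1, 0, 0], [5, 4, 3, 2, 1, 3, 4, 0, 2, 3]⟩,
    ⟨71, 11, [-1, 0, 0, 0, 0, 0], []⟩, ⟨71, 46, [0, 0, 0, -1, 0, 0], []⟩]

/-- Certificates of type E7. -/
def pairsStE7 : List PairCert :=
  [⟨125, 1, [0, 0, -1, 0, 0, 0, 0], [6, 5, 4, 3, 2, 1, 3, 4, 5, 0, 2, 3, 4, 1, 3, 2]⟩,
    ⟨125, 33, [0, 0, 0, 0, 0, -1, 0], []⟩, ⟨125, 93, [0, 0, -1, 0, 0, 0, 0], []⟩]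

/-- Certificates of type E8. -/
def pairsStE8 : List PairCert :=
  [⟨239, 1, [0, 0, 0, 0, 0, 0, -1, 0],
      [7, 6, 5, 4, 3, 2, 1, 3, 4, 5, 6, 0, 2, 3, 4, 5, 1, 3, 4, 2, 3, 0, 2, 1, 3, 4, 5, 6]⟩,
    ⟨239, 13, [-1, 0, 0, 0, 0, 0, 0, 0], []⟩, ⟨239, 120, [0, 0, 0, 0, 0, 0, -1, 0], []⟩]

theorem pairsStG2_ok : tabG2.chkList coverG2 pairsStG2 = true ∧
    (pairsStG2.all fun e => tabG2.chkSep 3 e) = true ∧ tabG2.chkMove 2 = true := by
  refine ⟨?_, ?_, ?_⟩ <;> decide +kernel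

theorem pairsStB2_ok : tabB2.chkList coverB2 pairsStB2 = true ∧
    (pairsStB2.all fun e => tabB2.chkSep 2 e) = true ∧ tabB2.chkMove 2 = true := by
  refine ⟨?_, ?_, ?_⟩ <;> decide +kernel

theorem pairsStD4_ok : tabD4.chkList coverD4 pairsStD4 = true ∧
    (pairsStD4.all fun e => tabD4.chkSep 2 e) = true ∧ tabD4.chkMove 1 = true := by
  refine ⟨?_, ?_, ?_⟩ <;> decide +kernel

theorem pairsStF4_ok : tabF4.chkList coverF4 pairsStF4 = true ∧
    (pairsStF4.all fun e => tabF4.chkSep 2 e) = true ∧ tabF4.chkMove 1 = true := by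
  refine ⟨?_, ?_, ?_⟩ <;> decide +kernel

theorem pairsStE6_ok : tabE6.chkList coverE6 pairsStE6 = true ∧
    (pairsStE6.all fun e => tabE6.chkSep 1 e) = true ∧ tabE6.chkMove 1 = true := by
  refine ⟨?_, ?_, ?_⟩ <;> decide +kernel

theorem pairsStE7_ok : tabE7.chkList coverE7 pairsStE7 = true ∧
    (pairsStE7.all fun e => tabE7.chkSep 1 e) = true ∧ tabE7.chkMove 1 = true := by
  refine ⟨?_, ?_, ?_⟩ <;> decide +kernel

theorem pairsStE8_ok : tabE8.chkList coverE8 pairsStE8 = true ∧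
    (pairsStE8.all fun e => tabE8.chkSep 1 e) = true ∧ tabE8.chkMove 1 = true := by
  refine ⟨?_, ?_, ?_⟩ <;> decide +kernel

end CfsgLib.Chev
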