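import Cfsg.Agent.Lib.Chev.StSmallTypes

/-!
Central extensions over the field with three elements: D4, F4 and the E types.
-/

set_option autoImplicit false
set_option maxRecDepth 100000

namespace CfsgLib.Chev

open Cfsg.Lie Matrix
open scoped commutatorElement

namespace Ext

variable {D : ChevalleyDatum} {F : Type*} [Field F] {E : Type*} [Group E] (Y : Ext D F E)
variable {T : Tab} {C : Tab.Cover} (h : Cert D T C)
include h

/-- The torus route with some commuting pairs given separately. -/
theorem rel_of_torus_or {N : ℕ} (hN : Units.Enough F N) {L : List PairCert}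
    (hL : T.chkList C L = true)
    (hS : ∀ e ∈ L, T.chkSep N e = true ∨ (T.commTerms e.r e.s = [] ∧ Y.Z e.r e.s))
    (hM : T.chkMove N = true) (hself : ∀ r < T.n, Y.Z r r) :
    ∃ R : Rel D T F E, R.π = Y.θ := by
  refine Y.rel_of_list h hL (fun e he => ?_) fun _ =>
    Y.exists_canon_of_torus h (fun r hr => T.exists_chi_ne_one hN hM hr) hself
  simp only [Tab.chkList, Bool.and_eq_true, List.all_eq_true, decide_eq_true_eq] at hL
  obtain ⟨⟨b1, b2, b3, b4⟩, hpair⟩ := hL.2 e he
  rcases hS e he with hs | ⟨hT, hZ⟩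
  · obtain ⟨w, hw⟩ := exists_kill_param hN hs
    refine ⟨fun hc => Y.Z_of_torus h b1 b2 hc w hw, fun hT K => ?_⟩
    simp only [Tab.chkPair, Bool.or_eq_true, Bool.and_eq_true, decide_eq_true_eq] at hpair
    obtain ⟨ha, hx⟩ := hpair.resolve_left hT
    exact K.good_of_kill h b1 b2 b3 b4 ha hx (Y.kill_of_torus w hw)
  · exact ⟨fun _ => hZ, fun hT' => absurd hT hT'⟩

end Ext

/-- Three elements: D4, F4 and the E types. -/
theorem rel_three.{a, b} {K : Type a} [Field K] [Fintype K] (hF : Fintype.card K = 3)
    {D : ChevalleyDatum} (hD : D ∈ [chevD4, chevF4, chevE6, chevE7, chevE8]) :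
    ∃ T C, Cert D T C ∧ Rel.Nbr T ∧
      ∀ (Z : Type b) [Group Z] (Y : Ext D K Z), ∃ L : Rel D T K Z, L.π = Y.θ := by
  have : CharP K 3 := charP_of_card Nat.prime_three (k := 1) (by rw [hF, pow_one])
  have E1 : Units.Enough K 1 := Units.enough_of_fintype (by omega)
  have hprime := natCast_surjective_of_card (F := K) hF
  simp only [List.mem_cons, List.not_mem_nil, or_false] at hD
  rcases hD with rfl | rfl | rfl | rfl | rfl
  · refine ⟨_, _, certD4, by unfold Rel.Nbr; decide +kernel, fun Z _ Y => ?_⟩
    refine Y.rel_of_torus_or certD4 E1 pairsStD4_ok.1 (fun e he => ?_) pairsStD4_ok.2.2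
      fun r hr => Y.Z_self_of_prime certD4 hr hprime
    have hswap : ∀ s ∈ [5, 10, 11], ∀ w : List ℕ, (w.all fun i => decide (i < tabD4.l)) = true →
        tabD4.chkZero 3 23 s = true → rword tabD4 w 23 = s → rword tabD4 w s = 23 →
        tabD4.etaW w 23 * tabD4.etaW w s = 1 → Y.Z 23 s := by
      intro s _ w hw hz h1 h2 h3
      have hb : 23 < tabD4.n ∧ s < tabD4.n := by
        simp only [Tab.chkZero, Bool.and_eq_true, decide_eq_true_eq] at hz
        exact ⟨hz.1.1, hz.1.2.1⟩
      exact Y.Z_of_swap certD4 (p := 3) (by decide) hprime hb.1 hb.2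
        (Ext.commute_of_chkZero certD4 hz)
        (fun i hi => by simpa using List.all_eq_true.1 hw i hi) h1 h2 h3
    simp only [pairsStD4, List.mem_cons, List.not_mem_nil, or_false] at he
    rcases he with rfl | rfl | rfl | rfl | rfl
    · exact Or.inl (by decide +kernel)
    · exact Or.inr ⟨by decide +kernel, hswap 5 (by simp) [0, 1, 3, 2, 1, 0] (by decide +kernel)
        (by decide +kernel) (by decide +kernel) (by decide +kernel) (by decide +kernel)⟩
    · exact Or.inr ⟨by decide +kernel, hswap 10 (by simp) [2, 1, 3, 0, 1, 2] (by decide +kernel)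
        (by decide +kernel) (by decide +kernel) (by decide +kernel) (by decide +kernel)⟩
    · exact Or.inr ⟨by decide +kernel, hswap 11 (by simp) [3, 1, 2, 0, 1, 3] (by decide +kernel)
        (by decide +kernel) (by decide +kernel) (by decide +kernel) (by decide +kernel)⟩
    · exact Or.inl (by decide +kernel)
  · refine ⟨_, _, certF4, by unfold Rel.Nbr; decide +kernel, fun Z _ Y => ?_⟩
    refine Y.rel_of_torus_or certF4 E1 pairsStF4_ok.1 (fun e he => ?_) pairsStF4_ok.2.2
      fun r hr => Y.Z_self_of_prime certF4 hr hprime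
    have h476 : Y.Z 47 6 := Y.Z_of_chkSplit certF4 (p := 3) (a := 10) (b := 14) (by decide +kernel)
      fun d hd => absurd hd (by
        rw [show (tabF4.commTerms 10 14).tail = [] by decide +kernel]; exact List.not_mem_nil)
    simp only [pairsStF4, List.mem_cons, List.not_mem_nil, or_false] at he
    rcases he with rfl | rfl | rfl | rfl | rfl | rfl | rfl | rfl | rfl | rfl | rfl | rfl
    · exact Or.inl (by decide +kernel)
    · exact Or.inl (by decide +kernel)
    · exact Or.inl (by decide +kernel)
    · exact Or.inl (by decide +kernel)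
    · exact Or.inl (by decide +kernel)
    · exact Or.inl (by decide +kernel)
    · exact Or.inl (by decide +kernel)
    · exact Or.inl (by decide +kernel)
    · exact Or.inr ⟨by decide +kernel, h476⟩
    · exact Or.inl (by decide +kernel)
    · exact Or.inl (by decide +kernel)
    · exact Or.inl (by decide +kernel)
  · refine ⟨_, _, certE6, by unfold Rel.Nbr; decide +kernel, fun Z _ Y => ?_⟩
    exact Y.rel_of_torus certE6 E1 pairsStE6_ok.1 (List.all_eq_true.1 pairsStE6_ok.2.1)
      pairsStE6_ok.2.2 fun _ r hr => Y.Z_self_of_prime certE6 hr hprime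
  · refine ⟨_, _, certE7, by unfold Rel.Nbr; decide +kernel, fun Z _ Y => ?_⟩
    exact Y.rel_of_torus certE7 E1 pairsStE7_ok.1 (List.all_eq_true.1 pairsStE7_ok.2.1)
      pairsStE7_ok.2.2 fun _ r hr => Y.Z_self_of_prime certE7 hr hprime
  · refine ⟨_, _, certE8, by unfold Rel.Nbr; decide +kernel, fun Z _ Y => ?_⟩
    exact Y.rel_of_torus certE8 E1 pairsStE8_ok.1 (List.all_eq_true.1 pairsStE8_ok.2.1)
      pairsStE8_ok.2.2 fun _ r hr => Y.Z_self_of_prime certE8 hr hprime

end CfsgLib.Chev
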