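import Cfsg.Agent.Lib.Chev.StPresent
import Cfsg.Agent.Lib.Chev.OrderData
import Mathlib.GroupTheory.NoncommPiCoprod

/-!
With the relations (R3) the group of the `h_p(t)` is an image of a power of the multiplicative group.
-/

set_option autoImplicit false
set_option maxRecDepth 100000

namespace CfsgLib.Chev

open Cfsg.Lie Matrix

namespace Rel

variable {D : ChevalleyDatum} {T : Tab} {F : Type*} [Field F] {Γ : Type*} [Group Γ]

/-- The relations (R3) at the simple roots. -/
def Mult (L : Rel D T F Γ) : Prop :=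
  ∀ i < T.l, ∀ s t : F, s ≠ 0 → t ≠ 0 →
    L.hG (T.simple i) s * L.hG (T.simple i) t = L.hG (T.simple i) (s * t)

variable (L : Rel D T F Γ) {C : Tab.Cover} (h : Cert D T C) (hnb : Nbr T) (hmul : L.Mult)
include h hnb hmul

lemma hG_comm {i k : ℕ} (hi : i < T.l) (hk : k < T.l) {s t : F} (hs : s ≠ 0) (ht : t ≠ 0) :
    Commute (L.hG (T.simple k) t) (L.hG (T.simple i) s) := by
  have hgH : L.hG (T.simple k) t ∈ L.HH := Subgroup.subset_closure ⟨k, t, hk, ht, rfl⟩
  obtain ⟨c, hc, e⟩ := L.conj_nG h hnb (L.HH_le h hgH) hi (h.simple_lt hi)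
    (L.moves_HH h hnb hgH (h.simple_lt hi))
  have e2 : L.hG (T.simple k) t * L.hG (T.simple i) s * (L.hG (T.simple k) t)⁻¹ =
      L.hG (T.simple i) s := by
    have a : L.hG (T.simple i) (c * s) = L.hG (T.simple i) c * L.hG (T.simple i) s :=
      (hmul i hi c s hc hs).symm
    have b : L.hG (T.simple i) s * L.hG (T.simple i) c = L.hG (T.simple i) (c * s) := by
      rw [hmul i hi s c hs hc, mul_comm]
    calc L.hG (T.simple k) t * L.hG (T.simple i) s * (L.hG (T.simple k) t)⁻¹
        = L.nG (T.simple i) (c * s) * L.nG (T.simple i) (c * -1) := by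
          rw [← e s, ← e (-1),
            show L.hG (T.simple i) s = L.nG (T.simple i) s * L.nG (T.simple i) (-1) from rfl]
          group
      _ = L.hG (T.simple i) (c * s) * (L.hG (T.simple i) c)⁻¹ := by
          rw [mul_neg_one, ← L.nG_inv h hi, hG, hG, _root_.mul_inv_rev]; group
      _ = L.hG (T.simple i) s := by rw [← b, mul_inv_cancel_right]
  exact mul_inv_eq_iff_eq_mul.1 e2

/-- `t ↦ h_p(t)` on units. -/
noncomputable def hHom (i : Fin T.l) : Fˣ →* Γ :=
  MonoidHom.mk' (fun u => L.hG (T.simple i) (u : F)) fun u v => by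
    rw [Units.val_mul, hmul i i.2 _ _ u.ne_zero v.ne_zero]

/-- The parameters to the torus. -/
noncomputable def torG : (Fin T.l → Fˣ) →* Γ :=
  MonoidHom.noncommPiCoprod (L.hHom hmul) fun i j _ u v =>
    L.hG_comm h hnb hmul j.2 i.2 v.ne_zero u.ne_zero

lemma torG_single (i : Fin T.l) (u : Fˣ) :
    L.torG h hnb hmul (Pi.mulSingle i u) = L.hG (T.simple i) (u : F) :=
  MonoidHom.noncommPiCoprod_mulSingle (ϕ := L.hHom hmul) (hcomm := fun a b _ x y => L.hG_comm h hnb hmul b.2 a.2 y.ne_zero x.ne_zero) i u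

lemma HH_le_range : L.HH ≤ (L.torG h hnb hmul).range := by
  refine (Subgroup.closure_le _).2 ?_
  rintro _ ⟨i, t, hi, ht, rfl⟩
  refine ⟨Pi.mulSingle (⟨i, hi⟩ : Fin T.l) (Units.mk0 t ht), ?_⟩
  rw [L.torG_single h hnb hmul]
  rfl

lemma π_torG (c : Fin T.l → Fˣ) :
    L.π (L.torG h hnb hmul c) = Cert.torusHom (D := D) (T := T) (F := F) c := by
  suffices (L.π.comp (L.torG h hnb hmul)) = Cert.torusHom (D := D) (T := T) (F := F) from
    DFunLike.congr_fun this c
  refine MonoidHom.pi_ext fun i u => ?_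
  rw [MonoidHom.comp_apply, L.torG_single h hnb hmul]
  show L.π (L.hG (T.simple i) (u : F)) = _
  rw [L.π_hG h hnb i.2]
  refine Units.ext ?_
  rw [h.coe_hU, h.hMat_root (h.simple_lt i.2) u.ne_zero]
  show torus D _ = torus D (charOf T (Cert.extC T (Pi.mulSingle i u)))
  refine torus_congr D fun s _ => ?_
  rw [h.pairing_simple i.2, charOf, Finset.prod_eq_single (i : ℕ)]
  · simp [Cert.extC, i.2]
  · intro j hj hne
    have hj' := Finset.mem_range.1 hj
    have : (⟨j, hj'⟩ : Fin T.l) ≠ i := fun e => hne (congrArg Fin.val e)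
    simp [Cert.extC, hj', Pi.mulSingle_eq_of_ne this]
  · intro hni
    exact absurd (Finset.mem_range.2 i.2) hni

/-- The kernel is the image of the kernel of the Cartan matrix. -/
theorem ker_le_map : L.π.ker ≤
    (matHom (G := Fˣ) (cartanT T)).ker.map (L.torG h hnb hmul) := by
  intro z hz
  obtain ⟨c, rfl⟩ := L.HH_le_range h hnb hmul (L.ker_le_HH h hnb hz)
  refine ⟨c, ?_, rfl⟩
  rw [← h.ker_torusHom (F := F)]
  rw [MonoidHom.mem_ker, L.π_torG h hnb hmul] at hz
  exact hz

/-- A unimodular Cartan matrix gives trivial centre. -/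
theorem center_eq_bot {U Ui V Vi : Matrix (Fin T.l) (Fin T.l) ℤ} (hU : U * Ui = 1)
    (hV : V * cartanT T * U = 1) : Subgroup.center Γ = ⊥ := by
  rw [← L.ker_eq_center h hnb, eq_bot_iff]
  refine le_trans (L.ker_le_map h hnb hmul) ?_
  rintro _ ⟨c, hc, rfl⟩
  have hc' : matHom (cartanT T) c = 1 := hc
  have e : c = matHom (G := Fˣ) (U * V * cartanT T) c := by
    rw [show U * V * cartanT T = 1 from ?_, matHom_one]
    have := congrArg (fun M => U * M * Ui) hV
    simpa [Matrix.mul_assoc, hU] using this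
  rw [Subgroup.mem_bot, e, matHom_mul, hc', map_one, map_one]

end Rel

namespace Cert

variable {D : ChevalleyDatum} {T : Tab} {C : Tab.Cover} (h : Cert D T C) {K : Type*} [Field K]
include h

lemma relOf_mult : (h.relOf (steinbergRelsAB_subset D K) le_rfl).Mult := by
  intro i hi s t hs ht
  have hp := h.simple_lt hi
  have hm : D.stH (T.simple i) s * D.stH (T.simple i) t * (D.stH (T.simple i) (s * t))⁻¹ ∈
      D.steinbergRels K :=
    Or.inr ⟨T.simple i, s, t, by rw [h.nroots_eq]; exact hp, hs, ht, rfl⟩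
  have e := PresentedGroup.one_of_mem hm
  rw [map_mul, map_mul, map_inv, mul_inv_eq_one] at e
  rw [h.relOf_hG _ _ hp, h.relOf_hG _ _ hp, h.relOf_hG _ _ hp]
  exact e

end Cert

variable {K : Type*} [Field K]

theorem center_steinberg_G2 : Subgroup.center (chevG2.SteinbergGroup K) = ⊥ :=
  (certG2.relOf (steinbergRelsAB_subset chevG2 K) le_rfl).center_eq_bot certG2
    (by unfold Rel.Nbr; decide +kernel) certG2.relOf_mult
    (U := matOf _ snfUG2) (Ui := matOf _ snfUiG2) (V := matOf _ snfVG2) (Vi := matOf _ snfViG2)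
    (by decide +kernel) (by decide +kernel)

theorem center_steinberg_F4 : Subgroup.center (chevF4.SteinbergGroup K) = ⊥ :=
  (certF4.relOf (steinbergRelsAB_subset chevF4 K) le_rfl).center_eq_bot certF4
    (by unfold Rel.Nbr; decide +kernel) certF4.relOf_mult
    (U := matOf _ snfUF4) (Ui := matOf _ snfUiF4) (V := matOf _ snfVF4) (Vi := matOf _ snfViF4)
    (by decide +kernel) (by decide +kernel)

theorem center_steinberg_E8 : Subgroup.center (chevE8.SteinbergGroup K) = ⊥ :=
  (certE8.relOf (steinbergRelsAB_subset chevE8 K) le_rfl).center_eq_bot certE8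
    (by unfold Rel.Nbr; decide +kernel) certE8.relOf_mult
    (U := matOf _ snfUE8) (Ui := matOf _ snfUiE8) (V := matOf _ snfVE8) (Vi := matOf _ snfViE8)
    (by decide +kernel) (by decide +kernel)

end CfsgLib.Chev
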