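import Cfsg.Agent.Lib.Chev.StComm

/-!
From lifts of the relations to universality among central extensions.
-/

set_option autoImplicit false
set_option maxRecDepth 100000

namespace CfsgLib.Chev

open Cfsg.Lie Matrix
open scoped commutatorElement

universe u v

/-- Two maps of a perfect group which differ by central elements agree. -/
theorem hom_eq_of_perfect {P H G : Type*} [Group P] [Group H] [Group G]
    (hP : commutator P = ⊤) (π : H →* G) (hc : π.ker ≤ Subgroup.center H) (f g : P →* H)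
    (e : π.comp f = π.comp g) : f = g := by
  have hz : ∀ a, (g a)⁻¹ * f a ∈ Subgroup.center H := fun a => hc (MonoidHom.mem_ker.2 (by
    rw [map_mul, map_inv, show π (f a) = π (g a) from DFunLike.congr_fun e a, inv_mul_cancel]))
  let δ : P →* Subgroup.center H := MonoidHom.mk' (fun a => ⟨(g a)⁻¹ * f a, hz a⟩) fun a b =>
    Subtype.ext <| by
      show (g (a * b))⁻¹ * f (a * b) = (g a)⁻¹ * f a * ((g b)⁻¹ * f b)
      rw [map_mul, map_mul, _root_.mul_inv_rev,
        ← (Subgroup.mem_center_iff.1 (hz a) ((g b)⁻¹ * f b))]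
      calc (g b)⁻¹ * (g a)⁻¹ * (f a * f b) = (g b)⁻¹ * ((g a)⁻¹ * f a) * f b := by group
        _ = ((g a)⁻¹ * f a) * (g b)⁻¹ * f b := by
          rw [← (Subgroup.mem_center_iff.1 (hz a) (g b)⁻¹)]
        _ = (g b)⁻¹ * f b * ((g a)⁻¹ * f a) := by
          rw [mul_assoc, ← (Subgroup.mem_center_iff.1 (hz a) ((g b)⁻¹ * f b))]
  have hδ : δ.ker = ⊤ := by
    rw [eq_top_iff, ← hP]
    rw [commutator_def, Subgroup.commutator_le]
    intro a _ b _
    rw [MonoidHom.mem_ker, map_commutatorElement, commutatorElement_eq_one_iff_mul_comm]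
    exact Subtype.ext (Subgroup.mem_center_iff.1 (δ b).2 (δ a).1)
  refine MonoidHom.ext fun a => ?_
  have : δ a = 1 := MonoidHom.mem_ker.1 (hδ.symm ▸ Subgroup.mem_top a)
  exact (inv_mul_eq_one.1 (congrArg Subtype.val this)).symm

/-- Over a group with a surjection with central kernel onto a perfect group, the commutator
subgroup is perfect. -/
theorem commutator_perfect_of_central {P Q : Type*} [Group P] [Group Q] (q : P →* Q)
    (hq : Function.Surjective q) (hc : q.ker ≤ Subgroup.center P) (hQ : commutator Q = ⊤) :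
    commutator ↥(commutator P) = ⊤ ∧ ∀ y, ∃ a ∈ commutator P, q a = y := by
  have hsurj : ∀ y, ∃ a ∈ commutator P, q a = y := fun y => by
    have hy : y ∈ (commutator P).map q := by
      rw [commutator_def, Subgroup.map_commutator, Subgroup.map_top_of_surjective q hq,
        ← commutator_def, hQ]
      exact Subgroup.mem_top y
    exact hy
  refine ⟨?_, hsurj⟩
  have hsub : commutator P ≤ ⁅commutator P, commutator P⁆ := by
    rw [commutator_def, Subgroup.commutator_le]
    intro a _ b _
    obtain ⟨a', ha', ea⟩ := hsurj (q a)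
    obtain ⟨b', hb', eb⟩ := hsurj (q b)
    have key : ∀ g g' : P, q g = q g' → ∀ y, g * y * g⁻¹ = g' * y * g'⁻¹ := fun g g' e y => by
      have hz : g'⁻¹ * g ∈ Subgroup.center P := hc (MonoidHom.mem_ker.2 (by
        rw [map_mul, map_inv, e, inv_mul_cancel]))
      calc g * y * g⁻¹ = g' * (g'⁻¹ * g * y) * g⁻¹ := by group
        _ = g' * (y * (g'⁻¹ * g)) * g⁻¹ := by rw [← Subgroup.mem_center_iff.1 hz y]
        _ = g' * y * g'⁻¹ := by group
    have e1 : ⁅a, b⁆ = ⁅a', b⁆ := by
      rw [commutatorElement_def, commutatorElement_def, key a a' ea.symm]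
    have e2 : ⁅b, a'⁆ = ⁅b', a'⁆ := by
      rw [commutatorElement_def, commutatorElement_def, key b b' eb.symm]
    rw [e1, ← commutatorElement_inv b a', e2, commutatorElement_inv]
    exact Subgroup.commutator_mem_commutator ha' hb'
  apply Subgroup.map_injective (commutator P).subtype_injective
  rw [Subgroup.map_subtype_commutator, ← MonoidHom.range_eq_map, Subgroup.range_subtype]
  exact le_antisymm (Subgroup.commutator_le_self _) hsub

/-- An element commuting with a perfect group up to the centre is central. -/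
theorem central_of_perfect {P : Type*} [Group P] (hP : commutator P = ⊤) {z : P}
    (hz : ∀ y, ⁅z, y⁆ ∈ Subgroup.center P) : z ∈ Subgroup.center P := by
  let δ : P →* Subgroup.center P := MonoidHom.mk' (fun y => ⟨⁅z, y⁆, hz y⟩) fun a b =>
    Subtype.ext <| by
      show ⁅z, a * b⁆ = ⁅z, a⁆ * ⁅z, b⁆
      calc ⁅z, a * b⁆ = ⁅z, a⁆ * (a * ⁅z, b⁆ * a⁻¹) := by
            simp only [commutatorElement_def]; group
        _ = _ := by rw [Subgroup.mem_center_iff.1 (hz b) a, mul_inv_cancel_right]
  have hδ : δ.ker = ⊤ := by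
    rw [eq_top_iff, ← hP]
    rw [commutator_def, Subgroup.commutator_le]
    intro a _ b _
    rw [MonoidHom.mem_ker, map_commutatorElement, commutatorElement_eq_one_iff_mul_comm]
    exact Subtype.ext (Subgroup.mem_center_iff.1 (δ b).2 (δ a).1)
  refine Subgroup.mem_center_iff.2 fun y => ?_
  have : δ y = 1 := MonoidHom.mem_ker.1 (hδ.symm ▸ Subgroup.mem_top y)
  exact (commutatorElement_eq_one_iff_mul_comm.1 (congrArg Subtype.val this)).symm

namespace Rel

variable {D : ChevalleyDatum} {T : Tab} {F : Type*} [Field F] {E : Type*} [Group E]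

/-- The map from the cover to a group with the relations. -/
theorem exists_hom (L : Rel D T F E) {C : Tab.Cover} (h : Cert D T C) :
    ∃ ρ : D.SteinbergCover F →* E,
      ∀ y, L.π (ρ y) = (h.relOf (R := D.steinbergRelsAB F) le_rfl
        (steinbergRelsAB_subset D F)).π y := by
  have hst : ∀ r, r < T.n → ∀ t,
      FreeGroup.lift (fun p : Fin D.nroots × F => L.x p.1.val p.2) (D.stX r t) = L.x r t := by
    intro r hr t
    rw [ChevalleyDatum.stX, dif_pos (by rw [h.nroots_eq]; exact hr), FreeGroup.lift_apply_of]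
  have hrel : ∀ g ∈ D.steinbergRelsAB F,
      FreeGroup.lift (fun p : Fin D.nroots × F => L.x p.1.val p.2) g = 1 := by
    rintro g (⟨r, t₁, t₂, hr, rfl⟩ | ⟨r, s, t, u, hr, hs, hne, hneg, rfl⟩)
    · rw [h.nroots_eq] at hr
      rw [map_mul, map_mul, map_inv, hst r hr, hst r hr, hst r hr, L.x_add r hr, mul_inv_cancel]
    · rw [h.nroots_eq] at hr hs
      rw [h.neg_eq hr] at hneg
      rw [map_mul, map_mul, map_mul, map_mul, map_inv, map_inv, map_inv, hst r hr, hst s hs,
        L.x_inv hr, mul_inv_eq_one, mul_assoc (L.x s u)⁻¹, mul_assoc (L.x s u)⁻¹,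
        L.comm r hr s hs hne hneg, inv_mul_cancel_left, ChevalleyDatum.stWord, map_list_prod,
        ChevalleyDatum.commWord, h.commTerms_eq hr hs, List.map_map, List.map_map]
      exact congrArg List.prod (List.map_congr_left fun c hc =>
        (hst _ (h.commTerms_lt hr hs hc) _).symm)
  refine ⟨PresentedGroup.toGroup hrel, fun y => ?_⟩
  suffices L.π.comp (PresentedGroup.toGroup hrel) = (h.relOf (R := D.steinbergRelsAB F) le_rfl
      (steinbergRelsAB_subset D F)).π from DFunLike.congr_fun this y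
  refine PresentedGroup.ext fun ⟨r, t⟩ => ?_
  rw [MonoidHom.comp_apply, PresentedGroup.toGroup.of]
  have hr := lt_of_lt_of_eq r.isLt h.nroots_eq
  rw [L.π_x r.val hr]
  refine ((h.relOf (R := D.steinbergRelsAB F) le_rfl
    (steinbergRelsAB_subset D F)).π_x r.val hr t).symm.trans ?_
  congr 1
  rw [h.relOf_x, ChevalleyDatum.stX, dif_pos r.isLt]
  rfl

end Rel

/-- Universality from lifts of the relations. -/
theorem universal_of_rel {D : ChevalleyDatum} {T : Tab} {C : Tab.Cover} (h : Cert D T C)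
    (hnb : Rel.Nbr T) {F : Type v} [Field F]
    (hperf : commutator (D.SteinbergCover F) = ⊤) (p : ℕ)
    (hlift : ∀ {Z : Type (max u v)} [Group Z] (Y : Ext D F Z),
      (∀ z, Y.θ z = 1 → z ^ p = 1 → z = 1) → ∃ L : Rel D T F Z, L.π = Y.θ)
    {G₁ : Type*} {E : Type u} [Group G₁] [Group E] (π₁ : E →* G₁) (hπ : Function.Surjective π₁)
    (hc : π₁.ker ≤ Subgroup.center E) (σ : D.SteinbergCover F →* G₁)
    (htor : ∀ e c, π₁ e = σ c → c ∈ Subgroup.center (D.SteinbergCover F) → e ^ p = 1 → c ^ p = 1 →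
      e = 1 ∧ c = 1) :
    ∃! τ : D.SteinbergCover F →* E, π₁.comp τ = σ := by
  set L₀ := h.relOf (R := D.steinbergRelsAB F) le_rfl (steinbergRelsAB_subset D F)
  have hker : L₀.π.ker = Subgroup.center _ := L₀.ker_eq_center h hnb
  let P : Subgroup (E × D.SteinbergCover F) :=
    (π₁.comp (MonoidHom.fst _ _)).eqLocus (σ.comp (MonoidHom.snd _ _))
  let q : ↥P →* D.SteinbergCover F := (MonoidHom.snd _ _).comp P.subtype
  have hq : Function.Surjective q := fun c => by
    obtain ⟨e, he⟩ := hπ (σ c)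
    exact ⟨⟨(e, c), he⟩, rfl⟩
  have hqc : q.ker ≤ Subgroup.center ↥P := by
    intro z hz
    have hz2 : z.1.2 = 1 := hz
    have hz1 : π₁ z.1.1 = 1 := by
      have h2 : π₁ z.1.1 = σ z.1.2 := z.2
      rw [hz2, map_one] at h2
      exact h2
    refine Subgroup.mem_center_iff.2 fun y => Subtype.ext (Prod.ext ?_ ?_)
    · exact Subgroup.mem_center_iff.1 (hc hz1) y.1.1
    · show y.1.2 * z.1.2 = z.1.2 * y.1.2
      rw [hz2, one_mul, mul_one]
  obtain ⟨hPP, hsurj⟩ := commutator_perfect_of_central q hq hqc hperf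
  let θ : ↥(commutator ↥P) →* GL D.Idx F := L₀.π.comp (q.comp (commutator ↥P).subtype)
  have hθc : θ.ker ≤ Subgroup.center _ := by
    intro z hz
    refine central_of_perfect hPP fun y => ?_
    have hzc : q z.1 ∈ Subgroup.center (D.SteinbergCover F) := by
      rw [← hker]; exact hz
    have hk : q (⁅z, y⁆ : ↥(commutator ↥P)).1 = 1 := by
      show q ⁅z.1, y.1⁆ = 1
      rw [map_commutatorElement, commutatorElement_eq_one_iff_mul_comm]
      exact (Subgroup.mem_center_iff.1 hzc _).symm
    exact Subgroup.mem_center_iff.2 fun a => Subtype.ext (Subgroup.mem_center_iff.1 (hqc hk) a.1)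
  have hrange : θ.range = D.group F := by
    refine le_antisymm ?_ fun g hg => ?_
    · rintro _ ⟨a, rfl⟩
      exact h.π_mem_group L₀ _
    · obtain ⟨c, hc'⟩ := h.stTheta_surjective le_rfl (steinbergRelsAB_subset D F) ⟨g, hg⟩
      obtain ⟨a, ha, rfl⟩ := hsurj c
      exact ⟨⟨a, ha⟩, congrArg Subtype.val hc'⟩
  obtain ⟨L, hL⟩ := hlift ⟨θ, hθc, hrange, hPP⟩ fun z hz hzp => by
    have hzc : z.1.1.2 ∈ Subgroup.center (D.SteinbergCover F) := by rw [← hker]; exact hz
    have hp1 := congrArg (fun a : ↥(commutator ↥P) => a.1.1.1) hzp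
    have hp2 := congrArg (fun a : ↥(commutator ↥P) => a.1.1.2) hzp
    simp only [SubmonoidClass.coe_pow, Prod.pow_fst, Prod.pow_snd] at hp1 hp2
    obtain ⟨e1, e2⟩ := htor _ _ z.1.2 hzc hp1 hp2
    exact Subtype.ext (Subtype.ext (Prod.ext e1 e2))
  obtain ⟨ρ, hρ⟩ := L.exists_hom h
  let f : D.SteinbergCover F →* D.SteinbergCover F := q.comp ((commutator ↥P).subtype.comp ρ)
  have hf : f = MonoidHom.id _ := hom_eq_of_perfect hperf L₀.π (le_of_eq hker) _ _
    (MonoidHom.ext fun y => by
      show L₀.π (q (ρ y).1) = L₀.π y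
      rw [← hρ y, hL]
      rfl)
  refine ⟨(MonoidHom.fst _ _).comp (P.subtype.comp ((commutator ↥P).subtype.comp ρ)),
    MonoidHom.ext fun y => ?_, fun τ hτ => ?_⟩
  · show π₁ (ρ y).1.1.1 = σ y
    have h1 : π₁ (ρ y).1.1.1 = σ (ρ y).1.1.2 := (ρ y).1.2
    rw [h1]
    exact congrArg σ (DFunLike.congr_fun hf y)
  · refine hom_eq_of_perfect hperf π₁ hc _ _ (hτ.trans (MonoidHom.ext fun y => ?_))
    show σ y = π₁ (ρ y).1.1.1
    have h1 : π₁ (ρ y).1.1.1 = σ (ρ y).1.1.2 := (ρ y).1.2
    rw [h1]
    exact (congrArg σ (DFunLike.congr_fun hf y)).symm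

end CfsgLib.Chev
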