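import Cfsg.Agent.Lib.BNPair.SteinbergElliptic
import Cfsg.Agent.Lib.Chev.PElementCount
import Cfsg.Agent.Lib.Chev.BorelTits

/-!
The values of the Steinberg character of a Chevalley group at the elements of order prime to the
characteristic: up to sign the order of a Sylow subgroup of the centralizer.
-/

set_option autoImplicit false

namespace CfsgLib.Chev

open Cfsg.Lie Matrix CfsgLib.BN CfsgLib.Coxeter

namespace Cert

variable {D : ChevalleyDatum} {T : Tab} {C : Tab.Cover} (h : Cert D T C)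
variable {F : Type*} [Field F]
include h

/-- The radicals grow as the set of simple roots shrinks. -/
lemma radical_anti {J J' : Set ℕ} (hJ : ∀ i < T.l, i ∈ J' → i ∈ J) :
    D.unipotentRadical F J ≤ D.unipotentRadical F J' := by
  rw [h.unipotentRadical_eq, h.unipotentRadical_eq]
  refine gen_mono D fun r hr => ?_
  obtain ⟨hr', k, hk, hkJ, hpos⟩ := h.mem_radSet_iff.1 hr
  exact h.mem_radSet_iff.2 ⟨hr', k, hk, fun hk' => hkJ (hJ k hk hk'), hpos⟩

section Pair

variable {P : Cfsg.BNPair ↥(D.group F)} {idx : P.S → ℕ} (hidx : ∀ s, idx s < T.l)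
  (hval : ∀ s : P.S, ((s : ↥(D.group F)) : GL D.Idx F) = nS D F (idx s))
  (hsurj : ∀ i < T.l, ∃ s, idx s = i)
  (hB : P.B = (D.borelSubgroup F).subgroupOf (D.group F))

include hidx hval hB in
/-- The parabolic subgroups of the pair. -/
lemma par_eq_parabolicIn (J : Set P.S) :
    par P J = (D.parabolicSubgroup F (idx '' J)).subgroupOf (D.group F) := by
  apply Subgroup.map_injective (D.group F).subtype_injective
  have hle : D.parabolicSubgroup F (idx '' J) ≤ D.group F :=
    le_trans (le_of_eq (h.normalizer_radical (idx '' J)).symm) inf_le_right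
  rw [Subgroup.subgroupOf_map_subtype, inf_eq_left.2 hle, par, Cfsg.BNPair.parabolic,
    Subgroup.map_sup, hB, Subgroup.subgroupOf_map_subtype, inf_eq_left.2 h.borel_le_group,
    MonoidHom.map_closure, ChevalleyDatum.parabolicSubgroup]
  congr 2
  ext g
  simp only [Set.mem_ofPred_eq, Set.mem_image, Subgroup.coe_subtype]
  constructor
  · rintro ⟨_, ⟨s, hs, rfl⟩, rfl⟩
    refine ⟨idx s, ⟨s, hs, rfl⟩, by rw [h.rank_eq]; exact hidx s, ?_⟩
    rw [hval s, h.coe_nS]
  · rintro ⟨_, ⟨s, hs, rfl⟩, -, e⟩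
    exact ⟨_, ⟨s, hs, rfl⟩, Units.ext (by rw [hval s, e]; exact h.coe_nS _)⟩

include hidx hval hsurj hB in
/-- The Steinberg character is the alternating sum of the pair. -/
lemma steinberg_eq_altSum [Fintype F] [Fintype P.S] :
    D.steinbergCharacter F = altSum P := by
  classical
  let f : P.S → Fin T.l := fun s => ⟨idx s, hidx s⟩
  have hf : Function.Bijective f := by
    refine ⟨fun s s' e => ?_, fun i => ?_⟩
    · have e' : idx s = idx s' := congrArg Fin.val e
      exact Subtype.ext (Subtype.ext (by rw [hval, hval, e']))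
    · obtain ⟨s, hs⟩ := hsurj i i.2
      exact ⟨s, Fin.ext hs⟩
  let e := (Equiv.ofBijective f hf).symm
  have hidxe : ∀ i : Fin T.l, idx (e i) = i := fun i =>
    congrArg Fin.val ((Equiv.ofBijective f hf).apply_symm_apply i)
  have hpar : ∀ J : Finset (Fin T.l), D.parabolicIn F (J.map Fin.valEmbedding) =
      par P (↑(J.map e.toEmbedding) : Set P.S) := by
    intro J
    rw [h.par_eq_parabolicIn hidx hval hB, ChevalleyDatum.parabolicIn]
    congr 2
    ext x
    simp only [Finset.coe_map, Set.mem_image, Finset.mem_coe, Fin.valEmbedding_apply,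
      Equiv.coe_toEmbedding]
    constructor
    · rintro ⟨i, hi, rfl⟩
      exact ⟨e i, ⟨i, hi, rfl⟩, hidxe i⟩
    · rintro ⟨_, ⟨i, hi, rfl⟩, rfl⟩
      exact ⟨i, hi, (hidxe i).symm⟩
  funext g
  simp only [ChevalleyDatum.steinbergCharacter, altSum]
  have hpw : (Finset.range D.rank).powerset =
      (Finset.univ : Finset (Finset (Fin T.l))).map (Finset.mapEmbedding Fin.valEmbedding).toEmbedding := by
    rw [h.rank_eq]
    ext J
    simp only [Finset.mem_powerset, Finset.mem_map, Finset.mem_univ, true_and,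
      RelEmbedding.coe_toEmbedding, Finset.mapEmbedding_apply]
    refine ⟨fun hJ => ⟨J.attach.map ⟨fun j => ⟨j.1, Finset.mem_range.1 (hJ j.2)⟩,
      fun a b hab => Subtype.ext (congrArg Fin.val hab)⟩, ?_⟩, ?_⟩
    · ext x
      simp only [Finset.mem_map, Finset.mem_attach, true_and, Fin.valEmbedding_apply,
        Subtype.exists]
      constructor
      · rintro ⟨a, ⟨b, hb, e'⟩, rfl⟩
        rw [← e']
        exact hb
      · exact fun hx => ⟨⟨x, Finset.mem_range.1 (hJ hx)⟩, ⟨x, hx, rfl⟩, rfl⟩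
    · rintro ⟨J', rfl⟩ x hx
      obtain ⟨i, -, rfl⟩ := Finset.mem_map.1 hx
      exact Finset.mem_range.2 i.2
  rw [hpw, Finset.sum_map]
  refine Fintype.sum_equiv e.finsetCongr _ _ fun J => ?_
  simp only [RelEmbedding.coe_toEmbedding, Finset.mapEmbedding_apply, Finset.card_map,
    Equiv.finsetCongr_apply, hpar]

variable (hN : P.N = (D.monomialSubgroup F).subgroupOf (D.group F))

include hidx hval hN hB in
/-- The cell of the longest element of a standard subgroup: its size, and the elements of `U`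
fixing a point. -/
lemma stdLongest_cell [Fintype F] {J : Set P.S} {v : CfsgLib.BN.Weyl P}
    (hv : v ∈ std (CfsgLib.BN.gen P) J)
    (hd : ∀ s ∈ J, len (CfsgLib.BN.gen P) (v * CfsgLib.BN.gen P s) < len (CfsgLib.BN.gen P) v) :
    cellCard P v * Nat.card ↥((D.unipotentRadical F (idx '' J)).subgroupOf (D.group F)) =
        Nat.card ↥((D.posUnipotent F).subgroupOf (D.group F)) ∧
      ∃ n ∈ cell P v, ∀ u : ↥(D.group F), (u : GL D.Idx F) ∈ D.posUnipotent F →
        n⁻¹ * u * n ∈ P.B → (u : GL D.Idx F) ∈ D.unipotentRadical F (idx '' J) := by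
  classical
  have hUG : D.posUnipotent F ≤ D.group F := h.posUnipotent_le_group
  set U := (D.posUnipotent F).subgroupOf (D.group F) with hUdef
  set R := (D.unipotentRadical F (idx '' J)).subgroupOf (D.group F) with hR
  have hUB : U ≤ P.B := fun x hx => by
    rw [hB, Subgroup.mem_subgroupOf]
    exact Subgroup.mem_sup_left (Subgroup.mem_subgroupOf.1 hx)
  have hrad : D.unipotentRadical F (idx '' J) ≤ D.posUnipotent F := by
    rw [h.unipotentRadical_eq]; exact h.gen_pos_le fun r hr => hr.1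
  have hRU : R ≤ U := fun x hx => by
    rw [hUdef, Subgroup.mem_subgroupOf]
    exact hrad (Subgroup.mem_subgroupOf.1 hx)
  obtain ⟨w, hw, hwJ, n, hn, hnv⟩ : ∃ w : List ℕ, WordOK T w ∧ (∀ i ∈ w, i ∈ idx '' J) ∧
      ∃ m : ↥(D.group F), (m : GL D.Idx F) = nW D F w ∧ m ∈ cell P v := by
    obtain ⟨L, hL, rfl⟩ := gens.exists_std_word hv
    refine ⟨L.map idx, fun i hi => ?_, fun i hi => ?_, rep P L, ?_, rep_mem_cell L⟩
    · obtain ⟨s, -, rfl⟩ := List.mem_map.1 hi; exact hidx s
    · obtain ⟨s, hs, rfl⟩ := List.mem_map.1 hi; exact ⟨s, hL s hs, rfl⟩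
    · clear hL hv hd
      induction L with
      | nil => simp [rep, nW]
      | cons s L ih =>
        rw [List.map_cons, nW_cons, ← ih, ← hval s]
        simp [rep]
  have hnN : n ∈ P.N := by
    rw [hN, Subgroup.mem_subgroupOf, hn]
    exact h.nW_mem_monomial hw
  have hneg : ∀ i < T.l, i ∈ idx '' J → rword T w (T.simple i) < T.half := by
    rintro _ hi ⟨s, hs, rfl⟩
    have hcell : n * (s : ↥(D.group F)) ∈ cell P (v * CfsgLib.BN.gen P s) := by
      rw [cell_inj hnv (mk_mem_cell ⟨n, hnN⟩)]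
      exact mk_mem_cell ((⟨n, hnN⟩ : P.N) * ⟨(s : ↥(D.group F)), P.subset s.2⟩)
    have hw' : WordOK T (w ++ [idx s]) := fun i hi => by
      rcases List.mem_append.1 hi with hi | hi
      · exact hw i hi
      · rw [List.mem_singleton.1 hi]; exact hidx s
    have h1 := h.rword_simple_of_len hB (hidx s) (hval s) hw' (m := n * (s : ↥(D.group F)))
      (by rw [Subgroup.coe_mul, hn, hval s, nW_append]; simp [nW]) hcell
      (by rw [mul_assoc, gen_sq, mul_one]; exact (hd s hs).le)
    rw [rword_append, show rword T [idx s] (T.simple (idx s)) =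
      T.refl (idx s) (T.simple (idx s)) from rfl, h.refl_simple (hidx s),
      h.rword_neg hw (h.simple_lt (hidx s))] at h1
    exact (h.half_le_neg_iff (h.rword_lt hw (h.simple_lt (hidx s)))).1 h1
  -- the stabiliser of `n B` in `U`
  have hst : ∀ u ∈ U, n⁻¹ * u * n ∈ P.B ↔ u ∈ R := by
    intro u hu
    rw [hB, Subgroup.mem_subgroupOf]
    simp only [Subgroup.coe_mul, Subgroup.coe_inv, hn, hR, Subgroup.mem_subgroupOf]
    refine ⟨fun hc => h.mem_radical_of_conj_borel hw hwJ hneg (Subgroup.mem_subgroupOf.1 hu) hc,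
      fun hc => Subgroup.mem_sup_left (hrad ?_)⟩
    have hnP : nW D F w ∈ D.parabolicSubgroup F (idx '' J) := by
      refine list_prod_mem fun x hx => ?_
      obtain ⟨i, hi, rfl⟩ := List.mem_map.1 hx
      exact h.nS_mem_parabolic (hw i hi) (hwJ i hi)
    exact (Subgroup.mem_normalizer_iff''.1 (h.parabolic_le_normalizer _ hnP) _).1 hc
  refine ⟨?_, n, hnv, fun u hu hc => Subgroup.mem_subgroupOf.1 ((hst u hu).1 hc)⟩
  let f : ↥U → {z : ↥(D.group F) ⧸ P.B // z ∈ cosets P v} := fun u =>
    ⟨(((u : ↥(D.group F)) * n : ↥(D.group F)) : ↥(D.group F) ⧸ P.B),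
      mk_mem_cosets.2 (left_cell hnv (hUB u.2))⟩
  have hf : Function.Surjective f := by
    rintro ⟨z, g, hg, rfl⟩
    have h1 : v = QuotientGroup.mk ⟨n, hnN⟩ := cell_inj hnv (mk_mem_cell ⟨n, hnN⟩)
    rw [h1] at hg
    obtain ⟨b, hb, b', hb', rfl⟩ := mem_cell_mk.1 hg
    rw [hB, Subgroup.mem_subgroupOf] at hb
    obtain ⟨u, hu, t, ht, e⟩ := h.mem_borel_iff.1 hb
    refine ⟨⟨⟨u, hUG hu⟩, hu⟩, Subtype.ext (QuotientGroup.eq.2 ?_)⟩
    rw [show ((⟨u, hUG hu⟩ : ↥(D.group F)) * n)⁻¹ * (b * n * b') =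
      (n⁻¹ * (⟨u, hUG hu⟩⁻¹ * b) * n) * b' by group]
    refine mul_mem ?_ hb'
    rw [hB, Subgroup.mem_subgroupOf]
    simp only [Subgroup.coe_mul, Subgroup.coe_inv, hn, e, inv_mul_cancel_left]
    refine Subgroup.mem_sup_right ((Subgroup.mem_normalizer_iff''.1
      (h.monomial_le_normalizer_diagonal (h.nW_mem_monomial hw)) t).1 ht)
  have hfeq : ∀ a b : ↥U, f a = f b ↔ ((a⁻¹ * b : ↥U) : ↥(D.group F)) ∈ R := by
    intro a b
    rw [Subtype.ext_iff, ← hst _ (a⁻¹ * b).2, QuotientGroup.eq]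
    simp only [Subgroup.coe_mul, Subgroup.coe_inv]
    rw [show ((a : ↥(D.group F)) * n)⁻¹ * ((b : ↥(D.group F)) * n) =
      n⁻¹ * ((a : ↥(D.group F))⁻¹ * b) * n by group]
  have hcc : cellCard P v = (R.subgroupOf U).index := by
    rw [cellCard, Subgroup.index_eq_card]
    symm
    refine Nat.card_eq_of_bijective (Quotient.lift f fun a b hab => (hfeq a b).2 ?_) ⟨?_, ?_⟩
    · exact Subgroup.mem_subgroupOf.1 (QuotientGroup.leftRel_apply.1
        (hab : QuotientGroup.leftRel (R.subgroupOf U) a b))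
    · intro p₁ p₂
      induction p₁ using Quotient.ind with
      | _ a =>
        induction p₂ using Quotient.ind with
        | _ b =>
          exact fun e => Quotient.sound (QuotientGroup.leftRel_apply.2
            (Subgroup.mem_subgroupOf.2 ((hfeq a b).1 e)))
    · intro z
      obtain ⟨u, rfl⟩ := hf z
      exact ⟨Quotient.mk _ u, rfl⟩
  rw [hcc, ← Nat.card_congr (Subgroup.subgroupOfEquivOfLe hRU).toEquiv]
  exact Subgroup.index_mul_card _

end Pair

/-- The value at an element of order prime to the characteristic. -/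
theorem steinberg_semisimple [Fintype F] {p : ℕ} [hp : Fact p.Prime] [CharP F p]
    {g : ↥(D.group F)} (hg : ¬ p ∣ orderOf g) :
    D.steinbergCharacter F g =
        ((p ^ (Nat.card ↥(Subgroup.centralizer ({g} : Set ↥(D.group F)))).factorization p : ℕ) : ℂ) ∨
      D.steinbergCharacter F g =
        -((p ^ (Nat.card ↥(Subgroup.centralizer ({g} : Set ↥(D.group F)))).factorization p : ℕ) : ℂ) := by
  classical
  obtain ⟨P, hB, hN, hS⟩ := h.exists_bnPair (F := F)
  have : Fintype P.S := Fintype.ofFinite _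
  have hexidx : ∀ s : P.S, ∃ i < T.l, ((s : ↥(D.group F)) : GL D.Idx F) = nS D F i := fun s => by
    have h1 := s.2
    simp only [hS] at h1
    exact h1
  choose idx hidx hval using hexidx
  have hsurj : ∀ i < T.l, ∃ s, idx s = i := by
    intro i hi
    have hiG : nS D F i ∈ D.group F := h.monomial_le_group (h.nS_mem_monomial hi)
    have hiS : (⟨nS D F i, hiG⟩ : ↥(D.group F)) ∈ P.S := by rw [hS]; exact ⟨i, hi, rfl⟩
    refine ⟨⟨_, hiS⟩, h.nS_inj (F := F) (hidx _) hi ?_⟩
    rw [← hval]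
    simp
  rw [h.steinberg_eq_altSum hidx hval hsurj hB]
  set Cg := Subgroup.centralizer ({g} : Set ↥(D.group F)) with hCg
  set R := fun J : Set P.S => (D.unipotentRadical F (idx '' J)).subgroupOf (D.group F) with hR
  have hUp : IsPGroup p ↥(D.posUnipotent F) := by
    obtain ⟨m, -, hm⟩ := FiniteField.card F p
    exact IsPGroup.of_card (n := (m : ℕ) * T.half) (by rw [h.card_posUnipotent, hm, ← pow_mul])
  have hrad : ∀ J : Set ℕ, D.unipotentRadical F J ≤ D.posUnipotent F := fun J => by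
    rw [h.unipotentRadical_eq]; exact h.gen_pos_le fun r hr => hr.1
  have hradG : ∀ J : Set ℕ, D.unipotentRadical F J ≤ D.group F := fun J =>
    (hrad J).trans h.posUnipotent_le_group
  have hRp : ∀ J, IsPGroup p ↥(R J) := fun J =>
    (hUp.to_le (hrad (idx '' J))).of_equiv (Subgroup.subgroupOfEquivOfLe (hradG _)).symm
  have hRn : ∀ J, par P J ≤ Subgroup.normalizer (R J : Set ↥(D.group F)) := by
    intro J y hy
    rw [h.par_eq_parabolicIn hidx hval hB, Subgroup.mem_subgroupOf] at hy
    rw [Subgroup.mem_normalizer_iff]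
    intro x
    simp only [hR, Subgroup.mem_subgroupOf, Subgroup.coe_mul, Subgroup.coe_inv]
    exact Subgroup.mem_normalizer_iff.1 (h.parabolic_le_normalizer _ hy) _
  -- a maximal `g`-invariant subgroup over a Sylow subgroup of the centralizer
  obtain ⟨S⟩ : Nonempty (Sylow p ↥Cg) := inferInstance
  set R₀ := (S : Subgroup ↥Cg).map Cg.subtype with hR₀
  have hR₀p : IsPGroup p ↥R₀ :=
    S.isPGroup'.of_equiv ((S : Subgroup ↥Cg).equivMapOfInjective _ Cg.subtype_injective)
  have hR₀c : R₀ ≤ Cg := Subgroup.map_subtype_le _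
  have hcomm : ∀ u ∈ Cg, g * u = u * g := fun u hu =>
    (Subgroup.mem_centralizer_singleton_iff.1 hu).symm
  let IsInv : Subgroup ↥(D.group F) → Prop := fun Q =>
    IsPGroup p ↥Q ∧ R₀ ≤ Q ∧ g ∈ Subgroup.normalizer (Q : Set ↥(D.group F))
  obtain ⟨Q, ⟨hQp, hQR, hQg⟩, hQmax⟩ :=
    Set.exists_max_image {Q | IsInv Q} (fun Q : Subgroup ↥(D.group F) => Nat.card ↥Q)
      (Set.toFinite _) ⟨R₀, hR₀p, le_rfl, by
        rw [Subgroup.mem_normalizer_iff]
        intro u
        constructor
        · intro hu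
          rwa [hcomm u (hR₀c hu), mul_inv_cancel_right]
        · intro hu
          have e := hcomm _ (hR₀c hu)
          have : g * u * g⁻¹ = u := mul_left_cancel (a := g) (by rw [e, inv_mul_cancel_right])
          rwa [this] at hu⟩
  -- the parabolic subgroup
  obtain ⟨x, J, hgJ, hQJ⟩ : ∃ (x : ↥(D.group F)) (J : Set P.S), x⁻¹ * g * x ∈ par P J ∧
      Q = (R J).map (MulAut.conj x).toMonoidHom := by
    by_cases hQ : Q = ⊥
    · refine ⟨1, Set.univ, ?_, ?_⟩
      · obtain ⟨v, hv⟩ := exists_cell (P := P) (1⁻¹ * g * 1)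
        refine cell_subset_par ?_ hv
        obtain ⟨L, rfl⟩ := gens.exists_word v
        exact Gens.wprod_mem_std fun s _ => Set.mem_univ s
      · rw [hQ]
        symm
        rw [Subgroup.map_eq_bot_iff_of_injective _ (MulEquiv.injective _)]
        refine (Subgroup.eq_bot_iff_forall _).2 fun y hy => Subtype.ext ?_
        have hemp : radSet D T (idx '' Set.univ) = ∅ := by
          refine Set.eq_empty_iff_forall_notMem.2 fun r hr => ?_
          obtain ⟨-, k, hk, hkJ, -⟩ := h.mem_radSet_iff.1 hr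
          obtain ⟨s, hs⟩ := hsurj k hk
          exact hkJ ⟨s, Set.mem_univ _, hs⟩
        have hy' := Subgroup.mem_subgroupOf.1 hy
        rw [h.unipotentRadical_eq, hemp, CfsgLib.Chev.gen] at hy'
        simpa using hy'
    · have hQne : Q.map (D.group F).subtype ≠ ⊥ := fun e =>
        hQ ((Subgroup.map_eq_bot_iff_of_injective _ (D.group F).subtype_injective).1 e)
      obtain ⟨x, hx, Jn, -, hN', hU'⟩ := h.borel_tits (p := p) (U := Q.map (D.group F).subtype)
        (Subgroup.map_subtype_le _)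
        (hQp.of_equiv (Q.equivMapOfInjective _ (D.group F).subtype_injective)) hQne
      set J : Set P.S := {s | idx s ∈ Jn}
      have hgN : (g : GL D.Idx F) ∈ Subgroup.normalizer
          ((Q.map (D.group F).subtype : Subgroup (GL D.Idx F)) : Set (GL D.Idx F)) := by
        have := Subgroup.le_normalizer_map (D.group F).subtype
          (Subgroup.mem_map_of_mem _ hQg)
        exact this
      obtain ⟨g', hg', eg⟩ := hN' ⟨hgN, g.2⟩
      have hg'J : g' ∈ D.parabolicSubgroup F (idx '' J) := by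
        refine (sup_le_sup_left (Subgroup.closure_mono ?_) _ :
          D.parabolicSubgroup F Jn ≤ D.parabolicSubgroup F (idx '' J)) hg'
        rintro a ⟨j, hj, hjr, e⟩
        obtain ⟨s, hs⟩ := hsurj j (lt_of_lt_of_eq hjr h.rank_eq)
        exact ⟨j, ⟨s, show idx s ∈ Jn from hs.symm ▸ hj, hs⟩, hjr, e⟩
      refine ⟨⟨x, hx⟩, J, ?_, ?_⟩
      · rw [h.par_eq_parabolicIn hidx hval hB, Subgroup.mem_subgroupOf]
        simp only [Subgroup.coe_mul, Subgroup.coe_inv]
        rw [← eg]
        simpa [mul_assoc] using hg'J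
      · have hle : Q ≤ (R J).map (MulAut.conj (⟨x, hx⟩ : ↥(D.group F))).toMonoidHom := by
          intro u hu
          obtain ⟨u', hu', eu⟩ := hU' (Subgroup.mem_map_of_mem _ hu)
          have hu'' : u' ∈ D.unipotentRadical F (idx '' J) :=
            h.radical_anti (fun i _ hi => by obtain ⟨s, hs, rfl⟩ := hi; exact hs) hu'
          refine ⟨⟨u', hradG _ hu''⟩, hu'', Subtype.ext ?_⟩
          simpa using eu
        refine Subgroup.eq_of_le_of_card_ge hle (hQmax _ ⟨(hRp J).map _, hQR.trans hle, ?_⟩)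
        have h1 : (⟨x, hx⟩ : ↥(D.group F))⁻¹ * g * ⟨x, hx⟩ ∈ par P J := by
          rw [h.par_eq_parabolicIn hidx hval hB, Subgroup.mem_subgroupOf]
          simp only [Subgroup.coe_mul, Subgroup.coe_inv]
          rw [← eg]
          simpa [mul_assoc] using hg'J
        have h2 := Subgroup.le_normalizer_map (MulAut.conj (⟨x, hx⟩ : ↥(D.group F))).toMonoidHom
          (Subgroup.mem_map_of_mem _ (hRn J h1))
        simpa [mul_assoc] using h2
  set g' := x⁻¹ * g * x with hg'
  -- class function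
  have hclass : altSum P g' = altSum P g := by
    simp only [altSum]
    refine Finset.sum_congr rfl fun K _ => ?_
    rw [show g' = x⁻¹ * g * x⁻¹⁻¹ by rw [hg', inv_inv], perm_isClass]
  rw [← hclass]
  -- minimality
  have hmin : ∀ J' : Set P.S, J' ⊆ J → J' ≠ J → ∀ y ∈ par P J, y⁻¹ * g' * y ∉ par P J' := by
    intro J' hJ' hne y hy hmem
    have hle : R J ≤ R J' := fun u hu => Subgroup.mem_subgroupOf.2
      (h.radical_anti (fun i _ hi => Set.image_mono hJ' hi) (Subgroup.mem_subgroupOf.1 hu))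
    have hQy : Q = (R J).map (MulAut.conj (x * y)).toMonoidHom := by
      rw [hQJ]
      refine le_antisymm ?_ ?_
      · rintro _ ⟨u, hu, rfl⟩
        refine ⟨y⁻¹ * u * y, (Subgroup.mem_normalizer_iff''.1 (hRn J hy) u).1 hu, ?_⟩
        simp [mul_assoc]
      · rintro _ ⟨u, hu, rfl⟩
        refine ⟨y * u * y⁻¹, (Subgroup.mem_normalizer_iff.1 (hRn J hy) u).1 hu, ?_⟩
        simp [mul_assoc]
    have hle' : Q ≤ (R J').map (MulAut.conj (x * y)).toMonoidHom :=
      hQy ▸ Subgroup.map_mono hle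
    have hinv : IsInv ((R J').map (MulAut.conj (x * y)).toMonoidHom) := by
      refine ⟨(hRp J').map _, hQR.trans hle', ?_⟩
      have h2 := Subgroup.le_normalizer_map (MulAut.conj (x * y)).toMonoidHom
        (Subgroup.mem_map_of_mem _ (hRn J' hmem))
      simpa [hg', mul_assoc] using h2
    have heq : R J = R J' := by
      have := Subgroup.eq_of_le_of_card_ge hle' (hQmax _ hinv)
      rw [hQy] at this
      exact Subgroup.map_injective (MulEquiv.injective _) this
    obtain ⟨s, hs, hs'⟩ : ∃ s ∈ J, s ∉ J' := by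
      by_contra hcon
      push Not at hcon
      exact hne (Set.Subset.antisymm hJ' hcon)
    have hsim := h.simple_lt (hidx s)
    have hX : X D (T.simple (idx s)) (1 : F) ∈ D.unipotentRadical F (idx '' J') := by
      rw [h.unipotentRadical_eq]
      refine X_mem_gen D (h.mem_radSet_iff.2 ⟨hsim, idx s, hidx s, ?_, ?_⟩) 1
      · rintro ⟨s', hs'', e⟩
        exact hs' (Subtype.ext (Subtype.ext ((hval s).trans (e ▸ (hval s').symm))) ▸ hs'')
      · have h1 := h.wt_simple (hidx s) (hidx s)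
        rwa [if_pos rfl] at h1
    have hX' : (⟨_, hradG _ hX⟩ : ↥(D.group F)) ∈ R J := heq.symm ▸ hX
    have hX'' := Subgroup.mem_subgroupOf.1 hX'
    rw [h.unipotentRadical_eq] at hX''
    exact (h.root_mem_of_X_mem hsim one_ne_zero hX'').2
      (h.inRootSub_simple (hidx s) ⟨s, hs, rfl⟩)
  -- the data
  obtain ⟨a₀, ha₀, hd⟩ := gens.exists_descents exchange (σ := CfsgLib.BN.gen P) gen_len_ne J
  obtain ⟨w₀, hw₀mem, hw₀d⟩ := gens.exists_descents exchange (σ := CfsgLib.BN.gen P) gen_len_ne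
    (Set.univ : Set P.S)
  have hw₀ : IsLongest (CfsgLib.BN.gen P) w₀ := fun i => hw₀d i (Set.mem_univ i)
  obtain ⟨hc₁, -⟩ := h.stdLongest_cell hidx hval hB hN ha₀ hd
  obtain ⟨hc₂, n, hn, hnfree⟩ := h.stdLongest_cell hidx hval hB hN hw₀mem hw₀d
  have hRtop : ∀ u : GL D.Idx F, u ∈ D.unipotentRadical F (idx '' (Set.univ : Set P.S)) → u = 1 := by
    intro u hu
    have hemp : radSet D T (idx '' Set.univ) = ∅ := by
      refine Set.eq_empty_iff_forall_notMem.2 fun r hr => ?_
      obtain ⟨-, k, hk, hkJ, -⟩ := h.mem_radSet_iff.1 hr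
      obtain ⟨s, hs⟩ := hsurj k hk
      exact hkJ ⟨s, Set.mem_univ _, hs⟩
    rw [h.unipotentRadical_eq, hemp, CfsgLib.Chev.gen] at hu
    simpa using hu
  have hcop : (orderOf g').Coprime (Nat.card ↥(R J)) := by
    obtain ⟨k, hk⟩ := IsPGroup.iff_card.1 (hRp J)
    rw [hk, show orderOf g' = orderOf g from
      orderOf_injective (MulAut.conj x⁻¹).toMonoidHom (MulEquiv.injective _) g |>.symm.trans
        (by simp [hg']) |>.symm]
    exact ((hp.out.coprime_iff_not_dvd.2 hg).symm).pow_right k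
  have hmain := altSum_of_minimal hw₀ ha₀ hd (V := R J)
    (fun u hu => by
      rw [hB, Subgroup.mem_subgroupOf]
      exact Subgroup.mem_sup_left (hrad _ (Subgroup.mem_subgroupOf.1 hu)))
    (hRn J)
    (fun n₀ hn₀ u hu hc => by
      obtain ⟨b, hb, b', hb', rfl⟩ := mem_cell_same hn hn₀
      have hu' := (Subgroup.mem_normalizer_iff''.1 (hRn J (B_le_par J hb)) u).1 hu
      have h3 : n⁻¹ * (b⁻¹ * u * b) * n ∈ P.B := by
        have := mul_mem (mul_mem hb' hc) (inv_mem hb')
        rwa [show b' * ((b * n * b')⁻¹ * u * (b * n * b')) * b'⁻¹ = n⁻¹ * (b⁻¹ * u * b) * n by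
          group] at this
      have h4 : b⁻¹ * u * b = 1 := Subtype.ext
        (hRtop _ (hnfree _ (hrad _ (Subgroup.mem_subgroupOf.1 hu')) h3))
      rwa [show b⁻¹ * u * b = b⁻¹ * u * b⁻¹⁻¹ by group, conj_eq_one_iff] at h4)
    (by
      rw [hc₁]
      have h1 : Nat.card ↥((D.unipotentRadical F (idx '' (Set.univ : Set P.S))).subgroupOf
          (D.group F)) = 1 := by
        rw [Subgroup.card_eq_one]
        exact (Subgroup.eq_bot_iff_forall _).2 fun u hu => Subtype.ext
          (hRtop _ (Subgroup.mem_subgroupOf.1 hu))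
      rw [h1, mul_one] at hc₂
      exact hc₂.symm)
    hgJ hcop hmin
  -- the count
  have hcount : Nat.card {v : ↥(R J) // g' * v = v * g'} = p ^ (Nat.card ↥Cg).factorization p := by
    have h1 : Nat.card {v : ↥(R J) // g' * v = v * g'} = Nat.card ↥(Q ⊓ Cg) := by
      refine Nat.card_eq_of_bijective (fun v => ⟨x * (v.1 : ↥(D.group F)) * x⁻¹, ?_, ?_⟩) ⟨?_, ?_⟩
      · rw [hQJ]; exact ⟨_, v.1.2, rfl⟩
      · show x * (v.1 : ↥(D.group F)) * x⁻¹ ∈ Cg
        rw [hCg, Subgroup.mem_centralizer_singleton_iff]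
        have e := congrArg (fun z => x * z * x⁻¹) v.2
        simp only [hg'] at e
        simpa [mul_assoc] using e.symm
      · intro v v' e
        exact Subtype.ext (Subtype.ext (mul_left_cancel (mul_right_cancel (congrArg Subtype.val e))))
      · rintro ⟨u, hu⟩
        obtain ⟨huQ, huC⟩ := Subgroup.mem_inf.1 hu
        rw [hQJ] at huQ
        obtain ⟨v, hv, rfl⟩ := huQ
        refine ⟨⟨⟨v, hv⟩, ?_⟩, Subtype.ext rfl⟩
        have e := congrArg (fun z => x⁻¹ * z * x) (hcomm _ huC)
        simpa [hg', mul_assoc] using e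
    have hS : Nat.card ↥R₀ = p ^ (Nat.card ↥Cg).factorization p := by
      rw [hR₀, Subgroup.card_map_of_injective Cg.subtype_injective, S.card_eq_multiplicity]
    rw [h1, ← hS]
    refine le_antisymm ?_ (Nat.le_of_dvd Nat.card_pos (Subgroup.card_dvd_of_le (le_inf hQR hR₀c)))
    obtain ⟨k, hk⟩ := IsPGroup.iff_card.1 (hQp.to_le (inf_le_left : Q ⊓ Cg ≤ Q))
    rw [hS, hk]
    refine Nat.pow_le_pow_right hp.out.pos
      ((hp.out.pow_dvd_iff_le_factorization Nat.card_pos.ne').1 ?_)
    rw [← hk]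
    exact Subgroup.card_dvd_of_le inf_le_right
  rw [hcount] at hmain
  exact_mod_cast hmain

end Cert

end CfsgLib.Chev
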