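import Cfsg.Agent.Lib.Chev.SubfieldTypes

/-!
Type B2: frame elements are fixed by the automorphism.

There is no pair of long roots adding up to the highest one, so the moves use the long root `4` of the Levi part. A
frame element with a vanishing short coordinate puts `x_5(c) x_3(c²)` in the overgroup, which makes `c` rational.
-/

set_option autoImplicit false
set_option maxRecDepth 100000

namespace CfsgLib.Chev

open Cfsg.Lie Matrix

lemma b2Basic : tabB2.top = 7 ∧ tabB2.n = 8 ∧ tabB2.qList = [5, 6, 7] ∧ 1 < tabB2.l ∧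
    tabB2.coef 5 5 = 0 ∧ tabB2.coef 5 6 = 2 ∧ tabB2.coef 5 7 = 0 := by
  decide +kernel

lemma b2CommA : tabB2.commTerms 0 5 = [(1, 1, 1, 1), (3, -1, 1, 2)] ∧
    tabB2.commTerms 0 6 = [(2, -1, 1, 1), (4, 1, 1, 2)] ∧
    tabB2.commTerms 4 5 = [(6, 1, 1, 1), (7, -1, 1, 2)] ∧
    tabB2.commTerms 5 4 = [(6, -1, 1, 1), (7, -1, 2, 1)] := by
  decide +kernel

lemma b2CommB : tabB2.commTerms 6 3 = [(5, -1, 1, 1), (7, 1, 2, 1)] ∧
    tabB2.commTerms 6 5 = [(7, -2, 1, 1)] ∧ tabB2.commTerms 6 2 = [(4, 2, 1, 1)] ∧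
    tabB2.commTerms 6 0 = [(2, 1, 1, 1), (4, 1, 2, 1)] := by
  decide +kernel

lemma b2CommC : tabB2.commTerms 7 1 = [(5, 1, 1, 1), (3, 1, 1, 2)] ∧
    tabB2.commTerms 7 2 = [(6, -1, 1, 1), (4, -1, 1, 2)] := by
  decide +kernel

lemma b2Nil : ([(0, 4), (0, 2), (2, 4), (3, 5), (3, 7), (7, 4), (6, 4), (4, 7)].all fun p =>
    (tabB2.commTerms p.1 p.2).isEmpty && decide (p.2 ≠ p.1) && decide (p.2 ≠ tabB2.neg p.1)) = true := by
  decide +kernel

lemma b2Refl : tabB2.refl 1 0 = 0 ∧ tabB2.refl 1 5 = 6 ∧ tabB2.refl 1 6 = 5 ∧ tabB2.refl 1 7 = 7 ∧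
    tabB2.refl 1 3 = 4 := by
  decide +kernel

namespace Over

open Cert (inQ_lt mem_qList)

variable {D : ChevalleyDatum} {C : Tab.Cover} {K : Type*} [Field K] {σ : K →+* K}
  {k : Subfield K} {H : Subgroup (GL D.Idx K)} (ho : Over D tabB2 σ k H) (h : Cert D tabB2 C)
  (hf : tabB2.chkFrame = true)

include h in
lemma b2_comm {a b : ℕ}
    (hab : (a, b) ∈ [(0, 4), (0, 2), (2, 4), (3, 5), (3, 7), (7, 4), (6, 4), (4, 7)])
    (x y : K) : Commute (X D a x) (X D b y) := by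
  have hch := b2Nil
  simp only [List.all_eq_true, Bool.and_eq_true, decide_eq_true_eq, List.isEmpty_iff] at hch
  obtain ⟨⟨h1, h2⟩, h3⟩ := hch _ hab
  have hn := b2Basic.2.1
  simp only [List.mem_cons, Prod.mk.injEq, List.not_mem_nil, or_false] at hab
  exact h.commute_of_nil (by rw [hn]; omega) (by rw [hn]; omega) h2 h3 h1 x y

/-- The three coordinates of a frame element. -/
def B2P (D : ChevalleyDatum) {K : Type*} [Field K] (H : Subgroup (GL D.Idx K)) (c ρ η : K) : Prop :=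
  ∃ z, Sted D tabB2 H c (X D 5 η * (X D 6 ρ * X D 7 z))

include h in
lemma b2_swap (a b : K) : X D 6 a * X D 5 b = X D 5 b * (X D 6 a * X D 7 (-2 * a * b)) := by
  have hn := b2Basic.2.1
  have h1 := h.X_conj (F := K) (r := 6) (s := 5) (by rw [hn]; norm_num) (by rw [hn]; norm_num)
    (by norm_num) (by simp [Tab.neg, hn]) (-a) b
  rw [_root_.neg_neg, ← h.X_inv (r := 6) (by rw [hn]; norm_num), b2CommB.2.1] at h1
  simp only [List.map_cons, List.map_nil, List.prod_cons, List.prod_nil, mul_one, pow_one,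
    Int.cast_neg, Int.cast_ofNat] at h1
  rw [mul_inv_eq_iff_eq_mul.1 h1, mul_assoc]
  congr 1
  have h2 := h.commute_of_nil (K := K) (r := 7) (s := 6) (by rw [hn]; norm_num) (by rw [hn]; norm_num)
    (by norm_num) (by simp [Tab.neg, hn]) (by decide +kernel) (-2 * a * b) a
  exact h2.eq

include ho h hf

lemma b2_q_mem {r : ℕ} (hr : r ∈ [5, 6, 7]) (u : K) : X D r u ∈ Qgrp D tabB2 K :=
  X_mem_gen D (show tabB2.inQ r = true from mem_qList.1 (by rw [b2Basic.2.2.1]; exact hr)) u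

lemma b2_shift {c ρ η : K} {s t : K} (hs : s ∈ k) (ht : t ∈ k) (hP : B2P D H c ρ η) :
    B2P D H c (ρ + s) (η + t) := by
  obtain ⟨z, hS⟩ := hP
  have hn := b2Basic.2.1
  have h1 := ho.sted_left h hf hS
    (mul_mem (ho.b2_q_mem h hf (r := 5) (by simp) t) (ho.b2_q_mem h hf (r := 6) (by simp) s))
    (mul_mem (ho.X_mem h (by rw [hn]; norm_num) ht) (ho.X_mem h (by rw [hn]; norm_num) hs))
  refine ⟨-2 * s * η + z, ?_⟩
  rwa [show X D 5 t * X D 6 s * (X D 5 η * (X D 6 ρ * X D 7 z)) =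
    X D 5 (η + t) * (X D 6 (ρ + s) * X D 7 (-2 * s * η + z)) by
    have c1 := (h.commute_of_nil (K := K) (r := 7) (s := 6) (by rw [hn]; norm_num) (by rw [hn]; norm_num)
      (by norm_num) (by simp [Tab.neg, hn]) (by decide +kernel) (-2 * s * η) ρ).eq
    calc X D 5 t * X D 6 s * (X D 5 η * (X D 6 ρ * X D 7 z))
        = X D 5 t * (X D 6 s * X D 5 η) * (X D 6 ρ * X D 7 z) := by group
      _ = (X D 5 t * X D 5 η) * (X D 6 s * ((X D 7 (-2 * s * η) * X D 6 ρ) * X D 7 z)) := by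
          rw [b2_swap h]; group
      _ = (X D 5 t * X D 5 η) * ((X D 6 s * X D 6 ρ) * (X D 7 (-2 * s * η) * X D 7 z)) := by
          rw [c1]; group
      _ = _ := by
          rw [h.X_add (by rw [hn]; norm_num), h.X_add (by rw [hn]; norm_num),
            h.X_add (by rw [hn]; norm_num), add_comm t, add_comm s]] at h1

/-- The two short coordinates change places. -/
lemma b2_mirror {c ρ η : K} (hP : B2P D H c ρ η) :
    ∃ c' ρ' η', (c' ∈ k ↔ c ∈ k) ∧ (ρ' ∈ k ↔ η ∈ k) ∧ (η' ∈ k ↔ ρ ∈ k) ∧ (η = 0 → ρ' = 0) ∧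
      (∀ L : Subfield K, (c' ∈ L ↔ c ∈ L) ∧ (η' ∈ L ↔ ρ ∈ L)) ∧ B2P D H c' ρ' η' := by
  obtain ⟨z, hS⟩ := hP
  obtain ⟨etop, hn, eql, hl, -⟩ := b2Basic
  obtain ⟨r0, r5, r6, r7, -⟩ := b2Refl
  have hlt : ∀ r, r < 8 → r < tabB2.n := fun r hr => by rw [hn]; exact hr
  set n := nS D K 1 with hnS
  set e : ℕ → K := fun r => (tabB2.eta 1 r : K) with he
  have hiffL : ∀ (L : Subfield K) (r : ℕ) (x : K), e r * x ∈ L ↔ x ∈ L := fun L r x => by
    rcases tabB2.eta_cases 1 r with a | a <;> simp [e, a]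
  have hiff : ∀ (r : ℕ) (x : K), e r * x ∈ k ↔ x ∈ k := hiffL k
  have cn : ∀ r, r < 8 → ∀ x : K, n * X D r x * n⁻¹ = X D (tabB2.refl 1 r) (e r * x) := fun r hr x =>
    h.nS_conj_X hl (hlt r hr) x
  have c5 := cn 5 (by norm_num) η
  have c6 := cn 6 (by norm_num) ρ
  have c7 := cn 7 (by norm_num) z
  have c0 := cn 0 (by norm_num) c
  rw [r5] at c5; rw [r6] at c6; rw [r7] at c7; rw [r0] at c0
  have hm := mul_mem (mul_mem (ho.nS_mem h hl) hS.2.2) (inv_mem (ho.nS_mem h hl))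
  rw [← hnS] at hm
  set q := X D 5 η * (X D 6 ρ * X D 7 z)
  have eq' : n * q * n⁻¹ =
      X D 5 (e 6 * ρ) * (X D 6 (e 5 * η) * X D 7 (-2 * (e 5 * η) * (e 6 * ρ) + e 7 * z)) := by
    calc n * q * n⁻¹ = (n * X D 5 η * n⁻¹) * (n * X D 6 ρ * n⁻¹) * (n * X D 7 z * n⁻¹) := by
          simp only [q]; group
      _ = X D 5 (e 6 * ρ) *
            (X D 6 (e 5 * η) * (X D 7 (-2 * (e 5 * η) * (e 6 * ρ)) * X D 7 (e 7 * z))) := by
          rw [c5, c6, c7, b2_swap h]; simp only [mul_assoc]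
      _ = _ := by rw [h.X_add (hlt 7 (by norm_num))]
  refine ⟨e 0 * c, e 5 * η, e 6 * ρ, hiff 0 c, hiff 5 η, hiff 6 ρ, fun a => by rw [a, mul_zero],
    fun L => ⟨hiffL L 0 c, hiffL L 6 ρ⟩,
    -2 * (e 5 * η) * (e 6 * ρ) + e 7 * z, mul_ne_zero ?_ hS.1, ?_, ?_⟩
  · rcases tabB2.eta_cases 1 0 with a | a <;> simp [e, a]
  · exact mul_mem (ho.b2_q_mem h hf (by simp) _)
      (mul_mem (ho.b2_q_mem h hf (by simp) _) (ho.b2_q_mem h hf (by simp) _))
  · rw [← eq', ← c0]
    rwa [show n * q * n⁻¹ * (n * X D 0 c * n⁻¹) * (n * q * n⁻¹)⁻¹ =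
      n * (q * X D 0 c * q⁻¹) * n⁻¹ by group]

/-- The move with the root `4`. -/
lemma b2_step {c ρ η t : K} (ht : t ∈ k) (ht0 : t ≠ 0) (hη0 : η ≠ 0) (hP : B2P D H c ρ η) :
    B2P D H (t * c ^ 2 * η ^ 2) (ρ + -1 * (c * η)⁻¹) η := by
  obtain ⟨z, hS⟩ := hP
  obtain ⟨etop, hn, eql, hl, -⟩ := b2Basic
  have hlt : ∀ r, r < 8 → r < tabB2.n := fun r hr => by rw [hn]; exact hr
  set C := t * c ^ 2 * η ^ 2 with hC
  set e := -1 * (c * η)⁻¹ with he
  set u := c⁻¹ with hu
  set q := X D 5 η * (X D 6 ρ * X D 7 z) with hq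
  have eC : e * C = -(c * η * t) := by
    rw [he, hC]; field_simp [hS.1, hη0]
  have eC2 : e ^ 2 * C = t := by
    rw [he, hC]; field_simp [hS.1, hη0]
  have ux : u * (c * η * t) = η * t := by rw [hu]; field_simp [hS.1]
  -- through q
  have c46 : ∀ x y : K, Commute (X D 6 x) (X D 4 y) := fun x y => b2_comm h (by simp) x y
  have c47 : ∀ x y : K, Commute (X D 4 x) (X D 7 y) := fun x y => b2_comm h (by simp) x y
  have hq1 : q⁻¹ * X D 4 t * q = X D 4 t * (X D 6 (η * t) * X D 7 (-(η ^ 2 * t))) := by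
    have h5 := h.X_conj (F := K) (hlt 5 (by norm_num)) (hlt 4 (by norm_num)) (by norm_num)
      (by simp [Tab.neg, hn]) η t
    rw [← h.X_inv (hlt 5 (by norm_num)), b2CommA.2.2.2] at h5
    simp only [List.map_cons, List.map_nil, List.prod_cons, List.prod_nil, mul_one, pow_one,
      Int.cast_neg, Int.cast_one, neg_mul, one_mul, _root_.neg_neg, neg_sq] at h5
    have hw : Commute (X D 6 ρ * X D 7 z) (X D 4 t * (X D 6 (η * t) * X D 7 (-(η ^ 2 * t)))) := by
      have p6 : ∀ x y : K, Commute (X D 6 x) (X D 7 y) := fun x y =>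
        (h.pos_commute_top hf (r := 6) (by rw [Tab.half, hn]; norm_num) (hlt 6 (by norm_num)) x y).trans
          (by rw [etop])
      have p66 : ∀ x y : K, Commute (X D 6 x) (X D 6 y) := fun x y => by
        show X D 6 x * X D 6 y = X D 6 y * X D 6 x
        rw [h.X_add (hlt 6 (by norm_num)), h.X_add (hlt 6 (by norm_num)), add_comm]
      have p77 : ∀ x y : K, Commute (X D 7 x) (X D 7 y) := fun x y => by
        show X D 7 x * X D 7 y = X D 7 y * X D 7 x
        rw [h.X_add (hlt 7 (by norm_num)), h.X_add (hlt 7 (by norm_num)), add_comm]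
      exact Commute.mul_left
        ((c46 _ _).mul_right ((p66 _ _).mul_right (p6 _ _)))
        ((c47 _ _).symm.mul_right ((p6 _ _).symm.mul_right (p77 _ _)))
    rw [hq, show (X D 5 η * (X D 6 ρ * X D 7 z))⁻¹ * X D 4 t * (X D 5 η * (X D 6 ρ * X D 7 z)) =
      (X D 6 ρ * X D 7 z)⁻¹ * ((X D 5 η)⁻¹ * X D 4 t * X D 5 η) * (X D 6 ρ * X D 7 z) by group, h5,
      mul_assoc, ← hw.eq, inv_mul_cancel_left]
  -- the left side
  have c24 : ∀ x y : K, Commute (X D 2 x) (X D 4 y) := fun x y => b2_comm h (by simp) x y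
  have c04 : ∀ x y : K, Commute (X D 0 x) (X D 4 y) := fun x y => b2_comm h (by simp) x y
  have c02 : ∀ x y : K, Commute (X D 0 x) (X D 2 y) := fun x y => b2_comm h (by simp) x y
  have h06 : X D 0 c * X D 6 (η * t) * X D 0 (-c) =
      X D 6 (η * t) * (X D 2 (-(c * η * t)) * X D 4 (c * (η * t) ^ 2)) := by
    have := h.X_conj (F := K) (hlt 0 (by norm_num)) (hlt 6 (by norm_num)) (by norm_num)
      (by simp [Tab.neg, hn]) (-c) (η * t)
    rw [_root_.neg_neg, b2CommA.2.1] at this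
    simp only [List.map_cons, List.map_nil, List.prod_cons, List.prod_nil, mul_one, pow_one,
      Int.cast_neg, Int.cast_one, neg_mul, one_mul] at this
    rw [this, mul_assoc c η t]
  have htop := h.top_conj_zero hf hS.1 (-(η ^ 2 * t))
  rw [etop, show -(c ^ 2 * -(η ^ 2 * t)) = C by rw [hC]; ring] at htop
  set M := X D 7 u * X D 0 C * X D 7 (-u) with hM
  have hL : X D 0 c * (q⁻¹ * X D 4 t * q) * (X D 0 c)⁻¹ =
      X D 4 t * (X D 6 (η * t) * (X D 2 (-(c * η * t)) * X D 4 (c * (η * t) ^ 2))) * M := by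
    rw [hq1, ← htop, ← h06, h.X_inv (hlt 0 (by norm_num))]
    have hz : X D 0 (-c) * X D 0 c = 1 := by
      rw [h.X_add (hlt 0 (by norm_num)), neg_add_cancel, h.X_zero (hlt 0 (by norm_num))]
    have h04 : X D 0 c * X D 4 t * X D 0 (-c) = X D 4 t := by
      rw [(c04 c t).eq, mul_assoc, h.X_add (hlt 0 (by norm_num)), add_neg_cancel,
        h.X_zero (hlt 0 (by norm_num)), mul_one]
    calc X D 0 c * (X D 4 t * (X D 6 (η * t) * X D 7 (-(η ^ 2 * t)))) * X D 0 (-c)
        = X D 0 c * (X D 4 t * (X D 0 (-c) * X D 0 c) *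
            (X D 6 (η * t) * (X D 0 (-c) * X D 0 c) * X D 7 (-(η ^ 2 * t)))) * X D 0 (-c) := by
          rw [hz, mul_one, mul_one]
      _ = (X D 0 c * X D 4 t * X D 0 (-c)) * (X D 0 c * X D 6 (η * t) * X D 0 (-c)) *
            (X D 0 c * X D 7 (-(η ^ 2 * t)) * X D 0 (-c)) := by group
      _ = _ := by rw [h04]
  -- the right side
  have hR : X D 7 u * X D 6 e * X D 0 C * (X D 7 u * X D 6 e)⁻¹ =
      X D 4 t * (X D 6 (η * t) * (X D 2 (-(c * η * t)) * X D 4 (c * (η * t) ^ 2))) * M := by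
    have h60 : X D 6 e * X D 0 C * (X D 6 e)⁻¹ = X D 2 (-(c * η * t)) * X D 4 t * X D 0 C := by
      have := h.X_conj (F := K) (hlt 6 (by norm_num)) (hlt 0 (by norm_num)) (by norm_num)
        (by simp [Tab.neg, hn]) (-e) C
      rw [_root_.neg_neg, ← h.X_inv (hlt 6 (by norm_num)), b2CommB.2.2.2] at this
      simp only [List.map_cons, List.map_nil, List.prod_cons, List.prod_nil, mul_one, pow_one,
        Int.cast_one, one_mul, eC, eC2] at this
      rw [this, ((c02 C _).mul_right (c04 C _)).eq]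
    have h72 : X D 7 u * X D 2 (-(c * η * t)) * (X D 7 u)⁻¹ =
        X D 2 (-(c * η * t)) * (X D 6 (η * t) * X D 4 (-(c * (η * t) ^ 2))) := by
      have := h.X_conj (F := K) (hlt 7 (by norm_num)) (hlt 2 (by norm_num)) (by norm_num)
        (by simp [Tab.neg, hn]) (-u) (-(c * η * t))
      rw [_root_.neg_neg, ← h.X_inv (hlt 7 (by norm_num)), b2CommC.2] at this
      simp only [List.map_cons, List.map_nil, List.prod_cons, List.prod_nil, mul_one, pow_one,
        Int.cast_neg, Int.cast_one, neg_mul, one_mul, mul_neg, neg_sq, _root_.neg_neg, ux] at this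
      rw [this, show -(u * (c * η * t) ^ 2) = -(c * (η * t) ^ 2) by rw [hu]; field_simp [hS.1]]
    have h74 : X D 7 u * X D 4 t * (X D 7 u)⁻¹ = X D 4 t := by
      rw [← (c47 t u).eq, mul_inv_cancel_right]
    have h62 : X D 6 (η * t) * X D 2 (-(c * η * t)) =
        X D 2 (-(c * η * t)) * X D 4 (-2 * (c * (η * t) ^ 2)) * X D 6 (η * t) := by
      have := h.X_conj (F := K) (hlt 6 (by norm_num)) (hlt 2 (by norm_num)) (by norm_num)
        (by simp [Tab.neg, hn]) (-(η * t)) (-(c * η * t))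
      rw [_root_.neg_neg, ← h.X_inv (hlt 6 (by norm_num)), b2CommB.2.2.1] at this
      simp only [List.map_cons, List.map_nil, List.prod_cons, List.prod_nil, mul_one, pow_one] at this
      rw [mul_inv_eq_iff_eq_mul.1 this]
      congr 3
      push_cast; ring
    calc X D 7 u * X D 6 e * X D 0 C * (X D 7 u * X D 6 e)⁻¹
        = X D 7 u * (X D 6 e * X D 0 C * (X D 6 e)⁻¹) * (X D 7 u)⁻¹ := by group
      _ = (X D 7 u * X D 2 (-(c * η * t)) * (X D 7 u)⁻¹) * (X D 7 u * X D 4 t * (X D 7 u)⁻¹) *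
            (X D 7 u * X D 0 C * (X D 7 u)⁻¹) := by rw [h60]; group
      _ = X D 2 (-(c * η * t)) * (X D 6 (η * t) * (X D 4 (-(c * (η * t) ^ 2)) * X D 4 t)) * M := by
          rw [h72, h74, h.X_inv (hlt 7 (by norm_num)), hM]; simp only [mul_assoc]
      _ = _ := by
          congr 1
          rw [show X D 6 (η * t) * (X D 2 (-(c * η * t)) * X D 4 (c * (η * t) ^ 2)) =
            X D 2 (-(c * η * t)) * X D 4 (-2 * (c * (η * t) ^ 2)) *
              (X D 6 (η * t) * X D 4 (c * (η * t) ^ 2)) by rw [← mul_assoc, h62]; group,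
            (c46 (η * t) (c * (η * t) ^ 2)).eq, h.X_add (hlt 4 (by norm_num)),
            (c46 (η * t) (-(c * (η * t) ^ 2) + t)).eq]
          calc X D 2 (-(c * η * t)) * (X D 4 (-(c * (η * t) ^ 2) + t) * X D 6 (η * t))
              = X D 2 (-(c * η * t)) *
                (X D 4 t * (X D 4 (-2 * (c * (η * t) ^ 2)) * X D 4 (c * (η * t) ^ 2)) * X D 6 (η * t)) := by
                rw [h.X_add (hlt 4 (by norm_num)), h.X_add (hlt 4 (by norm_num))]
                congr 3; ring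
            _ = (X D 2 (-(c * η * t)) * X D 4 t) * (X D 4 (-2 * (c * (η * t) ^ 2)) *
                (X D 4 (c * (η * t) ^ 2) * X D 6 (η * t))) := by group
            _ = (X D 4 t * X D 2 (-(c * η * t))) * (X D 4 (-2 * (c * (η * t) ^ 2)) *
                (X D 4 (c * (η * t) ^ 2) * X D 6 (η * t))) := by rw [(c24 _ _).eq]
            _ = _ := by group
  have hm := mul_mem (mul_mem hS.2.2 (ho.X_mem h (hlt 4 (by norm_num)) ht)) (inv_mem hS.2.2)
  rw [show q * X D 0 c * q⁻¹ * X D 4 t * (q * X D 0 c * q⁻¹)⁻¹ =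
    q * (X D 0 c * (q⁻¹ * X D 4 t * q) * (X D 0 c)⁻¹) * q⁻¹ by group, hL, ← hR] at hm
  refine ⟨z + u, mul_ne_zero (mul_ne_zero ht0 (pow_ne_zero _ hS.1)) (pow_ne_zero _ hη0), ?_, ?_⟩
  · exact mul_mem (ho.b2_q_mem h hf (by simp) _)
      (mul_mem (ho.b2_q_mem h hf (by simp) _) (ho.b2_q_mem h hf (by simp) _))
  · have p67 : Commute (X D 7 (z + u)) (X D 6 e) := by
      have := h.pos_commute_top hf (r := 6) (by rw [Tab.half, hn]; norm_num) (hlt 6 (by norm_num)) e (z + u)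
      rw [etop] at this
      exact this.symm
    have eq' : q * (X D 7 u * X D 6 e) = X D 5 η * (X D 6 (ρ + e) * X D 7 (z + u)) := by
      rw [hq]
      calc X D 5 η * (X D 6 ρ * X D 7 z) * (X D 7 u * X D 6 e)
          = X D 5 η * (X D 6 ρ * ((X D 7 z * X D 7 u) * X D 6 e)) := by group
        _ = X D 5 η * ((X D 6 ρ * X D 6 e) * X D 7 (z + u)) := by
            rw [h.X_add (hlt 7 (by norm_num)), p67.eq]; group
        _ = _ := by rw [h.X_add (hlt 6 (by norm_num))]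
    rw [← eq']
    rwa [show q * (X D 7 u * X D 6 e) * X D 0 C * (q * (X D 7 u * X D 6 e))⁻¹ =
      q * (X D 7 u * X D 6 e * X D 0 C * (X D 7 u * X D 6 e)⁻¹) * q⁻¹ by group]

/-- A vanishing coordinate at `6`: the parameter is rational. -/
lemma b2_base [Finite k] {c η : K} (hP : B2P D H c 0 η) : c ∈ k := by
  obtain ⟨z, hS⟩ := hP
  obtain ⟨etop, hn, eql, hl, e55, e56, e57⟩ := b2Basic
  have hlt : ∀ r, r < 8 → r < tabB2.n := fun r hr => by rw [hn]; exact hr
  rw [h.X_zero (hlt 6 (by norm_num)), one_mul] at hS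
  have key : ∀ w : K, Sted D tabB2 H w (X D 5 η * X D 7 z) → X D 5 w * X D 3 (w ^ 2) ∈ H := by
    intro w hw
    set q := X D 5 η * X D 7 z
    have p55 : Commute (X D 5 (1 : K)) (X D 5 η) := by
      show X D 5 1 * X D 5 η = X D 5 η * X D 5 1
      rw [h.X_add (hlt 5 (by norm_num)), h.X_add (hlt 5 (by norm_num)), add_comm]
    have p57 : ∀ x y : K, Commute (X D 5 x) (X D 7 y) := fun x y => by
      have := h.pos_commute_top hf (r := 5) (by rw [Tab.half, hn]; norm_num) (hlt 5 (by norm_num)) x y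
      rwa [etop] at this
    have hq5 : Commute (X D 5 (1 : K)) q := p55.mul_right (p57 _ _)
    have p77 : ∀ x y : K, Commute (X D 7 x) (X D 7 y) := fun x y => by
      show X D 7 x * X D 7 y = X D 7 y * X D 7 x
      rw [h.X_add (hlt 7 (by norm_num)), h.X_add (hlt 7 (by norm_num)), add_comm]
    have hq7 : Commute (X D 7 (1 : K)) q := (p57 _ _).symm.mul_right (p77 _ _)
    have e05 : X D 0 w * X D 5 1 * (X D 0 w)⁻¹ = X D 5 1 * (X D 1 w * X D 3 (-w)) := by
      have := h.X_conj (F := K) (hlt 0 (by norm_num)) (hlt 5 (by norm_num)) (by norm_num)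
        (by simp [Tab.neg, hn]) (-w) 1
      rw [_root_.neg_neg, ← h.X_inv (hlt 0 (by norm_num)), b2CommA.1] at this
      simpa using this
    have hE0 : q * (X D 1 w * X D 3 (-w)) * q⁻¹ ∈ H := by
      have h1 := mul_mem (inv_mem (ho.X_mem h (hlt 5 (by norm_num)) (one_mem k)))
        (mul_mem (mul_mem hw.2.2 (ho.X_mem h (hlt 5 (by norm_num)) (one_mem k))) (inv_mem hw.2.2))
      have : (X D 5 (1 : K))⁻¹ * (q * X D 0 w * q⁻¹ * X D 5 1 * (q * X D 0 w * q⁻¹)⁻¹) =
          q * (X D 1 w * X D 3 (-w)) * q⁻¹ := by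
        calc (X D 5 (1 : K))⁻¹ * (q * X D 0 w * q⁻¹ * X D 5 1 * (q * X D 0 w * q⁻¹)⁻¹)
            = (X D 5 (1 : K))⁻¹ * (q * (X D 0 w * (q⁻¹ * (X D 5 1 * q)) * (X D 0 w)⁻¹) * q⁻¹) := by group
          _ = (X D 5 (1 : K))⁻¹ * (q * X D 5 1) * (X D 1 w * X D 3 (-w)) * q⁻¹ := by
              rw [hq5.eq, inv_mul_cancel_left, e05]; group
          _ = _ := by rw [← hq5.eq, inv_mul_cancel_left]
      rwa [this] at h1
    have e71 : X D 7 1 * (X D 1 w * X D 3 (-w)) * (X D 7 1)⁻¹ =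
        X D 1 w * X D 3 (-w) * (X D 5 w * X D 3 (w ^ 2)) := by
      have h71 := h.X_conj (F := K) (hlt 7 (by norm_num)) (hlt 1 (by norm_num)) (by norm_num)
        (by simp [Tab.neg, hn]) (-1) w
      rw [_root_.neg_neg, ← h.X_inv (hlt 7 (by norm_num)), b2CommC.1] at h71
      simp only [List.map_cons, List.map_nil, List.prod_cons, List.prod_nil, mul_one, pow_one,
        Int.cast_one, one_mul] at h71
      have h73 : X D 7 1 * X D 3 (-w) * (X D 7 1)⁻¹ = X D 3 (-w) := by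
        rw [← (b2_comm h (a := 3) (b := 7) (by simp) (-w) (1 : K)).eq, mul_inv_cancel_right]
      have c33 : Commute (X D 3 (w ^ 2)) (X D 3 (-w)) := by
        show X D 3 (w ^ 2) * X D 3 (-w) = X D 3 (-w) * X D 3 (w ^ 2)
        rw [h.X_add (hlt 3 (by norm_num)), h.X_add (hlt 3 (by norm_num)), add_comm]
      calc X D 7 1 * (X D 1 w * X D 3 (-w)) * (X D 7 1)⁻¹
          = (X D 7 1 * X D 1 w * (X D 7 1)⁻¹) * (X D 7 1 * X D 3 (-w) * (X D 7 1)⁻¹) := by group
        _ = X D 1 w * ((X D 5 w * X D 3 (w ^ 2)) * X D 3 (-w)) := by rw [h71, h73]; group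
        _ = _ := by
            rw [((b2_comm h (a := 3) (b := 5) (by simp) (-w) w).symm.mul_left c33).eq]
            group
    have hq53 : Commute (X D 5 w * X D 3 (w ^ 2)) q := by
      refine Commute.mul_left ?_ ((b2_comm h (by simp) _ _).mul_right (b2_comm h (by simp) _ _))
      refine Commute.mul_right ?_ (p57 _ _)
      show X D 5 w * X D 5 η = X D 5 η * X D 5 w
      rw [h.X_add (hlt 5 (by norm_num)), h.X_add (hlt 5 (by norm_num)), add_comm]
    have h2 := mul_mem (inv_mem hE0) (mul_mem (mul_mem (ho.X_mem h (hlt 7 (by norm_num)) (one_mem k)) hE0)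
      (inv_mem (ho.X_mem h (hlt 7 (by norm_num)) (one_mem k))))
    have : (q * (X D 1 w * X D 3 (-w)) * q⁻¹)⁻¹ *
        (X D 7 1 * (q * (X D 1 w * X D 3 (-w)) * q⁻¹) * (X D 7 1)⁻¹) = X D 5 w * X D 3 (w ^ 2) := by
      calc (q * (X D 1 w * X D 3 (-w)) * q⁻¹)⁻¹ *
            (X D 7 1 * (q * (X D 1 w * X D 3 (-w)) * q⁻¹) * (X D 7 1)⁻¹)
          = q * (X D 1 w * X D 3 (-w))⁻¹ * q⁻¹ *
              ((X D 7 1 * q) * (X D 1 w * X D 3 (-w)) * (X D 7 1 * q)⁻¹) := by group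
        _ = q * (X D 1 w * X D 3 (-w))⁻¹ * q⁻¹ *
              ((q * X D 7 1) * (X D 1 w * X D 3 (-w)) * (q * X D 7 1)⁻¹) := by rw [hq7.eq]
        _ = q * ((X D 1 w * X D 3 (-w))⁻¹ * (X D 7 1 * (X D 1 w * X D 3 (-w)) * (X D 7 1)⁻¹)) * q⁻¹ := by
            group
        _ = _ := by rw [e71, inv_mul_cancel_left, ← hq53.eq, mul_inv_cancel_right]
    rwa [this] at h2
  have hF := key c hS
  by_cases h2 : (2 : K) = 0
  · have : CharP K 2 := CharTwo.of_one_ne_zero_of_two_eq_zero one_ne_zero h2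
    have hneg : ∀ x : K, -x = x := CharTwo.neg_eq
    -- one in characteristic two
    have hz2 : ∀ (r : ℕ) (x : K), r < 8 → X D r (-2 * x) = 1 := fun r x hr => by
      rw [h2, neg_zero, zero_mul, h.X_zero (hlt r hr)]
    have c65 : ∀ x y : K, Commute (X D 6 x) (X D 5 y) := fun x y => by
      show X D 6 x * X D 5 y = X D 5 y * X D 6 x
      rw [b2_swap h, show -2 * x * y = -2 * (x * y) by ring, hz2 7 _ (by norm_num), mul_one]
    -- conjugating by x_4
    have h45 : ∀ s w : K, X D 4 s * X D 5 w * (X D 4 s)⁻¹ =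
        X D 5 w * (X D 6 (s * w) * X D 7 (s * w ^ 2)) := by
      intro s w
      have := h.X_conj (F := K) (hlt 4 (by norm_num)) (hlt 5 (by norm_num)) (by norm_num)
        (by simp [Tab.neg, hn]) (-s) w
      rw [_root_.neg_neg, ← h.X_inv (hlt 4 (by norm_num)), b2CommA.2.2.1] at this
      simpa [hneg] using this
    have hG : ∀ w m s : K, X D 5 w * X D 7 m ∈ H → X D 4 s * X D 5 w * (X D 4 s)⁻¹ * X D 7 m ∈ H →
        X D 6 (s * w) * X D 7 (s * w ^ 2) ∈ H := by
      intro w m s h1 h3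
      rw [h45] at h3
      have h4 := mul_mem (inv_mem h1) h3
      have c7 : Commute (X D 6 (s * w) * X D 7 (s * w ^ 2)) (X D 7 m) := by
        refine Commute.mul_left ?_ ?_
        · have := h.pos_commute_top hf (r := 6) (by rw [Tab.half, hn]; norm_num) (hlt 6 (by norm_num))
            (s * w) m
          rwa [etop] at this
        · show X D 7 _ * X D 7 m = X D 7 m * X D 7 _
          rw [h.X_add (hlt 7 (by norm_num)), h.X_add (hlt 7 (by norm_num)), add_comm]
      rw [_root_.mul_inv_rev, show (X D 7 m)⁻¹ * (X D 5 w)⁻¹ *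
        (X D 5 w * (X D 6 (s * w) * X D 7 (s * w ^ 2)) * X D 7 m) =
        (X D 7 m)⁻¹ * ((X D 6 (s * w) * X D 7 (s * w ^ 2)) * X D 7 m) by group, c7.eq,
        inv_mul_cancel_left] at h4
      exact h4
    have cn : ∀ r, r < 8 → ∀ x : K, nS D K 1 * X D r x * (nS D K 1)⁻¹ = X D (tabB2.refl 1 r) x := by
      intro r hr x
      rw [h.nS_conj_X hl (hlt r hr) x]
      rcases tabB2.eta_cases 1 r with a | a <;> simp [a, hneg]
    have hnH := ho.nS_mem h hl
    obtain ⟨r0, r5, r6, r7, r3⟩ := b2Refl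
    have hmir : ∀ w m : K, X D 5 w * X D 7 m ∈ H → X D 6 w * X D 7 m ∈ H := by
      intro w m h1
      have h3 := mul_mem (mul_mem hnH h1) (inv_mem hnH)
      rwa [show nS D K 1 * (X D 5 w * X D 7 m) * (nS D K 1)⁻¹ =
        (nS D K 1 * X D 5 w * (nS D K 1)⁻¹) * (nS D K 1 * X D 7 m * (nS D K 1)⁻¹) by group,
        cn 5 (by norm_num), cn 7 (by norm_num), r5, r7] at h3
    have hmir' : ∀ w m : K, X D 6 w * X D 7 m ∈ H → X D 5 w * X D 7 m ∈ H := by
      intro w m h1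
      have h3 := mul_mem (mul_mem hnH h1) (inv_mem hnH)
      rwa [show nS D K 1 * (X D 6 w * X D 7 m) * (nS D K 1)⁻¹ =
        (nS D K 1 * X D 6 w * (nS D K 1)⁻¹) * (nS D K 1 * X D 7 m * (nS D K 1)⁻¹) by group,
        cn 6 (by norm_num), cn 7 (by norm_num), r6, r7] at h3
    have hT : ∀ w m : K, X D 5 w * X D 7 m ∈ H → m + w ^ 2 ∈ k := by
      intro w m h1
      have hX4 := ho.X_mem h (hlt 4 (by norm_num)) (one_mem k)
      have h3 : X D 4 1 * X D 5 w * (X D 4 1)⁻¹ * X D 7 m ∈ H := by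
        have h5 := mul_mem (mul_mem hX4 h1) (inv_mem hX4)
        rwa [show X D 4 1 * (X D 5 w * X D 7 m) * (X D 4 1)⁻¹ =
          X D 4 1 * X D 5 w * (X D 4 1)⁻¹ * (X D 4 1 * X D 7 m * (X D 4 1)⁻¹) by group,
          (b2_comm h (a := 4) (b := 7) (by simp) (1 : K) m).eq, mul_inv_cancel_right] at h5
      have h6 := hG w m 1 h1 h3
      rw [one_mul, one_mul] at h6
      have h7 := mul_mem (inv_mem (hmir w m h1)) h6
      rw [_root_.mul_inv_rev, show (X D 7 m)⁻¹ * (X D 6 w)⁻¹ * (X D 6 w * X D 7 (w ^ 2)) =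
        (X D 7 m)⁻¹ * X D 7 (w ^ 2) by group, h.X_inv (hlt 7 (by norm_num)), hneg,
        h.X_add (hlt 7 (by norm_num))] at h7
      have := ho.param (m + w ^ 2) (by rw [etop]; exact h7)
      exact this
    -- the first element
    have h57 : X D 5 (c ^ 2) * X D 7 (c ^ 2) ∈ H := by
      have hX6 := ho.X_mem h (hlt 6 (by norm_num)) (one_mem k)
      have e63 : X D 6 1 * X D 3 (c ^ 2) * (X D 6 1)⁻¹ =
          X D 3 (c ^ 2) * (X D 5 (c ^ 2) * X D 7 (c ^ 2)) := by
        have := h.X_conj (F := K) (hlt 6 (by norm_num)) (hlt 3 (by norm_num)) (by norm_num)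
          (by simp [Tab.neg, hn]) (-1) (c ^ 2)
        rw [_root_.neg_neg, ← h.X_inv (hlt 6 (by norm_num)), b2CommB.1] at this
        simpa [hneg] using this
      have h3 := mul_mem (inv_mem hF) (mul_mem (mul_mem hX6 hF) (inv_mem hX6))
      rwa [show (X D 5 c * X D 3 (c ^ 2))⁻¹ * (X D 6 1 * (X D 5 c * X D 3 (c ^ 2)) * (X D 6 1)⁻¹) =
        (X D 3 (c ^ 2))⁻¹ * ((X D 5 c)⁻¹ * (X D 6 1 * X D 5 c) * (X D 6 1)⁻¹ *
          (X D 6 1 * X D 3 (c ^ 2) * (X D 6 1)⁻¹)) by group,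
        (c65 1 c).eq, inv_mul_cancel_left, mul_inv_cancel, one_mul, e63, inv_mul_cancel_left] at h3
    have hs1 := hT _ _ h57
    -- the second element
    have hF' : X D 6 c * X D 4 (c ^ 2) ∈ H := by
      have h3 := mul_mem (mul_mem hnH hF) (inv_mem hnH)
      rwa [show nS D K 1 * (X D 5 c * X D 3 (c ^ 2)) * (nS D K 1)⁻¹ =
        (nS D K 1 * X D 5 c * (nS D K 1)⁻¹) * (nS D K 1 * X D 3 (c ^ 2) * (nS D K 1)⁻¹) by group,
        cn 5 (by norm_num), cn 3 (by norm_num), r5, r3] at h3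
    have h3 : X D 4 (c ^ 2) * X D 5 (c ^ 2) * (X D 4 (c ^ 2))⁻¹ * X D 7 (c ^ 2) ∈ H := by
      have h5 := mul_mem (mul_mem hF' h57) (inv_mem hF')
      have p6 : Commute (X D 6 c)
          (X D 5 (c ^ 2) * (X D 6 (c ^ 2 * c ^ 2) * X D 7 (c ^ 2 * (c ^ 2) ^ 2)) * X D 7 (c ^ 2)) := by
        have q7 : ∀ y : K, Commute (X D 6 c) (X D 7 y) := fun y => by
          have := h.pos_commute_top hf (r := 6) (by rw [Tab.half, hn]; norm_num) (hlt 6 (by norm_num)) c y
          rwa [etop] at this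
        refine ((c65 _ _).mul_right (Commute.mul_right ?_ (q7 _))).mul_right (q7 _)
        show X D 6 c * X D 6 _ = X D 6 _ * X D 6 c
        rw [h.X_add (hlt 6 (by norm_num)), h.X_add (hlt 6 (by norm_num)), add_comm]
      rwa [show X D 6 c * X D 4 (c ^ 2) * (X D 5 (c ^ 2) * X D 7 (c ^ 2)) *
        (X D 6 c * X D 4 (c ^ 2))⁻¹ = X D 6 c * (X D 4 (c ^ 2) * X D 5 (c ^ 2) * (X D 4 (c ^ 2))⁻¹ *
          (X D 4 (c ^ 2) * X D 7 (c ^ 2) * (X D 4 (c ^ 2))⁻¹)) * (X D 6 c)⁻¹ by group,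
        (b2_comm h (a := 4) (b := 7) (by simp) (c ^ 2) (c ^ 2)).eq, mul_inv_cancel_right, h45, p6.eq,
        mul_inv_cancel_right, ← h45] at h5
    have hs2 := hT _ _ (hmir' _ _ (hG (c ^ 2) (c ^ 2) (c ^ 2) h57 h3))
    set s := c ^ 2
    have hcs : c ^ 2 ∈ k := by
      have e1 : (s * s ^ 2 + (s * s) ^ 2) = s ^ 2 * (s + s ^ 2) := by ring
      rw [e1] at hs2
      by_cases h0 : s + s ^ 2 = 0
      · have : s * (1 + s) = 0 := by rw [← h0]; ring
        rcases mul_eq_zero.1 this with a | a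
        · rw [show c ^ 2 = 0 from a]; exact zero_mem k
        · have hs : s = 1 := by rw [eq_neg_of_add_eq_zero_right a, hneg]
          rw [show c ^ 2 = 1 from hs]; exact one_mem k
      · have h4 := mul_mem hs2 (inv_mem hs1)
        rw [mul_assoc, mul_inv_cancel₀ h0, mul_one] at h4
        exact SubfieldStep.mem_of_sq_mem k h4
    exact SubfieldStep.mem_of_sq_mem k hcs
  · have hF2 := key (-c) (ho.sted_inv h hf hS)
    rw [neg_sq] at hF2
    have hmul := mul_mem hF hF2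
    have c35 := b2_comm h (a := 3) (b := 5) (by simp) (c ^ 2) (-c)
    rw [show X D 5 c * X D 3 (c ^ 2) * (X D 5 (-c) * X D 3 (c ^ 2)) =
      X D 5 c * (X D 3 (c ^ 2) * X D 5 (-c)) * X D 3 (c ^ 2) by group, c35.eq, ← mul_assoc,
      h.X_add (hlt 5 (by norm_num)), add_neg_cancel, h.X_zero (hlt 5 (by norm_num)), one_mul,
      h.X_add (hlt 3 (by norm_num))] at hmul
    -- the long root 3 is carried to the highest
    have hnH := ho.nS_mem h hl
    have hn0 := ho.nS_mem h (show 0 < tabB2.l by omega)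
    have h4 := mul_mem (mul_mem hnH hmul) (inv_mem hnH)
    rw [h.nS_conj_X hl (hlt 3 (by norm_num)), b2Refl.2.2.2.2] at h4
    have h7 := mul_mem (mul_mem hn0 h4) (inv_mem hn0)
    rw [h.nS_conj_X (show 0 < tabB2.l by omega) (hlt 4 (by norm_num)),
      show tabB2.refl 0 4 = tabB2.top by decide +kernel] at h7
    have h8 := ho.param _ h7
    have hck : c ^ 2 ∈ k := by
      have h9 : c ^ 2 + c ^ 2 ∈ k := by
        rcases tabB2.eta_cases 1 3 with a | a <;> rcases tabB2.eta_cases 0 4 with b | b <;>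
          simp only [a, b, Int.cast_one, Int.cast_neg, one_mul, neg_mul, _root_.neg_neg, neg_mem_iff]
            at h8 <;> exact h8
      have := mul_mem (inv_mem (natCast_mem k 2)) h9
      rwa [← two_mul, Nat.cast_ofNat, inv_mul_cancel_left₀ h2] at this
    have h5 : X D 5 c ∈ H := by
      have := mul_mem hF (inv_mem (ho.X_mem h (hlt 3 (by norm_num)) hck))
      rwa [mul_inv_cancel_right] at this
    have hX6 := ho.X_mem h (hlt 6 (by norm_num)) (one_mem k)
    have h67 := mul_mem (inv_mem h5) (mul_mem (mul_mem hX6 h5) (inv_mem hX6))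
    rw [b2_swap h, show X D 5 c * (X D 6 1 * X D 7 (-2 * 1 * c)) * (X D 6 1)⁻¹ =
      X D 5 c * (X D 6 1 * X D 7 (-2 * 1 * c) * (X D 6 1)⁻¹) by group, inv_mul_cancel_left] at h67
    have c67 := h.pos_commute_top hf (r := 6) (by rw [Tab.half, hn]; norm_num) (hlt 6 (by norm_num))
      1 (-2 * 1 * c)
    rw [etop] at c67
    rw [c67.eq, mul_inv_cancel_right] at h67
    have h10 := ho.param (-2 * 1 * c) (by rw [etop]; exact h67)
    have := mul_mem (inv_mem (natCast_mem k 2)) h10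
    rwa [show -2 * 1 * c = 2 * -c by ring, Nat.cast_ofNat, inv_mul_cancel_left₀ h2, neg_mem_iff] at this

/-- The moves in type B2. -/
theorem b2_moves [Finite k] : SubfieldStep.Moves k 2 (-1) (B2P D H) := by
  refine ⟨fun {c ρ η} hP => hP.choose_spec.1, fun {c ρ η} hP => ?_,
    fun {c ρ η} s hs t ht hP => ho.b2_shift h hf hs ht hP, fun {c ρ η} t ht ht0 hP => ?_,
    fun {c ρ η} t ht ht0 hη hP => ho.b2_step h hf ht ht0 hη hP, fun {c ρ η} hP hor => ?_⟩
  · obtain ⟨z, hS⟩ := hP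
    exact ⟨z, ho.sted_inv h hf hS⟩
  · obtain ⟨z, hS⟩ := hP
    have h1 := ho.sted_square h hf hS (neg_mem ht) (neg_ne_zero.2 ht0)
    rw [show -(c ^ 2 * -t) = t * c ^ 2 by ring, b2Basic.1, mul_assoc, mul_assoc,
      h.X_add (show (7 : ℕ) < tabB2.n by rw [b2Basic.2.1]; norm_num)] at h1
    exact ⟨z + c⁻¹, h1⟩
  · rcases hor with hρ | hη
    · have h1 := ho.b2_shift h hf (neg_mem hρ) (zero_mem k) hP
      rw [add_neg_cancel] at h1
      exact ho.b2_base h hf h1
    · have h1 := ho.b2_shift h hf (zero_mem k) (neg_mem hη) hP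
      rw [add_neg_cancel] at h1
      obtain ⟨c', ρ', η', hc, -, -, hz, -, h2⟩ := ho.b2_mirror h hf h1
      rw [hz rfl] at h2
      exact hc.1 (ho.b2_base h hf h2)

end Over

open Over in
/-- Given all parameters in the subfield. -/
theorem Over.frameFixedB2_of_hall {K : Type*} [Field K] {σ : K →+* K} {k : Subfield K} [Finite k]
    {H : Subgroup (GL chevB2.Idx K)} (ho : Over chevB2 tabB2 σ k H)
    (hall : ∀ c q, Sted chevB2 tabB2 H c q → c ∈ k) : FrameFixed chevB2 tabB2 σ k H := by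
  obtain ⟨etop, hn, eql, hl, -⟩ := b2Basic
  have hf := frameB2.1
  have hP := ho.b2_moves certB2 hf
  have toP : ∀ {c : K} {t : ℕ → K}, Sted chevB2 tabB2 H c (prodX chevB2 tabB2.qList t) →
      B2P chevB2 H c (t 6) (t 5) := by
    intro c t hS
    rw [eql] at hS
    simp only [prodX, List.map_cons, List.map_nil, List.prod_cons, List.prod_nil, mul_one] at hS
    exact ⟨t 7, hS⟩
  have hη : ∀ {c ρ η : K}, B2P chevB2 H c ρ η → η ∈ k := by
    intro c ρ η h0
    have hsq : ∀ {c ρ η : K}, B2P chevB2 H c ρ η → η ^ 2 ∈ k := by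
      intro c ρ η h0
      by_cases hη : η = 0
      · rw [hη]; exact pow_mem (zero_mem k) 2
      obtain ⟨z, hS⟩ := hP.step 1 (one_mem k) one_ne_zero hη h0
      obtain ⟨z', hS'⟩ := h0
      have h1 := mul_mem (inv_mem (pow_mem (hall _ _ hS') 2)) (hall _ _ hS)
      rwa [one_mul, inv_mul_cancel_left₀ (pow_ne_zero _ hS'.1)] at h1
    have h1 := hsq h0
    have h2' := hsq (hP.shift 0 (zero_mem k) 1 (one_mem k) h0)
    by_cases h2 : (2 : K) = 0
    · have : CharP K 2 := CharTwo.of_one_ne_zero_of_two_eq_zero one_ne_zero h2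
      exact SubfieldStep.mem_of_sq_mem k h1
    · have h3 : 2 * η ∈ k := by
        have := sub_mem (sub_mem h2' h1) (one_mem k)
        rwa [show (η + 1) ^ 2 - η ^ 2 - 1 = 2 * η by ring] at this
      have := mul_mem (inv_mem (natCast_mem k 2)) h3
      rwa [Nat.cast_ofNat, inv_mul_cancel_left₀ h2] at this
  intro c q hS
  refine ⟨hall c q hS, ho.frame_fixed (O := 0) (S := [5, 6]) certB2 hf (fun γ hγ => by simp at hγ)
    (by decide +kernel) hall (fun c t hS _ γ hγ => ?_) hS⟩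
  simp only [List.mem_cons, List.not_mem_nil, or_false] at hγ
  rcases hγ with rfl | rfl
  · exact hη (toP hS)
  · obtain ⟨c', ρ', η', -, -, hiff, -, -, h2⟩ := ho.b2_mirror certB2 hf (toP hS)
    exact hiff.1 (hη h2)

open Over in
theorem Over.frameFixedB2 {K : Type*} [Field K] [Finite K] {σ : K →+* K} {k : Subfield K} {r : ℕ}
    {H : Subgroup (GL chevB2.Idx K)} (ho : Over chevB2 tabB2 σ k H) (hM : MaxSub k r) :
    FrameFixed chevB2 tabB2 σ k H := by
  obtain ⟨etop, hn, eql, hl, -⟩ := b2Basic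
  have hf := frameB2.1
  have hP := ho.b2_moves certB2 hf
  have toP : ∀ {c : K} {t : ℕ → K}, Sted chevB2 tabB2 H c (prodX chevB2 tabB2.qList t) →
      B2P chevB2 H c (t 6) (t 5) := by
    intro c t hS
    rw [eql] at hS
    simp only [prodX, List.map_cons, List.map_nil, List.prod_cons, List.prod_nil, mul_one] at hS
    exact ⟨t 7, hS⟩
  have hall : ∀ c q, Sted chevB2 tabB2 H c q → c ∈ k := by
    intro c q hS
    obtain ⟨t, rfl⟩ := certB2.exists_prodX_Qgrp hf hS.2.1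
    by_cases h2 : (2 : K) = 0
    · have : CharP K 2 := CharTwo.of_one_ne_zero_of_two_eq_zero one_ne_zero h2
      rw [CharTwo.neg_eq (1 : K)] at hP
      exact hP.mem_of_charTwo (Or.inr rfl) hM.max hM.prime hM.card (Or.inl rfl) (toP hS)
    · exact hP.mem_of_two_ne_zero (neg_ne_zero.2 one_ne_zero) (Or.inr rfl) hM.max h2 (toP hS)
  exact ho.frameFixedB2_of_hall hall

end CfsgLib.Chev
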