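import Cfsg.Agent.Lib.Chev.SubfieldAlgPlane
import Cfsg.Agent.Lib.Chev.SubfieldB2

/-!
Type B2 in a finite overgroup: the long root `4` replaces the pair, the parameter and a short coordinate generate an
extension of degree two or three.
-/

set_option autoImplicit false
set_option maxRecDepth 100000
set_option linter.style.haveILetI false
set_option linter.unusedSectionVars false

namespace CfsgLib.Chev

open Cfsg.Lie Matrix

lemma b2AlgData : tabB2.refl 0 6 = 6 ∧ tabB2.refl 0 7 = 4 ∧ 0 < tabB2.l ∧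
    tabB2.inQ 5 = true ∧ tabB2.inQ 6 = true ∧
    ([0, 7].all fun r => [2, 4, 6].all fun s => decide (s ≠ r) && decide (s ≠ tabB2.neg r) &&
      (tabB2.commTerms r s).all fun q => decide (q.1 ∈ [2, 4, 6])) = true := by
  decide +kernel

namespace Over

/-- The abelian group of the roots `4`, `6`, `7`. -/
noncomputable def b2E (D : ChevalleyDatum) {K : Type*} [Field K] (b a l : K) : GL D.Idx K :=
  X D 4 b * (X D 6 a * X D 7 l)

variable {D : ChevalleyDatum} {C : Tab.Cover} {K : Type*} [Field K] {σ : K →+* K}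
  {k : Subfield K} {H : Subgroup (GL D.Idx K)} (ho : Over D tabB2 σ k H) (h : Cert D tabB2 C)
  (hf : tabB2.chkFrame = true)

include h hf

lemma b2_c67 (x y : K) : Commute (X D 6 x) (X D 7 y) := by
  have := h.pos_commute_top hf (r := 6) (by rw [Tab.half, b2Basic.2.1]; norm_num)
    (by rw [b2Basic.2.1]; norm_num) x y
  rwa [b2Basic.1] at this

lemma b2_c57 (x y : K) : Commute (X D 5 x) (X D 7 y) := by
  have := h.pos_commute_top hf (r := 5) (by rw [Tab.half, b2Basic.2.1]; norm_num)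
    (by rw [b2Basic.2.1]; norm_num) x y
  rwa [b2Basic.1] at this

lemma b2E_mul (b a l b' a' l' : K) : b2E D b a l * b2E D b' a' l' = b2E D (b + b') (a + a') (l + l') := by
  have hlt : ∀ r, r < 8 → r < tabB2.n := fun r hr => by rw [b2Basic.2.1]; exact hr
  simp only [b2E]
  rw [← h.X_add (hlt 4 (by norm_num)), ← h.X_add (hlt 6 (by norm_num)), ← h.X_add (hlt 7 (by norm_num))]
  calc X D 4 b * (X D 6 a * X D 7 l) * (X D 4 b' * (X D 6 a' * X D 7 l'))
      = X D 4 b * (X D 6 a * (X D 7 l * X D 4 b') * (X D 6 a' * X D 7 l')) := by group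
    _ = X D 4 b * ((X D 6 a * X D 4 b') * X D 7 l * (X D 6 a' * X D 7 l')) := by
        rw [(b2_comm h (a := 7) (b := 4) (by simp) l b').eq]; group
    _ = X D 4 b * X D 4 b' * (X D 6 a * (X D 7 l * X D 6 a') * X D 7 l') := by
        rw [(b2_comm h (a := 6) (b := 4) (by simp) a b').eq]; group
    _ = _ := by rw [← (b2_c67 h hf a' l).eq]; group

lemma b2E_zero : b2E D (0 : K) 0 0 = 1 := by
  have hlt : ∀ r, r < 8 → r < tabB2.n := fun r hr => by rw [b2Basic.2.1]; exact hr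
  simp [b2E, h.X_zero (hlt 4 (by norm_num)), h.X_zero (hlt 6 (by norm_num)), h.X_zero (hlt 7 (by norm_num))]

lemma b2E_inv (b a l : K) : (b2E D b a l)⁻¹ = b2E D (-b) (-a) (-l) :=
  inv_eq_of_mul_eq_one_right (by
    rw [b2E_mul h hf, add_neg_cancel, add_neg_cancel, add_neg_cancel, b2E_zero h hf])

lemma b2E_commute (b a l b' a' l' : K) : Commute (b2E D b a l) (b2E D b' a' l') := by
  show _ * _ = _ * _
  rw [b2E_mul h hf, b2E_mul h hf, add_comm b, add_comm a, add_comm l]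

lemma b2E_single (b a l : K) :
    b2E D b 0 0 = X D 4 b ∧ b2E D (0 : K) a 0 = X D 6 a ∧ b2E D (0 : K) 0 l = X D 7 l := by
  have hlt : ∀ r, r < 8 → r < tabB2.n := fun r hr => by rw [b2Basic.2.1]; exact hr
  simp [b2E, h.X_zero (hlt 4 (by norm_num)), h.X_zero (hlt 6 (by norm_num)), h.X_zero (hlt 7 (by norm_num))]

/-- Conjugating the group by the short root `5`. -/
lemma b2E_conj5 (η b a l : K) :
    X D 5 η * b2E D b a l * (X D 5 η)⁻¹ =
      b2E D b (a - η * b) (l + 2 * a * η - η ^ 2 * b) := by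
  obtain ⟨etop, hn, -, -, -⟩ := b2Basic
  have hlt : ∀ r, r < 8 → r < tabB2.n := fun r hr => by rw [hn]; exact hr
  have e4 : X D 5 η * X D 4 b * (X D 5 η)⁻¹ = b2E D b (-(η * b)) (-(η ^ 2 * b)) := by
    have := h.X_conj (F := K) (hlt 5 (by norm_num)) (hlt 4 (by norm_num)) (by norm_num)
      (by simp [Tab.neg, hn]) (-η) b
    rw [_root_.neg_neg, ← h.X_inv (hlt 5 (by norm_num)), b2CommA.2.2.2] at this
    simpa [b2E] using this
  have e6 : X D 5 η * X D 6 a * (X D 5 η)⁻¹ = b2E D 0 a (2 * a * η) := by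
    have e : X D 5 η * X D 6 a = X D 6 a * X D 5 η * X D 7 (2 * a * η) := by
      rw [b2_swap h a η, mul_assoc (X D 5 η), mul_assoc (X D 6 a), h.X_add (hlt 7 (by norm_num)),
        show -2 * a * η + 2 * a * η = 0 by ring, h.X_zero (hlt 7 (by norm_num)), mul_one]
    rw [e, mul_assoc _ (X D 5 η) (X D 7 _), (b2_c57 h hf η _).eq, ← mul_assoc, mul_inv_cancel_right,
      b2E, h.X_zero (hlt 4 (by norm_num)), one_mul]
  have e7 : X D 5 η * X D 7 l * (X D 5 η)⁻¹ = b2E D 0 0 l := by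
    rw [(b2_c57 h hf η l).eq, mul_inv_cancel_right, (b2E_single h hf 0 0 l).2.2]
  calc X D 5 η * b2E D b a l * (X D 5 η)⁻¹
      = (X D 5 η * X D 4 b * (X D 5 η)⁻¹) * ((X D 5 η * X D 6 a * (X D 5 η)⁻¹) *
          (X D 5 η * X D 7 l * (X D 5 η)⁻¹)) := by simp only [b2E]; group
    _ = _ := by rw [e4, e6, e7, b2E_mul h hf, b2E_mul h hf]; congr 1 <;> ring

lemma b2_rel62 (a y : K) : X D 2 y * X D 6 a = X D 6 a * X D 4 (-2 * a * y) * X D 2 y := by
  have hlt : ∀ r, r < 8 → r < tabB2.n := fun r hr => by rw [b2Basic.2.1]; exact hr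
  have := h.conj_of_single (hlt 6 (by norm_num)) (hlt 2 (by norm_num)) (by norm_num)
    (by simp [Tab.neg, b2Basic.2.1]) b2CommB.2.2.1 a y
  rw [mul_inv_eq_iff_eq_mul, pow_one, pow_one] at this
  have c42 : ∀ x, Commute (X D 2 y) (X D 4 x) := fun x => b2_comm h (by simp) y x
  have c46 : ∀ x, Commute (X D 6 a) (X D 4 x) := fun x => b2_comm h (by simp) a x
  rw [show X D 6 a * X D 4 (-2 * a * y) * X D 2 y =
    X D 4 (-2 * a * y) * (X D 6 a * X D 2 y) by rw [(c46 _).eq, mul_assoc], this, (c42 _).eq,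
    ← mul_assoc, ← mul_assoc, h.X_add (hlt 4 (by norm_num))]
  push_cast
  rw [show -2 * a * y + 2 * a * y = 0 by ring, h.X_zero (hlt 4 (by norm_num)), one_mul]

lemma b2_rel72 (u γ : K) :
    X D 7 u * X D 2 γ = X D 2 γ * b2E D (-(u * γ ^ 2)) (-(u * γ)) u := by
  have hn := b2Basic.2.1
  have hlt : ∀ r, r < 8 → r < tabB2.n := fun r hr => by rw [hn]; exact hr
  have := h.X_conj (F := K) (hlt 7 (by norm_num)) (hlt 2 (by norm_num)) (by norm_num)
    (by simp [Tab.neg, hn]) (-u) γ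
  rw [_root_.neg_neg, ← h.X_inv (hlt 7 (by norm_num)), b2CommC.2] at this
  simp only [List.map_cons, List.map_nil, List.prod_cons, List.prod_nil, mul_one, pow_one,
    Int.cast_neg, Int.cast_one, neg_mul, one_mul] at this
  rw [mul_inv_eq_iff_eq_mul.1 this, mul_assoc]
  congr 1
  rw [b2E, (b2_comm h (a := 6) (b := 4) (by simp) (-(u * γ)) (-(u * γ ^ 2))).eq, mul_assoc]

/-- Moving the short root `2` through the group. -/
lemma b2_rel2E (γ b a l : K) :
    X D 2 γ * b2E D b a l = b2E D (b + (l * γ ^ 2 - 2 * (a + l * γ) * γ)) (a + l * γ) l * X D 2 γ := by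
  have hlt : ∀ r, r < 8 → r < tabB2.n := fun r hr => by rw [b2Basic.2.1]; exact hr
  have h1 : b2E D b a l =
      b2E D (-(l * γ ^ 2)) (-(l * γ)) l * b2E D (b + l * γ ^ 2) (a + l * γ) 0 := by
    rw [b2E_mul h hf]; congr 1 <;> ring
  have h2 : X D 2 γ * b2E D (b + l * γ ^ 2) (a + l * γ) 0 =
      b2E D (b + (l * γ ^ 2 - 2 * (a + l * γ) * γ)) (a + l * γ) 0 * X D 2 γ := by
    simp only [b2E, h.X_zero (hlt 7 (by norm_num)), mul_one]
    rw [← mul_assoc, (b2_comm h (a := 2) (b := 4) (by simp) γ _).eq, mul_assoc, b2_rel62 h hf,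
      (b2_comm h (a := 6) (b := 4) (by simp) _ _).eq, ← mul_assoc, ← mul_assoc, h.X_add (hlt 4 (by norm_num))]
    congr 3; ring
  have h3 : X D 2 γ * b2E D (-(l * γ ^ 2)) (-(l * γ)) l = X D 7 l * X D 2 γ :=
    (b2_rel72 h hf l γ).symm
  calc X D 2 γ * b2E D b a l
      = X D 2 γ * b2E D (-(l * γ ^ 2)) (-(l * γ)) l * b2E D (b + l * γ ^ 2) (a + l * γ) 0 := by
        rw [mul_assoc, ← h1]
    _ = X D 7 l * (X D 2 γ * b2E D (b + l * γ ^ 2) (a + l * γ) 0) := by rw [h3, mul_assoc]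
    _ = b2E D 0 0 l * b2E D (b + (l * γ ^ 2 - 2 * (a + l * γ) * γ)) (a + l * γ) 0 * X D 2 γ := by
        rw [h2, ← mul_assoc, (b2E_single h hf 0 0 l).2.2]
    _ = _ := by rw [b2E_mul h hf]; simp

include ho

/-- Long and short together in characteristic two. -/
lemma b2_sq_rule (h2 : (2 : K) = 0) {w m : K} (hm : X D 5 w * X D 7 m ∈ H) : m + w ^ 2 ∈ k := by
  have hn := b2Basic.2.1
  have hlt : ∀ r, r < 8 → r < tabB2.n := fun r hr => by rw [hn]; exact hr
  have : CharP K 2 := CharTwo.of_one_ne_zero_of_two_eq_zero one_ne_zero h2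
  have hneg : ∀ x : K, -x = x := CharTwo.neg_eq
  obtain ⟨-, r5, r6, r7, -⟩ := b2Refl
  have hX4 := ho.X_mem h (hlt 4 (by norm_num)) (one_mem k)
  have h45 : X D 4 (1 : K) * X D 5 w * (X D 4 1)⁻¹ = X D 5 w * (X D 6 w * X D 7 (w ^ 2)) := by
    have := h.X_conj (F := K) (hlt 4 (by norm_num)) (hlt 5 (by norm_num)) (by norm_num)
      (by simp [Tab.neg, hn]) (-1) w
    rw [_root_.neg_neg, ← h.X_inv (hlt 4 (by norm_num)), b2CommA.2.2.1] at this
    simpa [hneg] using this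
  have h1 := mul_mem (inv_mem hm) (mul_mem (mul_mem hX4 hm) (inv_mem hX4))
  rw [show X D 4 (1 : K) * (X D 5 w * X D 7 m) * (X D 4 1)⁻¹ =
    (X D 4 1 * X D 5 w * (X D 4 1)⁻¹) * (X D 4 1 * X D 7 m * (X D 4 1)⁻¹) by group,
    (b2_comm h (a := 4) (b := 7) (by simp) (1 : K) m).eq, mul_inv_cancel_right, h45,
    show (X D 5 w * X D 7 m)⁻¹ * (X D 5 w * (X D 6 w * X D 7 (w ^ 2)) * X D 7 m) =
      (X D 7 m)⁻¹ * (X D 6 w * X D 7 (w ^ 2) * X D 7 m) by group,
    mul_assoc (X D 6 w), h.X_add (hlt 7 (by norm_num)), ← mul_assoc, h.X_inv (hlt 7 (by norm_num)),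
    ← (b2_c67 h hf w (-m)).eq, mul_assoc, h.X_add (hlt 7 (by norm_num)),
    show -m + (w ^ 2 + m) = w ^ 2 by ring] at h1
  have hn1 := ho.nS_mem h b2Basic.2.2.2.1
  have cn : ∀ r, r < 8 → ∀ x : K, nS D K 1 * X D r x * (nS D K 1)⁻¹ = X D (tabB2.refl 1 r) x := by
    intro r hr x
    rw [h.nS_conj_X b2Basic.2.2.2.1 (hlt r hr) x]
    rcases tabB2.eta_cases 1 r with a | a <;> simp [a, hneg]
  have h3 := mul_mem (mul_mem hn1 hm) (inv_mem hn1)
  rw [show nS D K 1 * (X D 5 w * X D 7 m) * (nS D K 1)⁻¹ =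
    (nS D K 1 * X D 5 w * (nS D K 1)⁻¹) * (nS D K 1 * X D 7 m * (nS D K 1)⁻¹) by group,
    cn 5 (by norm_num), cn 7 (by norm_num), r5, r7] at h3
  have h4 := mul_mem (inv_mem h3) h1
  rw [show (X D 6 w * X D 7 m)⁻¹ * (X D 6 w * X D 7 (w ^ 2)) = (X D 7 m)⁻¹ * X D 7 (w ^ 2) by group,
    h.X_inv (hlt 7 (by norm_num)), hneg, h.X_add (hlt 7 (by norm_num))] at h4
  exact ho.param _ (by rw [b2Basic.1]; exact h4)

/-- Members of the group of `4`, `6`, `7` are rational. -/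
theorem b2E_mem [Finite k] {b a l : K} (hm : b2E D b a l ∈ H) : b ∈ k ∧ a ∈ k ∧ l ∈ k := by
  obtain ⟨etop, hn, -, hl, e55, e56, -⟩ := b2Basic
  obtain ⟨r06, r07, hl0, hQ5, hQ6, -⟩ := b2AlgData
  obtain ⟨-, r5, r6, r7, -⟩ := b2Refl
  have hlt : ∀ r, r < 8 → r < tabB2.n := fun r hr => by rw [hn]; exact hr
  have hX : ∀ {x y z : K}, x ∈ k → y ∈ k → z ∈ k → b2E D x y z ∈ H := fun hx hy hz =>
    mul_mem (ho.X_mem h (hlt 4 (by norm_num)) hx)
      (mul_mem (ho.X_mem h (hlt 6 (by norm_num)) hy) (ho.X_mem h (hlt 7 (by norm_num)) hz))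
  have h5 := ho.X_mem h (hlt 5 (by norm_num)) (one_mem k)
  -- commutating with x_5(1)
  have hstep : ∀ {b a l : K}, b2E D b a l ∈ H → b2E D 0 b (b - 2 * a) ∈ H := by
    intro b a l hm
    have h1 := mul_mem (inv_mem (mul_mem (mul_mem h5 hm) (inv_mem h5))) hm
    rwa [b2E_conj5 h hf, b2E_inv h hf, b2E_mul h hf, show -b + b = 0 by ring,
      show -(a - 1 * b) + a = b by ring,
      show -(l + 2 * a * 1 - 1 ^ 2 * b) + l = b - 2 * a by ring] at h1
  by_cases h2 : (2 : K) = 0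
  · have : CharP K 2 := CharTwo.of_one_ne_zero_of_two_eq_zero one_ne_zero h2
    have hneg : ∀ x : K, -x = x := CharTwo.neg_eq
    have cn : ∀ i, i < tabB2.l → ∀ r, r < 8 → ∀ x : K,
        nS D K i * X D r x * (nS D K i)⁻¹ = X D (tabB2.refl i r) x := by
      intro i hi r hr x
      rw [h.nS_conj_X hi (hlt r hr) x]
      rcases tabB2.eta_cases i r with a | a <;> simp [a, hneg]
    have hmir : ∀ {a l : K}, b2E D 0 a l ∈ H → X D 5 a * X D 7 l ∈ H := by
      intro a l hm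
      have h3 := mul_mem (mul_mem (ho.nS_mem h hl) hm) (inv_mem (ho.nS_mem h hl))
      simp only [b2E, h.X_zero (hlt 4 (by norm_num)), one_mul] at h3
      rwa [show nS D K 1 * (X D 6 a * X D 7 l) * (nS D K 1)⁻¹ =
        (nS D K 1 * X D 6 a * (nS D K 1)⁻¹) * (nS D K 1 * X D 7 l * (nS D K 1)⁻¹) by group,
        cn 1 hl 6 (by norm_num), cn 1 hl 7 (by norm_num), r6, r7] at h3
    have hb : ∀ {b a l : K}, b2E D b a l ∈ H → b ∈ k := by
      intro b a l hm
      have hT := hmir (hstep hm)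
      rw [show b - 2 * a = b by rw [h2]; ring] at hT
      have h3 := mul_mem (mul_mem (mul_mem hT hm) (inv_mem hT)) (inv_mem hm)
      have c7 : X D 7 b * b2E D b a l * (X D 7 b)⁻¹ = b2E D b a l := by
        rw [← (b2E_single h hf 0 0 b).2.2, (b2E_commute h hf _ _ _ _ _ _).eq, mul_inv_cancel_right]
      rw [show X D 5 b * X D 7 b * b2E D b a l * (X D 5 b * X D 7 b)⁻¹ =
        X D 5 b * (X D 7 b * b2E D b a l * (X D 7 b)⁻¹) * (X D 5 b)⁻¹ by group, c7, b2E_conj5 h hf,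
        b2E_inv h hf, b2E_mul h hf, show b + -b = 0 by ring] at h3
      have h4 := ho.b2_sq_rule h hf h2 (hmir h3)
      have h6 := ho.b2_sq_rule h hf h2 hT
      rw [show l + 2 * a * b - b ^ 2 * b + -l + (a - b * b + -a) ^ 2 = b ^ 2 * (b + b ^ 2) by
        linear_combination (a * b - b ^ 3) * h2] at h4
      by_cases h0 : b + b ^ 2 = 0
      · have : b * (1 + b) = 0 := by rw [← h0]; ring
        rcases mul_eq_zero.1 this with e | e
        · rw [e]; exact zero_mem k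
        · rw [eq_neg_of_add_eq_zero_right e]; exact neg_mem (one_mem k)
      · have h7 := mul_mem h4 (inv_mem h6)
        rw [mul_inv_cancel_right₀ h0] at h7
        exact SubfieldStep.mem_of_sq_mem k h7
    have hbk := hb hm
    have h3 := mul_mem (hX (neg_mem hbk) (zero_mem k) (zero_mem k)) hm
    rw [b2E_mul h hf, neg_add_cancel, zero_add, zero_add] at h3
    have h4 : b2E D l a 0 ∈ H := by
      have h7 := mul_mem (mul_mem (ho.nS_mem h hl0) h3) (inv_mem (ho.nS_mem h hl0))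
      simp only [b2E, h.X_zero (hlt 4 (by norm_num)), one_mul] at h7
      rw [show nS D K 0 * (X D 6 a * X D 7 l) * (nS D K 0)⁻¹ =
        (nS D K 0 * X D 6 a * (nS D K 0)⁻¹) * (nS D K 0 * X D 7 l * (nS D K 0)⁻¹) by group,
        cn 0 hl0 6 (by norm_num), cn 0 hl0 7 (by norm_num), r06, r07] at h7
      rw [b2E, h.X_zero (hlt 7 (by norm_num)), mul_one, ← (b2_comm h (a := 6) (b := 4) (by simp) a l).eq]
      exact h7
    have hlk := hb h4
    have h6 := mul_mem (hX (zero_mem k) (zero_mem k) (neg_mem hlk)) h3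
    rw [b2E_mul h hf, zero_add, zero_add, neg_add_cancel] at h6
    have h7 := ho.b2_sq_rule h hf h2 (hmir h6)
    rw [zero_add] at h7
    exact ⟨hbk, SubfieldStep.mem_of_sq_mem k h7, hlk⟩
  · have hhalf : ∀ x : K, 2 * x ∈ k → x ∈ k := fun x hx => by
      have := mul_mem (inv_mem (natCast_mem k 2)) hx
      rwa [Nat.cast_ofNat, inv_mul_cancel_left₀ h2] at this
    have e1 := hstep hm
    have hQ7 : tabB2.inQ 7 = true := etop ▸ Cert.top_inQ hf
    have hb : b ∈ k := hhalf b (by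
      have h3 := e1
      simp only [b2E, h.X_zero (hlt 4 (by norm_num)), one_mul] at h3
      have h4 := ho.brk_mem h hf (hlt 5 (by norm_num)) h3 (Cert.Brk.mul' h hf hQ5 (X_mem_gen D hQ7 _)
        (h.Brk_coef hf hQ5 hQ6 e55 b) (h.Brk_coef hf hQ5 hQ7 e55 (b - 2 * a)))
      rw [e56, b2Basic.2.2.2.2.2.2] at h4
      push_cast at h4
      simpa [mul_comm] using h4)
    have h3 := mul_mem (hX (zero_mem k) (neg_mem hb) (zero_mem k)) e1
    rw [b2E_mul h hf, zero_add, zero_add, neg_add_cancel, (b2E_single h hf 0 0 _).2.2] at h3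
    have ha : a ∈ k := hhalf a (by
      have h4 := ho.param _ (by rw [etop]; exact h3)
      have := sub_mem hb h4
      rwa [sub_sub_cancel] at this)
    have h4 := mul_mem (hX (neg_mem hb) (neg_mem ha) (zero_mem k)) hm
    rw [b2E_mul h hf, zero_add, neg_add_cancel, neg_add_cancel, (b2E_single h hf 0 0 _).2.2] at h4
    exact ⟨hb, ha, ho.param _ (by rw [etop]; exact h4)⟩

variable (p : ℕ) [Fact p.Prime] [CharP K p] [Finite k] [Finite H]
include p

/-- A short coordinate outside the subfield can be shifted to have its square outside. -/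
lemma b2_exists_shift {c ρ η : K} (hP : B2P D H c ρ η) (hc : c ∉ k) :
    ∃ t ∈ k, η + t ∉ k ∧ (η + t) ^ 2 ∉ k ∧ B2P D H c ρ (η + t) := by
  have hη : η ∉ k := fun hh => hc ((ho.b2_moves h hf).base hP (Or.inr hh))
  by_cases h1 : η ^ 2 ∈ k
  · by_cases h2 : (2 : K) = 0
    · exact absurd (letI := CharTwo.of_one_ne_zero_of_two_eq_zero (R := K) one_ne_zero h2;
        SubfieldStep.mem_of_sq_mem k h1) hη
    refine ⟨1, one_mem k, fun hh => hη (by simpa using sub_mem hh (one_mem k)), fun hh => hη ?_,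
      by simpa using ho.b2_shift h hf (zero_mem k) (one_mem k) hP⟩
    have h3 : (η + 1) ^ 2 - η ^ 2 - 1 ∈ k := sub_mem (sub_mem hh h1) (one_mem k)
    rw [show (η + 1) ^ 2 - η ^ 2 - 1 = 2 * η by ring] at h3
    have := mul_mem (inv_mem (natCast_mem k 2)) h3
    rwa [Nat.cast_ofNat, inv_mul_cancel_left₀ h2] at this
  · exact ⟨0, zero_mem k, by simpa using hη, by simpa using h1, by simpa using hP⟩

set_option maxHeartbeats 1000000 in
/-- A parameter and a short coordinate with irrational square generate an extension of prime degree. -/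
theorem b2_plane {c ρ η : K} (hP : B2P D H c ρ η) (hc : c ∉ k) (hη : η ∉ k) (hη2 : η ^ 2 ∉ k) :
    ∃ r, ∃ F : Subfield K, SubfieldStep.PrimeExt k r F ∧ c ∈ F ∧ η ∈ F := by
  obtain ⟨z₀, hS⟩ := hP
  obtain ⟨etop, hn, -, hl, -⟩ := b2Basic
  obtain ⟨-, -, -, -, -, hmod⟩ := b2AlgData
  have hlt : ∀ r, r < 8 → r < tabB2.n := fun r hr => by rw [hn]; exact hr
  have hc0 : c ≠ 0 := hS.1
  have hη0 : η ≠ 0 := fun e => hη (e ▸ zero_mem k)
  have hcfin := ho.isOfFinOrder_param h hf hS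
  have hηfin : IsOfFinOrder η := by
    have hM := ho.b2_moves h hf
    obtain ⟨z1, h1⟩ := hM.square 1 (one_mem k) one_ne_zero (⟨z₀, hS⟩ : B2P D H c ρ η)
    obtain ⟨z2, h2⟩ := hM.step 1 (one_mem k) one_ne_zero hη0 (⟨z₀, hS⟩ : B2P D H c ρ η)
    have h3 := (ho.isOfFinOrder_param h hf h2).mul
      (SubfieldStep.isOfFinOrder_inv₀ (ho.isOfFinOrder_param h hf h1))
    rw [one_mul, mul_comm (c ^ 2), mul_inv_cancel_right₀ (pow_ne_zero _ hc0)] at h3
    exact h3.of_pow (by norm_num)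
  obtain ⟨F, hFfin, hkF, hcF, hηF, hFmin⟩ := SubfieldStep.exists_field p k hcfin hηfin
  haveI := hFfin
  set q := X D 5 η * (X D 6 ρ * X D 7 z₀) with hq
  have hqE : q = X D 5 η * b2E D 0 ρ z₀ := by
    rw [hq, b2E, h.X_zero (hlt 4 (by norm_num)), one_mul]
  have hqconj : ∀ b a l : K,
      q * b2E D b a l * q⁻¹ = b2E D b (a - η * b) (l + 2 * a * η - η ^ 2 * b) := by
    intro b a l
    rw [hqE, ← b2E_conj5 h hf η b a l,
      show X D 5 η * b2E D 0 ρ z₀ * b2E D b a l * (X D 5 η * b2E D 0 ρ z₀)⁻¹ =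
        X D 5 η * (b2E D 0 ρ z₀ * b2E D b a l * (b2E D 0 ρ z₀)⁻¹) * (X D 5 η)⁻¹ by group,
      (b2E_commute h hf 0 ρ z₀ b a l).eq, mul_inv_cancel_right]
  have hmem : ∀ {b a l : K}, q * b2E D b a l * q⁻¹ ∈ H →
      b ∈ k ∧ a - η * b ∈ k ∧ l + 2 * a * η - η ^ 2 * b ∈ k := fun hm => by
    rw [hqconj] at hm; exact ho.b2E_mem h hf hm
  have hX : ∀ {x y z : K}, x ∈ k → y ∈ k → z ∈ k → b2E D x y z ∈ H := fun hx hy hz =>
    mul_mem (ho.X_mem h (hlt 4 (by norm_num)) hx)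
      (mul_mem (ho.X_mem h (hlt 6 (by norm_num)) hy) (ho.X_mem h (hlt 7 (by norm_num)) hz))
  -- the module
  set N := gen D K {r | r ∈ [2, 4, 6]} with hN
  simp only [List.all_eq_true, Bool.and_eq_true, decide_eq_true_eq] at hmod
  have hnorm : ∀ r ∈ [0, 7], ∀ t : K, X D r t ∈ Subgroup.normalizer (N : Set (GL D.Idx K)) := by
    intro r hr t
    have hrn : r < tabB2.n := hlt r (by simp only [List.mem_cons, List.not_mem_nil, or_false] at hr; omega)
    refine (le_normalizer_closure (H := gen D K {r}) ?_) (X_mem_gen D (Set.mem_singleton r) t)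
    rintro x hx _ ⟨s, hs, v, rfl⟩
    obtain ⟨u, rfl⟩ := (h.gen_singleton hrn).1 hx
    have hsn : s < tabB2.n :=
      hlt s (by simp only [Set.mem_setOf_eq, List.mem_cons, List.not_mem_nil, or_false] at hs; omega)
    obtain ⟨⟨h1, h2⟩, h3⟩ := hmod r hr s hs
    exact h.X_conj_mem hrn hsn h1 h2 hs h3 u v
  have hN2 : ∀ γ : K, X D 2 γ ∈ N := fun γ => X_mem_gen D (show 2 ∈ [2, 4, 6] by simp) γ
  have hN46 : ∀ b a : K, b2E D b a 0 ∈ N := fun b a => by
    rw [b2E, h.X_zero (hlt 7 (by norm_num)), mul_one]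
    exact mul_mem (X_mem_gen D (show 4 ∈ [2, 4, 6] by simp) b) (X_mem_gen D (show 6 ∈ [2, 4, 6] by simp) a)
  have hNform : ∀ n ∈ N, ∃ b a γ : K, n = b2E D b a 0 * X D 2 γ := by
    intro n hn'
    induction hn' using Subgroup.closure_induction with
    | mem g hg =>
      obtain ⟨r, hr, v, rfl⟩ := hg
      simp only [Set.mem_setOf_eq, List.mem_cons, List.not_mem_nil, or_false] at hr
      rcases hr with rfl | rfl | rfl
      · exact ⟨0, 0, v, by rw [b2E_zero h hf, one_mul]⟩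
      · exact ⟨v, 0, 0, by rw [h.X_zero (hlt 2 (by norm_num)), mul_one, (b2E_single h hf v 0 0).1]⟩
      · exact ⟨0, v, 0, by rw [h.X_zero (hlt 2 (by norm_num)), mul_one, (b2E_single h hf 0 v 0).2.1]⟩
    | one => exact ⟨0, 0, 0, by rw [h.X_zero (hlt 2 (by norm_num)), b2E_zero h hf, mul_one]⟩
    | mul x y _ _ hx hy =>
      obtain ⟨b, a, γ, rfl⟩ := hx
      obtain ⟨b', a', γ', rfl⟩ := hy
      refine ⟨b + (b' + (0 * γ ^ 2 - 2 * (a' + 0 * γ) * γ)), a + (a' + 0 * γ), γ + γ', ?_⟩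
      rw [show b2E D b a 0 * X D 2 γ * (b2E D b' a' 0 * X D 2 γ') =
        b2E D b a 0 * (X D 2 γ * b2E D b' a' 0) * X D 2 γ' by group, b2_rel2E h hf,
        ← mul_assoc, b2E_mul h hf, add_zero, mul_assoc, h.X_add (hlt 2 (by norm_num))]
    | inv x _ hx =>
      obtain ⟨b, a, γ, rfl⟩ := hx
      refine ⟨-b + (0 * (-γ) ^ 2 - 2 * (-a + 0 * (-γ)) * (-γ)), -a + 0 * (-γ), -γ, ?_⟩
      rw [_root_.mul_inv_rev, b2E_inv h hf, h.X_inv (hlt 2 (by norm_num)), neg_zero, b2_rel2E h hf]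
  -- the parameters of the upper transvections
  let W : AddSubgroup F :=
    { carrier := {w | ∃ x ∈ k, ∃ y ∈ k, ∃ z ∈ k, (w : K) = x + y * (2 * η) + z * η ^ 2}
      zero_mem' := ⟨0, zero_mem k, 0, zero_mem k, 0, zero_mem k, by simp⟩
      add_mem' := by
        rintro w w' ⟨x, hx, y, hy, z, hz, e⟩ ⟨x', hx', y', hy', z', hz', e'⟩
        exact ⟨x + x', add_mem hx hx', y + y', add_mem hy hy', z + z', add_mem hz hz',
          by push_cast; rw [e, e']; ring⟩
      neg_mem' := by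
        rintro w ⟨x, hx, y, hy, z, hz, e⟩
        exact ⟨-x, neg_mem hx, -y, neg_mem hy, -z, neg_mem hz, by push_cast; rw [e]; ring⟩ }
  have h2F : (2 : K) ∈ F := by simpa using natCast_mem F 2
  have hWk3 : ∀ x ∈ k, ∀ y ∈ k, ∀ z ∈ k, ∃ w ∈ W, (w : K) = x + y * (2 * η) + z * η ^ 2 :=
    fun x hx y hy z hz => ⟨⟨x + y * (2 * η) + z * η ^ 2, add_mem (add_mem (hkF hx)
      (mul_mem (hkF hy) (mul_mem h2F hηF))) (mul_mem (hkF hz) (pow_mem hηF 2))⟩,
      ⟨x, hx, y, hy, z, hz, rfl⟩, rfl⟩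
  have hWk : ∀ x ∈ k, ∀ z ∈ k, ∃ w ∈ W, (w : K) = x + z * η ^ 2 := fun x hx z hz => by
    obtain ⟨w, hw, e⟩ := hWk3 x hx 0 (zero_mem k) z hz
    exact ⟨w, hw, by rw [e]; ring⟩
  have hW : ∀ w ∈ W, ∃ n ∈ N, q * (X D tabB2.top (w : K) * n) * q⁻¹ ∈ H := by
    rintro w ⟨x, hx, y, hy, z, hz, e⟩
    refine ⟨_, hN46 (-z) (-(η * z) - y), ?_⟩
    rw [etop, ← (b2E_single h hf 0 0 _).2.2, b2E_mul h hf, hqconj,
      show (0 : K) + (-(η * z) - y) - η * (0 + -z) = -y by ring,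
      show (w : K) + 0 + 2 * (0 + (-(η * z) - y)) * η - η ^ 2 * (0 + -z) = x by rw [e]; ring, zero_add]
    exact hX (neg_mem hz) (neg_mem hy) hx
  have hgen : ∀ L : Subfield F, (∀ w ∈ W, (⟨c, hcF⟩ : F) * w ∈ L) → L = ⊤ := by
    intro L hL
    have hmul : ∀ x ∈ k, ∀ y ∈ k, ∀ z ∈ k, c * (x + y * (2 * η) + z * η ^ 2) ∈ L.map F.subtype :=
      fun x hx y hy z hz => by
        obtain ⟨w, hw, e⟩ := hWk3 x hx y hy z hz
        exact Subfield.mem_map.2 ⟨_, hL w hw, by rw [← e]; rfl⟩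
    have hcL : c ∈ L.map F.subtype := by
      simpa using hmul 1 (one_mem k) 0 (zero_mem k) 0 (zero_mem k)
    have hdiv : ∀ {u : K}, c * u ∈ L.map F.subtype → u ∈ L.map F.subtype := fun hu => by
      have h2 := mul_mem (inv_mem hcL) hu
      rwa [inv_mul_cancel_left₀ hc0] at h2
    have hηL : η ∈ L.map F.subtype := by
      by_cases h2 : (2 : K) = 0
      · have : CharP K 2 := CharTwo.of_one_ne_zero_of_two_eq_zero one_ne_zero h2
        haveI : Finite (L.map F.subtype) := Finite.of_injective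
          (fun x : L.map F.subtype => (⟨x.1, by
            obtain ⟨y, -, e⟩ := Subfield.mem_map.1 x.2
            exact e ▸ y.2⟩ : F)) fun a b e => Subtype.ext (congrArg Subtype.val e :)
        refine SubfieldStep.mem_of_sq_mem _ (hdiv ?_)
        simpa using hmul 0 (zero_mem k) 0 (zero_mem k) 1 (one_mem k)
      · have h1 : 2 * η ∈ L.map F.subtype :=
          hdiv (by simpa using hmul 0 (zero_mem k) 1 (one_mem k) 0 (zero_mem k))
        have := mul_mem (inv_mem (natCast_mem (L.map F.subtype) 2)) h1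
        rwa [Nat.cast_ofNat, inv_mul_cancel_left₀ h2] at this
    have hle : F ≤ L.map F.subtype := hFmin _
      (fun t ht => hdiv (by simpa using hmul t ht 0 (zero_mem k) 0 (zero_mem k))) hcL hηL
    refine eq_top_iff.2 fun z _ => ?_
    obtain ⟨z', hz', ez⟩ := Subfield.mem_map.1 (hle z.2)
    exact (F.subtype.injective ez : z' = z) ▸ hz'
  have hplane := ho.exists_plane_elem h hf (q := q) N
    (fun t => by rw [etop]; exact hnorm 7 (by simp) t) (hnorm 0 (by simp))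
    W hW (μ := ⟨c, hcF⟩) (fun e => hc0 (congrArg Subtype.val e)) hS.2.2
    (SubfieldStep.card_cases hη2 W hWk) hgen
  -- the field is spanned by three elements
  have hspan : ∀ w : F, ∃ v : k × k × k, (w : K) = v.1 + v.2.1 * η + v.2.2 * η ^ 2 := by
    intro w
    obtain ⟨n, hn', hm⟩ := hplane w
    obtain ⟨b, a, γ, rfl⟩ := hNform n hn'
    rw [← mul_assoc (X D tabB2.top (w : K)), etop, ← (b2E_single h hf 0 0 _).2.2, b2E_mul h hf,
      zero_add, zero_add, add_zero] at hm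
    set A := b2E D b a (w : K)
    -- commutating with x_7(1)
    have h7H : q * b2E D 0 0 1 * q⁻¹ ∈ H := by
      rw [hqconj, show (0 : K) - η * 0 = 0 by ring,
        show (1 : K) + 2 * 0 * η - η ^ 2 * 0 = 1 by ring]
      exact hX (zero_mem k) (zero_mem k) (one_mem k)
    have hz1 : q * b2E D (-γ ^ 2) (-γ) 0 * q⁻¹ ∈ H := by
      have e1 : (A * X D 2 γ)⁻¹ * (b2E D 0 0 1 * (A * X D 2 γ) * (b2E D 0 0 1)⁻¹) =
          b2E D (-γ ^ 2) (-γ) 0 := by
        have e0 : b2E D 0 0 (1 : K) * X D 2 γ = X D 2 γ * b2E D (-γ ^ 2) (-γ) 0 * b2E D 0 0 1 := by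
          rw [mul_assoc, b2E_mul h hf, (b2E_single h hf 0 0 1).2.2, b2_rel72 h hf]
          congr 2 <;> ring
        rw [← mul_assoc (b2E D 0 0 1), (b2E_commute h hf 0 0 1 b a (w : K)).eq,
          mul_assoc (b2E D b a (w : K)), e0]
        simp only [A]
        group
      rw [← e1]
      have := mul_mem (inv_mem hm) (mul_mem (mul_mem h7H hm) (inv_mem h7H))
      rwa [show (q * (A * X D 2 γ) * q⁻¹)⁻¹ * (q * b2E D 0 0 1 * q⁻¹ * (q * (A * X D 2 γ) * q⁻¹) *
        (q * b2E D 0 0 1 * q⁻¹)⁻¹) = q * ((A * X D 2 γ)⁻¹ * (b2E D 0 0 1 * (A * X D 2 γ) *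
          (b2E D 0 0 1)⁻¹)) * q⁻¹ by group] at this
    -- commutating with the conjugate of x_4(1)
    have hP' : q * b2E D 1 η (-η ^ 2) * q⁻¹ ∈ H := by
      rw [hqconj, show η - η * 1 = 0 by ring, show -η ^ 2 + 2 * η * η - η ^ 2 * 1 = (0 : K) by ring]
      exact hX (one_mem k) (zero_mem k) (zero_mem k)
    set u := -η ^ 2 with hu
    have hz2 : q * b2E D (u * γ ^ 2 - 2 * (η + u * γ) * γ) (u * γ) 0 * q⁻¹ ∈ H := by
      have e1 : A * X D 2 γ * b2E D 1 η u * (A * X D 2 γ)⁻¹ * (b2E D 1 η u)⁻¹ =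
          b2E D (u * γ ^ 2 - 2 * (η + u * γ) * γ) (u * γ) 0 := by
        rw [mul_assoc A, b2_rel2E h hf, ← mul_assoc A, (b2E_commute h hf b a (w : K) _ _ _).eq,
          mul_assoc (b2E D _ _ u) A, mul_inv_cancel_right, b2E_inv h hf, b2E_mul h hf]
        congr 1 <;> ring
      rw [← e1]
      have := mul_mem (mul_mem (mul_mem hm hP') (inv_mem hm)) (inv_mem hP')
      rwa [show q * (A * X D 2 γ) * q⁻¹ * (q * b2E D 1 η u * q⁻¹) * (q * (A * X D 2 γ) * q⁻¹)⁻¹ *
        (q * b2E D 1 η u * q⁻¹)⁻¹ = q * (A * X D 2 γ * b2E D 1 η u * (A * X D 2 γ)⁻¹ *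
          (b2E D 1 η u)⁻¹) * q⁻¹ by group] at this
    have hγ : γ = 0 := by
      obtain ⟨c1, c2, -⟩ := hmem hz1
      obtain ⟨-, c3, -⟩ := hmem hz2
      rw [show -γ - η * -γ ^ 2 = -(γ * (1 - η * γ)) by ring, neg_mem_iff] at c2
      rw [show u * γ - η * (u * γ ^ 2 - 2 * (η + u * γ) * γ) = η ^ 2 * (γ * (1 - η * γ)) by
        rw [hu]; ring] at c3
      rw [neg_mem_iff] at c1
      by_cases hB : γ * (1 - η * γ) = 0
      · rcases mul_eq_zero.1 hB with e | e
        · exact e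
        · exfalso
          have hγ0 : γ ≠ 0 := fun e0 => by rw [e0, mul_zero, sub_zero] at e; exact one_ne_zero e
          refine hη2 ?_
          have e' : η = γ⁻¹ :=
            eq_inv_of_mul_eq_one_left (by rw [← sub_eq_zero.1 e])
          rw [e', inv_pow]
          exact inv_mem c1
      · exfalso
        refine hη2 ?_
        have := mul_mem c3 (inv_mem c2)
        rwa [mul_inv_cancel_right₀ hB] at this
    rw [hγ, h.X_zero (hlt 2 (by norm_num)), mul_one] at hm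
    obtain ⟨hb, ha, hl'⟩ := hmem hm
    exact ⟨(⟨_, hl'⟩, ⟨_, mul_mem (intCast_mem k (-2)) ha⟩, ⟨_, neg_mem hb⟩),
      by push_cast; ring⟩
  obtain ⟨d, hd⟩ := SubfieldStep.exists_pow_card hkF
  choose v hv using hspan
  have hup : Nat.card F ≤ Nat.card k ^ 3 := by
    rw [show Nat.card k ^ 3 = Nat.card k * (Nat.card k * Nat.card k) by ring, ← Nat.card_prod,
      ← Nat.card_prod]
    exact Nat.card_le_card_of_injective v fun w w' e => Subtype.ext (by rw [hv, hv w', e])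
  have hlow : Nat.card k ^ 2 ≤ Nat.card F := (SubfieldStep.sq_card_le hη2 W hWk).trans
    (Nat.card_le_card_of_injective _ Subtype.val_injective)
  rw [hd] at hup hlow
  have hk1 : 1 < Nat.card k := Finite.one_lt_card
  have hd2 := (Nat.pow_le_pow_iff_right hk1).1 hlow
  have hd3 := (Nat.pow_le_pow_iff_right hk1).1 hup
  refine ⟨d, F, ⟨hkF, hFfin, ?_, hd⟩, hcF, hηF⟩
  interval_cases d
  · exact Nat.prime_two
  · exact Nat.prime_three

/-- In a finite group the parameters are in the subfield. -/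
theorem b2_param_fin {c ρ η : K} (hP : B2P D H c ρ η) : c ∈ k := by
  by_contra hc
  obtain ⟨t, ht, hη, hη2, h1⟩ := ho.b2_exists_shift h hf p hP hc
  obtain ⟨r, F, hF, hcF, hηF⟩ := ho.b2_plane h hf p h1 hc hη hη2
  obtain ⟨c', ρ', η', hcc, -, -, -, hL, h2⟩ := ho.b2_mirror h hf h1
  have hc' : c' ∉ k := fun e => hc (hcc.1 e)
  obtain ⟨t', ht', hη', hη2', h3⟩ := ho.b2_exists_shift h hf p h2 hc'
  obtain ⟨r', F', hF', hcF', hηF'⟩ := ho.b2_plane h hf p h3 hc' hη' hη2'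
  have hρF : ρ ∈ F := hF'.le_of_mem hF hc ((hL F').1.1 hcF') hcF ((hL F').2.1
    (by simpa using sub_mem hηF' (hF'.le ht')))
  haveI := hF.finite
  have hM := (ho.b2_moves h hf).restrict F (-1) (by simp)
  have hPF : B2P D H ((⟨c, hcF⟩ : F) : K) ((⟨ρ, hρF⟩ : F) : K) ((⟨η + t, hηF⟩ : F) : K) := h1
  refine hc ?_
  show (⟨c, hcF⟩ : F) ∈ k.comap F.subtype
  by_cases h20 : (2 : F) = 0
  · have : CharP F 2 := CharTwo.of_one_ne_zero_of_two_eq_zero one_ne_zero h20
    rw [CharTwo.neg_eq (1 : F)] at hM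
    exact hM.mem_of_charTwo (Or.inr rfl) hF.hmax hF.prime hF.card_comap (Or.inl rfl) hPF
  · exact hM.mem_of_two_ne_zero (neg_ne_zero.2 one_ne_zero) (Or.inr rfl) hF.hmax h20 hPF

end Over

end CfsgLib.Chev
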