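import Cfsg.Agent.Lib.Chev.SubfieldTypes
import Cfsg.Agent.Lib.SL2.TwoRoots

/-!
Finite overgroups over an algebraically closed field: the parameters at the lowest root are roots of unity, and
the elements of a finite group in the plane of the highest root reach the whole of `SL₂` over a finite field.
-/

set_option autoImplicit false
set_option maxRecDepth 100000
set_option linter.style.haveILetI false
set_option linter.unusedSectionVars false

namespace CfsgLib.Chev

open Cfsg.Lie Matrix
open scoped MatrixGroups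

namespace SubfieldStep

variable {K : Type*} [Field K]

lemma pow_card_of_mem (k : Subfield K) [Finite k] {x : K} (hx : x ∈ k) : x ^ Nat.card k = x := by
  haveI := Fintype.ofFinite k
  have := congrArg Subtype.val (FiniteField.pow_card (⟨x, hx⟩ : k))
  simpa [Nat.card_eq_fintype_card] using this

/-- A finite subfield is the set of roots of its polynomial. -/
lemma mem_iff_pow_card (k : Subfield K) [Finite k] {x : K} : x ∈ k ↔ x ^ Nat.card k = x := by
  refine ⟨pow_card_of_mem k, fun hx => ?_⟩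
  classical
  haveI := Fintype.ofFinite k
  have hq : 1 < Nat.card k := Finite.one_lt_card
  set P : Polynomial K := Polynomial.X ^ Nat.card k - Polynomial.X with hP
  have hP0 : P ≠ 0 := FiniteField.X_pow_card_sub_X_ne_zero K hq
  have hdeg : P.natDegree = Nat.card k := FiniteField.X_pow_card_sub_X_natDegree_eq K hq
  by_contra hxk
  have hroot : ∀ y : K, y ^ Nat.card k = y → y ∈ P.roots.toFinset := fun y hy => by
    rw [Multiset.mem_toFinset, Polynomial.mem_roots hP0]
    simp [hP, ← Nat.card_eq_fintype_card, hy]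
  set s : Finset K := insert x ((Finset.univ : Finset k).image Subtype.val) with hs
  have hsub : s ⊆ P.roots.toFinset := by
    intro y hy
    simp only [hs, Finset.mem_insert, Finset.mem_image, Finset.mem_univ, true_and] at hy
    rcases hy with rfl | ⟨z, rfl⟩
    · exact hroot y hx
    · exact hroot _ (pow_card_of_mem k z.2)
  have hcard : s.card = Nat.card k + 1 := by
    rw [hs, Finset.card_insert_of_notMem (by
      simp only [Finset.mem_image, Finset.mem_univ, true_and]
      rintro ⟨z, rfl⟩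
      exact hxk z.2), Finset.card_image_of_injective _ Subtype.val_injective, Finset.card_univ,
      Nat.card_eq_fintype_card]
  have h1 := le_trans (Finset.card_le_card hsub) (Multiset.toFinset_card_le _)
  have h2 := Polynomial.card_roots' P
  omega

/-- The fixed field of a power map in an algebraically closed field. -/
lemma card_fixedField [IsAlgClosed K] (p : ℕ) [Fact p.Prime] [CharP K p] {n : ℕ} (hn : n ≠ 0) :
    Nat.card (RingHom.eqLocusField (iterateFrobenius K p n) (RingHom.id K)) = p ^ n := by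
  classical
  set P : Polynomial K := Polynomial.X ^ (p ^ n) - Polynomial.X with hP
  have hq : 1 < p ^ n := Nat.one_lt_pow hn (Fact.out : p.Prime).one_lt
  have hP0 : P ≠ 0 := FiniteField.X_pow_card_sub_X_ne_zero K hq
  have hdeg : P.natDegree = p ^ n := FiniteField.X_pow_card_sub_X_natDegree_eq K hq
  have h1 := Polynomial.card_rootSet_eq_natDegree (K := K) (p := P)
    (galois_poly_separable p _ (dvd_pow_self p hn)) (IsAlgClosed.splits _)
  rw [hdeg, ← Nat.card_eq_fintype_card] at h1
  rw [← h1]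
  refine Nat.card_congr (Equiv.subtypeEquivRight fun x => ?_)
  show iterateFrobenius K p n x = x ↔ _
  rw [iterateFrobenius_def, Polynomial.mem_rootSet_of_ne hP0]
  simp [hP, sub_eq_zero]

variable {k : Subfield K}

/-- The cardinality of a finite extension. -/
lemma exists_pow_card {F : Subfield K} [Finite F] (hk : k ≤ F) :
    ∃ d, Nat.card F = Nat.card k ^ d := by
  haveI : Finite k := Finite.of_injective _ (Subfield.inclusion hk).injective
  letI : Algebra k F := (Subfield.inclusion hk).toAlgebra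
  exact ⟨_, Module.natCard_eq_pow_finrank (K := k) (V := F)⟩

/-- Nothing lies between fields of prime degree. -/
lemma eq_or_eq_of_prime {F L : Subfield K} [Finite F] {r : ℕ} (hr : r.Prime)
    (hc : Nat.card F = Nat.card k ^ r) (hkL : k ≤ L) (hLF : L ≤ F) : L = k ∨ L = F := by
  haveI : Finite L := Finite.of_injective _ (Subfield.inclusion hLF).injective
  haveI : Finite k := Finite.of_injective _ (Subfield.inclusion hkL).injective
  obtain ⟨d, hd⟩ := exists_pow_card hkL
  obtain ⟨e, he⟩ := exists_pow_card hLF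
  rw [hd, hc, ← pow_mul] at he
  have h3 := Nat.pow_right_injective (Finite.one_lt_card (α := k)) he
  rcases (Nat.dvd_prime hr).1 ⟨e, h3⟩ with rfl | rfl
  · rw [pow_one] at hd
    refine Or.inl (SetLike.coe_injective (Set.eq_of_subset_of_ncard_le hkL ?_ (Set.toFinite _)).symm)
    rw [← Nat.card_coe_set_eq, ← Nat.card_coe_set_eq]
    exact le_of_eq hd
  · refine Or.inr (SetLike.coe_injective (Set.eq_of_subset_of_ncard_le hLF ?_ (Set.toFinite _)))
    rw [← Nat.card_coe_set_eq, ← Nat.card_coe_set_eq]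
    exact le_of_eq (hc.trans hd.symm)

/-- Two steps give the square of the cardinality. -/
lemma sq_card_le {F : Subfield K} [Finite k] {e : K} (he : e ∉ k) (W : AddSubgroup F) [Finite W]
    (hW : ∀ x ∈ k, ∀ y ∈ k, ∃ w ∈ W, (w : K) = x + y * e) : Nat.card k ^ 2 ≤ Nat.card W := by
  rw [pow_two, ← Nat.card_prod]
  choose f hf hfe using fun v : k × k => hW v.1 v.1.2 v.2 v.2.2
  refine Nat.card_le_card_of_injective (fun v => (⟨f v, hf v⟩ : W)) fun v v' hv => ?_
  have h1 : (v.1 : K) + v.2 * e = v'.1 + v'.2 * e := by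
    rw [← hfe, ← hfe]; exact congrArg (fun w : W => ((w : F) : K)) hv
  by_cases h2 : (v.2 : K) = v'.2
  · exact Prod.ext (Subtype.ext (by rw [h2] at h1; exact add_right_cancel h1)) (Subtype.ext h2)
  · refine absurd ?_ he
    have h3 : e = ((v'.1 : K) - v.1) / (v.2 - v'.2) := by
      rw [eq_div_iff (sub_ne_zero.2 h2)]; linear_combination h1
    rw [h3]
    exact div_mem (sub_mem v'.1.2 v.1.2) (sub_mem v.2.2 v'.2.2)

/-- The hypothesis on the size of the group of parameters. -/
lemma card_cases {F : Subfield K} [Finite k] [Finite F] {e : K} (he : e ∉ k) (W : AddSubgroup F)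
    (hW : ∀ x ∈ k, ∀ y ∈ k, ∃ w ∈ W, (w : K) = x + y * e) :
    5 < Nat.card W ∨ (Nat.card W = 4 ∧ (2 : F) = 0) := by
  have h1 := sq_card_le he W hW
  have hk : 1 < Nat.card k := Finite.one_lt_card
  by_cases h3 : 3 ≤ Nat.card k
  · left
    have : 3 ^ 2 ≤ Nat.card k ^ 2 := Nat.pow_le_pow_left h3 2
    omega
  have hk2 : Nat.card k = 2 := by omega
  have h20 : (2 : F) = 0 := F.subtype.injective (by
    rw [map_ofNat, map_zero]; exact two_eq_zero_of_card hk2)
  rw [hk2] at h1
  rcases Nat.lt_or_ge 5 (Nat.card W) with h5 | h5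
  · exact Or.inl h5
  refine Or.inr ⟨?_, h20⟩
  haveI : Fact (Nat.Prime 2) := ⟨Nat.prime_two⟩
  have h2W : 2 ∣ Nat.card W := by
    obtain ⟨w, hw, hwe⟩ := hW 1 (one_mem k) 0 (zero_mem k)
    have hw0 : (⟨w, hw⟩ : W) ≠ 0 := fun e0 => by
      have := congrArg (fun w : W => ((w : F) : K)) e0
      simp [hwe] at this
    have ho : addOrderOf (⟨w, hw⟩ : W) = 2 := by
      refine addOrderOf_eq_prime (Subtype.ext ?_) hw0
      show 2 • w = 0
      rw [two_nsmul, ← two_mul, h20, zero_mul]
    exact ho ▸ addOrderOf_dvd_natCard _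
  omega

/-- Finitely many roots of unity and zeros generate a finite field. -/
lemma finite_closure (p : ℕ) [Fact p.Prime] [CharP K p] {S : Set K} (hS : S.Finite)
    (h : ∀ x ∈ S, x = 0 ∨ IsOfFinOrder x) : Finite (Subfield.closure S) := by
  letI := ZMod.algebra K p
  haveI : Finite S := hS.to_subtype
  have hint : ∀ x ∈ S, IsIntegral (ZMod p) x := by
    intro x hx
    rcases h x hx with rfl | hx
    · exact isIntegral_zero
    · obtain ⟨n, hn, e⟩ := isOfFinOrder_iff_pow_eq_one.1 hx
      exact IsIntegral.of_pow hn (by rw [e]; exact isIntegral_one)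
  haveI := IntermediateField.finiteDimensional_adjoin hint
  haveI : Finite (IntermediateField.adjoin (ZMod p) S) := Module.finite_of_finite (ZMod p)
  have hle : Subfield.closure S ≤ (IntermediateField.adjoin (ZMod p) S).toSubfield :=
    Subfield.closure_le.2 (IntermediateField.subset_adjoin _ S)
  exact Finite.of_injective
    (fun x : Subfield.closure S => (⟨x.1, hle x.2⟩ : IntermediateField.adjoin (ZMod p) S))
    fun a b e => Subtype.ext (congrArg Subtype.val e :)

lemma zero_or_isOfFinOrder (k : Subfield K) [Finite k] {x : K} (hx : x ∈ k) :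
    x = 0 ∨ IsOfFinOrder x := by
  refine or_iff_not_imp_left.2 fun hx0 => isOfFinOrder_iff_pow_eq_one.2
    ⟨Nat.card k - 1, by have := Finite.one_lt_card (α := k); omega, ?_⟩
  have h1 := pow_card_of_mem k hx
  refine mul_right_cancel₀ hx0 ?_
  rw [one_mul, ← pow_succ, show Nat.card k - 1 + 1 = Nat.card k by
    have := Finite.one_lt_card (α := k); omega, h1]

/-- The subfield generated by `k` and two roots of unity. -/
lemma exists_field (p : ℕ) [Fact p.Prime] [CharP K p] (k : Subfield K) [Finite k] {c η : K}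
    (hc : IsOfFinOrder c) (hη : IsOfFinOrder η) :
    ∃ F : Subfield K, Finite F ∧ k ≤ F ∧ c ∈ F ∧ η ∈ F ∧
      ∀ L : Subfield K, k ≤ L → c ∈ L → η ∈ L → F ≤ L := by
  refine ⟨Subfield.closure ((k : Set K) ∪ {c, η}), finite_closure p ?_ ?_,
    fun x hx => Subfield.subset_closure (Or.inl hx), Subfield.subset_closure (Or.inr (Or.inl rfl)),
    Subfield.subset_closure (Or.inr (Or.inr rfl)), fun L hk hcL hηL => Subfield.closure_le.2 ?_⟩
  · exact (Set.toFinite (k : Set K)).union (Set.toFinite _)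
  · intro x hx
    simp only [Set.mem_union, SetLike.mem_coe, Set.mem_insert_iff, Set.mem_singleton_iff] at hx
    rcases hx with hx | rfl | rfl
    · exact zero_or_isOfFinOrder k hx
    · exact Or.inr hc
    · exact Or.inr hη
  · intro x hx
    simp only [Set.mem_union, SetLike.mem_coe, Set.mem_insert_iff, Set.mem_singleton_iff] at hx
    rcases hx with hx | rfl | rfl
    · exact hk hx
    · exact hcL
    · exact hηL

lemma isOfFinOrder_inv₀ {x : K} (hx : IsOfFinOrder x) : IsOfFinOrder x⁻¹ := by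
  obtain ⟨n, hn, e⟩ := isOfFinOrder_iff_pow_eq_one.1 hx
  exact isOfFinOrder_iff_pow_eq_one.2 ⟨n, hn, by rw [inv_pow, e, inv_one]⟩

/-- A finite field of prime degree over the subfield. -/
structure PrimeExt (k : Subfield K) (r : ℕ) (F : Subfield K) : Prop where
  le : k ≤ F
  finite : Finite F
  prime : r.Prime
  card : Nat.card F = Nat.card k ^ r

/-- An element outside the subfield determines the extension. -/
lemma PrimeExt.le_of_mem {r r' : ℕ} {F F' : Subfield K} (h : PrimeExt k r F) (h' : PrimeExt k r' F')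
    {c : K} (hc : c ∉ k) (hF : c ∈ F) (hF' : c ∈ F') : F ≤ F' := by
  haveI := h.finite
  rcases eq_or_eq_of_prime h.prime h.card (le_inf h.le h'.le) (inf_le_left : F ⊓ F' ≤ F) with e | e
  · exact absurd (e ▸ (⟨hF, hF'⟩ : c ∈ F ⊓ F')) hc
  · exact e ▸ inf_le_right

end SubfieldStep

namespace Cert

variable {D : ChevalleyDatum} {T : Tab} {C : Tab.Cover} (h : Cert D T C) {K : Type*} [Field K]
  (hf : T.chkFrame = true)
include h hf

/-- The opposite root groups meet trivially. -/
lemma eq_zero_of_X0_eq_top {x w : K} (e : X D 0 x = X D T.top w) : x = 0 := by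
  obtain ⟨ht1, ht2, ht3, ht4, ht5, ht6, ht7⟩ := h.frame_top hf
  have h1 : X D 0 x ∈ D.borelSubgroup K := by
    rw [e]
    refine h.mem_borel_iff.2 ⟨_, ?_, 1, one_mem _, (mul_one _).symm⟩
    rw [h.posUnipotent_eq]
    exact X_mem_gen D (S := posSet T) ⟨ht1, ht2⟩ w
  have h2 : X D 0 x ∈ D.negUnipotent K := by
    rw [h.negUnipotent_eq]
    exact X_mem_gen D (S := {r | r < T.half}) ht5 x
  have h3 := Subgroup.mem_inf.2 ⟨h1, h2⟩
  rw [h.borel_inf_negUnipotent, Subgroup.mem_bot, h.X_eq_one_iff ht6] at h3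
  exact h3

/-- The map of `SL₂` over a subfield. -/
lemma exists_top_hom (F : Subfield K) :
    ∃ ψ : SL(2, F) →* GL D.Idx K, (∀ t : F, ψ (CfsgLib.SL2.up t) = X D T.top (t : K)) ∧
      ∀ t : F, ψ (CfsgLib.SL2.lo t) = X D 0 (t : K) := by
  obtain ⟨φ, -, hu, hv⟩ := h.exists_sl2_hom (F := K) (h.frame_top hf).2.1
  rw [(h.frame_top hf).2.2.1] at hv
  refine ⟨φ.comp (Matrix.SpecialLinearGroup.map F.subtype), fun t => hu _ _ ?_, fun t => hv _ _ ?_⟩
  · show (CfsgLib.SL2.up t : Matrix (Fin 2) (Fin 2) F).map F.subtype = _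
    rw [CfsgLib.SL2.up_coe]
    ext i j
    fin_cases i <;> fin_cases j <;> simp
  · show (CfsgLib.SL2.lo t : Matrix (Fin 2) (Fin 2) F).map F.subtype = _
    rw [CfsgLib.SL2.lo_coe]
    ext i j
    fin_cases i <;> fin_cases j <;> simp

/-- Conjugates by the highest root group of lowest root elements are distinct. -/
lemma eq_of_top_conj {z c c' : K} (hc : c ≠ 0)
    (e : X D T.top z * X D 0 c * X D T.top (-z) = X D 0 c') : c = c' := by
  obtain ⟨ht1, ht2, ht3, ht4, ht5, ht6, ht7⟩ := h.frame_top hf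
  by_cases hz : z = 0
  · rw [hz, neg_zero, h.X_zero ht2, one_mul, mul_one] at e
    exact h.X_inj ht6 e
  exfalso
  have hw : nU D T.top 1 * X D 0 c' * (nU D T.top 1)⁻¹ = X D T.top (-c') := by
    obtain ⟨φ, -, hu, hv⟩ := h.exists_sl2_hom (F := K) ht2
    rw [ht3] at hv
    rw [h.nU_inv ht2]
    simp only [nU, h.agrees.neg_eq ht2, ht3, inv_one, inv_neg, _root_.neg_neg]
    simp only [← hu (SL2Pair.E _) _ rfl, ← hv (SL2Pair.L _) _ rfl, ← map_mul]
    congr 1
    apply Subtype.ext
    simp only [SL2Pair.val_mul, SL2Pair.E_val, SL2Pair.L_val, Matrix.mul_fin_two]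
    ext i j
    fin_cases i <;> fin_cases j <;> simp
  have h1 := h.rotate_zero hf hz c
  rw [e, hw] at h1
  have h2 : X D 0 (z ^ 2 * c) = X D T.top (-c') := by
    have h3 : X D 0 (z ^ 2 * c) = (X D T.top (-z⁻¹))⁻¹ * X D T.top (-c') * (X D T.top z⁻¹)⁻¹ := by
      rw [h1]; group
    rw [h3, h.X_inv ht2, h.X_inv ht2, h.X_add ht2, h.X_add ht2]
    congr 1; ring
  exact mul_ne_zero (pow_ne_zero _ hz) hc (h.eq_zero_of_X0_eq_top hf h2)

end Cert

namespace Over

open Cert (inQ_lt)

variable {D : ChevalleyDatum} {T : Tab} {C : Tab.Cover} {K : Type*} [Field K] {σ : K →+* K}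
  {k : Subfield K} {H : Subgroup (GL D.Idx K)} (ho : Over D T σ k H) (h : Cert D T C)
  (hf : T.chkFrame = true)
include ho h hf

/-- In a finite group the parameters at the lowest root are roots of unity. -/
lemma isOfFinOrder_param [Finite H] {c : K} {q : GL D.Idx K} (hS : Sted D T H c q) :
    IsOfFinOrder c := by
  obtain ⟨ht1, ht2, ht3, ht4, ht5, ht6, ht7⟩ := h.frame_top hf
  have hseq : ∀ i : ℕ, ∃ a : K, Sted D T H (-(c ^ 2 ^ (i + 1))) (q * X D T.top a) := by
    intro i
    induction i with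
    | zero =>
      refine ⟨c⁻¹, ?_⟩
      have h1 := ho.sted_square h hf hS (one_mem k) one_ne_zero
      simpa using h1
    | succ i ih =>
      obtain ⟨a, ha⟩ := ih
      refine ⟨a + (-(c ^ 2 ^ (i + 1)))⁻¹, ?_⟩
      have h1 := ho.sted_square h hf ha (one_mem k) one_ne_zero
      rw [mul_assoc, h.X_add ht2, mul_one, neg_sq, ← pow_mul, ← pow_succ] at h1
      exact h1
  choose a ha using hseq
  obtain ⟨i, j, hij, e⟩ := Finite.exists_ne_map_eq_of_infinite fun i : ℕ =>
    (⟨_, (ha i).2.2⟩ : H)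
  have e' := congrArg Subtype.val e
  simp only at e'
  have h1 : X D T.top (a i - a j) * X D 0 (-(c ^ 2 ^ (i + 1))) * X D T.top (-(a i - a j)) =
      X D 0 (-(c ^ 2 ^ (j + 1))) := by
    calc X D T.top (a i - a j) * X D 0 (-(c ^ 2 ^ (i + 1))) * X D T.top (-(a i - a j))
        = (X D T.top (a j))⁻¹ * q⁻¹ * (q * X D T.top (a i) * X D 0 (-(c ^ 2 ^ (i + 1))) *
            (q * X D T.top (a i))⁻¹) * q * X D T.top (a j) := by
          rw [sub_eq_neg_add, ← h.X_add ht2, ← h.X_inv ht2, _root_.neg_add_rev, _root_.neg_neg,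
            ← h.X_add ht2, ← h.X_inv ht2]
          group
      _ = _ := by rw [e']; group
  have h2 := neg_inj.1 (h.eq_of_top_conj hf (ha i).1 h1)
  have key : ∀ {A B : ℕ}, A < B → c ^ A = c ^ B → IsOfFinOrder c := by
    intro A B hAB eAB
    refine isOfFinOrder_iff_pow_eq_one.2 ⟨B - A, by omega, mul_left_cancel₀ (pow_ne_zero A hS.1) ?_⟩
    rw [← pow_add, Nat.add_sub_cancel' hAB.le, mul_one, eAB]
  rcases Nat.lt_or_gt_of_ne hij with hlt | hlt
  · exact key (Nat.pow_lt_pow_right Nat.one_lt_two (by omega)) h2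
  · exact key (Nat.pow_lt_pow_right Nat.one_lt_two (by omega)) h2.symm

/-- Brackets of elements of the overgroup are in the subfield. -/
lemma brk_mem {γ : ℕ} (hγ : γ < T.n) {g : GL D.Idx K} {v : K} (hg : g ∈ H)
    (hv : Brk D T γ g v) : v ∈ k := by
  have h1 := mul_mem (inv_mem (mul_mem hg (ho.X_mem h hγ (one_mem k))))
    (mul_mem (ho.X_mem h hγ (one_mem k)) hg)
  rw [hv 1, one_mul, inv_mul_cancel_left] at h1
  exact ho.param v h1

/-- The group in the plane of the highest root reaches all parameters of the field. -/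
lemma exists_plane_elem {F : Subfield K} [Finite F] {q : GL D.Idx K} (N : Subgroup (GL D.Idx K))
    (hNt : ∀ t : K, X D T.top t ∈ Subgroup.normalizer (N : Set (GL D.Idx K)))
    (hN0 : ∀ t : K, X D 0 t ∈ Subgroup.normalizer (N : Set (GL D.Idx K)))
    (W : AddSubgroup F) (hW : ∀ w ∈ W, ∃ n ∈ N, q * (X D T.top (w : K) * n) * q⁻¹ ∈ H)
    {μ : F} (hμ0 : μ ≠ 0) (hμ : q * X D 0 (μ : K) * q⁻¹ ∈ H)
    (h45 : 5 < Nat.card W ∨ (Nat.card W = 4 ∧ (2 : F) = 0))
    (hgen : ∀ L : Subfield F, (∀ w ∈ W, μ * w ∈ L) → L = ⊤) (t : F) :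
    ∃ n ∈ N, q * (X D T.top (t : K) * n) * q⁻¹ ∈ H := by
  obtain ⟨ψ, hu, hl⟩ := h.exists_top_hom hf F
  let R : Subgroup (GL D.Idx K) :=
    H.comap (MulAut.conj q).toMonoidHom ⊓ Subgroup.normalizer (N : Set (GL D.Idx K))
  have hR : ∀ g, g ∈ R ↔ q * g * q⁻¹ ∈ H ∧ g ∈ Subgroup.normalizer (N : Set (GL D.Idx K)) :=
    fun g => Iff.rfl
  have hNn : ∀ n ∈ N, n ∈ Subgroup.normalizer (N : Set (GL D.Idx K)) :=
    fun n hn => Subgroup.le_normalizer hn
  let S : Subgroup SL(2, F) := (R ⊔ N).comap ψ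
  have hS : S = ⊤ := by
    refine CfsgLib.SL2.eq_top_of_up_lo' W (fun w hw => ?_) hμ0 ?_ h45 hgen
    · obtain ⟨n, hn, hm⟩ := hW w hw
      show ψ (CfsgLib.SL2.up w) ∈ R ⊔ N
      rw [hu, show X D T.top (w : K) = X D T.top (w : K) * n * n⁻¹ by group]
      exact Subgroup.mul_mem_sup ((hR _).2 ⟨hm, mul_mem (hNt _) (hNn n hn)⟩) (inv_mem hn)
    · show ψ (CfsgLib.SL2.lo μ) ∈ R ⊔ N
      rw [hl]
      exact Subgroup.mem_sup_left ((hR _).2 ⟨hμ, hN0 _⟩)
  have h1 : ψ (CfsgLib.SL2.up t) ∈ R ⊔ N := by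
    show CfsgLib.SL2.up t ∈ S
    rw [hS]; trivial
  rw [hu, ← SetLike.mem_coe,
    Subgroup.coe_mul_of_left_le_normalizer_right R N inf_le_right] at h1
  obtain ⟨x, hx, n, hn, e⟩ := Set.mem_mul.1 h1
  exact ⟨n⁻¹, inv_mem hn, by rw [← e, mul_inv_cancel_right]; exact ((hR x).1 hx).1⟩

end Over

end CfsgLib.Chev
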