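import Cfsg.Agent.Lib.Chev.SubfieldExpand

/-!
The parameters of a finite overgroup at the highest root form a field, and all root elements with parameters in
this field lie in the overgroup.
-/

set_option autoImplicit false
set_option maxRecDepth 100000
set_option linter.style.haveILetI false
set_option linter.unusedSectionVars false

namespace CfsgLib.Chev

open Cfsg.Lie Matrix

/-- A finite additive group closed under multiplication is a field. -/
lemma exists_subfield_of_mul {K : Type*} [Field K] (S : AddSubgroup K) [Finite S] (h1 : (1 : K) ∈ S)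
    (hmul : ∀ t u, t ∈ S → u ∈ S → t * u ∈ S) :
    ∃ k₀ : Subfield K, Finite k₀ ∧ ∀ x, x ∈ k₀ ↔ x ∈ S := by
  refine ⟨Subring.toSubfield
    { carrier := S
      zero_mem' := zero_mem S
      one_mem' := h1
      add_mem' := fun ha hb => add_mem ha hb
      mul_mem' := fun ha hb => hmul _ _ ha hb
      neg_mem' := fun ha => neg_mem ha } (fun x hx => ?_), Finite.of_equiv S (Equiv.refl _), fun x => Iff.rfl⟩
  by_cases h0 : x = 0
  · rw [h0, _root_.inv_zero]; exact zero_mem S
  obtain ⟨y, hy⟩ := Finite.surjective_of_injective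
    (f := fun y : S => (⟨x * y, hmul x y hx y.2⟩ : S))
    (fun a b e => Subtype.ext (mul_left_cancel₀ h0 (congrArg Subtype.val e :))) ⟨1, h1⟩
  have e : x * (y : K) = 1 := congrArg Subtype.val hy
  rw [inv_eq_of_mul_eq_one_right e]
  exact y.2

/-- All parameters at the highest root form a field, which serves all roots. -/
def FieldParams (D : ChevalleyDatum) (T : Tab) {K : Type*} [Field K] (k₁ : Subfield K)
    (H : Subgroup (GL D.Idx K)) : Prop :=
  ∃ k₀ : Subfield K, Finite k₀ ∧ k₁ ≤ k₀ ∧ (∀ t, X D T.top t ∈ H → t ∈ k₀) ∧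
    ∀ r < T.n, ∀ t ∈ k₀, X D r t ∈ H

namespace FinParam

variable {D : ChevalleyDatum} {T : Tab} {C : Tab.Cover} (h : Cert D T C) {K : Type*} [Field K]
  {k₁ : Subfield K} {H : Subgroup (GL D.Idx K)} (hk₁ : ∀ r < T.n, ∀ t ∈ k₁, X D r t ∈ H)
include h hk₁

lemma nS_mem {i : ℕ} (hi : i < T.l) : nS D K i ∈ H := by
  have hs := h.simple_lt hi
  rw [nS, h.simple_eq hi, nU, h.agrees.neg_eq hs, inv_one]
  exact mul_mem (mul_mem (hk₁ _ hs _ (one_mem _)) (hk₁ _ (Cert.neg_lt (T := T) hs) _ (neg_mem (one_mem _))))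
    (hk₁ _ hs _ (one_mem _))

lemma refl_iff {i r : ℕ} (hi : i < T.l) (hr : r < T.n) (t : K) :
    X D (T.refl i r) t ∈ H ↔ X D r t ∈ H := by
  have hn := nS_mem h hk₁ hi
  have key : X D r t ∈ H ↔ X D (T.refl i r) ((T.eta i r : K) * t) ∈ H := by
    rw [← h.nS_conj_X (F := K) hi hr t]
    refine ⟨fun ht => mul_mem (mul_mem hn ht) (inv_mem hn), fun ht => ?_⟩
    have := mul_mem (mul_mem (inv_mem hn) ht) hn
    rwa [show (nS D K i)⁻¹ * (nS D K i * X D r t * (nS D K i)⁻¹) * nS D K i = X D r t by group] at this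
  rw [key]
  rcases T.eta_cases i r with a | a
  · simp [a]
  · rw [a, Int.cast_neg, Int.cast_one, neg_one_mul, ← h.X_inv (h.refl_lt hi hr), inv_mem_iff]

lemma long_iff (htop : T.top < T.n) {n r : ℕ} (hr : (T.longBits n).testBit r = true) :
    r < T.n ∧ ∀ t, X D r t ∈ H ↔ X D T.top t ∈ H := by
  refine T.orbWith_induction (P := fun r => r < T.n ∧ ∀ t, X D r t ∈ H ↔ X D T.top t ∈ H)
    (fun i hi r hr => ?_) n _ (fun r hr => ?_) r hr
  · rw [List.mem_range] at hi
    exact ⟨h.refl_lt hi hr.1, fun t => (refl_iff h hk₁ hi hr.1 t).trans (hr.2 t)⟩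
  · rw [Nat.testBit_two_pow, decide_eq_true_eq] at hr
    subst hr
    exact ⟨htop, fun t => Iff.rfl⟩

lemma finite_params [Finite H] (htop : T.top < T.n) : Finite (paramsAt h H htop) :=
  Finite.of_injective (fun t : paramsAt h H htop => (⟨X D T.top t.1, t.2⟩ : H))
    fun a b e => Subtype.ext (h.X_inj htop (congrArg Subtype.val e))

lemma mul_of_sum (htop : T.top < T.n) {n a b : ℕ} (hs : T.chkSum n a b = true) (t u : K)
    (ht : t ∈ paramsAt h H htop) (hu : u ∈ paramsAt h H htop) : t * u ∈ paramsAt h H htop := by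
  simp only [Tab.chkSum, Bool.and_eq_true, decide_eq_true_eq] at hs
  obtain ⟨⟨⟨hone, ha, hb', hne, hneg⟩, haO⟩, hbO⟩ := hs
  have h1 := ((long_iff h hk₁ htop haO).2 t).2 ht
  have h2 := ((long_iff h hk₁ htop hbO).2 u).2 hu
  have h3 := mul_mem (inv_mem h2) (mul_mem (mul_mem h1 h2) (inv_mem h1))
  rw [h.conj_of_one ha hb' hne hneg hone t u, inv_mul_cancel_left] at h3
  show X D T.top (t * u) ∈ H
  rcases (Cert.one_spec (K := K) hone).2 with e | e <;> rw [e] at h3
  · rwa [one_mul] at h3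
  · rw [neg_mul, neg_mul, one_mul, ← h.X_inv htop, inv_mem_iff] at h3; exact h3

/-- The field at the highest root. -/
lemma exists_field [Finite H] (htop : T.top < T.n)
    (hmul : ∀ t u, t ∈ paramsAt h H htop → u ∈ paramsAt h H htop → t * u ∈ paramsAt h H htop) :
    ∃ k₀ : Subfield K, Finite k₀ ∧ k₁ ≤ k₀ ∧ ∀ t, t ∈ k₀ ↔ X D T.top t ∈ H := by
  haveI := finite_params h hk₁ htop
  obtain ⟨k₀, hfin, hk⟩ := exists_subfield_of_mul (paramsAt h H htop) (hk₁ _ htop _ (one_mem _)) hmul
  exact ⟨k₀, hfin, fun t ht => (hk t).2 (hk₁ _ htop _ ht), hk⟩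

/-- The simple roots, by the leading commutators. -/
lemma simple_mem (htop : T.top < T.n) {n : ℕ} {W : List (ℕ × ℕ)} (hW : T.chkLongTail n W = true)
    {k₀ : Subfield K} (hk₀ : ∀ t, t ∈ k₀ ↔ X D T.top t ∈ H) {i : ℕ} (hi : i < T.l) {t : K}
    (ht : t ∈ k₀) : X D (T.simple i) t ∈ H := by
  simp only [Tab.chkLongTail, List.all_eq_true, Bool.or_eq_true, List.any_eq_true, List.mem_range,
    Bool.and_eq_true] at hW
  rcases hW i hi with e | ⟨⟨r, l⟩, -, hp, htail⟩
  · exact ((long_iff h hk₁ htop e).2 t).2 ((hk₀ t).1 ht)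
  simp only [Tab.chkLead, Bool.and_eq_true, decide_eq_true_eq] at hp
  obtain ⟨⟨⟨hr, hl, hne, hneg⟩, hO⟩, hm⟩ := hp
  split at hm
  next q rest heq =>
    simp only [Bool.and_eq_true, decide_eq_true_eq, List.all_eq_true] at hm
    obtain ⟨⟨hq1, hqm, hqj⟩, -⟩ := hm
    simp only [heq, List.tail_cons] at htail
    set m := (q.2.1 : K) * (-1) ^ q.2.2.1 with hm'
    have hlong : ∀ x ∈ k₀, X D l x ∈ H := fun x hx => ((long_iff h hk₁ htop hO).2 x).2 ((hk₀ x).1 hx)
    have hmk : m ∈ k₀ := mul_mem (intCast_mem k₀ _) (pow_mem (neg_mem (one_mem k₀)) _)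
    have hm0 : m ≠ 0 := by
      rcases Int.natAbs_eq q.2.1 with e | e <;> rw [hqm] at e <;> simp [m, e]
    set x := m⁻¹ * t
    have hxk : x ∈ k₀ := mul_mem (inv_mem hmk) ht
    have h1 := mul_mem (inv_mem (hlong x hxk))
      (mul_mem (mul_mem (hk₁ r hr _ (neg_mem (one_mem _))) (hlong x hxk)) (hk₁ r hr _ (one_mem _)))
    rw [h.X_conj hr hl hne hneg 1 x, inv_mul_cancel_left, heq, List.map_cons, List.prod_cons, hqj,
      pow_one, hq1] at h1
    have h2 : (rest.map fun c => X D c.1 ((c.2.1 : K) * (-1) ^ c.2.2.1 * x ^ c.2.2.2)).prod ∈ H :=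
      list_prod_mem fun g hg => by
        obtain ⟨y, hy, rfl⟩ := List.mem_map.1 hg
        exact ((long_iff h hk₁ htop (htail y hy)).2 _).2 ((hk₀ _).1
          (mul_mem (mul_mem (intCast_mem k₀ _) (pow_mem (neg_mem (one_mem k₀)) _)) (pow_mem hxk _)))
    have h3 := mul_mem h1 (inv_mem h2)
    rw [mul_inv_cancel_right] at h3
    rwa [show (q.2.1 : K) * (-1) ^ q.2.2.1 * x = t by
      rw [← hm']; exact mul_inv_cancel_left₀ hm0 t] at h3
  next => exact absurd hm Bool.false_ne_true

/-- All roots, from the simple ones. -/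
lemma all_mem {k₀ : Subfield K} (hs : ∀ i < T.l, ∀ t ∈ k₀, X D (T.simple i) t ∈ H) {r : ℕ}
    (hr : r < T.n) {t : K} (ht : t ∈ k₀) : X D r t ∈ H :=
  h.root_induction (P := fun r => ∀ t ∈ k₀, X D r t ∈ H) hs
    (fun _ hi _ hr ih t ht => (refl_iff h hk₁ hi hr t).2 (ih t ht)) hr t ht

/-- The types with two long roots adding up to the highest, all tails long. -/
theorem fieldParams_of_checks [Finite H] (htop : T.top < T.n) {n a b : ℕ} {W : List (ℕ × ℕ)}
    (hs : T.chkSum n a b = true) (hW : T.chkLongTail n W = true) : FieldParams D T k₁ H := by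
  obtain ⟨k₀, hfin, hle, hk₀⟩ := exists_field h hk₁ htop (mul_of_sum h hk₁ htop hs)
  exact ⟨k₀, hfin, hle, fun t ht => (hk₀ t).2 ht, fun r hr t ht =>
    all_mem h hk₁ (fun i hi t ht => simple_mem h hk₁ htop hW hk₀ hi ht) hr ht⟩

end FinParam

open FinParam in
theorem fieldParamsG2 {K : Type*} [Field K] {k₁ : Subfield K} {H : Subgroup (GL chevG2.Idx K)}
    [Finite H] (hk₁ : ∀ r < tabG2.n, ∀ t ∈ k₁, X chevG2 r t ∈ H) :
    FieldParams chevG2 tabG2 k₁ H := by
  obtain ⟨elead, p7, p9, hlongs, s0, s1, el, e65⟩ := g2Lead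
  have htop : tabG2.top < tabG2.n := by decide +kernel
  have hlt : ∀ r, r < 12 → r < tabG2.n := fun r hr => by rw [g2Basic.2.1]; exact hr
  obtain ⟨k₀, hfin, hle, hk₀⟩ := exists_field certG2 hk₁ htop (mul_of_sum certG2 hk₁ htop sumG2)
  simp only [List.all_eq_true] at hlongs
  have hlong : ∀ r ∈ [5, 6, 10, 11], ∀ x ∈ k₀, X chevG2 r x ∈ H := fun r hr x hx =>
    ((long_iff certG2 hk₁ htop (hlongs r hr)).2 x).2 ((hk₀ x).1 hx)
  refine ⟨k₀, hfin, hle, fun t ht => (hk₀ t).2 ht, fun r hr t ht =>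
    all_mem certG2 hk₁ (fun i hi t ht => ?_) hr ht⟩
  rw [el] at hi
  interval_cases i
  swap
  · rw [s1]; exact hlong 6 (by simp) t ht
  rw [s0]
  have hA : ∀ x ∈ k₀, X chevG2 7 x * X chevG2 9 (-x) ∈ H := by
    intro x hx
    have h1 := mul_mem (inv_mem (hlong 5 (by simp) x hx))
      (mul_mem (mul_mem (hk₁ 8 (hlt 8 (by norm_num)) _ (neg_mem (one_mem _))) (hlong 5 (by simp) x hx))
        (hk₁ 8 (hlt 8 (by norm_num)) _ (one_mem _)))
    rw [certG2.X_conj (hlt 8 (by norm_num)) (hlt 5 (by norm_num)) (by norm_num)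
      (by simp [Tab.neg, g2Basic.2.1]) 1 x, inv_mul_cancel_left, elead] at h1
    simp only [List.map_cons, List.map_nil, List.prod_cons, List.prod_nil, mul_one, pow_one,
      Int.cast_neg, Int.cast_one, neg_sq, one_pow] at h1
    norm_num at h1
    have h2 := mul_mem h1 (inv_mem (mul_mem (hlong 11 (by simp) x hx) (hlong 10 (by simp) (x ^ 2) (pow_mem hx 2))))
    rwa [← mul_assoc, mul_inv_cancel_right] at h2
  by_cases hex : ∃ s ∈ k₀, s ≠ 0 ∧ s ≠ 1
  swap
  · rcases eq_or_ne t 0 with rfl | h0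
    · exact hk₁ 7 (hlt 7 (by norm_num)) _ (zero_mem _)
    rcases eq_or_ne t 1 with rfl | h1
    · exact hk₁ 7 (hlt 7 (by norm_num)) _ (one_mem _)
    exact absurd ⟨t, ht, h0, h1⟩ hex
  obtain ⟨s, hs, hs0, hs1'⟩ := hex
  have hs1 : s⁻¹ - 1 ≠ 0 := fun e => hs1' (inv_eq_one.1 (sub_eq_zero.1 e))
  have hsi : s⁻¹ ∈ k₀ := inv_mem hs
  have hh : hU chevG2 6 s ∈ H := by
    simp only [hU, nU, certG2.agrees.neg_eq (hlt 6 (by norm_num)), e65]
    exact mul_mem
      (mul_mem (mul_mem (hlong 6 (by simp) _ hs) (hlong 5 (by simp) _ (neg_mem hsi))) (hlong 6 (by simp) _ hs))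
      (mul_mem (mul_mem (hlong 6 (by simp) _ (neg_mem (one_mem _)))
        (hlong 5 (by simp) _ (neg_mem (inv_mem (neg_mem (one_mem _)))))) (hlong 6 (by simp) _ (neg_mem (one_mem _))))
  have hconj : ∀ r, r < 12 → ∀ x : K, hU chevG2 6 s * X chevG2 r x * (hU chevG2 6 s)⁻¹ =
      X chevG2 r (s ^ tabG2.pairing 6 r * x) := by
    intro r hr x
    rw [mul_inv_eq_iff_eq_mul]
    refine Units.ext ?_
    rw [Units.val_mul, Units.val_mul, certG2.coe_hU, certG2.coe_X, certG2.coe_X,
      certG2.hMat_mul_x (hlt 6 (by norm_num)) hs0 (hlt r hr)]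
  set x := (s⁻¹ - 1)⁻¹ * t
  have hx : x ∈ k₀ := mul_mem (inv_mem (sub_mem hsi (one_mem _))) ht
  have h1 := mul_mem (mul_mem (mul_mem hh (hA x hx)) (inv_mem hh)) (inv_mem (hA x hx))
  rw [show hU chevG2 6 s * (X chevG2 7 x * X chevG2 9 (-x)) * (hU chevG2 6 s)⁻¹ =
    (hU chevG2 6 s * X chevG2 7 x * (hU chevG2 6 s)⁻¹) *
      (hU chevG2 6 s * X chevG2 9 (-x) * (hU chevG2 6 s)⁻¹) by group,
    hconj 7 (by norm_num), hconj 9 (by norm_num), p7, p9, zpow_zero, one_mul, _root_.zpow_neg_one,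
    _root_.mul_inv_rev, mul_assoc, mul_inv_cancel_left, certG2.X_inv (hlt 7 (by norm_num)),
    certG2.X_add (hlt 7 (by norm_num))] at h1
  rwa [show s⁻¹ * x + -x = t by
    rw [show s⁻¹ * x + -x = (s⁻¹ - 1) * x by ring, mul_inv_cancel_left₀ hs1]] at h1

open FinParam in
theorem fieldParamsB2 {K : Type*} [Field K] (p : ℕ) [Fact p.Prime] [CharP K p] {k₁ : Subfield K}
    {H : Subgroup (GL chevB2.Idx K)} [Finite H]
    (hk₁ : ∀ r < tabB2.n, ∀ t ∈ k₁, X chevB2 r t ∈ H) : FieldParams chevB2 tabB2 k₁ H := by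
  obtain ⟨etop, hn, -, hl, -⟩ := b2Basic
  have hlt : ∀ r, r < 8 → r < tabB2.n := fun r hr => by rw [hn]; exact hr
  have htop : tabB2.top < tabB2.n := by rw [etop]; exact hlt 7 (by norm_num)
  have hlongs : ([3, 4].all fun r => (tabB2.longBits 3).testBit r) = true := by decide +kernel
  simp only [List.all_eq_true] at hlongs
  have hlong : ∀ r ∈ [3, 4], ∀ x, X chevB2 r x ∈ H ↔ X chevB2 tabB2.top x ∈ H := fun r hr =>
    (long_iff certB2 hk₁ htop (hlongs r hr)).2
  set S := paramsAt certB2 H htop with hSdef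
  haveI : Finite S := finite_params certB2 hk₁ htop
  have h7 : ∀ x, X chevB2 7 x ∈ H ↔ x ∈ S := fun x => by
    show _ ↔ X chevB2 tabB2.top x ∈ H; rw [etop]
  have h56 : ∀ x, X chevB2 6 x ∈ H ↔ X chevB2 5 x ∈ H := fun x => by
    have := refl_iff certB2 hk₁ hl (hlt 5 (by norm_num)) x
    rwa [b2Refl.2.1] at this
  -- long to short
  have hTS : ∀ x ∈ S, X chevB2 5 x ∈ H := by
    intro x hx
    have h3 := (hlong 3 (by simp) x).2 hx
    have h1 := mul_mem (inv_mem h3) (mul_mem (mul_mem (hk₁ 6 (hlt 6 (by norm_num)) _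
      (neg_mem (one_mem _))) h3) (hk₁ 6 (hlt 6 (by norm_num)) _ (one_mem _)))
    rw [certB2.X_conj (hlt 6 (by norm_num)) (hlt 3 (by norm_num)) (by norm_num)
      (by simp [Tab.neg, hn]) 1 x, inv_mul_cancel_left, b2CommB.1] at h1
    simp only [List.map_cons, List.map_nil, List.prod_cons, List.prod_nil, mul_one, pow_one,
      Int.cast_neg, Int.cast_one, neg_sq, one_pow, one_mul, neg_mul_neg] at h1
    have h2 := mul_mem h1 (inv_mem ((h7 x).2 hx))
    rwa [mul_inv_cancel_right] at h2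
  -- short squares to long
  have hST : ∀ x, X chevB2 5 x ∈ H → x ^ 2 ∈ S := by
    intro x hx
    have hX4 := hk₁ 4 (hlt 4 (by norm_num)) _ (one_mem _)
    have h1 := mul_mem (inv_mem hx) (mul_mem (mul_mem (hk₁ 4 (hlt 4 (by norm_num)) _
      (neg_mem (one_mem _))) hx) hX4)
    rw [certB2.X_conj (hlt 4 (by norm_num)) (hlt 5 (by norm_num)) (by norm_num)
      (by simp [Tab.neg, hn]) 1 x, inv_mul_cancel_left, b2CommA.2.2.1] at h1
    simp only [List.map_cons, List.map_nil, List.prod_cons, List.prod_nil, mul_one, pow_one,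
      Int.cast_neg, Int.cast_one, one_mul, neg_mul, _root_.neg_neg] at h1
    have h6 : X chevB2 6 (-x) ∈ H := by
      rw [← certB2.X_inv (hlt 6 (by norm_num))]; exact inv_mem ((h56 x).2 hx)
    have h2 := mul_mem (inv_mem h6) h1
    rw [inv_mul_cancel_left] at h2
    exact (h7 _).1 h2
  have h1S : (1 : K) ∈ S := hk₁ _ htop _ (one_mem _)
  have hmul : ∀ t u, t ∈ S → u ∈ S → t * u ∈ S := by
    by_cases h2 : (2 : K) = 0
    · have : CharP K 2 := CharTwo.of_one_ne_zero_of_two_eq_zero one_ne_zero h2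
      have hneg : ∀ y : K, -y = y := CharTwo.neg_eq
      have hsqsurj : ∀ v ∈ S, ∃ w ∈ S, w ^ 2 = v := by
        intro v hv
        have hsurj : Function.Surjective fun y : S => (⟨(y : K) ^ 2, hST _ (hTS _ y.2)⟩ : S) :=
          Finite.surjective_of_injective fun a b hab => Subtype.ext
            (CharTwo.sq_injective (by simpa using congrArg Subtype.val hab))
        obtain ⟨y, hy⟩ := hsurj ⟨v, hv⟩
        exact ⟨y, y.2, by simpa using congrArg Subtype.val hy⟩
      have hq : ∀ t ∈ S, ∀ v ∈ S, (t + t ^ 2) * v ∈ S := by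
        intro t ht v hv
        obtain ⟨w, hw, rfl⟩ := hsqsurj v hv
        -- x_6(tw) x_7(tw²)
        have h45 : ∀ s w : K, X chevB2 4 (-s) * X chevB2 5 w * X chevB2 4 s =
            X chevB2 5 w * (X chevB2 6 (s * w) * X chevB2 7 (s * w ^ 2)) := by
          intro s w
          have := certB2.X_conj (F := K) (hlt 4 (by norm_num)) (hlt 5 (by norm_num)) (by norm_num)
            (by simp [Tab.neg, hn]) s w
          rw [b2CommA.2.2.1] at this
          simpa [hneg] using this
        have hmk : ∀ s y : K, X chevB2 4 s ∈ H → X chevB2 5 y ∈ H →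
            X chevB2 6 (s * y) * X chevB2 7 (s * y ^ 2) ∈ H := by
          intro s y hs hy
          have := mul_mem (inv_mem hy) (mul_mem (mul_mem (inv_mem hs) hy) hs)
          rwa [certB2.X_inv (hlt 4 (by norm_num)), h45, inv_mul_cancel_left] at this
        have hP := hmk t w ((hlong 4 (by simp) t).2 ht) (hTS w hw)
        -- its mirror image
        have hn1 := nS_mem certB2 hk₁ hl
        have cn : ∀ r, r < 8 → ∀ x : K,
            nS chevB2 K 1 * X chevB2 r x * (nS chevB2 K 1)⁻¹ = X chevB2 (tabB2.refl 1 r) x := by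
          intro r hr x
          rw [certB2.nS_conj_X hl (hlt r hr) x]
          rcases tabB2.eta_cases 1 r with a | a <;> simp [a, hneg]
        have hP5 := mul_mem (mul_mem hn1 hP) (inv_mem hn1)
        rw [show nS chevB2 K 1 * (X chevB2 6 (t * w) * X chevB2 7 (t * w ^ 2)) * (nS chevB2 K 1)⁻¹ =
          (nS chevB2 K 1 * X chevB2 6 (t * w) * (nS chevB2 K 1)⁻¹) *
            (nS chevB2 K 1 * X chevB2 7 (t * w ^ 2) * (nS chevB2 K 1)⁻¹) by group,
          cn 6 (by norm_num), cn 7 (by norm_num), b2Refl.2.2.1, b2Refl.2.2.2.1] at hP5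
        have hX4 := hk₁ 4 (hlt 4 (by norm_num)) _ (one_mem _)
        have h3 := mul_mem (inv_mem hP5) (mul_mem (mul_mem (inv_mem hX4) hP5) hX4)
        have c47 : Commute (X chevB2 4 (1 : K)) (X chevB2 7 (t * w ^ 2)) :=
          Over.b2_comm certB2 (by simp) _ _
        rw [show (X chevB2 4 (1 : K))⁻¹ * (X chevB2 5 (t * w) * X chevB2 7 (t * w ^ 2)) * X chevB2 4 1 =
          ((X chevB2 4 (1 : K))⁻¹ * X chevB2 5 (t * w) * X chevB2 4 1) *
            ((X chevB2 4 (1 : K))⁻¹ * (X chevB2 7 (t * w ^ 2) * X chevB2 4 1)) by group,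
          ← c47.eq, inv_mul_cancel_left, certB2.X_inv (hlt 4 (by norm_num)), h45, one_mul, one_mul,
          _root_.mul_inv_rev, mul_assoc (X chevB2 7 (t * w ^ 2))⁻¹, mul_assoc (X chevB2 5 (t * w)),
          inv_mul_cancel_left] at h3
        have c76 : Commute (X chevB2 7 (t * w ^ 2)) (X chevB2 6 (t * w) * X chevB2 7 ((t * w) ^ 2)) := by
          refine Commute.mul_right ?_ ?_
          · have := certB2.pos_commute_top frameB2.1 (r := 6) (by rw [Tab.half, hn]; norm_num)
              (hlt 6 (by norm_num)) (t * w) (t * w ^ 2)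
            rw [etop] at this
            exact this.symm
          · show X chevB2 7 _ * X chevB2 7 _ = X chevB2 7 _ * X chevB2 7 _
            rw [certB2.X_add (hlt 7 (by norm_num)), certB2.X_add (hlt 7 (by norm_num)), add_comm]
        rw [← c76.eq, inv_mul_cancel_left] at h3
        have h4 := mul_mem (inv_mem hP) h3
        rw [_root_.mul_inv_rev, mul_assoc, inv_mul_cancel_left, certB2.X_inv (hlt 7 (by norm_num)),
          hneg, certB2.X_add (hlt 7 (by norm_num))] at h4
        have h5 := (h7 _).1 h4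
        rwa [show t * w ^ 2 + (t * w) ^ 2 = (t + t ^ 2) * w ^ 2 by ring] at h5
      intro t u ht hu
      by_cases hex : ∃ v ∈ S, (v + v ^ 2) + (v + v ^ 2) ^ 2 ≠ 0
      · obtain ⟨v, hv, hne⟩ := hex
        set s := v + v ^ 2
        have hsS : ∀ y ∈ S, s * y ∈ S := hq v hv
        have hz : ∀ t ∈ S, ∀ y ∈ S, (s + s ^ 2) * t * y ∈ S := by
          intro t ht y hy
          have h3 := add_mem (hq (s * t) (hsS t ht) y hy) (hsS _ (hsS _ (hq t ht y hy)))
          rwa [show (s * t + (s * t) ^ 2) * y + s * (s * ((t + t ^ 2) * y)) = (s + s ^ 2) * t * y by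
            linear_combination (s ^ 2 * t ^ 2 * y) * h2] at h3
        obtain ⟨y, hy⟩ := Finite.surjective_of_injective
          (f := fun y : S => (⟨(s + s ^ 2) * y, by simpa using hz 1 h1S y y.2⟩ : S))
          (fun a b e => Subtype.ext (mul_left_cancel₀ hne (congrArg Subtype.val e :))) ⟨u, hu⟩
        have e : (s + s ^ 2) * (y : K) = u := congrArg Subtype.val hy
        rw [← e, show t * ((s + s ^ 2) * (y : K)) = (s + s ^ 2) * t * y by ring]
        exact hz t ht y y.2
      · simp only [not_exists, not_and, not_not] at hex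
        have hroot : ∀ v ∈ S, v = 0 ∨ v = 1 ∨ v ^ 2 + v + 1 = 0 := by
          intro v hv
          have h1 : v * (v + 1) * (v ^ 2 + v + 1) = 0 := by linear_combination hex v hv
          rcases mul_eq_zero.1 h1 with h1 | h1
          · rcases mul_eq_zero.1 h1 with h1 | h1
            · exact Or.inl h1
            · exact Or.inr (Or.inl (by rw [eq_neg_of_add_eq_zero_left h1, hneg]))
          · exact Or.inr (Or.inr h1)
        rcases hroot t ht with rfl | rfl | ht2
        · rw [zero_mul]; exact zero_mem S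
        · rwa [one_mul]
        rcases hroot u hu with rfl | rfl | hu2
        · rw [mul_zero]; exact zero_mem S
        · rwa [mul_one]
        have hd : (t + u) * (t + u + 1) = 0 := by
          linear_combination ht2 + hu2 + (t * u - 1) * h2
        rcases mul_eq_zero.1 hd with hd | hd
        · rw [show u = t by rw [eq_neg_of_add_eq_zero_right hd, hneg]]
          have : t * t = t + 1 := by linear_combination ht2 - (t + 1) * h2
          rw [this]; exact add_mem ht h1S
        · have : t * u = 1 := by linear_combination t * hd - ht2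
          rw [this]; exact h1S
    · intro t u ht hu
      have hdbl : ∀ t ∈ S, ∀ u ∈ S, 2 * t * u ∈ S := by
        intro t ht u hu
        have hu6 := (h56 _).2 (hTS u hu)
        have ht5 := hTS t ht
        have h1 := mul_mem (inv_mem ht5) (mul_mem (mul_mem hu6 ht5) (inv_mem hu6))
        rw [Over.b2_swap certB2, show X chevB2 5 t * (X chevB2 6 u * X chevB2 7 (-2 * u * t)) *
          (X chevB2 6 u)⁻¹ = X chevB2 5 t * (X chevB2 6 u * X chevB2 7 (-2 * u * t) * (X chevB2 6 u)⁻¹) by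
            group, inv_mul_cancel_left] at h1
        have c67 := certB2.pos_commute_top frameB2.1 (r := 6) (by rw [Tab.half, hn]; norm_num)
          (hlt 6 (by norm_num)) u (-2 * u * t)
        rw [etop] at c67
        rw [c67.eq, mul_inv_cancel_right] at h1
        have h3 := neg_mem ((h7 _).1 h1)
        rwa [show -(-2 * u * t) = 2 * t * u by ring] at h3
      have hp2 : p ≠ 2 := fun e => h2 (by subst e; exact_mod_cast CharP.cast_eq_zero K 2)
      obtain ⟨m, hm⟩ : ∃ m, p = 2 * m + 1 :=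
        (Fact.out : p.Prime).eq_two_or_odd'.resolve_left hp2
      have hhalf : (m + 1) • t ∈ S := nsmul_mem ht _
      have := hdbl _ hhalf u hu
      rwa [show 2 * ((m + 1) • t) * u = t * u by
        have h0 : ((2 * m + 1 : ℕ) : K) = 0 := hm ▸ CharP.cast_eq_zero K p
        push_cast at h0
        rw [nsmul_eq_mul, Nat.cast_add, Nat.cast_one]
        linear_combination (t * u) * h0] at this
  obtain ⟨k₀, hfin, hle, hk₀⟩ := exists_field certB2 hk₁ htop hmul
  exact ⟨k₀, hfin, hle, fun t ht => (hk₀ t).2 ht, fun r hr t ht =>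
    all_mem certB2 hk₁ (fun i hi t ht => simple_mem certB2 hk₁ htop tailB2 hk₀ hi ht) hr ht⟩

end CfsgLib.Chev
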