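import Cfsg.Agent.Lib.Chev.SubfieldMain
import Cfsg.Agent.Lib.Chev.SubfieldAlgExpand
import Cfsg.Agent.Lib.Chev.SubfieldAlgB2

/-!
A finite overgroup of the points over a finite subfield: it contains the root elements of a larger finite field and
consists of fixed points of its power map.
-/

set_option autoImplicit false
set_option maxRecDepth 100000
set_option linter.style.haveILetI false
set_option linter.unusedSectionVars false

namespace CfsgLib.Chev

open Cfsg.Lie Matrix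

/-- The data, type by type. -/
structure FinData (D : ChevalleyDatum) (T : Tab) (C : Tab.Cover) (K : Type*) [Field K] : Prop where
  cert : Cert D T C
  frame : T.chkFrame = true
  word : ∃ W, T.chkWord W = true
  central : ∃ n W, T.chkLedCentral n W = true
  params : ∀ (k₁ : Subfield K) (H : Subgroup (GL D.Idx K)), Finite H →
    (∀ r < T.n, ∀ t ∈ k₁, X D r t ∈ H) → FieldParams D T k₁ H
  fixed : ∀ (σ : K →+* K) (k : Subfield K) (H : Subgroup (GL D.Idx K)), Finite k → Finite H →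
    Over D T σ k H → FrameFixed D T σ k H

namespace Over

variable {K : Type*} [Field K] (p : ℕ) [Fact p.Prime] [CharP K p] {σ : K →+* K} {k : Subfield K}
  [Finite k]
include p

lemma frame_fin {D : ChevalleyDatum} {T : Tab} {C : Tab.Cover} {H : Subgroup (GL D.Idx K)} [Finite H]
    (ho : Over D T σ k H) (h : Cert D T C) {W : List ℕ} {a b a' b' δ n : ℕ} {S S' : List ℕ}
    (hrat : T.chkRat W a b n S = true) (hsw : T.chkSwap a b a' b' δ S' = true)
    (hexc : FourRule D T k H → ∀ (c : K) (t : ℕ → K),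
      Sted D T H c (prodX D T.qList t) → c ∉ k → ∀ r ∈ S', t r ∈ k)
    (hshort : (∀ c q, Sted D T H c q → c ∈ k) →
      (∀ γ, (T.levOrb n a b).testBit γ = true → BrkRat D T k H γ) →
      ∀ (c : K) (t : ℕ → K), Sted D T H c (prodX D T.qList t) →
        (∀ r ∈ T.qList, r ∉ S → r ≠ T.top → t r = 0) → ∀ γ ∈ S, t γ ∈ k) :
    FrameFixed D T σ k H := by
  refine ho.frame_of_hall h hrat hshort fun c q hS => ?_
  simp only [Tab.chkRat, Bool.and_eq_true] at hrat
  obtain ⟨⟨⟨⟨hf, -⟩, hp⟩, -⟩, -⟩ := hrat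
  by_cases hk2 : Nat.card k = 2
  · have hfour := ho.fourRule_fin h hf p hk2
    exact ho.mem_of_swap h hf hsw hfour (hexc hfour) hS
  · exact ho.pair_param_fin h hf p hp hk2 hS

theorem frameFinG2 {H : Subgroup (GL chevG2.Idx K)} [Finite H] (ho : Over chevG2 tabG2 σ k H) :
    FrameFixed chevG2 tabG2 σ k H := by
  have hf : tabG2.chkFrame = true := by
    have := ratG2; simp only [Tab.chkRat, Bool.and_eq_true] at this; exact this.1.1.1.1
  have hp : tabG2.chkFrPair 10 6 = true := by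
    have := ratG2
    simp only [Tab.chkRat, Tab.chkFrPair, Bool.and_eq_true] at this ⊢
    exact ⟨this.1.1.2.2, this.1.1.2.1⟩
  exact ho.frame_fin p certG2 ratG2 swapRatG2
    (fun hfour c t hS hck => ho.g2_exc_short certG2 hf hp hfour hS hck) ho.shortsG2

theorem frameFinB2 {H : Subgroup (GL chevB2.Idx K)} [Finite H] (ho : Over chevB2 tabB2 σ k H) :
    FrameFixed chevB2 tabB2 σ k H := by
  refine ho.frameFixedB2_of_hall fun c q hS => ?_
  obtain ⟨t, rfl⟩ := certB2.exists_prodX_Qgrp frameB2.1 hS.2.1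
  rw [b2Basic.2.2.1] at hS
  simp only [prodX, List.map_cons, List.map_nil, List.prod_cons, List.prod_nil, mul_one] at hS
  exact ho.b2_param_fin certB2 frameB2.1 p ⟨t 7, hS⟩

end Over

theorem exists_finData {K : Type*} [Field K] (p : ℕ) [Fact p.Prime] [CharP K p] {D : ChevalleyDatum}
    (hD : D ∈ [chevG2, chevB2, chevD4, chevF4, chevE6, chevE7, chevE8]) :
    ∃ T C, FinData D T C K := by
  have ht : ∀ {T : Tab}, T.chkFrame = true → T.top < T.n := fun hf => by
    simp only [Tab.chkFrame, Bool.and_eq_true, decide_eq_true_eq] at hf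
    exact hf.1.1.2.1
  simp only [List.mem_cons, List.not_mem_nil, or_false] at hD
  rcases hD with rfl | rfl | rfl | rfl | rfl | rfl | rfl
  · exact ⟨tabG2, coverG2, certG2, (frame_word_of_rat ratG2).1, ⟨_, (frame_word_of_rat ratG2).2⟩,
      ⟨_, _, centralG2⟩, fun _ _ _ hk => fieldParamsG2 hk, fun _ _ _ _ _ ho => ho.frameFinG2 p⟩
  · exact ⟨tabB2, coverB2, certB2, frameB2.1, ⟨_, frameB2.2⟩, ⟨_, _, centralB2⟩,
      fun _ _ _ hk => fieldParamsB2 p hk, fun _ _ _ _ _ ho => ho.frameFinB2 p⟩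
  · exact ⟨tabD4, coverD4, certD4, (frame_word_of_rat ratD4).1, ⟨_, (frame_word_of_rat ratD4).2⟩,
      ⟨_, _, centralD4⟩,
      fun _ _ _ hk => FinParam.fieldParams_of_checks certD4 hk (ht (frame_word_of_rat ratD4).1) sumD4 tailD4,
      fun _ _ _ _ _ ho => ho.frame_fin p certD4 ratD4 swapD4 (fun _ _ _ _ _ r hr => by simp at hr)
        fun _ _ _ _ _ _ r hr => by simp at hr⟩
  · exact ⟨tabF4, coverF4, certF4, (frame_word_of_rat ratF4).1, ⟨_, (frame_word_of_rat ratF4).2⟩,
      ⟨_, _, centralF4⟩,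
      fun _ _ _ hk => FinParam.fieldParams_of_checks certF4 hk (ht (frame_word_of_rat ratF4).1) sumF4 tailF4,
      fun _ _ _ _ _ ho => ho.frame_fin p certF4 ratF4 swapF4 (fun _ _ _ _ _ r hr => by simp at hr)
        ho.shortsF4⟩
  · exact ⟨tabE6, coverE6, certE6, (frame_word_of_rat ratE6).1, ⟨_, (frame_word_of_rat ratE6).2⟩,
      ⟨_, _, centralE6⟩,
      fun _ _ _ hk => FinParam.fieldParams_of_checks certE6 hk (ht (frame_word_of_rat ratE6).1) sumE6 tailE6,
      fun _ _ _ _ _ ho => ho.frame_fin p certE6 ratE6 swapE6 (fun _ _ _ _ _ r hr => by simp at hr)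
        fun _ _ _ _ _ _ r hr => by simp at hr⟩
  · exact ⟨tabE7, coverE7, certE7, (frame_word_of_rat ratE7).1, ⟨_, (frame_word_of_rat ratE7).2⟩,
      ⟨_, _, centralE7⟩,
      fun _ _ _ hk => FinParam.fieldParams_of_checks certE7 hk (ht (frame_word_of_rat ratE7).1) sumE7 tailE7,
      fun _ _ _ _ _ ho => ho.frame_fin p certE7 ratE7 swapE7 (fun _ _ _ _ _ r hr => by simp at hr)
        fun _ _ _ _ _ _ r hr => by simp at hr⟩
  · exact ⟨tabE8, coverE8, certE8, (frame_word_of_rat ratE8).1, ⟨_, (frame_word_of_rat ratE8).2⟩,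
      ⟨_, _, centralE8⟩,
      fun _ _ _ hk => FinParam.fieldParams_of_checks certE8 hk (ht (frame_word_of_rat ratE8).1) sumE8 tailE8,
      fun _ _ _ _ _ ho => ho.frame_fin p certE8 ratE8 swapE8 (fun _ _ _ _ _ r hr => by simp at hr)
        fun _ _ _ _ _ _ r hr => by simp at hr⟩

namespace FinData

variable {D : ChevalleyDatum} {T : Tab} {C : Tab.Cover} {K : Type*} [Field K]
  (hm : FinData D T C K)
include hm

/-- The elements of a finite overgroup are fixed by any map with the field of parameters as fixed field. -/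
theorem overgroup {k₁ : Subfield K} {H : Subgroup (GL D.Idx K)} [Finite H] (hle : H ≤ D.group K)
    (hk₁ : ∀ r < T.n, ∀ t ∈ k₁, X D r t ∈ H) :
    ∃ k₀ : Subfield K, Finite k₀ ∧ k₁ ≤ k₀ ∧ (∀ r < T.n, ∀ t ∈ k₀, X D r t ∈ H) ∧
      ∀ σ : K →+* K, (∀ x, x ∈ k₀ ↔ σ x = x) → ∀ g ∈ H, mapGL D σ g = g := by
  have h := hm.cert
  obtain ⟨k₀, hfin, h10, hparam, hX⟩ := hm.params k₁ H inferInstance hk₁
  refine ⟨k₀, hfin, h10, hX, fun σ hσ g hg => ?_⟩
  have ho : Over D T σ k₀ H := ⟨hσ, hle, hX, hparam⟩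
  obtain ⟨htop, -⟩ := (h.frame_top hm.frame).2
  obtain ⟨W, hW⟩ := hm.word
  obtain ⟨n, Wc, hWc⟩ := hm.central
  have key : ∀ g ∈ H, mapGL D σ (g * X D T.top 1 * g⁻¹) = g * X D T.top 1 * g⁻¹ := by
    intro g hg
    obtain ⟨m, -, hmσ, c, q, hS, e⟩ := ho.exists_sted h hm.frame hW (hle hg)
      (mul_mem (mul_mem hg (hX _ htop _ (one_mem k₀))) (inv_mem hg))
    obtain ⟨hc, hq⟩ := hm.fixed σ k₀ H hfin inferInstance ho c q hS
    have e2 := congrArg (mapGL D σ) e
    have e3 : mapGL D σ (q * X D 0 c * q⁻¹) = q * X D 0 c * q⁻¹ := by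
      rw [map_mul, map_mul, map_inv, hq, h.X_map, (hσ c).1 hc]
    rw [e3, map_mul, map_mul, map_inv, hmσ, ← e] at e2
    exact mul_left_cancel (mul_right_cancel e2)
  have hσg : mapGL D σ g ∈ D.group K := h.map_mem_group σ (hle hg)
  have hone : g⁻¹ * mapGL D σ g = 1 := by
    refine h.commFixed_eq_one hWc htop (σ := σ) (mul_mem (inv_mem (hle hg)) hσg) fun m hm' => ?_
    have hmσ : mapGL D σ m = m := by
      refine (Subgroup.closure_le (K := MonoidHom.eqLocus (mapGL D σ) (MonoidHom.id _))).2 ?_ hm'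
      rintro _ ⟨s, t, -, ht, rfl⟩
      show mapGL D σ (X D s t) = X D s t
      rw [h.X_map, ht]
    have hmH : m ∈ H := by
      refine (Subgroup.closure_le _).2 ?_ hm'
      rintro _ ⟨s, t, hs, ht, rfl⟩
      exact hX s hs t ((hσ t).2 ht)
    have h1 := key (g * m) (mul_mem hg hmH)
    simp only [map_mul, map_inv, hmσ, h.X_map, map_one] at h1
    show g⁻¹ * mapGL D σ g * (m * X D T.top 1 * m⁻¹) = m * X D T.top 1 * m⁻¹ * (g⁻¹ * mapGL D σ g)
    calc g⁻¹ * mapGL D σ g * (m * X D T.top 1 * m⁻¹)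
        = g⁻¹ * (mapGL D σ g * m * X D T.top 1 * (mapGL D σ g * m)⁻¹) * mapGL D σ g := by group
      _ = g⁻¹ * (g * m * X D T.top 1 * (g * m)⁻¹) * mapGL D σ g := by rw [h1]
      _ = _ := by group
  exact (inv_mul_eq_one.1 hone).symm

end FinData

end CfsgLib.Chev
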