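import Cfsg.Agent.Lib.Chev.SubfieldAlgBase

/-!
A pair of long roots in a finite overgroup: the parameter and its brackets lie in a quadratic extension of the
subfield, so the moves force them into the subfield.
-/

set_option autoImplicit false
set_option maxRecDepth 100000
set_option linter.style.haveILetI false
set_option linter.unusedSectionVars false

namespace CfsgLib.Chev

open Cfsg.Lie Matrix

namespace SubfieldStep

variable {K : Type*} [Field K] {k : Subfield K}

/-- The subfield inside a larger one. -/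
lemma card_comap_subtype {F : Subfield K} (hk : k ≤ F) :
    Nat.card (k.comap F.subtype) = Nat.card k :=
  Nat.card_congr
    { toFun := fun x => ⟨((x : F) : K), x.2⟩
      invFun := fun x => ⟨⟨x.1, hk x.2⟩, x.2⟩
      left_inv := fun x => rfl
      right_inv := fun x => rfl }

lemma PrimeExt.card_comap {r : ℕ} {F : Subfield K} (h : PrimeExt k r F) :
    Nat.card F = Nat.card (k.comap F.subtype) ^ r := by
  rw [card_comap_subtype h.le]; exact h.card

lemma PrimeExt.hmax {r : ℕ} {F : Subfield K} (h : PrimeExt k r F) (L : Subfield F)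
    (hL : k.comap F.subtype ≤ L) : L = k.comap F.subtype ∨ L = ⊤ := by
  haveI := h.finite
  have hkL : k ≤ L.map F.subtype := fun x hx =>
    Subfield.mem_map.2 ⟨⟨x, h.le hx⟩, hL hx, rfl⟩
  have hLF : L.map F.subtype ≤ F := fun x hx => by
    obtain ⟨y, -, rfl⟩ := Subfield.mem_map.1 hx
    exact y.2
  rcases eq_or_eq_of_prime h.prime h.card hkL hLF with e | e
  · refine Or.inl (SetLike.ext fun y => ?_)
    constructor
    · intro hy
      show (y : K) ∈ k
      rw [← e]; exact Subfield.mem_map.2 ⟨y, hy, rfl⟩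
    · exact fun hy => hL hy
  · refine Or.inr (eq_top_iff.2 fun y _ => ?_)
    obtain ⟨z, hz, ez⟩ := Subfield.mem_map.1 (show (y : K) ∈ L.map F.subtype by rw [e]; exact y.2)
    exact (F.subtype.injective ez : z = y) ▸ hz

/-- Moves inside a subfield. -/
lemma Moves.restrict {e : ℕ} {ε : K} {P : K → K → K → Prop} (hP : Moves k e ε P) (F : Subfield K)
    (ε' : F) (hε : (ε' : K) = ε) :
    Moves (k.comap F.subtype) e ε' (fun x y z => P (x : K) (y : K) (z : K)) := by
  subst hε
  refine ⟨fun {c ρ η} hh e0 => hP.ne hh (by rw [e0]; simp), fun {c ρ η} hh => by simpa using hP.inv hh,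
    fun {c ρ η} s hs t ht hh => by simpa using hP.shift (s : K) hs (t : K) ht hh,
    fun {c ρ η} t ht ht0 hh => ?_, fun {c ρ η} t ht ht0 hη0 hh => ?_,
    fun {c ρ η} hh hor => hP.base hh hor⟩
  · simpa using hP.square (t : K) ht (fun e0 => ht0 (Subtype.ext e0)) hh
  · simpa using hP.step (t : K) ht (fun e0 => ht0 (Subtype.ext e0)) (fun e0 => hη0 (Subtype.ext e0)) hh

end SubfieldStep

namespace Over

open Cert (inQ_lt one_spec)

variable {D : ChevalleyDatum} {T : Tab} {C : Tab.Cover} {K : Type*} [Field K] {σ : K →+* K}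
  {k : Subfield K} {H : Subgroup (GL D.Idx K)} (ho : Over D T σ k H) (h : Cert D T C)
  (hf : T.chkFrame = true) (p : ℕ) [Fact p.Prime] [CharP K p] [Finite k] [Finite H]
include ho h hf p

set_option maxHeartbeats 800000 in
/-- A parameter outside the subfield and a bracket generate a quadratic extension. -/
theorem pair_plane {a b : ℕ} (hp : T.chkFrPair a b = true) {c η : K} {q : GL D.Idx K}
    (hS : Sted D T H c q) (hc : c ∉ k) (hη : Brk D T b q η) :
    ∃ F : Subfield K, SubfieldStep.PrimeExt k 2 F ∧ c ∈ F ∧ η ∈ F := by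
  obtain ⟨ht1, ht2, ht3, ht4, ht5, ht6, ht7⟩ := h.frame_top hf
  have hp' := hp
  simp only [Tab.chkFrPair, Bool.and_eq_true] at hp'
  have hηk : η ∉ k := fun hh =>
    hc (ho.mem_of_brk_mem h hf (a := b) (b := a) (by simp [Tab.chkFrPair, hp'.1, hp'.2]) hS hη hh)
  have hη0 : η ≠ 0 := fun e => hηk (e ▸ zero_mem k)
  have hcfin := ho.isOfFinOrder_param h hf hS
  have hηfin : IsOfFinOrder η := by
    have h1 := ho.isOfFinOrder_param h hf (ho.sted_square h hf hS (one_mem k) one_ne_zero)
    have h2 := ho.isOfFinOrder_param h hf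
      (ho.sted_step h hf hp'.1 hS hη hη0 (one_mem k) one_ne_zero)
    have h3 := h2.mul (SubfieldStep.isOfFinOrder_inv₀ h1)
    have hc2 : c ^ 2 ≠ 0 := pow_ne_zero _ hS.1
    rwa [show -(c ^ 2 * (1 * η)) * (-(c ^ 2 * 1))⁻¹ = η by
      rw [one_mul, mul_one, inv_neg, neg_mul_neg, mul_comm (c ^ 2) η, mul_inv_cancel_right₀ hc2]] at h3
  obtain ⟨F, hFfin, hkF, hcF, hηF, hFmin⟩ := SubfieldStep.exists_field p k hcfin hηfin
  have hpab := hp'.1
  simp only [Tab.chkDir, Bool.and_eq_true, decide_eq_true_eq, List.isEmpty_iff] at hpab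
  obtain ⟨⟨⟨⟨⟨⟨⟨⟨ha, hb⟩, hab, hat, hbt⟩, eab⟩, e0b⟩, etd⟩, eb0⟩, -⟩, ebd⟩ := hpab
  obtain ⟨ha1, ha2⟩ := inQ_lt ha
  obtain ⟨hb1, hb2⟩ := inQ_lt hb
  set d := T.neg a with hd0
  have hd : d < T.half := by
    by_contra hh
    have := (h.half_le_neg_iff ha2).1 (not_lt.1 hh)
    omega
  have hdn : d < T.n := Cert.neg_lt (T := T) ha2
  have hcdb : ∀ x y : K, Commute (X D b x) (X D d y) := fun x y =>
    h.commute_of_nil hb2 hdn (by omega)
      (fun e => hab (by rw [← Cert.neg_neg (T := T) ha2, ← hd0, e, Cert.neg_neg (T := T) hb2])) ebd x y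
  have hdt : d ≠ T.neg T.top := fun e => hat (by
    rw [← Cert.neg_neg (T := T) ha2, ← hd0, e, ht3, ht7])
  have hbneg : b ≠ T.neg 0 := fun e => hbt (e.trans ht7)
  have hbtop : ∀ x y : K, Commute (X D b x) (X D T.top y) := h.pos_commute_top hf hb1 hb2
  -- the module
  set N := gen D K {r | r = b ∨ r = d} with hN
  have hNb : ∀ x : K, X D b x ∈ N := fun x => X_mem_gen D (Or.inl rfl) x
  have hNd : ∀ x : K, X D d x ∈ N := fun x => X_mem_gen D (Or.inr rfl) x
  have hnorm : ∀ r, r = T.top ∨ r = 0 → ∀ t : K,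
      X D r t ∈ Subgroup.normalizer (N : Set (GL D.Idx K)) := by
    intro r hr t
    have hrn : r < T.n := by rcases hr with rfl | rfl <;> assumption
    refine (le_normalizer_closure (H := gen D K {r}) ?_) (X_mem_gen D (Set.mem_singleton r) t)
    rintro x hx _ ⟨s, hs, v, rfl⟩
    obtain ⟨u, rfl⟩ := (h.gen_singleton hrn).1 hx
    rcases hr with rfl | rfl <;> rcases hs with rfl | rfl
    · rw [← (hbtop v u).eq, mul_inv_cancel_right]; exact hNb v
    · rw [h.conj_of_one ht2 hdn (by omega) hdt etd u v]; exact mul_mem (hNd v) (hNb _)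
    · rw [h.conj_of_one ht6 hb2 (by omega) hbneg e0b u v]; exact mul_mem (hNb v) (hNd _)
    · rw [← (h.neg_commute_zero hf hd v u).eq, mul_inv_cancel_right]; exact hNd v
  have hNform : ∀ n ∈ N, ∃ α β : K, n = X D b α * X D d β := by
    intro n hn
    induction hn using Subgroup.closure_induction with
    | mem g hg =>
      obtain ⟨r, hr, v, rfl⟩ := hg
      rcases hr with rfl | rfl
      · exact ⟨v, 0, by rw [h.X_zero hdn, mul_one]⟩
      · exact ⟨0, v, by rw [h.X_zero hb2, one_mul]⟩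
    | one => exact ⟨0, 0, by rw [h.X_zero hb2, h.X_zero hdn, one_mul]⟩
    | mul x y _ _ hx hy =>
      obtain ⟨α, β, rfl⟩ := hx
      obtain ⟨α', β', rfl⟩ := hy
      refine ⟨α + α', β + β', ?_⟩
      rw [← h.X_add hb2, ← h.X_add hdn, mul_assoc, ← mul_assoc (X D d β), ← (hcdb α' β).eq]
      simp only [mul_assoc]
    | inv x _ hx =>
      obtain ⟨α, β, rfl⟩ := hx
      exact ⟨-α, -β, by rw [_root_.mul_inv_rev, h.X_inv hb2, h.X_inv hdn, ← (hcdb (-α) (-β)).eq]⟩
  -- conjugating by q
  have hqb : ∀ w : K, q * X D b w * q⁻¹ = X D b w * X D T.top (-(w * η)) := by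
    intro w
    rw [mul_inv_eq_iff_eq_mul, mul_assoc, ← (h.Qgrp_commute_top hf hS.2.1 _).eq, ← mul_assoc, hη w,
      mul_assoc, h.X_add ht2, add_neg_cancel, h.X_zero ht2, mul_one]
  have hqt : ∀ x : K, q * X D T.top x * q⁻¹ = X D T.top x := fun x => by
    rw [(h.Qgrp_commute_top hf hS.2.1 x).eq, mul_inv_cancel_right]
  have hqtb : ∀ x w : K,
      q * (X D T.top x * X D b w) * q⁻¹ = X D T.top (x - w * η) * X D b w := by
    intro x w
    rw [show q * (X D T.top x * X D b w) * q⁻¹ =
      (q * X D T.top x * q⁻¹) * (q * X D b w * q⁻¹) by group, hqt, hqb, (hbtop w _).eq, ← mul_assoc,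
      h.X_add ht2, sub_eq_add_neg]
  have keyb : ∀ x w : K, q * (X D T.top x * X D b w) * q⁻¹ ∈ H → w ∈ k ∧ x - w * η ∈ k := by
    intro x w hm
    rw [hqtb] at hm
    have h0 : Brk D T a (X D T.top (x - w * η)) 0 := fun t => by
      rw [mul_zero, h.X_zero ht2, mul_one]
      exact (h.pos_commute_top hf ha1 ha2 t (x - w * η)).eq
    have h1 := ho.brk_mem h hf ha2 hm (Cert.Brk.mul' h hf ha (X_mem_gen D hb _) h0
      (Cert.Brk.pair h hf ha hb (Ne.symm hab) (one_spec (K := K) eab).1 w))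
    have hw : w ∈ k := by
      rcases (one_spec (K := K) eab).2 with e | e <;> rw [e] at h1 <;> simpa using h1
    refine ⟨hw, ho.param _ ?_⟩
    have h2 := mul_mem hm (inv_mem (ho.X_mem h hb2 hw))
    rwa [mul_inv_cancel_right] at h2
  -- the parameters of the upper transvections
  let W : AddSubgroup F :=
    { carrier := {w | ∃ x ∈ k, ∃ y ∈ k, (w : K) = x + y * η}
      zero_mem' := ⟨0, zero_mem k, 0, zero_mem k, by simp⟩
      add_mem' := by
        rintro w w' ⟨x, hx, y, hy, e⟩ ⟨x', hx', y', hy', e'⟩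
        exact ⟨x + x', add_mem hx hx', y + y', add_mem hy hy', by push_cast; rw [e, e']; ring⟩
      neg_mem' := by
        rintro w ⟨x, hx, y, hy, e⟩
        exact ⟨-x, neg_mem hx, -y, neg_mem hy, by push_cast; rw [e]; ring⟩ }
  have hWk : ∀ x ∈ k, ∀ y ∈ k, ∃ w ∈ W, (w : K) = x + y * η := fun x hx y hy =>
    ⟨⟨x + y * η, add_mem (hkF hx) (mul_mem (hkF hy) hηF)⟩, ⟨x, hx, y, hy, rfl⟩, rfl⟩
  haveI := hFfin
  have hW : ∀ w ∈ W, ∃ n ∈ N, q * (X D T.top (w : K) * n) * q⁻¹ ∈ H := by
    rintro w ⟨x, hx, y, hy, e⟩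
    refine ⟨X D b y, hNb y, ?_⟩
    rw [e, hqtb, show x + y * η - y * η = x by ring]
    exact mul_mem (ho.X_mem h ht2 hx) (ho.X_mem h hb2 hy)
  have hgen : ∀ L : Subfield F, (∀ w ∈ W, (⟨c, hcF⟩ : F) * w ∈ L) → L = ⊤ := by
    intro L hL
    have hmul : ∀ x ∈ k, ∀ y ∈ k, c * (x + y * η) ∈ L.map F.subtype := fun x hx y hy => by
      obtain ⟨w, hw, e⟩ := hWk x hx y hy
      exact Subfield.mem_map.2 ⟨_, hL w hw, by rw [← e]; rfl⟩
    have hcL : c ∈ L.map F.subtype := by simpa using hmul 1 (one_mem k) 0 (zero_mem k)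
    have hle : F ≤ L.map F.subtype := hFmin _
      (fun t ht => by
        have h2 := mul_mem (inv_mem hcL) (hmul t ht 0 (zero_mem k))
        rwa [zero_mul, add_zero, inv_mul_cancel_left₀ hS.1] at h2)
      hcL (by
        have h2 := mul_mem (inv_mem hcL) (hmul 0 (zero_mem k) 1 (one_mem k))
        rwa [zero_add, one_mul, inv_mul_cancel_left₀ hS.1] at h2)
    refine eq_top_iff.2 fun z _ => ?_
    obtain ⟨z', hz', ez⟩ := Subfield.mem_map.1 (hle z.2)
    exact (F.subtype.injective ez : z' = z) ▸ hz'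
  have hplane := ho.exists_plane_elem h hf (q := q) N (hnorm _ (Or.inl rfl)) (hnorm _ (Or.inr rfl))
    W hW (μ := ⟨c, hcF⟩) (fun e => hS.1 (congrArg Subtype.val e)) hS.2.2
    (SubfieldStep.card_cases hηk W hWk) hgen
  -- the field is spanned by two elements
  have hspan : ∀ z : F, ∃ v : k × k, (z : K) = v.1 + v.2 * η := by
    intro z
    obtain ⟨n, hn, hm⟩ := hplane z
    obtain ⟨α, β, rfl⟩ := hNform n hn
    set g := X D T.top (z : K) * (X D b α * X D d β)
    set w' := (T.coef T.top d : K) * η * β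
    have hP : q * (X D b (1 : K) * X D T.top η) * q⁻¹ ∈ H := by
      rw [(hbtop 1 η).eq, hqtb, one_mul, sub_self, h.X_zero ht2, one_mul]
      exact ho.X_mem h hb2 (one_mem k)
    have e3 : X D d β * X D T.top η = X D b (-w') * X D T.top η * X D d β := by
      have e0 : X D T.top η * X D d β * (X D T.top η)⁻¹ = X D d β * X D b w' :=
        h.conj_of_one ht2 hdn (by omega) hdt etd η β
      rw [mul_assoc (X D b (-w')), mul_inv_eq_iff_eq_mul.1 e0, ← mul_assoc, ← mul_assoc,
        (hcdb (-w') β).eq, mul_assoc (X D d β), h.X_add hb2, neg_add_cancel, h.X_zero hb2, mul_one]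
    have e4 : g * (X D b (1 : K) * X D T.top η) * g⁻¹ * (X D b (1 : K) * X D T.top η)⁻¹ =
        X D b (-w') := by
      have cb : ∀ x y : K, Commute (X D b x) (X D b y) := fun x y => by
        show X D b x * X D b y = X D b y * X D b x
        rw [h.X_add hb2, h.X_add hb2, add_comm]
      have ct : ∀ x y : K, Commute (X D T.top x) (X D T.top y) := fun x y => by
        show X D T.top x * X D T.top y = X D T.top y * X D T.top x
        rw [h.X_add ht2, h.X_add ht2, add_comm]
      have e5 : g * (X D b (1 : K) * X D T.top η) =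
          X D b (-w') * (X D b (1 : K) * X D T.top η) * g := by
        have cP : Commute (X D T.top (z : K) * X D b α) (X D b (-w') * (X D b (1 : K) * X D T.top η)) := by
          refine Commute.mul_left ?_ ?_
          · exact (hbtop _ _).symm.mul_right ((hbtop _ _).symm.mul_right (ct _ _))
          · exact (cb _ _).mul_right ((cb _ _).mul_right (hbtop _ _))
        calc g * (X D b (1 : K) * X D T.top η)
            = X D T.top (z : K) * X D b α * ((X D d β * X D b 1) * X D T.top η) := by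
              simp only [g, mul_assoc]
          _ = X D T.top (z : K) * X D b α * (X D b 1 * (X D d β * X D T.top η)) := by
              rw [← (hcdb 1 β).eq]; simp only [mul_assoc]
          _ = X D T.top (z : K) * X D b α * (X D b (-w') * (X D b 1 * X D T.top η)) * X D d β := by
              rw [e3, ← mul_assoc (X D b 1), ← mul_assoc (X D b 1), (cb 1 (-w')).eq]
              simp only [mul_assoc]
          _ = X D b (-w') * (X D b (1 : K) * X D T.top η) * g := by
              rw [cP.eq]; simp only [g, mul_assoc]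
      rw [e5, mul_inv_cancel_right, mul_inv_cancel_right]
    have hz : q * (X D T.top (0 : K) * X D b (-w')) * q⁻¹ ∈ H := by
      have := mul_mem (mul_mem (mul_mem hm hP) (inv_mem hm)) (inv_mem hP)
      rw [h.X_zero ht2, one_mul, ← e4]
      rwa [show q * g * q⁻¹ * (q * (X D b (1 : K) * X D T.top η) * q⁻¹) * (q * g * q⁻¹)⁻¹ *
        (q * (X D b (1 : K) * X D T.top η) * q⁻¹)⁻¹ = q * (g * (X D b (1 : K) * X D T.top η) * g⁻¹ *
          (X D b (1 : K) * X D T.top η)⁻¹) * q⁻¹ by group] at this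
    obtain ⟨hw1, hw2⟩ := keyb 0 (-w') hz
    rw [zero_sub, neg_mem_iff] at hw2
    have hw0 : w' = 0 := by
      by_contra hne
      refine hηk ?_
      have h2 := mul_mem (inv_mem hw1) hw2
      rwa [← mul_assoc, inv_mul_cancel₀ (neg_ne_zero.2 hne), one_mul] at h2
    have hβ : β = 0 := by
      rcases mul_eq_zero.1 hw0 with e | e
      · rcases mul_eq_zero.1 e with e | e
        · rcases (one_spec (K := K) etd).2 with u | u <;> rw [u] at e <;> simp at e
        · exact absurd e hη0
      · exact e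
    simp only [g, hβ, h.X_zero hdn, mul_one] at hm
    obtain ⟨hα, hlam⟩ := keyb _ _ hm
    exact ⟨(⟨_, hlam⟩, ⟨_, hα⟩), by show (z : K) = (z : K) - α * η + α * η; ring⟩
  refine ⟨F, ⟨hkF, hFfin, Nat.prime_two, ?_⟩, hcF, hηF⟩
  choose v hv using hspan
  have hup : Nat.card F ≤ Nat.card k ^ 2 := by
    rw [pow_two, ← Nat.card_prod]
    exact Nat.card_le_card_of_injective v fun z z' e => Subtype.ext (by rw [hv, hv z', e])
  refine le_antisymm hup ?_
  have h1 := SubfieldStep.sq_card_le hηk W hWk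
  exact h1.trans (Nat.card_le_card_of_injective _ Subtype.val_injective)

/-- In a finite group the parameters are in the subfield, unless it has two elements. -/
theorem pair_param_fin {a b : ℕ} (hp : T.chkFrPair a b = true) (hk2 : Nat.card k ≠ 2) {c : K}
    {q : GL D.Idx K} (hS : Sted D T H c q) : c ∈ k := by
  by_contra hc
  have hp' := hp
  simp only [Tab.chkFrPair, Bool.and_eq_true] at hp'
  have hpba : T.chkFrPair b a = true := by simp [Tab.chkFrPair, hp'.1, hp'.2]
  have hd := hp'.1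
  simp only [Tab.chkDir, Bool.and_eq_true, decide_eq_true_eq] at hd
  obtain ⟨⟨⟨⟨⟨⟨⟨⟨ha, hb⟩, -⟩, eab⟩, e0b⟩, -⟩, eb0⟩, -⟩, -⟩ := hd
  obtain ⟨ρ, hρ⟩ := h.exists_Brk hf ha hS.2.1
  obtain ⟨η, hη⟩ := h.exists_Brk hf hb hS.2.1
  obtain ⟨F, hF, hcF, hηF⟩ := ho.pair_plane h hf p hp hS hc hη
  obtain ⟨F', hF', hcF', hρF'⟩ := ho.pair_plane h hf p hpba hS hc hρ
  have hρF : ρ ∈ F := hF'.le_of_mem hF hc hcF' hcF hρF'
  haveI := hF.finite
  have hε : ∀ x y z : ℤ, (((-((x : F) * y * z) : F)) : K) = -((x : K) * y * z) := fun x y z => by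
    push_cast; rfl
  have hM := (ho.pair_moves h hf hp).restrict F _ (hε (T.coef a b) (T.coef 0 b) (T.coef b 0))
  have hPF : Over.PairP (D := D) (T := T) (H := H) a b ((⟨c, hcF⟩ : F) : K) ((⟨ρ, hρF⟩ : F) : K)
      ((⟨η, hηF⟩ : F) : K) := ⟨q, hS, hρ, hη⟩
  refine hc ?_
  show (⟨c, hcF⟩ : F) ∈ k.comap F.subtype
  have hunit : ∀ {r s w : ℕ}, T.one r s w = true → ((T.coef r s : ℤ) : F) = 1 ∨ ((T.coef r s : ℤ) : F) = -1 :=
    fun e => (one_spec (K := F) e).2
  by_cases h2 : (2 : F) = 0
  · have : CharP F 2 := CharTwo.of_one_ne_zero_of_two_eq_zero one_ne_zero h2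
    have e1 : -((T.coef a b : F) * (T.coef 0 b : F) * (T.coef b 0 : F)) = 1 := by
      rcases hunit eab with x | x <;> rw [x] <;>
        rcases hunit e0b with y | y <;> rw [y] <;>
          rcases hunit eb0 with z | z <;> rw [z] <;> simp [CharTwo.neg_eq]
    rw [e1] at hM
    exact hM.mem_of_charTwo (Or.inl rfl) hF.hmax hF.prime hF.card_comap
      (Or.inr (Or.inl (by rwa [SubfieldStep.card_comap_subtype hF.le]))) hPF
  · refine hM.mem_of_two_ne_zero ?_ (Or.inl rfl) hF.hmax h2 hPF
    rcases hunit eab with x | x <;> rw [x] <;>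
      rcases hunit e0b with y | y <;> rw [y] <;>
        rcases hunit eb0 with z | z <;> rw [z] <;> simp

/-- Over the field with two elements the exceptional rule holds. -/
theorem fourRule_fin (hk2 : Nat.card k = 2) : FourRule D T k H := by
  refine ⟨SubfieldStep.two_eq_zero_of_card hk2, fun a b hab c q v hS hck hv => ?_⟩
  have hp' := hab
  simp only [Tab.chkFrPair, Bool.and_eq_true] at hp'
  obtain ⟨F, hF, hcF, hvF⟩ :=
    ho.pair_plane h hf p (a := b) (b := a) (by simp [Tab.chkFrPair, hp'.1, hp'.2]) hS hck hv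
  haveI := hF.finite
  have key : ∀ x : K, ∀ hx : x ∈ F, x ∉ k → x ^ 2 + x + 1 = 0 := by
    intro x hx hxk
    have h1 := SubfieldStep.root_of_four (x := (⟨x, hx⟩ : F)) hF.card_comap
      ((SubfieldStep.card_comap_subtype hF.le).trans hk2) hxk
    have h2 := congrArg F.subtype h1
    simp only [map_add, map_pow, map_one, map_zero] at h2
    exact h2
  exact ⟨key c hcF hck, key v hvF fun hvk => hck (ho.mem_of_brk_mem h hf hab hS hv hvk)⟩

end Over

end CfsgLib.Chev
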