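import Cfsg.Agent.Lib.Chev.SubfieldPair

/-!
With all parameters at the lowest root in the subfield, the frame element is fixed by the automorphism.

The brackets of long roots are transferred by simple reflections fixing the highest root; they determine the long
coordinates. The short coordinates are reached by a move with a root element of the Levi part.
-/

set_option autoImplicit false
set_option maxRecDepth 100000

namespace CfsgLib.Chev

open Cfsg.Lie Matrix

namespace Tab

variable (T : Tab)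

/-- One step of the orbit under the listed simple reflections. -/
def orbStepWith (is : List ℕ) (seen : ℕ) : ℕ :=
  (List.range T.n).foldl (fun acc r => if acc.testBit r then
    is.foldl (fun acc i => acc ||| 2 ^ T.refl i r) acc else acc) seen

/-- Several steps of the orbit. -/
def orbWith (is : List ℕ) : ℕ → ℕ → ℕ
  | 0, seen => seen
  | k + 1, seen => orbWith is k (orbStepWith T is seen)

/-- The simple reflections fixing the highest root. -/
def levIdx : List ℕ := (List.range T.l).filter fun i => decide (T.refl i T.top = T.top)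

/-- The roots of `Q`. -/
def qList : List ℕ := (List.range T.n).filter fun r => T.inQ r

/-- The orbit of the seeds under the reflections fixing the highest root. -/
def levOrb (k a b : ℕ) : ℕ := T.orbWith T.levIdx k (2 ^ a ||| 2 ^ b)

/-- These reflections fix the lowest root and keep `Q`. -/
def chkLev : Bool :=
  T.levIdx.all fun i => decide (T.refl i 0 = 0) && T.qList.all fun r => T.inQ (T.refl i r)

/-- Each root of `Q` outside `S`, apart from the highest, has a partner in the orbit `O`. -/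
def chkPartner (O : ℕ) (S : List ℕ) : Bool :=
  T.qList.all fun δ => decide (δ = T.top) || decide (δ ∈ S) ||
    T.qList.any fun γ => O.testBit γ && decide ((T.coef γ δ).natAbs = 1) &&
      decide (T.coef γ γ = 0) &&
      T.qList.all fun δ' => decide (δ' = δ) || decide (T.coef γ δ' = 0)

/-- The linear form of the bracket of `γs` on a conjugate by `x_δ(1)`. -/
def linForm (δ γs r : ℕ) : ℤ :=
  T.coef γs r + ((T.commTerms δ r).map fun q => q.2.1 * T.coef γs q.1).sum

/-- Conjugation by `x_δ(1)` keeps the frame, with brackets at `γs` to be read off. -/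
def chkLevMove (δ γs : ℕ) : Bool :=
  decide (δ < T.n) && !T.inQ δ && decide (δ ≠ 0) && decide (δ ≠ T.top) && (T.commTerms δ 0).isEmpty &&
    T.inQ γs && decide (T.coef γs γs = 0) &&
    T.qList.all fun r => decide (r ≠ T.neg δ) &&
      (T.commTerms δ r).all fun q => T.inQ q.1 && decide (0 < q.2.2.2)

/-- The bracket at `γs` is linear in the coordinate at `r`. -/
def linOK (δ γs r : ℕ) : Bool :=
  (T.commTerms δ r).all fun q => decide (T.coef γs q.1 = 0 ∨ q.2.2.2 = 1)

/-- For each short root of `Q` a move making its coordinate a bracket. -/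
def chkLinear (O : ℕ) (S : List ℕ) (c : ℕ) : Bool :=
  S.all fun γ => T.inQ γ && (List.range T.n).any fun δ =>
    T.qList.any fun γs => O.testBit γs && T.chkLevMove δ γs && decide ((T.linForm δ γs γ).natAbs = c) &&
      T.qList.all fun r => (!(decide (r ∈ S) || decide (r = T.top)) ||
        (T.linOK δ γs r && (decide (r = γ) || decide (T.linForm δ γs r = 0))))

/-- The induction along an orbit. -/
lemma orbWith_induction {is : List ℕ} {P : ℕ → Prop} (hstep : ∀ i ∈ is, ∀ r, P r → P (T.refl i r)) :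
    ∀ (k seen : ℕ), (∀ r, seen.testBit r = true → P r) →
      ∀ r, (T.orbWith is k seen).testBit r = true → P r := by
  intro k
  induction k with
  | zero => intro seen hs r hr; exact hs r hr
  | succ k ih =>
    intro seen hs r hr
    refine ih (T.orbStepWith is seen) ?_ r hr
    unfold Tab.orbStepWith
    generalize List.range T.n = L
    clear hr
    induction L generalizing seen with
    | nil => exact hs
    | cons a L ihL =>
      rw [List.foldl_cons]
      refine ihL _ ?_
      split_ifs with ha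
      · have : ∀ (M : List ℕ), (∀ i ∈ M, i ∈ is) → ∀ acc : ℕ, (∀ r, acc.testBit r = true → P r) →
            ∀ r, (M.foldl (fun acc i => acc ||| 2 ^ T.refl i a) acc).testBit r = true → P r := by
          intro M
          induction M with
          | nil => exact fun _ _ h => h
          | cons j M ihM =>
            intro hM acc hacc
            rw [List.foldl_cons]
            refine ihM (fun j hj => hM j (List.mem_cons_of_mem _ hj)) _ fun r hr => ?_
            rw [Nat.testBit_or, Bool.or_eq_true, Nat.testBit_two_pow, decide_eq_true_eq] at hr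
            rcases hr with hr | rfl
            · exact hacc r hr
            · exact hstep j (hM j List.mem_cons_self) a (hs a ha)
        exact this is (fun _ hi => hi) seen hs
      · exact hs

end Tab

namespace Cert

variable {D : ChevalleyDatum} {T : Tab} {C : Tab.Cover} (h : Cert D T C) {K : Type*} [Field K]
include h

omit h in
lemma mem_qList {r : ℕ} : r ∈ T.qList ↔ T.inQ r = true := by
  simp only [Tab.qList, List.mem_filter, List.mem_range, and_iff_right_iff_imp]
  exact fun hr => (inQ_lt hr).2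

omit h in
lemma qList_set : {r | r ∈ T.qList} = {r | T.inQ r = true} := Set.ext fun _ => mem_qList

omit h in
lemma sortedLT_qList : T.qList.SortedLT :=
  ((List.sortedLT_range T.n).pairwise.filter _).sortedLT

/-- A product with one nonzero parameter. -/
lemma prodX_single : ∀ (L : List ℕ), L.Nodup → (∀ s ∈ L, s < T.n) → ∀ (t : ℕ → K) {r : ℕ}, r ∈ L →
    (∀ s ∈ L, s ≠ r → t s = 0) → prodX D L t = X D r (t r) := by
  intro L
  induction L with
  | nil => intro _ _ _ r hr; cases hr
  | cons a L ih =>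
    intro hnd hlt t r hr h0
    rw [List.nodup_cons] at hnd
    have hlt' : ∀ s ∈ L, s < T.n := fun s hs => hlt s (List.mem_cons_of_mem _ hs)
    simp only [prodX, List.map_cons, List.prod_cons]
    rcases List.mem_cons.1 hr with rfl | hr'
    · rw [List.prod_eq_one, mul_one]
      intro g hg
      obtain ⟨s, hs, rfl⟩ := List.mem_map.1 hg
      rw [h0 s (List.mem_cons_of_mem _ hs) (fun e => hnd.1 (e ▸ hs)), h.X_zero (hlt' s hs)]
    · rw [h0 a List.mem_cons_self (fun e => hnd.1 (e ▸ hr')), h.X_zero (hlt a List.mem_cons_self),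
        one_mul]
      exact ih hnd.2 hlt' t hr' fun s hs => h0 s (List.mem_cons_of_mem _ hs)

variable (hf : T.chkFrame = true)
include hf

lemma exists_prodX_Qgrp {q : GL D.Idx K} (hq : q ∈ Qgrp D T K) :
    ∃ t : ℕ → K, q = prodX D T.qList t := by
  refine h.exists_prodX _ sortedLT_qList (fun r hr => inQ_lt (mem_qList.1 hr)) ?_ q ?_
  · intro r hr s hs hne q hq'
    rw [Set.mem_setOf_eq, mem_qList] at hr hs ⊢
    have htop := top_inQ hf
    simp only [Tab.chkFrame, Bool.and_eq_true, Bool.or_eq_true, List.all_eq_true, List.mem_range,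
      decide_eq_true_eq, List.isEmpty_iff] at hf
    rcases (hf.2 r (inQ_lt hr).2).2 with c | c
    · simp [hr] at c
    rcases c s (inQ_lt hs).2 with (c | c) | c
    · simp [hs] at c
    · exact absurd c.symm hne
    · rw [(c q hq').1]; exact htop
  · rwa [qList_set]

omit h hf in
lemma prodX_mem_Qgrp (t : ℕ → K) : prodX D T.qList t ∈ Qgrp D T K := by
  have := prodX_mem_gen (D := D) T.qList t
  rwa [qList_set] at this

/-- The bracket on a root element, by the coefficient. -/
lemma Brk_coef {a γ : ℕ} (ha : T.inQ a = true) (hγ : T.inQ γ = true) (h0 : T.coef a a = 0) (u : K) :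
    Brk D T a (X D γ u) (u * (T.coef a γ : K)) := by
  by_cases hne : γ = a
  · subst hne
    intro x
    rw [h0, Int.cast_zero, mul_zero, mul_zero, h.X_zero (h.frame_top hf).2.1, mul_one,
      h.X_add (inQ_lt ha).2, h.X_add (inQ_lt ha).2, add_comm]
  · have := h.Brk_X hf ha hγ hne u
    rwa [show ((T.coef a γ : ℤ) : K) = ((T.commTerms a γ).map fun c => (c.2.1 : K)).sum by
      rw [Tab.coef, Int.cast_list_sum, List.map_map]; rfl]

/-- Brackets of products. -/
lemma Brk.prod' {ι : Type*} {a : ℕ} (ha : T.inQ a = true) (f : ι → GL D.Idx K) (v : ι → K) :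
    ∀ L : List ι, (∀ i ∈ L, f i ∈ Qgrp D T K ∧ Brk D T a (f i) (v i)) →
      (L.map f).prod ∈ Qgrp D T K ∧ Brk D T a (L.map f).prod (L.map v).sum := by
  intro L
  induction L with
  | nil => intro _; exact ⟨one_mem _, by simpa using Brk.one' h hf a⟩
  | cons i L ih =>
    intro hL
    obtain ⟨h1, h2⟩ := hL i List.mem_cons_self
    obtain ⟨h3, h4⟩ := ih fun j hj => hL j (List.mem_cons_of_mem _ hj)
    simp only [List.map_cons, List.prod_cons, List.sum_cons]
    exact ⟨mul_mem h1 h3, Brk.mul' h hf ha h3 h2 h4⟩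

/-- The bracket of an ordered product. -/
lemma Brk_prodX {a : ℕ} (ha : T.inQ a = true) (h0 : T.coef a a = 0) (t : ℕ → K) :
    Brk D T a (prodX D T.qList t) ((T.qList.map fun r => t r * (T.coef a r : K)).sum) :=
  (Brk.prod' h hf ha (fun r => X D r (t r)) (fun r => t r * (T.coef a r : K)) T.qList fun r hr =>
    ⟨X_mem_gen D (mem_qList.1 hr) _, h.Brk_coef hf ha (mem_qList.1 hr) h0 _⟩).2

omit h hf in
lemma sum_single_of_zero {L : List ℕ} (hnd : L.Nodup) {d : ℕ} (hd : d ∈ L) (f : ℕ → K)
    (h0 : ∀ s ∈ L, s ≠ d → f s = 0) : (L.map f).sum = f d := by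
  induction L with
  | nil => cases hd
  | cons a L ih =>
    rw [List.nodup_cons] at hnd
    rw [List.map_cons, List.sum_cons]
    rcases List.mem_cons.1 hd with rfl | hd'
    · rw [List.sum_eq_zero, add_zero]
      intro x hx
      obtain ⟨s, hs, rfl⟩ := List.mem_map.1 hx
      exact h0 s (List.mem_cons_of_mem _ hs) fun e => hnd.1 (e ▸ hs)
    · rw [h0 a List.mem_cons_self (fun e => hnd.1 (e ▸ hd')), zero_add]
      exact ih hnd.2 hd' fun s hs => h0 s (List.mem_cons_of_mem _ hs)

end Cert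

/-- All brackets at `γ` of frame elements lie in the subfield. -/
def BrkRat (D : ChevalleyDatum) (T : Tab) {K : Type*} [Field K] (k : Subfield K)
    (H : Subgroup (GL D.Idx K)) (γ : ℕ) : Prop :=
  T.inQ γ = true ∧ ∀ c q v, Sted D T H c q → Brk D T γ q v → v ∈ k

namespace Over

open Cert (inQ_lt one_spec mem_qList prodX_mem_Qgrp sortedLT_qList sum_single_of_zero top_inQ)

variable {D : ChevalleyDatum} {T : Tab} {C : Tab.Cover} {K : Type*} [Field K] {σ : K →+* K}
  {k : Subfield K} {H : Subgroup (GL D.Idx K)} (ho : Over D T σ k H) (h : Cert D T C)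
  (hf : T.chkFrame = true)
include ho h hf

/-- Conjugating by elements of `H` commuting with the lowest root element. -/
lemma sted_conj {c : K} {q g : GL D.Idx K} (hS : Sted D T H c q) (hg : g ∈ H)
    (hgq : g * q * g⁻¹ ∈ Qgrp D T K) (hc : Commute g (X D 0 c)) : Sted D T H c (g * q * g⁻¹) := by
  refine ⟨hS.1, hgq, ?_⟩
  have h1 := mul_mem (mul_mem hg hS.2.2) (inv_mem hg)
  have h2 : g⁻¹ * X D 0 c * g = X D 0 c := by
    rw [mul_assoc, ← hc.eq, inv_mul_cancel_left]
  rwa [show g * q * g⁻¹ * X D 0 c * (g * q * g⁻¹)⁻¹ = g * (q * (g⁻¹ * X D 0 c * g) * q⁻¹) * g⁻¹ by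
    group, h2]

/-- The property passes along the reflections fixing the highest root. -/
lemma brkRat_refl (hl : T.chkLev = true) {i γ : ℕ} (hi : i ∈ T.levIdx)
    (hR : BrkRat D T k H γ) : BrkRat D T k H (T.refl i γ) := by
  obtain ⟨ht1, ht2, ht3, ht4, ht5, ht6, ht7⟩ := h.frame_top hf
  simp only [Tab.chkLev, List.all_eq_true, Bool.and_eq_true, decide_eq_true_eq] at hl
  obtain ⟨hl0, hlQ⟩ := hl i hi
  simp only [Tab.levIdx, List.mem_filter, List.mem_range, decide_eq_true_eq] at hi
  obtain ⟨hil, hit⟩ := hi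
  have hγn := (inQ_lt hR.1).2
  refine ⟨hlQ γ (mem_qList.2 hR.1), fun c q v hS hv => ?_⟩
  set n := nS D K i with hn
  have hnH : n ∈ H := ho.nS_mem h hil
  have hQ : n * q * n⁻¹ ∈ Qgrp D T K := by
    refine Cert.conj_gen_le (fun r hr => ⟨T.refl i r, hlQ r (mem_qList.2 hr), ?_⟩) hS.2.1
    exact h.Maps_nS hil (inQ_lt hr).2
  have e0 := h.nS_conj_X (F := K) hil ht6 c
  rw [hl0, ← hn] at e0
  have hS' : Sted D T H ((T.eta i 0 : K) * c) (n * q * n⁻¹) := by
    refine ⟨mul_ne_zero ?_ hS.1, hQ, ?_⟩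
    · rcases T.eta_cases i 0 with e | e <;> simp [e]
    · rw [← e0]
      have := mul_mem (mul_mem hnH hS.2.2) (inv_mem hnH)
      rwa [show n * q * n⁻¹ * (n * X D 0 c * n⁻¹) * (n * q * n⁻¹)⁻¹ =
        n * (q * X D 0 c * q⁻¹) * n⁻¹ by group]
  obtain ⟨w, hw⟩ := h.exists_Brk hf hR.1 hQ
  have hwk := hR.2 _ _ _ hS' hw
  set e1 := (T.eta i (T.refl i γ) : K) with he1
  set e2 := (T.eta i T.top : K) with he2
  have he1sq : e1 * e1 = 1 := by rw [he1, ← Int.cast_mul, T.eta_sq, Int.cast_one]
  have he2sq : e2 * e2 = 1 := by rw [he2, ← Int.cast_mul, T.eta_sq, Int.cast_one]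
  have key : Brk D T γ (n * q * n⁻¹) (e2 * (e1 * v)) := by
    intro x
    have e1' := h.nS_conj_X (F := K) hil (h.refl_lt hil hγn) (e1 * x)
    rw [h.refl_refl hil hγn, ← he1, ← mul_assoc, he1sq, one_mul, ← hn] at e1'
    have e2' := h.nS_conj_X (F := K) hil ht2 (e1 * x * v)
    rw [hit, ← he2, ← hn] at e2'
    calc X D γ x * (n * q * n⁻¹)
        = n * (X D (T.refl i γ) (e1 * x) * q) * n⁻¹ := by rw [← e1']; group
      _ = n * (q * X D (T.refl i γ) (e1 * x) * X D T.top (e1 * x * v)) * n⁻¹ := by rw [hv]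
      _ = n * q * n⁻¹ * (n * X D (T.refl i γ) (e1 * x) * n⁻¹) *
            (n * X D T.top (e1 * x * v) * n⁻¹) := by group
      _ = _ := by rw [e1', e2']; congr 2; ring
  have hv' := Cert.Brk.uniq h hf key hw
  have hsign : ∀ z : ℤ, (z : K) ∈ k := fun z => intCast_mem k z
  have : v = e1 * (e2 * w) := by
    rw [← hv', ← mul_assoc e2 e2, he2sq, one_mul, ← mul_assoc, he1sq, one_mul]
  rw [this, he1, he2]
  exact mul_mem (hsign _) (mul_mem (hsign _) hwk)

/-- The brackets along the orbit of a pair. -/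
lemma brkRat_orbit (hl : T.chkLev = true) {a b : ℕ} (hp : T.chkFrPair a b = true)
    (hall : ∀ c q, Sted D T H c q → c ∈ k) {n γ : ℕ}
    (hγ : (T.levOrb n a b).testBit γ = true) : BrkRat D T k H γ := by
  refine T.orbWith_induction (P := BrkRat D T k H) (fun i hi r hr => ho.brkRat_refl h hf hl hi hr)
    n _ (fun r hr => ?_) γ hγ
  have hp' := hp
  simp only [Tab.chkFrPair, Bool.and_eq_true] at hp'
  have hpab := hp'.1
  simp only [Tab.chkDir, Bool.and_eq_true, decide_eq_true_eq] at hpab
  obtain ⟨⟨⟨⟨⟨⟨⟨⟨ha, hb⟩, -⟩, -⟩, -⟩, -⟩, -⟩, -⟩, -⟩ := hpab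
  rw [Nat.testBit_or, Bool.or_eq_true, Nat.testBit_two_pow, Nat.testBit_two_pow, decide_eq_true_eq,
    decide_eq_true_eq] at hr
  rcases hr with rfl | rfl
  · refine ⟨ha, fun c q v hS hv => ho.pair_brk_mem h hf (a := b) ?_ hall hS hv⟩
    simp [Tab.chkFrPair, hp'.1, hp'.2]
  · exact ⟨hb, fun c q v hS hv => ho.pair_brk_mem h hf hp hall hS hv⟩

/-- The bracket after a move. -/
lemma brk_move {δ γs : ℕ} (hmv : T.chkLevMove δ γs = true) {c : K} {t : ℕ → K}
    (hS : Sted D T H c (prodX D T.qList t))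
    (hlin : ∀ r ∈ T.qList, t r = 0 ∨ T.linOK δ γs r = true) :
    Sted D T H c (X D δ 1 * prodX D T.qList t * (X D δ 1)⁻¹) ∧
      Brk D T γs (X D δ 1 * prodX D T.qList t * (X D δ 1)⁻¹)
        ((T.qList.map fun r => t r * (T.linForm δ γs r : K)).sum) := by
  obtain ⟨ht1, ht2, ht3, ht4, ht5, ht6, ht7⟩ := h.frame_top hf
  simp only [Tab.chkLevMove, List.all_eq_true, Bool.and_eq_true, Bool.not_eq_true', decide_eq_true_eq,
    List.isEmpty_iff] at hmv
  obtain ⟨⟨⟨⟨⟨⟨⟨hδn, hδQ⟩, hδ0⟩, hδt⟩, hδe⟩, hγsQ⟩, h0⟩, hr⟩ := hmv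
  have hδr : ∀ r ∈ T.qList, r ≠ δ ∧ r < T.n := fun r hr' =>
    ⟨fun e => by rw [← e, mem_qList.1 hr'] at hδQ; exact Bool.noConfusion hδQ,
      (inQ_lt (mem_qList.1 hr')).2⟩
  have hgH : X D δ (1 : K) ∈ H := ho.X_mem h hδn (one_mem k)
  have hcomm : Commute (X D δ (1 : K)) (X D 0 c) :=
    h.commute_of_nil hδn ht6 (Ne.symm hδ0)
      (fun e => hδt (by rw [← Cert.neg_neg (T := T) hδn, ← e, ht7])) hδe _ _
  have hfac : ∀ r ∈ T.qList, X D δ 1 * X D r (t r) * (X D δ 1)⁻¹ ∈ Qgrp D T K ∧
      Brk D T γs (X D δ 1 * X D r (t r) * (X D δ 1)⁻¹) (t r * (T.linForm δ γs r : K)) := by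
    intro r hr'
    have h8 := h.X_conj (F := K) hδn (hδr r hr').2 (hδr r hr').1 (hr r hr').1 (-1) (t r)
    rw [_root_.neg_neg, ← h.X_inv hδn] at h8
    rw [h8]
    have h9 := Cert.Brk.prod' h hf hγsQ
      (fun q : ℕ × ℤ × ℕ × ℕ => X D q.1 ((q.2.1 : K) * 1 ^ q.2.2.1 * t r ^ q.2.2.2))
      (fun q => (q.2.1 : K) * 1 ^ q.2.2.1 * t r ^ q.2.2.2 * (T.coef γs q.1 : K))
      (T.commTerms δ r) fun q hq =>
        ⟨X_mem_gen D ((hr r hr').2 q hq).1 _, h.Brk_coef hf hγsQ ((hr r hr').2 q hq).1 h0 _⟩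
    refine ⟨mul_mem (X_mem_gen D (mem_qList.1 hr') _) h9.1, ?_⟩
    have h10 := Cert.Brk.mul' h hf hγsQ h9.1 (h.Brk_coef hf hγsQ (mem_qList.1 hr') h0 (t r)) h9.2
    convert h10 using 1
    rw [Tab.linForm, Int.cast_add, mul_add, Int.cast_list_sum, List.map_map, ← List.sum_map_mul_left]
    congr 2
    refine List.map_congr_left fun q hq => ?_
    simp only [Function.comp, one_pow, mul_one, Int.cast_mul]
    rcases hlin r hr' with e | e
    · rw [e, zero_pow ((hr r hr').2 q hq).2.ne']; ring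
    · simp only [Tab.linOK, List.all_eq_true, decide_eq_true_eq] at e
      rcases e q hq with e | e <;> rw [e] <;> simp
      ring
  obtain ⟨hQ', hB⟩ := Cert.Brk.prod' h hf hγsQ (fun r => X D δ 1 * X D r (t r) * (X D δ 1)⁻¹)
    (fun r => t r * (T.linForm δ γs r : K)) T.qList hfac
  have hprod : (T.qList.map fun r => X D δ 1 * X D r (t r) * (X D δ 1)⁻¹).prod =
      X D δ 1 * prodX D T.qList t * (X D δ 1)⁻¹ := by
    have := (map_list_prod (MulAut.conj (X D δ (1 : K))) (T.qList.map fun r => X D r (t r))).symm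
    simpa [prodX, List.map_map, Function.comp_def, MulAut.conj_apply] using this
  rw [hprod] at hQ' hB
  exact ⟨ho.sted_conj h hf hS hgH hQ' hcomm, hB⟩

variable {O : ℕ} (hO : ∀ γ, O.testBit γ = true → BrkRat D T k H γ)
include hO

/-- Stripping the long coordinates. -/
lemma exists_norm {S : List ℕ} (hpart : T.chkPartner O S = true) {c : K} {q : GL D.Idx K}
    (hS : Sted D T H c q) :
    ∃ x t, x ∈ Qgrp D T K ∧ mapGL D σ x = x ∧ q = x * prodX D T.qList t ∧
      Sted D T H c (prodX D T.qList t) ∧ ∀ r ∈ T.qList, r ∉ S → r ≠ T.top → t r = 0 := by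
  obtain ⟨ht1, ht2, ht3, ht4, ht5, ht6, ht7⟩ := h.frame_top hf
  obtain ⟨t, rfl⟩ := h.exists_prodX_Qgrp hf hS.2.1
  simp only [Tab.chkPartner, List.all_eq_true, Bool.or_eq_true, List.any_eq_true, Bool.and_eq_true,
    decide_eq_true_eq] at hpart
  have hnd : T.qList.Nodup := sortedLT_qList.nodup
  have key : ∀ δ ∈ T.qList, δ ∉ S → δ ≠ T.top → ∃ γ, BrkRat D T k H γ ∧ T.coef γ γ = 0 ∧
      (T.coef γ δ).natAbs = 1 ∧ ∀ t : ℕ → K,
        Brk D T γ (prodX D T.qList t) (t δ * (T.coef γ δ : K)) := by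
    intro δ hδ hδS hδt
    rcases hpart δ hδ with (e | e) | ⟨γ, hγ, ⟨⟨hγO, hc⟩, h0⟩, hz⟩
    · exact absurd e hδt
    · exact absurd e hδS
    refine ⟨γ, hO γ hγO, h0, hc, fun t => ?_⟩
    have := h.Brk_prodX hf (hO γ hγO).1 h0 t
    rwa [sum_single_of_zero hnd hδ (fun r => t r * (T.coef γ r : K)) fun s hs hne => by
      rw [((hz s hs).resolve_left hne), Int.cast_zero, mul_zero]] at this
  have hk : ∀ δ ∈ T.qList, δ ∉ S → δ ≠ T.top → t δ ∈ k := by
    intro δ hδ hδS hδt
    obtain ⟨γ, hγ, -, hc, hb⟩ := key δ hδ hδS hδt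
    have := hγ.2 c _ _ hS (hb t)
    rcases Int.natAbs_eq (T.coef γ δ) with e | e <;> rw [hc] at e <;> simpa [e] using this
  let tx : ℕ → K := fun r => if r ∈ S ∨ r = T.top then 0 else t r
  have hxk : ∀ r ∈ T.qList, tx r ∈ k := by
    intro r hr
    by_cases e : r ∈ S ∨ r = T.top
    · simp [tx, e]
    · simp only [tx, e, if_false]; exact hk r hr (fun e' => e (Or.inl e')) fun e' => e (Or.inr e')
  set x := prodX D T.qList tx
  have hxσ : mapGL D σ x = x := by
    rw [h.prodX_map]
    unfold prodX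
    congr 1
    exact List.map_congr_left fun r hr => by
      show X D r (σ (tx r)) = _
      rw [(ho.mem_k _).1 (hxk r hr)]
  have hxQ : x ∈ Qgrp D T K := prodX_mem_Qgrp tx
  have hxH : x ∈ H := list_prod_mem fun g hg => by
    obtain ⟨r, hr, rfl⟩ := List.mem_map.1 hg
    exact ho.X_mem h (inQ_lt (mem_qList.1 hr)).2 (hxk r hr)
  have hS' : Sted D T H c (x⁻¹ * prodX D T.qList t) :=
    ho.sted_left h hf hS (inv_mem hxQ) (inv_mem hxH)
  obtain ⟨t', ht'⟩ := h.exists_prodX_Qgrp hf hS'.2.1
  rw [ht'] at hS'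
  refine ⟨x, t', hxQ, hxσ, ?_, hS', fun δ hδ hδS hδt => ?_⟩
  · rw [← ht', mul_inv_cancel_left]
  obtain ⟨γ, hγ, h0, hc, hb⟩ := key δ hδ hδS hδt
  have h1 := hb t'
  rw [← ht'] at h1
  have h2 := Cert.Brk.mul' h hf hγ.1 (prodX_mem_Qgrp t) (Cert.Brk.inv' h hf hxQ (hb tx)) (hb t)
  have h3 := Cert.Brk.uniq h hf h1 h2
  have htx : tx δ = t δ := by simp [tx, hδS, hδt]
  rw [htx, neg_add_cancel] at h3
  refine (mul_eq_zero.1 h3).resolve_right ?_
  rcases Int.natAbs_eq (T.coef γ δ) with e | e <;> rw [hc] at e <;> simp [e]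

/-- The short coordinates by a linear move. -/
lemma short_mem_linear {S : List ℕ} {m : ℕ} (hlin : T.chkLinear O S m = true) (hm : (m : K) ≠ 0)
    {c : K} {t : ℕ → K} (hS : Sted D T H c (prodX D T.qList t))
    (ht : ∀ r ∈ T.qList, r ∉ S → r ≠ T.top → t r = 0) {γ : ℕ} (hγ : γ ∈ S) : t γ ∈ k := by
  simp only [Tab.chkLinear, List.all_eq_true, Bool.and_eq_true, List.any_eq_true, List.mem_range,
    Bool.or_eq_true, Bool.not_eq_true', Bool.or_eq_false_iff, decide_eq_true_eq,
    decide_eq_false_iff_not] at hlin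
  obtain ⟨hγQ, δ, -, γs, -, ⟨⟨hγsO, hmv⟩, hc⟩, hr⟩ := hlin γ hγ
  have hz : ∀ r ∈ T.qList, t r = 0 ∨ (T.linOK δ γs r = true ∧ (r = γ ∨ T.linForm δ γs r = 0)) := by
    intro r hr'
    rcases hr r hr' with e | e
    · exact Or.inl (ht r hr' e.1 e.2)
    · exact Or.inr e
  obtain ⟨hS', hB⟩ := ho.brk_move h hf hmv hS fun r hr' => (hz r hr').imp_right (·.1)
  have hv := (hO γs hγsO).2 c _ _ hS' hB
  rw [sum_single_of_zero sortedLT_qList.nodup (mem_qList.2 hγQ)
    (fun r => t r * (T.linForm δ γs r : K)) fun s hs hne => by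
      rcases hz s hs with e | e
      · rw [e, zero_mul]
      · rw [e.2.resolve_left hne, Int.cast_zero, mul_zero]] at hv
  have hmk : (m : K)⁻¹ ∈ k := inv_mem (natCast_mem k m)
  rcases Int.natAbs_eq (T.linForm δ γs γ) with e | e <;> rw [hc] at e <;>
    rw [e] at hv <;> push_cast at hv
  · simpa [mul_assoc, hm] using mul_mem hv hmk
  · simpa [mul_assoc, hm] using mul_mem hv hmk

omit hO in
/-- The parameter at the highest root. -/
lemma top_param_mem [Finite k] (hall : ∀ c q, Sted D T H c q → c ∈ k) {c z : K}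
    (hS : Sted D T H c (X D T.top z)) : z ∈ k := by
  obtain ⟨ht1, ht2, ht3, ht4, ht5, ht6, ht7⟩ := h.frame_top hf
  have key : ∀ w : K, Sted D T H c (X D T.top w) → w ^ 2 ∈ k := by
    intro w hw
    by_cases hw0 : w = 0
    · subst hw0; simp
    have h1 := mul_mem (mul_mem (ho.nU_mem h ht2) hw.2.2) (inv_mem (ho.nU_mem h ht2))
    rw [h.X_inv ht2, h.rotate_zero hf hw0 c,
      show X D T.top w⁻¹ = (X D T.top (-w⁻¹))⁻¹ by rw [h.X_inv ht2, _root_.neg_neg]] at h1
    have h2 := mul_mem (hall _ _ ⟨mul_ne_zero (pow_ne_zero _ hw0) hw.1, h.X_top_mem_Qgrp hf _, h1⟩)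
      (inv_mem (hall c _ hw))
    rwa [mul_inv_cancel_right₀ hw.1] at h2
  have hz := key z hS
  have h1 : Sted D T H c (X D T.top (1 + z)) := by
    have := ho.sted_left h hf hS (h.X_top_mem_Qgrp hf 1) (ho.X_mem h ht2 (one_mem k))
    rwa [h.X_add ht2] at this
  have h2 : 2 * z ∈ k := by
    have := sub_mem (sub_mem (key _ h1) hz) (one_mem k)
    rwa [show (1 + z) ^ 2 - z ^ 2 - 1 = 2 * z by ring] at this
  by_cases htwo : (2 : K) = 0
  · exact (letI := CharTwo.of_one_ne_zero_of_two_eq_zero (R := K) one_ne_zero htwo; SubfieldStep.mem_of_sq_mem k hz)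
  · simpa [← mul_assoc, htwo] using mul_mem (inv_mem (natCast_mem k 2)) h2

/-- Rationality, given it for the short coordinates. -/
theorem frame_fixed [Finite k] {S : List ℕ} (hpart : T.chkPartner O S = true)
    (hall : ∀ c q, Sted D T H c q → c ∈ k)
    (hshort : ∀ (c : K) (t : ℕ → K), Sted D T H c (prodX D T.qList t) →
      (∀ r ∈ T.qList, r ∉ S → r ≠ T.top → t r = 0) → ∀ γ ∈ S, t γ ∈ k)
    {c : K} {q : GL D.Idx K} (hS : Sted D T H c q) : mapGL D σ q = q := by
  obtain ⟨ht1, ht2, ht3, ht4, ht5, ht6, ht7⟩ := h.frame_top hf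
  have hnd : T.qList.Nodup := sortedLT_qList.nodup
  obtain ⟨x, t, -, hxσ, rfl, hS1, ht⟩ := ho.exists_norm h hf hO hpart hS
  have hk : ∀ r ∈ T.qList, r ≠ T.top → t r ∈ k := by
    intro r hr hrt
    by_cases hrS : r ∈ S
    · exact hshort c t hS1 ht r hrS
    · rw [ht r hr hrS hrt]; exact zero_mem k
  let ty : ℕ → K := fun r => if r = T.top then 0 else t r
  have hyk : ∀ r ∈ T.qList, ty r ∈ k := by
    intro r hr
    by_cases e : r = T.top
    · simp [ty, e]
    · simp only [ty, e, if_false]; exact hk r hr e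
  set y := prodX D T.qList ty
  have hyH : y ∈ H := list_prod_mem fun g hg => by
    obtain ⟨r, hr, rfl⟩ := List.mem_map.1 hg
    exact ho.X_mem h (inQ_lt (mem_qList.1 hr)).2 (hyk r hr)
  have hyσ : mapGL D σ y = y := by
    rw [h.prodX_map]
    unfold prodX
    congr 1
    exact List.map_congr_left fun r hr => by
      show X D r (σ (ty r)) = _
      rw [(ho.mem_k _).1 (hyk r hr)]
  have htop : T.top ∈ T.qList := mem_qList.2 (top_inQ hf)
  have hsplit : prodX D T.qList t = y * X D T.top (t T.top) := by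
    have hy : prodX D T.qList t = y * prodX D T.qList (fun r => if r = T.top then t r else 0) := by
      have : ∀ L : List ℕ, (∀ r ∈ L, T.inQ r = true) →
          prodX D L t = prodX D L ty * prodX D L (fun r => if r = T.top then t r else 0) := by
        intro L
        induction L with
        | nil => intro _; simp [prodX]
        | cons a L ih =>
          intro hL
          have hLQ : prodX D L ty ∈ Qgrp D T K := list_prod_mem fun g hg => by
            obtain ⟨r, hr, rfl⟩ := List.mem_map.1 hg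
            exact X_mem_gen D (hL r (List.mem_cons_of_mem _ hr)) _
          have han := (inQ_lt (hL a List.mem_cons_self)).2
          simp only [prodX, List.map_cons, List.prod_cons] at ih hLQ ⊢
          rw [ih fun r hr => hL r (List.mem_cons_of_mem _ hr)]
          by_cases e : a = T.top
          · subst e
            simp only [ty, if_true, h.X_zero han, one_mul]
            rw [← mul_assoc, ← mul_assoc]
            congr 1
            exact ((h.Qgrp_commute_top hf hLQ _).eq).symm
          · simp only [ty, e, if_false, h.X_zero han, one_mul, mul_assoc]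
      exact this _ fun r hr => mem_qList.1 hr
    rw [hy, h.prodX_single _ hnd (fun s hs => (inQ_lt (mem_qList.1 hs)).2) _ htop
      fun s _ hne => by simp [hne]]
    simp
  rw [hsplit] at hS1 ⊢
  have hS2 : Sted D T H c (X D T.top (t T.top)) := by
    have := ho.sted_left h hf hS1 (inv_mem (prodX_mem_Qgrp ty)) (inv_mem hyH)
    rwa [inv_mul_cancel_left] at this
  rw [map_mul, map_mul, hxσ, hyσ, h.X_map, (ho.mem_k _).1 (ho.top_param_mem h hf hall hS2)]

end Over

end CfsgLib.Chev
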