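import Cfsg.Agent.Lib.Chev.SubfieldFrame
import Cfsg.Agent.Lib.Chev.SubfieldRat

/-!
The centralizer of the fixed conjugates of a long root element is trivial.

Each short simple root leads a commutator product of long root elements whose other roots are positive. These witnesses
take the place of the simple root elements in the argument with the Bruhat decomposition.
-/

set_option autoImplicit false
set_option maxRecDepth 100000

namespace CfsgLib.Chev

open Cfsg.Lie Matrix

namespace Tab

variable (T : Tab)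

/-- The long roots, as the orbit of the highest. -/
def longBits (n : ℕ) : ℕ := T.orbWith (List.range T.l) n (2 ^ T.top)

/-- The commutator of `r` with the long root `l` leads with the simple root `i`. -/
def chkLead (O i : ℕ) (p : ℕ × ℕ) : Bool :=
  decide (p.1 < T.n ∧ p.2 < T.n ∧ p.2 ≠ p.1 ∧ p.2 ≠ T.neg p.1) && O.testBit p.2 &&
    match T.commTerms p.1 p.2 with
    | q :: rest => decide (q.1 = T.simple i ∧ q.2.1.natAbs = 1 ∧ q.2.2.2 = 1) &&
        rest.all fun x => decide (T.half ≤ x.1 ∧ x.1 < T.n ∧ x.1 ≠ T.simple i)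
    | [] => false

/-- What is used for the centralizer. -/
def chkLedCentral (n : ℕ) (W : List (ℕ × ℕ)) : Bool :=
  ((List.range T.l).all fun i =>
      (T.longBits n).testBit (T.simple i) || W.any fun p => T.chkLead (T.longBits n) i p) &&
    (posList T).all fun r => (posList T).all fun s => decide (s = r) ||
      (T.commTerms r s).all fun q => (List.range T.l).all fun i => decide (q.1 ≠ T.simple i)

end Tab

/-- `z` commutes with the conjugates of `x_top(1)` by words in fixed root elements. -/
def CommFixed (D : ChevalleyDatum) (T : Tab) {K : Type*} [Field K] (σ : K →+* K)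
    (g : GL D.Idx K) : Prop :=
  ∀ m ∈ fixGen D T σ, Commute g (m * X D T.top 1 * m⁻¹)

namespace Cert

variable {D : ChevalleyDatum} {T : Tab} {C : Tab.Cover} (h : Cert D T C) {K : Type*} [Field K]
  {σ : K →+* K}

lemma commFixed_conj {g n : GL D.Idx K} (hc : CommFixed D T σ g) (hn : n ∈ fixGen D T σ)
    : CommFixed D T σ (n * g * n⁻¹) := by
  intro m hm
  have h1 := hc (n⁻¹ * m) (mul_mem (inv_mem hn) hm)
  have h2 := h1.map (MulAut.conj n)
  rw [MulAut.conj_apply, MulAut.conj_apply] at h2
  rwa [show n * (n⁻¹ * m * X D T.top 1 * (n⁻¹ * m)⁻¹) * n⁻¹ = m * X D T.top 1 * m⁻¹ by group] at h2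

include h

/-- Long root elements. -/
lemma commFixed_long {g : GL D.Idx K} (hc : CommFixed D T σ g) (htop : T.top < T.n) {n r : ℕ}
    (hr : (T.longBits n).testBit r = true) :
    r < T.n ∧ ∀ m ∈ fixGen D T σ, Commute g (m * X D r 1 * m⁻¹) := by
  refine T.orbWith_induction
    (P := fun r => r < T.n ∧ ∀ m ∈ fixGen D T σ, Commute g (m * X D r 1 * m⁻¹))
    (fun i hi r hr => ?_) n _ (fun r hr => ?_) r hr
  · rw [List.mem_range] at hi
    refine ⟨h.refl_lt hi hr.1, fun m hm => ?_⟩
    have hn : nS D K i ∈ fixGen D T σ := h.nS_mem_fixGen hi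
    have h1 := hr.2 (m * nS D K i) (mul_mem hm hn)
    rw [show m * nS D K i * X D r 1 * (m * nS D K i)⁻¹ =
      m * (nS D K i * X D r 1 * (nS D K i)⁻¹) * m⁻¹ by group, h.nS_conj_X hi hr.1] at h1
    rcases T.eta_cases i r with e | e
    · simpa [e] using h1
    · have h2 : m * X D (T.refl i r) ((T.eta i r : K) * 1) * m⁻¹ =
          (m * X D (T.refl i r) 1 * m⁻¹)⁻¹ := by
        rw [e, Int.cast_neg, Int.cast_one, mul_one, ← h.X_inv (h.refl_lt hi hr.1)]; group
      rw [h2] at h1
      exact Commute.inv_right_iff.1 h1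
  · rw [Nat.testBit_two_pow, decide_eq_true_eq] at hr
    subst hr
    exact ⟨htop, hc⟩

variable {n : ℕ} {W : List (ℕ × ℕ)} (hW : T.chkLedCentral n W = true)
include hW

lemma posBut_closed {i : ℕ} (hi : i < T.l) {r s : ℕ} (hr : r ∈ posSet T) (hs : s ∈ posSet T)
    (hne : s ≠ r) {q : ℕ × ℤ × ℕ × ℕ} (hq : q ∈ T.commTerms r s) : q.1 ∈ posBut T i := by
  simp only [Tab.chkLedCentral, Bool.and_eq_true, List.all_eq_true, Bool.or_eq_true, decide_eq_true_eq,
    List.mem_range] at hW
  exact ⟨h.commClosed_posSet r hr s hs hne q hq,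
    ((hW.2 r (mem_posList.2 hr) s (mem_posList.2 hs)).resolve_left hne) q hq i hi⟩

/-- `U` normalises the group of the positive roots other than a simple one. -/
lemma conj_posBut {i : ℕ} (hi : i < T.l) {u : GL D.Idx K} (hu : u ∈ D.posUnipotent K)
    {a : GL D.Idx K} (ha : a ∈ gen D K (posBut T i)) :
    u * a * u⁻¹ ∈ gen D K (posBut T i) := by
  have hnorm : D.posUnipotent K ≤
      Subgroup.normalizer (gen D K (posBut T i) : Set (GL D.Idx K)) := by
    rw [h.posUnipotent_eq, gen, Subgroup.closure_le]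
    rintro _ ⟨r, hr, t, rfl⟩
    refine (le_normalizer_closure (H := gen D K {r}) ?_) (X_mem_gen D (Set.mem_singleton r) t)
    rintro x hx _ ⟨s, hs, v, rfl⟩
    obtain ⟨b, rfl⟩ := (h.gen_singleton hr.2).1 hx
    by_cases e : s = r
    · subst e
      rw [h.X_add hr.2, add_comm, ← h.X_add hr.2, mul_inv_cancel_right]
      exact X_mem_gen D hs v
    exact h.X_conj_mem hr.2 hs.1.2 e (posSet_neg_ne h hr hs.1) hs
      (fun q hq => h.posBut_closed hW hi hr hs.1 e hq) b v
  exact (Subgroup.mem_normalizer_iff.1 (hnorm hu) a).1 ha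

/-- The simple root element is outside that group. -/
lemma eq_zero_of_mem_posBut {i : ℕ} (hi : i < T.l) {x : K}
    (hx : X D (T.simple i) x ∈ gen D K (posBut T i)) : x = 0 := by
  obtain ⟨hp1, hp2, -, -⟩ := h.simple_spec hi
  set a := T.simple i
  set L := (posList T).filter fun r => decide (r ≠ a) with hL
  have hset : {r | r ∈ L} = posBut T i := by
    ext r
    simp only [L, List.mem_filter, decide_eq_true_eq, Set.mem_setOf_eq, posBut, mem_posList, a]
  have hsorted : L.SortedLT := ((sortedLT_posList (T := T)).pairwise.filter _).sortedLT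
  have hLpos : ∀ r ∈ L, r ∈ posSet T := fun r hr => (hset.le hr).1
  obtain ⟨t, ht⟩ := h.exists_prodX L hsorted hLpos
    (by rw [hset]; exact fun r hr s hs hne q hq => h.posBut_closed hW hi hr.1 hs.1 hne hq) _
    (by rwa [hset])
  let t' : ℕ → K := fun r => if r = a then 0 else t r
  have e1 : ∀ M : List ℕ, (∀ r ∈ M, r < T.n) →
      prodX D (M.filter fun r => decide (r ≠ a)) t = prodX D M t' := by
    intro M
    induction M with
    | nil => intro _; rfl
    | cons b M ih =>
      intro hlt
      have ih' := ih fun r hr => hlt r (List.mem_cons_of_mem _ hr)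
      simp only [prodX] at ih' ⊢
      by_cases e : b = a
      · rw [List.filter_cons_of_neg (by simp [e]), List.map_cons, List.prod_cons, ← ih']
        simp only [t', e, if_true]
        rw [h.X_zero (e ▸ hlt b List.mem_cons_self), one_mul]
      · rw [List.filter_cons_of_pos (by simp [e]), List.map_cons, List.map_cons, List.prod_cons,
          List.prod_cons, ← ih']
        simp only [t', e, if_false]
  rw [hL, e1 _ fun r hr => (mem_posList.1 hr).2] at ht
  have ha : a ∈ posList T := mem_posList.2 ⟨hp1, hp2⟩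
  have hnd : (posList T).Nodup := (sortedLT_posList (T := T)).nodup
  have e2 : X D a x = prodX D (posList T) (fun r => if r = a then x else 0) := by
    rw [h.prodX_single _ hnd (fun r hr => (mem_posList.1 hr).2) _ ha fun r _ hne => by simp [hne],
      if_pos rfl]
  have := h.prodX_inj _ sortedLT_posList (fun r hr => mem_posList.1 hr) _ _ (e2.symm.trans ht) a ha
  simpa [t'] using this

/-- The witness of a simple root: a product led by it that commutes with `g`. -/
lemma commFixed_witness (htop : T.top < T.n) {g : GL D.Idx K} (hc : CommFixed D T σ g) {i : ℕ}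
    (hi : i < T.l) :
    ∃ e : K, e ≠ 0 ∧ ∃ b ∈ gen D K (posBut T i),
      Commute g (X D (T.simple i) e * b) := by
  have hW' := hW
  simp only [Tab.chkLedCentral, Bool.and_eq_true, List.all_eq_true, Bool.or_eq_true, List.any_eq_true,
    List.mem_range] at hW'
  rcases hW'.1 i hi with e | ⟨⟨r, l⟩, -, hp⟩
  · refine ⟨1, one_ne_zero, 1, one_mem _, ?_⟩
    simpa using (h.commFixed_long hc htop e).2 1 (one_mem _)
  simp only [Tab.chkLead, Bool.and_eq_true, decide_eq_true_eq] at hp
  obtain ⟨⟨⟨hr, hl, hne, hneg⟩, hO⟩, hm⟩ := hp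
  split at hm
  next q rest heq =>
    simp only [Bool.and_eq_true, decide_eq_true_eq, List.all_eq_true] at hm
    obtain ⟨⟨hq1, hqm, -⟩, hrest⟩ := hm
    obtain ⟨-, hlong⟩ := h.commFixed_long hc htop hO
    have hrG : X D r (1 : K) ∈ fixGen D T σ := X_mem_fixGen D hr (map_one σ)
    have h1 := hlong (X D r 1)⁻¹ (inv_mem hrG)
    have h2 := hlong 1 (one_mem _)
    rw [one_mul, inv_one, mul_one] at h2
    have e1 := h.X_conj (F := K) hr hl hne hneg 1 1
    rw [← h.X_inv hr, heq] at e1
    rw [inv_inv, e1] at h1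
    have h3 := h2.inv_right.mul_right h1
    rw [inv_mul_cancel_left, List.map_cons, List.prod_cons, hq1] at h3
    refine ⟨_, ?_, _, list_prod_mem fun x hx => ?_, h3⟩
    · rcases Int.natAbs_eq q.2.1 with e | e <;> rw [hqm] at e <;> simp [e]
    · obtain ⟨y, hy, rfl⟩ := List.mem_map.1 hx
      exact X_mem_gen D (S := posBut T i) ⟨⟨(hrest y hy).1, (hrest y hy).2.1⟩, (hrest y hy).2.2⟩ _
  next => exact absurd hm Bool.false_ne_true

lemma commFixed_mem_borel (htop : T.top < T.n) {g : GL D.Idx K} (hg : g ∈ D.group K)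
    (hc : CommFixed D T σ g) : g ∈ D.borelSubgroup K := by
  obtain ⟨b, hb, n', hn, u, hu, rfl⟩ := h.bruhat_exists hg
  obtain ⟨w, hw, t₁, ht₁, rfl⟩ := h.exists_word_of_monomial hn
  have hπ : ∀ r < T.n, rword T w r < T.n ∧ Maps D (nW D K w * t₁) r (rword T w r) := fun r hr =>
    ⟨h.rword_lt hw hr, Maps_mul (h.Maps_diagonal ht₁ hr) (h.Maps_nW hw hr)⟩
  have huU : u ∈ D.posUnipotent K := by
    rw [h.cellUnipotent_eq hπ] at hu
    rw [h.posUnipotent_eq]
    exact gen_mono D Set.sdiff_subset hu
  by_cases hpos : ∀ i < T.l, T.half ≤ rword T w (T.simple i)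
  · exact mul_mem (mul_mem hb (Subgroup.mem_sup_right (mul_mem (h.nW_mem_diagonal hw hpos) ht₁)))
      (Subgroup.mem_sup_left huU)
  exfalso
  simp only [not_forall] at hpos
  obtain ⟨i, hi, hneg⟩ := hpos
  obtain ⟨hp1, hp2, -, -⟩ := h.simple_spec hi
  obtain ⟨e, he, b', hb', hcomm⟩ := h.commFixed_witness hW htop hc hi
  set P := X D (T.simple i) e * b'
  have hbU : b' ∈ D.posUnipotent K := by
    rw [h.posUnipotent_eq]; exact gen_mono D (fun r hr => hr.1) hb'
  have hPU : P ∈ D.posUnipotent K := mul_mem (h.X_simple_mem_posUnipotent hi e) hbU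
  have huP : u * P ∈ gen D K {r | r ∈ posList T} := by
    rw [posList_set, ← h.posUnipotent_eq]; exact mul_mem huU hPU
  obtain ⟨a₀, ha₀, c₀, hc₀, hsplit⟩ := h.exists_split {r | T.half ≤ rword T w r} (posList T)
    sortedLT_posList (fun r hr => mem_posList.1 hr)
    (by rw [posList_set]; exact h.commClosed_posSet) _ huP
  rw [posList_set] at ha₀ hc₀
  set N := nW D K w * t₁
  have hna : N * a₀ * N⁻¹ ∈ D.borelSubgroup K := by
    refine Subgroup.mem_sup_left ?_
    rw [h.posUnipotent_eq]
    exact conj_gen_le (S' := posSet T)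
      (fun r hr => ⟨rword T w r, ⟨hr.2, (hπ r hr.1.2).1⟩, (hπ r hr.1.2).2⟩) ha₀
  have e' : (P * b) * N * u = (b * (N * a₀ * N⁻¹)) * N * c₀ := by
    have h1 := hcomm.eq
    rw [show b * N * u * P = b * N * (u * P) by group, hsplit] at h1
    rw [show (P * b) * N * u = P * (b * N * u) by group, ← h1]
    group
  obtain ⟨-, huniq⟩ := h.bruhat_unique (mul_mem (Subgroup.mem_sup_left hPU) hb) (mul_mem hb hna) hn hn
    hu (by rw [h.cellUnipotent_eq hπ]; exact hc₀) e'
  obtain ⟨-, ec⟩ := huniq rfl
  have haN : a₀ ∈ gen D K (posBut T i) :=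
    gen_mono D (show (posSet T ∩ {r | T.half ≤ rword T w r}) ⊆ posBut T i from
      fun r hr => ⟨hr.1, fun e => hneg (e ▸ hr.2)⟩) ha₀
  have hPN : P ∈ gen D K (posBut T i) := by
    have := h.conj_posBut hW hi (inv_mem huU) haN
    rwa [show a₀ = u * P * u⁻¹ by rw [hsplit, ← ec, mul_inv_cancel_right],
      show u⁻¹ * (u * P * u⁻¹) * u⁻¹⁻¹ = P by group] at this
  refine he (h.eq_zero_of_mem_posBut hW hi ?_)
  have := mul_mem hPN (inv_mem hb')
  rwa [mul_inv_cancel_right] at this

/-- A diagonal element with the property fixes the simple root elements. -/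
lemma commFixed_diagonal (htop : T.top < T.n) {g : GL D.Idx K}
    (hg : g ∈ D.diagonalSubgroup K) (hc : CommFixed D T σ g) {i : ℕ} (hi : i < T.l) (x : K) :
    Commute g (X D (T.simple i) x) := by
  obtain ⟨hp1, hp2, -, -⟩ := h.simple_spec hi
  obtain ⟨e, he, b, hb, hcomm⟩ := h.commFixed_witness hW htop hc hi
  obtain ⟨c, hc0, ec⟩ := h.mem_diagonalSubgroup_iff.1 hg
  have key : ∀ y : K, g * X D (T.simple i) y * g⁻¹ = X D (T.simple i) (charOf T c (T.simple i) * y) := by
    intro y
    rw [mul_inv_eq_iff_eq_mul]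
    refine Units.ext ?_
    rw [Units.val_mul, Units.val_mul, h.coe_X, h.coe_X, ec, h.torus_mul_x (h.isChar_charOf hc0) hp2]
  set ch := charOf T c (T.simple i)
  have hgb : g * b * g⁻¹ ∈ gen D K (posBut T i) :=
    (Subgroup.mem_normalizer_iff.1 (h.diagonal_le_normalizer_gen (fun r hr => hr.1.2) hg) b).1 hb
  have h1 : X D (T.simple i) (ch * e) * (g * b * g⁻¹) = X D (T.simple i) e * b := by
    rw [← key]
    calc g * X D (T.simple i) e * g⁻¹ * (g * b * g⁻¹) = g * (X D (T.simple i) e * b) * g⁻¹ := by group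
      _ = _ := by rw [hcomm.eq, mul_inv_cancel_right]
  have h2 : X D (T.simple i) (-e + ch * e) = b * (g * b * g⁻¹)⁻¹ := by
    rw [← h.X_add hp2, eq_mul_inv_iff_mul_eq, mul_assoc, h1, ← mul_assoc, h.X_add hp2,
      neg_add_cancel, h.X_zero hp2, one_mul]
  have h3 := h.eq_zero_of_mem_posBut hW hi (h2 ▸ mul_mem hb (inv_mem hgb))
  have hch : ch = 1 := by
    have : (ch - 1) * e = 0 := by linear_combination h3
    exact sub_eq_zero.1 ((mul_eq_zero.1 this).resolve_right he)
  have := key x
  rw [hch, one_mul] at this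
  exact mul_inv_eq_iff_eq_mul.1 this

/-- The centralizer of the fixed conjugates of `x_top(1)` is trivial. -/
theorem commFixed_eq_one (htop : T.top < T.n) {g : GL D.Idx K} (hg : g ∈ D.group K)
    (hc : CommFixed D T σ g) : g = 1 := by
  obtain ⟨w, hw, hneg⟩ := h.exists_longest
  have hwr : WordOK T w.reverse := fun i hi => hw i (List.mem_reverse.1 hi)
  set n₀ := nW D K w with hnd
  have hn := h.monomial_le_group (h.nW_mem_monomial (F := K) hw)
  have hg' : n₀ * g * n₀⁻¹ ∈ D.borelSubgroup K :=
    h.commFixed_mem_borel hW htop (mul_mem (mul_mem hn hg) (inv_mem hn))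
      (commFixed_conj hc (h.nW_mem_fixGen hw))
  obtain ⟨u, hu, t, ht, e⟩ := h.mem_borel_iff.1 hg'
  have hneg' : g ∈ D.negUnipotent K ⊔ D.diagonalSubgroup K := by
    rw [show g = (n₀⁻¹ * u * n₀) * (n₀⁻¹ * t * n₀) by
      have : g = n₀⁻¹ * (n₀ * g * n₀⁻¹) * n₀ := by group
      rw [e] at this
      rw [this]; group]
    refine Subgroup.mul_mem_sup ?_ ?_
    · rw [h.negUnipotent_eq]
      rw [h.posUnipotent_eq] at hu
      have := conj_gen_le (g := n₀⁻¹) (S' := {r | r < T.half})
        (fun r (hr : r ∈ posSet T) => ⟨rword T w.reverse r, ?_, ?_⟩) hu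
      · simpa using this
      · show rword T w.reverse r < T.half
        by_contra hge
        have h1 := hneg _ (not_lt.1 hge) (h.rword_lt hwr hr.2)
        rw [h.rword_reverse hw hr.2] at h1
        exact absurd hr.1 (not_le.2 h1)
      · have h1 := Maps_inv (h.Maps_nW (F := K) hw (h.rword_lt hwr hr.2))
        rwa [h.rword_reverse hw hr.2] at h1
    · have := (Subgroup.mem_normalizer_iff.1 (h.monomial_le_normalizer_diagonal
        (inv_mem (h.nW_mem_monomial (F := K) hw))) t).1 ht
      simpa using this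
  have hgH : g ∈ D.diagonalSubgroup K := by
    rw [← h.borel_inf_negUnipotent_sup]
    exact Subgroup.mem_inf.2 ⟨h.commFixed_mem_borel hW htop hg hc, hneg'⟩
  have hsimple : ∀ i < T.l, ∀ x : K, Commute g (X D (T.simple i) x) := fun i hi x =>
    h.commFixed_diagonal hW htop hgH hc hi x
  have hnS : ∀ i < T.l, Commute g (nS D K i) := by
    intro i hi
    have hs := h.simple_lt hi
    have hni := h.monomial_le_group (h.nS_mem_monomial (F := K) hi)
    have h1 := h.commFixed_diagonal hW htop (h.nS_conj_diagonal hi hgH)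
      (commFixed_conj hc (h.nS_mem_fixGen hi)) hi ((T.eta i (T.neg (T.simple i)) : K) * -1)
    have h2 : Commute g (X D (T.neg (T.simple i)) (-1)) := by
      have h3 := h1.map (MulAut.conj (nS D K i)⁻¹)
      rw [MulAut.conj_apply, MulAut.conj_apply, inv_inv,
        show (nS D K i)⁻¹ * (nS D K i * g * (nS D K i)⁻¹) * nS D K i = g by group] at h3
      have e1 := h.nS_conj_X (F := K) hi (neg_lt (T := T) hs) (-1)
      rw [show T.refl i (T.neg (T.simple i)) = T.simple i by
        rw [← h.refl_simple hi, h.refl_refl hi hs]] at e1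
      rw [← e1] at h3
      rwa [show (nS D K i)⁻¹ * (nS D K i * X D (T.neg (T.simple i)) (-1) * (nS D K i)⁻¹) * nS D K i =
        X D (T.neg (T.simple i)) (-1) by group] at h3
    rw [nS, h.simple_eq hi, nU, h.agrees.neg_eq hs, inv_one]
    exact ((hsimple i hi 1).mul_right h2).mul_right (hsimple i hi 1)
  have hall : D.group K ≤ Subgroup.centralizer {g} :=
    h.group_le_of
      (fun i hi x => Subgroup.mem_centralizer_singleton_iff.2 (hsimple i hi x).symm.eq)
      (fun i hi => Subgroup.mem_centralizer_singleton_iff.2 (hnS i hi).symm.eq)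
  exact h.eq_one_of_commute hg fun r hr =>
    Subgroup.mem_centralizer_singleton_iff.1 (hall (h.X_mem_group hr 1))

end Cert

end CfsgLib.Chev
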