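import Cfsg.Agent.Lib.Chev.SubfieldCentral
import Cfsg.Agent.Lib.Chev.All

/-!
The data for the centralizer of the fixed conjugates of a long root element.
-/

set_option autoImplicit false
set_option maxRecDepth 100000

namespace CfsgLib.Chev

theorem centralG2 : tabG2.chkLedCentral 5 [(8, 5)] = true := by decide +kernel
theorem centralB2 : tabB2.chkLedCentral 3 [(6, 3)] = true := by decide +kernel
theorem centralD4 : tabD4.chkLedCentral 6 [] = true := by decide +kernel
theorem centralF4 : tabF4.chkLedCentral 12 [(37, 17), (28, 22)] = true := by decide +kernel
theorem centralE6 : tabE6.chkLedCentral 11 [] = true := by decide +kernel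
theorem centralE7 : tabE7.chkLedCentral 17 [] = true := by decide +kernel
theorem centralE8 : tabE8.chkLedCentral 29 [] = true := by decide +kernel

end CfsgLib.Chev
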