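import Cfsg.Agent.Lib.Chev.SubfieldExc
import Cfsg.Agent.Lib.Chev.All

/-!
The data for overgroups of the fixed points of a field automorphism, type by type.
-/

set_option autoImplicit false
set_option maxRecDepth 100000

namespace CfsgLib.Chev

namespace Tab

/-- What is used uniformly outside type B2. -/
def chkRat (T : Tab) (W : List ℕ) (a b n : ℕ) (S : List ℕ) : Bool :=
  T.chkFrame && T.chkWord W && T.chkFrPair a b && T.chkLev && T.chkPartner (T.levOrb n a b) S

end Tab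

/-- The word for G2. -/
def topWordG2 : List ℕ := [1, 0, 1, 0, 1]
/-- The word for B2. -/
def topWordB2 : List ℕ := [0, 1, 0]
/-- The word for D4. -/
def topWordD4 : List ℕ := [1, 2, 0, 1, 3, 1, 2, 0, 1]
/-- The word for F4. -/
def topWordF4 : List ℕ := [3, 2, 1, 2, 0, 1, 2, 3, 2, 1, 2, 0, 1, 2, 3]
/-- The word for E6. -/
def topWordE6 : List ℕ := [1, 3, 4, 2, 3, 0, 2, 1, 3, 4, 5, 4, 3, 2, 1, 3, 4, 0, 2, 3, 1]
/-- The word for E7. -/
def topWordE7 : List ℕ :=
  [0, 2, 3, 4, 5, 1, 3, 4, 2, 3, 0, 2, 1, 3, 4, 5, 6, 5, 4, 3, 2, 1, 3, 4, 5, 0, 2, 3, 4, 1, 3, 2, 0]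
/-- The word for E8. -/
def topWordE8 : List ℕ :=
  [7, 6, 5, 4, 3, 2, 1, 3, 4, 5, 6, 0, 2, 3, 4, 5, 1, 3, 4, 2, 3, 0, 2, 1, 3, 4, 5, 6, 7, 6, 5, 4, 3,
   2, 1, 3, 4, 5, 6, 0, 2, 3, 4, 5, 1, 3, 4, 2, 3, 0, 2, 1, 3, 4, 5, 6, 7]

theorem frameB2 : tabB2.chkFrame = true ∧ tabB2.chkWord topWordB2 = true := by decide +kernel
theorem ratG2 : tabG2.chkRat topWordG2 6 10 4 [8, 9] = true := by decide +kernel
theorem ratD4 : tabD4.chkRat topWordD4 14 22 6 [] = true := by decide +kernel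
theorem ratF4 : tabF4.chkRat topWordF4 24 46 8 [29, 36, 38, 39, 40, 44] = true := by decide +kernel
theorem ratE6 : tabE6.chkRat topWordE6 46 70 10 [] = true := by decide +kernel
theorem ratE7 : tabE7.chkRat topWordE7 93 124 14 [] = true := by decide +kernel
theorem ratE8 : tabE8.chkRat topWordE8 120 238 20 [] = true := by decide +kernel
theorem linF4 :
    tabF4.chkLinear (tabF4.levOrb 8 24 46) [29, 36, 38, 39, 40, 44] 2 = true := by decide +kernel
theorem swapRatG2 : tabG2.chkSwap 6 10 10 6 7 [8, 9] = true := by decide +kernel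
theorem swapD4 : tabD4.chkSwap 14 22 15 21 12 [] = true := by decide +kernel
theorem swapF4 : tabF4.chkSwap 24 46 26 45 25 [] = true := by decide +kernel
theorem swapE6 : tabE6.chkSwap 46 70 47 69 39 [] = true := by decide +kernel
theorem swapE7 : tabE7.chkSwap 93 124 94 123 73 [] = true := by decide +kernel
theorem swapE8 : tabE8.chkSwap 120 238 122 237 121 [] = true := by decide +kernel

end CfsgLib.Chev
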