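import Cfsg.Agent.Lib.Chev.SubfieldRat

/-!
The field with four elements over its prime subfield: a move with a root element of the Levi part makes a bracket
rational, so all parameters at the lowest root are rational as well.
-/

set_option autoImplicit false
set_option maxRecDepth 100000

namespace CfsgLib.Chev

open Cfsg.Lie Matrix

namespace Tab

variable (T : Tab)

/-- Two pairs exchanged by the move with `x_δ(1)`, up to roots in `S`. -/
def chkSwap (a b a' b' δ : ℕ) (S : List ℕ) : Bool :=
  T.chkFrPair a b && T.chkFrPair a' b' && T.chkLevMove δ a && decide (b ≠ b') &&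
    decide (T.coef a a = 0) && decide (T.coef a' a' = 0) &&
    T.qList.all fun r =>
      (decide (r = b) || decide (T.coef a r = 0)) && (decide (r = b') || decide (T.coef a' r = 0)) &&
      T.linOK δ a r &&
      (if r = b ∨ r = b' then decide ((T.linForm δ a r).natAbs = 1)
        else decide (r ∈ S) || decide (T.linForm δ a r = 0))

end Tab

/-- The parameters and brackets outside the subfield are roots of `X² + X + 1`. -/
def FourRule (D : ChevalleyDatum) (T : Tab) {K : Type*} [Field K] (k : Subfield K)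
    (H : Subgroup (GL D.Idx K)) : Prop :=
  (2 : K) = 0 ∧ ∀ a b, T.chkFrPair a b = true → ∀ c q v, Sted D T H c q → c ∉ k → Brk D T a q v →
    c ^ 2 + c + 1 = 0 ∧ v ^ 2 + v + 1 = 0

namespace SubfieldStep

variable {K : Type*} [Field K] {k : Subfield K}

/-- The two roots of `X² + X + 1` differ by one. -/
lemma add_mem_of_root (h2 : (2 : K) = 0) {x y : K} (hx : x ^ 2 + x + 1 = 0) (hy : y ^ 2 + y + 1 = 0) :
    x + y ∈ k := by
  have h : (x + y) * (x + y - 1) = 0 := by
    linear_combination hx + hy + (x * y - x - y - 1) * h2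
  rcases mul_eq_zero.1 h with e | e
  · rw [e]; exact zero_mem k
  · rw [sub_eq_zero.1 e]; exact one_mem k

lemma two_eq_zero_of_card [Finite k] (h2 : Nat.card k = 2) : (2 : K) = 0 := by
  haveI := Fintype.ofFinite k
  have h1 := congrArg k.subtype (FiniteField.cast_card_eq_zero k)
  rw [map_natCast, map_zero, ← Nat.card_eq_fintype_card, h2] at h1
  exact_mod_cast h1

/-- In the field with four elements the elements outside the prime field are such roots. -/
lemma root_of_four [Finite K] (hcard : Nat.card K = Nat.card k ^ 2) (h2 : Nat.card k = 2) {x : K}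
    (hx : x ∉ k) : x ^ 2 + x + 1 = 0 := by
  haveI := Fintype.ofFinite K
  have h20 := two_eq_zero_of_card h2
  have h4 : x ^ 4 = x := by
    have := FiniteField.pow_card x
    rwa [← Nat.card_eq_fintype_card, hcard, h2] at this
  have h : (x ^ 2 + x) * (x ^ 2 + x + 1) = 0 := by linear_combination h4 + (x ^ 3 + x ^ 2 + x) * h20
  refine (mul_eq_zero.1 h).resolve_left fun e => ?_
  have : x * (x + 1) = 0 := by linear_combination e
  rcases mul_eq_zero.1 this with e | e
  · exact hx (e ▸ zero_mem k)
  · exact hx (eq_neg_of_add_eq_zero_left e ▸ neg_mem (one_mem k))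

end SubfieldStep

namespace Over

open Cert (inQ_lt one_spec mem_qList sortedLT_qList sum_single_of_zero)

variable {D : ChevalleyDatum} {T : Tab} {C : Tab.Cover} {K : Type*} [Field K] {σ : K →+* K}
  {k : Subfield K} {H : Subgroup (GL D.Idx K)} (ho : Over D T σ k H) (h : Cert D T C)
  (hf : T.chkFrame = true)
include ho h hf

/-- A rational bracket of a pair gives a rational parameter. -/
lemma mem_of_brk_mem {a b : ℕ} (hp : T.chkFrPair a b = true) {c v : K} {q : GL D.Idx K}
    (hS : Sted D T H c q) (hv : Brk D T a q v) (hvk : v ∈ k) : c ∈ k := by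
  have hp' := hp
  simp only [Tab.chkFrPair, Tab.chkDir, Bool.and_eq_true, decide_eq_true_eq] at hp'
  obtain ⟨⟨⟨⟨⟨⟨⟨⟨⟨-, hb⟩, -⟩, -⟩, -⟩, -⟩, -⟩, -⟩, -⟩, -⟩ := hp'
  obtain ⟨η, hη⟩ := h.exists_Brk hf hb hS.2.1
  exact (ho.pair_moves h hf hp).base ⟨q, hS, hv, hη⟩ (Or.inl hvk)

/-- The exceptional field: all parameters are rational, given it for the roots in `S`. -/
theorem mem_of_swap {a b a' b' δ : ℕ} {S : List ℕ} (hsw : T.chkSwap a b a' b' δ S = true)
    (hfour : FourRule D T k H)
    (hshort : ∀ (c : K) (t : ℕ → K), Sted D T H c (prodX D T.qList t) → c ∉ k →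
      ∀ r ∈ S, t r ∈ k)
    {c : K} {q : GL D.Idx K} (hS : Sted D T H c q) : c ∈ k := by
  by_contra hc
  simp only [Tab.chkSwap, Bool.and_eq_true, Bool.or_eq_true, List.all_eq_true, decide_eq_true_eq] at hsw
  obtain ⟨⟨⟨⟨⟨⟨hp, hp'⟩, hmv⟩, hbb⟩, h0⟩, h0'⟩, hr⟩ := hsw
  have hpq := hp
  have hpq' := hp'
  simp only [Tab.chkFrPair, Tab.chkDir, Bool.and_eq_true, decide_eq_true_eq] at hpq hpq'
  obtain ⟨⟨⟨⟨⟨⟨⟨⟨⟨ha, hb⟩, -⟩, eab⟩, -⟩, -⟩, -⟩, -⟩, -⟩, -⟩ := hpq
  obtain ⟨⟨⟨⟨⟨⟨⟨⟨⟨ha', hb'⟩, -⟩, eab'⟩, -⟩, -⟩, -⟩, -⟩, -⟩, -⟩ := hpq'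
  obtain ⟨t, rfl⟩ := h.exists_prodX_Qgrp hf hS.2.1
  have hnd : T.qList.Nodup := sortedLT_qList.nodup
  obtain ⟨h20, hroot⟩ := hfour
  have hneg : ∀ x : K, -x = x := fun x => by linear_combination (-x) * h20
  have hunit : ∀ m : ℤ, m.natAbs = 1 → (m : K) = 1 := fun m hm => by
    rcases Int.natAbs_eq m with e | e <;> rw [hm] at e <;> simp [e, hneg]
  have hcoef : ∀ a b, T.one a b T.top = true → (T.coef a b).natAbs = 1 := by
    intro a b e
    unfold Tab.one at e
    split at e
    next q hq =>
      simp only [decide_eq_true_eq] at e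
      simpa [Tab.coef, hq] using e.2.2.2
    next => exact absurd e Bool.false_ne_true
  have hbk : (t b) ^ 2 + t b + 1 = 0 := by
    have h1 := h.Brk_prodX hf ha h0 t
    rw [sum_single_of_zero hnd (mem_qList.2 hb) (fun r => t r * (T.coef a r : K)) fun s hs hne => by
      rw [(hr s hs).1.1.1.resolve_left hne, Int.cast_zero, mul_zero]] at h1
    have := (hroot a b hp c _ _ hS hc h1).2
    rwa [hunit _ (hcoef a b eab), mul_one] at this
  have hbk' : (t b') ^ 2 + t b' + 1 = 0 := by
    have h1 := h.Brk_prodX hf ha' h0' t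
    rw [sum_single_of_zero hnd (mem_qList.2 hb') (fun r => t r * (T.coef a' r : K)) fun s hs hne => by
      rw [(hr s hs).1.1.2.resolve_left hne, Int.cast_zero, mul_zero]] at h1
    have := (hroot a' b' hp' c _ _ hS hc h1).2
    rwa [hunit _ (hcoef a' b' eab'), mul_one] at this
  obtain ⟨hS', hB⟩ := ho.brk_move h hf hmv hS fun r hr' => Or.inr (hr r hr').1.2
  refine hc (ho.mem_of_brk_mem h hf hp hS' hB ?_)
  have hb1 : (T.linForm δ a b : K) = 1 := by
    have := (hr b (mem_qList.2 hb)).2
    rw [if_pos (Or.inl rfl), decide_eq_true_eq] at this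
    exact hunit _ this
  have hb2 : (T.linForm δ a b' : K) = 1 := by
    have := (hr b' (mem_qList.2 hb')).2
    rw [if_pos (Or.inr rfl), decide_eq_true_eq] at this
    exact hunit _ this
  have key : ∀ L : List ℕ, L.Nodup → (∀ r ∈ L, r ∈ T.qList) →
      (L.map fun r => t r * (T.linForm δ a r : K)).sum -
        ((if b ∈ L then t b else 0) + (if b' ∈ L then t b' else 0)) ∈ k := by
    intro L
    induction L with
    | nil => intro _ _; simp
    | cons r L ih =>
      intro hLn hLq
      rw [List.nodup_cons] at hLn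
      have ih' := ih hLn.2 fun s hs => hLq s (List.mem_cons_of_mem _ hs)
      rw [List.map_cons, List.sum_cons]
      by_cases e : r = b
      · subst e
        simp only [List.mem_cons_self, if_true, hb1, mul_one, List.mem_cons, Ne.symm hbb, false_or]
        rw [if_neg hLn.1, zero_add] at ih'
        rwa [add_sub_add_left_eq_sub]
      by_cases e' : r = b'
      · subst e'
        simp only [List.mem_cons_self, if_true, hb2, mul_one, List.mem_cons, hbb, false_or]
        rw [if_neg hLn.1, add_zero] at ih'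
        rwa [add_comm (if b ∈ L then t b else 0), add_sub_add_left_eq_sub]
      · simp only [List.mem_cons, Ne.symm e, Ne.symm e', false_or]
        have hz : t r * (T.linForm δ a r : K) ∈ k := by
          have hr2 := (hr r (hLq r List.mem_cons_self)).2
          rw [if_neg (by simp [e, e']), Bool.or_eq_true, decide_eq_true_eq, decide_eq_true_eq] at hr2
          rcases hr2 with hs | hs
          · exact mul_mem (hshort c t hS hc r hs) (intCast_mem k _)
          · rw [hs, Int.cast_zero, mul_zero]; exact zero_mem k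
        have := add_mem hz ih'
        rwa [← add_sub_assoc] at this
  have := add_mem (key T.qList hnd fun r hr' => hr') (SubfieldStep.add_mem_of_root h20 hbk hbk')
  rwa [if_pos (mem_qList.2 hb), if_pos (mem_qList.2 hb'), sub_add_cancel] at this

end Over

end CfsgLib.Chev
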