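import Cfsg.Agent.Lib.Chev.SubfieldCentralData
import Cfsg.Agent.Lib.Chev.SubfieldB2

/-!
A new parameter at the highest root: the overgroup is the whole group.
-/

set_option autoImplicit false
set_option maxRecDepth 100000

namespace CfsgLib.Chev

open Cfsg.Lie Matrix

/-- A group between the fixed points and the whole group. -/
structure Between (D : ChevalleyDatum) {K : Type*} [Field K] (σ : K →+* K) (k : Subfield K)
    (H : Subgroup (GL D.Idx K)) : Prop where
  mem_k : ∀ x, x ∈ k ↔ σ x = x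
  le : H ≤ D.group K
  fixed : ∀ g ∈ D.group K, mapGL D σ g = g → g ∈ H

namespace Tab

variable (T : Tab)

/-- The other roots of the leading commutators are long. -/
def chkLongTail (n : ℕ) (W : List (ℕ × ℕ)) : Bool :=
  (List.range T.l).all fun i => (T.longBits n).testBit (T.simple i) ||
    W.any fun p => T.chkLead (T.longBits n) i p &&
      (T.commTerms p.1 p.2).tail.all fun x => (T.longBits n).testBit x.1

/-- Two long roots with the highest as their sum. -/
def chkSum (n a b : ℕ) : Bool :=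
  T.one a b T.top && decide (a < T.n ∧ b < T.n ∧ b ≠ a ∧ b ≠ T.neg a) &&
    (T.longBits n).testBit a && (T.longBits n).testBit b

end Tab

theorem sumG2 : tabG2.chkSum 5 6 10 = true := by decide +kernel
theorem sumD4 : tabD4.chkSum 6 14 22 = true := by decide +kernel
theorem sumF4 : tabF4.chkSum 12 24 46 = true := by decide +kernel
theorem sumE6 : tabE6.chkSum 11 46 70 = true := by decide +kernel
theorem sumE7 : tabE7.chkSum 17 93 124 = true := by decide +kernel
theorem sumE8 : tabE8.chkSum 29 120 238 = true := by decide +kernel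
theorem tailD4 : tabD4.chkLongTail 6 [] = true := by decide +kernel
theorem tailF4 : tabF4.chkLongTail 12 [(37, 17), (28, 22)] = true := by decide +kernel
theorem tailB2 : tabB2.chkLongTail 3 [(6, 3)] = true := by decide +kernel
theorem tailE6 : tabE6.chkLongTail 11 [] = true := by decide +kernel
theorem tailE7 : tabE7.chkLongTail 17 [] = true := by decide +kernel
theorem tailE8 : tabE8.chkLongTail 29 [] = true := by decide +kernel

/-- The parameters at one root. -/
def paramsAt {D : ChevalleyDatum} {T : Tab} {C : Tab.Cover} {K : Type*} [Field K]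
    (h : Cert D T C) (H : Subgroup (GL D.Idx K)) {r : ℕ} (hr : r < T.n) : AddSubgroup K where
  carrier := {t | X D r t ∈ H}
  zero_mem' := by rw [Set.mem_setOf_eq, h.X_zero hr]; exact one_mem H
  add_mem' := fun {a b} ha hb' => by
    rw [Set.mem_setOf_eq, ← h.X_add hr]; exact mul_mem ha hb'
  neg_mem' := fun {a} ha => by
    rw [Set.mem_setOf_eq, ← h.X_inv hr]; exact inv_mem ha

namespace Between

variable {D : ChevalleyDatum} {T : Tab} {C : Tab.Cover} {K : Type*} [Field K] {σ : K →+* K}
  {k : Subfield K} {H : Subgroup (GL D.Idx K)} (hb : Between D σ k H) (h : Cert D T C)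
include hb h

lemma X_mem {r : ℕ} (hr : r < T.n) {t : K} (ht : t ∈ k) : X D r t ∈ H :=
  hb.fixed _ (h.X_mem_group hr t) (by rw [h.X_map, (hb.mem_k t).1 ht])

lemma nS_mem {i : ℕ} (hi : i < T.l) : nS D K i ∈ H :=
  hb.fixed _ (h.monomial_le_group (h.nS_mem_monomial hi)) (h.nS_map σ i)

/-- Reflections carry the parameters. -/
lemma refl_param {i r : ℕ} (hi : i < T.l) (hr : r < T.n) (t : K) :
    X D (T.refl i r) t ∈ H ↔ X D r t ∈ H := by
  have hn := hb.nS_mem h hi
  have e := h.nS_conj_X (F := K) hi hr t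
  have key : X D r t ∈ H ↔ X D (T.refl i r) ((T.eta i r : K) * t) ∈ H := by
    rw [← e]
    refine ⟨fun ht => mul_mem (mul_mem hn ht) (inv_mem hn), fun ht => ?_⟩
    have := mul_mem (mul_mem (inv_mem hn) ht) hn
    rwa [show (nS D K i)⁻¹ * (nS D K i * X D r t * (nS D K i)⁻¹) * nS D K i = X D r t by group] at this
  rw [key]
  rcases T.eta_cases i r with a | a
  · simp [a]
  · rw [a, Int.cast_neg, Int.cast_one, neg_one_mul, ← h.X_inv (h.refl_lt hi hr), inv_mem_iff]

lemma long_param (htop : T.top < T.n) {n r : ℕ} (hr : (T.longBits n).testBit r = true) :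
    r < T.n ∧ ∀ t, X D r t ∈ H ↔ X D T.top t ∈ H := by
  refine T.orbWith_induction (P := fun r => r < T.n ∧ ∀ t, X D r t ∈ H ↔ X D T.top t ∈ H)
    (fun i hi r hr => ?_) n _ (fun r hr => ?_) r hr
  · rw [List.mem_range] at hi
    exact ⟨h.refl_lt hi hr.1, fun t => (hb.refl_param h hi hr.1 t).trans (hr.2 t)⟩
  · rw [Nat.testBit_two_pow, decide_eq_true_eq] at hr
    subst hr
    exact ⟨htop, fun t => Iff.rfl⟩

/-- The multipliers of the parameters contain the subfield when they contain its squares. -/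
lemma sq_mul_param (hf : T.chkFrame = true) {s x : K} (hs : s ∈ k) (hs0 : s ≠ 0)
    (hx : X D T.top x ∈ H) : X D T.top (s ^ 2 * x) ∈ H := by
  obtain ⟨ht1, ht2, ht3, ht4, ht5, ht6, ht7⟩ := h.frame_top hf
  have hU1 : hU D T.top s ∈ H := by
    simp only [hU, nU, h.agrees.neg_eq ht2, ht3]
    exact mul_mem
      (mul_mem (mul_mem (hb.X_mem h ht2 hs) (hb.X_mem h ht6 (neg_mem (inv_mem hs)))) (hb.X_mem h ht2 hs))
      (mul_mem (mul_mem (hb.X_mem h ht2 (neg_mem (one_mem k)))
        (hb.X_mem h ht6 (neg_mem (inv_mem (neg_mem (one_mem k)))))) (hb.X_mem h ht2 (neg_mem (one_mem k))))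
  obtain ⟨φ, -, hu, hv⟩ := h.exists_sl2_hom (F := K) ht2
  rw [ht3] at hv
  have key : hU D T.top s * X D T.top x * (hU D T.top s)⁻¹ = X D T.top (s ^ 2 * x) := by
    simp only [hU, nU, h.agrees.neg_eq ht2, ht3]
    simp only [← hu (SL2Pair.E _) _ rfl, ← hv (SL2Pair.L _) _ rfl, ← map_mul, ← map_inv]
    congr 1
    rw [mul_inv_eq_iff_eq_mul]
    apply Subtype.ext
    simp only [SL2Pair.val_mul, SL2Pair.E_val, SL2Pair.L_val, Matrix.mul_fin_two]
    ext i j
    fin_cases i <;> fin_cases j <;> simp <;> field_simp [hs0] <;> ring_nf <;> simp [hs0]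
  rw [← key]
  exact mul_mem (mul_mem hU1 hx) (inv_mem hU1)

/-- All parameters at the highest root, from a pair of long roots. -/
lemma top_all_of_sum [Finite K] (htop : T.top < T.n) {n a b : ℕ} (hs : T.chkSum n a b = true)
    (hmax : ∀ L : Subfield K, k ≤ L → L = k ∨ L = ⊤) {t₀ : K} (ht₀ : t₀ ∉ k)
    (hH : X D T.top t₀ ∈ H) (x : K) : X D T.top x ∈ H := by
  simp only [Tab.chkSum, Bool.and_eq_true, decide_eq_true_eq] at hs
  obtain ⟨⟨⟨hone, ha, hb', hne, hneg⟩, haO⟩, hbO⟩ := hs
  set S := paramsAt h H htop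
  have hmul : ∀ t u, t ∈ S → u ∈ S → t * u ∈ S := by
    intro t u ht hu
    have h1 := ((hb.long_param h htop haO).2 t).2 ht
    have h2 := ((hb.long_param h htop hbO).2 u).2 hu
    have h3 := mul_mem (inv_mem h2) (mul_mem (mul_mem h1 h2) (inv_mem h1))
    rw [h.conj_of_one ha hb' hne hneg hone t u, inv_mul_cancel_left] at h3
    rcases (Cert.one_spec (K := K) hone).2 with e | e <;> rw [e] at h3
    · rwa [one_mul] at h3
    · rw [neg_mul, neg_mul, one_mul, ← h.X_inv htop, inv_mem_iff] at h3; exact h3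
  have hkS : ∀ t ∈ k, t ∈ S := fun t ht => hb.X_mem h htop ht
  rcases hmax (SubfieldStep.multipliers S) (fun s hs =>
    SubfieldStep.mem_multipliers.2 fun u hu => hmul s u (hkS s hs) hu) with e | e
  · exact absurd (e ▸ (SubfieldStep.mem_multipliers.2 fun u hu => hmul t₀ u hH hu)) ht₀
  · have hx : x ∈ SubfieldStep.multipliers S := e ▸ Subfield.mem_top x
    have h1 := SubfieldStep.mem_multipliers.1 hx 1 (hkS 1 (one_mem k))
    rwa [mul_one] at h1

/-- Everything, given the highest root group and the short simple ones. -/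
lemma eq_group_of_simple (hsimple : ∀ i < T.l, ∀ t : K, X D (T.simple i) t ∈ H) : H = D.group K :=
  le_antisymm hb.le (h.group_le_of hsimple fun i hi => hb.nS_mem h hi)

/-- The simple root groups by the leading commutators. -/
lemma simple_mem_of_tail (htop : T.top < T.n) {n : ℕ} {W : List (ℕ × ℕ)}
    (hW : T.chkLongTail n W = true) (hall : ∀ t : K, X D T.top t ∈ H) {i : ℕ} (hi : i < T.l) (t : K) :
    X D (T.simple i) t ∈ H := by
  simp only [Tab.chkLongTail, List.all_eq_true, Bool.or_eq_true, List.any_eq_true, List.mem_range,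
    Bool.and_eq_true] at hW
  rcases hW i hi with e | ⟨⟨r, l⟩, -, hp, htail⟩
  · exact ((hb.long_param h htop e).2 t).2 (hall t)
  simp only [Tab.chkLead, Bool.and_eq_true, decide_eq_true_eq] at hp
  obtain ⟨⟨⟨hr, hl, hne, hneg⟩, hO⟩, hm⟩ := hp
  split at hm
  next q rest heq =>
    simp only [Bool.and_eq_true, decide_eq_true_eq, List.all_eq_true] at hm
    obtain ⟨⟨hq1, hqm, hqj⟩, -⟩ := hm
    simp only [heq, List.tail_cons] at htail
    set m := (q.2.1 : K) * (-1) ^ q.2.2.1 with hm'
    have hlong : ∀ x, X D l x ∈ H := fun x => ((hb.long_param h htop hO).2 x).2 (hall x)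
    have hm0 : m ≠ 0 := by
      rcases Int.natAbs_eq q.2.1 with e | e <;> rw [hqm] at e <;> simp [m, e]
    set x := m⁻¹ * t
    have h1 := mul_mem (inv_mem (hlong x))
      (mul_mem (mul_mem (hb.X_mem h hr (neg_mem (one_mem k))) (hlong x)) (hb.X_mem h hr (one_mem k)))
    rw [h.X_conj hr hl hne hneg 1 x, inv_mul_cancel_left, heq, List.map_cons, List.prod_cons, hqj,
      pow_one, hq1] at h1
    have h2 : (rest.map fun c => X D c.1 ((c.2.1 : K) * (-1) ^ c.2.2.1 * x ^ c.2.2.2)).prod ∈ H :=
      list_prod_mem fun g hg => by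
        obtain ⟨y, hy, rfl⟩ := List.mem_map.1 hg
        exact ((hb.long_param h htop (htail y hy)).2 _).2 (hall _)
    have h3 := mul_mem h1 (inv_mem h2)
    rw [mul_inv_cancel_right] at h3
    rwa [show (q.2.1 : K) * (-1) ^ q.2.2.1 * x = t by
      rw [← hm']; exact mul_inv_cancel_left₀ hm0 t] at h3
  next => exact absurd hm Bool.false_ne_true

end Between

/-- The statement proved type by type. -/
def Expands (D : ChevalleyDatum) (T : Tab) (K : Type*) [Field K] : Prop :=
  ∀ (σ : K →+* K) (k : Subfield K) (H : Subgroup (GL D.Idx K)), Between D σ k H →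
    (∀ L : Subfield K, k ≤ L → L = k ∨ L = ⊤) → ∀ t₀ ∉ k, X D T.top t₀ ∈ H → H = D.group K

theorem expands_of_checks {D : ChevalleyDatum} {T : Tab} {C : Tab.Cover} (h : Cert D T C)
    {K : Type*} [Field K] [Finite K] (htop : T.top < T.n) {n a b : ℕ} {W : List (ℕ × ℕ)}
    (hs : T.chkSum n a b = true) (hW : T.chkLongTail n W = true) : Expands D T K :=
  fun _ _ _ hb hmax _ ht₀ hH => hb.eq_group_of_simple h fun _ hi t =>
    hb.simple_mem_of_tail h htop hW (fun x => hb.top_all_of_sum h htop hs hmax ht₀ hH x) hi t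

lemma g2Lead : tabG2.commTerms 8 5 = [(7, -1, 1, 1), (9, -1, 2, 1), (11, -1, 3, 1), (10, -1, 3, 2)] ∧
    tabG2.pairing 6 7 = -1 ∧ tabG2.pairing 6 9 = 0 ∧
    ([5, 6, 10, 11].all fun r => (tabG2.longBits 5).testBit r) = true ∧
    tabG2.simple 0 = 7 ∧ tabG2.simple 1 = 6 ∧ tabG2.l = 2 ∧ tabG2.neg 6 = 5 := by
  decide +kernel

theorem expandsG2 {K : Type*} [Field K] [Finite K] : Expands chevG2 tabG2 K := by
  intro σ k H hb hmax t₀ ht₀ hH
  obtain ⟨elead, p7, p9, hlongs, s0, s1, el, e65⟩ := g2Lead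
  have htop : tabG2.top < tabG2.n := by decide +kernel
  have hlt : ∀ r, r < 12 → r < tabG2.n := fun r hr => by rw [g2Basic.2.1]; exact hr
  have hall : ∀ x, X chevG2 tabG2.top x ∈ H := fun x =>
    hb.top_all_of_sum certG2 htop sumG2 hmax ht₀ hH x
  simp only [List.all_eq_true] at hlongs
  have hlong : ∀ r ∈ [5, 6, 10, 11], ∀ x, X chevG2 r x ∈ H := fun r hr x =>
    ((hb.long_param certG2 htop (hlongs r hr)).2 x).2 (hall x)
  refine hb.eq_group_of_simple certG2 fun i hi t => ?_
  rw [el] at hi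
  interval_cases i
  swap
  · rw [s1]; exact hlong 6 (by simp) t
  rw [s0]
  have hA : ∀ x, X chevG2 7 x * X chevG2 9 (-x) ∈ H := by
    intro x
    have h1 := mul_mem (inv_mem (hlong 5 (by simp) x))
      (mul_mem (mul_mem (hb.X_mem certG2 (hlt 8 (by norm_num)) (neg_mem (one_mem k))) (hlong 5 (by simp) x))
        (hb.X_mem certG2 (hlt 8 (by norm_num)) (one_mem k)))
    rw [certG2.X_conj (hlt 8 (by norm_num)) (hlt 5 (by norm_num)) (by norm_num)
      (by simp [Tab.neg, g2Basic.2.1]) 1 x, inv_mul_cancel_left, elead] at h1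
    simp only [List.map_cons, List.map_nil, List.prod_cons, List.prod_nil, mul_one, pow_one,
      Int.cast_neg, Int.cast_one, neg_sq, one_pow] at h1
    norm_num at h1
    have h2 := mul_mem h1 (inv_mem (mul_mem (hlong 11 (by simp) x) (hlong 10 (by simp) (x ^ 2))))
    rwa [← mul_assoc, mul_inv_cancel_right] at h2
  have ht00 : t₀ ≠ 0 := fun e => ht₀ (e ▸ zero_mem k)
  have hs1 : t₀⁻¹ - 1 ≠ 0 := fun e => ht₀ (by
    rw [inv_eq_one.1 (sub_eq_zero.1 e)]; exact one_mem k)
  have hh : hU chevG2 6 t₀ ∈ H := by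
    simp only [hU, nU, certG2.agrees.neg_eq (hlt 6 (by norm_num)), e65]
    exact mul_mem (mul_mem (mul_mem (hlong 6 (by simp) _) (hlong 5 (by simp) _)) (hlong 6 (by simp) _))
      (mul_mem (mul_mem (hlong 6 (by simp) _) (hlong 5 (by simp) _)) (hlong 6 (by simp) _))
  have hconj : ∀ r, r < 12 → ∀ x : K, hU chevG2 6 t₀ * X chevG2 r x * (hU chevG2 6 t₀)⁻¹ =
      X chevG2 r (t₀ ^ tabG2.pairing 6 r * x) := by
    intro r hr x
    rw [mul_inv_eq_iff_eq_mul]
    refine Units.ext ?_
    rw [Units.val_mul, Units.val_mul, certG2.coe_hU, certG2.coe_X, certG2.coe_X,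
      certG2.hMat_mul_x (hlt 6 (by norm_num)) ht00 (hlt r hr)]
  set x := (t₀⁻¹ - 1)⁻¹ * t
  have h1 := mul_mem (mul_mem (mul_mem hh (hA x)) (inv_mem hh)) (inv_mem (hA x))
  rw [show hU chevG2 6 t₀ * (X chevG2 7 x * X chevG2 9 (-x)) * (hU chevG2 6 t₀)⁻¹ =
    (hU chevG2 6 t₀ * X chevG2 7 x * (hU chevG2 6 t₀)⁻¹) *
      (hU chevG2 6 t₀ * X chevG2 9 (-x) * (hU chevG2 6 t₀)⁻¹) by group,
    hconj 7 (by norm_num), hconj 9 (by norm_num), p7, p9, zpow_zero, one_mul, _root_.zpow_neg_one,
    _root_.mul_inv_rev, mul_assoc, mul_inv_cancel_left, certG2.X_inv (hlt 7 (by norm_num)),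
    certG2.X_add (hlt 7 (by norm_num))] at h1
  rwa [show t₀⁻¹ * x + -x = t by
    rw [show t₀⁻¹ * x + -x = (t₀⁻¹ - 1) * x by ring, mul_inv_cancel_left₀ hs1]] at h1

theorem expandsB2 {K : Type*} [Field K] [Finite K] : Expands chevB2 tabB2 K := by
  intro σ k H hb hmax t₀ ht₀ hH
  obtain ⟨etop, hn, -, hl, -⟩ := b2Basic
  have hlt : ∀ r, r < 8 → r < tabB2.n := fun r hr => by rw [hn]; exact hr
  have htop : tabB2.top < tabB2.n := by rw [etop]; exact hlt 7 (by norm_num)
  have hlongs : ([3, 4].all fun r => (tabB2.longBits 3).testBit r) = true := by decide +kernel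
  simp only [List.all_eq_true] at hlongs
  have hlong : ∀ r ∈ [3, 4], ∀ x, X chevB2 r x ∈ H ↔ X chevB2 tabB2.top x ∈ H := fun r hr =>
    (hb.long_param certB2 htop (hlongs r hr)).2
  set S := paramsAt certB2 H htop
  have h7 : ∀ x, X chevB2 7 x ∈ H ↔ x ∈ S := fun x => by
    show _ ↔ X chevB2 tabB2.top x ∈ H; rw [etop]
  have h56 : ∀ x, X chevB2 6 x ∈ H ↔ X chevB2 5 x ∈ H := fun x => by
    have := hb.refl_param certB2 hl (hlt 5 (by norm_num)) x
    rwa [b2Refl.2.1] at this
  -- long to short
  have hTS : ∀ x ∈ S, X chevB2 5 x ∈ H := by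
    intro x hx
    have h3 := (hlong 3 (by simp) x).2 hx
    have h1 := mul_mem (inv_mem h3) (mul_mem (mul_mem (hb.X_mem certB2 (hlt 6 (by norm_num))
      (neg_mem (one_mem k))) h3) (hb.X_mem certB2 (hlt 6 (by norm_num)) (one_mem k)))
    rw [certB2.X_conj (hlt 6 (by norm_num)) (hlt 3 (by norm_num)) (by norm_num)
      (by simp [Tab.neg, hn]) 1 x, inv_mul_cancel_left, b2CommB.1] at h1
    simp only [List.map_cons, List.map_nil, List.prod_cons, List.prod_nil, mul_one, pow_one,
      Int.cast_neg, Int.cast_one, neg_sq, one_pow, one_mul, neg_mul_neg] at h1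
    have h2 := mul_mem h1 (inv_mem ((h7 x).2 hx))
    rwa [mul_inv_cancel_right] at h2
  -- short squares to long
  have hST : ∀ x, X chevB2 5 x ∈ H → x ^ 2 ∈ S := by
    intro x hx
    have hX4 := hb.X_mem certB2 (hlt 4 (by norm_num)) (one_mem k)
    have h1 := mul_mem (inv_mem hx) (mul_mem (mul_mem (hb.X_mem certB2 (hlt 4 (by norm_num))
      (neg_mem (one_mem k))) hx) hX4)
    rw [certB2.X_conj (hlt 4 (by norm_num)) (hlt 5 (by norm_num)) (by norm_num)
      (by simp [Tab.neg, hn]) 1 x, inv_mul_cancel_left, b2CommA.2.2.1] at h1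
    simp only [List.map_cons, List.map_nil, List.prod_cons, List.prod_nil, mul_one, pow_one,
      Int.cast_neg, Int.cast_one, one_mul, neg_mul, _root_.neg_neg] at h1
    have h6 : X chevB2 6 (-x) ∈ H := by
      rw [← certB2.X_inv (hlt 6 (by norm_num))]; exact inv_mem ((h56 x).2 hx)
    have h2 := mul_mem (inv_mem h6) h1
    rw [inv_mul_cancel_left] at h2
    exact (h7 _).1 h2
  have hkS : ∀ t ∈ k, t ∈ S := fun t ht => hb.X_mem certB2 htop ht
  have htop_all : ∀ x, x ∈ S := by
    intro x
    have finish : SubfieldStep.multipliers S = ⊤ → x ∈ S := fun e => by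
      have hx : x ∈ SubfieldStep.multipliers S := e ▸ Subfield.mem_top x
      have h1 := SubfieldStep.mem_multipliers.1 hx 1 (hkS 1 (one_mem k))
      rwa [mul_one] at h1
    have hksq : ∀ s ∈ k, s ^ 2 ∈ SubfieldStep.multipliers S := fun s hs =>
      SubfieldStep.mem_multipliers.2 fun u hu => by
        by_cases hs0 : s = 0
        · subst hs0; simp
        exact hb.sq_mul_param certB2 frameB2.1 hs hs0 hu
    by_cases h2 : (2 : K) = 0
    · have : CharP K 2 := CharTwo.of_one_ne_zero_of_two_eq_zero one_ne_zero h2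
      have hk : k ≤ SubfieldStep.multipliers S := fun s hs => by
        have hsurj : Function.Surjective fun y : k => y ^ 2 :=
          Finite.surjective_of_injective fun a b hab => Subtype.ext
            (CharTwo.sq_injective (by simpa using congrArg Subtype.val hab))
        obtain ⟨y, hy⟩ := hsurj ⟨s, hs⟩
        have e : (y : K) ^ 2 = s := by simpa using congrArg Subtype.val hy
        rw [← e]; exact hksq _ y.2
      have hneg : ∀ y : K, -y = y := CharTwo.neg_eq
      -- the squares fill the parameters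
      have hsqsurj : ∀ v ∈ S, ∃ w ∈ S, w ^ 2 = v := by
        intro v hv
        have hsurj : Function.Surjective fun y : S => (⟨(y : K) ^ 2, hST _ (hTS _ y.2)⟩ : S) :=
          Finite.surjective_of_injective fun a b hab => Subtype.ext
            (CharTwo.sq_injective (by simpa using congrArg Subtype.val hab))
        obtain ⟨y, hy⟩ := hsurj ⟨v, hv⟩
        exact ⟨y, y.2, by simpa using congrArg Subtype.val hy⟩
      have hq : ∀ t ∈ S, t + t ^ 2 ∈ SubfieldStep.multipliers S := by
        intro t ht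
        refine SubfieldStep.mem_multipliers.2 fun v hv => ?_
        obtain ⟨w, hw, rfl⟩ := hsqsurj v hv
        -- x_6(tw) x_7(tw²)
        have h45 : ∀ s w : K, X chevB2 4 (-s) * X chevB2 5 w * X chevB2 4 s =
            X chevB2 5 w * (X chevB2 6 (s * w) * X chevB2 7 (s * w ^ 2)) := by
          intro s w
          have := certB2.X_conj (F := K) (hlt 4 (by norm_num)) (hlt 5 (by norm_num)) (by norm_num)
            (by simp [Tab.neg, hn]) s w
          rw [b2CommA.2.2.1] at this
          simpa [hneg] using this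
        have hmk : ∀ s y : K, X chevB2 4 s ∈ H → X chevB2 5 y ∈ H →
            X chevB2 6 (s * y) * X chevB2 7 (s * y ^ 2) ∈ H := by
          intro s y hs hy
          have := mul_mem (inv_mem hy) (mul_mem (mul_mem (inv_mem hs) hy) hs)
          rwa [certB2.X_inv (hlt 4 (by norm_num)), h45, inv_mul_cancel_left] at this
        have hP := hmk t w ((hlong 4 (by simp) t).2 ht) (hTS w hw)
        -- its mirror image
        have hn1 := hb.nS_mem certB2 hl
        have cn : ∀ r, r < 8 → ∀ x : K,
            nS chevB2 K 1 * X chevB2 r x * (nS chevB2 K 1)⁻¹ = X chevB2 (tabB2.refl 1 r) x := by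
          intro r hr x
          rw [certB2.nS_conj_X hl (hlt r hr) x]
          rcases tabB2.eta_cases 1 r with a | a <;> simp [a, hneg]
        have hP5 := mul_mem (mul_mem hn1 hP) (inv_mem hn1)
        rw [show nS chevB2 K 1 * (X chevB2 6 (t * w) * X chevB2 7 (t * w ^ 2)) * (nS chevB2 K 1)⁻¹ =
          (nS chevB2 K 1 * X chevB2 6 (t * w) * (nS chevB2 K 1)⁻¹) *
            (nS chevB2 K 1 * X chevB2 7 (t * w ^ 2) * (nS chevB2 K 1)⁻¹) by group,
          cn 6 (by norm_num), cn 7 (by norm_num), b2Refl.2.2.1, b2Refl.2.2.2.1] at hP5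
        have hX4 := hb.X_mem certB2 (hlt 4 (by norm_num)) (one_mem k)
        have h3 := mul_mem (inv_mem hP5) (mul_mem (mul_mem (inv_mem hX4) hP5) hX4)
        have c47 : Commute (X chevB2 4 (1 : K)) (X chevB2 7 (t * w ^ 2)) :=
          Over.b2_comm certB2 (by simp) _ _
        rw [show (X chevB2 4 (1 : K))⁻¹ * (X chevB2 5 (t * w) * X chevB2 7 (t * w ^ 2)) * X chevB2 4 1 =
          ((X chevB2 4 (1 : K))⁻¹ * X chevB2 5 (t * w) * X chevB2 4 1) *
            ((X chevB2 4 (1 : K))⁻¹ * (X chevB2 7 (t * w ^ 2) * X chevB2 4 1)) by group,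
          ← c47.eq, inv_mul_cancel_left, certB2.X_inv (hlt 4 (by norm_num)), h45, one_mul, one_mul,
          _root_.mul_inv_rev, mul_assoc (X chevB2 7 (t * w ^ 2))⁻¹, mul_assoc (X chevB2 5 (t * w)),
          inv_mul_cancel_left] at h3
        have c76 : Commute (X chevB2 7 (t * w ^ 2)) (X chevB2 6 (t * w) * X chevB2 7 ((t * w) ^ 2)) := by
          refine Commute.mul_right ?_ ?_
          · have := certB2.pos_commute_top frameB2.1 (r := 6) (by rw [Tab.half, hn]; norm_num)
              (hlt 6 (by norm_num)) (t * w) (t * w ^ 2)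
            rw [etop] at this
            exact this.symm
          · show X chevB2 7 _ * X chevB2 7 _ = X chevB2 7 _ * X chevB2 7 _
            rw [certB2.X_add (hlt 7 (by norm_num)), certB2.X_add (hlt 7 (by norm_num)), add_comm]
        rw [← c76.eq, inv_mul_cancel_left] at h3
        have h4 := mul_mem (inv_mem hP) h3
        rw [_root_.mul_inv_rev, mul_assoc, inv_mul_cancel_left, certB2.X_inv (hlt 7 (by norm_num)),
          hneg, certB2.X_add (hlt 7 (by norm_num))] at h4
        have h5 := (h7 _).1 h4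
        rwa [show t * w ^ 2 + (t * w) ^ 2 = (t + t ^ 2) * w ^ 2 by ring] at h5
      rcases hmax _ hk with e | e
      swap
      · exact finish e
      have hc0 : t₀ + t₀ ^ 2 ∈ k := e ▸ hq t₀ hH
      let S' : AddSubgroup K :=
        { carrier := {y | ∃ a ∈ k, ∃ b ∈ k, y = a + b * t₀}
          zero_mem' := ⟨0, zero_mem k, 0, zero_mem k, by ring⟩
          add_mem' := by
            rintro _ _ ⟨a, ha, b, hb, rfl⟩ ⟨a', ha', b', hb', rfl⟩
            exact ⟨a + a', add_mem ha ha', b + b', add_mem hb hb', by ring⟩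
          neg_mem' := by
            rintro _ ⟨a, ha, b, hb, rfl⟩
            exact ⟨-a, neg_mem ha, -b, neg_mem hb, by ring⟩ }
      have hk' : k ≤ SubfieldStep.multipliers S' := fun s hs => SubfieldStep.mem_multipliers.2 fun y hy => by
        obtain ⟨a, ha, b, hb, rfl⟩ := hy
        exact ⟨s * a, mul_mem hs ha, s * b, mul_mem hs hb, by ring⟩
      rcases hmax _ hk' with e' | e'
      · refine absurd (e' ▸ (SubfieldStep.mem_multipliers.2 fun y hy => ?_)) ht₀
        obtain ⟨a, ha, b, hb, rfl⟩ := hy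
        exact ⟨b * (t₀ + t₀ ^ 2), mul_mem hb hc0, a - b, sub_mem ha hb, by ring⟩
      · have hx : x ∈ SubfieldStep.multipliers S' := e' ▸ Subfield.mem_top x
        obtain ⟨a, ha, b, hb, hab⟩ := SubfieldStep.mem_multipliers.1 hx 1
          ⟨1, one_mem k, 0, zero_mem k, by ring⟩
        rw [mul_one] at hab
        have hbm : b ∈ SubfieldStep.multipliers S := hk hb
        rw [hab]
        exact add_mem (hkS a ha) (SubfieldStep.mem_multipliers.1 hbm t₀ hH)
    · -- odd characteristic
      have hmul : ∀ t ∈ S, 2 * t ∈ SubfieldStep.multipliers S := by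
        intro t ht
        refine SubfieldStep.mem_multipliers.2 fun u hu => ?_
        have hu6 := (h56 _).2 (hTS u hu)
        have ht5 := hTS t ht
        have h1 := mul_mem (inv_mem ht5) (mul_mem (mul_mem hu6 ht5) (inv_mem hu6))
        rw [Over.b2_swap certB2, show X chevB2 5 t * (X chevB2 6 u * X chevB2 7 (-2 * u * t)) *
          (X chevB2 6 u)⁻¹ = X chevB2 5 t * (X chevB2 6 u * X chevB2 7 (-2 * u * t) * (X chevB2 6 u)⁻¹) by
            group, inv_mul_cancel_left] at h1
        have c67 := certB2.pos_commute_top frameB2.1 (r := 6) (by rw [Tab.half, hn]; norm_num)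
          (hlt 6 (by norm_num)) u (-2 * u * t)
        rw [etop] at c67
        rw [c67.eq, mul_inv_cancel_right] at h1
        have h2 := neg_mem ((h7 _).1 h1)
        rwa [show -(-2 * u * t) = 2 * t * u by ring] at h2
      have h2M : (2 : K) ∈ SubfieldStep.multipliers S := by
        have := hmul 1 (hkS 1 (one_mem k))
        rwa [mul_one] at this
      have hM : ∀ t ∈ S, t ∈ SubfieldStep.multipliers S := fun t ht => by
        have := mul_mem (inv_mem h2M) (hmul t ht)
        rwa [inv_mul_cancel_left₀ h2] at this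
      rcases hmax _ (fun s hs => hM s (hkS s hs)) with e | e
      · exact absurd (e ▸ hM t₀ hH) ht₀
      · exact finish e
  exact hb.eq_group_of_simple certB2 fun i hi t =>
    hb.simple_mem_of_tail certB2 htop tailB2 htop_all hi t

end CfsgLib.Chev
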