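import Cfsg.Agent.Lib.Chev.SubfieldRat
import Cfsg.Agent.Lib.Chev.All

/-!
Characteristic two in type F4: the short coordinates of a frame element.

A long root element of the Levi part, as a commutator, is carried into the overgroup by the frame element. This gives
`x_w(u) x_top(u²)`, and two commutators with fixed short root elements separate the two factors.
-/

set_option autoImplicit false
set_option maxRecDepth 100000

namespace CfsgLib.Chev

open Cfsg.Lie Matrix

/-- The data for one short root `γ`: `δ = g + r`, `r = a + 0`, `w = γ + δ`, `w2 = w + e`. -/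
structure ShortDatum where
  /-- The short root. -/
  γ : ℕ
  /-- The long root of the Levi part. -/
  δ : ℕ
  /-- A long root of `Q`. -/
  a : ℕ
  /-- The sum with the lowest root. -/
  r : ℕ
  /-- Another long root of `Q`. -/
  g : ℕ
  /-- The short root reached. -/
  w : ℕ
  /-- The short root separating. -/
  e : ℕ
  /-- The second short root. -/
  w2 : ℕ

namespace Tab

variable (T : Tab)

/-- The check of one datum against the roots `S`. -/
def chkShortTwo (S : List ℕ) (d : ShortDatum) : Bool :=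
  T.inQ d.γ && decide (d.γ ≠ T.top) && T.inQ d.a && T.inQ d.g && T.inQ d.w &&
    decide (T.coef d.a d.a = 0 ∧ T.coef d.g d.g = 0 ∧ T.coef d.w d.w = 0) &&
    decide (d.a ≠ T.top ∧ d.r < T.n ∧ d.δ < T.n ∧ d.e < T.n ∧ d.w2 < T.n) &&
    T.one d.a 0 d.r && T.one d.g d.r d.δ &&
    decide (d.r ≠ d.g ∧ d.r ≠ T.neg d.g ∧ d.γ ≠ d.δ ∧ d.γ ≠ T.neg d.δ) &&
    (T.commTerms d.e T.top).isEmpty && decide (d.e ≠ T.top ∧ d.e ≠ 0) &&
    T.one d.e d.w d.w2 && decide (d.w ≠ d.e ∧ d.w ≠ T.neg d.e) &&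
    T.one (T.neg d.e) d.w2 d.w && decide (d.w2 ≠ d.e ∧ d.w2 ≠ T.neg d.e) &&
    (match T.commTerms d.δ d.γ with
      | [q, q'] => decide (q.1 = d.w ∧ q.2.1.natAbs = 1 ∧ q.2.2.2 = 1 ∧ q'.1 = T.top ∧
          q'.2.1.natAbs = 1 ∧ q'.2.2.2 = 2)
      | _ => false) &&
    T.qList.all fun s => !(decide (s ∈ S) || decide (s = T.top)) ||
      (decide (T.coef d.a s = 0) && decide (T.coef d.g s = 0) && decide (2 ∣ T.coef d.w s) &&
        (decide (s = d.γ) ||
          (decide (s ≠ d.δ ∧ s ≠ T.neg d.δ) && (T.commTerms d.δ s).isEmpty)))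

end Tab

/-- The data for F4. -/
def shortDataF4 : List ShortDatum :=
  [⟨29, 41, 42, 15, 46, 44, 10, 36⟩, ⟨36, 30, 31, 4, 46, 40, 10, 29⟩, ⟨38, 25, 26, 2, 46, 39, 12, 29⟩,
   ⟨39, 22, 24, 1, 45, 38, 13, 29⟩, ⟨40, 17, 24, 1, 43, 36, 14, 29⟩, ⟨44, 6, 24, 1, 32, 29, 33, 36⟩]

theorem shortTwoF4 :
    (shortDataF4.all (tabF4.chkShortTwo [29, 36, 38, 39, 40, 44]) &&
      decide (shortDataF4.map ShortDatum.γ = [29, 36, 38, 39, 40, 44])) = true := by
  decide +kernel

namespace Over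

open Cert (inQ_lt one_spec mem_qList sortedLT_qList sum_single_of_zero)

variable {D : ChevalleyDatum} {T : Tab} {C : Tab.Cover} {K : Type*} [Field K] {σ : K →+* K}
  {k : Subfield K} {H : Subgroup (GL D.Idx K)} (ho : Over D T σ k H) (h : Cert D T C)
  (hf : T.chkFrame = true)
include ho h hf

omit hf in
/-- The commutator with a fixed element. -/
lemma conj_term_mem {e s w : ℕ} (he : e < T.n) (hs : s < T.n) (hne : s ≠ e) (hneg : s ≠ T.neg e)
    (h1 : T.one e s w = true) {z : GL D.Idx K} {x : K} (hz : Commute z (X D e 1))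
    (hm : z * X D s x ∈ H) : X D w ((T.coef e s : K) * x) ∈ H := by
  have hH := mul_mem (inv_mem hm)
    (mul_mem (mul_mem (ho.X_mem h he (one_mem k)) hm) (inv_mem (ho.X_mem h he (one_mem k))))
  have e1 := h.conj_of_one (K := K) he hs hne hneg h1 1 x
  rw [mul_one] at e1
  have : (z * X D s x)⁻¹ * (X D e 1 * (z * X D s x) * (X D e 1)⁻¹) =
      X D w ((T.coef e s : K) * x) := by
    calc (z * X D s x)⁻¹ * (X D e 1 * (z * X D s x) * (X D e 1)⁻¹)
        = (X D s x)⁻¹ * (z⁻¹ * (X D e 1 * z) * X D s x * (X D e 1)⁻¹) := by group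
      _ = (X D s x)⁻¹ * (X D e 1 * X D s x * (X D e 1)⁻¹) := by
          rw [← hz.eq, inv_mul_cancel_left]
      _ = _ := by rw [e1, inv_mul_cancel_left]
  rwa [this] at hH

/-- The short coordinates in characteristic two. -/
theorem short_mem_two [Finite k] [CharP K 2] {S : List ℕ} {d : ShortDatum}
    (hd : T.chkShortTwo S d = true) (hγS : d.γ ∈ S) {c : K} {t : ℕ → K}
    (hS : Sted D T H c (prodX D T.qList t)) (hck : c ∈ k)
    (ht : ∀ r ∈ T.qList, r ∉ S → r ≠ T.top → t r = 0) : t d.γ ∈ k := by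
  obtain ⟨ht1, ht2, ht3, ht4, ht5, ht6, ht7⟩ := h.frame_top hf
  simp only [Tab.chkShortTwo, Bool.and_eq_true, decide_eq_true_eq, List.isEmpty_iff,
    List.all_eq_true, Bool.or_eq_true, Bool.not_eq_true', Bool.or_eq_false_iff,
    decide_eq_false_iff_not] at hd
  obtain ⟨⟨⟨⟨⟨⟨⟨⟨⟨⟨⟨⟨⟨⟨⟨⟨⟨hγQ, hγt⟩, haQ⟩, hgQ⟩, hwQ⟩, ha0, hg0, hw0⟩, hat, hrn, hδn, hen, hw2n⟩,
    e0⟩, eg⟩, hrg, hrg', hγδ, hγδ'⟩, heT⟩, heT', he0⟩, ew⟩, hwe, hwe'⟩, ew2⟩, hw2e, hw2e'⟩, eδ⟩, hs⟩ := hd
  set q := prodX D T.qList t with hq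
  have hqQ : q ∈ Qgrp D T K := hS.2.1
  have hpar : ∀ s ∈ T.qList, t s = 0 ∨ (T.coef d.a s = 0 ∧ T.coef d.g s = 0 ∧ 2 ∣ T.coef d.w s ∧
      (s = d.γ ∨ ((s ≠ d.δ ∧ s ≠ T.neg d.δ) ∧ T.commTerms d.δ s = []))) := by
    intro s hsq
    rcases hs s hsq with e | e
    · exact Or.inl (ht s hsq e.1 e.2)
    · exact Or.inr ⟨e.1.1.1, e.1.1.2, e.1.2, e.2⟩
  have h20 : (2 : K) = 0 := CharTwo.two_eq_zero
  have hzero : ∀ b, T.inQ b = true → T.coef b b = 0 →
      (∀ s ∈ T.qList, t s * (T.coef b s : K) = 0) → Brk D T b q 0 := by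
    intro b hb hb0 hz
    have := h.Brk_prodX hf hb hb0 t
    rwa [List.sum_eq_zero (fun x hx => by
      obtain ⟨s, hs, rfl⟩ := List.mem_map.1 hx; exact hz s hs)] at this
  have hqa := Cert.Brk.commute_zero h hf (hzero _ haQ ha0 fun s hs => by
    rcases hpar s hs with e | e <;> simp [e])
  have hqg := Cert.Brk.commute_zero h hf (hzero _ hgQ hg0 fun s hs => by
    rcases hpar s hs with e | e <;> simp [e])
  -- the carried root element of r
  set sA := ((T.coef d.a 0 : K) * c)⁻¹ with hsA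
  have hγ0 : (T.coef d.a 0 : K) * c ≠ 0 := by
    rcases (one_spec (K := K) e0).2 with e | e <;> simp [e, hS.1]
  have hsk : sA ∈ k := inv_mem (mul_mem (intCast_mem k _) hck)
  have han := (inQ_lt haQ).2
  have hgn := (inQ_lt hgQ).2
  have hXr : q * X D d.r 1 * q⁻¹ ∈ H := by
    have h1 := mul_mem (inv_mem hS.2.2)
      (mul_mem (mul_mem (ho.X_mem h han hsk) hS.2.2) (inv_mem (ho.X_mem h han hsk)))
    have e1 := h.conj_of_one han ht6 (fun e => by have := (inQ_lt haQ).1; omega)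
      (fun e => hat (by rw [← Cert.neg_neg (T := T) han, ← e, ht7])) e0 sA c
    rw [show (T.coef d.a 0 : K) * sA * c = 1 by
      rw [hsA, mul_comm _ ((_ : K)⁻¹), mul_assoc, inv_mul_cancel₀ hγ0]] at e1
    have : (q * X D 0 c * q⁻¹)⁻¹ * (X D d.a sA * (q * X D 0 c * q⁻¹) * (X D d.a sA)⁻¹) =
        q * X D d.r 1 * q⁻¹ := by
      calc (q * X D 0 c * q⁻¹)⁻¹ * (X D d.a sA * (q * X D 0 c * q⁻¹) * (X D d.a sA)⁻¹)
          = q * (X D 0 c)⁻¹ * q⁻¹ * ((X D d.a sA * q) * X D 0 c * (X D d.a sA * q)⁻¹) := by group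
        _ = q * (X D 0 c)⁻¹ * q⁻¹ * ((q * X D d.a sA) * X D 0 c * (q * X D d.a sA)⁻¹) := by
            rw [(hqa sA).eq]
        _ = q * ((X D 0 c)⁻¹ * (X D d.a sA * X D 0 c * (X D d.a sA)⁻¹)) * q⁻¹ := by group
        _ = _ := by rw [e1, inv_mul_cancel_left]
    rwa [this] at h1
  -- the carried root element of δ
  have hXg : q * X D d.g 1 * q⁻¹ ∈ H := by
    rw [← (hqg 1).eq, mul_inv_cancel_right]; exact ho.X_mem h hgn (one_mem k)
  set m := (T.coef d.g d.r : K) with hm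
  have hm1 : m = 1 := by
    rcases (one_spec (K := K) eg).2 with e | e <;> rw [hm, e]
    exact CharTwo.neg_eq 1
  have hXδ : q * X D d.δ 1 * q⁻¹ ∈ H := by
    have h1 := mul_mem (inv_mem hXr) (mul_mem (mul_mem hXg hXr) (inv_mem hXg))
    have e1 := h.conj_of_one (K := K) hgn hrn hrg hrg' eg 1 1
    rw [← hm, hm1, one_mul, one_mul] at e1
    rwa [show (q * X D d.r 1 * q⁻¹)⁻¹ * (q * X D d.g 1 * q⁻¹ * (q * X D d.r 1 * q⁻¹) *
      (q * X D d.g 1 * q⁻¹)⁻¹) =
      q * ((X D d.r 1)⁻¹ * (X D d.g 1 * X D d.r 1 * (X D d.g 1)⁻¹)) * q⁻¹ by group, e1,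
      inv_mul_cancel_left] at h1
  have hE := mul_mem (inv_mem (ho.X_mem h hδn (one_mem k))) hXδ
  -- the two factors
  set u := t d.γ with hu
  have hwbrk : ∀ s ∈ T.qList, t s = 0 ∨ Brk D T d.w (X D s (t s)) 0 := by
    intro s hs
    rcases hpar s hs with e | e
    · exact Or.inl e
    obtain ⟨z, hz⟩ := e.2.2.1
    have := h.Brk_coef hf hwQ (mem_qList.1 hs) hw0 (t s)
    rw [hz, Int.cast_mul, Int.cast_ofNat, h20, zero_mul, mul_zero] at this
    exact Or.inr this
  have hterms : ∃ q1 q2 : ℕ × ℤ × ℕ × ℕ, T.commTerms d.δ d.γ = [q1, q2] ∧ q1.1 = d.w ∧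
      q1.2.1.natAbs = 1 ∧ q1.2.2.2 = 1 ∧ q2.1 = T.top ∧ q2.2.1.natAbs = 1 ∧ q2.2.2.2 = 2 := by
    split at eδ
    next q1 q2 heq =>
      simp only [decide_eq_true_eq] at eδ
      exact ⟨q1, q2, heq, eδ⟩
    next => exact absurd eδ Bool.false_ne_true
  obtain ⟨q1, q2, eterm, w1, m1, j1, w2', m2, j2⟩ := hterms
  have hunit : ∀ z : ℤ, z.natAbs = 1 → (z : K) = 1 := fun z hz => by
    rcases Int.natAbs_eq z with e | e <;> rw [hz] at e <;> simp [e, CharTwo.neg_eq]
  have key : ∀ L : List ℕ, L.Nodup → (∀ s ∈ L, s ∈ T.qList) →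
      (X D d.δ (1 : K))⁻¹ * prodX D L t * X D d.δ 1 =
        prodX D L t * if d.γ ∈ L then X D d.w u * X D T.top (u ^ 2) else 1 := by
    intro L
    induction L with
    | nil => intro _ _; simp [prodX]
    | cons s L ih =>
      intro hLn hLq
      rw [List.nodup_cons] at hLn
      have hsQ := hLq s List.mem_cons_self
      have hsn := (inQ_lt (mem_qList.1 hsQ)).2
      have ih' := ih hLn.2 fun x hx => hLq x (List.mem_cons_of_mem _ hx)
      simp only [prodX, List.map_cons, List.prod_cons] at ih' ⊢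
      rw [show (X D d.δ (1 : K))⁻¹ * (X D s (t s) * (L.map fun r => X D r (t r)).prod) * X D d.δ 1 =
        ((X D d.δ (1 : K))⁻¹ * X D s (t s) * X D d.δ 1) *
          ((X D d.δ (1 : K))⁻¹ * (L.map fun r => X D r (t r)).prod * X D d.δ 1) by group, ih']
      by_cases e : s = d.γ
      · subst e
        rw [if_neg hLn.1, mul_one, if_pos List.mem_cons_self]
        have h8 := h.X_conj (F := K) hδn hsn hγδ hγδ' 1 (t d.γ)
        rw [← h.X_inv hδn, eterm] at h8
        simp only [List.map_cons, List.map_nil, List.prod_cons, List.prod_nil, mul_one, w1, w2', j1,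
          j2, hunit _ m1, hunit _ m2, one_mul, pow_one, CharTwo.neg_eq, one_pow] at h8
        rw [h8]
        -- move the two factors to the right
        have hc1 : Commute (X D d.w u * X D T.top (u ^ 2)) ((L.map fun r => X D r (t r)).prod) := by
          refine Commute.list_prod_right _ _ fun g hg => ?_
          obtain ⟨x, hx, rfl⟩ := List.mem_map.1 hg
          have hxQ := hLq x (List.mem_cons_of_mem _ hx)
          refine Commute.mul_left ?_ (h.pos_commute_top hf (inQ_lt (mem_qList.1 hxQ)).1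
            (inQ_lt (mem_qList.1 hxQ)).2 _ _).symm
          rcases hwbrk x hxQ with e | e
          · rw [e, h.X_zero (inQ_lt (mem_qList.1 hxQ)).2]; exact Commute.one_right _
          · exact Cert.Brk.commute_zero h hf e u
        have := hc1.eq
        simp only [hu] at this ⊢
        simp only [mul_assoc] at this ⊢
        rw [this]
      · have hc : (X D d.δ (1 : K))⁻¹ * X D s (t s) * X D d.δ 1 = X D s (t s) := by
          rcases hpar s hsQ with e' | e'
          · rw [e', h.X_zero hsn, mul_one, inv_mul_cancel]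
          · obtain ⟨⟨n1, n2⟩, n3⟩ := e'.2.2.2.resolve_left e
            rw [mul_assoc, ← (h.commute_of_nil hδn hsn n1 n2 n3 1 (t s)).eq, inv_mul_cancel_left]
        rw [hc]
        have : (d.γ ∈ s :: L) ↔ d.γ ∈ L := by simp [Ne.symm e]
        simp only [this, mul_assoc]
  have hEeq := key T.qList sortedLT_qList.nodup fun _ hs => hs
  rw [if_pos (mem_qList.2 hγQ)] at hEeq
  have hwq : Commute (X D d.w u) q := Cert.Brk.commute_zero h hf (hzero _ hwQ hw0 fun s hs => by
    rcases hpar s hs with e | e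
    · simp [e]
    · obtain ⟨z, hz⟩ := e.2.2.1; simp [hz, h20]) u
  have hE' : X D T.top (u ^ 2) * X D d.w u ∈ H := by
    have : (X D d.δ (1 : K))⁻¹ * (q * X D d.δ 1 * q⁻¹) = X D T.top (u ^ 2) * X D d.w u := by
      calc (X D d.δ (1 : K))⁻¹ * (q * X D d.δ 1 * q⁻¹)
          = ((X D d.δ (1 : K))⁻¹ * q * X D d.δ 1) * q⁻¹ := by group
        _ = q * (X D d.w u * X D T.top (u ^ 2)) * q⁻¹ := by rw [hq, hEeq]
        _ = (q * X D d.w u * q⁻¹) * (q * X D T.top (u ^ 2) * q⁻¹) := by group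
        _ = _ := by
          rw [← hwq.eq, mul_inv_cancel_right, (h.Qgrp_commute_top hf hqQ _).eq, mul_inv_cancel_right,
            (h.pos_commute_top hf (inQ_lt hwQ).1 (inQ_lt hwQ).2 u (u ^ 2)).eq]
    rwa [this] at hE
  have hwn := (inQ_lt hwQ).2
  have hce : Commute (X D T.top (u ^ 2)) (X D d.e (1 : K)) := (h.commute_of_nil hen ht2 (Ne.symm heT')
    (fun e => he0 (by rw [← Cert.neg_neg (T := T) hen, ← e, ht3])) heT _ _).symm
  have h1 := ho.conj_term_mem h hen hwn hwe hwe' ew hce hE'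
  have hne : T.neg d.e < T.n := Cert.neg_lt (T := T) hen
  have h2 := ho.conj_term_mem h hne hw2n hw2e' (by rw [Cert.neg_neg (T := T) hen]; exact hw2e) ew2
    (z := 1) (Commute.one_left _) (by rw [one_mul]; exact h1)
  have hcu : ∀ {r s w' : ℕ}, T.one r s w' = true → (T.coef r s : K) = 1 := fun e => by
    rcases (one_spec (K := K) e).2 with e | e <;> rw [e]
    exact CharTwo.neg_eq 1
  rw [hcu ew2, hcu ew, one_mul, one_mul] at h2
  have h3 := mul_mem hE' (inv_mem h2)
  rw [mul_inv_cancel_right] at h3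
  exact SubfieldStep.mem_of_sq_mem k (ho.param _ h3)

end Over

end CfsgLib.Chev
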