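import Mathlib

/-!
Field arithmetic for overgroups of a group over a maximal subfield: a set of triples closed under the moves
coming from pairs of long root elements has all first coordinates in the subfield.
-/

set_option autoImplicit false

namespace CfsgLib.Chev.SubfieldStep

variable {K : Type*} [Field K] [Finite K]

/-- The multipliers of an additive subgroup form a subfield. -/
def multipliers (S : AddSubgroup K) : Subfield K :=
  Subring.toSubfield
    { carrier := {x | ∀ s ∈ S, x * s ∈ S}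
      zero_mem' := fun s _ => by rw [zero_mul]; exact zero_mem S
      one_mem' := fun s hs => by rw [one_mul]; exact hs
      add_mem' := fun {a b} ha hb s hs => by rw [add_mul]; exact add_mem (ha s hs) (hb s hs)
      mul_mem' := fun {a b} ha hb s hs => by rw [mul_assoc]; exact ha _ (hb s hs)
      neg_mem' := fun {a} ha s hs => by rw [neg_mul]; exact neg_mem (ha s hs) }
    fun x hx => by
      by_cases h0 : x = 0
      · subst h0; rw [inv_zero]; intro s _; rw [zero_mul]; exact zero_mem S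
      haveI := Fintype.ofFinite K
      have h1 : ∀ n : ℕ, ∀ s ∈ S, x ^ n * s ∈ S := by
        intro n
        induction n with
        | zero => intro s hs; rw [pow_zero, one_mul]; exact hs
        | succ n ih => intro s hs; rw [pow_succ', mul_assoc]; exact hx _ (ih s hs)
      have h2 : x⁻¹ = x ^ (Fintype.card K - 2) := by
        refine inv_eq_of_mul_eq_one_right ?_
        rw [← pow_succ']
        have h3 := Fintype.one_lt_card (α := K)
        rw [show Fintype.card K - 2 + 1 = Fintype.card K - 1 by omega]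
        exact FiniteField.pow_card_sub_one_eq_one x h0
      intro s hs
      rw [h2]
      exact h1 _ s hs

lemma mem_multipliers {S : AddSubgroup K} {x : K} :
    x ∈ multipliers S ↔ ∀ s ∈ S, x * s ∈ S := Iff.rfl

/-- A `k`-space containing all powers of a generator is everything. -/
lemma eq_top_of_powers (k : Subfield K) (hmax : ∀ L : Subfield K, k ≤ L → L = k ∨ L = ⊤) {η : K}
    (hη : η ∉ k) (S : AddSubgroup K) (hS : ∀ n : ℕ, ∀ t ∈ k, t * η ^ n ∈ S) : S = ⊤ := by
  let S₀ : AddSubgroup K := AddSubgroup.closure {x | ∃ n : ℕ, ∃ t ∈ k, x = t * η ^ n}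
  have hle : S₀ ≤ S := (AddSubgroup.closure_le _).2 (by rintro _ ⟨n, t, ht, rfl⟩; exact hS n t ht)
  have hmul : ∀ x : K, (∀ n : ℕ, ∀ t ∈ k, x * (t * η ^ n) ∈ S₀) → x ∈ multipliers S₀ := by
    intro x hx s hs
    have : S₀ ≤ S₀.comap (AddMonoidHom.mulLeft x) :=
      (AddSubgroup.closure_le _).2 (by rintro _ ⟨n, t, ht, rfl⟩; exact hx n t ht)
    exact this hs
  have hk : k ≤ multipliers S₀ := fun u hu => hmul u fun n t ht =>
    AddSubgroup.subset_closure ⟨n, u * t, mul_mem hu ht, by ring⟩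
  have hη' : η ∈ multipliers S₀ := hmul η fun n t ht =>
    AddSubgroup.subset_closure ⟨n + 1, t, ht, by ring⟩
  rcases hmax _ hk with e | e
  · exact absurd (e ▸ hη') hη
  refine eq_top_iff.2 fun x _ => hle ?_
  have h1 : (1 : K) ∈ S₀ := AddSubgroup.subset_closure ⟨0, 1, one_mem k, by ring⟩
  have hx : x ∈ multipliers S₀ := e ▸ Subfield.mem_top x
  simpa using mem_multipliers.1 hx 1 h1

/-- A scaled version. -/
lemma eq_top_of_scaled (k : Subfield K) (hmax : ∀ L : Subfield K, k ≤ L → L = k ∨ L = ⊤) {η a : K}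
    (hη : η ∉ k) (ha : a ≠ 0) (S : AddSubgroup K) (hS : ∀ n : ℕ, ∀ t ∈ k, a * (t * η ^ n) ∈ S) :
    S = ⊤ := by
  have h := eq_top_of_powers k hmax hη (S.comap (AddMonoidHom.mulLeft a)) fun n t ht => hS n t ht
  refine eq_top_iff.2 fun x _ => ?_
  have hx : a⁻¹ * x ∈ S.comap (AddMonoidHom.mulLeft a) := h ▸ AddSubgroup.mem_top _
  rw [AddSubgroup.mem_comap, AddMonoidHom.coe_mulLeft, mul_inv_cancel_left₀ ha] at hx
  exact hx

/-- Periods of a set. -/
def periods (R : Set K) : AddSubgroup K where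
  carrier := {d | ∀ x, x + d ∈ R ↔ x ∈ R}
  zero_mem' := fun x => by rw [add_zero]
  add_mem' := fun {a b} ha hb x => by rw [← add_assoc, hb, ha]
  neg_mem' := fun {a} ha x => by simpa using (ha (x + -a)).symm

lemma mem_periods {R : Set K} {d : K} : d ∈ periods R ↔ ∀ x, x + d ∈ R ↔ x ∈ R := Iff.rfl

lemma periods_translate {R R' : Set K} {δ : K} (h : ∀ x, x + δ ∈ R' ↔ x ∈ R) :
    periods R' = periods R := by
  ext d
  simp only [mem_periods]
  constructor
  · intro hd x; rw [← h, ← h, add_right_comm, hd]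
  · intro hd y
    have := hd (y - δ)
    rw [← h, ← h, add_right_comm, sub_add_cancel] at this
    exact this

/-- The data of the moves. -/
structure Moves (k : Subfield K) (e : ℕ) (ε : K) (P : K → K → K → Prop) : Prop where
  ne : ∀ {c ρ η}, P c ρ η → c ≠ 0
  inv : ∀ {c ρ η}, P c ρ η → P (-c) ρ η
  shift : ∀ {c ρ η}, ∀ s ∈ k, ∀ t ∈ k, P c ρ η → P c (ρ + s) (η + t)
  square : ∀ {c ρ η}, ∀ t ∈ k, t ≠ 0 → P c ρ η → P (t * c ^ 2) ρ η
  step : ∀ {c ρ η}, ∀ t ∈ k, t ≠ 0 → η ≠ 0 → P c ρ η →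
    P (t * c ^ 2 * η ^ e) (ρ + ε * (c * η)⁻¹) η
  base : ∀ {c ρ η}, P c ρ η → ρ ∈ k ∨ η ∈ k → c ∈ k

section

variable {k : Subfield K} {e : ℕ} {ε : K} {P : K → K → K → Prop}

lemma card_le_translate {R R' : Set K} {δ : K} (h : ∀ x ∈ R, x + δ ∈ R') :
    R.ncard ≤ R'.ncard :=
  Set.ncard_le_ncard_of_injOn (fun x => x + δ) h (fun _ _ _ _ e => add_right_cancel e)

lemma iff_of_translate {R R' : Set K} {δ : K} (h : ∀ x ∈ R, x + δ ∈ R')
    (hc : R'.ncard ≤ R.ncard) (x : K) : x + δ ∈ R' ↔ x ∈ R := by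
  refine ⟨fun hx => ?_, h x⟩
  have he : (fun x => x + δ) '' R = R' := by
    refine Set.eq_of_subset_of_ncard_le (Set.image_subset_iff.2 h) ?_
    rwa [Set.ncard_image_of_injective _ (add_left_injective δ)]
  obtain ⟨y, hy, e⟩ := (Set.ext_iff.1 he (x + δ)).2 hx
  exact add_right_cancel e ▸ hy

/-- Odd characteristic. -/
theorem Moves.mem_of_two_ne_zero (hP : Moves k e ε P) (hε : ε ≠ 0) (he : e = 1 ∨ e = 2)
    (hmax : ∀ L : Subfield K, k ≤ L → L = k ∨ L = ⊤) (h2 : (2 : K) ≠ 0) {c ρ η : K}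
    (h : P c ρ η) : c ∈ k := by
  by_contra hc
  obtain ⟨η, hη, hηe, h⟩ : ∃ η', η' ∉ k ∧ η' ^ e ∉ k ∧ P c ρ η' := by
    have hη : η ∉ k := fun hh => hc (hP.base h (Or.inr hh))
    by_cases h1 : η ^ e ∈ k
    · rcases he with rfl | rfl
      · rw [pow_one] at h1; exact absurd h1 hη
      refine ⟨η + 1, fun hh => hη (by simpa using sub_mem hh (one_mem k)), fun hh => hη ?_, ?_⟩
      · have h3 : (η + 1) ^ 2 - η ^ 2 - 1 ∈ k := sub_mem (sub_mem hh h1) (one_mem k)
        have h4 : η = ((η + 1) ^ 2 - η ^ 2 - 1) * 2⁻¹ := by field_simp; ring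
        rw [h4]
        refine mul_mem h3 (inv_mem ?_)
        rw [← one_add_one_eq_two]
        exact add_mem (one_mem k) (one_mem k)
      · simpa using hP.shift 0 (zero_mem k) 1 (one_mem k) h
    · exact ⟨η, hη, h1, h⟩
  have hη0 : η ≠ 0 := fun hh => hη (hh ▸ zero_mem k)
  let R : K → Set K := fun x => {ρ' | P x ρ' η}
  obtain ⟨x₀, hx₀⟩ := Finite.exists_max (fun x => (R x).ncard)
  have hx₀ne : (R x₀).Nonempty := by
    refine (Set.ncard_pos (Set.toFinite _)).1 (lt_of_lt_of_le ?_ (hx₀ c))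
    exact (Set.ncard_pos (Set.toFinite _)).2 ⟨ρ, h⟩
  let Top : K → Prop := fun x => (R x).ncard = (R x₀).ncard
  have hx0 : x₀ ≠ 0 := hP.ne hx₀ne.choose_spec
  have hA : ∀ x t, t ∈ k → t ≠ 0 → Top x →
      Top (t * x ^ 2) ∧ periods (R (t * x ^ 2)) = periods (R x) := by
    intro x t ht ht0 hx
    have h1 : ∀ y ∈ R x, y + 0 ∈ R (t * x ^ 2) := fun y hy => by
      rw [add_zero]; exact hP.square t ht ht0 hy
    exact ⟨le_antisymm (hx₀ _) (hx ▸ card_le_translate h1),
      periods_translate (iff_of_translate h1 (hx ▸ hx₀ _))⟩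
  have hB : ∀ x t, t ∈ k → t ≠ 0 → Top x →
      Top (t * x ^ 2 * η ^ e) ∧ periods (R (t * x ^ 2 * η ^ e)) = periods (R x) ∧
        2 * (ε * (x * η)⁻¹) ∈ periods (R x) := by
    intro x t ht ht0 hx
    have h1 : ∀ y ∈ R x, y + ε * (x * η)⁻¹ ∈ R (t * x ^ 2 * η ^ e) := fun y hy =>
      hP.step t ht ht0 hη0 hy
    have h2 : ∀ y ∈ R x, y + -(ε * (x * η)⁻¹) ∈ R (t * x ^ 2 * η ^ e) := fun y hy => by
      have h3 := hP.step t ht ht0 hη0 (hP.inv hy)
      rwa [neg_mul, inv_neg, mul_neg, neg_sq] at h3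
    refine ⟨le_antisymm (hx₀ _) (hx ▸ card_le_translate h1),
      periods_translate (iff_of_translate h1 (hx ▸ hx₀ _)), mem_periods.2 fun y => ?_⟩
    rw [← iff_of_translate h1 (hx ▸ hx₀ _) y,
      ← iff_of_translate h2 (hx ▸ hx₀ _) (y + 2 * (ε * (x * η)⁻¹))]
    ring_nf
  -- the forward closure contains a scaled coset of the powers
  let Good : K → Prop := fun x => Top x ∧ periods (R x) = periods (R x₀)
  have hG₀ : Good x₀ := ⟨rfl, rfl⟩
  have hall : ∀ (m n : ℕ), n < 2 ^ m → ∀ t ∈ k, t ≠ 0 → Good (x₀ ^ 2) →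
      Good (t * (x₀ ^ 2) ^ 2 ^ m * (η ^ e) ^ n) := by
    intro m
    induction m with
    | zero =>
      intro n hn t ht ht0 _
      obtain rfl : n = 0 := by simpa using hn
      have h1 := hA x₀ t ht ht0 hG₀.1
      simpa [Good] using h1
    | succ m ih =>
      intro n hn t ht ht0 hs
      rw [pow_succ'] at hn
      have hx := ih (n / 2) (by omega) 1 (one_mem k) one_ne_zero hs
      rw [one_mul] at hx
      rcases Nat.mod_two_eq_zero_or_one n with hm | hm
      · have h1 := hA _ t ht ht0 hx.1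
        rw [show t * ((x₀ ^ 2) ^ 2 ^ m * (η ^ e) ^ (n / 2)) ^ 2 =
          t * (x₀ ^ 2) ^ 2 ^ (m + 1) * (η ^ e) ^ n by
            rw [mul_pow, ← pow_mul _ (2 ^ m), ← pow_mul _ (n / 2), ← pow_succ,
              show n / 2 * 2 = n by omega, mul_assoc]] at h1
        exact ⟨h1.1, h1.2.trans hx.2⟩
      · have h1 := hB _ t ht ht0 hx.1
        rw [show t * ((x₀ ^ 2) ^ 2 ^ m * (η ^ e) ^ (n / 2)) ^ 2 * η ^ e =
          t * (x₀ ^ 2) ^ 2 ^ (m + 1) * (η ^ e) ^ n by
            rw [mul_pow, ← pow_mul _ (2 ^ m), ← pow_mul _ (n / 2), ← pow_succ,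
              mul_assoc t, mul_assoc t, mul_assoc, ← pow_succ,
              show n / 2 * 2 + 1 = n by omega]] at h1
        exact ⟨h1.1, h1.2.1.trans hx.2⟩
  have hs : Good (x₀ ^ 2) := by
    have h1 := hA x₀ 1 (one_mem k) one_ne_zero hG₀.1
    rwa [one_mul] at h1
  haveI := Fintype.ofFinite K
  have hηe0 : η ^ e ≠ 0 := pow_ne_zero _ hη0
  set N := Fintype.card K - 1 with hN
  have hN1 : 0 < N := by have := Fintype.one_lt_card (α := K); omega
  have hper : ∀ n : ℕ, (η ^ e) ^ (n % N) = (η ^ e) ^ n := fun n => by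
    conv_rhs => rw [← Nat.mod_add_div n N, pow_add, pow_mul, hN,
      FiniteField.pow_card_sub_one_eq_one _ hηe0, one_pow, mul_one]
  set A := (x₀ ^ 2) ^ 2 ^ N with hA0
  have hlt : ∀ n : ℕ, n % N < 2 ^ N := fun n =>
    lt_of_lt_of_le (Nat.mod_lt _ hN1) (Nat.lt_two_pow_self).le
  have hgood : ∀ (n : ℕ) (t : K), t ∈ k → t ≠ 0 → Good (t * A * (η ^ e) ^ n) := by
    intro n t ht ht0
    have h1 := hall N (n % N) (hlt n) t ht ht0 hs
    rwa [hper] at h1
  have hAne : A ≠ 0 := pow_ne_zero _ (pow_ne_zero _ hx0)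
  have htop : periods (R x₀) = ⊤ := by
    refine eq_top_of_scaled k hmax (a := 2 * (ε * (A * η)⁻¹)) hηe (mul_ne_zero h2
      (mul_ne_zero hε (inv_ne_zero (mul_ne_zero hAne hη0)))) _ fun n t ht => ?_
    by_cases ht0 : t = 0
    · rw [ht0, zero_mul, mul_zero]; exact zero_mem _
    have h1 := hgood ((Fintype.card K - 2) * n) t⁻¹ (inv_mem ht) (inv_ne_zero ht0)
    have h3 := (hB _ 1 (one_mem k) one_ne_zero h1.1).2.2
    rw [h1.2] at h3
    convert h3 using 1
    have h4 : ((η ^ e) ^ ((Fintype.card K - 2) * n))⁻¹ = (η ^ e) ^ n := by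
      refine inv_eq_of_mul_eq_one_right ?_
      rw [← pow_add, ← Nat.succ_mul,
        show (Fintype.card K - 2).succ = Fintype.card K - 1 by
          have := Fintype.one_lt_card (α := K); omega,
        pow_mul, FiniteField.pow_card_sub_one_eq_one _ hηe0, one_pow]
    rw [mul_inv, mul_inv, mul_inv, mul_inv, inv_inv, h4]
    ring
  obtain ⟨n, hn⟩ : ∃ n : ℕ, A * (η ^ e) ^ n ∉ k := by
    by_contra hall'
    simp only [not_exists, not_not] at hall'
    refine hηe ?_
    have h0 := hall' 0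
    have h1 := hall' 1
    rw [pow_zero, mul_one] at h0
    rw [pow_one] at h1
    have := mul_mem (inv_mem h0) h1
    rwa [inv_mul_cancel_left₀ hAne] at this
  have h1 := hgood n 1 (one_mem k) one_ne_zero
  rw [one_mul] at h1
  have hne : (R (A * (η ^ e) ^ n)).Nonempty := by
    refine (Set.ncard_pos (Set.toFinite _)).1 ?_
    rw [h1.1]
    exact (Set.ncard_pos (Set.toFinite _)).2 hx₀ne
  obtain ⟨y, hy⟩ := hne
  have hz : (0 : K) ∈ R (A * (η ^ e) ^ n) := by
    have h3 : -y ∈ periods (R (A * (η ^ e) ^ n)) := by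
      rw [h1.2, htop]; exact AddSubgroup.mem_top _
    simpa using (mem_periods.1 h3 y).2 hy
  exact hn (hP.base hz (Or.inl (zero_mem k)))

/-- The additive subgroup of the `w + w²`. -/
def artinSchreier (K : Type*) [Field K] [CharP K 2] : AddSubgroup K where
  carrier := Set.range fun w : K => w + w ^ 2
  zero_mem' := ⟨0, by simp⟩
  add_mem' := by
    rintro _ _ ⟨a, rfl⟩ ⟨b, rfl⟩
    exact ⟨a + b, by simp only [CharTwo.add_sq]; ring⟩
  neg_mem' := by
    rintro _ ⟨a, rfl⟩
    exact ⟨a, by simp [CharTwo.neg_eq]⟩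

lemma artinSchreier_index [CharP K 2] : (artinSchreier K).index = 2 := by
  let f : K →+ K :=
    { toFun := fun w => w + w ^ 2
      map_zero' := by simp
      map_add' := fun a b => by simp only [CharTwo.add_sq]; ring }
  have hr : artinSchreier K = f.range := SetLike.ext fun x => Iff.rfl
  have hk : (f.ker : Set K) = {0, 1} := by
    ext w
    show w + w ^ 2 = 0 ↔ _
    rw [show w + w ^ 2 = w * (1 + w) by ring, mul_eq_zero, CharTwo.add_eq_zero,
      eq_comm (a := (1 : K))]
    simp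
  have hk2 : Nat.card f.ker = 2 := by
    have h1 : Nat.card (f.ker : Set K) = 2 := by
      rw [hk, Nat.card_coe_set_eq, Set.ncard_pair zero_ne_one]
    exact h1
  have h1 : Nat.card f.range * 2 = Nat.card K := by
    rw [← hk2, ← AddSubgroup.index_ker, mul_comm, AddSubgroup.card_mul_index]
  have h2 := (artinSchreier K).card_mul_index
  rw [hr] at h2 ⊢
  rw [← h1] at h2
  exact Nat.eq_of_mul_eq_mul_left (Nat.card_pos) h2

/-- Scaling moves the subgroup of the `w + w²`. -/
lemma artinSchreier_scale [CharP K 2] {ν : K} (hν : ν ≠ 0)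
    (h : ∀ x ∈ artinSchreier K, ν * x ∈ artinSchreier K) : ν = 1 := by
  classical
  haveI := Fintype.ofFinite K
  set P := artinSchreier K
  set L := multipliers P
  let W : Submodule L K :=
    { carrier := P
      add_mem' := fun ha hb => add_mem ha hb
      zero_mem' := zero_mem P
      smul_mem' := fun a x hx => a.2 x hx }
  haveI : Fact (Nat.Prime 2) := ⟨Nat.prime_two⟩
  have hW : Nat.card W = Nat.card P := rfl
  have h1 := Module.natCard_eq_pow_finrank (K := L) (V := W)
  have h2 := Module.natCard_eq_pow_finrank (K := L) (V := K)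
  have h3 := P.card_mul_index
  rw [artinSchreier_index, ← hW, h1, h2] at h3
  have hlt : Module.finrank L W < Module.finrank L K := by
    by_contra hh
    have := Nat.pow_le_pow_right (n := Nat.card L) Nat.card_pos (not_lt.1 hh)
    have := pow_pos (Nat.card_pos (α := L)) (Module.finrank L W)
    omega
  obtain ⟨m, hm⟩ := Nat.exists_eq_add_of_lt hlt
  rw [hm, add_assoc, pow_add] at h3
  have h4 := Nat.eq_of_mul_eq_mul_left (pow_pos (Nat.card_pos (α := L)) _) h3
  rw [pow_succ'] at h4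
  have hL2 : Nat.card L = 2 :=
    ((Nat.dvd_prime Nat.prime_two).1 ⟨_, h4⟩).resolve_left Finite.one_lt_card.ne'
  have hνL : ν ∈ L := h
  by_contra hne
  have h5 : ({0, 1, ν} : Finset K).card ≤ 2 := by
    have h6 : (({0, 1, ν} : Finset K) : Set K) ⊆ (L : Set K) := by
      intro x hx
      simp only [Finset.coe_insert, Finset.coe_singleton, Set.mem_insert_iff,
        Set.mem_singleton_iff] at hx
      rcases hx with rfl | rfl | rfl
      · exact zero_mem L
      · exact one_mem L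
      · exact hνL
    have h7 := Set.ncard_le_ncard h6 (Set.toFinite _)
    rw [Set.ncard_coe_finset, ← Nat.card_coe_set_eq] at h7
    exact le_of_le_of_eq h7 hL2
  rw [Finset.card_eq_three.2 ⟨0, 1, ν, zero_ne_one, Ne.symm hν, Ne.symm hne, rfl⟩] at h5
  omega

/-- The elements outside a subgroup of index two. -/
lemma iff_not_mem_of_index_two {S : AddSubgroup K} (hS : S.index = 2) {R : Set K}
    (hne : R.Nonempty) (h0 : (0 : K) ∉ R) (hper : ∀ d ∈ S, ∀ x, x + d ∈ R ↔ x ∈ R) (x : K) :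
    x ∈ R ↔ x ∉ S := by
  obtain ⟨y, hy⟩ := hne
  have hyS : y ∉ S := fun h => h0 (by simpa using (hper _ (neg_mem h) y).2 hy)
  constructor
  · intro hx hxS
    exact h0 (by simpa using (hper _ (neg_mem hxS) x).2 hx)
  · intro hxS
    have h1 : x - y ∈ S := by
      rw [sub_eq_add_neg, AddSubgroup.add_mem_iff_of_index_two hS, neg_mem_iff]
      exact iff_of_false hxS hyS
    simpa using (hper _ h1 y).2 hy

/-- Long runs of powers of a generator over the prime field span. -/
lemma powers_span (k : Subfield K) (hmax : ∀ L : Subfield K, k ≤ L → L = k ∨ L = ⊤)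
    (hk : Nat.card k = 2) {r : ℕ} (hr : r.Prime) (hK : Nat.card K = 2 ^ r) (hr2 : r ≠ 2)
    {η : K} (hη : η ∉ k) (S : AddSubgroup K)
    (hS : ∀ j, 2 ≤ j → j < orderOf η → η ^ j ∈ S) : S = ⊤ := by
  classical
  haveI := Fintype.ofFinite K
  have hη0 : η ≠ 0 := fun hh => hη (hh ▸ zero_mem k)
  set n := orderOf η with hn
  have hnK : n ∣ 2 ^ r - 1 := by
    have := FiniteField.pow_card_sub_one_eq_one η hη0
    rw [← orderOf_dvd_iff_pow_eq_one, Fintype.card_eq_nat_card, hK] at this
    exact this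
  have hk01 : ∀ t ∈ k, t = 0 ∨ t = 1 := by
    intro t ht
    by_contra hh
    simp only [not_or] at hh
    have h6 : (({0, 1, t} : Finset K) : Set K) ⊆ (k : Set K) := by
      intro x hx
      simp only [Finset.coe_insert, Finset.coe_singleton, Set.mem_insert_iff,
        Set.mem_singleton_iff] at hx
      rcases hx with rfl | rfl | rfl
      · exact zero_mem k
      · exact one_mem k
      · exact ht
    have h7 := Set.ncard_le_ncard h6 (Set.toFinite _)
    rw [Set.ncard_coe_finset, ← Nat.card_coe_set_eq,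
      Finset.card_eq_three.2 ⟨0, 1, t, zero_ne_one, Ne.symm hh.1, Ne.symm hh.2, rfl⟩] at h7
    simp only [SetLike.coe_sort_coe, hk] at h7
    omega
  have hn1 : n ≠ 1 := fun hh => hη (by rw [orderOf_eq_one_iff.1 hh]; exact one_mem k)
  have hn0 : 0 < n := Nat.pos_of_ne_zero fun hh => by
    have := Nat.eq_zero_of_zero_dvd (hh ▸ hnK)
    have := Nat.one_lt_two_pow hr.ne_zero
    omega
  -- the order exceeds r + 1
  have hbig : r + 2 ≤ n := by
    by_contra hlt
    haveI : NeZero n := ⟨hn0.ne'⟩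
    have hodd : ¬ 2 ∣ n := fun h => by
      have := Nat.dvd_trans h hnK
      have := Nat.one_le_two_pow (n := r)
      have : 2 ∣ 2 ^ r := dvd_pow_self 2 hr.ne_zero
      omega
    have hcop : Nat.Coprime 2 n := (Nat.prime_two.coprime_iff_not_dvd).2 hodd
    let u := ZMod.unitOfCoprime 2 hcop
    have hu : u ^ r = 1 := by
      refine Units.ext ?_
      rw [Units.val_pow_eq_pow_val, ZMod.coe_unitOfCoprime, Units.val_one, ← Nat.cast_pow,
        ← Nat.cast_one, ZMod.natCast_eq_natCast_iff']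
      have := (Nat.modEq_iff_dvd' (Nat.one_le_two_pow (n := r))).2 hnK
      exact this.symm
    have hu1 : u ≠ 1 := fun hh => by
      have h1 := congrArg Units.val hh
      rw [ZMod.coe_unitOfCoprime, Units.val_one, ← Nat.cast_one, ZMod.natCast_eq_natCast_iff'] at h1
      have h2 : n ≥ 3 := by omega
      rw [Nat.mod_eq_of_lt (by omega), Nat.mod_eq_of_lt (by omega)] at h1
      omega
    have hord : orderOf u = r :=
      ((Nat.dvd_prime hr).1 (orderOf_dvd_of_pow_eq_one hu)).resolve_left (by simpa using hu1)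
    have h1 := orderOf_dvd_card (x := u)
    rw [hord, ZMod.card_units_eq_totient] at h1
    have h2 := Nat.totient_lt n (by omega)
    have h3 := Nat.le_of_dvd (Nat.totient_pos.2 hn0) h1
    have h4 : n.totient = n - 1 := by omega
    have h5 : n = r + 1 := by omega
    rcases hr.eq_two_or_odd with h | h
    · exact hr2 h
    · exact hodd (by omega)
  -- the first r powers span
  let F := k
  have hfr : Module.finrank F K = r := by
    have h1 := Module.natCard_eq_pow_finrank (K := F) (V := K)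
    rw [hK, show Nat.card F = 2 from hk] at h1
    exact (Nat.pow_right_injective (le_refl 2) h1).symm
  have hint : IsIntegral F η := IsIntegral.of_finite F η
  have hdeg : (minpoly F η).natDegree ≤ r := hfr ▸ minpoly.natDegree_le η
  refine eq_top_of_scaled k hmax (a := η ^ 2) hη (pow_ne_zero _ hη0) S fun m t ht => ?_
  rcases hk01 t ht with rfl | rfl
  · simp
  rw [one_mul]
  induction m using Nat.strong_induction_on with
  | _ m ih =>
    by_cases hm : m < r
    · rw [← pow_add]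
      exact hS _ (by omega) (by omega)
    have hroot := minpoly.aeval F η
    rw [Polynomial.aeval_eq_sum_range, Finset.sum_range_succ] at hroot
    rw [show (minpoly F η).coeff (minpoly F η).natDegree = 1 from minpoly.monic hint] at hroot
    rw [one_smul] at hroot
    set d := (minpoly F η).natDegree
    have h1 : η ^ 2 * η ^ m = -∑ i ∈ Finset.range d,
        ((minpoly F η).coeff i : K) * (η ^ 2 * η ^ (m - d + i)) := by
      have h2 : η ^ d = -∑ i ∈ Finset.range d, ((minpoly F η).coeff i : K) * η ^ i :=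
        eq_neg_of_add_eq_zero_right hroot
      conv_lhs => rw [show m = m - d + d by omega, pow_add, h2]
      rw [mul_neg, mul_neg, Finset.mul_sum, Finset.mul_sum]
      refine congrArg Neg.neg (Finset.sum_congr rfl fun i _ => ?_)
      rw [pow_add]; ring
    rw [h1]
    refine neg_mem (sum_mem fun i hi => ?_)
    rw [Finset.mem_range] at hi
    rcases hk01 _ ((minpoly F η).coeff i).2 with e | e <;> rw [e]
    · rw [zero_mul]; exact zero_mem S
    · rw [one_mul]; exact ih _ (by omega)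

variable [CharP K 2]

omit [CharP K 2] in
lemma surjective_sq [CharP K 2] : Function.Surjective fun x : K => x ^ 2 :=
  Finite.surjective_of_injective fun _ _ hab => CharTwo.sq_injective hab

omit [Finite K] in
lemma mem_of_sq_mem (k : Subfield K) [Finite k] {x : K} (hx : x ^ 2 ∈ k) : x ∈ k := by
  have hsurj : Function.Surjective fun y : k => y ^ 2 :=
    Finite.surjective_of_injective fun a b hab => Subtype.ext
      (CharTwo.sq_injective (by simpa using congrArg Subtype.val hab))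
  obtain ⟨y, hy⟩ := hsurj ⟨x ^ 2, hx⟩
  have h1 : (y : K) = x := CharTwo.sq_injective (by simpa using congrArg Subtype.val hy)
  exact h1 ▸ y.2

/-- The periods and the orbit of one first coordinate in characteristic two. -/
lemma Moves.charTwo_key (hP : Moves k e 1 P) (he : e = 1 ∨ e = 2)
    (hmax : ∀ L : Subfield K, k ≤ L → L = k ∨ L = ⊤) {c ρ η s : K} (hη : η ∉ k) (h : P c ρ η)
    (hs : s ^ 2 = η) :
    η * (1 + (s ^ e)⁻¹) ≠ 0 ∧
      (∀ w : K, (η * (1 + (s ^ e)⁻¹))⁻¹ * (w + w ^ 2) ∈ periods {x | P c x η}) ∧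
      (∀ j : ℕ, ({x | P (c * (η ^ e) ^ j) x η} : Set K).Nonempty ∧
        periods {x | P (c * (η ^ e) ^ j) x η} = periods {x | P c x η}) ∧
      ∀ z v, v ^ 2 = z → ∀ x, P (z * η ^ e) (x + (v * η)⁻¹) η ↔ P z x η := by
  haveI := Fintype.ofFinite K
  have hη0 : η ≠ 0 := fun hh => hη (hh ▸ zero_mem k)
  have hηek : η ^ e ∉ k := fun hh => hη (by
    rcases he with rfl | rfl
    · rwa [pow_one] at hh
    · exact mem_of_sq_mem k hh)
  let R : K → Set K := fun x => {ρ' | P x ρ' η}
  -- monotone maps along a permutation keep the cardinality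
  have hperm : ∀ (f : K → K), Function.Injective f →
      (∀ x, (R x).ncard ≤ (R (f x)).ncard) → ∀ x, (R (f x)).ncard ≤ (R x).ncard := by
    intro f hf hmono x
    obtain ⟨n, hn, hper⟩ := hf.mem_periodicPts x
    have hit : ∀ (m : ℕ) (y : K), (R y).ncard ≤ (R (f^[m] y)).ncard := by
      intro m
      induction m with
      | zero => intro y; simp
      | succ m ih => intro y; rw [Function.iterate_succ_apply']; exact le_trans (ih y) (hmono _)
    have h1 := hit (n - 1) (f x)
    rw [← Function.iterate_succ_apply, show (n - 1).succ = n by omega, hper.eq] at h1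
    exact h1
  have hA : ∀ t ∈ k, t ≠ 0 → ∀ x y, y ∈ R (t * x ^ 2) ↔ y ∈ R x := by
    intro t ht ht0 x
    have h1 : ∀ x, ∀ y ∈ R x, y + 0 ∈ R (t * x ^ 2) := fun x y hy => by
      rw [add_zero]; exact hP.square t ht ht0 hy
    have h2 := iff_of_translate (h1 x) (hperm (fun x => t * x ^ 2)
      (fun a b hab => CharTwo.sq_injective (mul_left_cancel₀ ht0 hab))
      (fun x => card_le_translate (h1 x)) x)
    simpa using h2
  have hB : ∀ x y, y + (x * η)⁻¹ ∈ R (x ^ 2 * η ^ e) ↔ y ∈ R x := by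
    intro x
    have h1 : ∀ x, ∀ y ∈ R x, y + (x * η)⁻¹ ∈ R (x ^ 2 * η ^ e) := fun x y hy => by
      have := hP.step 1 (one_mem k) one_ne_zero hη0 hy
      rwa [one_mul, one_mul] at this
    exact iff_of_translate (h1 x) (hperm (fun x => x ^ 2 * η ^ e)
      (fun a b hab => CharTwo.sq_injective (mul_right_cancel₀ (pow_ne_zero _ hη0) hab))
      (fun x => card_le_translate (h1 x)) x)
  have hsqR : ∀ x y, y ∈ R (x ^ 2) ↔ y ∈ R x := fun x y => by
    simpa using hA 1 (one_mem k) one_ne_zero x y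
  have hscale : ∀ t ∈ k, t ≠ 0 → ∀ z y, y ∈ R (t * z) ↔ y ∈ R z := by
    intro t ht ht0 z y
    obtain ⟨x, rfl⟩ := surjective_sq z
    exact (hA t ht ht0 x y).trans (hsqR x y).symm
  have hz : ∀ z v, v ^ 2 = z → ∀ y, y + (v * η)⁻¹ ∈ R (z * η ^ e) ↔ y ∈ R z := by
    intro z v hv y
    subst hv
    rw [hB, hsqR]
  have horb : ∀ j : ℕ, (R (c * (η ^ e) ^ j)).Nonempty ∧
      periods (R (c * (η ^ e) ^ j)) = periods (R c) := by
    intro j
    induction j with
    | zero => exact ⟨⟨ρ, show P _ _ _ by simpa using h⟩, by simp⟩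
    | succ j ih =>
      rw [pow_succ, ← mul_assoc]
      obtain ⟨y, hy⟩ := ih.1
      obtain ⟨v, hv⟩ := surjective_sq (c * (η ^ e) ^ j)
      exact ⟨⟨_, (hz _ v hv y).2 hy⟩, (periods_translate (hz _ v hv)).trans ih.2⟩
  -- two ways to the point z η^(2e)
  set σ := s ^ e with hσ
  have hσ2 : σ ^ 2 = η ^ e := by rw [hσ, ← hs, ← pow_mul, ← pow_mul, mul_comm]
  have hσ0 : σ ≠ 0 := fun hh => pow_ne_zero e hη0 (by rw [← hσ2, hh]; simp)
  have hσ1 : 1 + σ⁻¹ ≠ 0 := fun hh => by
    rw [CharTwo.add_eq_zero, eq_comm, inv_eq_one] at hh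
    exact hηek (by rw [← hσ2, hh, one_pow]; exact one_mem k)
  refine ⟨mul_ne_zero hη0 hσ1, ?_, horb, hz⟩
  have hd : ∀ u : K, (u * η)⁻¹ + (u ^ 2 * η)⁻¹ * (1 + σ⁻¹) ∈ periods (R (u ^ 4)) := by
    intro u
    rw [mem_periods]
    intro y
    have e1 := fun y => hz (u ^ 4) (u ^ 2) (by ring) y
    have e2 := fun y => hz (u ^ 4 * η ^ e) (u ^ 2 * σ) (by rw [mul_pow, hσ2]; ring) y
    have e3 : ∀ y, y + (u * η)⁻¹ ∈ R (u ^ 4 * η ^ e * η ^ e) ↔ y ∈ R (u ^ 4) := fun y => by
      rw [show u ^ 4 * η ^ e * η ^ e = (u ^ 2 * η ^ e) ^ 2 by ring, hsqR,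
        hz (u ^ 2) u rfl, show u ^ 4 = (u ^ 2) ^ 2 by ring, hsqR, hsqR, hsqR]
    have h1 := (e3 (y + ((u * η)⁻¹ + (u ^ 2 * η)⁻¹ * (1 + σ⁻¹)))).symm
    rw [h1, show y + ((u * η)⁻¹ + (u ^ 2 * η)⁻¹ * (1 + σ⁻¹)) + (u * η)⁻¹ =
      y + (u ^ 2 * η)⁻¹ + (u ^ 2 * σ * η)⁻¹ + 2 * (u * η)⁻¹ by simp only [mul_inv]; ring,
      (CharTwo.two_eq_zero : (2 : K) = 0), zero_mul, add_zero, e2, e1]
  -- a subgroup of parameters
  let Φ : K →+ K :=
    { toFun := fun x => x * η⁻¹ + x ^ 2 * (η⁻¹ * (1 + σ⁻¹))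
      map_zero' := by simp
      map_add' := fun a b => by simp only [CharTwo.add_sq]; ring }
  obtain ⟨v₁, hv₁⟩ := surjective_sq c
  obtain ⟨v, hv⟩ := surjective_sq v₁
  have hv4 : v ^ 4 = c := by
    rw [show v ^ 4 = (v ^ 2) ^ 2 by ring]; exact (congrArg (· ^ 2) hv).trans hv₁
  have hc0 := hP.ne h
  have hv0 : v ≠ 0 := fun hh => hc0 (by rw [← hv4, hh]; simp)
  obtain ⟨τ, hτ⟩ := surjective_sq σ
  obtain ⟨ξ, hξ⟩ := surjective_sq τ
  have hξ8 : (ξ ^ 2) ^ 4 = η ^ e := by
    rw [← hσ2, show σ = τ ^ 2 from hτ.symm, show τ = ξ ^ 2 from hξ.symm]; ring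
  have hξ0 : ξ ≠ 0 := fun hh => pow_ne_zero e hη0 (by rw [← hξ8, hh]; simp)
  have hξk : ξ ^ 2 ∉ k := fun hh => hηek (hξ8 ▸ pow_mem hh 4)
  have htop : (periods (R c)).comap Φ = ⊤ := by
    refine eq_top_of_scaled k hmax (η := ξ ^ 2) (a := v⁻¹) hξk (inv_ne_zero hv0) _
      fun n t ht => ?_
    by_cases ht0 : t = 0
    · rw [ht0, zero_mul, mul_zero]; exact zero_mem _
    set N := Fintype.card K - 1 with hN
    have hN1 : 0 < N := by have := Fintype.one_lt_card (α := K); omega
    set j := (N - 1) * n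
    set u := v * t⁻¹ * (ξ ^ 2) ^ j with hu
    have hu4 : u ^ 4 = t⁻¹ ^ 4 * (c * (η ^ e) ^ j) := by
      rw [← hv4, ← hξ8, hu]; simp only [mul_pow, ← pow_mul]; ring
    have hper : periods (R (u ^ 4)) = periods (R c) := by
      rw [hu4, ← (horb j).2]
      exact congrArg periods (Set.ext fun y =>
        hscale _ (pow_mem (inv_mem ht) 4) (pow_ne_zero _ (inv_ne_zero ht0)) _ y)
    have huinv : v⁻¹ * (t * (ξ ^ 2) ^ n) = u⁻¹ := by
      rw [eq_comm]
      refine inv_eq_of_mul_eq_one_right ?_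
      have h1 : (ξ ^ 2) ^ j * (ξ ^ 2) ^ n = 1 := by
        rw [← pow_add, ← Nat.succ_mul, show (N - 1).succ = N by omega, pow_mul,
          FiniteField.pow_card_sub_one_eq_one _ (pow_ne_zero _ hξ0), one_pow]
      calc u * (v⁻¹ * (t * (ξ ^ 2) ^ n))
          = (v * v⁻¹) * (t⁻¹ * t) * ((ξ ^ 2) ^ j * (ξ ^ 2) ^ n) := by rw [hu]; ring
        _ = 1 := by rw [mul_inv_cancel₀ hv0, inv_mul_cancel₀ ht0, h1]; ring
    rw [AddSubgroup.mem_comap, huinv, ← hper]
    convert hd u using 1
    show u⁻¹ * η⁻¹ + u⁻¹ ^ 2 * (η⁻¹ * (1 + σ⁻¹)) = _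
    simp only [mul_inv, inv_pow]; ring
  intro w
  have hw : w * (1 + σ⁻¹)⁻¹ ∈ (periods (R c)).comap Φ := htop ▸ AddSubgroup.mem_top _
  rw [AddSubgroup.mem_comap] at hw
  convert hw using 1
  show _ = w * (1 + σ⁻¹)⁻¹ * η⁻¹ + (w * (1 + σ⁻¹)⁻¹) ^ 2 * (η⁻¹ * (1 + σ⁻¹))
  field_simp

/-- Characteristic two. -/
theorem Moves.mem_of_charTwo (hP : Moves k e 1 P) (he : e = 1 ∨ e = 2)
    (hmax : ∀ L : Subfield K, k ≤ L → L = k ∨ L = ⊤) {r : ℕ} (hr : r.Prime)
    (hcard : Nat.card K = Nat.card k ^ r) (hex : e = 2 ∨ Nat.card k ≠ 2 ∨ r ≠ 2) {c ρ η : K}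
    (h : P c ρ η) : c ∈ k := by
  by_contra hc
  have hη : η ∉ k := fun hh => hc (hP.base h (Or.inr hh))
  obtain ⟨s, hs⟩ := surjective_sq η
  replace hs : s ^ 2 = η := hs
  obtain ⟨hμ0, hS, horb, hz⟩ := hP.charTwo_key he hmax hη h hs
  set μ := η * (1 + (s ^ e)⁻¹) with hμ
  set S := periods ({x | P c x η} : Set K) with hSdef
  have h0R : ¬ P c 0 η := fun h0 => hc (hP.base h0 (Or.inl (zero_mem k)))
  have hSne : S ≠ ⊤ := fun htop => h0R (by
    have h1 : -ρ ∈ S := htop ▸ AddSubgroup.mem_top _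
    simpa using (mem_periods.1 h1 ρ).2 h)
  -- the periods are a scaled copy of the `w + w²`
  have hT : ∀ x, μ⁻¹ * x ∈ S ↔ x ∈ artinSchreier K := by
    have hle : artinSchreier K ≤ S.comap (AddMonoidHom.mulLeft μ⁻¹) := by
      rintro x ⟨w, rfl⟩; exact hS w
    have hne : S.comap (AddMonoidHom.mulLeft μ⁻¹) ≠ ⊤ := fun htop => hSne (by
      refine eq_top_iff.2 fun x _ => ?_
      have : μ * x ∈ S.comap (AddMonoidHom.mulLeft μ⁻¹) := htop ▸ AddSubgroup.mem_top _
      rwa [AddSubgroup.mem_comap, AddMonoidHom.coe_mulLeft, inv_mul_cancel_left₀ hμ0] at this)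
    have hdvd := AddSubgroup.index_dvd_of_le hle
    rw [artinSchreier_index, Nat.dvd_prime Nat.prime_two] at hdvd
    have hi := hdvd.resolve_left fun h1 => hne (AddSubgroup.index_eq_one.1 h1)
    have hr1 := AddSubgroup.relIndex_mul_index hle
    rw [artinSchreier_index, hi] at hr1
    have heq := le_antisymm (AddSubgroup.relIndex_eq_one.1 (by omega)) hle
    exact fun x => (SetLike.ext_iff.1 heq x)
  by_cases hex' : e = 2 ∨ Nat.card k ≠ 2
  · -- a shift of η gives another scale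
    obtain ⟨τ, hτ, hne⟩ : ∃ τ ∈ k, η + τ ^ 2 ∉ k ∧
        (η + τ ^ 2) * (1 + ((s + τ) ^ e)⁻¹) ≠ μ := by
      have hk : ∀ τ ∈ k, η + τ ^ 2 ∉ k := fun τ hτ hh =>
        hη (by simpa using sub_mem hh (pow_mem hτ 2))
      have hexp : ∀ a b : K, a ^ 2 = b → a ≠ 0 → b * (1 + (a ^ e)⁻¹) =
          if e = 1 then b + a else b + 1 := by
        intro a b hab ha
        rcases he with rfl | rfl
        · rw [if_pos rfl, ← hab]; field_simp
        · rw [if_neg (by norm_num), ← hab]; field_simp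
      have hs0 : s ≠ 0 := fun hh => hη (by rw [← hs, hh]; simp)
      have hsk : ∀ τ ∈ k, s + τ ≠ 0 := fun τ hτ hh => hη (by
        rw [← hs, CharTwo.add_eq_zero.1 hh]; exact pow_mem hτ 2)
      obtain ⟨τ, hτ, hτ0, hτ1⟩ : ∃ τ ∈ k, τ ≠ 0 ∧ (e = 1 → τ ≠ 1) := by
        by_cases h2 : Nat.card k = 2
        · refine ⟨1, one_mem k, one_ne_zero, fun h1 => ?_⟩
          rcases hex' with h3 | h3
          · omega
          · exact absurd h2 h3
        · by_contra hh
          simp only [not_exists, not_and, not_forall, not_not] at hh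
          apply h2
          rw [Nat.card_eq_two_iff]
          refine ⟨0, 1, zero_ne_one, ?_⟩
          ext ⟨t, ht⟩
          simp only [Set.mem_insert_iff, Set.mem_singleton_iff, Set.mem_univ, iff_true]
          by_cases ht0 : t = 0
          · exact Or.inl (Subtype.ext ht0)
          · exact Or.inr (Subtype.ext (hh t ht ht0).2)
      refine ⟨τ, hτ, hk τ hτ, ?_⟩
      rw [hμ, hexp (s + τ) (η + τ ^ 2) (by rw [CharTwo.add_sq, hs]) (hsk τ hτ), hexp s η hs hs0]
      intro hh
      rcases he with rfl | rfl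
      · rw [if_pos rfl, if_pos rfl] at hh
        have h1 : τ * (τ + 1) = 0 := by
          calc τ * (τ + 1) = (η + τ ^ 2 + (s + τ)) - (η + s) := by ring
            _ = 0 := by rw [hh, sub_self]
        rcases mul_eq_zero.1 h1 with h1 | h1
        · exact hτ0 h1
        · exact hτ1 rfl (CharTwo.add_eq_zero.1 h1)
      · rw [if_neg (by norm_num), if_neg (by norm_num)] at hh
        have h1 : τ ^ 2 = 0 := add_left_cancel
          ((add_right_cancel hh).trans (add_zero η).symm)
        exact hτ0 (by simpa using h1)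
    obtain ⟨hη', hne⟩ := hne
    have hh' : P c ρ (η + τ ^ 2) := by
      simpa using hP.shift 0 (zero_mem k) _ (pow_mem hτ 2) h
    obtain ⟨hμ0', hS', -, -⟩ :=
      hP.charTwo_key he hmax hη' hh' (s := s + τ) (by rw [CharTwo.add_sq, hs])
    have hset : ({x | P c x (η + τ ^ 2)} : Set K) = {x | P c x η} := by
      ext x
      refine ⟨fun hx => ?_, fun hx => ?_⟩
      · have := hP.shift 0 (zero_mem k) _ (pow_mem hτ 2) hx
        rwa [add_zero, add_assoc, CharTwo.add_self_eq_zero, add_zero] at this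
      · simpa using hP.shift 0 (zero_mem k) _ (pow_mem hτ 2) hx
    rw [hset] at hS'
    set μ' := (η + τ ^ 2) * (1 + ((s + τ) ^ e)⁻¹)
    refine hne ?_
    have h1 : μ * μ'⁻¹ = 1 := by
      refine artinSchreier_scale (mul_ne_zero hμ0 (inv_ne_zero hμ0')) fun x hx => ?_
      obtain ⟨w, rfl⟩ := hx
      rw [← hT, ← mul_assoc, inv_mul_cancel_left₀ hμ0]
      exact hS' w
    exact (mul_inv_eq_one₀ hμ0').1 h1 |>.symm
  · -- the prime field
    simp only [not_or, not_not] at hex'
    obtain rfl : e = 1 := he.resolve_right hex'.1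
    have hr2 : r ≠ 2 := (hex.resolve_left (by norm_num)).resolve_left (by simp [hex'.2])
    rw [hex'.2] at hcard
    simp only [pow_one] at horb hz hμ
    have hidx : S.index = 2 := by
      rw [← artinSchreier_index (K := K), ← AddSubgroup.index_comap_of_surjective (H := S)
        (f := AddMonoidHom.mulLeft μ⁻¹) fun x => ⟨μ * x, by simp [hμ0]⟩]
      exact congrArg _ (SetLike.ext hT)
    have hk1 : ∀ x ∈ k, x ≠ 0 → x = 1 := by
      intro x hx hx0
      by_contra hx1
      obtain ⟨a, b, -, hab⟩ := Nat.card_eq_two_iff.1 hex'.2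
      have h3 : ∀ y : k, y = a ∨ y = b := fun y => by
        have : y ∈ ({a, b} : Set k) := hab ▸ Set.mem_univ y
        simpa using this
      have e0 := h3 ⟨0, zero_mem k⟩
      have e1 := h3 ⟨1, one_mem k⟩
      have e2 := h3 ⟨x, hx⟩
      rcases e0 with e0 | e0 <;> rcases e1 with e1 | e1 <;> rcases e2 with e2 | e2 <;>
        first
          | exact zero_ne_one (congrArg Subtype.val (e0.trans e1.symm))
          | exact hx0 (congrArg Subtype.val (e2.trans e0.symm))
          | exact hx1 (congrArg Subtype.val (e2.trans e1.symm))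
    have hη0 : η ≠ 0 := fun hh => hη (hh ▸ zero_mem k)
    have hc0 := hP.ne h
    -- what the moves along the orbit give
    have hzk : ∀ j : ℕ, c * η ^ j ≠ 1 → ∀ x, P (c * η ^ j) x η ↔ x ∉ S := by
      intro j hj1
      refine iff_not_mem_of_index_two hidx (horb j).1 (fun h0 => hj1 ?_) fun d hd => ?_
      · exact hk1 _ (hP.base h0 (Or.inl (zero_mem k))) (hP.ne h0)
      · exact mem_periods.1 ((SetLike.ext_iff.1 (horb j).2 d).2 hd)
    have hPj : ∀ j : ℕ, c * η ^ j ≠ 1 → c * η ^ (j + 1) ≠ 1 →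
        (1 + η⁻¹) * (c * η ^ j)⁻¹ ∈ artinSchreier K := by
      intro j h1 h2
      obtain ⟨v, hv⟩ := surjective_sq (c * η ^ j)
      have hv' : v ^ 2 = c * η ^ j := hv
      obtain ⟨y, hy⟩ := (horb j).1
      have hy' : y ∉ S := (hzk j h1 y).1 hy
      have hy2 : y + (v * η)⁻¹ ∉ S := by
        refine (hzk (j + 1) h2 _).1 ?_
        rw [pow_succ, ← mul_assoc]
        exact (hz _ v hv' y).2 hy
      have hd : (v * η)⁻¹ ∈ S := by
        by_contra hd
        exact hy2 ((AddSubgroup.add_mem_iff_of_index_two hidx).2 (iff_of_false hy' hd))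
      rw [show (v * η)⁻¹ = μ⁻¹ * (μ * (v * η)⁻¹) by rw [inv_mul_cancel_left₀ hμ0], hT] at hd
      obtain ⟨w, hw⟩ := hd
      refine ⟨w ^ 2, ?_⟩
      have h3 : (μ * (v * η)⁻¹) ^ 2 = (1 + η⁻¹) * (c * η ^ j)⁻¹ := by
        rw [hμ, ← hv', mul_pow, mul_pow, inv_pow, mul_pow, CharTwo.add_sq, one_pow, inv_pow, hs]
        field_simp
      show w ^ 2 + (w ^ 2) ^ 2 = _
      rw [← h3, ← hw, CharTwo.add_sq]
    have hη1 : (1 : K) + η⁻¹ ≠ 0 := fun hh => by
      rw [CharTwo.add_eq_zero, eq_comm, inv_eq_one] at hh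
      exact hη (hh ▸ one_mem k)
    have hPtop : (artinSchreier K).comap (AddMonoidHom.mulLeft (1 + η⁻¹)) ≠ ⊤ := fun htop => by
      have h2 : artinSchreier K = ⊤ := eq_top_iff.2 fun x _ => by
        have : (1 + η⁻¹)⁻¹ * x ∈ (artinSchreier K).comap (AddMonoidHom.mulLeft (1 + η⁻¹)) :=
          htop ▸ AddSubgroup.mem_top _
        rwa [AddSubgroup.mem_comap, AddMonoidHom.coe_mulLeft, mul_inv_cancel_left₀ hη1] at this
      have h3 := artinSchreier_index (K := K)
      rw [h2, AddSubgroup.index_top] at h3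
      omega
    haveI := Fintype.ofFinite K
    set n := orderOf η with hn
    have hn0 : 0 < n := by
      refine (isOfFinOrder_iff_pow_eq_one.2 ⟨_, ?_, FiniteField.pow_card_sub_one_eq_one η hη0⟩).orderOf_pos
      have := Fintype.one_lt_card (α := K); omega
    by_cases hcη : ∃ m : ℕ, c * η ^ m = 1
    · obtain ⟨m, hm⟩ := hcη
      refine hPtop (powers_span k hmax hex'.2 hr hcard hr2 hη _ fun i hi hin => ?_)
      have hz1 : c * η ^ (m + (n - i)) = η ^ (n - i) := by rw [pow_add, ← mul_assoc, hm, one_mul]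
      have hne : ∀ a : ℕ, 0 < a → a < n → η ^ a ≠ 1 := fun a ha han hh =>
        pow_ne_one_of_lt_orderOf ha.ne' han hh
      have h1 := hPj (m + (n - i)) (by rw [hz1]; exact hne _ (by omega) (by omega))
        (by rw [pow_succ, ← mul_assoc, hz1, ← pow_succ]; exact hne _ (by omega) (by omega))
      rw [hz1, show (η ^ (n - i))⁻¹ = η ^ i from inv_eq_of_mul_eq_one_right (by
        rw [← pow_add, show n - i + i = n by omega, hn, pow_orderOf_eq_one])] at h1
      exact h1
    · simp only [not_exists] at hcη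
      refine hPtop (eq_top_of_scaled k hmax hη (inv_ne_zero hc0) _ fun m t ht => ?_)
      by_cases ht0 : t = 0
      · rw [ht0, zero_mul, mul_zero]; exact zero_mem _
      rw [hk1 t ht ht0, one_mul]
      have h1 := hPj ((n - 1) * m) (hcη _) (hcη _)
      rw [mul_inv, show (η ^ ((n - 1) * m))⁻¹ = η ^ m from inv_eq_of_mul_eq_one_right (by
        rw [← pow_add, ← Nat.succ_mul, show (n - 1).succ = n by omega, pow_mul, hn,
          pow_orderOf_eq_one, one_pow])] at h1
      exact h1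

end

end CfsgLib.Chev.SubfieldStep
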