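import Cfsg.Agent.Lib.Chev.Functorial
import Cfsg.Agent.Lib.Chev.SL2
import Cfsg.Agent.Lib.Chev.SubfieldField

/-!
Overgroups of the fixed points of a field automorphism: long root elements in the frame of the highest root.

A conjugate of a root element `x_top(1)` is moved by fixed monomial elements to the shape `q x_0(c) q⁻¹`, where `q`
lies in the group `Q` of the positive roots not orthogonal to the highest one and `0` is the lowest root.
-/

set_option autoImplicit false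
set_option maxRecDepth 100000

namespace CfsgLib.Chev

open Cfsg.Lie Matrix

namespace Tab

variable (T : Tab)

/-- The highest root. -/
def top : ℕ := T.n - 1

/-- A positive root not orthogonal to the highest one. -/
def inQ (r : ℕ) : Bool := decide (T.half ≤ r ∧ r < T.n ∧ 1 ≤ T.pairing T.top r)

/-- What is used about the commutators with the highest and the lowest root. -/
def chkFrame : Bool :=
  decide (T.half ≤ T.top ∧ T.top < T.n ∧ T.neg T.top = 0 ∧ T.top ≠ 0) && T.inQ T.top &&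
    (List.range T.n).all fun r =>
      (decide (T.half ≤ r) || decide (r = 0) || (T.commTerms r 0).isEmpty) &&
      (!decide (T.half ≤ r) || decide (r = T.top) || (T.commTerms r T.top).isEmpty) &&
      (!decide (T.half ≤ r) || T.inQ r || (T.commTerms r 0).isEmpty) &&
      (!T.inQ r || (List.range T.n).all fun s => !T.inQ s || decide (r = s) ||
        (T.commTerms r s).all fun q => decide (q.1 = T.top ∧ q.2.2.1 = 1 ∧ q.2.2.2 = 1))

/-- The word takes the highest root to the lowest. -/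
def chkWord (w : List ℕ) : Bool :=
  w.all (fun i => decide (i < T.l)) && decide (rword T w T.top = 0)

end Tab

/-- A group containing the fixed root elements with no new parameters at the highest root. -/
structure Over (D : ChevalleyDatum) (T : Tab) {K : Type*} [Field K] (σ : K →+* K) (k : Subfield K)
    (H : Subgroup (GL D.Idx K)) : Prop where
  mem_k : ∀ x, x ∈ k ↔ σ x = x
  le : H ≤ D.group K
  fixed : ∀ r < T.n, ∀ t ∈ k, X D r t ∈ H
  param : ∀ t, X D T.top t ∈ H → t ∈ k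

/-- The group `Q`. -/
noncomputable def Qgrp (D : ChevalleyDatum) (T : Tab) (K : Type*) [Field K] : Subgroup (GL D.Idx K) :=
  gen D K {r | T.inQ r = true}

/-- `q x_0(c) q⁻¹` lies in `H`. -/
def Sted (D : ChevalleyDatum) (T : Tab) {K : Type*} [Field K] (H : Subgroup (GL D.Idx K)) (c : K)
    (q : GL D.Idx K) : Prop :=
  c ≠ 0 ∧ q ∈ Qgrp D T K ∧ q * X D 0 c * q⁻¹ ∈ H

/-- The commutator of `q` with `x_a` is `x_top` of `v`. -/
def Brk (D : ChevalleyDatum) (T : Tab) {K : Type*} [Field K] (a : ℕ) (q : GL D.Idx K) (v : K) : Prop :=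
  ∀ t : K, X D a t * q = q * X D a t * X D T.top (t * v)

namespace Cert

variable {D : ChevalleyDatum} {T : Tab} {C : Tab.Cover} (h : Cert D T C) {K : Type*} [Field K]
include h

/-- No terms: the root elements commute. -/
lemma commute_of_nil {r s : ℕ} (hr : r < T.n) (hs : s < T.n) (hne : s ≠ r) (hneg : s ≠ T.neg r)
    (he : T.commTerms r s = []) (t u : K) : Commute (X D r t) (X D s u) := by
  have h1 := h.X_conj hr hs hne hneg (-t) u
  rw [he, List.map_nil, List.prod_nil, mul_one, _root_.neg_neg, ← h.X_inv hr] at h1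
  exact mul_inv_eq_iff_eq_mul.1 h1

/-- One term. -/
lemma conj_of_single {r s w : ℕ} {m : ℤ} {i j : ℕ} (hr : r < T.n) (hs : s < T.n) (hne : s ≠ r)
    (hneg : s ≠ T.neg r) (he : T.commTerms r s = [(w, m, i, j)]) (t u : K) :
    X D r t * X D s u * (X D r t)⁻¹ = X D s u * X D w ((m : K) * t ^ i * u ^ j) := by
  have h1 := h.X_conj hr hs hne hneg (-t) u
  rw [he, List.map_cons, List.map_nil, List.prod_cons, List.prod_nil, mul_one, _root_.neg_neg,
    ← h.X_inv hr] at h1
  exact h1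

/-- The identity of `SL₂` used for the moves. -/
lemma top_conj_zero (hf : T.chkFrame = true) {c : K} (hc : c ≠ 0) (t : K) :
    X D 0 c * X D T.top t * X D 0 (-c) =
      X D T.top c⁻¹ * X D 0 (-(c ^ 2 * t)) * X D T.top (-c⁻¹) := by
  simp only [Tab.chkFrame, Bool.and_eq_true, decide_eq_true_eq] at hf
  obtain ⟨φ, -, hu, hv⟩ := h.exists_sl2_hom (F := K) hf.1.1.2.1
  rw [hf.1.1.2.2.1] at hv
  rw [← hv (SL2Pair.L c) c rfl, ← hu (SL2Pair.E t) t rfl, ← hv (SL2Pair.L (-c)) (-c) rfl,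
    ← hu (SL2Pair.E c⁻¹) c⁻¹ rfl, ← hv (SL2Pair.L (-(c ^ 2 * t))) _ rfl,
    ← hu (SL2Pair.E (-c⁻¹)) (-c⁻¹) rfl, ← map_mul, ← map_mul, ← map_mul, ← map_mul]
  congr 1
  apply Subtype.ext
  simp only [SL2Pair.val_mul, SL2Pair.E_val, SL2Pair.L_val, Matrix.mul_fin_two]
  ext i j
  fin_cases i <;> fin_cases j <;> simp <;> field_simp <;> ring

/-- Rotating `x_top(z) x_0(c) x_top(-z)`. -/
lemma rotate_zero (hf : T.chkFrame = true) {z : K} (hz : z ≠ 0) (c : K) :
    nU D T.top 1 * (X D T.top z * X D 0 c * X D T.top (-z)) * (nU D T.top 1)⁻¹ =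
      X D T.top (-z⁻¹) * X D 0 (z ^ 2 * c) * X D T.top z⁻¹ := by
  simp only [Tab.chkFrame, Bool.and_eq_true, decide_eq_true_eq] at hf
  obtain ⟨φ, -, hu, hv⟩ := h.exists_sl2_hom (F := K) hf.1.1.2.1
  have hn := h.nU_inv (F := K) hf.1.1.2.1
  rw [hf.1.1.2.2.1] at hv
  rw [hn]
  simp only [nU, h.agrees.neg_eq hf.1.1.2.1, hf.1.1.2.2.1, inv_one, inv_neg, _root_.neg_neg]
  simp only [← hu (SL2Pair.E _) _ rfl, ← hv (SL2Pair.L _) _ rfl, ← map_mul]
  congr 1
  apply Subtype.ext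
  simp only [SL2Pair.val_mul, SL2Pair.E_val, SL2Pair.L_val, Matrix.mul_fin_two]
  ext i j
  fin_cases i <;> fin_cases j <;> simp <;> field_simp <;> ring

variable (hf : T.chkFrame = true)
include hf

lemma frame_top : T.half ≤ T.top ∧ T.top < T.n ∧ T.neg T.top = 0 ∧ T.top ≠ 0 ∧ 0 < T.half ∧
    0 < T.n ∧ T.neg 0 = T.top := by
  simp only [Tab.chkFrame, Bool.and_eq_true, decide_eq_true_eq] at hf
  obtain ⟨⟨⟨h1, h2, h3, h4⟩, -⟩, -⟩ := hf
  have := h.two_mul_half
  refine ⟨h1, h2, h3, h4, by omega, by omega, ?_⟩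
  rw [← h3, neg_neg (T := T) h2]

omit h in
lemma top_inQ : T.inQ T.top = true := by
  simp only [Tab.chkFrame, Bool.and_eq_true, decide_eq_true_eq] at hf
  exact hf.1.2

omit hf h in
lemma inQ_lt {r : ℕ} (hr : T.inQ r = true) : T.half ≤ r ∧ r < T.n := by
  simp only [Tab.inQ, decide_eq_true_eq] at hr
  exact ⟨hr.1, hr.2.1⟩

lemma neg_commute_zero {r : ℕ} (hr : r < T.half) (t u : K) : Commute (X D r t) (X D 0 u) := by
  obtain ⟨h1, h2, h3, h4, h5, h6, h7⟩ := h.frame_top hf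
  have := h.two_mul_half
  by_cases hr0 : r = 0
  · subst hr0
    show X D 0 t * X D 0 u = X D 0 u * X D 0 t
    rw [h.X_add h6, h.X_add h6, add_comm]
  simp only [Tab.chkFrame, Bool.and_eq_true, Bool.or_eq_true, List.all_eq_true, List.mem_range,
    decide_eq_true_eq, List.isEmpty_iff] at hf
  refine h.commute_of_nil (by omega) h6 (Ne.symm hr0) (fun e => ?_) ?_ t u
  · have : r = T.top := by rw [← neg_neg (T := T) (r := r) (by omega), ← e, h7]
    omega
  · rcases (hf.2 r (by omega)).1.1.1 with (c | c) | c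
    · omega
    · exact absurd c hr0
    · exact c

lemma levi_commute_zero {r : ℕ} (hr : T.half ≤ r) (hrn : r < T.n) (hQ : T.inQ r = false) (t u : K) :
    Commute (X D r t) (X D 0 u) := by
  obtain ⟨h1, h2, h3, h4, h5, h6, h7⟩ := h.frame_top hf
  have hrt : r ≠ T.top := fun e => by rw [e, top_inQ hf] at hQ; exact Bool.noConfusion hQ
  simp only [Tab.chkFrame, Bool.and_eq_true, Bool.or_eq_true, List.all_eq_true, List.mem_range,
    decide_eq_true_eq, List.isEmpty_iff] at hf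
  refine h.commute_of_nil hrn h6 (by omega) (fun e => hrt ?_) ?_ t u
  · rw [← neg_neg (T := T) hrn, ← e, h7]
  · rcases (hf.2 r hrn).1.2 with (c | c) | c
    · simp [hr] at c
    · rw [hQ] at c; exact Bool.noConfusion c
    · exact c

lemma pos_commute_top {r : ℕ} (hr : T.half ≤ r) (hrn : r < T.n) (t u : K) :
    Commute (X D r t) (X D T.top u) := by
  obtain ⟨h1, h2, h3, h4, h5, h6, h7⟩ := h.frame_top hf
  by_cases hrt : r = T.top
  · subst hrt
    show X D T.top t * X D T.top u = X D T.top u * X D T.top t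
    rw [h.X_add h2, h.X_add h2, add_comm]
  simp only [Tab.chkFrame, Bool.and_eq_true, Bool.or_eq_true, List.all_eq_true, List.mem_range,
    decide_eq_true_eq, List.isEmpty_iff] at hf
  refine h.commute_of_nil hrn h2 (Ne.symm hrt) (fun e => ?_) ?_ t u
  · have := (h.half_le_neg_iff hrn).1 (e ▸ h1)
    omega
  · rcases (hf.2 r hrn).1.1.2 with (c | c) | c
    · simp [hr] at c
    · exact absurd c hrt
    · exact c

lemma Qgrp_commute_top {q : GL D.Idx K} (hq : q ∈ Qgrp D T K) (u : K) :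
    Commute q (X D T.top u) := by
  refine Subgroup.mem_centralizer_singleton_iff.1
    (((Subgroup.closure_le _).2 ?_ : Qgrp D T K ≤ Subgroup.centralizer {X D T.top u}) hq)
  rintro _ ⟨r, hr, t, rfl⟩
  exact Subgroup.mem_centralizer_singleton_iff.2
    (h.pos_commute_top hf (inQ_lt hr).1 (inQ_lt hr).2 t u).eq

lemma X_top_mem_Qgrp (u : K) : X D T.top u ∈ Qgrp D T K := X_mem_gen D (top_inQ hf) u

/-- The bracket on a root element. -/
lemma Brk_X {a γ : ℕ} (ha : T.inQ a = true) (hγ : T.inQ γ = true) (hne : γ ≠ a) (u : K) :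
    Brk D T a (X D γ u) (u * ((T.commTerms a γ).map fun c => (c.2.1 : K)).sum) := by
  obtain ⟨h1, h2, h3, h4, h5, h6, h7⟩ := h.frame_top hf
  obtain ⟨ha1, ha2⟩ := inQ_lt ha
  obtain ⟨hg1, hg2⟩ := inQ_lt hγ
  have hneg : γ ≠ T.neg a := fun e => by
    have := (h.half_le_neg_iff ha2).1 (e ▸ hg1)
    omega
  simp only [Tab.chkFrame, Bool.and_eq_true, Bool.or_eq_true, List.all_eq_true, List.mem_range,
    decide_eq_true_eq, List.isEmpty_iff] at hf
  have hall : ∀ c ∈ T.commTerms a γ, c.1 = T.top ∧ c.2.2.1 = 1 ∧ c.2.2.2 = 1 := by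
    rcases (hf.2 a ha2).2 with c | c
    · simp [ha] at c
    rcases c γ hg2 with (c | c) | c
    · simp [hγ] at c
    · exact absurd c.symm hne
    · exact c
  intro t
  have h8 := h.X_conj ha2 hg2 hne hneg (-t) u
  rw [_root_.neg_neg, ← h.X_inv ha2] at h8
  have key : ∀ L : List (ℕ × ℤ × ℕ × ℕ),
      (∀ c ∈ L, c.1 = T.top ∧ c.2.2.1 = 1 ∧ c.2.2.2 = 1) →
      (L.map fun c => X D c.1 ((c.2.1 : K) * t ^ c.2.2.1 * u ^ c.2.2.2)).prod =
        X D T.top (t * (u * (L.map fun c => (c.2.1 : K)).sum)) := by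
    intro L hL
    induction L with
    | nil => simp [h.X_zero h2]
    | cons c L ih =>
      obtain ⟨e1, e2, e3⟩ := hL c List.mem_cons_self
      rw [List.map_cons, List.prod_cons, List.map_cons, List.sum_cons,
        ih fun d hd => hL d (List.mem_cons_of_mem _ hd), e1, e2, e3, h.X_add h2]
      congr 1
      ring
  rw [key _ hall] at h8
  have h9 : ∀ w, Commute (X D a t) (X D T.top w) := fun w =>
    h.pos_commute_top (by simp only [Tab.chkFrame, Bool.and_eq_true, Bool.or_eq_true,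
      List.all_eq_true, List.mem_range, decide_eq_true_eq, List.isEmpty_iff]; exact hf) ha1 ha2 t w
  rw [mul_inv_eq_iff_eq_mul.1 h8, mul_assoc, ← (h9 _).eq, ← mul_assoc]

/-- The bracket on generators. -/
lemma exists_Brk_X {a γ : ℕ} (ha : T.inQ a = true) (hγ : T.inQ γ = true) (u : K) :
    ∃ v, Brk D T a (X D γ u) v := by
  by_cases hne : γ = a
  · subst hne
    obtain ⟨ha1, ha2⟩ := inQ_lt ha
    obtain ⟨h1, h2, h3, h4, h5, h6, h7⟩ := h.frame_top hf
    exact ⟨0, fun t => by rw [mul_zero, h.X_zero h2, mul_one, h.X_add ha2, h.X_add ha2, add_comm]⟩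
  exact ⟨_, h.Brk_X hf ha hγ hne u⟩

/-- Brackets multiply. -/
lemma Brk.mul' {a : ℕ} (ha : T.inQ a = true) {q q' : GL D.Idx K} {v v' : K}
    (hq' : q' ∈ Qgrp D T K) (e : Brk D T a q v) (e' : Brk D T a q' v') :
    Brk D T a (q * q') (v + v') := by
  intro t
  rw [← mul_assoc, e t, mul_assoc (q * X D a t), ← (h.Qgrp_commute_top hf hq' _).eq, mul_assoc q,
    ← mul_assoc (X D a t), e' t, mul_add, ← h.X_add (h.frame_top hf).2.1]
  simp only [mul_assoc]
  rw [(h.pos_commute_top hf (h.frame_top hf).1 (h.frame_top hf).2.1 (t * v') (t * v)).eq]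

lemma Brk.one' (a : ℕ) : Brk D T a (1 : GL D.Idx K) 0 := fun t => by
  rw [mul_zero, h.X_zero (h.frame_top hf).2.1, mul_one, one_mul, mul_one]

lemma Brk.inv' {a : ℕ} {q : GL D.Idx K} {v : K} (hq : q ∈ Qgrp D T K) (e : Brk D T a q v) :
    Brk D T a q⁻¹ (-v) := by
  intro t
  have h1 := e t
  have h2 := (h.Qgrp_commute_top hf (inv_mem hq) (t * v)).eq
  have h3 : q⁻¹ * X D a t = X D a t * X D T.top (t * v) * q⁻¹ := by
    rw [eq_mul_inv_iff_mul_eq, mul_assoc, h1]; group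
  rw [h3, mul_assoc, mul_assoc, (h.Qgrp_commute_top hf (inv_mem hq) _).eq,
    ← mul_assoc (X D T.top (t * v)), h.X_add (h.frame_top hf).2.1,
    show t * v + t * -v = 0 by ring, h.X_zero (h.frame_top hf).2.1, one_mul]

lemma Brk.uniq {a : ℕ} {q : GL D.Idx K} {v v' : K} (e : Brk D T a q v) (e' : Brk D T a q v') :
    v = v' := by
  have h1 := mul_left_cancel ((e 1).symm.trans (e' 1))
  rw [one_mul, one_mul] at h1
  exact h.X_inj (h.frame_top hf).2.1 h1

/-- Every element of `Q` has a bracket. -/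
lemma exists_Brk {a : ℕ} (ha : T.inQ a = true) {q : GL D.Idx K} (hq : q ∈ Qgrp D T K) :
    ∃ v, Brk D T a q v := by
  induction hq using Subgroup.closure_induction with
  | mem g hg => obtain ⟨r, hr, t, rfl⟩ := hg; exact h.exists_Brk_X hf ha hr t
  | one => exact ⟨0, Brk.one' h hf a⟩
  | mul x y _ hy hx' hy' =>
    obtain ⟨v, hv⟩ := hx'
    obtain ⟨v', hv'⟩ := hy'
    exact ⟨v + v', Brk.mul' h hf ha hy hv hv'⟩
  | inv x hx hx' =>
    obtain ⟨v, hv⟩ := hx'
    exact ⟨-v, Brk.inv' h hf hx hv⟩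

/-- A zero bracket: the elements commute. -/
lemma Brk.commute_zero {a : ℕ} {q : GL D.Idx K} (e : Brk D T a q 0) (t : K) :
    Commute (X D a t) q := by
  have h1 := e t
  rwa [mul_zero, h.X_zero (h.frame_top hf).2.1, mul_one] at h1

/-- The single bracket term of a pair. -/
lemma Brk.pair {a b : ℕ} {m : ℤ} (ha : T.inQ a = true) (hb : T.inQ b = true) (hne : b ≠ a)
    (e : T.commTerms a b = [(T.top, m, 1, 1)]) (u : K) : Brk D T a (X D b u) ((m : K) * u) := by
  intro t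
  obtain ⟨ha1, ha2⟩ := inQ_lt ha
  obtain ⟨hb1, hb2⟩ := inQ_lt hb
  have hneg : b ≠ T.neg a := fun e => by
    have := (h.half_le_neg_iff ha2).1 (e ▸ hb1)
    omega
  rw [mul_inv_eq_iff_eq_mul.1 (h.conj_of_single ha2 hb2 hne hneg e t u), mul_assoc,
    ← (h.pos_commute_top hf ha1 ha2 t _).eq, ← mul_assoc, pow_one, pow_one,
    show (m : K) * t * u = t * ((m : K) * u) by ring]

end Cert

namespace Over

open Cert (posList_set sortedLT_posList mem_posList conj_gen_le inQ_lt)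

variable {D : ChevalleyDatum} {T : Tab} {C : Tab.Cover} {K : Type*} [Field K] {σ : K →+* K}
  {k : Subfield K} {H : Subgroup (GL D.Idx K)} (ho : Over D T σ k H) (h : Cert D T C)
include ho h

lemma X_mem {r : ℕ} (hr : r < T.n) {t : K} (ht : t ∈ k) : X D r t ∈ H :=
  ho.fixed r hr t ht

lemma nU_mem {r : ℕ} (hr : r < T.n) : nU D r (1 : K) ∈ H := by
  have hr' := Cert.neg_lt (T := T) hr
  simp only [nU, h.agrees.neg_eq hr, inv_one]
  exact mul_mem (mul_mem (ho.X_mem h hr (one_mem k)) (ho.X_mem h hr' (neg_mem (one_mem k))))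
    (ho.X_mem h hr (one_mem k))

lemma nS_mem {i : ℕ} (hi : i < T.l) : nS D K i ∈ H := by
  rw [nS, h.simple_eq hi]
  exact ho.nU_mem h (h.simple_lt hi)

lemma nW_mem {w : List ℕ} (hw : WordOK T w) : nW D K w ∈ H := by
  refine list_prod_mem fun g hg => ?_
  obtain ⟨i, hi, rfl⟩ := List.mem_map.1 hg
  exact ho.nS_mem h (hw i hi)

variable (hf : T.chkFrame = true)
include hf

lemma sted_inv {c : K} {q : GL D.Idx K} (hS : Sted D T H c q) : Sted D T H (-c) q := by
  refine ⟨neg_ne_zero.2 hS.1, hS.2.1, ?_⟩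
  have h1 := inv_mem hS.2.2
  rwa [_root_.mul_inv_rev, _root_.mul_inv_rev, inv_inv, h.X_inv (h.frame_top hf).2.2.2.2.2.1,
    ← mul_assoc] at h1

/-- Left multiplication by fixed elements of `Q`. -/
lemma sted_left {c : K} {q x : GL D.Idx K} (hS : Sted D T H c q) (hx : x ∈ Qgrp D T K)
    (hxH : x ∈ H) : Sted D T H c (x * q) := by
  refine ⟨hS.1, mul_mem hx hS.2.1, ?_⟩
  have h1 := mul_mem (mul_mem hxH hS.2.2) (inv_mem hxH)
  rwa [show x * (q * X D 0 c * q⁻¹) * x⁻¹ = x * q * X D 0 c * (x * q)⁻¹ by group] at h1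

/-- The move by `x_top`. -/
lemma sted_square {c : K} {q : GL D.Idx K} (hS : Sted D T H c q) {t : K} (ht : t ∈ k)
    (ht0 : t ≠ 0) : Sted D T H (-(c ^ 2 * t)) (q * X D T.top c⁻¹) := by
  obtain ⟨h1, h2, h3, h4, h5, h6, h7⟩ := h.frame_top hf
  refine ⟨neg_ne_zero.2 (mul_ne_zero (pow_ne_zero _ hS.1) ht0),
    mul_mem hS.2.1 (h.X_top_mem_Qgrp hf _), ?_⟩
  have hm := mul_mem (mul_mem hS.2.2 (ho.X_mem h h2 ht)) (inv_mem hS.2.2)
  have e : q⁻¹ * X D T.top t * q = X D T.top t := by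
    rw [mul_assoc, ← (h.Qgrp_commute_top hf hS.2.1 t).eq, inv_mul_cancel_left]
  rw [show q * X D 0 c * q⁻¹ * X D T.top t * (q * X D 0 c * q⁻¹)⁻¹ =
    q * (X D 0 c * (q⁻¹ * X D T.top t * q) * (X D 0 c)⁻¹) * q⁻¹ by group, e, h.X_inv h6,
    h.top_conj_zero hf hS.1] at hm
  rwa [_root_.mul_inv_rev, h.X_inv h2,
    show q * X D T.top c⁻¹ * X D 0 (-(c ^ 2 * t)) * (X D T.top (-c⁻¹) * q⁻¹) =
      q * (X D T.top c⁻¹ * X D 0 (-(c ^ 2 * t)) * X D T.top (-c⁻¹)) * q⁻¹ by group]

set_option maxHeartbeats 1600000 in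
/-- A conjugate of `x_top(1)` in `H` goes to the frame by a fixed element. -/
theorem exists_sted {W : List ℕ} (hW : T.chkWord W = true) {g : GL D.Idx K} (hg : g ∈ D.group K)
    (hy : g * X D T.top 1 * g⁻¹ ∈ H) :
    ∃ m ∈ H, mapGL D σ m = m ∧ ∃ c q, Sted D T H c q ∧
      m * (g * X D T.top 1 * g⁻¹) * m⁻¹ = q * X D 0 c * q⁻¹ := by
  obtain ⟨ht1, ht2, ht3, ht4, ht5, ht6, ht7⟩ := h.frame_top hf
  simp only [Tab.chkWord, Bool.and_eq_true, List.all_eq_true, decide_eq_true_eq] at hW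
  have hW' : WordOK T W := fun i hi => hW.1 i hi
  obtain ⟨b, hb, n, hn, u, hu, rfl⟩ := h.bruhat_exists hg
  obtain ⟨w, hw, t₁, ht₁, rfl⟩ := h.exists_word_of_monomial hn
  have huU : u ∈ D.posUnipotent K := by
    rw [h.cellUnipotent_eq (π := rword T w) fun r hr =>
      ⟨h.rword_lt hw hr, Cert.Maps_mul (h.Maps_diagonal ht₁ hr) (h.Maps_nW hw hr)⟩] at hu
    rw [h.posUnipotent_eq]; exact gen_mono D Set.sdiff_subset hu
  have hucomm : u * X D T.top 1 * u⁻¹ = X D T.top 1 := by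
    refine mul_inv_eq_iff_eq_mul.2 (Subgroup.mem_centralizer_singleton_iff.1
      ((?_ : D.posUnipotent K ≤ Subgroup.centralizer {X D T.top (1 : K)}) huU))
    rw [h.posUnipotent_eq, gen, Subgroup.closure_le]
    rintro _ ⟨r, hr, t, rfl⟩
    exact Subgroup.mem_centralizer_singleton_iff.2 (h.pos_commute_top hf hr.1 hr.2 t 1).eq
  obtain ⟨d, hd, hdm⟩ := Cert.Maps_mul (h.Maps_diagonal ht₁ ht2) (h.Maps_nW hw ht2)
  obtain ⟨v, hv, t, ht, rfl⟩ := h.mem_borel_iff.1 hb
  set s := rword T w T.top with hs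
  have hsn : s < T.n := h.rword_lt hw ht2
  obtain ⟨d', hd', hd'm⟩ := h.Maps_diagonal ht hsn
  have ey : v * t * (nW D K w * t₁) * u * X D T.top 1 * (v * t * (nW D K w * t₁) * u)⁻¹ =
      v * X D s (d' * (d * 1)) * v⁻¹ := by
    rw [show v * t * (nW D K w * t₁) * u * X D T.top 1 * (v * t * (nW D K w * t₁) * u)⁻¹ =
      v * (t * ((nW D K w * t₁) * (u * X D T.top 1 * u⁻¹) * (nW D K w * t₁)⁻¹) * t⁻¹) * v⁻¹ by
        group, hucomm, hdm, hd'm]
  rw [ey] at hy ⊢
  -- the word from s to 0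
  set w' := W ++ w.reverse with hw'
  have hww : WordOK T w' := fun i hi => by
    rcases List.mem_append.1 hi with hi | hi
    · exact hW' i hi
    · exact hw i (List.mem_reverse.1 hi)
  have hws : rword T w' s = 0 := by
    have e := h.rword_reverse (w := w.reverse) (fun i hi => hw i (List.mem_reverse.1 hi)) ht2
    rw [List.reverse_reverse] at e
    rw [hw', rword_append, hs, e, hW.2]
  obtain ⟨d'', hd'', hd''m⟩ := h.Maps_nW (F := K) hww hsn
  rw [hws] at hd''m
  have hv' : v ∈ gen D K {r | r ∈ posList T} := by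
    rwa [posList_set, ← h.posUnipotent_eq]
  obtain ⟨a₀, ha₀, b₀, hb₀, rfl⟩ := h.exists_split {r | T.half ≤ rword T w' r} (posList T)
    sortedLT_posList (fun r hr => mem_posList.1 hr)
    (by rw [posList_set]; exact h.commClosed_posSet) v hv'
  rw [posList_set] at ha₀ hb₀
  set N := nW D K w'
  have ha' : N * a₀ * N⁻¹ ∈ gen D K {r | r ∈ posList T} :=
    conj_gen_le (S' := {r | r ∈ posList T}) (fun r hr => ⟨rword T w' r,
      mem_posList.2 ⟨hr.2, h.rword_lt hww hr.1.2⟩, h.Maps_nW hww hr.1.2⟩) ha₀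
  have hb1 : N * b₀ * N⁻¹ ∈ gen D K {r | r < T.half} :=
    conj_gen_le (S' := {r | r < T.half}) (fun r hr => ⟨rword T w' r,
      not_le.1 (show ¬ T.half ≤ rword T w' r from hr.2), h.Maps_nW hww hr.1.2⟩) hb₀
  have hb' : Commute (N * b₀ * N⁻¹) (X D 0 (d'' * (d' * (d * 1)))) := by
    refine Subgroup.mem_centralizer_singleton_iff.1 ((?_ : gen D K {r | r < T.half} ≤
      Subgroup.centralizer {X D 0 (d'' * (d' * (d * 1)))}) hb1)
    rw [gen, Subgroup.closure_le]
    rintro _ ⟨r, hr, t, rfl⟩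
    exact Subgroup.mem_centralizer_singleton_iff.2 (h.neg_commute_zero hf hr t _).eq
  obtain ⟨q, hq, l, hl, hql⟩ := h.exists_split {r | T.inQ r = true} (posList T)
    sortedLT_posList (fun r hr => mem_posList.1 hr)
    (by rw [posList_set]; exact h.commClosed_posSet) _ ha'
  have hl' : Commute l (X D 0 (d'' * (d' * (d * 1)))) := by
    refine Subgroup.mem_centralizer_singleton_iff.1
      (((Subgroup.closure_le _).2 ?_ : gen D K ({r | r ∈ posList T} \ {r | T.inQ r = true}) ≤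
        Subgroup.centralizer {X D 0 (d'' * (d' * (d * 1)))}) hl)
    rintro _ ⟨r, hr, t, rfl⟩
    exact Subgroup.mem_centralizer_singleton_iff.2
      (h.levi_commute_zero hf (mem_posList.1 hr.1).1 (mem_posList.1 hr.1).2
        (Bool.eq_false_iff.2 hr.2) t _).eq
  have hNH : N ∈ H := ho.nW_mem h hww
  have econj : N * (a₀ * b₀ * X D s (d' * (d * 1)) * (a₀ * b₀)⁻¹) * N⁻¹ =
      q * X D 0 (d'' * (d' * (d * 1))) * q⁻¹ := by
    calc N * (a₀ * b₀ * X D s (d' * (d * 1)) * (a₀ * b₀)⁻¹) * N⁻¹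
        = (N * a₀ * N⁻¹) * ((N * b₀ * N⁻¹) * (N * X D s (d' * (d * 1)) * N⁻¹) *
            (N * b₀ * N⁻¹)⁻¹) * (N * a₀ * N⁻¹)⁻¹ := by group
      _ = (N * a₀ * N⁻¹) * X D 0 (d'' * (d' * (d * 1))) * (N * a₀ * N⁻¹)⁻¹ := by
          rw [hd''m, hb'.eq, mul_inv_cancel_right]
      _ = q * (l * X D 0 (d'' * (d' * (d * 1))) * l⁻¹) * q⁻¹ := by rw [hql]; group
      _ = _ := by rw [hl'.eq, mul_inv_cancel_right]
  refine ⟨N, hNH, ?_, _, q, ⟨?_, ?_, ?_⟩, econj⟩
  · exact h.nW_map σ w'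
  · exact mul_ne_zero hd'' (mul_ne_zero hd' (mul_ne_zero hd one_ne_zero))
  · exact gen_mono D (fun r hr => hr.2) hq
  · rw [← econj]
    exact mul_mem (mul_mem hNH hy) (inv_mem hNH)

end Over

end CfsgLib.Chev
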