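import Cfsg.Agent.Lib.Chev.SubfieldExc
import Cfsg.Agent.Lib.Chev.All

/-!
Type G2: the short coordinates of a frame element.

An element of the overgroup inside the unipotent radical has brackets in the subfield. Two commutators with fixed long
root elements bring the short coordinate there, with its multiple by three and its cube as brackets.
-/

set_option autoImplicit false
set_option maxRecDepth 100000

namespace CfsgLib.Chev

open Cfsg.Lie Matrix

lemma g2Basic : tabG2.top = 11 ∧ tabG2.n = 12 ∧ tabG2.qList = [6, 8, 9, 10, 11] ∧ 0 < tabG2.l ∧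
    tabG2.one 10 0 5 = true := by
  decide +kernel

lemma g2Comm :
    tabG2.commTerms 7 6 = [(8, -1, 1, 1), (9, 1, 2, 1), (10, 1, 3, 1), (11, 1, 3, 2)] ∧
    tabG2.commTerms 5 8 = [(7, 1, 1, 1), (9, -1, 1, 2), (11, 1, 1, 3), (10, 2, 2, 3)] ∧
    tabG2.commTerms 7 8 = [(9, -2, 1, 1), (10, -3, 2, 1), (11, 3, 1, 2)] ∧
    tabG2.commTerms 5 9 = [] ∧ tabG2.commTerms 5 10 = [] ∧
    tabG2.commTerms 5 11 = [(10, 1, 1, 1)] := by
  decide +kernel

lemma g2Comm68 : tabG2.commTerms 6 8 = [] := by decide +kernel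

lemma g2Pair : tabG2.chkDir 10 6 = true := by decide +kernel

lemma g2Coef6 : tabG2.coef 6 6 = 0 ∧ tabG2.coef 6 8 = 0 ∧ tabG2.coef 6 9 = 0 ∧
    tabG2.coef 6 10 = 1 ∧ tabG2.coef 6 11 = 0 := by
  decide +kernel

lemma g2Coef9 : tabG2.coef 9 9 = 0 ∧ tabG2.coef 9 8 = -3 ∧ tabG2.coef 9 10 = 0 ∧
    tabG2.coef 9 11 = 0 := by
  decide +kernel

lemma g2Coef10 : tabG2.coef 10 6 = -1 ∧ tabG2.coef 10 8 = 0 ∧ tabG2.coef 10 9 = 0 ∧
    tabG2.coef 10 10 = 0 ∧ tabG2.coef 10 11 = 0 := by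
  decide +kernel

lemma g2Refl : tabG2.refl 0 0 = 0 ∧ tabG2.refl 0 6 = 10 ∧ tabG2.refl 0 8 = 9 ∧
    tabG2.refl 0 9 = 8 ∧ tabG2.refl 0 10 = 6 ∧ tabG2.refl 0 11 = 11 := by
  decide +kernel

/-- The roots are `9`, `10`, `11`. -/
def g2Tail : Set ℕ := {9, 10, 11}

/-- Their group is normalised by the root elements of `6` to `11`. -/
lemma g2Tail_check : ([6, 7, 8, 9, 10, 11].all fun r => [9, 10, 11].all fun s =>
    decide (s = r) || (decide (s ≠ tabG2.neg r) &&
      (tabG2.commTerms r s).all fun q => decide (q.1 ∈ [9, 10, 11]))) = true := by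
  decide +kernel

namespace Over

open Cert (inQ_lt one_spec mem_qList)

variable {D : ChevalleyDatum} {C : Tab.Cover} {K : Type*} [Field K] {σ : K →+* K}
  {k : Subfield K} {H : Subgroup (GL D.Idx K)} (ho : Over D tabG2 σ k H) (h : Cert D tabG2 C)
  (hf : tabG2.chkFrame = true)

include h in
lemma g2Tail_conj {r : ℕ} (hr : r ∈ [6, 7, 8, 9, 10, 11]) (u : K) {g : GL D.Idx K}
    (hg : g ∈ gen D K g2Tail) : X D r u * g * X D r (-u) ∈ gen D K g2Tail := by
  have hn : tabG2.n = 12 := g2Basic.2.1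
  have hrn : r < tabG2.n := by rw [hn]; simp only [List.mem_cons, List.not_mem_nil, or_false] at hr; omega
  have hmem : ∀ s, s ∈ g2Tail ↔ s ∈ [9, 10, 11] := fun s => by simp [g2Tail]
  have hch := g2Tail_check
  simp only [List.all_eq_true, Bool.or_eq_true, Bool.and_eq_true, decide_eq_true_eq] at hch
  induction hg using Subgroup.closure_induction with
  | mem x hx =>
    obtain ⟨s, hs, t, rfl⟩ := hx
    have hsn : s < tabG2.n := by
      rw [hn]; rw [hmem] at hs; simp only [List.mem_cons, List.not_mem_nil, or_false] at hs; omega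
    rw [← h.X_inv hrn]
    rcases hch r hr s ((hmem s).1 hs) with e | ⟨hneg, hq⟩
    · subst e
      rw [h.X_add hsn, add_comm, ← h.X_add hsn, mul_inv_cancel_right]
      exact X_mem_gen D hs t
    · by_cases e : s = r
      · subst e
        rw [h.X_add hsn, add_comm, ← h.X_add hsn, mul_inv_cancel_right]
        exact X_mem_gen D hs t
      exact h.X_conj_mem hrn hsn e hneg hs (fun q hq' => (hmem _).2 (hq q hq')) u t
  | one => rw [mul_one, h.X_add hrn, add_neg_cancel, h.X_zero hrn]; exact one_mem _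
  | mul x y _ _ hx hy =>
    have := mul_mem hx hy
    rwa [show X D r u * x * X D r (-u) * (X D r u * y * X D r (-u)) =
      X D r u * (x * (X D r (-u) * X D r u) * y) * X D r (-u) by group, h.X_add hrn, neg_add_cancel,
      h.X_zero hrn, mul_one] at this
  | inv x _ hx =>
    have := inv_mem hx
    rwa [← h.X_inv hrn, show (X D r u * x * (X D r u)⁻¹)⁻¹ = X D r u * x⁻¹ * (X D r u)⁻¹ by group,
      h.X_inv hrn] at this

include h hf ho

lemma g2_brk_mem {γ : ℕ} (hγ : γ < tabG2.n) {g : GL D.Idx K} {v : K} (hg : g ∈ H)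
    (hv : Brk D tabG2 γ g v) : v ∈ k := by
  have h1 := mul_mem (inv_mem (mul_mem hg (ho.X_mem h hγ (one_mem k))))
    (mul_mem (ho.X_mem h hγ (one_mem k)) hg)
  rw [hv 1, one_mul, inv_mul_cancel_left] at h1
  exact ho.param v h1

/-- The coordinate at `7` of an element of the overgroup. -/
lemma g2_core [Finite k] {a : K} {g' : GL D.Idx K} (hg' : g' ∈ Qgrp D tabG2 K)
    (hg : X D 7 a * g' ∈ H) : a ∈ k := by
  obtain ⟨etop, hn, eql, -, -⟩ := g2Basic
  obtain ⟨e76, -, -, -, -, -⟩ := g2Comm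
  obtain ⟨e66, e68, e69, e610, e611⟩ := g2Coef6
  obtain ⟨e99, e98, e910, e911⟩ := g2Coef9
  have hQ : ∀ r ∈ [6, 8, 9, 10, 11], tabG2.inQ r = true := fun r hr =>
    mem_qList.1 (by rw [eql]; exact hr)
  have h6H : X D 6 (1 : K) ∈ H := ho.X_mem h (by rw [hn]; norm_num) (one_mem k)
  set g := X D 7 a * g'
  have h1 := mul_mem (inv_mem h6H) (mul_mem (mul_mem hg h6H) (inv_mem hg))
  obtain ⟨v, hv⟩ := h.exists_Brk hf (hQ 6 (by simp)) hg'
  obtain ⟨ht1, ht2, ht3, ht4, ht5, ht6, ht7⟩ := h.frame_top hf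
  have hc : g' * X D 6 (1 : K) * g'⁻¹ = X D 6 1 * X D 11 (-v) := by
    have e1 := hv 1
    rw [one_mul, etop] at e1
    have e2 := (h.Qgrp_commute_top hf hg' (-v)).eq
    rw [etop] at e2
    rw [mul_inv_eq_iff_eq_mul, mul_assoc, ← e2, ← mul_assoc, e1, mul_assoc, h.X_add (by rw [hn]; norm_num),
      add_neg_cancel, h.X_zero (by rw [hn]; norm_num), mul_one]
  have h7t := (h.pos_commute_top hf (r := 7) (by rw [Tab.half, hn]; norm_num) (by rw [hn]; norm_num)
    a (-v)).eq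
  rw [etop] at h7t
  have h8 := h.X_conj (F := K) (r := 7) (s := 6) (by rw [hn]; norm_num) (by rw [hn]; norm_num)
    (by norm_num) (by simp [Tab.neg, hn]) (-a) 1
  rw [_root_.neg_neg, ← h.X_inv (r := 7) (by rw [hn]; norm_num), e76] at h8
  simp only [List.map_cons, List.map_nil, List.prod_cons, List.prod_nil, mul_one, one_pow,
    Int.cast_neg, Int.cast_one, one_mul, pow_one, neg_mul] at h8
  have h2 : X D 8 (-a) * (X D 9 (a ^ 2) * (X D 10 (a ^ 3) * (X D 11 (a ^ 3) * X D 11 (-v)))) ∈ H := by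
    have e : (X D 6 (1 : K))⁻¹ * (g * X D 6 1 * g⁻¹) =
        X D 8 (-a) * (X D 9 (a ^ 2) * (X D 10 (a ^ 3) * (X D 11 (a ^ 3) * X D 11 (-v)))) := by
      calc (X D 6 (1 : K))⁻¹ * (g * X D 6 1 * g⁻¹)
          = (X D 6 (1 : K))⁻¹ * (X D 7 a * (g' * X D 6 1 * g'⁻¹) * (X D 7 a)⁻¹) := by
            simp only [g]; group
        _ = (X D 6 (1 : K))⁻¹ * ((X D 7 a * X D 6 1 * (X D 7 a)⁻¹) *
              (X D 7 a * X D 11 (-v) * (X D 7 a)⁻¹)) := by rw [hc]; group
        _ = _ := by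
            rw [h8, h7t, mul_inv_cancel_right, mul_assoc, inv_mul_cancel_left]
            simp only [mul_assoc]
    rwa [e] at h1
  rw [h.X_add (by rw [hn]; norm_num)] at h2
  have hQ9 : ∀ u, X D 9 u ∈ Qgrp D tabG2 K := fun u => X_mem_gen D (hQ 9 (by simp)) u
  have hQ10 : ∀ u, X D 10 u ∈ Qgrp D tabG2 K := fun u => X_mem_gen D (hQ 10 (by simp)) u
  have hQ11 : ∀ u, X D 11 u ∈ Qgrp D tabG2 K := fun u => X_mem_gen D (hQ 11 (by simp)) u
  have hbr : ∀ γ, tabG2.inQ γ = true → tabG2.coef γ γ = 0 →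
      Brk D tabG2 γ (X D 8 (-a) * (X D 9 (a ^ 2) * (X D 10 (a ^ 3) * X D 11 (a ^ 3 + -v))))
        (-a * (tabG2.coef γ 8 : K) + (a ^ 2 * (tabG2.coef γ 9 : K) +
          (a ^ 3 * (tabG2.coef γ 10 : K) + (a ^ 3 + -v) * (tabG2.coef γ 11 : K)))) := by
    intro γ hγ h0
    exact Cert.Brk.mul' h hf hγ (mul_mem (hQ9 _) (mul_mem (hQ10 _) (hQ11 _)))
      (h.Brk_coef hf hγ (hQ 8 (by simp)) h0 _) (Cert.Brk.mul' h hf hγ (mul_mem (hQ10 _) (hQ11 _))
        (h.Brk_coef hf hγ (hQ 9 (by simp)) h0 _) (Cert.Brk.mul' h hf hγ (hQ11 _)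
          (h.Brk_coef hf hγ (hQ 10 (by simp)) h0 _) (h.Brk_coef hf hγ (hQ 11 (by simp)) h0 _)))
  have h3 := ho.g2_brk_mem h hf (by rw [hn]; norm_num) h2 (hbr 6 (hQ 6 (by simp)) e66)
  have h9 := ho.g2_brk_mem h hf (by rw [hn]; norm_num) h2 (hbr 9 (hQ 9 (by simp)) e99)
  rw [e68, e69, e610, e611] at h3
  rw [e98, e99, e910, e911] at h9
  simp only [Int.cast_zero, Int.cast_one, mul_zero, mul_one, add_zero, zero_add] at h3 h9
  by_cases h30 : (3 : K) = 0
  · have : Fact (Nat.Prime 3) := ⟨Nat.prime_three⟩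
    have : CharP K 3 := (CharP.charP_iff_prime_eq_zero Nat.prime_three).2 (by exact_mod_cast h30)
    have hsurj : Function.Surjective fun y : k => y ^ 3 :=
      Finite.surjective_of_injective fun x y hxy => Subtype.ext
        (frobenius_inj K 3 (by simpa [frobenius_def] using congrArg Subtype.val hxy))
    obtain ⟨y, hy⟩ := hsurj ⟨a ^ 3, h3⟩
    have : (y : K) = a :=
      frobenius_inj K 3 (by simpa [frobenius_def] using congrArg Subtype.val hy)
    exact this ▸ y.2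
  · have h4 := mul_mem (inv_mem (natCast_mem k 3)) h9
    push_cast at h4
    rwa [show -a * -(3 : K) = 3 * a by ring, inv_mul_cancel_left₀ h30] at h4

/-- The coordinate at `8` when the one at `6` vanishes. -/
lemma g2_first [Finite k] {c u : K} {rest : GL D.Idx K} (hrest : rest ∈ gen D K g2Tail)
    (hS : Sted D tabG2 H c (X D 8 u * rest)) (hck : c ∈ k) : u ∈ k := by
  obtain ⟨etop, hn, eql, -, e105⟩ := g2Basic
  obtain ⟨-, e58, e78, e59, e510, e511⟩ := g2Comm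
  obtain ⟨e66, e68, e69, e610, e611⟩ := g2Coef6
  obtain ⟨-, e108, e109, e1010, e1011⟩ := g2Coef10
  have hQ : ∀ r ∈ [6, 8, 9, 10, 11], tabG2.inQ r = true := fun r hr =>
    mem_qList.1 (by rw [eql]; exact hr)
  have hlt : ∀ r, r < 12 → r < tabG2.n := fun r hr => by rw [hn]; exact hr
  obtain ⟨ht1, ht2, ht3, ht4, ht5, ht6, ht7⟩ := h.frame_top hf
  have htail : ∀ γ, tabG2.inQ γ = true → tabG2.coef γ γ = 0 → tabG2.coef γ 9 = 0 →
      tabG2.coef γ 10 = 0 → tabG2.coef γ 11 = 0 → ∀ g ∈ gen D K g2Tail,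
        g ∈ Qgrp D tabG2 K ∧ Brk D tabG2 γ g 0 := by
    intro γ hγ h0 a9 a10 a11 g hg
    induction hg using Subgroup.closure_induction with
    | mem x hx =>
      obtain ⟨s, hs, t, rfl⟩ := hx
      simp only [g2Tail, Set.mem_insert_iff, Set.mem_singleton_iff] at hs
      have hsQ : tabG2.inQ s = true := hQ s (by rcases hs with rfl | rfl | rfl <;> simp)
      refine ⟨X_mem_gen D hsQ t, ?_⟩
      have := h.Brk_coef hf hγ hsQ h0 t
      rcases hs with rfl | rfl | rfl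
      · simpa [a9] using this
      · simpa [a10] using this
      · simpa [a11] using this
    | one => exact ⟨one_mem _, Cert.Brk.one' h hf γ⟩
    | mul x y _ _ hx hy =>
      exact ⟨mul_mem hx.1 hy.1, by simpa using Cert.Brk.mul' h hf hγ hy.1 hx.2 hy.2⟩
    | inv x _ hx => exact ⟨inv_mem hx.1, by simpa using Cert.Brk.inv' h hf hx.1 hx.2⟩
  set q := X D 8 u * rest with hq
  -- q commutes with the root elements of 10
  have hr10 := htail 10 (hQ 10 (by simp)) e1010 e109 e1010 e1011 rest hrest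
  have hq10 : Brk D tabG2 10 q 0 := by
    have := Cert.Brk.mul' h hf (hQ 10 (by simp)) hr10.1
      (h.Brk_coef hf (hQ 10 (by simp)) (hQ 8 (by simp)) e1010 u) hr10.2
    simpa [e108] using this
  set s := ((tabG2.coef 10 0 : K) * c)⁻¹ with hs
  have hsk : s ∈ k := inv_mem (mul_mem (intCast_mem k _) hck)
  have hγ0 : (tabG2.coef 10 0 : K) * c ≠ 0 := by
    rcases (one_spec (K := K) e105).2 with e | e <;> simp [e, hS.1]
  have hX5 : q * X D 5 1 * q⁻¹ ∈ H := by
    have h1 := mul_mem (inv_mem hS.2.2)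
      (mul_mem (mul_mem (ho.X_mem h (hlt 10 (by norm_num)) hsk) hS.2.2)
        (inv_mem (ho.X_mem h (hlt 10 (by norm_num)) hsk)))
    have e1 := h.conj_of_one (hlt 10 (by norm_num)) ht6 (by norm_num)
      (by simp [Tab.neg, hn]) e105 s c
    rw [show (tabG2.coef 10 0 : K) * s * c = 1 by
      rw [hs, mul_comm _ ((_ : K)⁻¹), mul_assoc, inv_mul_cancel₀ hγ0]] at e1
    have e2 := (Cert.Brk.commute_zero h hf hq10 s).eq
    have : (q * X D 0 c * q⁻¹)⁻¹ * (X D 10 s * (q * X D 0 c * q⁻¹) * (X D 10 s)⁻¹) =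
        q * X D 5 1 * q⁻¹ := by
      calc (q * X D 0 c * q⁻¹)⁻¹ * (X D 10 s * (q * X D 0 c * q⁻¹) * (X D 10 s)⁻¹)
          = q * (X D 0 c)⁻¹ * q⁻¹ * ((X D 10 s * q) * X D 0 c * (X D 10 s * q)⁻¹) := by group
        _ = q * (X D 0 c)⁻¹ * q⁻¹ * ((q * X D 10 s) * X D 0 c * (q * X D 10 s)⁻¹) := by rw [e2]
        _ = q * ((X D 0 c)⁻¹ * (X D 10 s * X D 0 c * (X D 10 s)⁻¹)) * q⁻¹ := by group
        _ = _ := by rw [e1, inv_mul_cancel_left]
    rwa [this] at h1
  have hE := mul_mem (ho.X_mem h (hlt 5 (by norm_num)) (neg_mem (one_mem k))) hX5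
  rw [← h.X_inv (hlt 5 (by norm_num))] at hE
  set R := X D 9 (u ^ 2) * (X D 11 (-(u ^ 3)) * X D 10 (2 * u ^ 3))
  have hR : R ∈ gen D K g2Tail :=
    mul_mem (X_mem_gen D (by simp [g2Tail]) _)
      (mul_mem (X_mem_gen D (by simp [g2Tail]) _) (X_mem_gen D (by simp [g2Tail]) _))
  have e8 : (X D 5 (1 : K))⁻¹ * X D 8 u * X D 5 1 = X D 8 u * (X D 7 (-u) * R) := by
    have := h.X_conj (F := K) (hlt 5 (by norm_num)) (hlt 8 (by norm_num)) (by norm_num)
      (by simp [Tab.neg, hn]) 1 u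
    rw [← h.X_inv (hlt 5 (by norm_num)), e58] at this
    rw [this]
    simp [R]
  have hrest' : (X D 5 (1 : K))⁻¹ * rest * X D 5 1 ∈ gen D K g2Tail := by
    refine Subgroup.closure_induction (p := fun g _ => (X D 5 (1 : K))⁻¹ * g * X D 5 1 ∈ gen D K g2Tail)
      ?_ (by simp) ?_ ?_ hrest
    · rintro _ ⟨r, hr, t, rfl⟩
      have hr' : r = 9 ∨ r = 10 ∨ r = 11 := by simpa [g2Tail] using hr
      rw [h.X_inv (hlt 5 (by norm_num))]
      have hne : r ≠ 5 := by omega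
      have hneg : r ≠ tabG2.neg 5 := by simp [Tab.neg, hn]; omega
      rw [h.X_conj (hlt 5 (by norm_num)) (hlt r (by omega)) hne hneg 1 t]
      refine mul_mem (X_mem_gen D hr t) (list_prod_mem fun g hg => ?_)
      obtain ⟨q, hq, rfl⟩ := List.mem_map.1 hg
      rcases hr' with rfl | rfl | rfl
      · simp [e59] at hq
      · simp [e510] at hq
      · simp only [e511, List.mem_singleton] at hq
        subst hq
        exact X_mem_gen D (by simp [g2Tail]) _
    · intro x y _ _ hx hy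
      have := mul_mem hx hy
      rwa [show (X D 5 (1 : K))⁻¹ * x * X D 5 1 * ((X D 5 (1 : K))⁻¹ * y * X D 5 1) =
        (X D 5 (1 : K))⁻¹ * (x * y) * X D 5 1 by group] at this
    · intro x _ hx
      have := inv_mem hx
      rwa [show ((X D 5 (1 : K))⁻¹ * x * X D 5 1)⁻¹ = (X D 5 (1 : K))⁻¹ * x⁻¹ * X D 5 1 by group] at this
  set g₀ := R * ((X D 5 (1 : K))⁻¹ * rest * X D 5 1) * rest⁻¹
  have hg₀ : g₀ ∈ gen D K g2Tail := mul_mem (mul_mem hR hrest') (inv_mem hrest)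
  have hm7 : X D 7 u * X D 8 u * X D 7 (-u) = X D 8 u * ((tabG2.commTerms 7 8).map fun q =>
      X D q.1 ((q.2.1 : K) * u ^ q.2.2.1 * u ^ q.2.2.2)).prod := by
    have := h.X_conj (F := K) (hlt 7 (by norm_num)) (hlt 8 (by norm_num)) (by norm_num)
      (by simp [Tab.neg, hn]) (-u) u
    rwa [_root_.neg_neg] at this
  set R' := ((tabG2.commTerms 7 8).map fun q =>
      X D q.1 ((q.2.1 : K) * u ^ q.2.2.1 * u ^ q.2.2.2)).prod
  have hR' : R' ∈ gen D K g2Tail := by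
    refine list_prod_mem fun g hg => ?_
    obtain ⟨q, hq, rfl⟩ := List.mem_map.1 hg
    rw [e78] at hq
    simp only [List.mem_cons, List.not_mem_nil, or_false] at hq
    rcases hq with rfl | rfl | rfl <;> exact X_mem_gen D (by simp [g2Tail]) _
  have hE' : X D 7 (-u) * (X D 8 u * R' * g₀ * X D 8 (-u)) ∈ H := by
    have : (X D 5 (1 : K))⁻¹ * (q * X D 5 1 * q⁻¹) =
        X D 7 (-u) * (X D 8 u * R' * g₀ * X D 8 (-u)) := by
      calc (X D 5 (1 : K))⁻¹ * (q * X D 5 1 * q⁻¹)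
          = ((X D 5 (1 : K))⁻¹ * X D 8 u * X D 5 1) * ((X D 5 (1 : K))⁻¹ * rest * X D 5 1) *
              rest⁻¹ * (X D 8 u)⁻¹ := by rw [hq]; group
        _ = X D 7 (-u) * ((X D 7 u * X D 8 u * X D 7 (-u)) * g₀ * X D 8 (-u)) := by
            rw [e8, ← h.X_inv (hlt 8 (by norm_num)), ← h.X_inv (hlt 7 (by norm_num))]
            simp only [g₀]; group
        _ = _ := by rw [hm7]
    rwa [this] at hE
  have hgQ : X D 8 u * R' * g₀ * X D 8 (-u) ∈ gen D K g2Tail := by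
    rw [show X D 8 u * R' * g₀ * X D 8 (-u) = X D 8 u * (R' * g₀) * X D 8 (-u) by group]
    exact g2Tail_conj h (by simp) u (mul_mem hR' hg₀)
  refine neg_mem_iff.1 (ho.g2_core h hf (gen_mono D ?_ hgQ) hE')
  intro r hr
  simp only [g2Tail, Set.mem_insert_iff, Set.mem_singleton_iff] at hr
  exact hQ r (by rcases hr with rfl | rfl | rfl <;> simp)


/-- Moving the root element at `8` to the left of the tail. -/
lemma g2_move8 {g : GL D.Idx K} (hg : g ∈ gen D K g2Tail) (u : K) :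
    ∃ g' ∈ gen D K g2Tail, g * X D 8 u = X D 8 u * g' := by
  refine ⟨(X D 8 u)⁻¹ * g * X D 8 u, ?_, by group⟩
  have h1 := g2Tail_conj h (r := 8) (by simp) (-u) hg
  rwa [_root_.neg_neg, ← h.X_inv (by rw [g2Basic.2.1]; norm_num)] at h1

/-- The same at `6`. -/
lemma g2_move6 {g : GL D.Idx K} (hg : g ∈ gen D K g2Tail) (u : K) :
    ∃ g' ∈ gen D K g2Tail, g * X D 6 u = X D 6 u * g' := by
  refine ⟨(X D 6 u)⁻¹ * g * X D 6 u, ?_, by group⟩
  have h1 := g2Tail_conj h (r := 6) (by simp) (-u) hg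
  rwa [_root_.neg_neg, ← h.X_inv (by rw [g2Basic.2.1]; norm_num)] at h1

/-- The frame element in the form used here, and its mirror image. -/
lemma g2_forms {c : K} {t : ℕ → K} (hS : Sted D tabG2 H c (prodX D tabG2.qList t)) :
    (∃ rest ∈ gen D K g2Tail, Sted D tabG2 H c (X D 6 (t 6) * (X D 8 (t 8) * rest))) ∧
      ∃ c' e w, (c' ∈ k ↔ c ∈ k) ∧ (e ∈ k ↔ t 10 ∈ k) ∧ (w ∈ k ↔ t 9 ∈ k) ∧ (t 10 = 0 → e = 0) ∧
        ∃ rest ∈ gen D K g2Tail, Sted D tabG2 H c' (X D 6 e * (X D 8 w * rest)) := by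
  obtain ⟨etop, hn, eql, hl, -⟩ := g2Basic
  obtain ⟨r0, r6, r8, r9, r10, r11⟩ := g2Refl
  have hlt : ∀ r, r < 12 → r < tabG2.n := fun r hr => by rw [hn]; exact hr
  rw [eql] at hS
  simp only [prodX, List.map_cons, List.map_nil, List.prod_cons, List.prod_nil, mul_one] at hS
  have hmem : ∀ r ∈ g2Tail, ∀ u : K, X D r u ∈ gen D K g2Tail := fun r hr u => X_mem_gen D hr u
  refine ⟨⟨X D 9 (t 9) * (X D 10 (t 10) * X D 11 (t 11)), mul_mem (hmem 9 (by simp [g2Tail]) _)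
    (mul_mem (hmem 10 (by simp [g2Tail]) _) (hmem 11 (by simp [g2Tail]) _)), hS⟩, ?_⟩
  set n := nS D K 0 with hnS
  set η : ℕ → K := fun r => (tabG2.eta 0 r : K) with hη
  have hiff : ∀ (r : ℕ) (x : K), η r * x ∈ k ↔ x ∈ k := fun r x => by
    rcases tabG2.eta_cases 0 r with e | e <;> simp [η, e]
  have cn : ∀ r, r < 12 → ∀ x : K, n * X D r x * n⁻¹ = X D (tabG2.refl 0 r) (η r * x) := fun r hr x =>
    h.nS_conj_X hl (hlt r hr) x
  have hc0 := cn 0 (by norm_num) c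
  rw [r0] at hc0
  have hm := mul_mem (mul_mem (ho.nS_mem h hl) hS.2.2) (inv_mem (ho.nS_mem h hl))
  rw [← hnS] at hm
  set q := X D 6 (t 6) * (X D 8 (t 8) * (X D 9 (t 9) * (X D 10 (t 10) * X D 11 (t 11))))
  have c6 := cn 6 (by norm_num) (t 6)
  have c8 := cn 8 (by norm_num) (t 8)
  have c9 := cn 9 (by norm_num) (t 9)
  have c10 := cn 10 (by norm_num) (t 10)
  have c11 := cn 11 (by norm_num) (t 11)
  rw [r6] at c6
  rw [r8] at c8
  rw [r9] at c9
  rw [r10] at c10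
  rw [r11] at c11
  have eq' : n * q * n⁻¹ = X D 10 (η 6 * t 6) * X D 9 (η 8 * t 8) * X D 8 (η 9 * t 9) *
      X D 6 (η 10 * t 10) * X D 11 (η 11 * t 11) := by
    rw [← c6, ← c8, ← c9, ← c10, ← c11]
    simp only [q]
    group
  obtain ⟨g1, hg1, e1⟩ := ho.g2_move8 h hf
    (mul_mem (hmem 10 (by simp [g2Tail]) (η 6 * t 6)) (hmem 9 (by simp [g2Tail]) (η 8 * t 8)))
    (η 9 * t 9)
  obtain ⟨g2, hg2, e2⟩ := ho.g2_move6 h hf hg1 (η 10 * t 10)
  have e68 : Commute (X D 6 (η 10 * t 10)) (X D 8 (η 9 * t 9)) :=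
    h.commute_of_nil (hlt 6 (by norm_num)) (hlt 8 (by norm_num)) (by norm_num)
      (by simp [Tab.neg, hn]) g2Comm68 _ _
  have eq'' : n * q * n⁻¹ = X D 6 (η 10 * t 10) * (X D 8 (η 9 * t 9) * (g2 * X D 11 (η 11 * t 11))) := by
    rw [eq', e1, mul_assoc (X D 8 _), e2, ← mul_assoc (X D 8 _), ← e68.eq]
    simp only [mul_assoc]
  refine ⟨η 0 * c, η 10 * t 10, η 9 * t 9, hiff 0 c, hiff 10 _, hiff 9 _,
    fun e => by rw [e, mul_zero], g2 * X D 11 (η 11 * t 11),
    mul_mem hg2 (hmem 11 (by simp [g2Tail]) _),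
    mul_ne_zero ?_ hS.1, ?_, ?_⟩
  · rcases tabG2.eta_cases 0 0 with e | e <;> simp [η, e]
  · rw [← eq'']
    refine Cert.conj_gen_le (fun r hr => ⟨tabG2.refl 0 r, ?_, h.Maps_nS hl (inQ_lt hr).2⟩) hS.2.1
    have hr' := mem_qList.2 hr
    rw [eql] at hr'
    simp only [List.mem_cons, List.not_mem_nil, or_false] at hr'
    refine mem_qList.1 ?_
    rw [eql]
    rcases hr' with rfl | rfl | rfl | rfl | rfl <;> simp [r6, r8, r9, r10, r11]
  · rw [← eq'', ← hc0]
    rwa [show n * q * n⁻¹ * (n * X D 0 c * n⁻¹) * (n * q * n⁻¹)⁻¹ =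
      n * (q * X D 0 c * q⁻¹) * n⁻¹ by group]

/-- The short coordinates of a stripped frame element. -/
theorem g2_short [Finite k] (hall : ∀ c q, Sted D tabG2 H c q → c ∈ k) {c : K} {t : ℕ → K}
    (hS : Sted D tabG2 H c (prodX D tabG2.qList t))
    (ht : ∀ r ∈ tabG2.qList, r ∉ [8, 9] → r ≠ tabG2.top → t r = 0) : ∀ γ ∈ [8, 9], t γ ∈ k := by
  obtain ⟨etop, hn, eql, hl, -⟩ := g2Basic
  have t6 : t 6 = 0 := ht 6 (by simp [eql]) (by simp) (by rw [etop]; norm_num)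
  have t10 : t 10 = 0 := ht 10 (by simp [eql]) (by simp) (by rw [etop]; norm_num)
  obtain ⟨⟨r1, hr1, h1⟩, c', e, w, hc', -, hw, he, r2, hr2, h2⟩ := ho.g2_forms h hf hS
  rw [t6, h.X_zero (by rw [hn]; norm_num), one_mul] at h1
  rw [he t10, h.X_zero (by rw [hn]; norm_num), one_mul] at h2
  intro γ hγ
  simp only [List.mem_cons, List.not_mem_nil, or_false] at hγ
  rcases hγ with rfl | rfl
  · exact ho.g2_first h hf hr1 h1 (hall _ _ h1)
  · exact hw.1 (ho.g2_first h hf hr2 h2 (hall _ _ h2))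

/-- The exceptional field: the coordinate at `8` of any frame element with irrational parameter. -/
lemma g2_exc_first [Finite k] (hp : tabG2.chkFrPair 10 6 = true)
    (hfour : FourRule D tabG2 k H) {c x u : K} {rest : GL D.Idx K}
    (hrest : rest ∈ gen D K g2Tail) (hS : Sted D tabG2 H c (X D 6 x * (X D 8 u * rest)))
    (hc : c ∉ k) : u ∈ k := by
  obtain ⟨etop, hn, eql, hl, -⟩ := g2Basic
  obtain ⟨e66, e68, e69, e610, e611⟩ := g2Coef6
  obtain ⟨e106, e108, e109, e1010, e1011⟩ := g2Coef10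
  have hQ : ∀ r ∈ [6, 8, 9, 10, 11], tabG2.inQ r = true := fun r hr =>
    mem_qList.1 (by rw [eql]; exact hr)
  have hlt : ∀ r, r < 12 → r < tabG2.n := fun r hr => by rw [hn]; exact hr
  obtain ⟨h20, hroot⟩ := hfour
  haveI : CharP K 2 := CharTwo.of_one_ne_zero_of_two_eq_zero one_ne_zero h20
  have hneg : ∀ y : K, -y = y := CharTwo.neg_eq
  set q := X D 6 x * (X D 8 u * rest) with hq
  -- the coordinate at 6 is irrational
  have hsubQ : gen D K g2Tail ≤ Qgrp D tabG2 K := gen_mono D fun r hr => by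
    simp only [g2Tail, Set.mem_insert_iff, Set.mem_singleton_iff] at hr
    exact hQ r (by rcases hr with rfl | rfl | rfl <;> simp)
  have hb10 : Brk D tabG2 10 q (-x) := by
    have htl : ∀ g ∈ gen D K g2Tail, Brk D tabG2 10 g 0 := by
      intro g hg
      induction hg using Subgroup.closure_induction with
      | mem y hy =>
        obtain ⟨s, hs, t, rfl⟩ := hy
        simp only [g2Tail, Set.mem_insert_iff, Set.mem_singleton_iff] at hs
        have := h.Brk_coef hf (hQ 10 (by simp))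
          (hQ s (by rcases hs with rfl | rfl | rfl <;> simp)) e1010 t
        rcases hs with rfl | rfl | rfl
        · simpa [e109] using this
        · simpa [e1010] using this
        · simpa [e1011] using this
      | one => exact Cert.Brk.one' h hf 10
      | mul y z _ hz hy' hz' =>
        simpa using Cert.Brk.mul' h hf (hQ 10 (by simp)) (hsubQ hz) hy' hz'
      | inv y hy hy' => simpa using Cert.Brk.inv' h hf (hsubQ hy) hy'
    have := Cert.Brk.mul' h hf (hQ 10 (by simp))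
      (mul_mem (X_mem_gen D (hQ 8 (by simp)) _) (hsubQ hrest))
      (h.Brk_coef hf (hQ 10 (by simp)) (hQ 6 (by simp)) e1010 x)
      (Cert.Brk.mul' h hf (hQ 10 (by simp)) (hsubQ hrest)
        (h.Brk_coef hf (hQ 10 (by simp)) (hQ 8 (by simp)) e1010 u) (htl rest hrest))
    simpa [e106, e108] using this
  obtain ⟨hcr, hxr⟩ := hroot 10 6 hp c _ _ hS hc hb10
  rw [hneg] at hxr
  obtain ⟨η, hη⟩ := h.exists_Brk hf (hQ 6 (by simp)) hS.2.1
  have hp' : tabG2.chkFrPair 6 10 = true := by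
    simp only [Tab.chkFrPair, Bool.and_eq_true] at hp ⊢
    exact ⟨hp.2, hp.1⟩
  have hηr := (hroot 6 10 hp' c _ _ hS hc hη).2
  have hc2 : (c ^ 2)⁻¹ = c := by
    refine inv_eq_of_mul_eq_one_right ?_
    linear_combination (c - 1) * hcr
  set s := (c ^ 2)⁻¹ + η
  have hsk : s ∈ k := by
    simp only [s]; rw [hc2]; exact SubfieldStep.add_mem_of_root h20 hcr hηr
  obtain ⟨g1, hg1, e1⟩ := ho.g2_move6 h hf
    (X_mem_gen D (show 10 ∈ g2Tail by simp [g2Tail]) s) x
  obtain ⟨g2, hg2, e2⟩ := ho.g2_move8 h hf hg1 u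
  have hS1 := ho.sted_left h hf hS (X_mem_gen D (hQ 10 (by simp)) s)
    (ho.X_mem h (hlt 10 (by norm_num)) hsk)
  have hη1 : Brk D tabG2 6 (X D 10 s * q) ((c ^ 2)⁻¹) := by
    have := Cert.Brk.mul' h hf (hQ 6 (by simp)) hS.2.1
      (h.Brk_coef hf (hQ 6 (by simp)) (hQ 10 (by simp)) e66 s) hη
    rwa [e610, Int.cast_one, mul_one, show s + η = (c ^ 2)⁻¹ by
      simp only [s]; rw [add_assoc, CharTwo.add_self_eq_zero, add_zero]] at this
  have hS2 := ho.sted_step h hf g2Pair hS1 hη1 (inv_ne_zero (pow_ne_zero _ hS.1)) (one_mem k)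
    one_ne_zero
  set e := -((tabG2.coef 0 6 : K) * (tabG2.coef 6 0 : K)) * (c * (c ^ 2)⁻¹)⁻¹ with he
  have hec : e = c := by
    have hp1 := g2Pair
    simp only [Tab.chkDir, Bool.and_eq_true] at hp1
    obtain ⟨⟨⟨⟨⟨-, a1⟩, -⟩, a2⟩, -⟩, -⟩ := hp1
    rw [he, mul_inv, inv_inv]
    have : c⁻¹ * c ^ 2 = c := by rw [pow_two, ← mul_assoc, inv_mul_cancel₀ hS.1, one_mul]
    rw [this]
    rcases (Cert.one_spec (K := K) a1).2 with z | z <;> rw [z] <;>
      rcases (Cert.one_spec (K := K) a2).2 with y | y <;> rw [y] <;> simp [hneg]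
  rw [hec] at hS2
  set c' := -(c ^ 2 * (1 * (c ^ 2)⁻¹))
  have hc' : c' ∈ k := by
    simp only [c', one_mul, mul_inv_cancel₀ (pow_ne_zero 2 hS.1), hneg]
    exact one_mem k
  obtain ⟨g3, hg3, e3⟩ := ho.g2_move6 h hf
    (mul_mem (mul_mem hg2 hrest) (X_mem_gen D (show 11 ∈ g2Tail by simp [g2Tail]) c⁻¹)) c
  have hxc : x + c ∈ k := SubfieldStep.add_mem_of_root h20 hxr hcr
  have e68' : Commute (X D 8 u) (X D 6 c) :=
    (h.commute_of_nil (hlt 6 (by norm_num)) (hlt 8 (by norm_num)) (by norm_num)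
      (by simp [Tab.neg, hn]) g2Comm68 _ _).symm
  have eq3 : X D 10 s * q * (X D tabG2.top c⁻¹ * X D 6 c) =
      X D 6 (x + c) * (X D 8 u * g3) := by
    calc X D 10 s * q * (X D tabG2.top c⁻¹ * X D 6 c)
        = (X D 10 s * X D 6 x) * X D 8 u * rest * X D 11 c⁻¹ * X D 6 c := by
          rw [etop, hq]; simp only [mul_assoc]
      _ = X D 6 x * ((g1 * X D 8 u) * rest * X D 11 c⁻¹ * X D 6 c) := by
          rw [e1]; simp only [mul_assoc]
      _ = X D 6 x * (X D 8 u * ((g2 * rest * X D 11 c⁻¹) * X D 6 c)) := by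
          rw [e2]; simp only [mul_assoc]
      _ = X D 6 x * (X D 8 u * X D 6 c * g3) := by rw [e3, mul_assoc]
      _ = _ := by rw [e68'.eq, ← h.X_add (hlt 6 (by norm_num))]; simp only [mul_assoc]
  rw [eq3] at hS2
  have hS3 := ho.sted_left h hf hS2 (inv_mem (X_mem_gen D (hQ 6 (by simp)) (x + c)))
    (inv_mem (ho.X_mem h (hlt 6 (by norm_num)) hxc))
  rw [inv_mul_cancel_left] at hS3
  exact ho.g2_first h hf hg3 hS3 hc'

/-- The exceptional field: both short coordinates. -/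
theorem g2_exc_short [Finite k] (hp : tabG2.chkFrPair 10 6 = true)
    (hfour : FourRule D tabG2 k H) {c : K} {t : ℕ → K}
    (hS : Sted D tabG2 H c (prodX D tabG2.qList t)) (hc : c ∉ k) : ∀ r ∈ [8, 9], t r ∈ k := by
  obtain ⟨⟨r1, hr1, h1⟩, c', e, w, hc', -, hw, -, r2, hr2, h2'⟩ := ho.g2_forms h hf hS
  intro γ hγ
  simp only [List.mem_cons, List.not_mem_nil, or_false] at hγ
  rcases hγ with rfl | rfl
  · exact ho.g2_exc_first h hf hp hfour hr1 h1 hc
  · exact hw.1 (ho.g2_exc_first h hf hp hfour hr2 h2' fun e => hc (hc'.1 e))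

end Over

end CfsgLib.Chev
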