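import Cfsg.Agent.Lib.Chev.SubfieldExpand

/-!
The fixed points of a field automorphism with maximal fixed field form a maximal subgroup.
-/

set_option autoImplicit false
set_option maxRecDepth 100000

namespace CfsgLib.Chev

open Cfsg.Lie Matrix

/-- The two halves of the proof, type by type. -/
structure MaxData (D : ChevalleyDatum) (T : Tab) (C : Tab.Cover) (K : Type*) [Field K] : Prop where
  cert : Cert D T C
  frame : T.chkFrame = true
  word : ∃ W, T.chkWord W = true
  central : ∃ n W, T.chkLedCentral n W = true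
  fixed : ∀ (σ : K →+* K) (k : Subfield K) (r : ℕ) (H : Subgroup (GL D.Idx K)),
    Over D T σ k H → MaxSub k r → FrameFixed D T σ k H
  expand : Expands D T K

lemma frame_word_of_rat {T : Tab} {W : List ℕ} {a b n : ℕ} {S : List ℕ}
    (hrat : T.chkRat W a b n S = true) : T.chkFrame = true ∧ T.chkWord W = true := by
  simp only [Tab.chkRat, Bool.and_eq_true] at hrat
  exact ⟨hrat.1.1.1.1, hrat.1.1.1.2⟩

theorem exists_maxData {K : Type*} [Field K] [Finite K] {D : ChevalleyDatum}
    (hD : D ∈ [chevG2, chevB2, chevD4, chevF4, chevE6, chevE7, chevE8]) :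
    ∃ T C, MaxData D T C K := by
  have ht : ∀ {T : Tab}, T.chkFrame = true → T.top < T.n := fun hf => by
    simp only [Tab.chkFrame, Bool.and_eq_true, decide_eq_true_eq] at hf
    exact hf.1.1.2.1
  simp only [List.mem_cons, List.not_mem_nil, or_false] at hD
  rcases hD with rfl | rfl | rfl | rfl | rfl | rfl | rfl
  · exact ⟨tabG2, coverG2, certG2, (frame_word_of_rat ratG2).1, ⟨_, (frame_word_of_rat ratG2).2⟩,
      ⟨_, _, centralG2⟩, fun _ _ _ _ ho hM => ho.frameFixedG2 hM, expandsG2⟩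
  · exact ⟨tabB2, coverB2, certB2, frameB2.1, ⟨_, frameB2.2⟩, ⟨_, _, centralB2⟩,
      fun _ _ _ _ ho hM => ho.frameFixedB2 hM, expandsB2⟩
  · exact ⟨tabD4, coverD4, certD4, (frame_word_of_rat ratD4).1, ⟨_, (frame_word_of_rat ratD4).2⟩,
      ⟨_, _, centralD4⟩, fun _ _ _ _ ho hM => ho.frameFixedD4 hM,
      expands_of_checks certD4 (ht (frame_word_of_rat ratD4).1) sumD4 tailD4⟩
  · exact ⟨tabF4, coverF4, certF4, (frame_word_of_rat ratF4).1, ⟨_, (frame_word_of_rat ratF4).2⟩,
      ⟨_, _, centralF4⟩, fun _ _ _ _ ho hM => ho.frameFixedF4 hM,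
      expands_of_checks certF4 (ht (frame_word_of_rat ratF4).1) sumF4 tailF4⟩
  · exact ⟨tabE6, coverE6, certE6, (frame_word_of_rat ratE6).1, ⟨_, (frame_word_of_rat ratE6).2⟩,
      ⟨_, _, centralE6⟩, fun _ _ _ _ ho hM => ho.frameFixedE6 hM,
      expands_of_checks certE6 (ht (frame_word_of_rat ratE6).1) sumE6 tailE6⟩
  · exact ⟨tabE7, coverE7, certE7, (frame_word_of_rat ratE7).1, ⟨_, (frame_word_of_rat ratE7).2⟩,
      ⟨_, _, centralE7⟩, fun _ _ _ _ ho hM => ho.frameFixedE7 hM,
      expands_of_checks certE7 (ht (frame_word_of_rat ratE7).1) sumE7 tailE7⟩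
  · exact ⟨tabE8, coverE8, certE8, (frame_word_of_rat ratE8).1, ⟨_, (frame_word_of_rat ratE8).2⟩,
      ⟨_, _, centralE8⟩, fun _ _ _ _ ho hM => ho.frameFixedE8 hM,
      expands_of_checks certE8 (ht (frame_word_of_rat ratE8).1) sumE8 tailE8⟩

namespace MaxData

variable {D : ChevalleyDatum} {T : Tab} {C : Tab.Cover} {K : Type*} [Field K] [Finite K]
  (hm : MaxData D T C K) {σ : K →+* K} {k : Subfield K} {r : ℕ}
include hm

theorem eq_or_eq (hk : MaxSub k r) {H : Subgroup (GL D.Idx K)} (hb : Between D σ k H) :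
    (∀ g ∈ H, mapGL D σ g = g) ∨ H = D.group K := by
  have h := hm.cert
  by_cases hnew : ∀ t, X D T.top t ∈ H → t ∈ k
  swap
  · simp only [not_forall] at hnew
    obtain ⟨t₀, hH, ht₀⟩ := hnew
    exact Or.inr (hm.expand σ k H hb hk.max t₀ ht₀ hH)
  refine Or.inl fun g hg => ?_
  have ho : Over D T σ k H := ⟨hb.mem_k, hb.le, fun r hr t ht => hb.X_mem h hr ht, hnew⟩
  obtain ⟨htop, -⟩ := (h.frame_top hm.frame).2
  obtain ⟨W, hW⟩ := hm.word
  obtain ⟨n, Wc, hWc⟩ := hm.central
  have key : ∀ g ∈ H,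
      mapGL D σ (g * X D T.top 1 * g⁻¹) = g * X D T.top 1 * g⁻¹ := by
    intro g hg
    obtain ⟨m, -, hmσ, c, q, hS, e⟩ := ho.exists_sted h hm.frame hW (hb.le hg)
      (mul_mem (mul_mem hg (hb.X_mem h htop (one_mem k))) (inv_mem hg))
    obtain ⟨hc, hq⟩ := hm.fixed σ k r H ho hk c q hS
    have e2 := congrArg (mapGL D σ) e
    have e3 : mapGL D σ (q * X D 0 c * q⁻¹) = q * X D 0 c * q⁻¹ := by
      rw [map_mul, map_mul, map_inv, hq, h.X_map, (hb.mem_k c).1 hc]
    rw [e3, map_mul, map_mul, map_inv, hmσ, ← e] at e2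
    exact mul_left_cancel (mul_right_cancel e2)
  have hσg : mapGL D σ g ∈ D.group K := h.map_mem_group σ (hb.le hg)
  have hone : g⁻¹ * mapGL D σ g = 1 := by
    refine h.commFixed_eq_one hWc htop (σ := σ) (mul_mem (inv_mem (hb.le hg)) hσg) fun m hm' => ?_
    have hmσ : mapGL D σ m = m := by
      refine (Subgroup.closure_le (K := MonoidHom.eqLocus (mapGL D σ) (MonoidHom.id _))).2 ?_ hm'
      rintro _ ⟨s, t, -, ht, rfl⟩
      show mapGL D σ (X D s t) = X D s t
      rw [h.X_map, ht]
    have hmG : m ∈ D.group K := by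
      refine (Subgroup.closure_le _).2 ?_ hm'
      rintro _ ⟨s, t, hs, -, rfl⟩
      exact h.X_mem_group hs t
    have h1 := key (g * m) (mul_mem hg (hb.fixed m hmG hmσ))
    simp only [map_mul, map_inv, hmσ, h.X_map, map_one] at h1
    show g⁻¹ * mapGL D σ g * (m * X D T.top 1 * m⁻¹) = m * X D T.top 1 * m⁻¹ * (g⁻¹ * mapGL D σ g)
    calc g⁻¹ * mapGL D σ g * (m * X D T.top 1 * m⁻¹)
        = g⁻¹ * (mapGL D σ g * m * X D T.top 1 * (mapGL D σ g * m)⁻¹) * mapGL D σ g := by group
      _ = g⁻¹ * (g * m * X D T.top 1 * (g * m)⁻¹) * mapGL D σ g := by rw [h1]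
      _ = _ := by group
  exact (inv_mul_eq_one.1 hone).symm

omit [Finite K] in
/-- The fixed points are proper. -/
theorem exists_not_fixed {c : K} (hc : σ c ≠ c) : ∃ g ∈ D.group K, mapGL D σ g ≠ g := by
  have h := hm.cert
  obtain ⟨htop, -⟩ := (h.frame_top hm.frame).2
  exact ⟨X D T.top c, h.X_mem_group htop c, fun e => hc (h.X_inj htop (by rwa [← h.X_map]))⟩

end MaxData

/-- The fixed field of the `p^a`-th power map in a field with `(p^a)^r` elements. -/
theorem maxSub_powerField {K : Type*} [Field K] [Fintype K] {p : ℕ} [Fact p.Prime] [CharP K p]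
    {a r : ℕ} (ha : 1 ≤ a) (hr : r.Prime) (hK : Fintype.card K = (p ^ a) ^ r) {k : Subfield K}
    (hk : ∀ x, x ∈ k ↔ x ^ (p ^ a) = x) : Nat.card k = p ^ a ∧ MaxSub k r := by
  classical
  have hp := (Fact.out : p.Prime).two_le
  have hq : 2 ≤ p ^ a := le_trans hp (Nat.le_self_pow (by omega) p)
  have hcard : Nat.card k = p ^ a := by
    let φ : Kˣ →* Kˣ := powMonoidHom (p ^ a - 1)
    have hker : Nat.card φ.ker = p ^ a - 1 := by
      rw [IsCyclic.card_powMonoidHom_ker, Nat.card_units, Nat.card_eq_fintype_card, hK,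
        Nat.gcd_eq_right (Nat.sub_one_dvd_pow_sub_one _ r)]
    let e : kˣ ≃ φ.ker :=
      { toFun := fun x => ⟨Units.map k.subtype.toMonoidHom x, by
          rw [MonoidHom.mem_ker, powMonoidHom_apply]
          refine Units.ext ?_
          rw [Units.val_pow_eq_pow_val, Units.val_one]
          have h0 : (k.subtype (x : k)) ≠ 0 := fun e0 =>
            x.ne_zero (Subtype.ext e0)
          have h1 := (hk _).1 (x : k).2
          refine mul_right_cancel₀ h0 ?_
          rw [one_mul]
          show ((x : k) : K) ^ (p ^ a - 1) * ((x : k) : K) = _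
          rw [← pow_succ, show p ^ a - 1 + 1 = p ^ a by omega, h1]
          rfl⟩
        invFun := fun x => Units.mk0 ⟨((x : Kˣ) : K), (hk _).2 (by
            have h1 := congrArg Units.val x.2
            simp only [φ, powMonoidHom_apply, Units.val_pow_eq_pow_val, Units.val_one] at h1
            conv_lhs => rw [show p ^ a = p ^ a - 1 + 1 by omega, pow_succ, h1, one_mul])⟩
          (fun e0 => (x : Kˣ).ne_zero (congrArg Subtype.val e0))
        left_inv := fun x => Units.ext (Subtype.ext rfl)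
        right_inv := fun x => Subtype.ext (Units.ext rfl) }
    have h1 := Nat.card_congr e
    rw [hker, Nat.card_units] at h1
    have h2 : 0 < Nat.card k := Nat.card_pos
    omega
  refine ⟨hcard, ⟨fun L hL => ?_, hr, by rw [hcard, Nat.card_eq_fintype_card, hK]⟩⟩
  letI : Algebra k L := (Subfield.inclusion hL).toAlgebra
  have h1 := Module.natCard_eq_pow_finrank (K := k) (V := L)
  have h2 := Module.natCard_eq_pow_finrank (K := L) (V := K)
  rw [h1, hcard, ← pow_mul, Nat.card_eq_fintype_card, hK] at h2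
  have h3 := (Nat.pow_right_injective hq h2).symm
  rcases (Nat.dvd_prime hr).1 ⟨_, h3.symm⟩ with e | e
  · left
    rw [e, pow_one] at h1
    refine SetLike.coe_injective (Set.eq_of_subset_of_ncard_le hL ?_).symm
    rw [← Nat.card_coe_set_eq, ← Nat.card_coe_set_eq]
    exact le_of_eq h1
  · right
    rw [e] at h3
    have h4 : Module.finrank L K = 1 := by
      have := hr.pos
      exact (mul_eq_left₀ this.ne').1 h3
    refine eq_top_iff.2 fun x _ => ?_
    obtain ⟨y, hy⟩ := (finrank_eq_one_iff_of_nonzero' (1 : K) one_ne_zero).1 h4 x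
    rw [← hy, Subfield.smul_def, smul_eq_mul, mul_one]
    exact y.2

end CfsgLib.Chev
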