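import Cfsg.Agent.Lib.Chev.SubfieldFrame

/-!
The moves of a pair of long roots `a + b` equal to the highest root.
-/

set_option autoImplicit false
set_option maxRecDepth 100000

namespace CfsgLib.Chev

open Cfsg.Lie Matrix

namespace Tab

variable (T : Tab)

/-- The commutator of `r` and `s` is one term at `w` with a unit coefficient. -/
def one (r s w : ℕ) : Bool :=
  match T.commTerms r s with
  | [q] => decide (q.1 = w ∧ q.2.2.1 = 1 ∧ q.2.2.2 = 1 ∧ q.2.1.natAbs = 1)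
  | _ => false

/-- The coefficient of a single term. -/
def coef (r s : ℕ) : ℤ := ((T.commTerms r s).map fun q => q.2.1).sum

/-- The data of the moves of the pair `(a, b)`. -/
def chkDir (a b : ℕ) : Bool :=
  T.inQ a && T.inQ b && decide (a ≠ b ∧ a ≠ T.top ∧ b ≠ T.top) && T.one a b T.top &&
    T.one 0 b (T.neg a) && T.one T.top (T.neg a) b && T.one b 0 (T.neg a) &&
    decide (T.coef 0 b * T.coef T.top (T.neg a) = 1) &&
    (T.commTerms b (T.neg a)).isEmpty

/-- The same both ways. -/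
def chkFrPair (a b : ℕ) : Bool := T.chkDir a b && T.chkDir b a

end Tab

namespace Cert

variable {D : ChevalleyDatum} {T : Tab} {C : Tab.Cover} (h : Cert D T C) {K : Type*} [Field K]
include h

omit h in
lemma one_spec {r s w : ℕ} (e : T.one r s w = true) :
    T.commTerms r s = [(w, T.coef r s, 1, 1)] ∧
      (((T.coef r s : ℤ) : K) = 1 ∨ ((T.coef r s : ℤ) : K) = -1) := by
  unfold Tab.one at e
  split at e
  next q hq =>
    obtain ⟨q1, m, i, j⟩ := q
    simp only [decide_eq_true_eq] at e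
    obtain ⟨rfl, rfl, rfl, hm⟩ := e
    have : T.coef r s = m := by simp [Tab.coef, hq]
    rw [this]
    refine ⟨hq, ?_⟩
    rcases Int.natAbs_eq m with e | e <;> rw [hm] at e <;> simp [e]
  next => exact absurd e Bool.false_ne_true

/-- A single term with unit coefficient, as a conjugation. -/
lemma conj_of_one {r s w : ℕ} (hr : r < T.n) (hs : s < T.n) (hne : s ≠ r) (hneg : s ≠ T.neg r)
    (e : T.one r s w = true) (t u : K) :
    X D r t * X D s u * (X D r t)⁻¹ = X D s u * X D w ((T.coef r s : K) * t * u) := by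
  rw [h.conj_of_single hr hs hne hneg (one_spec (K := K) e).1 t u, pow_one, pow_one]

end Cert

namespace Over

open Cert (inQ_lt one_spec)

variable {D : ChevalleyDatum} {T : Tab} {C : Tab.Cover} {K : Type*} [Field K] {σ : K →+* K}
  {k : Subfield K} {H : Subgroup (GL D.Idx K)} (ho : Over D T σ k H) (h : Cert D T C)
  (hf : T.chkFrame = true)
include ho h hf

/-- A zero bracket puts `c` in the subfield. -/
lemma mem_of_brk_zero {a b : ℕ} (hp : T.chkFrPair a b = true) {c : K} {q : GL D.Idx K}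
    (hS : Sted D T H c q) (hq : Brk D T a q 0) : c ∈ k := by
  obtain ⟨ht1, ht2, ht3, ht4, ht5, ht6, ht7⟩ := h.frame_top hf
  simp only [Tab.chkFrPair, Tab.chkDir, Bool.and_eq_true, decide_eq_true_eq] at hp
  obtain ⟨⟨⟨⟨⟨⟨⟨⟨⟨ha, hb⟩, hab, hat, hbt⟩, eab⟩, -⟩, -⟩, -⟩, -⟩, -⟩,
    ⟨⟨⟨⟨⟨⟨-, eba⟩, e0a⟩, eta⟩, ea0⟩, -⟩, -⟩⟩ := hp
  obtain ⟨ha1, ha2⟩ := inQ_lt ha
  obtain ⟨hb1, hb2⟩ := inQ_lt hb
  have hd : T.neg b < T.half := by
    by_contra hh
    have := (h.half_le_neg_iff hb2).1 (not_lt.1 hh)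
    omega
  have hdn : T.neg b < T.n := Cert.neg_lt (T := T) hb2
  set q' := q
  have hqa := Cert.Brk.commute_zero h hf hq
  -- first commutator
  have h1 := mul_mem (inv_mem hS.2.2)
    (mul_mem (mul_mem (ho.X_mem h ha2 (one_mem k)) hS.2.2) (inv_mem (ho.X_mem h ha2 (one_mem k))))
  have e1 := h.conj_of_one ha2 ht6 (by omega)
    (fun e => hat (by rw [← Cert.neg_neg (T := T) ha2, ← e, ht7])) ea0 (1 : K) c
  have h1' : q * X D (T.neg b) ((T.coef a 0 : K) * 1 * c) * q⁻¹ ∈ H := by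
    have : (q * X D 0 c * q⁻¹)⁻¹ * (X D a 1 * (q * X D 0 c * q⁻¹) * (X D a 1)⁻¹) =
        q * X D (T.neg b) ((T.coef a 0 : K) * 1 * c) * q⁻¹ := by
      calc (q * X D 0 c * q⁻¹)⁻¹ * (X D a 1 * (q * X D 0 c * q⁻¹) * (X D a 1)⁻¹)
          = q * (X D 0 c)⁻¹ * q⁻¹ *
              ((X D a 1 * q) * X D 0 c * (X D a 1 * q)⁻¹) := by group
        _ = q * (X D 0 c)⁻¹ * q⁻¹ * ((q * X D a 1) * X D 0 c * (q * X D a 1)⁻¹) := by
            rw [(hqa 1).eq]
        _ = q * ((X D 0 c)⁻¹ * (X D a 1 * X D 0 c * (X D a 1)⁻¹)) * q⁻¹ := by group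
        _ = _ := by rw [e1, inv_mul_cancel_left]
    rwa [this] at h1
  set w := (T.coef a 0 : K) * 1 * c with hw
  -- second commutator
  have h2 := mul_mem (inv_mem h1')
    (mul_mem (mul_mem (ho.X_mem h ht2 (one_mem k)) h1') (inv_mem (ho.X_mem h ht2 (one_mem k))))
  have e2 := h.conj_of_one ht2 hdn (by omega)
    (fun e => hbt (by rw [← Cert.neg_neg (T := T) hb2, e, ht3, ht7])) eta (1 : K) w
  have h2' : X D a ((T.coef T.top (T.neg b) : K) * 1 * w) ∈ H := by
    have : (q * X D (T.neg b) w * q⁻¹)⁻¹ *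
        (X D T.top 1 * (q * X D (T.neg b) w * q⁻¹) * (X D T.top 1)⁻¹) =
        q * X D a ((T.coef T.top (T.neg b) : K) * 1 * w) * q⁻¹ := by
      calc (q * X D (T.neg b) w * q⁻¹)⁻¹ *
            (X D T.top 1 * (q * X D (T.neg b) w * q⁻¹) * (X D T.top 1)⁻¹)
          = q * (X D (T.neg b) w)⁻¹ * q⁻¹ *
              ((X D T.top 1 * q) * X D (T.neg b) w * (X D T.top 1 * q)⁻¹) := by group
        _ = q * (X D (T.neg b) w)⁻¹ * q⁻¹ *
              ((q * X D T.top 1) * X D (T.neg b) w * (q * X D T.top 1)⁻¹) := by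
            rw [(h.Qgrp_commute_top hf hS.2.1 1).eq]
        _ = q * ((X D (T.neg b) w)⁻¹ * (X D T.top 1 * X D (T.neg b) w * (X D T.top 1)⁻¹)) * q⁻¹ := by
            group
        _ = _ := by rw [e2, inv_mul_cancel_left]
    rwa [this, ← (hqa _).eq, mul_inv_cancel_right] at h2
  set w' := (T.coef T.top (T.neg b) : K) * 1 * w with hw'
  -- into the highest root group
  have h3 := mul_mem (inv_mem h2')
    (mul_mem (mul_mem (ho.X_mem h hb2 (one_mem k)) h2') (inv_mem (ho.X_mem h hb2 (one_mem k))))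
  rw [h.conj_of_one hb2 ha2 hab
    (fun e => by have := (h.half_le_neg_iff hb2).1 (e ▸ ha1); omega) eba (1 : K) w',
    inv_mul_cancel_left] at h3
  have h4 := ho.param _ h3
  rw [hw', hw] at h4
  rcases (one_spec (K := K) eba).2 with a1 | a1 <;> rw [a1] at h4 <;>
    rcases (one_spec (K := K) eta).2 with a2 | a2 <;> rw [a2] at h4 <;>
      rcases (one_spec (K := K) ea0).2 with a3 | a3 <;> rw [a3] at h4 <;> simpa using h4

/-- The triples of a pair. -/
def PairP (a b : ℕ) (c ρ η : K) : Prop :=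
  ∃ q, Sted D T H c q ∧ Brk D T a q ρ ∧ Brk D T b q η

omit ho h hf in
lemma pairP_def {a b : ℕ} {c ρ η : K} :
    PairP (D := D) (T := T) (H := H) a b c ρ η ↔
      ∃ q, Sted D T H c q ∧ Brk D T a q ρ ∧ Brk D T b q η := Iff.rfl

/-- The step move. -/
lemma sted_step {a b : ℕ} (hp : T.chkDir a b = true) {c η : K} {q : GL D.Idx K}
    (hS : Sted D T H c q) (hη : Brk D T b q η) (hη0 : η ≠ 0) {t : K} (ht : t ∈ k) (ht0 : t ≠ 0) :
    Sted D T H (-(c ^ 2 * (t * η)))
      (q * (X D T.top c⁻¹ * X D b (-((T.coef 0 b : K) * (T.coef b 0 : K)) * (c * η)⁻¹))) := by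
  obtain ⟨ht1, ht2, ht3, ht4, ht5, ht6, ht7⟩ := h.frame_top hf
  simp only [Tab.chkDir, Bool.and_eq_true, decide_eq_true_eq, List.isEmpty_iff] at hp
  obtain ⟨⟨⟨⟨⟨⟨⟨⟨ha, hb⟩, hab, hat, hbt⟩, eab⟩, e0b⟩, etd⟩, eb0⟩, eprod⟩, ebd⟩ := hp
  obtain ⟨ha1, ha2⟩ := inQ_lt ha
  obtain ⟨hb1, hb2⟩ := inQ_lt hb
  set d := T.neg a with hd0
  have hd : d < T.half := by
    by_contra hh
    have := (h.half_le_neg_iff ha2).1 (not_lt.1 hh)
    omega
  have hdn : d < T.n := Cert.neg_lt (T := T) ha2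
  set α := (T.coef 0 b : K) with hα
  set γ := (T.coef b 0 : K) with hγ
  set β := (T.coef T.top d : K) with hβ
  have hαβ : α * β = 1 := by rw [hα, hβ, ← Int.cast_mul, eprod, Int.cast_one]
  have hγ2 : γ * γ = 1 := by rcases (one_spec (K := K) eb0).2 with e | e <;> rw [hγ, e] <;> ring
  set u := c⁻¹
  set e := -(α * γ) * (c * η)⁻¹ with he
  set C := -(c ^ 2 * (t * η)) with hC
  refine ⟨neg_ne_zero.2 (mul_ne_zero (pow_ne_zero _ hS.1) (mul_ne_zero ht0 hη0)),
    mul_mem hS.2.1 (mul_mem (h.X_top_mem_Qgrp hf _) (X_mem_gen D hb _)), ?_⟩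
  have hbneg0 : (0 : ℕ) ≠ T.neg b := fun e => hbt (by rw [← Cert.neg_neg (T := T) hb2, ← e, ht7])
  have hcdb : ∀ x y : K, Commute (X D b x) (X D d y) := fun x y =>
    h.commute_of_nil hb2 hdn (by omega)
      (fun e => hab (by rw [← Cert.neg_neg (T := T) ha2, ← hd0, e, Cert.neg_neg (T := T) hb2])) ebd x y
  -- the left side
  have hq1 : q⁻¹ * X D b t * q = X D b t * X D T.top (t * η) := by
    rw [mul_assoc, hη t]; group
  have hb0 : X D 0 c * X D b t * (X D 0 c)⁻¹ = X D b t * X D d (α * c * t) :=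
    h.conj_of_one ht6 hb2 (by omega) (fun e => hbt (e.trans ht7)) e0b c t
  have hL : X D 0 c * (q⁻¹ * X D b t * q) * (X D 0 c)⁻¹ =
      X D b t * X D d (α * c * t) * (X D T.top u * X D 0 C * X D T.top (-u)) := by
    rw [hq1, ← h.top_conj_zero hf hS.1, ← hb0, ← h.X_inv ht6]; group
  -- the right side
  have hR : X D T.top u * X D b e * X D 0 C * (X D T.top u * X D b e)⁻¹ =
      X D b t * X D d (α * c * t) * (X D T.top u * X D 0 C * X D T.top (-u)) := by
    have h1 : X D b e * X D 0 C * (X D b e)⁻¹ = X D d (γ * e * C) * X D 0 C := by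
      rw [h.conj_of_one hb2 ht6 (by omega) hbneg0 eb0 e C, (h.neg_commute_zero hf hd _ _).eq]
    have hz : γ * e * C = α * c * t := by
      rw [he, hC]
      have : γ * (-(α * γ) * (c * η)⁻¹) * -(c ^ 2 * (t * η)) =
          (γ * γ) * α * ((c * η)⁻¹ * (c * η)) * (c * t) := by ring
      rw [this, hγ2, inv_mul_cancel₀ (mul_ne_zero hS.1 hη0)]; ring
    rw [hz] at h1
    have h2 : X D T.top u * X D d (α * c * t) * (X D T.top u)⁻¹ =
        X D d (α * c * t) * X D b t := by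
      rw [h.conj_of_one ht2 hdn (by omega)
        (fun e => hat (by rw [← Cert.neg_neg (T := T) ha2, ← hd0, e, ht3, ht7])) etd u (α * c * t)]
      congr 2
      calc β * u * (α * c * t) = (α * β) * (c⁻¹ * c) * t := by ring
        _ = t := by rw [hαβ, inv_mul_cancel₀ hS.1]; ring
    calc X D T.top u * X D b e * X D 0 C * (X D T.top u * X D b e)⁻¹
        = X D T.top u * (X D b e * X D 0 C * (X D b e)⁻¹) * (X D T.top u)⁻¹ := by group
      _ = (X D T.top u * X D d (α * c * t) * (X D T.top u)⁻¹) *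
            (X D T.top u * X D 0 C * (X D T.top u)⁻¹) := by rw [h1]; group
      _ = _ := by rw [h2, ← (hcdb t _).eq, h.X_inv ht2]
  have hm := mul_mem (mul_mem hS.2.2 (ho.X_mem h hb2 ht)) (inv_mem hS.2.2)
  rw [show q * X D 0 c * q⁻¹ * X D b t * (q * X D 0 c * q⁻¹)⁻¹ =
    q * (X D 0 c * (q⁻¹ * X D b t * q) * (X D 0 c)⁻¹) * q⁻¹ by group, hL, ← hR] at hm
  rwa [show q * (X D T.top u * X D b e) * X D 0 C * (q * (X D T.top u * X D b e))⁻¹ =
    q * (X D T.top u * X D b e * X D 0 C * (X D T.top u * X D b e)⁻¹) * q⁻¹ by group]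

/-- Shifting by fixed elements. -/
lemma pair_shift {a b : ℕ} (hp : T.chkFrPair a b = true) {c ρ η : K} {s t : K} (hs : s ∈ k)
    (ht : t ∈ k) (hP : PairP (D := D) (T := T) (H := H) a b c ρ η) :
    PairP (D := D) (T := T) (H := H) a b c (ρ + s) (η + t) := by
  obtain ⟨q, hS, hρ, hη⟩ := hP
  obtain ⟨ht1, ht2, ht3, ht4, ht5, ht6, ht7⟩ := h.frame_top hf
  simp only [Tab.chkFrPair, Tab.chkDir, Bool.and_eq_true, decide_eq_true_eq] at hp
  obtain ⟨⟨⟨⟨⟨⟨⟨⟨⟨ha, hb⟩, hab, -⟩, eab⟩, -⟩, -⟩, -⟩, -⟩, -⟩,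
    ⟨⟨⟨⟨⟨⟨-, eba⟩, -⟩, -⟩, -⟩, -⟩, -⟩⟩ := hp
  set s' := (T.coef a b : K) * s with hs'
  set t' := (T.coef b a : K) * t with ht'
  have hs'k : s' ∈ k := mul_mem (intCast_mem k _) hs
  have ht'k : t' ∈ k := mul_mem (intCast_mem k _) ht
  have hxQ : X D b s' * X D a t' ∈ Qgrp D T K := mul_mem (X_mem_gen D hb _) (X_mem_gen D ha _)
  have hxH : X D b s' * X D a t' ∈ H :=
    mul_mem (ho.X_mem h (inQ_lt hb).2 hs'k) (ho.X_mem h (inQ_lt ha).2 ht'k)
  refine ⟨X D b s' * X D a t' * q, ho.sted_left h hf hS hxQ hxH, ?_, ?_⟩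
  · have h0 : Brk D T a (X D a t') 0 := by
      intro x
      rw [mul_zero, h.X_zero ht2, mul_one, h.X_add (inQ_lt ha).2, h.X_add (inQ_lt ha).2, add_comm]
    have h1 := Cert.Brk.mul' h hf ha hS.2.1 (Cert.Brk.mul' h hf ha (X_mem_gen D ha _)
      (Cert.Brk.pair h hf ha hb (Ne.symm hab) (one_spec (K := K) eab).1 s') h0) hρ
    convert h1 using 1
    rcases (one_spec (K := K) eab).2 with e | e <;> rw [hs', e] <;> ring
  · have h0 : Brk D T b (X D b s') 0 := by
      intro x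
      rw [mul_zero, h.X_zero ht2, mul_one, h.X_add (inQ_lt hb).2, h.X_add (inQ_lt hb).2, add_comm]
    have h1 := Cert.Brk.mul' h hf hb hS.2.1 (Cert.Brk.mul' h hf hb (X_mem_gen D ha _) h0
      (Cert.Brk.pair h hf hb ha hab (one_spec (K := K) eba).1 t')) hη
    convert h1 using 1
    rcases (one_spec (K := K) eba).2 with e | e <;> rw [ht', e] <;> ring

/-- The moves of a pair. -/
theorem pair_moves {a b : ℕ} (hp : T.chkFrPair a b = true) :
    SubfieldStep.Moves k 1 (-((T.coef a b : K) * (T.coef 0 b : K) * (T.coef b 0 : K)))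
      (PairP (D := D) (T := T) (H := H) a b) := by
  obtain ⟨ht1, ht2, ht3, ht4, ht5, ht6, ht7⟩ := h.frame_top hf
  have hp' := hp
  simp only [Tab.chkFrPair, Bool.and_eq_true] at hp'
  obtain ⟨hpab, hpba⟩ := hp'
  have hd := hpab
  simp only [Tab.chkDir, Bool.and_eq_true, decide_eq_true_eq] at hd
  obtain ⟨⟨⟨⟨⟨⟨⟨⟨ha, hb⟩, hab, hat, hbt⟩, eab⟩, -⟩, -⟩, -⟩, -⟩, -⟩ := hd
  have htopbrk : ∀ (a : ℕ) (u : K), T.inQ a = true → a ≠ T.top → Brk D T a (X D T.top u) 0 := by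
    intro r u hr _ x
    rw [mul_zero, h.X_zero ht2, mul_one]
    exact (h.pos_commute_top hf (inQ_lt hr).1 (inQ_lt hr).2 x u).eq
  refine ⟨fun {c ρ η} hP => hP.choose_spec.1.1, fun {c ρ η} hP => ?_,
    fun {c ρ η} s hs t ht hP => ho.pair_shift h hf hp hs ht hP,
    fun {c ρ η} t ht ht0 hP => ?_, fun {c ρ η} t ht ht0 hη0 hP => ?_, fun {c ρ η} hP hor => ?_⟩
  · obtain ⟨q, hS, h1, h2⟩ := hP
    exact ⟨q, ho.sted_inv h hf hS, h1, h2⟩
  · obtain ⟨q, hS, h1, h2⟩ := hP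
    refine ⟨q * X D T.top c⁻¹, ?_, ?_, ?_⟩
    · have := ho.sted_square h hf hS (neg_mem ht) (neg_ne_zero.2 ht0)
      rwa [show -(c ^ 2 * -t) = t * c ^ 2 by ring] at this
    · simpa using Cert.Brk.mul' h hf ha (h.X_top_mem_Qgrp hf _) h1 (htopbrk a _ ha hat)
    · simpa using Cert.Brk.mul' h hf hb (h.X_top_mem_Qgrp hf _) h2 (htopbrk b _ hb hbt)
  · obtain ⟨q, hS, h1, h2⟩ := hP
    set e := -((T.coef 0 b : K) * (T.coef b 0 : K)) * (c * η)⁻¹ with he
    have hQ : X D T.top c⁻¹ * X D b e ∈ Qgrp D T K :=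
      mul_mem (h.X_top_mem_Qgrp hf _) (X_mem_gen D hb _)
    refine ⟨q * (X D T.top c⁻¹ * X D b e), ?_, ?_, ?_⟩
    · have := ho.sted_step h hf hpab hS h2 hη0 (neg_mem ht) (neg_ne_zero.2 ht0)
      rwa [show -(c ^ 2 * (-t * η)) = t * c ^ 2 * η ^ 1 by ring] at this
    · have := Cert.Brk.mul' h hf ha hQ h1 (Cert.Brk.mul' h hf ha (X_mem_gen D hb _)
        (htopbrk a _ ha hat) (Cert.Brk.pair h hf ha hb (Ne.symm hab) (one_spec (K := K) eab).1 e))
      convert this using 1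
      rw [he]; ring
    · have h0 : Brk D T b (X D b e) 0 := by
        intro x
        rw [mul_zero, h.X_zero ht2, mul_one, h.X_add (inQ_lt hb).2, h.X_add (inQ_lt hb).2, add_comm]
      simpa using Cert.Brk.mul' h hf hb hQ h2 (Cert.Brk.mul' h hf hb (X_mem_gen D hb _)
        (htopbrk b _ hb hbt) h0)
  · rcases hor with hρ | hη
    · obtain ⟨q, hS, h1, -⟩ := ho.pair_shift h hf hp (neg_mem hρ) (zero_mem k) hP
      rw [add_neg_cancel] at h1
      exact ho.mem_of_brk_zero h hf hp hS h1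
    · obtain ⟨q, hS, -, h2⟩ := ho.pair_shift h hf hp (zero_mem k) (neg_mem hη) hP
      rw [add_neg_cancel] at h2
      refine ho.mem_of_brk_zero h hf (a := b) (b := a) ?_ hS h2
      simp [Tab.chkFrPair, hpab, hpba]

/-- All first coordinates lie in the subfield, away from the field with four elements. -/
theorem pair_param [Finite K] {a b : ℕ} (hp : T.chkFrPair a b = true)
    (hmax : ∀ L : Subfield K, k ≤ L → L = k ∨ L = ⊤) {r : ℕ} (hr : r.Prime)
    (hcard : Nat.card K = Nat.card k ^ r) (hex : Nat.card k ≠ 2 ∨ r ≠ 2) {c : K} {q : GL D.Idx K}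
    (hS : Sted D T H c q) : c ∈ k := by
  have hM := ho.pair_moves h hf hp
  simp only [Tab.chkFrPair, Tab.chkDir, Bool.and_eq_true, decide_eq_true_eq] at hp
  obtain ⟨⟨⟨⟨⟨⟨⟨⟨⟨ha, hb⟩, -⟩, eab⟩, e0b⟩, -⟩, eb0⟩, -⟩, -⟩, -⟩ := hp
  obtain ⟨ρ, hρ⟩ := h.exists_Brk hf ha hS.2.1
  obtain ⟨η, hη⟩ := h.exists_Brk hf hb hS.2.1
  have hP : PairP (D := D) (T := T) (H := H) a b c ρ η := ⟨q, hS, hρ, hη⟩
  by_cases h2 : (2 : K) = 0
  · have : CharP K 2 := CharTwo.of_one_ne_zero_of_two_eq_zero one_ne_zero h2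
    have e1 : -((T.coef a b : K) * (T.coef 0 b : K) * (T.coef b 0 : K)) = 1 := by
      rcases (one_spec (K := K) eab).2 with x | x <;> rw [x] <;>
        rcases (one_spec (K := K) e0b).2 with y | y <;> rw [y] <;>
          rcases (one_spec (K := K) eb0).2 with z | z <;> rw [z] <;> simp [CharTwo.neg_eq]
    rw [e1] at hM
    exact hM.mem_of_charTwo (Or.inl rfl) hmax hr hcard (Or.inr hex) hP
  · refine hM.mem_of_two_ne_zero ?_ (Or.inl rfl) hmax h2 hP
    rcases (one_spec (K := K) eab).2 with x | x <;> rw [x] <;>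
      rcases (one_spec (K := K) e0b).2 with y | y <;> rw [y] <;>
        rcases (one_spec (K := K) eb0).2 with z | z <;> rw [z] <;> simp

/-- With all first coordinates in the subfield the brackets of the pair are in it too. -/
theorem pair_brk_mem {a b : ℕ} (hp : T.chkFrPair a b = true)
    (hall : ∀ c q, Sted D T H c q → c ∈ k) {c v : K} {q : GL D.Idx K}
    (hS : Sted D T H c q) (hv : Brk D T b q v) : v ∈ k := by
  by_cases hv0 : v = 0
  · exact hv0 ▸ zero_mem k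
  simp only [Tab.chkFrPair, Bool.and_eq_true] at hp
  have h1 := hall _ _ (ho.sted_step h hf hp.1 hS hv hv0 (one_mem k) one_ne_zero)
  rw [one_mul, neg_mem_iff] at h1
  have hc := hall c q hS
  have h2 := mul_mem (inv_mem (pow_mem hc 2)) h1
  rwa [inv_mul_cancel_left₀ (pow_ne_zero _ hS.1)] at h2

end Over

end CfsgLib.Chev
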