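import Cfsg.Agent.Lib.Chev.SubfieldData
import Cfsg.Agent.Lib.Chev.SubfieldG2
import Cfsg.Agent.Lib.Chev.SubfieldF4

/-!
Frame elements are fixed by the automorphism: the six types with a pair of long roots adding up to the highest.
-/

set_option autoImplicit false
set_option maxRecDepth 100000

namespace CfsgLib.Chev

open Cfsg.Lie Matrix

/-- Frame elements of the overgroup are fixed. -/
def FrameFixed (D : ChevalleyDatum) (T : Tab) {K : Type*} [Field K] (σ : K →+* K) (k : Subfield K)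
    (H : Subgroup (GL D.Idx K)) : Prop :=
  ∀ c q, Sted D T H c q → c ∈ k ∧ mapGL D σ q = q

/-- The conditions on the subfield. -/
structure MaxSub {K : Type*} [Field K] (k : Subfield K) (r : ℕ) : Prop where
  max : ∀ L : Subfield K, k ≤ L → L = k ∨ L = ⊤
  prime : r.Prime
  card : Nat.card K = Nat.card k ^ r

namespace Over

section Hall

variable {K : Type*} [Field K] {σ : K →+* K} {k : Subfield K} [Finite k]

/-- Given all parameters in the subfield. -/
lemma frame_of_hall {D : ChevalleyDatum} {T : Tab} {C : Tab.Cover} {H : Subgroup (GL D.Idx K)}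
    (ho : Over D T σ k H) (h : Cert D T C) {W : List ℕ} {a b n : ℕ} {S : List ℕ}
    (hrat : T.chkRat W a b n S = true)
    (hshort : (∀ c q, Sted D T H c q → c ∈ k) →
      (∀ γ, (T.levOrb n a b).testBit γ = true → BrkRat D T k H γ) →
      ∀ (c : K) (t : ℕ → K), Sted D T H c (prodX D T.qList t) →
        (∀ r ∈ T.qList, r ∉ S → r ≠ T.top → t r = 0) → ∀ γ ∈ S, t γ ∈ k)
    (hall : ∀ c q, Sted D T H c q → c ∈ k) : FrameFixed D T σ k H := by
  simp only [Tab.chkRat, Bool.and_eq_true] at hrat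
  obtain ⟨⟨⟨⟨hf, -⟩, hp⟩, hl⟩, hpart⟩ := hrat
  have hO : ∀ γ, (T.levOrb n a b).testBit γ = true → BrkRat D T k H γ := fun γ hγ =>
    ho.brkRat_orbit h hf hl hp hall hγ
  exact fun c q hS =>
    ⟨hall c q hS, ho.frame_fixed h hf hO hpart hall (hshort hall hO) hS⟩

lemma shortsG2 {H : Subgroup (GL chevG2.Idx K)} (ho : Over chevG2 tabG2 σ k H) {O : ℕ} :
    (∀ c q, Sted chevG2 tabG2 H c q → c ∈ k) →
    (∀ γ, O.testBit γ = true → BrkRat chevG2 tabG2 k H γ) →
      ∀ (c : K) (t : ℕ → K), Sted chevG2 tabG2 H c (prodX chevG2 tabG2.qList t) →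
        (∀ r ∈ tabG2.qList, r ∉ [8, 9] → r ≠ tabG2.top → t r = 0) → ∀ γ ∈ [8, 9], t γ ∈ k := by
  have hf : tabG2.chkFrame = true := by
    have := ratG2; simp only [Tab.chkRat, Bool.and_eq_true] at this; exact this.1.1.1.1
  exact fun hall _ c t hS ht => ho.g2_short certG2 hf hall hS ht

lemma shortsF4 {H : Subgroup (GL chevF4.Idx K)} (ho : Over chevF4 tabF4 σ k H) :
    (∀ c q, Sted chevF4 tabF4 H c q → c ∈ k) →
    (∀ γ, (tabF4.levOrb 8 24 46).testBit γ = true → BrkRat chevF4 tabF4 k H γ) →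
      ∀ (c : K) (t : ℕ → K), Sted chevF4 tabF4 H c (prodX chevF4 tabF4.qList t) →
        (∀ r ∈ tabF4.qList, r ∉ [29, 36, 38, 39, 40, 44] → r ≠ tabF4.top → t r = 0) →
          ∀ γ ∈ [29, 36, 38, 39, 40, 44], t γ ∈ k := by
  have hf : tabF4.chkFrame = true := by
    have := ratF4; simp only [Tab.chkRat, Bool.and_eq_true] at this; exact this.1.1.1.1
  intro hall hO c t hS ht γ hγ
  by_cases h2 : (2 : K) = 0
  · have : CharP K 2 := CharTwo.of_one_ne_zero_of_two_eq_zero one_ne_zero h2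
    have hd := shortTwoF4
    simp only [Bool.and_eq_true, decide_eq_true_eq, List.all_eq_true] at hd
    obtain ⟨d, hdm, rfl⟩ : ∃ d ∈ shortDataF4, ShortDatum.γ d = γ := by
      rw [← hd.2] at hγ; exact List.mem_map.1 hγ
    exact ho.short_mem_two certF4 hf (hd.1 d hdm) hγ hS (hall _ _ hS) ht
  · exact ho.short_mem_linear certF4 hf hO linF4 (m := 2) (by exact_mod_cast h2) hS ht hγ

end Hall

variable {K : Type*} [Field K] [Finite K] {σ : K →+* K} {k : Subfield K} {r : ℕ}

lemma frame_of_checks {D : ChevalleyDatum} {T : Tab} {C : Tab.Cover} {H : Subgroup (GL D.Idx K)}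
    (ho : Over D T σ k H) (h : Cert D T C) (hM : MaxSub k r) {W : List ℕ} {a b a' b' δ n : ℕ}
    {S S' : List ℕ} (hrat : T.chkRat W a b n S = true) (hsw : T.chkSwap a b a' b' δ S' = true)
    (hexc : FourRule D T k H → ∀ (c : K) (t : ℕ → K),
      Sted D T H c (prodX D T.qList t) → c ∉ k → ∀ r ∈ S', t r ∈ k)
    (hshort : (∀ c q, Sted D T H c q → c ∈ k) →
      (∀ γ, (T.levOrb n a b).testBit γ = true → BrkRat D T k H γ) →
      ∀ (c : K) (t : ℕ → K), Sted D T H c (prodX D T.qList t) →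
        (∀ r ∈ T.qList, r ∉ S → r ≠ T.top → t r = 0) → ∀ γ ∈ S, t γ ∈ k) :
    FrameFixed D T σ k H := by
  refine ho.frame_of_hall h hrat hshort ?_
  simp only [Tab.chkRat, Bool.and_eq_true] at hrat
  obtain ⟨⟨⟨⟨hf, -⟩, hp⟩, -⟩, -⟩ := hrat
  intro c q hS
  by_cases hex : Nat.card k ≠ 2 ∨ r ≠ 2
  · exact ho.pair_param h hf hp hM.max hM.prime hM.card hex hS
  · simp only [not_or, not_not] at hex
    have hc := hM.card
    rw [hex.2] at hc
    have hfour : FourRule D T k H := by
      refine ⟨SubfieldStep.two_eq_zero_of_card hex.1, fun a b hab c q v hS hck hv =>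
        ⟨SubfieldStep.root_of_four hc hex.1 hck, SubfieldStep.root_of_four hc hex.1 fun hvk => ?_⟩⟩
      exact hck (ho.mem_of_brk_mem h hf hab hS hv hvk)
    exact ho.mem_of_swap h hf hsw hfour (hexc hfour) hS

theorem frameFixedG2 {H : Subgroup (GL chevG2.Idx K)} (ho : Over chevG2 tabG2 σ k H)
    (hM : MaxSub k r) : FrameFixed chevG2 tabG2 σ k H := by
  have hf : tabG2.chkFrame = true := by
    have := ratG2; simp only [Tab.chkRat, Bool.and_eq_true] at this; exact this.1.1.1.1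
  have hp : tabG2.chkFrPair 10 6 = true := by
    have := ratG2
    simp only [Tab.chkRat, Tab.chkFrPair, Bool.and_eq_true] at this ⊢
    exact ⟨this.1.1.2.2, this.1.1.2.1⟩
  exact ho.frame_of_checks certG2 hM ratG2 swapRatG2
    (fun hfour c t hS hck => ho.g2_exc_short certG2 hf hp hfour hS hck)
    ho.shortsG2

theorem frameFixedD4 {H : Subgroup (GL chevD4.Idx K)} (ho : Over chevD4 tabD4 σ k H)
    (hM : MaxSub k r) : FrameFixed chevD4 tabD4 σ k H :=
  ho.frame_of_checks certD4 hM ratD4 swapD4 (fun _ _ _ _ _ r hr => by simp at hr)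
    fun _ _ _ _ _ _ r hr => by simp at hr

theorem frameFixedE6 {H : Subgroup (GL chevE6.Idx K)} (ho : Over chevE6 tabE6 σ k H)
    (hM : MaxSub k r) : FrameFixed chevE6 tabE6 σ k H :=
  ho.frame_of_checks certE6 hM ratE6 swapE6 (fun _ _ _ _ _ r hr => by simp at hr)
    fun _ _ _ _ _ _ r hr => by simp at hr

theorem frameFixedE7 {H : Subgroup (GL chevE7.Idx K)} (ho : Over chevE7 tabE7 σ k H)
    (hM : MaxSub k r) : FrameFixed chevE7 tabE7 σ k H :=
  ho.frame_of_checks certE7 hM ratE7 swapE7 (fun _ _ _ _ _ r hr => by simp at hr)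
    fun _ _ _ _ _ _ r hr => by simp at hr

theorem frameFixedE8 {H : Subgroup (GL chevE8.Idx K)} (ho : Over chevE8 tabE8 σ k H)
    (hM : MaxSub k r) : FrameFixed chevE8 tabE8 σ k H :=
  ho.frame_of_checks certE8 hM ratE8 swapE8 (fun _ _ _ _ _ r hr => by simp at hr)
    fun _ _ _ _ _ _ r hr => by simp at hr

theorem frameFixedF4 {H : Subgroup (GL chevF4.Idx K)} (ho : Over chevF4 tabF4 σ k H)
    (hM : MaxSub k r) : FrameFixed chevF4 tabF4 σ k H := by
  have hf : tabF4.chkFrame = true := by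
    have := ratF4; simp only [Tab.chkRat, Bool.and_eq_true] at this; exact this.1.1.1.1
  exact ho.frame_of_checks certF4 hM ratF4 swapF4 (fun _ _ _ _ _ r hr => by simp at hr)
    ho.shortsF4

end Over

end CfsgLib.Chev
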