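import Cfsg.Prelude.Def_ChevStructure

/-!
Packed copies of the tables of a `ChevalleyDatum`, cheap to consult inside the kernel.

`row r` packs, for every `s`, three 14-bit slots `(u + 1) + 2^9 * (M + 8)` listing the `r`-chain
through `s`; the other fields pack the small tables in fixed-width fields.  `Agrees` says that the
packed data is the table, and is decidable.
-/

set_option autoImplicit false

namespace CfsgLib.Chev

open Cfsg.Lie

/-- A binary tree of numbers, indexed by the bits of the index. -/
inductive RT where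
  | leaf (v : ℕ)
  | node (a b : RT)

/-- Lookup, least significant bit first. -/
noncomputable def RT.get (t : RT) : ℕ → ℕ :=
  RT.rec (motive := fun _ => ℕ → ℕ) (fun v _ => v)
    (fun _ _ ga gb r => cond (Nat.beq (Nat.land r 1) 0) (ga (Nat.shiftRight r 1))
      (gb (Nat.shiftRight r 1))) t

/-- Packed tables. -/
structure Tab where
  /-- number of roots -/
  n : ℕ
  /-- rank -/
  l : ℕ
  /-- packed chains through each root -/
  row : ℕ → ℕ
  /-- simple roots, 8 bits -/
  simpleP : ℕ
  /-- coroot coefficients, 5 bits, offset 16 -/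
  corP : ℕ
  /-- Cartan integers, 3 bits, offset 3 -/
  carP : ℕ
  /-- reflected roots, 8 bits -/
  wP : ℕ
  /-- signs of the `n_p`, one bit, set for `-1` -/
  etaP : ℕ

namespace Tab

variable (T : Tab)

/-- The `w`-bit field number `k` of `P`. -/
def field (w P k : ℕ) : ℕ := (P >>> (w * k)) % 2 ^ w

/-- Number of positive roots. -/
def half : ℕ := T.n / 2

/-- The negative root. -/
def neg (r : ℕ) : ℕ := T.n - 1 - r

/-- The simple root. -/
def simple (i : ℕ) : ℕ := field 8 T.simpleP i

/-- Coroot coefficient `c_i(r)`. -/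
def cor (r i : ℕ) : ℤ := Int.subNatNat (field 5 T.corP (T.l * r + i)) 16

/-- Cartan integer `A_{p_i, s}`. -/
def car (i s : ℕ) : ℤ := Int.subNatNat (field 3 T.carP (T.n * i + s)) 3

/-- Reflection in the `i`-th simple root. -/
def refl (i s : ℕ) : ℕ := field 8 T.wP (T.n * i + s)

/-- The sign `η_{i,s}`. -/
def eta (i s : ℕ) : ℤ := if field 1 T.etaP (T.n * i + s) = 0 then 1 else -1

/-- Decode one block. -/
def decode : ℕ → ℕ → List (ℕ × ℤ)
  | 0, _ => []
  | fuel + 1, b =>
    if b = 0 then []
    else (b % 2 ^ 9 - 1, Int.subNatNat ((b >>> 9) % 2 ^ 5) 8) :: decode fuel (b >>> 14)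

/-- The `r`-chain through `s`. -/
def entry (r s : ℕ) : List (ℕ × ℤ) := decode 3 (field 42 (T.row r) s)

/-- The nonempty chains of `r`, in increasing order. -/
def keys (r : ℕ) : List (ℕ × List (ℕ × ℤ)) :=
  (List.range T.n).filterMap fun s =>
    match T.entry r s with
    | [] => none
    | a :: L => some (s, a :: L)

/-- The packed data is the table `D`. -/
def Agrees (D : ChevalleyDatum) : Prop :=
  D.rank = T.l ∧ D.nroots = T.n ∧
  D.negIdx.toList = (List.range T.n).map T.neg ∧
  D.simpleIdx.toList = (List.range T.l).map T.simple ∧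
  D.coroot.toList.map Array.toList = (List.range T.n).map (fun r => (List.range T.l).map (T.cor r)) ∧
  D.cartanSR.toList.map Array.toList =
    (List.range T.l).map (fun i => (List.range T.n).map (T.car i)) ∧
  D.chain.toList.map (fun a => a.toList.map fun e => (e.1, e.2.toList)) =
    (List.range T.n).map T.keys

instance (D : ChevalleyDatum) : Decidable (T.Agrees D) :=
  inferInstanceAs (Decidable (_ ∧ _ ∧ _ ∧ _ ∧ _ ∧ _ ∧ _))

end Tab

end CfsgLib.Chev
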