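import Cfsg.Agent.Lib.Chev.Root

/-!
The diagonal subgroup `H` as the image of `(Fˣ)^l`.
-/

set_option autoImplicit false

namespace CfsgLib.Chev

open Cfsg.Lie Matrix

/-- The character with parameters `c`: at the root `s`, the product of the `c i ^ A_{p_i, s}`. -/
def charOf (T : Tab) {F : Type*} [Field F] (c : ℕ → F) (s : ℕ) : F :=
  ∏ i ∈ Finset.range T.l, c i ^ T.car i s

namespace Cert

variable {D : ChevalleyDatum} {T : Tab} {C : Tab.Cover} (h : Cert D T C) {F : Type*} [Field F]
include h

omit h in
lemma charOf_ne_zero {c : ℕ → F} (hc : ∀ i < T.l, c i ≠ 0) (s : ℕ) : charOf T c s ≠ 0 :=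
  Finset.prod_ne_zero_iff.2 fun i hi => zpow_ne_zero _ (hc i (Finset.mem_range.1 hi))

lemma isChar_charOf {c : ℕ → F} (hc : ∀ i < T.l, c i ≠ 0) : IsChar T (charOf T c) where
  mul_neg r hr := by
    rw [charOf, charOf, ← Finset.prod_mul_distrib]
    refine Finset.prod_eq_one fun i hi => ?_
    rw [← zpow_add₀ (hc i (Finset.mem_range.1 hi)), (h.root_spec hr (Finset.mem_range.1 hi)).2.2.2,
      add_neg_cancel, zpow_zero]
  chain r hr s hs q hq := by
    rw [charOf, charOf, charOf, ← Finset.prod_pow, ← Finset.prod_mul_distrib]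
    refine Finset.prod_congr rfl fun i hi => ?_
    rw [h.lin_spec hr hs hq (Finset.mem_range.1 hi), zpow_add₀ (hc i (Finset.mem_range.1 hi)),
      mul_comm (q.2 : ℤ), _root_.zpow_mul, zpow_natCast]

omit h in
lemma charOf_cor (r : ℕ) {t : F} (ht : t ≠ 0) (s : ℕ) :
    charOf T (fun i => t ^ T.cor r i) s = t ^ T.pairing r s := by
  rw [charOf, Tab.pairing_eq_sum]
  simp only [← _root_.zpow_mul]
  induction Finset.range T.l using Finset.cons_induction with
  | empty => simp
  | cons a S ha ih => rw [Finset.prod_cons, Finset.sum_cons, ih, zpow_add₀ ht]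

/-- `torus (charOf c)` is the word `h_{p_1}(c_1) ⋯ h_{p_l}(c_l)`. -/
lemma torus_charOf_eq_word {c : ℕ → F} (hc : ∀ i < T.l, c i ≠ 0) :
    torus D (charOf T c) =
      D.wordMat F ((List.range T.l).flatMap fun i => D.hWord (D.simple i) (c i)) := by
  have key : ∀ k ≤ T.l, D.wordMat F ((List.range k).flatMap fun i => D.hWord (D.simple i) (c i)) =
      torus D (fun s => ∏ i ∈ Finset.range k, c i ^ T.car i s) := by
    intro k
    induction k with
    | zero => intro _; simp [ChevalleyDatum.wordMat, torus_one]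
    | succ k ih =>
      intro hk
      rw [List.range_succ, List.flatMap_append, wordMat_append, ih (by omega),
        show [k].flatMap (fun i => D.hWord (D.simple i) (c i)) = D.hWord (D.simple k) (c k) by simp,
        show D.wordMat F (D.hWord (D.simple k) (c k)) = D.hMat F (D.simple k) (c k) from rfl,
        h.hMat_simple (by omega) (hc k (by omega)), torus_mul]
      exact torus_congr D fun s _ => (Finset.prod_range_succ _ k).symm
  rw [key T.l le_rfl]
  rfl

lemma hU_root {r : ℕ} (hr : r < T.n) {t : F} (ht : t ≠ 0) :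
    (hU D r t : Matrix D.Idx D.Idx F) = torus D (charOf T fun i => t ^ T.cor r i) := by
  rw [h.coe_hU, h.hMat_root hr ht]
  exact torus_congr D fun s _ => (charOf_cor r ht s).symm

/-- Membership in the diagonal subgroup. -/
theorem mem_diagonalSubgroup_iff {g : GL D.Idx F} :
    g ∈ D.diagonalSubgroup F ↔ ∃ c : ℕ → F, (∀ i < T.l, c i ≠ 0) ∧
      (g : Matrix D.Idx D.Idx F) = torus D (charOf T c) := by
  constructor
  · intro hg
    induction hg using Subgroup.closure_induction with
    | mem g hg =>
      obtain ⟨r, t, hr, ht, e⟩ := hg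
      rw [h.nroots_eq] at hr
      exact ⟨fun i => t ^ T.cor r i, fun i _ => zpow_ne_zero _ ht,
        by rw [e, ← h.coe_hU, h.hU_root hr ht]⟩
    | one => exact ⟨fun _ => 1, fun _ _ => one_ne_zero, by
        rw [Units.val_one, ← torus_one D]
        exact torus_congr D fun s _ => by simp [charOf]⟩
    | mul a b _ _ ha hb =>
      obtain ⟨c, hc, ea⟩ := ha
      obtain ⟨d, hd, eb⟩ := hb
      refine ⟨fun i => c i * d i, fun i hi => mul_ne_zero (hc i hi) (hd i hi), ?_⟩
      rw [Units.val_mul, ea, eb, torus_mul]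
      refine torus_congr D fun s _ => ?_
      simp only [charOf, mul_zpow, Finset.prod_mul_distrib]
    | inv a _ ha =>
      obtain ⟨c, hc, ea⟩ := ha
      refine ⟨fun i => (c i)⁻¹, fun i hi => inv_ne_zero (hc i hi), ?_⟩
      refine Units.inv_eq_of_mul_eq_one_right ?_
      rw [ea, torus_mul, ← torus_one D]
      refine torus_congr D fun s _ => ?_
      rw [charOf, charOf, ← Finset.prod_mul_distrib]
      refine Finset.prod_eq_one fun i hi => ?_
      rw [_root_.inv_zpow, mul_inv_cancel₀ (zpow_ne_zero _ (hc i (Finset.mem_range.1 hi)))]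
  · rintro ⟨c, hc, e⟩
    rw [h.torus_charOf_eq_word hc] at e
    have key : ∀ k ≤ T.l, ∃ u ∈ D.diagonalSubgroup F, (u : Matrix D.Idx D.Idx F) =
        D.wordMat F ((List.range k).flatMap fun i => D.hWord (D.simple i) (c i)) := by
      intro k
      induction k with
      | zero => intro _; exact ⟨1, one_mem _, by simp [ChevalleyDatum.wordMat]⟩
      | succ k ih =>
        intro hk
        obtain ⟨u, hu, eu⟩ := ih (by omega)
        refine ⟨u * hU D (D.simple k) (c k), mul_mem hu (Subgroup.subset_closure
          ⟨D.simple k, c k, ?_, hc k (by omega), h.coe_hU _ _⟩), ?_⟩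
        · rw [h.simple_eq (by omega), h.nroots_eq]; exact h.simple_lt (by omega)
        · rw [List.range_succ, List.flatMap_append, wordMat_append, Units.val_mul, eu, h.coe_hU]
          simp [ChevalleyDatum.hMat]
    obtain ⟨u, hu, eu⟩ := key T.l le_rfl
    rwa [show g = u from Units.ext (e.trans eu.symm)]

lemma hU_mem {r : ℕ} (hr : r < T.n) {t : F} (ht : t ≠ 0) :
    hU D r t ∈ D.diagonalSubgroup F :=
  Subgroup.subset_closure ⟨r, t, by rw [h.nroots_eq]; exact hr, ht, h.coe_hU r t⟩

end Cert

end CfsgLib.Chev
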