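import Cfsg.Agent.Lib.Chev.Torus

/-!
Matrices lowering a numbering of the coordinates by at least `k`.
-/

set_option autoImplicit false

namespace CfsgLib.Chev

open Cfsg.Lie Matrix

variable {ι : Type*} [Fintype ι] [DecidableEq ι] {F : Type*} [Field F] (p : ι → ℕ)

/-- Nonzero entries move the numbering up by at least `k`. -/
def Low (k : ℕ) (M : Matrix ι ι F) : Prop := ∀ a b, p a < p b + k → M a b = 0

variable {p}

omit [Fintype ι] [DecidableEq ι] in
lemma Low.mono {k k' : ℕ} {M : Matrix ι ι F} (h : Low p k M) (hk : k' ≤ k) : Low p k' M :=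
  fun a b hab => h a b (by omega)

omit [DecidableEq ι] in
lemma Low.mul {a b : ℕ} {M N : Matrix ι ι F} (hM : Low p a M) (hN : Low p b N) :
    Low p (a + b) (M * N) := fun x y hxy => by
  rw [Matrix.mul_apply]
  refine Finset.sum_eq_zero fun m _ => ?_
  by_cases hm : p x < p m + a
  · rw [hM x m hm, zero_mul]
  · rw [hN m y (by omega), mul_zero]

omit [Fintype ι] [DecidableEq ι] in
lemma Low.add {k : ℕ} {M N : Matrix ι ι F} (hM : Low p k M) (hN : Low p k N) : Low p k (M + N) :=
  fun a b hab => by rw [Matrix.add_apply, hM a b hab, hN a b hab, add_zero]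

omit [Fintype ι] [DecidableEq ι] in
lemma Low.sub {k : ℕ} {M N : Matrix ι ι F} (hM : Low p k M) (hN : Low p k N) : Low p k (M - N) :=
  fun a b hab => by rw [Matrix.sub_apply, hM a b hab, hN a b hab, sub_zero]

omit [Fintype ι] [DecidableEq ι] in
lemma Low.zero_mat (k : ℕ) : Low p k (0 : Matrix ι ι F) := fun _ _ _ => rfl

omit [Fintype ι] in
lemma Low.one_mat : Low p 0 (1 : Matrix ι ι F) := fun a b hab =>
  Matrix.one_apply_ne (fun e => by subst e; omega)

omit [Fintype ι] in
lemma Low.diagonal (d : ι → F) : Low p 0 (Matrix.diagonal d) := fun a b hab =>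
  Matrix.diagonal_apply_ne _ (fun e => by subst e; omega)

omit [Fintype ι] [DecidableEq ι] in
lemma Low.eq_zero {k N : ℕ} (hN : ∀ a, p a < N) (hk : N ≤ k) {M : Matrix ι ι F}
    (h : Low p k M) : M = 0 := by
  ext a b; exact h a b (by have := hN a; omega)

omit [Fintype ι] in
lemma Low.of_sub_one {k : ℕ} {M : Matrix ι ι F} (h : Low p k (M - 1)) : Low p 0 M := by
  have := (h.mono (Nat.zero_le k)).add (Low.one_mat (p := p))
  rwa [sub_add_cancel] at this

lemma Low.pow {M : Matrix ι ι F} (h : Low p 1 M) (k : ℕ) : Low p k (M ^ k) := by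
  induction k with
  | zero => rw [pow_zero]; exact Low.one_mat
  | succ k ih => rw [pow_succ]; exact ih.mul h

variable (p F)

/-- The invertible matrices congruent to one modulo `Low k`. -/
def lowGroup (k : ℕ) : Subgroup (GL ι F) where
  carrier := {g | Low p k ((g : Matrix ι ι F) - 1) ∧ Low p k (((g⁻¹ : GL ι F) : Matrix ι ι F) - 1)}
  one_mem' := by simp [Low.zero_mat]
  inv_mem' := fun {g} hg => ⟨hg.2, by rw [inv_inv]; exact hg.1⟩
  mul_mem' := fun {g g'} hg hg' => by
    have key : ∀ A B : Matrix ι ι F, Low p k (A - 1) → Low p k (B - 1) → Low p k (A * B - 1) := by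
      intro A B hA hB
      rw [show A * B - 1 = (A - 1) * (B - 1) + ((A - 1) + (B - 1)) by noncomm_ring]
      exact (((hA.mul hB).mono (Nat.le_add_left _ _)).add (hA.add hB))
    refine ⟨by rw [Units.val_mul]; exact key _ _ hg.1 hg'.1, ?_⟩
    rw [_root_.mul_inv_rev, Units.val_mul]
    exact key _ _ hg'.2 hg.2

variable {p F}

lemma lowGroup_anti {a b : ℕ} (hab : a ≤ b) : lowGroup F p b ≤ lowGroup F p a :=
  fun _ hg => ⟨hg.1.mono hab, hg.2.mono hab⟩

lemma lowGroup_eq_bot {k N : ℕ} (hN : ∀ a, p a < N) (hk : N ≤ k) : lowGroup F p k = ⊥ := by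
  rw [eq_bot_iff]
  intro g hg
  rw [Subgroup.mem_bot, ← Units.val_eq_one, ← sub_eq_zero]
  exact hg.1.eq_zero hN hk

lemma commutator_mem_lowGroup {a b : ℕ} {g g' : GL ι F} (hg : g ∈ lowGroup F p a)
    (hg' : g' ∈ lowGroup F p b) : g * g' * g⁻¹ * g'⁻¹ ∈ lowGroup F p (a + b) := by
  have key : ∀ {c d : ℕ} (A B : GL ι F), A ∈ lowGroup F p c → B ∈ lowGroup F p d →
      Low p (c + d) (((A * B * A⁻¹ * B⁻¹ : GL ι F) : Matrix ι ι F) - 1) := by
    intro c d A B hA hB
    have e : ((A * B * A⁻¹ * B⁻¹ : GL ι F) : Matrix ι ι F) - 1 =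
        (((A : Matrix ι ι F) - 1) * ((B : Matrix ι ι F) - 1) -
          ((B : Matrix ι ι F) - 1) * ((A : Matrix ι ι F) - 1)) *
          (((A⁻¹ : GL ι F) : Matrix ι ι F) * ((B⁻¹ : GL ι F) : Matrix ι ι F)) := by
      have e1 : ((B * A : GL ι F) : Matrix ι ι F) *
          (((A⁻¹ : GL ι F) : Matrix ι ι F) * ((B⁻¹ : GL ι F) : Matrix ι ι F)) = 1 := by
        rw [← Units.val_mul, ← Units.val_mul,
          show B * A * (A⁻¹ * B⁻¹) = (1 : GL ι F) by group, Units.val_one]
      have e0 : ((A : Matrix ι ι F) - 1) * ((B : Matrix ι ι F) - 1) -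
          ((B : Matrix ι ι F) - 1) * ((A : Matrix ι ι F) - 1) =
          (A : Matrix ι ι F) * B - B * A := by noncomm_ring
      rw [e0, sub_mul, ← Units.val_mul B A, e1]
      simp only [Units.val_mul, mul_assoc]
    rw [e]
    have h0 : Low p 0 (((A⁻¹ : GL ι F) : Matrix ι ι F) * ((B⁻¹ : GL ι F) : Matrix ι ι F)) :=
      hA.2.of_sub_one.mul hB.2.of_sub_one
    exact ((hA.1.mul hB.1).sub ((hB.1.mul hA.1).mono (by omega))).mul h0
  refine ⟨key g g' hg hg', ?_⟩
  rw [show (g * g' * g⁻¹ * g'⁻¹)⁻¹ = g' * g * g'⁻¹ * g⁻¹ by group, add_comm]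
  exact key g' g hg' hg

/-- A subgroup of `lowGroup 1` is nilpotent. -/
theorem isNilpotent_of_le_lowGroup {N : ℕ} (hN : ∀ a, p a < N) {U : Subgroup (GL ι F)}
    (hU : U ≤ lowGroup F p 1) : Group.IsNilpotent U := by
  refine (Subgroup.nilpotent_iff_finite_descending_central_series _).2
    ⟨N, fun k => (lowGroup F p (k + 1)).subgroupOf U, ⟨?_, fun x k hx g => ?_⟩, ?_⟩
  · exact Subgroup.subgroupOf_eq_top.2 hU
  · rw [Subgroup.mem_subgroupOf] at hx ⊢
    simpa [commutatorElement_def, Nat.add_assoc, add_comm, add_left_comm] using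
      commutator_mem_lowGroup hx (hU g.2)
  · simp only [lowGroup_eq_bot (F := F) hN (Nat.le_succ N), Subgroup.bot_subgroupOf]

omit [Fintype ι] [DecidableEq ι] in
lemma eq_zero_of_low_of_low {q : ι → ℕ} (hpq : ∀ a b, p b ≤ p a → q a ≤ q b) {M : Matrix ι ι F}
    (h₁ : Low p 0 M) (h₂ : Low q 1 M) : M = 0 := by
  ext a b
  by_cases hab : p a < p b
  · exact h₁ a b (by omega)
  · exact h₂ a b (by have := hpq a b (by omega); omega)

/-! ### The numbering of the coordinates of a datum -/

variable (D : ChevalleyDatum) (T : Tab)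

/-- Negative roots, then coroots, then positive roots. -/
def pos : D.Idx → ℕ
  | Sum.inl i => T.half + i.val
  | Sum.inr u => if u.val < T.half then u.val else u.val + T.l

/-- The opposite numbering. -/
def posNeg (a : D.Idx) : ℕ := T.dim - 1 - pos D T a

namespace Cert

variable {D T} {C : Tab.Cover} (h : Cert D T C) {F : Type*} [Field F]
include h

lemma pos_lt (a : D.Idx) : pos D T a < T.dim := by
  have := h.nroots_eq
  have := h.rank_eq
  have := h.two_mul_half
  unfold Tab.dim pos
  rcases a with i | u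
  · simp only; omega
  · simp only; split <;> omega

lemma posNeg_lt (a : D.Idx) : posNeg D T a < T.dim := by
  have := h.pos_lt a
  unfold posNeg; omega

omit h in
lemma pos_inr_le {u v : Fin D.nroots} :
    pos D T (Sum.inr u) ≤ pos D T (Sum.inr v) ↔ u.val ≤ v.val := by
  simp only [pos]; split <;> split <;> omega

omit h in
lemma posNeg_anti (a b : D.Idx) (hab : pos D T b ≤ pos D T a) :
    posNeg D T a ≤ posNeg D T b := by
  unfold posNeg; omega

/-- Off-diagonal entries of a positive root element go up, of a negative one down. -/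
lemma x_entry_ne {r : ℕ} (hr : r < T.n) (t : F) {a b : D.Idx} (hab : a ≠ b)
    (he : D.x F r t a b ≠ 0) :
    (T.half ≤ r → pos D T b < pos D T a) ∧ (r < T.half → pos D T a < pos D T b) := by
  have hn := h.nroots_eq
  have hl := h.rank_eq
  have hh := h.two_mul_half
  rcases a with j | v <;> rcases b with k | s
  · rw [h.x_inl_inl hr] at he
    exact absurd (if_neg fun e => hab (congrArg Sum.inl e)) he
  · rw [h.x_inl_inr hr] at he
    split_ifs at he with e
    · simp only [pos, e, Tab.neg]
      constructor <;> intro hp <;> split <;> omega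
    · exact absurd rfl he
  · rw [h.x_inr_inl hr] at he
    split_ifs at he with e
    · simp only [pos, e]
      constructor <;> intro hp <;> split <;> omega
    · exact absurd rfl he
  · have hv : v.val ≠ s.val := fun e => hab (congrArg Sum.inr (Fin.ext e))
    by_cases e1 : s.val = r
    · rw [h.x_inr_inr_self hr _ _ e1, if_neg (by omega)] at he
      exact absurd rfl he
    by_cases e2 : s.val = T.neg r
    · rw [h.x_inr_inr_neg hr _ _ e2, if_neg (by omega)] at he
      split_ifs at he with e3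
      · simp only [pos, e3, e2, Tab.neg]
        constructor <;> intro hp <;> split <;> split <;> omega
      · exact absurd rfl he
    rw [h.x_inr_inr hr _ _ e1 e2, if_neg hv, zero_add] at he
    obtain ⟨q, hq, hq'⟩ : ∃ q ∈ (T.entry r s).zipIdx 1, q.1.1 = v.val := by
      by_contra hne
      push Not at hne
      refine he (List.sum_eq_zero fun z hz => ?_)
      obtain ⟨q, hq, rfl⟩ := List.mem_map.1 hz
      exact if_neg (hne q hq)
    have hm : q.1 ∈ T.entry r s := List.fst_mem_of_mem_zipIdx hq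
    obtain ⟨-, h1, h2⟩ :=
      (h.chain_spec hr (show s.val < T.n by omega) (List.ne_nil_of_mem hm)).2.2.2 _ hm
    rw [hq'] at h1 h2
    constructor <;> intro hp
    · have := (h1 hp).1
      rw [← not_le, pos_inr_le]; omega
    · have := h2 hp
      rw [← not_le, pos_inr_le]; omega

lemma x_diag {r : ℕ} (hr : r < T.n) (t : F) (a : D.Idx) : D.x F r t a a = 1 := by
  have hh := h.two_mul_half
  rcases a with j | s
  · rw [h.x_inl_inl hr, if_pos rfl]
  · by_cases e1 : s.val = r
    · rw [h.x_inr_inr_self hr _ _ e1, if_pos e1]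
    by_cases e2 : s.val = T.neg r
    · rw [h.x_inr_inr_neg hr _ _ e2, if_pos e2]
    rw [h.x_inr_inr hr _ _ e1 e2, if_pos rfl, add_eq_left]
    refine List.sum_eq_zero fun z hz => ?_
    obtain ⟨q, hq, rfl⟩ := List.mem_map.1 hz
    refine if_neg fun e => ?_
    have hm : q.1 ∈ T.entry r s := List.fst_mem_of_mem_zipIdx hq
    have hs : s.val < T.n := lt_of_lt_of_eq s.isLt h.nroots_eq
    obtain ⟨-, h1, h2⟩ := (h.chain_spec hr hs (List.ne_nil_of_mem hm)).2.2.2 _ hm
    rcases Nat.lt_or_ge r T.half with hp | hp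
    · have := h2 hp; omega
    · have := (h1 hp).1; omega

lemma low_x_pos {r : ℕ} (hh : T.half ≤ r) (hr : r < T.n) (t : F) :
    Low (pos D T) 1 (D.x F r t - 1) := fun a b hab => by
  by_cases e : a = b
  · subst e; rw [Matrix.sub_apply, h.x_diag hr, Matrix.one_apply_eq, sub_self]
  · rw [Matrix.sub_apply, Matrix.one_apply_ne e, sub_zero]
    by_contra he
    have := (h.x_entry_ne hr t e he).1 hh
    omega

lemma low_x_neg {r : ℕ} (hr : r < T.half) (t : F) :
    Low (posNeg D T) 1 (D.x F r t - 1) := fun a b hab => by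
  have hr' : r < T.n := by have := h.two_mul_half; omega
  by_cases e : a = b
  · subst e; rw [Matrix.sub_apply, h.x_diag hr', Matrix.one_apply_eq, sub_self]
  · rw [Matrix.sub_apply, Matrix.one_apply_ne e, sub_zero]
    by_contra he
    have := (h.x_entry_ne hr' t e he).2 hr
    have := h.pos_lt a
    have := h.pos_lt b
    unfold posNeg at hab
    omega

lemma X_mem_lowGroup_pos {r : ℕ} (hh : T.half ≤ r) (hr : r < T.n) (t : F) :
    X D r t ∈ lowGroup F (pos D T) 1 :=
  ⟨by rw [h.coe_X]; exact h.low_x_pos hh hr t,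
    by rw [h.X_inv hr, h.coe_X]; exact h.low_x_pos hh hr _⟩

lemma X_mem_lowGroup_neg {r : ℕ} (hr : r < T.half) (t : F) :
    X D r t ∈ lowGroup F (posNeg D T) 1 :=
  have hr' : r < T.n := by have := h.two_mul_half; omega
  ⟨by rw [h.coe_X]; exact h.low_x_neg hr t, by rw [h.X_inv hr', h.coe_X]; exact h.low_x_neg hr _⟩

end Cert

end CfsgLib.Chev
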