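import Cfsg.Agent.Lib.Chev.TwistD4
import Cfsg.Agent.Lib.Chev.CharacterAut
import Cfsg.Agent.Lib.Chev.All
import Cfsg.Prelude.Def_ChevAutomorphisms

/-!
The fixed points of the triality of `D₄(K)` are `G₂(K)`.

The fixed vectors of the twisted monomial action on the adjoint module of `D₄` form a 14-dimensional
space, the image of the adjoint module of `G₂` under an explicit signed orbit map; the fixed
subgroup acts faithfully on it, as `G₂(K)`.
-/

set_option autoImplicit false
set_option maxRecDepth 100000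
set_option linter.unusedSectionVars false

namespace CfsgLib.Chev.TrialityG2

open Cfsg.Lie Matrix

/-- The signed orbits of coordinates of `D₄` over those of `G₂`. -/
def emb (j : ℕ) : List (ℕ × ℤ) :=
  ([[(0, -1)], [(1, -1)], [(2, -1), (6, 1), (3, -1)], [(4, 1), (7, -1), (8, -1)],
    [(5, 1), (10, 1), (11, 1)], [(9, 1)], [(14, 1)], [(12, 1), (18, 1), (13, 1)],
    [(15, -1), (19, 1), (16, -1)], [(17, 1), (20, -1), (21, -1)], [(22, -1)], [(23, -1)],
    [(24, 1), (26, 1), (27, 1)], [(25, 1)]] : List (List (ℕ × ℤ))).getD j []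

/-- The first coordinate over `j`. -/
def hd (j : ℕ) : ℕ := ((emb j).headD (0, 0)).1

/-- Its sign. -/
def hs (j : ℕ) : ℤ := ((emb j).headD (0, 0)).2

/-- The coefficient of `a` over `j`. -/
def coef (a j : ℕ) : ℤ := ((emb j).map fun p => if p.1 = a then p.2 else 0).sum

/-- The image coordinate. -/
def im (a : ℕ) : ℕ := twistD4a.img.getD a 0

/-- The cumulative signs along an orbit. -/
def orb3 (j : ℕ) : List (ℕ × ℤ) :=
  [(hd j, 1), (im (hd j), twistD4a.sg (hd j)),
    (im (im (hd j)), twistD4a.sg (im (hd j)) * twistD4a.sg (hd j))]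

/-- The embedding of sparse vectors. -/
def embV (V : SVec) : SVec :=
  V.flatMap fun e => (emb e.1.1).map fun p => ((p.1, e.1.2.1, e.1.2.2), e.2 * p.2)

/-- A word of root elements with one parameter. -/
def word1 (w : List ℕ) : List (ℕ × ℤ × ℕ × ℕ) := w.map fun d => (d, 1, 1, 0)

/-- The word of `D₄` acts as the root element `j` of `G₂`. -/
noncomputable def imgOK (j : ℕ) (w : List ℕ) : Bool :=
  (List.range tabG2.dim).all fun c => same false
    ((word1 w).foldr (fun g V => tabD4.step false g.1 g.2.1 g.2.2.1 g.2.2.2 V)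
      (embV [((c, 0, 0), 1)]))
    (embV (tabG2.appWord false (word1 [j]) c))

theorem dimG2 : tabG2.dim = 14 ∧ tabD4.dim = 28 ∧ tabD4.n = 24 ∧ tabD4.half = 12 := by
  decide +kernel

theorem chkLeft : ((List.range 14).all fun j => decide (hd j < 28) && (List.range 14).all fun k =>
    decide (hs j * coef (hd j) k = if j = k then 1 else 0)) = true := by decide +kernel

theorem chkInv : ((List.range 28).all fun a => (List.range 14).all fun j =>
    decide (coef (im a) j = twistD4a.sg a * coef a j)) = true := by decide +kernel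

theorem chkCov : ((List.range 28).all fun a => (List.range 14).any fun j =>
    (orb3 j).contains (a, coef a j * hs j) &&
      (List.range 14).all fun k => decide (k = j ∨ coef a k = 0)) = true := by decide +kernel

theorem chkPerm : ((List.range 28).all fun a =>
    decide (im a < 28 ∧ twistD4a.src.getD a 0 = a ∧ (twistD4a.sg a = 1 ∨ twistD4a.sg a = -1)) &&
      (List.range 28).all fun b => decide (im a = im b → a = b)) = true := by decide +kernel

theorem chkCol : ((List.range 24).all fun d => (List.range 14).any fun j =>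
    decide (coef d j = 1 ∨ coef d j = -1) && (decide (d < 12) ||
      (List.range 28).all fun k => decide (coef k j = 0 ∨ (12 ≤ k ∧ k < 24)))) = true := by
  decide +kernel

theorem imgP2 : imgOK 6 [14] = true := by decide +kernel
theorem imgM2 : imgOK 5 [9] = true := by decide +kernel
theorem imgP1 : imgOK 7 [18, 13, 12] = true := by decide +kernel
theorem imgM1 : imgOK 4 [5, 10, 11] = true := by decide +kernel

lemma wordMat_mulVec {D : ChevalleyDatum} {T : Tab} {F : Type*} [Field F] (h : T.Agrees D)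
    (w : List (ℕ × ℤ × ℕ × ℕ)) (t u : F) (V : SVec) :
    D.wordMat F (wordAt w t u) *ᵥ vec D t u V =
      vec D t u (w.foldr (fun g V => T.step false g.1 g.2.1 g.2.2.1 g.2.2.2 V) V) := by
  induction w with
  | nil => simp [ChevalleyDatum.wordMat, wordAt]
  | cons g w ih =>
    have e : D.wordMat F (wordAt (g :: w) t u) =
        D.x F g.1 ((g.2.1 : F) * t ^ g.2.2.1 * u ^ g.2.2.2) * D.wordMat F (wordAt w t u) := by
      simp [ChevalleyDatum.wordMat, wordAt]
    rw [e, ← Matrix.mulVec_mulVec, ih,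
      vec_step h false _ _ _ _ t u (fun e => absurd e Bool.false_ne_true)]
    rfl

lemma vec_single {D : ChevalleyDatum} {F : Type*} [Field F] (t u : F) (c : D.Idx) :
    vec D t u [((enc c, 0, 0), 1)] = Pi.single c (1 : F) := by
  funext r
  simp only [vec, ev_cons, ev_nil, evTerm, add_zero]
  by_cases hc : r = c
  · subst hc; simp
  · have : ¬ enc c = enc r := fun e => hc (enc_injective e.symm)
    simp [hc, this]

variable (K : Type*) [Field K]

/-- The orbit map. -/
noncomputable def P : Matrix chevD4.Idx chevG2.Idx K :=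
  Matrix.of fun a j => (coef (enc a) (enc j) : K)

/-- A left inverse. -/
noncomputable def L : Matrix chevG2.Idx chevD4.Idx K :=
  Matrix.of fun j a => if enc a = hd (enc j) then (hs (enc j) : K) else 0

variable {K}

lemma encD4_lt (a : chevD4.Idx) : enc a < 28 := (enc_lt certD4.agrees a).trans_eq dimG2.2.1

lemma encG2_lt (a : chevG2.Idx) : enc a < 14 := (enc_lt certG2.agrees a).trans_eq dimG2.1

lemma hd_lt {j : ℕ} (hj : j < 14) : hd j < tabD4.dim := by
  have h1 := chkLeft
  simp only [List.all_eq_true, List.mem_range, Bool.and_eq_true, decide_eq_true_eq] at h1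
  rw [dimG2.2.1]; exact (h1 j hj).1

lemma L_mul_apply {ι : Type*} (M : Matrix chevD4.Idx ι K) (j : chevG2.Idx) (x : ι) :
    (L K * M) j x = (hs (enc j) : K) * M (certD4.crd (hd (enc j))) x := by
  have e := certD4.enc_crd (hd_lt (encG2_lt j))
  rw [Matrix.mul_apply, Finset.sum_eq_single (certD4.crd (hd (enc j)))]
  · simp [L, e]
  · intro a _ ha
    simp only [L, Matrix.of_apply]
    rw [if_neg, zero_mul]
    intro e'
    exact ha (by rw [← e', certD4.crd_enc])
  · simp

lemma L_mul_P : L K * P K = 1 := by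
  ext j k
  have h1 := chkLeft
  simp only [List.all_eq_true, List.mem_range, Bool.and_eq_true, decide_eq_true_eq] at h1
  rw [L_mul_apply, P, Matrix.of_apply, certD4.enc_crd (hd_lt (encG2_lt j)), ← Int.cast_mul,
    (h1 _ (encG2_lt j)).2 _ (encG2_lt k)]
  by_cases e : j = k
  · subst e; simp
  · rw [if_neg (fun h => e (enc_injective h)), Matrix.one_apply_ne e, Int.cast_zero]

lemma P_mulVec (t u : K) (V : SVec) :
    P K *ᵥ vec chevG2 t u V = vec chevD4 t u (embV V) := by
  funext a
  induction V with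
  | nil => simp [embV, vec, Matrix.mulVec, dotProduct]
  | cons e V ih =>
    have e1 : embV (e :: V) = ((emb e.1.1).map fun p => ((p.1, e.1.2.1, e.1.2.2), e.2 * p.2)) ++
        embV V := by simp [embV]
    rw [e1]
    simp only [vec, ev_append, Matrix.mulVec, dotProduct] at ih ⊢
    rw [← ih]
    simp only [ev_cons, mul_add, Finset.sum_add_distrib]
    congr 1
    have hev : ev t u ((emb e.1.1).map fun p => ((p.1, e.1.2.1, e.1.2.2), e.2 * p.2)) (enc a) =
        (coef (enc a) e.1.1 : K) * ((e.2 : K) * t ^ e.1.2.1 * u ^ e.1.2.2) := by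
      simp only [coef]
      induction emb e.1.1 with
      | nil => simp
      | cons p l ih2 =>
        rw [List.map_cons, ev_cons, ih2, List.map_cons, List.sum_cons, Int.cast_add, add_mul]
        congr 1
        simp only [evTerm]
        split <;> push_cast <;> ring
    rw [hev]
    by_cases hk : e.1.1 < tabG2.dim
    · obtain ⟨c, hc⟩ := exists_enc certG2.agrees hk
      rw [Finset.sum_eq_single c]
      · simp only [P, Matrix.of_apply, evTerm, hc, if_true]
      · intro b _ hb
        rw [evTerm, if_neg (fun e' => hb (enc_injective (e'.symm.trans hc.symm))), mul_zero]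
      · simp
    · rw [Finset.sum_eq_zero fun b _ => by
        rw [evTerm, if_neg (fun e' : e.1.1 = enc b => hk (e' ▸ enc_lt certG2.agrees b)), mul_zero]]
      have : emb e.1.1 = [] := by
        rw [dimG2.1] at hk
        exact List.getD_eq_default _ _ (by simpa using not_lt.1 hk)
      simp [coef, this]

lemma prod_mul_P {j : ℕ} {w : List ℕ} (hok : imgOK j w = true) (t : K) :
    (((w.map fun d => X chevD4 d t).prod : GL chevD4.Idx K) : Matrix chevD4.Idx chevD4.Idx K) * P K =
      P K * (X chevG2 j t : Matrix chevG2.Idx chevG2.Idx K) := by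
  have hw : ∀ v : List ℕ, wordAt (word1 v) t (0 : K) = v.map fun d => (d, t) := fun v => by
    simp [wordAt, word1, List.map_map, Function.comp_def]
  have e1 : (((w.map fun d => X chevD4 d t).prod : GL chevD4.Idx K) : Matrix _ _ K) =
      chevD4.wordMat K (wordAt (word1 w) t 0) := by
    rw [hw, certD4.wordMat_eq_prod, List.map_map]; rfl
  have e2 : (X chevG2 j t : Matrix chevG2.Idx chevG2.Idx K) =
      chevG2.wordMat K (wordAt (word1 [j]) t 0) := by
    rw [hw, certG2.wordMat_eq_prod]; simp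
  rw [e1, e2]
  refine Matrix.ext_of_mulVec_single fun c => ?_
  rw [← vec_single (D := chevG2) t 0 c, ← Matrix.mulVec_mulVec, ← Matrix.mulVec_mulVec, P_mulVec,
    wordMat_mulVec certD4.agrees, wordMat_mulVec certG2.agrees, P_mulVec]
  simp only [imgOK, List.all_eq_true, List.mem_range] at hok
  funext a
  exact ev_eq_of_same t 0 _ false (fun e => absurd e Bool.false_ne_true)
    (hok _ (enc_lt certG2.agrees c))

section

variable [Fintype K]

/-- The triality. -/
noncomputable abbrev tri (K : Type*) [Field K] [Fintype K] : Endo certD4 K :=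
  endoD4 (RingHom.id K)

lemma hf (t : K) : RingHom.id K t = t ^ 1 := (pow_one t).symm

lemma hc3 (t : K) : ((t ^ 1) ^ 1) ^ 1 = t := by simp

theorem fix_eq : (tri K).fix = twistedD4 K 1 :=
  le_antisymm ((tri K).fix_le (stdD4 (RingHom.id K) hf hc3) (e := 0) (Q := 1) fun o _ => by simp)
    (twistedD4_le_fix (RingHom.id K) hf hc3)

theorem reps_fix : (tri K).Reps (tri K).fix dataTwD4.CL := by
  rw [fix_eq]; exact repsD4 (RingHom.id K) hf hc3

lemma crd_im_injective : Function.Injective fun a : chevD4.Idx => certD4.crd (im (enc a)) := by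
  have h1 := chkPerm
  simp only [List.all_eq_true, List.mem_range, Bool.and_eq_true, decide_eq_true_eq] at h1
  intro a b e
  have e' := congrArg enc e
  simp only at e'
  rw [certD4.enc_crd (by rw [dimG2.2.1]; exact (h1 _ (encD4_lt a)).1.1),
    certD4.enc_crd (by rw [dimG2.2.1]; exact (h1 _ (encD4_lt b)).1.1)] at e'
  exact enc_injective ((h1 _ (encD4_lt a)).2 _ (encD4_lt b) e')

/-- The entries of a fixed element. -/
lemma fix_entry {g : GL chevD4.Idx K} (hg : g ∈ (tri K).fix) (a b : chevD4.Idx) :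
    (g : Matrix chevD4.Idx chevD4.Idx K) (certD4.crd (im (enc a))) (certD4.crd (im (enc b))) =
      (twistD4a.sg (enc a) : K) * (g : Matrix _ _ K) a b * (twistD4a.sg (enc b) : K) := by
  have h1 := chkPerm
  simp only [List.all_eq_true, List.mem_range, Bool.and_eq_true, decide_eq_true_eq] at h1
  have hgG := (tri K).fix_le_group hg
  have e := certD4.subRep_twistHom chkTwistD4a chkFaithImgD4a (RingHom.id K) ⟨g, hgG⟩
  have e2 : certD4.twistHom chkTwistD4a chkFaithImgD4a (RingHom.id K) ⟨g, hgG⟩ = ⟨g, hgG⟩ :=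
    Subtype.ext (((tri K).act_coe ⟨g, hgG⟩).symm.trans ((tri K).act_of_fix hg))
  rw [e2] at e
  have hlen : twistD4a.img.length = 28 := by decide +kernel
  have ha : enc a < twistD4a.img.length := hlen ▸ encD4_lt a
  have hb : enc b < twistD4a.img.length := hlen ▸ encD4_lt b
  have e3 := congrArg (fun x : GL (Fin twistD4a.img.length) K =>
    (x : Matrix (Fin twistD4a.img.length) (Fin twistD4a.img.length) K) ⟨enc a, ha⟩ ⟨enc b, hb⟩) e
  simp only [Cert.twistRep_apply, RingHom.id_apply, (h1 _ (encD4_lt a)).1.2.1,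
    (h1 _ (encD4_lt b)).1.2.1, Cert.crd_enc] at e3
  rw [← e3, im, im, List.getD_eq_getElem _ _ ha, List.getD_eq_getElem _ _ hb]
  rfl

/-- Invariant vectors come from the orbit map. -/
lemma inv_col {ι : Type*} (Y : Matrix chevD4.Idx ι K)
    (hY : ∀ a x, Y (certD4.crd (im (enc a))) x = (twistD4a.sg (enc a) : K) * Y a x) :
    P K * (L K * Y) = Y := by
  ext a x
  have h1 := chkCov
  simp only [List.all_eq_true, List.mem_range, List.any_eq_true, Bool.and_eq_true,
    decide_eq_true_eq, List.contains_iff_mem] at h1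
  obtain ⟨j, hj, hmem, hz⟩ := h1 _ (encD4_lt a)
  obtain ⟨c, hc⟩ := exists_enc certG2.agrees (dimG2.1.symm ▸ hj : j < tabG2.dim)
  rw [Matrix.mul_apply, Finset.sum_eq_single c, L_mul_apply, P, Matrix.of_apply, hc, ← mul_assoc,
    ← Int.cast_mul]
  · have hstep : ∀ k < 28, Y (certD4.crd (im k)) x = (twistD4a.sg k : K) * Y (certD4.crd k) x := by
      intro k hk
      have h2 := hY (certD4.crd k) x
      rwa [certD4.enc_crd (dimG2.2.1.symm ▸ hk)] at h2
    have h3 := chkPerm
    simp only [List.all_eq_true, List.mem_range, Bool.and_eq_true, decide_eq_true_eq] at h3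
    have hd0 : hd j < 28 := dimG2.2.1 ▸ hd_lt hj
    have hd1 := (h3 _ hd0).1.1
    simp only [orb3, List.mem_cons, List.not_mem_nil, or_false, Prod.mk.injEq] at hmem
    rw [← certD4.crd_enc a]
    rcases hmem with ⟨ea, es⟩ | ⟨ea, es⟩ | ⟨ea, es⟩ <;> rw [certD4.enc_crd (enc_lt certD4.agrees a),
      es, ea]
    · simp
    · rw [hstep _ hd0]
    · rw [hstep _ hd1, hstep _ hd0, Int.cast_mul, mul_assoc]
  · intro b _ hb
    rcases hz _ (encG2_lt b) with e | e
    · exact absurd (enc_injective (e.trans hc.symm)) hb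
    · rw [P, Matrix.of_apply, e, Int.cast_zero, zero_mul]
  · simp

lemma fix_mul_P {g : GL chevD4.Idx K} (hg : g ∈ (tri K).fix) :
    P K * (L K * ((g : Matrix chevD4.Idx chevD4.Idx K) * P K)) =
      (g : Matrix chevD4.Idx chevD4.Idx K) * P K := by
  refine inv_col _ fun a x => ?_
  have hbij := Finite.injective_iff_bijective.1 crd_im_injective
  rw [Matrix.mul_apply, Matrix.mul_apply, Finset.mul_sum]
  refine (Fintype.sum_bijective _ hbij _ _ fun b => ?_).symm
  have h1 := chkInv
  have h3 := chkPerm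
  simp only [List.all_eq_true, List.mem_range, Bool.and_eq_true, decide_eq_true_eq] at h1 h3
  obtain ⟨⟨hlt, -, hsg⟩, -⟩ := h3 _ (encD4_lt b)
  rw [fix_entry hg, P, Matrix.of_apply, Matrix.of_apply, certD4.enc_crd (dimG2.2.1.symm ▸ hlt),
    h1 _ (encD4_lt b) _ (encG2_lt x)]
  rcases hsg with e | e <;> rw [e] <;> push_cast <;> ring

/-- The action on the fixed vectors, as matrices. -/
noncomputable def psiMat : ↥(tri K).fix →* Matrix chevG2.Idx chevG2.Idx K where
  toFun g := L K * (((g : GL chevD4.Idx K) : Matrix chevD4.Idx chevD4.Idx K) * P K)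
  map_one' := by rw [OneMemClass.coe_one, Units.val_one, Matrix.one_mul, L_mul_P]
  map_mul' g g' := by
    rw [Subgroup.coe_mul, Units.val_mul, Matrix.mul_assoc]
    conv_lhs => rw [← fix_mul_P g'.2]
    simp only [Matrix.mul_assoc]

/-- The action on the fixed vectors. -/
noncomputable def psi : ↥(tri K).fix →* GL chevG2.Idx K := (psiMat (K := K)).toHomUnits

lemma psi_val (g : ↥(tri K).fix) : (psi g : Matrix chevG2.Idx chevG2.Idx K) =
    L K * (((g : GL chevD4.Idx K) : Matrix chevD4.Idx chevD4.Idx K) * P K) := rfl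

lemma mul_P_eq (g : ↥(tri K).fix) :
    ((g : GL chevD4.Idx K) : Matrix chevD4.Idx chevD4.Idx K) * P K =
      P K * (psi g : Matrix chevG2.Idx chevG2.Idx K) := (fix_mul_P g.2).symm

lemma psi_word {j : ℕ} {w : List ℕ} (hok : imgOK j w = true) (t : K) (g : ↥(tri K).fix)
    (hg : (g : GL chevD4.Idx K) = (w.map fun d => X chevD4 d t).prod) :
    psi g = X chevG2 j t := by
  refine Units.ext ?_
  rw [psi_val, hg, prod_mul_P hok, ← Matrix.mul_assoc, L_mul_P, Matrix.one_mul]

theorem range_psi : (psi (K := K)).range = chevG2.group K := by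
  have hle := twistedD4_le_fix (RingHom.id K) (q := 1) hf hc3
  have key : ∀ (j : ℕ) (w : List ℕ), imgOK j w = true → ∀ t : K,
      (w.map fun d => (d, t)) ∈ d4Words K 1 → ∃ g : ↥(tri K).fix, psi g = X chevG2 j t ∧
        (g : GL chevD4.Idx K) = ((w.map fun d => (d, t)).map fun p => X chevD4 p.1 p.2).prod :=
    fun j w hok t hw => by
    refine ⟨⟨_, hle (certD4.prod_mem_genSubgroup hw)⟩, psi_word hok t _ ?_, rfl⟩
    exact congrArg List.prod (List.map_map ..)
  have hs : ∀ (t : K) (r : ℕ), r ∈ [d4p2, d4m2] → [(r, t)] ∈ d4Words K 1 := fun t r hr =>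
    Or.inl ⟨t, pow_one t, r, hr, rfl⟩
  have ht : ∀ (t : K) (a b c : ℕ), (a, b, c) ∈ [(d4p1, d4p3, d4p4), (d4m1, d4m3, d4m4)] →
      [(a, t), (b, t), (c, t)] ∈ d4Words K 1 := fun t a b c h =>
    Or.inr ⟨t, (a, b, c), h, by simp⟩
  have hall : ∀ t : K, ∀ w ∈ [[14], [9], [18, 13, 12], [5, 10, 11]],
      ∃ j < tabG2.n, imgOK j w = true ∧ (w.map fun d => (d, t)) ∈ d4Words K 1 := by
    intro t w hw
    simp only [List.mem_cons, List.not_mem_nil, or_false] at hw
    rcases hw with rfl | rfl | rfl | rfl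
    · exact ⟨6, by decide +kernel, imgP2, hs t 14 (by decide)⟩
    · exact ⟨5, by decide +kernel, imgM2, hs t 9 (by decide)⟩
    · exact ⟨7, by decide +kernel, imgP1, ht t 18 13 12 (by decide)⟩
    · exact ⟨4, by decide +kernel, imgM1, ht t 5 10 11 (by decide)⟩
  apply le_antisymm
  · have h1 : twistedD4 K 1 ≤ ((chevG2.group K).comap (psi (K := K))).map (tri K).fix.subtype := by
      refine certD4.genSubgroup_le fun w hw => ?_
      obtain ⟨t, v, hv, rfl⟩ : ∃ (t : K) (v : List ℕ),
          v ∈ [[14], [9], [18, 13, 12], [5, 10, 11]] ∧ w = v.map fun d => (d, t) := by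
        rcases hw with ⟨t, -, r, hr, rfl⟩ | ⟨t, rs, hrs, rfl⟩
        · simp only [List.mem_cons, List.not_mem_nil, or_false] at hr
          rcases hr with rfl | rfl
          · exact ⟨t, [14], by simp, rfl⟩
          · exact ⟨t, [9], by simp, rfl⟩
        · simp only [List.mem_cons, List.not_mem_nil, or_false] at hrs
          rcases hrs with rfl | rfl
          · exact ⟨t, [18, 13, 12], by simp, by simp [d4p1, d4p3, d4p4]⟩
          · exact ⟨t, [5, 10, 11], by simp, by simp [d4m1, d4m3, d4m4]⟩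
      obtain ⟨j, hj, hok, hwm⟩ := hall t v hv
      obtain ⟨g, e1, e2⟩ := key j v hok t hwm
      exact ⟨g, by rw [SetLike.mem_coe, Subgroup.mem_comap, e1]; exact certG2.X_mem_group hj t, e2⟩
    rintro _ ⟨g, rfl⟩
    obtain ⟨g', hg', e⟩ := h1 (fix_eq.le g.2)
    rwa [show g = g' from Subtype.ext e.symm]
  · have h6 : ∀ i < tabG2.l, tabG2.simple i = [7, 6].getD i 0 ∧
        tabG2.neg (tabG2.simple i) = [4, 5].getD i 0 := by decide +kernel
    have hl : tabG2.l = 2 := by decide +kernel
    have hX : ∀ t : K, ∀ p ∈ [(6, [14]), (5, [9]), (7, [18, 13, 12]), (4, [5, 10, 11])],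
        imgOK p.1 p.2 = true → (p.2.map fun d => (d, t)) ∈ d4Words K 1 →
          X chevG2 p.1 t ∈ (psi (K := K)).range := fun t p _ hok hw =>
      let ⟨g, e, _⟩ := key p.1 p.2 hok t hw
      ⟨g, e⟩
    refine certG2.group_le_of_simple (fun i hi t => ?_) (fun i hi t => ?_)
    · rw [(h6 i hi).1]
      rw [hl] at hi
      interval_cases i
      · exact hX t (7, [18, 13, 12]) (by simp) imgP1 (ht t 18 13 12 (by decide))
      · exact hX t (6, [14]) (by simp) imgP2 (hs t 14 (by decide))
    · rw [(h6 i hi).2]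
      rw [hl] at hi
      interval_cases i
      · exact hX t (4, [5, 10, 11]) (by simp) imgM1 (ht t 5 10 11 (by decide))
      · exact hX t (5, [9]) (by simp) imgM2 (hs t 9 (by decide))

lemma nW_row {w : List ℕ} (hw : WordOK tabD4 w) (c : Fin chevD4.nroots) :
    ∃ v : Fin chevD4.nroots, v.val = rword tabD4 w c.val ∧ ∃ a : K, a ≠ 0 ∧
      ∀ (M : Matrix chevD4.Idx chevD4.Idx K) (x : chevD4.Idx),
        ((nW chevD4 K w : Matrix chevD4.Idx chevD4.Idx K) * M) (Sum.inr v) x =
          a * M (Sum.inr c) x := by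
  induction w with
  | nil => exact ⟨c, rfl, 1, one_ne_zero, fun M x => by simp [nW]⟩
  | cons i w ih =>
    obtain ⟨v, hv, a, ha, hM⟩ := ih hw.tail
    have hi := hw.head
    refine ⟨certD4.rf hi v, by rw [rword_cons, ← hv]; rfl,
      (tabD4.eta i v : K) * (1 : K) ^ (-tabD4.car i v) * a, mul_ne_zero (mul_ne_zero ?_
        (zpow_ne_zero _ one_ne_zero)) ha, fun M x => ?_⟩
    · rcases tabD4.eta_cases i v with e | e <;> simp [e]
    · rw [nW_cons, Units.val_mul, certD4.coe_nS, Matrix.mul_assoc,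
        certD4.n_mul_inr hi one_ne_zero, certD4.rf_rf hi, hM]
      ring

lemma psi_eq_one_mem_borel {g : ↥(tri K).fix} (hg : psi g = 1) :
    (g : GL chevD4.Idx K) ∈ chevD4.borelSubgroup K := by
  obtain ⟨w₀, hw₀, -, m, -, hmf, hmn, hmM, b, hb, u, hu, eg⟩ :=
    (tri K).bruhat_fix (dataOK_D4 (RingHom.id K)).cls reps_fix g.2
  have huB : u ∈ chevD4.borelSubgroup K :=
    Subgroup.mem_sup_left (Endo.cellUnipotent_le_pos (h := certD4) hw₀ hmM hu.2)
  -- the middle factor maps the fixed vectors as an element of the Borel subgroup does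
  set c : GL chevD4.Idx K := b⁻¹ * u⁻¹ with hc
  have hcB : c ∈ chevD4.borelSubgroup K := mul_mem (inv_mem hb.2) (inv_mem huB)
  have hmc : (m : Matrix chevD4.Idx chevD4.Idx K) * P K =
      (c : Matrix chevD4.Idx chevD4.Idx K) * P K := by
    have h1 := mul_P_eq g
    rw [hg, Units.val_one, Matrix.mul_one] at h1
    let u' : ↥(tri K).fix := ⟨u, hu.1⟩
    have h2 := mul_P_eq u'⁻¹
    rw [show m = b⁻¹ * (g : GL chevD4.Idx K) * u⁻¹ by rw [eg]; group, hc]
    simp only [Units.val_mul, Matrix.mul_assoc]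
    congr 1
    rw [show ((u⁻¹ : GL chevD4.Idx K) : Matrix chevD4.Idx chevD4.Idx K) * P K =
      P K * ((psi u'⁻¹ : GL chevG2.Idx K) : Matrix chevG2.Idx chevG2.Idx K) from h2,
      ← Matrix.mul_assoc, h1]
  obtain ⟨w, hw, t, ht, rfl⟩ := certD4.exists_word_of_monomial hmn
  have hdiag : nW chevD4 K w ∈ chevD4.diagonalSubgroup K := by
    refine certD4.nW_mem_diagonal hw fun i hi => ?_
    obtain ⟨hp, hlt, -, -⟩ := certD4.simple_spec hi
    have hn := certD4.nroots_eq
    obtain ⟨v, hv, a, ha, hrow⟩ := nW_row (K := K) hw ⟨tabD4.simple i, hn ▸ hlt⟩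
    have hv : v.val = rword tabD4 w (tabD4.simple i) := hv
    by_contra hneg
    have h2 := chkCol
    simp only [List.all_eq_true, List.mem_range, List.any_eq_true, Bool.and_eq_true,
      Bool.or_eq_true, decide_eq_true_eq] at h2
    obtain ⟨j, hj, hunit, hcol⟩ := h2 (tabD4.simple i) (dimG2.2.2.1 ▸ hlt)
    have hcol := hcol.resolve_left (by rw [← dimG2.2.2.2]; omega)
    obtain ⟨x, hx⟩ := exists_enc certG2.agrees (dimG2.1.symm ▸ hj : j < tabG2.dim)
    have e := congrFun (congrFun hmc (Sum.inr v)) x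
    obtain ⟨cc, hcc, ec⟩ := certD4.mem_diagonalSubgroup_iff.1 ht
    rw [Matrix.mul_apply, Matrix.mul_apply] at e
    rw [Finset.sum_eq_single (Sum.inr (⟨tabD4.simple i, hn ▸ hlt⟩ : Fin chevD4.nroots))] at e
    · rw [Units.val_mul, hrow, ec, torus, Matrix.diagonal_apply_eq, Finset.sum_eq_zero] at e
      · refine mul_ne_zero (mul_ne_zero ha (Cert.charOf_ne_zero hcc _)) ?_ e
        rw [P, Matrix.of_apply, hx]
        rcases hunit with e' | e' <;> simp [enc, e']
      · intro k _
        rcases hcol _ (encD4_lt k) with e' | ⟨e1, e2⟩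
        · rw [P, Matrix.of_apply, hx, e', Int.cast_zero, mul_zero]
        · rw [certD4.borel_low hcB (Sum.inr v) k, zero_mul]
          have := hn.trans dimG2.2.2.1
          rcases k with k | k
          · simp only [enc] at e2; omega
          · simp only [enc] at e1
            rw [add_zero, ← not_le, Cert.pos_inr_le, not_le, hv]
            rw [← dimG2.2.2.2] at e1
            omega
    · intro k _ hk
      rw [Units.val_mul, hrow, ec, torus, Matrix.diagonal_apply_ne _ (Ne.symm hk), mul_zero,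
        zero_mul]
    · simp
  rw [eg]
  exact mul_mem (mul_mem hb.2 (Subgroup.mem_sup_right (mul_mem hdiag ht))) huB

theorem psi_injective : Function.Injective (psi (K := K)) := by
  rw [← MonoidHom.ker_eq_bot_iff, eq_bot_iff]
  intro g hg
  rw [Subgroup.mem_bot]
  have hgB := psi_eq_one_mem_borel (MonoidHom.mem_ker.1 hg)
  obtain ⟨u, hu, t, ht, e⟩ := (tri K).borel_fix.1 ⟨g.2, hgB⟩
  obtain ⟨m, hmf, hmn, hmneg, -⟩ :=
    (tri K).exists_w0 (dataOK_D4 (RingHom.id K)).cls reps_fix
  let m' : ↥(tri K).fix := ⟨m, hmf⟩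
  have hconj : m * (g : GL chevD4.Idx K) * m⁻¹ ∈ chevD4.borelSubgroup K :=
    psi_eq_one_mem_borel (g := m' * g * m'⁻¹) (by
      rw [map_mul, map_mul, MonoidHom.mem_ker.1 hg, mul_one, map_inv, mul_inv_cancel])
  have hu1 : u = 1 := by
    have h1 : m * u * m⁻¹ = 1 := Endo.neg_not_borel (h := certD4) (hmneg u hu.2) (by
      rw [show m * u * m⁻¹ = (m * (g : GL chevD4.Idx K) * m⁻¹) * (m * t * m⁻¹)⁻¹ by rw [e]; group]
      exact mul_mem hconj (inv_mem (Subgroup.mem_sup_right
        (Endo.diag_conj (h := certD4) hmn ht.2))))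
    exact conj_eq_one_iff.1 h1
  rw [hu1, one_mul] at e
  subst e
  obtain ⟨c, hc, ec⟩ := certD4.mem_diagonalSubgroup_iff.1 ht.2
  have h1 := mul_P_eq g
  rw [MonoidHom.mem_ker.1 hg, Units.val_one, Matrix.mul_one, ec] at h1
  refine Subtype.ext (Units.ext ?_)
  rw [ec, OneMemClass.coe_one, Units.val_one, ← torus_one chevD4]
  refine torus_congr chevD4 fun s hs => ?_
  have h2 := chkCol
  simp only [List.all_eq_true, List.mem_range, List.any_eq_true, Bool.and_eq_true,
    decide_eq_true_eq] at h2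
  have hn := certD4.nroots_eq
  obtain ⟨j, hj, hunit, -⟩ := h2 s (by rw [← dimG2.2.2.1, ← hn]; exact hs)
  obtain ⟨x, hx⟩ := exists_enc certG2.agrees (dimG2.1.symm ▸ hj : j < tabG2.dim)
  have e1 := congrFun (congrFun h1 (Sum.inr (⟨s, hs⟩ : Fin chevD4.nroots))) x
  rw [torus, Matrix.diagonal_mul, Sum.elim_inr, P, Matrix.of_apply, hx] at e1
  rcases hunit with e' | e' <;> simp [enc, e'] at e1 <;> exact e1

/-- The fixed points of the triality are `G₂(K)`. -/
noncomputable def fixEquiv : ↥(tri K).fix ≃* ↥(chevG2.group K) :=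
  (MonoidHom.ofInjective psi_injective).trans (MulEquiv.subgroupCongr range_psi)

end

theorem symmD4 : ∀ π : Equiv.Perm (Fin 4),
    (∀ i j : Fin 4, i ≠ j → chevD4.bonds (π i).val (π j).val = chevD4.bonds i.val j.val) →
      (∀ i, π (π i) = i) ∨ (∀ i, (π i).val = piTwD4 i.val) ∨
        ∀ i, (π (π i)).val = piTwD4 i.val := by
  decide +kernel

theorem expD4 : ∀ i : Fin 4, chevD4.isLong (chevD4.simple i.val) = false := by
  decide +kernel

/-- The map on the simple root elements and their negatives. -/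
def GraphOn {K : Type*} [Field K] (φ : ↥(chevD4.group K) →* ↥(chevD4.group K))
    (σ : ℕ → ℕ) : Prop :=
  ∀ i < tabD4.l, ∀ (t : K) (x : ↥(chevD4.group K)),
    ((x : GL chevD4.Idx K) = X chevD4 (tabD4.simple i) t →
      (φ x : GL chevD4.Idx K) = X chevD4 (tabD4.simple (σ i)) t) ∧
    ((x : GL chevD4.Idx K) = X chevD4 (tabD4.neg (tabD4.simple i)) t →
      (φ x : GL chevD4.Idx K) = X chevD4 (tabD4.neg (tabD4.simple (σ i))) t)

lemma GraphOn.ext {φ φ' : ↥(chevD4.group K) →* ↥(chevD4.group K)} {σ σ' : ℕ → ℕ}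
    (h1 : GraphOn φ σ) (h2 : GraphOn φ' σ') (e : ∀ i < tabD4.l, σ i = σ' i) : φ = φ' := by
  refine certD4.hom_ext_simple (fun i hi t x hx => Subtype.ext ?_)
    (fun i hi t x hx => Subtype.ext ?_)
  · rw [(h1 i hi t x).1 hx, (h2 i hi t x).1 hx, e i hi]
  · rw [(h1 i hi t x).2 hx, (h2 i hi t x).2 hx, e i hi]

lemma graphOn_id : GraphOn (MonoidHom.id ↥(chevD4.group K)) id :=
  fun _ _ _ _ => ⟨fun h => h, fun h => h⟩

lemma graphOn_tri [Fintype K] : GraphOn (tri K).hom piTwD4 := by
  intro i hi t x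
  have h1 := simpleTwD4
  have h2 := signTwD4
  simp only [List.all_eq_true, List.mem_range, decide_eq_true_eq] at h1 h2
  have hs := certD4.simple_lt hi
  have e1 : (tri K).ρ (tabD4.simple i) = tabD4.simple (piTwD4 i) := (tri K).sym.simple i hi
  have e2 : (tri K).ρ (tabD4.neg (tabD4.simple i)) = tabD4.neg (tabD4.simple (piTwD4 i)) := by
    rw [(tri K).sym.neg _ hs, e1]
  have hep : twistD4a.ep (tabD4.neg (tabD4.simple i)) = 1 := by rw [(h2 _ hs).2, h1 i hi]
  refine ⟨fun hx => ?_, fun hx => ?_⟩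
  · rw [(tri K).map_X _ hs t x hx, e1,
      τD4_eq (RingHom.id K) hf ⟨h1 i hi, (h2 _ hs).1⟩, pow_one]
  · rw [(tri K).map_X _ (Cert.neg_lt hs) t x hx, e2,
      τD4_eq (RingHom.id K) hf ⟨hep, (h2 _ (Cert.neg_lt hs)).1⟩, pow_one]

theorem nonempty_triality_equiv {F : Type*} [Field F] [Fintype F]
    (τ : MulAut ↥(chevD4.group F)) (hτ : chevD4.IsGraphAut τ) (hτ3 : orderOf τ = 3) :
    Nonempty (↥(MonoidHom.eqLocus τ.toMonoidHom (MonoidHom.id ↥(chevD4.group F))) ≃*
      ↥(chevG2.group F)) := by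
  obtain ⟨π, hπ, hφ⟩ := hτ
  let σ : ℕ → ℕ := fun i => if h : i < chevD4.rank then (π ⟨i, h⟩).val else i
  have hσ : GraphOn τ.toMonoidHom σ := by
    intro i hi t x
    have hl := certD4.rank_eq
    have hi' : i < chevD4.rank := hl ▸ hi
    have hj : (π ⟨i, hi'⟩).val < tabD4.l := hl ▸ (π ⟨i, hi'⟩).isLt
    have he : chevD4.graphExp (ringChar F) i (π ⟨i, hi'⟩).val = 1 := by
      simp [ChevalleyDatum.graphExp, expD4 (π ⟨i, hi'⟩)]
    obtain ⟨a, b⟩ := hφ x ⟨i, hi'⟩ t
    rw [he, pow_one] at a b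
    simp only [σ, dif_pos hi', ← certD4.coe_eq_iff]
    rw [← certD4.neg_eq (certD4.simple_lt hi), ← certD4.neg_eq (certD4.simple_lt hj),
      ← certD4.simple_eq hi, ← certD4.simple_eq hj]
    exact ⟨a, b⟩
  have hσlt : ∀ i < tabD4.l, σ i < tabD4.l := fun i hi => by
    have hi' : i < chevD4.rank := certD4.rank_eq ▸ hi
    simp only [σ, dif_pos hi']
    exact certD4.rank_eq ▸ (π ⟨i, hi'⟩).isLt
  have hσσ : GraphOn (τ.toMonoidHom.comp τ.toMonoidHom) fun i => σ (σ i) := fun i hi t x =>
    ⟨fun hx => (hσ _ (hσlt i hi) t _).1 ((hσ i hi t x).1 hx),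
      fun hx => (hσ _ (hσlt i hi) t _).2 ((hσ i hi t x).2 hx)⟩
  have hσv : ∀ i : Fin chevD4.rank, σ i.val = (π i).val := fun i => by
    show (if h : i.val < chevD4.rank then _ else _) = _
    rw [dif_pos i.isLt]
  have hlt : ∀ {i}, i < tabD4.l → i < chevD4.rank := fun h => certD4.rank_eq ▸ h
  have h3 : ∀ x, τ (τ (τ x)) = x := fun x => by
    have h := pow_orderOf_eq_one τ
    rw [hτ3] at h
    exact DFunLike.congr_fun h x
  let e0 : ↥(MonoidHom.eqLocus (tri F).hom (MonoidHom.id _)) ≃* ↥(chevG2.group F) :=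
    (Subgroup.equivMapOfInjective _ _ Subtype.val_injective).trans fixEquiv
  rcases symmD4 π (fun i j hij => hπ i j hij) with hp | hp | hp
  · exfalso
    have e : τ.toMonoidHom.comp τ.toMonoidHom = MonoidHom.id _ :=
      hσσ.ext graphOn_id fun i hi => by
        show σ (σ i) = i
        rw [hσv ⟨i, hlt hi⟩, hσv (π ⟨i, hlt hi⟩)]
        exact congrArg Fin.val (hp ⟨i, hlt hi⟩)
    have h2 : τ ^ 2 = 1 := MulEquiv.ext fun x => by
      rw [pow_two]; exact DFunLike.congr_fun e x
    have := orderOf_dvd_of_pow_eq_one h2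
    rw [hτ3] at this
    norm_num at this
  · have e : τ.toMonoidHom = (tri F).hom :=
      hσ.ext graphOn_tri fun i hi => (hσv ⟨i, hlt hi⟩).trans (hp ⟨i, hlt hi⟩)
    exact ⟨(MulEquiv.subgroupCongr (by rw [e])).trans e0⟩
  · have e : τ.toMonoidHom.comp τ.toMonoidHom = (tri F).hom :=
      hσσ.ext graphOn_tri fun i hi => by
        show σ (σ i) = _
        rw [hσv ⟨i, hlt hi⟩, hσv (π ⟨i, hlt hi⟩)]
        exact hp ⟨i, hlt hi⟩
    have e1 : MonoidHom.eqLocus τ.toMonoidHom (MonoidHom.id ↥(chevD4.group F)) =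
        MonoidHom.eqLocus (tri F).hom (MonoidHom.id ↥(chevD4.group F)) := by
      rw [← e]
      ext x
      show τ x = x ↔ τ (τ x) = x
      refine ⟨fun h => by rw [h, h], fun h => ?_⟩
      have := h3 x
      rwa [h] at this
    exact ⟨(MulEquiv.subgroupCongr e1).trans e0⟩

end CfsgLib.Chev.TrialityG2
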