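import Cfsg.Agent.Lib.Chev.Simple
import Cfsg.Agent.Lib.Chev.Functorial

/-!
Endomorphisms of Chevalley groups given by a block of the adjoint module: graph automorphisms and,
in small characteristic, the exceptional isogenies.

The coordinates `src` span a quotient of the module in characteristic `p`, their images a submodule;
the map sends the action on the first to the action on the second.
-/

set_option autoImplicit false

namespace CfsgLib.Chev

open Cfsg.Lie Matrix

/-- A number vanishing in a field. -/
class Kills (F : Type*) [Field F] (p : ℕ) : Prop where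
  eq_zero : (p : F) = 0

instance {F : Type*} [Field F] : Kills F 0 := ⟨Nat.cast_zero⟩

instance {F : Type*} [Field F] {p : ℕ} [CharP F p] : Kills F p := ⟨CharP.cast_eq_zero F p⟩

lemma Kills.intCast_eq_zero {F : Type*} [Field F] {p : ℕ} [Kills F p] {z : ℤ} (hz : (p : ℤ) ∣ z) :
    (z : F) = 0 := by
  obtain ⟨c, rfl⟩ := hz
  rw [Int.cast_mul, Int.cast_natCast, Kills.eq_zero, zero_mul]

/-- Data of a twist. -/
structure Twist where
  /-- coordinates of the quotient -/
  src : List ℕ
  /-- the matching coordinates of the submodule -/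
  img : List ℕ
  /-- signs of the matching -/
  sgn : List ℤ
  /-- the map of the roots -/
  rho : List ℕ
  /-- the exponents -/
  deg : List ℕ
  /-- the signs on the root elements -/
  eps : List ℤ

namespace Twist

variable (W : Twist)

/-- The image root. -/
def rt (r : ℕ) : ℕ := W.rho.getD r 0

/-- The exponent at a root. -/
def dg (r : ℕ) : ℕ := W.deg.getD r 1

/-- The sign at a root. -/
def ep (r : ℕ) : ℤ := W.eps.getD r 1

/-- The sign at a position. -/
def sg (i : ℕ) : ℤ := W.sgn.getD i 1

/-- Shapes. -/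
def chkShape (T : Tab) : Bool :=
  decide (W.src.Nodup) && (decide (W.img.Nodup) && (decide (W.img.length = W.src.length) &&
  ((W.src.all fun a => decide (a < T.dim)) && ((W.img.all fun a => decide (a < T.dim)) &&
  (((List.range W.src.length).all fun i => decide (W.sg i = 1 ∨ W.sg i = -1)) &&
  ((List.range T.n).all fun r => decide (W.rt r < T.n ∧ (W.ep r = 1 ∨ W.ep r = -1) ∧ W.dg r ≠ 0)))))))

/-- Quotient and submodule. -/
def chkTri (T : Tab) (p : ℕ) : Bool :=
  (List.range T.n).all fun r => (List.range T.dim).all fun b => (T.col r b).all fun q =>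
    (W.src.contains b || !W.src.contains q.1 || decide ((p : ℤ) ∣ q.2.2)) &&
      (!W.img.contains b || W.img.contains q.1 || decide ((p : ℤ) ∣ q.2.2))

/-- The column at position `j` of the block of the quotient, moved to the submodule. -/
def colQ (T : Tab) (r j : ℕ) : SVec :=
  ((T.col r (W.src.getD j 0)).filter fun q => W.src.contains q.1).map fun q =>
    ((W.img.getD (W.src.idxOf q.1) 0, q.2.1, 0), q.2.2 * (W.sg (W.src.idxOf q.1) * W.sg j))

/-- The column at position `j` of the submodule block of the image. -/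
def colI (T : Tab) (r j : ℕ) : SVec :=
  ((T.col (W.rt r) (W.img.getD j 0)).filter fun q => W.img.contains q.1).map fun q =>
    ((q.1, W.dg r * q.2.1, 0), q.2.2 * W.ep r ^ q.2.1)

/-- Equal modulo `p`. -/
def sameMod (p : ℕ) (V U : SVec) : Bool :=
  (norm false (V ++ negVec U)).all fun e => decide ((p : ℤ) ∣ e.2)

/-- The two blocks agree. -/
def chkBlk (T : Tab) (p : ℕ) : Bool :=
  (List.range T.n).all fun r => (List.range W.src.length).all fun j =>
    sameMod p (W.colQ T r j) (W.colI T r j)

/-- All checks. -/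
def chk (T : Tab) (p : ℕ) : Bool := W.chkShape T && (W.chkTri T p && W.chkBlk T p)

/-- A list of coordinates detects the monomial elements: its roots are stable under the reflections
and every simple root meets one of them. -/
def chkFaith (T : Tab) (L : List ℕ) : Bool :=
  ((List.range T.n).all fun r => !L.contains r ||
      (List.range T.l).all fun i => L.contains (T.refl i r)) &&
    (List.range T.l).all fun j => (List.range T.n).any fun r =>
      L.contains r && decide (T.car j r ≠ 0)

lemma ev_eq_of_sameMod {F : Type*} [Field F] (p : ℕ) [Kills F p] (t u : F) (row : ℕ) {V U : SVec}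
    (hs : sameMod p V U = true) : ev t u V row = ev t u U row := by
  have h2 := ev_norm t u row false (fun h => absurd h Bool.false_ne_true) (V ++ negVec U)
  have h3 : ev t u (norm false (V ++ negVec U)) row = 0 := by
    refine List.sum_eq_zero fun z hz => ?_
    obtain ⟨e, he, rfl⟩ := List.mem_map.1 hz
    simp only [sameMod, List.all_eq_true, decide_eq_true_eq] at hs
    unfold evTerm
    split
    · rw [Kills.intCast_eq_zero (hs e he), zero_mul, zero_mul]
    · rfl
  rw [h3, ev_append, ev_negVec] at h2
  linear_combination -h2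

end Twist

/-- Restriction to a block of coordinates which is a submodule or a quotient. -/
noncomputable def blockHom {ι : Type*} [Fintype ι] [DecidableEq ι] {F : Type*} [Field F] {k : ℕ}
    (p : ι → ℕ) (idx : Fin k → ι) (hinj : Function.Injective idx)
    (hcl : (∀ c, c ∉ Set.range idx → ∀ i, p (idx i) < p c) ∨
      (∀ c, c ∉ Set.range idx → ∀ j, p c < p (idx j))) :
    ↥(lowGroup F p 0) →* GL (Fin k) F :=
  MonoidHom.toHomUnits
    { toFun := fun g => ((g : GL ι F) : Matrix ι ι F).submatrix idx idx
      map_one' := by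
        rw [OneMemClass.coe_one, Units.val_one, Matrix.submatrix_one idx hinj]
      map_mul' := fun g g' => by
        rw [Subgroup.coe_mul, Units.val_mul]
        ext i j
        rw [Matrix.submatrix_apply, Matrix.mul_apply, Matrix.mul_apply]
        refine (Finset.sum_of_injOn idx hinj.injOn (fun a _ => Finset.mem_coe.2 (Finset.mem_univ _))
          (fun c _ hc => ?_) fun a _ => rfl).symm
        have hc' : c ∉ Set.range idx := fun ⟨a, ha⟩ => hc ⟨a, by simp, ha⟩
        rcases hcl with hq | hi
        · rw [g.2.1.of_sub_one (idx i) c (by have := hq c hc' i; omega), zero_mul]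
        · rw [g'.2.1.of_sub_one c (idx j) (by have := hi c hc' j; omega), mul_zero] }

lemma blockHom_apply {ι : Type*} [Fintype ι] [DecidableEq ι] {F : Type*} [Field F] {k : ℕ}
    (p : ι → ℕ) (idx : Fin k → ι) (hinj : Function.Injective idx)
    (hcl : (∀ c, c ∉ Set.range idx → ∀ i, p (idx i) < p c) ∨
      (∀ c, c ∉ Set.range idx → ∀ j, p c < p (idx j))) (g : ↥(lowGroup F p 0)) (i j : Fin k) :
    (blockHom p idx hinj hcl g : Matrix (Fin k) (Fin k) F) i j =
      ((g : GL ι F) : Matrix ι ι F) (idx i) (idx j) := rfl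

/-- Apply a field map and conjugate by signs. -/
noncomputable def signMap {k : ℕ} {F : Type*} [Field F] (f : F →+* F) (s : Fin k → F)
    (hs : ∀ i, s i * s i = 1) : GL (Fin k) F →* GL (Fin k) F :=
  MonoidHom.toHomUnits
    { toFun := fun g => Matrix.diagonal s * (g : Matrix (Fin k) (Fin k) F).map f * Matrix.diagonal s
      map_one' := by
        rw [Units.val_one, Matrix.map_one _ f.map_zero f.map_one, mul_one, Matrix.diagonal_mul_diagonal]
        simp [hs]
      map_mul' := fun g g' => by
        have hsq : Matrix.diagonal s * Matrix.diagonal s = 1 := by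
          rw [Matrix.diagonal_mul_diagonal]; simp [hs]
        rw [Units.val_mul, Matrix.map_mul]
        simp only [mul_assoc]
        rw [← mul_assoc (Matrix.diagonal s) (Matrix.diagonal s), hsq, one_mul] }

lemma signMap_apply {k : ℕ} {F : Type*} [Field F] (f : F →+* F) (s : Fin k → F)
    (hs : ∀ i, s i * s i = 1) (g : GL (Fin k) F) (i j : Fin k) :
    (signMap f s hs g : Matrix (Fin k) (Fin k) F) i j =
      s i * f ((g : Matrix (Fin k) (Fin k) F) i j) * s j := by
  show (Matrix.diagonal s * (g : Matrix (Fin k) (Fin k) F).map f * Matrix.diagonal s) i j = _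
  rw [Matrix.mul_diagonal, Matrix.diagonal_mul, Matrix.map_apply]

lemma signMap_injective {k : ℕ} {F : Type*} [Field F] (f : F →+* F) (s : Fin k → F)
    (hs : ∀ i, s i * s i = 1) : Function.Injective (signMap f s hs) := by
  intro g g' e
  refine Units.ext (Matrix.ext fun i j => f.injective ?_)
  have h1 := congrArg (fun x : GL (Fin k) F => (x : Matrix (Fin k) (Fin k) F) i j) e
  simp only [signMap_apply] at h1
  exact mul_left_cancel₀ (left_ne_zero_of_mul_eq_one (hs i))
    (mul_right_cancel₀ (left_ne_zero_of_mul_eq_one (hs j)) h1)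

namespace Cert

variable {D : ChevalleyDatum} {T : Tab} {C : Tab.Cover} (h : Cert D T C)
include h

/-- The coordinate with a given code. -/
noncomputable def crd (k : ℕ) : D.Idx :=
  if hk : k < T.dim then (exists_enc h.agrees hk).choose
  else Sum.inl ⟨0, lt_of_lt_of_eq h.rank_pos h.rank_eq.symm⟩

lemma enc_crd {k : ℕ} (hk : k < T.dim) : enc (h.crd k) = k := by
  rw [crd, dif_pos hk]
  exact (exists_enc h.agrees hk).choose_spec

lemma crd_enc (a : D.Idx) : h.crd (enc a) = a :=
  enc_injective (h.enc_crd (enc_lt h.agrees a))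

/-- The coordinates of a list. -/
noncomputable def idx (L : List ℕ) (i : Fin L.length) : D.Idx := h.crd (L.get i)

lemma idx_injective {L : List ℕ} (hL : ∀ a ∈ L, a < T.dim) (hn : L.Nodup) :
    Function.Injective (h.idx L) := fun i j e => by
  have e' := congrArg enc e
  rw [idx, idx, h.enc_crd (hL _ (L.get_mem i)), h.enc_crd (hL _ (L.get_mem j))] at e'
  exact hn.injective_get e'

lemma not_mem_range_idx {L : List ℕ} (hL : ∀ a ∈ L, a < T.dim) {c : D.Idx}
    (hc : c ∉ Set.range (h.idx L)) : enc c ∉ L := fun hm => by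
  obtain ⟨i, hi⟩ := List.get_of_mem hm
  exact hc ⟨i, enc_injective (by rw [idx, h.enc_crd (hL _ (L.get_mem i)), hi])⟩

/-- Numbering putting the coordinates of `L` first. -/
def inFirst (L : List ℕ) (a : D.Idx) : ℕ := if enc a ∈ L then 0 else 1

/-- Numbering putting the coordinates of `L` last. -/
def inLast (L : List ℕ) (a : D.Idx) : ℕ := if enc a ∈ L then 1 else 0

variable {F : Type*} [Field F]

/-- The nonzero entries of `n_w` in the columns of the roots. -/
lemma nW_entry {w : List ℕ} (hw : WordOK T w) (c : Fin D.nroots) :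
    ∃ v : Fin D.nroots, v.val = rword T w c.val ∧
      (nW D F w : Matrix D.Idx D.Idx F) (Sum.inr v) (Sum.inr c) ≠ 0 := by
  induction w with
  | nil => exact ⟨c, rfl, by simp [nW]⟩
  | cons i w ih =>
    obtain ⟨v, hv, hne⟩ := ih hw.tail
    have hi := hw.head
    refine ⟨h.rf hi v, by rw [rword_cons, ← hv]; rfl, ?_⟩
    rw [nW_cons, Units.val_mul, h.coe_nS, h.n_mul_inr hi one_ne_zero, h.rf_rf hi]
    refine mul_ne_zero (mul_ne_zero ?_ (zpow_ne_zero _ one_ne_zero)) hne
    rcases T.eta_cases i v with e | e <;> simp [e]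

/-- A kernel of a block representation is trivial. -/
theorem block_eq_one {L : List ℕ} (hL : ∀ a ∈ L, a < T.dim) (hn : L.Nodup)
    (hf : Twist.chkFaith T L = true) {p : D.Idx → ℕ}
    (hcl : (∀ c, c ∉ Set.range (h.idx L) → ∀ i, p (h.idx L i) < p c) ∨
      (∀ c, c ∉ Set.range (h.idx L) → ∀ j, p c < p (h.idx L j)))
    (hle : D.group F ≤ lowGroup F p 0) :
    Function.Injective ((blockHom p (h.idx L) (h.idx_injective hL hn) hcl).comp
      (Subgroup.inclusion hle)) := by
  classical
  set R := (blockHom p (h.idx L) (h.idx_injective hL hn) hcl).comp (Subgroup.inclusion hle) with hR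
  rw [← MonoidHom.ker_eq_bot_iff, eq_bot_iff, ← h.normalCore_borel (F := F),
    Subgroup.normal_le_normalCore]
  intro g hg
  rw [Subgroup.mem_subgroupOf]
  obtain ⟨b, hb, m, hm, u, hu, e⟩ := h.bruhat_exists g.2
  obtain ⟨w, hw, t, ht, rfl⟩ := h.exists_word_of_monomial hm
  have hu' : u ∈ D.borelSubgroup F := by
    rw [h.cellUnipotent_eq (π := rword T w) fun r hr =>
      ⟨h.rword_lt hw hr, Maps_mul (h.Maps_diagonal ht hr) (h.Maps_nW hw hr)⟩] at hu
    refine Subgroup.mem_sup_left ?_
    rw [h.posUnipotent_eq]; exact gen_mono D Set.sdiff_subset hu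
  let gb : ↥(D.group F) := ⟨b, h.borel_le_group hb⟩
  let gm : ↥(D.group F) := ⟨nW D F w * t, h.monomial_le_group hm⟩
  let gu : ↥(D.group F) := ⟨u, h.borel_le_group hu'⟩
  have eg : g = gb * gm * gu := Subtype.ext e
  have hRm : (R gm : Matrix (Fin L.length) (Fin L.length) F) =
      (R gb⁻¹ : Matrix (Fin L.length) (Fin L.length) F) * (R gu⁻¹ : Matrix _ _ F) := by
    have h1 : R gb * R gm * R gu = 1 := by rw [← map_mul, ← map_mul, ← eg]; exact hg
    rw [← Units.val_mul, map_inv, map_inv]
    refine congrArg Units.val ?_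
    calc R gm = (R gb)⁻¹ * (R gb * R gm * R gu) * (R gu)⁻¹ := by group
      _ = _ := by rw [h1, mul_one]
  have hlow : ∀ x : ↥(D.group F), (x : GL D.Idx F) ∈ D.borelSubgroup F →
      Low (fun i => pos D T (h.idx L i)) 0 (R x : Matrix (Fin L.length) (Fin L.length) F) :=
    fun x hx i j hij => h.borel_low hx _ _ hij
  have htri := (hlow gb⁻¹ (inv_mem hb)).mul (hlow gu⁻¹ (inv_mem hu'))
  simp only [← hRm, add_zero] at htri
  simp only [Twist.chkFaith, Bool.and_eq_true, List.all_eq_true, List.any_eq_true, List.mem_range,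
    Bool.or_eq_true, Bool.not_eq_true', List.contains_iff_mem,
    List.elem_eq_mem, decide_eq_false_iff_not, decide_eq_true_eq] at hf
  obtain ⟨hclosed, hmeet⟩ := hf
  set S := (Finset.range T.n).filter fun r => r ∈ L with hS
  have hSmap : ∀ v : List ℕ, WordOK T v → ∀ r ∈ S, rword T v r ∈ S := by
    intro v
    induction v with
    | nil => intro _ r hr; exact hr
    | cons i v ih =>
      intro hv r hr
      have h1 := ih hv.tail r hr
      simp only [hS, Finset.mem_filter, Finset.mem_range] at h1 ⊢
      rw [rword_cons]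
      exact ⟨h.refl_lt hv.head h1.1,
        ((hclosed _ h1.1).resolve_left (fun hn => hn h1.2)) i hv.head⟩
  have hge : ∀ r ∈ S, r ≤ rword T w r := by
    intro r hr
    obtain ⟨hrn, hrL⟩ : r < T.n ∧ r ∈ L := by simpa [hS] using hr
    obtain ⟨hwn, hwL⟩ : rword T w r < T.n ∧ rword T w r ∈ L := by simpa [hS] using hSmap w hw r hr
    obtain ⟨i, hi⟩ := List.get_of_mem hwL
    obtain ⟨j, hj⟩ := List.get_of_mem hrL
    obtain ⟨v, hv, hne⟩ := h.nW_entry (F := F) hw ⟨r, lt_of_lt_of_eq hrn h.nroots_eq.symm⟩
    set a : Fin D.nroots := ⟨r, lt_of_lt_of_eq hrn h.nroots_eq.symm⟩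
    have ei : h.idx L i = Sum.inr v := by
      rw [idx, hi, ← h.crd_enc (Sum.inr v)]; exact congrArg h.crd hv.symm
    have ej : h.idx L j = Sum.inr a := by
      rw [idx, hj, ← h.crd_enc (Sum.inr a)]; rfl
    by_contra hlt
    refine hne ?_
    have h1 := htri i j (by
      show pos D T (h.idx L i) < pos D T (h.idx L j) + 0
      rw [ei, ej, add_zero, ← not_le, pos_inr_le, not_le, hv]
      exact not_le.1 hlt)
    have h2 : (R gm : Matrix (Fin L.length) (Fin L.length) F) i j =
        ((nW D F w * t : GL D.Idx F) : Matrix D.Idx D.Idx F) (Sum.inr v) (Sum.inr a) := by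
      rw [← ei, ← ej]; rfl
    rw [h2, Units.val_mul] at h1
    obtain ⟨c, hc, ec⟩ := h.mem_diagonalSubgroup_iff.1 ht
    rw [ec, torus, Matrix.mul_diagonal] at h1
    exact (mul_eq_zero.1 h1).resolve_right (charOf_ne_zero hc _)
  have hfix : ∀ r ∈ S, rword T w r = r := by
    have hwr : WordOK T w.reverse := fun i hi => hw i (List.mem_reverse.1 hi)
    have hsum : ∑ r ∈ S, r = ∑ r ∈ S, rword T w r := by
      refine Finset.sum_nbij' (fun r => rword T w.reverse r) (fun r => rword T w r)
        (fun r hr => hSmap _ hwr r hr) (fun r hr => hSmap _ hw r hr) (fun r hr => ?_) (fun r hr => ?_)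
        (fun r hr => ?_)
      · have hr' : r < T.n := by simp [hS] at hr; exact hr.1
        exact h.rword_reverse hw hr'
      · have hr' : r < T.n := by simp [hS] at hr; exact hr.1
        simpa using h.rword_reverse hwr hr'
      · have hr' : r < T.n := by simp [hS] at hr; exact hr.1
        rw [h.rword_reverse hw hr']
    exact fun r hr => ((Finset.sum_eq_sum_iff_of_le hge).1 hsum r hr).symm
  have hdiag : nW D F w ∈ D.diagonalSubgroup F := by
    refine h.nW_mem_diagonal hw fun i hi => ?_
    obtain ⟨r, hrn, hrL, hne⟩ := hmeet i hi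
    have hrS : r ∈ S := by simp [hS, hrn, hrL]
    have hr2 : T.refl i r ∈ S := by
      have := hSmap [i] (fun a ha => by rw [List.mem_singleton.1 ha]; exact hi) r hrS
      simpa [rword] using this
    have h1 : ∀ k, h.wt k (rword T w (T.simple i)) = h.wt k (T.simple i) := by
      intro k
      have e1 := h.wt_rword_refl hw hi hrn k
      rw [hfix _ hr2, hfix _ hrS, h.wt_refl hi hrn] at e1
      have : T.car i r * (h.wt k (rword T w (T.simple i)) - h.wt k (T.simple i)) = 0 := by linarith
      rcases mul_eq_zero.1 this with a | a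
      · exact absurd a hne
      · omega
    have h2 := h.wt_simple hi hi
    rw [if_pos rfl, ← h1 i] at h2
    exact h.pos_of_wt_pos hi (h.rword_lt hw (h.simple_lt hi)) h2
  rw [e]
  exact mul_mem (mul_mem hb (Subgroup.mem_sup_right (mul_mem hdiag ht))) hu'

variable {W : Twist} {p : ℕ}

lemma shape_spec (hW : W.chk T p = true) :
    W.src.Nodup ∧ W.img.Nodup ∧ W.img.length = W.src.length ∧ (∀ a ∈ W.src, a < T.dim) ∧
      (∀ a ∈ W.img, a < T.dim) ∧ (∀ i < W.src.length, W.sg i = 1 ∨ W.sg i = -1) ∧
      ∀ r < T.n, W.rt r < T.n ∧ (W.ep r = 1 ∨ W.ep r = -1) ∧ W.dg r ≠ 0 := by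
  simp only [Twist.chk, Twist.chkShape, Bool.and_eq_true, List.all_eq_true, decide_eq_true_eq,
    List.mem_range] at hW
  obtain ⟨⟨a, b, c, d, e, f, g⟩, -⟩ := hW
  exact ⟨a, b, c, d, e, f, g⟩

theorem group_le_low [Kills F p] (hW : W.chk T p = true) :
    D.group F ≤ lowGroup F (inFirst (D := D) W.src) 0 ∧ D.group F ≤ lowGroup F (inLast (D := D) W.img) 0 := by
  simp only [Twist.chk, Twist.chkTri, Bool.and_eq_true, List.all_eq_true, List.mem_range,
    Bool.or_eq_true, Bool.not_eq_true', List.contains_iff_mem, decide_eq_false_iff_not,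
    decide_eq_true_eq] at hW
  obtain ⟨-, htri, -⟩ := hW
  have key : ∀ r < T.n, ∀ z : F, Low (inFirst (D := D) W.src) 0 (D.x F r z - 1) ∧
      Low (inLast (D := D) W.img) 0 (D.x F r z - 1) := by
    intro r hr z
    have hzero : ∀ a b : D.Idx, a ≠ b → (∀ q ∈ T.col r (enc b), q.1 = enc a → (p : ℤ) ∣ q.2.2) →
        (D.x F r z - 1 : Matrix D.Idx D.Idx F) a b = 0 := by
      intro a b hab hq
      rw [Matrix.sub_apply, Matrix.one_apply_ne hab, sub_zero, x_apply h.agrees hr]
      refine List.sum_eq_zero fun y hy => ?_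
      obtain ⟨q, hq', rfl⟩ := List.mem_map.1 hy
      split
      · next e => rw [Kills.intCast_eq_zero (hq q hq' e), zero_mul]
      · rfl
    constructor
    · intro a b hab
      simp only [inFirst] at hab
      split_ifs at hab with ha hb hb <;> try omega
      refine hzero a b (fun e => hb (e ▸ ha)) fun q hq e => ?_
      exact (((htri r hr _ (enc_lt h.agrees b) q hq).1.resolve_left) (by simp [hb, e, ha]))
    · intro a b hab
      simp only [inLast] at hab
      split_ifs at hab with ha hb hb <;> try omega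
      refine hzero a b (fun e => ha (e ▸ hb)) fun q hq e => ?_
      exact (((htri r hr _ (enc_lt h.agrees b) q hq).2.resolve_left) (by simp [hb, e, ha]))
  constructor <;>
  · rw [h.group_eq, gen, Subgroup.closure_le]
    rintro _ ⟨r, hr, t, rfl⟩
    exact ⟨by rw [h.coe_X]; first | exact (key r hr t).1 | exact (key r hr t).2,
      by rw [h.X_inv hr, h.coe_X]; first | exact (key r hr _).1 | exact (key r hr _).2⟩

variable [Kills F p]

/-- The action on the quotient. -/
noncomputable def quotRep (hW : W.chk T p = true) : ↥(D.group F) →* GL (Fin W.src.length) F :=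
  (blockHom (inFirst (D := D) W.src) (h.idx W.src)
    (h.idx_injective (h.shape_spec hW).2.2.2.1 (h.shape_spec hW).1)
    (Or.inl fun c hc i => by
      have := h.not_mem_range_idx (h.shape_spec hW).2.2.2.1 hc
      rw [inFirst, inFirst, if_neg this, if_pos (by
        rw [idx, h.enc_crd ((h.shape_spec hW).2.2.2.1 _ (W.src.get_mem i))]
        exact W.src.get_mem i)]
      exact one_pos)).comp (Subgroup.inclusion (h.group_le_low hW).1)

/-- The action on the submodule. -/
noncomputable def subRep (hW : W.chk T p = true) : ↥(D.group F) →* GL (Fin W.img.length) F :=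
  (blockHom (inLast (D := D) W.img) (h.idx W.img)
    (h.idx_injective (h.shape_spec hW).2.2.2.2.1 (h.shape_spec hW).2.1)
    (Or.inr fun c hc i => by
      have := h.not_mem_range_idx (h.shape_spec hW).2.2.2.2.1 hc
      rw [inLast, inLast, if_neg this, if_pos (by
        rw [idx, h.enc_crd ((h.shape_spec hW).2.2.2.2.1 _ (W.img.get_mem i))]
        exact W.img.get_mem i)]
      exact one_pos)).comp (Subgroup.inclusion (h.group_le_low hW).2)

lemma subRep_injective (hW : W.chk T p = true) (hI : Twist.chkFaith T W.img = true) :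
    Function.Injective (h.subRep (F := F) hW) :=
  h.block_eq_one (h.shape_spec hW).2.2.2.2.1 (h.shape_spec hW).2.1 hI _ _

lemma quotRep_injective (hW : W.chk T p = true) (hS : Twist.chkFaith T W.src = true) :
    Function.Injective (h.quotRep (F := F) hW) :=
  h.block_eq_one (h.shape_spec hW).2.2.2.1 (h.shape_spec hW).1 hS _ _

/-- The signs. -/
def signs (W : Twist) (F : Type*) [Field F] (i : Fin W.img.length) : F := (W.sg i.val : F)

/-- The quotient action, twisted, on the coordinates of the submodule. -/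
noncomputable def twistRep (hW : W.chk T p = true) (f : F →+* F) :
    ↥(D.group F) →* GL (Fin W.img.length) F :=
  (signMap f (signs W F) (fun i => by
      rcases (h.shape_spec hW).2.2.2.2.2.1 i.val
        (lt_of_lt_of_eq i.isLt (h.shape_spec hW).2.2.1) with e | e <;>
        simp [signs, e])).comp
    ((Units.map (Matrix.reindexRingEquiv F
      (finCongr (h.shape_spec hW).2.2.1.symm)).toMonoidHom).comp (h.quotRep hW))

lemma twistRep_injective (hW : W.chk T p = true) (hS : Twist.chkFaith T W.src = true)
    (f : F →+* F) : Function.Injective (h.twistRep (F := F) hW f) := by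
  rw [twistRep, MonoidHom.coe_comp]
  refine (signMap_injective f _ _).comp ?_
  intro a b e
  refine h.quotRep_injective hW hS (Units.ext ?_)
  exact (Matrix.reindexRingEquiv F _).injective (congrArg Units.val e)

lemma twistRep_apply (hW : W.chk T p = true) (f : F →+* F) (g : ↥(D.group F))
    (i j : Fin W.img.length) :
    (h.twistRep hW f g : Matrix (Fin W.img.length) (Fin W.img.length) F) i j =
      (W.sg i.val : F) * f (((g : GL D.Idx F) : Matrix D.Idx D.Idx F)
        (h.crd (W.src.getD i.val 0)) (h.crd (W.src.getD j.val 0))) * (W.sg j.val : F) := by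
  rw [twistRep, MonoidHom.comp_apply, signMap_apply]
  simp only [signs, MonoidHom.comp_apply, Units.coe_map]
  have hlen := (h.shape_spec hW).2.2.1
  have e : ∀ i : Fin W.img.length, h.idx W.src (Fin.cast hlen i) = h.crd (W.src.getD i.val 0) := by
    intro i
    rw [idx, List.getD_eq_getElem _ _ (lt_of_lt_of_eq i.isLt hlen)]
    rfl
  rw [← e i, ← e j]
  rfl

lemma twistRep_X (hW : W.chk T p = true) (f : F →+* F) {r : ℕ} (hr : r < T.n) (t : F) :
    h.twistRep hW f ⟨X D r t, h.X_mem_group hr t⟩ =
      h.subRep hW ⟨X D (W.rt r) ((W.ep r : F) * f t ^ W.dg r),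
        h.X_mem_group ((h.shape_spec hW).2.2.2.2.2.2 r hr).1 _⟩ := by
  obtain ⟨hns, hni, hlen, hsd, hid, -, hrs⟩ := h.shape_spec hW
  have hW' := hW
  simp only [Twist.chk, Twist.chkBlk, Bool.and_eq_true, List.all_eq_true, List.mem_range] at hW'
  obtain ⟨-, -, hblk⟩ := hW'
  refine Units.ext (Matrix.ext fun i j => ?_)
  rw [h.twistRep_apply]
  show _ = ((X D (W.rt r) ((W.ep r : F) * f t ^ W.dg r) : GL D.Idx F) : Matrix D.Idx D.Idx F)
    (h.idx W.img i) (h.idx W.img j)
  have hi : i.val < W.src.length := lt_of_lt_of_eq i.isLt hlen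
  have hj : j.val < W.src.length := lt_of_lt_of_eq j.isLt hlen
  have eSi : W.src.getD i.val 0 = W.src[i.val] := List.getD_eq_getElem _ _ hi
  have eSj : W.src.getD j.val 0 = W.src[j.val] := List.getD_eq_getElem _ _ hj
  have eIi : W.img.getD i.val 0 = W.img[i.val] := List.getD_eq_getElem _ _ i.isLt
  have eIj : W.img.getD j.val 0 = W.img[j.val] := List.getD_eq_getElem _ _ j.isLt
  show _ = ((X D (W.rt r) ((W.ep r : F) * f t ^ W.dg r) : GL D.Idx F) : Matrix D.Idx D.Idx F)
    (h.crd W.img[i.val]) (h.crd W.img[j.val])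
  rw [h.coe_X, h.coe_X, x_apply h.agrees hr, x_apply h.agrees (hrs r hr).1, eSi, eSj,
    h.enc_crd (hsd _ (List.getElem_mem hi)), h.enc_crd (hsd _ (List.getElem_mem hj)),
    h.enc_crd (hid _ (List.getElem_mem i.isLt)), h.enc_crd (hid _ (List.getElem_mem j.isLt)),
    map_list_sum, List.map_map, ← List.sum_map_mul_left, ← List.sum_map_mul_right]
  have key := Twist.ev_eq_of_sameMod p (f t) (0 : F) (W.img[i.val]) (hblk r hr j.val hj)
  simp only [Twist.colQ, Twist.colI, ev, List.map_map, eSj, eIj, sum_map_filter_eq,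
    Function.comp_def, evTerm, pow_zero, mul_one, List.contains_iff_mem] at key
  refine Eq.trans (congrArg List.sum (List.map_congr_left fun q _ => ?_)) (key.trans
    (congrArg List.sum (List.map_congr_left fun q _ => ?_)))
  · simp only [Function.comp_apply]
    by_cases e : q.1 = W.src[i.val]
    · rw [if_pos e, if_pos (e ▸ List.getElem_mem hi), if_pos (by
        rw [e, hns.idxOf_getElem _ hi, eIi]), map_mul, map_pow, map_intCast]
      rw [e, hns.idxOf_getElem _ hi]
      push_cast
      ring
    · rw [if_neg e, map_zero, mul_zero, zero_mul]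
      by_cases hm : q.1 ∈ W.src
      · rw [if_pos hm, if_neg]
        have hlt : W.src.idxOf q.1 < W.src.length := List.idxOf_lt_length_of_mem hm
        rw [List.getD_eq_getElem _ _ (hlen ▸ hlt), hni.getElem_inj_iff]
        intro e'
        refine e ?_
        rw [← List.getElem_idxOf hlt]
        simp only [e']
      · rw [if_neg hm]
  · by_cases e : q.1 = W.img[i.val]
    · rw [if_pos (e ▸ List.getElem_mem i.isLt), if_pos e, if_pos e]
      push_cast
      rw [mul_pow, ← pow_mul]
      ring
    · rw [if_neg e, if_neg e]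
      split <;> rfl

lemma twistRep_range_le (hW : W.chk T p = true) (f : F →+* F) :
    (h.twistRep (F := F) hW f).range ≤ (h.subRep (F := F) hW).range := by
  rintro _ ⟨⟨g, hg⟩, rfl⟩
  have hle : D.group F ≤ ((h.subRep (F := F) hW).range.comap (h.twistRep (F := F) hW f)).map
      (D.group F).subtype := by
    conv_lhs => rw [h.group_eq]
    refine (Subgroup.closure_le _).2 ?_
    rintro _ ⟨r, hr, t, rfl⟩
    exact ⟨⟨_, h.X_mem_group hr t⟩, ⟨_, (h.twistRep_X hW f hr t).symm⟩, rfl⟩
  obtain ⟨y, hy, e⟩ := hle hg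
  rwa [show (⟨g, hg⟩ : ↥(D.group F)) = y from Subtype.ext e.symm]

/-- The endomorphism. -/
noncomputable def twistHom (hW : W.chk T p = true) (hI : Twist.chkFaith T W.img = true)
    (f : F →+* F) : ↥(D.group F) →* ↥(D.group F) :=
  (MonoidHom.ofInjective (h.subRep_injective hW hI)).symm.toMonoidHom.comp
    ((h.twistRep hW f).codRestrict _ fun g => h.twistRep_range_le hW f ⟨g, rfl⟩)

lemma subRep_twistHom (hW : W.chk T p = true) (hI : Twist.chkFaith T W.img = true) (f : F →+* F)
    (g : ↥(D.group F)) : h.subRep hW (h.twistHom hW hI f g) = h.twistRep hW f g := by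
  have := (MonoidHom.ofInjective (h.subRep_injective (F := F) hW hI)).apply_symm_apply
    ⟨h.twistRep hW f g, h.twistRep_range_le hW f ⟨g, rfl⟩⟩
  exact congrArg Subtype.val this

theorem twistHom_X (hW : W.chk T p = true) (hI : Twist.chkFaith T W.img = true) (f : F →+* F)
    {r : ℕ} (hr : r < T.n) (t : F) (x : ↥(D.group F)) (hx : (x : GL D.Idx F) = X D r t) :
    (h.twistHom hW hI f x : GL D.Idx F) = X D (W.rt r) ((W.ep r : F) * f t ^ W.dg r) := by
  rw [show x = ⟨X D r t, h.X_mem_group hr t⟩ from Subtype.ext hx]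
  refine congrArg Subtype.val (a₂ := (⟨_, h.X_mem_group ((h.shape_spec hW).2.2.2.2.2.2 r hr).1 _⟩ :
    ↥(D.group F))) (h.subRep_injective hW hI ?_)
  rw [h.subRep_twistHom, h.twistRep_X hW f hr]

theorem twistHom_injective (hW : W.chk T p = true) (hI : Twist.chkFaith T W.img = true)
    (hS : Twist.chkFaith T W.src = true) (f : F →+* F) :
    Function.Injective (h.twistHom (F := F) hW hI f) := fun a b e => by
  refine h.twistRep_injective hW hS f ?_
  rw [← h.subRep_twistHom hW hI, ← h.subRep_twistHom hW hI, e]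

theorem twistHom_surjective (hW : W.chk T p = true) (hI : Twist.chkFaith T W.img = true)
    (f : F →+* F) (hrho : ∀ s < T.n, ∃ r < T.n, W.rt r = s)
    (hperf : ∀ r < T.n, ∀ z : F, ∃ t, f t ^ W.dg r = z) :
    Function.Surjective (h.twistHom (F := F) hW hI f) := by
  rintro ⟨g, hg⟩
  have hle : D.group F ≤ ((h.twistHom (F := F) hW hI f).range).map (D.group F).subtype := by
    conv_lhs => rw [h.group_eq]
    refine (Subgroup.closure_le _).2 ?_
    rintro _ ⟨s, hs, z, rfl⟩
    obtain ⟨r, hr, rfl⟩ := hrho s hs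
    obtain ⟨t, ht⟩ := hperf r hr ((W.ep r : F) * z)
    refine ⟨_, ⟨⟨X D r t, h.X_mem_group hr t⟩, rfl⟩, ?_⟩
    rw [Subgroup.coe_subtype, h.twistHom_X hW hI f hr t _ rfl, ht, ← mul_assoc]
    rcases ((h.shape_spec hW).2.2.2.2.2.2 r hr).2.1 with e | e <;> simp [e]
  obtain ⟨y, ⟨x, hx⟩, e⟩ := hle hg
  exact ⟨x, hx.trans (Subtype.ext e)⟩

/-- The automorphism over a field on which the exponents are bijective. -/
noncomputable def twistEquiv (hW : W.chk T p = true) (hI : Twist.chkFaith T W.img = true)
    (hS : Twist.chkFaith T W.src = true) (f : F →+* F) (hrho : ∀ s < T.n, ∃ r < T.n, W.rt r = s)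
    (hperf : ∀ r < T.n, ∀ z : F, ∃ t, f t ^ W.dg r = z) : ↥(D.group F) ≃* ↥(D.group F) :=
  MulEquiv.ofBijective (h.twistHom hW hI f)
    ⟨h.twistHom_injective hW hI hS f, h.twistHom_surjective hW hI f hrho hperf⟩

/-- There is an automorphism permuting the root elements. -/
theorem exists_twistEquiv (hW : W.chk T p = true) (hI : Twist.chkFaith T W.img = true)
    (hS : Twist.chkFaith T W.src = true) (f : F →+* F)
    (hrho : ((List.range T.n).all fun s => (List.range T.n).any fun r =>
      decide (W.rt r = s)) = true)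
    (hperf : ∀ r < T.n, ∀ z : F, ∃ t, f t ^ W.dg r = z) :
    ∃ α : ↥(D.group F) ≃* ↥(D.group F), ∀ (g : ↥(D.group F)) (r : ℕ) (t : F), r < T.n →
      ((g : GL D.Idx F) : Matrix D.Idx D.Idx F) = D.x F r t →
        ((α g : GL D.Idx F) : Matrix D.Idx D.Idx F) =
          D.x F (W.rt r) ((W.ep r : F) * f t ^ W.dg r) := by
  have hrho' : ∀ s < T.n, ∃ r < T.n, W.rt r = s := by
    simpa [List.all_eq_true, List.any_eq_true] using hrho
  refine ⟨h.twistEquiv hW hI hS f hrho' hperf, fun g r t hr hg => ?_⟩
  rw [← h.coe_X] at hg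
  rw [← h.coe_X]
  exact congrArg Units.val (h.twistHom_X hW hI f hr t g (Units.ext hg))

end Cert

end CfsgLib.Chev
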