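import Cfsg.Agent.Lib.Chev.Simple
import Cfsg.Agent.Lib.Chev.Functorial
import Cfsg.Agent.Lib.Chev.DiagOrder

/-!
Endomorphisms of a Chevalley group permuting the root subgroups, with their action on the standard
subgroups and elements.
-/

set_option autoImplicit false

namespace CfsgLib.Chev

open Cfsg.Lie Matrix


/-- What is required of a permutation of the roots with its permutation of the simple indices. -/
structure RootSym (T : Tab) (ρ π : ℕ → ℕ) : Prop where
  lt : ∀ r < T.n, ρ r < T.n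
  pos : ∀ r < T.n, (T.half ≤ ρ r ↔ T.half ≤ r)
  neg : ∀ r < T.n, ρ (T.neg r) = T.neg (ρ r)
  inj : ∀ r < T.n, ∀ s < T.n, ρ r = ρ s → r = s
  pi_lt : ∀ i < T.l, π i < T.l
  simple : ∀ i < T.l, ρ (T.simple i) = T.simple (π i)
  refl : ∀ i < T.l, ∀ r < T.n, ρ (T.refl i r) = T.refl (π i) (ρ r)

/-- The check of `RootSym`; the map `κ` is an inverse. -/
def chkSym (T : Tab) (ρ π κ : ℕ → ℕ) : Bool :=
  ((List.range T.n).all fun r => decide (ρ r < T.n) && (decide (T.half ≤ ρ r ↔ T.half ≤ r) &&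
      (decide (ρ (T.neg r) = T.neg (ρ r)) && decide (κ (ρ r) = r)))) &&
    (List.range T.l).all fun i => decide (π i < T.l) && (decide (ρ (T.simple i) = T.simple (π i)) &&
      (List.range T.n).all fun r => decide (ρ (T.refl i r) = T.refl (π i) (ρ r)))

lemma RootSym.of_chk {T : Tab} {ρ π κ : ℕ → ℕ} (hc : chkSym T ρ π κ = true) : RootSym T ρ π := by
  simp only [chkSym, Bool.and_eq_true, List.all_eq_true, List.mem_range, decide_eq_true_eq] at hc
  exact ⟨fun r hr => (hc.1 r hr).1, fun r hr => (hc.1 r hr).2.1, fun r hr => (hc.1 r hr).2.2.1,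
    fun r hr s hs e => by rw [← (hc.1 r hr).2.2.2, ← (hc.1 s hs).2.2.2, e],
    fun i hi => (hc.2 i hi).1, fun i hi => (hc.2 i hi).2.1, fun i hi => (hc.2 i hi).2.2⟩

lemma RootSym.pi_inj {D : ChevalleyDatum} {T : Tab} {C : Tab.Cover} (h : Cert D T C) {ρ π : ℕ → ℕ}
    (hs : RootSym T ρ π) {i j : ℕ} (hi : i < T.l) (hj : j < T.l) (e : π i = π j) : i = j := by
  have e' : T.simple i = T.simple j := hs.inj _ (h.simple_lt hi) _ (h.simple_lt hj)
    (by rw [hs.simple i hi, hs.simple j hj, e])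
  have h1 := (h.simple_spec hi).2.2.2 i hi
  rw [e', (h.simple_spec hj).2.2.2 i hi, if_pos rfl] at h1
  by_contra hne
  rw [if_neg (Ne.symm hne)] at h1
  exact zero_ne_one h1

lemma RootSym.rword {T : Tab} {ρ π : ℕ → ℕ} (hs : RootSym T ρ π) :
    ∀ {w : List ℕ}, WordOK T w → ∀ {D : ChevalleyDatum} {C : Tab.Cover}, Cert D T C →
      ∀ r < T.n, ρ (rword T w r) = rword T (w.map π) (ρ r) := by
  intro w
  induction w with
  | nil => intro _ D C _ r _; rfl
  | cons i w ih =>
    intro hw D C h r hr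
    rw [List.map_cons, rword_cons, rword_cons, hs.refl i hw.head _ (h.rword_lt hw.tail hr),
      ih hw.tail h r hr]

lemma RootSym.wordOK {T : Tab} {ρ π : ℕ → ℕ} (hs : RootSym T ρ π) {w : List ℕ} (hw : WordOK T w) :
    WordOK T (w.map π) := fun i hi => by
  obtain ⟨j, hj, rfl⟩ := List.mem_map.1 hi
  exact hs.pi_lt j (hw j hj)

/-- An endomorphism permuting the root subgroups. -/
structure Endo {D : ChevalleyDatum} {T : Tab} {C : Tab.Cover} (h : Cert D T C) (F : Type*)
    [Field F] where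
  /-- the endomorphism -/
  hom : ↥(D.group F) →* ↥(D.group F)
  /-- the map of the roots -/
  ρ : ℕ → ℕ
  /-- the map of the simple indices -/
  π : ℕ → ℕ
  /-- the maps of the parameters -/
  τ : ℕ → F → F
  sym : RootSym T ρ π
  inj : Function.Injective hom
  map_X : ∀ r < T.n, ∀ (t : F) (x : ↥(D.group F)), (x : GL D.Idx F) = X D r t →
    (hom x : GL D.Idx F) = X D (ρ r) (τ r t)
  neg_inv : ∀ r < T.n, ∀ t : F, t ≠ 0 → τ (T.neg r) (-t⁻¹) = -(τ r t)⁻¹
  mul : ∀ i < T.l, ∀ a b : F, τ (T.simple i) (a * b) = τ (T.simple i) a * τ (T.simple i) b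
  one : ∀ i < T.l, τ (T.simple i) 1 = 1

namespace Endo

open Cert (torusHom extC)

variable {D : ChevalleyDatum} {T : Tab} {C : Tab.Cover} {h : Cert D T C} {F : Type*} [Field F]
  (E : Endo h F)

open scoped Classical in
/-- The endomorphism as a function on matrices. -/
noncomputable def act (g : GL D.Idx F) : GL D.Idx F :=
  if hg : g ∈ D.group F then (E.hom ⟨g, hg⟩ : GL D.Idx F) else 1

lemma act_coe (x : ↥(D.group F)) : E.act x = E.hom x := dif_pos x.2

lemma act_mem {g : GL D.Idx F} (hg : g ∈ D.group F) : E.act g ∈ D.group F := by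
  rw [act, dif_pos hg]; exact (E.hom _).2

lemma act_one : E.act 1 = 1 := by
  rw [show (1 : GL D.Idx F) = ((1 : ↥(D.group F)) : GL D.Idx F) from rfl, act_coe, map_one]

lemma act_mul {a b : GL D.Idx F} (ha : a ∈ D.group F) (hb : b ∈ D.group F) :
    E.act (a * b) = E.act a * E.act b := by
  rw [act, act, act, dif_pos ha, dif_pos hb, dif_pos (mul_mem ha hb), ← Subgroup.coe_mul,
    ← map_mul]
  rfl

lemma act_inv {a : GL D.Idx F} (ha : a ∈ D.group F) : E.act a⁻¹ = (E.act a)⁻¹ := by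
  rw [act, act, dif_pos ha, dif_pos (inv_mem ha), ← Subgroup.coe_inv, ← map_inv]
  rfl

lemma act_injective {a b : GL D.Idx F} (ha : a ∈ D.group F) (hb : b ∈ D.group F)
    (e : E.act a = E.act b) : a = b := by
  rw [act, act, dif_pos ha, dif_pos hb] at e
  exact congrArg Subtype.val (E.inj (Subtype.ext e))

lemma act_X {r : ℕ} (hr : r < T.n) (t : F) : E.act (X D r t) = X D (E.ρ r) (E.τ r t) := by
  rw [act, dif_pos (h.X_mem_group hr t)]
  exact E.map_X r hr t _ rfl

lemma τ_add {r : ℕ} (hr : r < T.n) (a b : F) : E.τ r (a + b) = E.τ r a + E.τ r b := by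
  refine h.X_inj (E.sym.lt r hr) ?_
  rw [← h.X_add (E.sym.lt r hr), ← E.act_X hr, ← E.act_X hr, ← E.act_X hr, ← h.X_add hr,
    E.act_mul (h.X_mem_group hr a) (h.X_mem_group hr b)]

lemma τ_zero {r : ℕ} (hr : r < T.n) : E.τ r 0 = 0 := by
  simpa using E.τ_add hr 0 0

lemma τ_neg {r : ℕ} (hr : r < T.n) (a : F) : E.τ r (-a) = -E.τ r a := by
  refine eq_neg_of_add_eq_zero_left ?_
  rw [← E.τ_add hr, neg_add_cancel, E.τ_zero hr]

lemma τ_injective {r : ℕ} (hr : r < T.n) : Function.Injective (E.τ r) := fun a b e =>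
  h.X_inj hr (E.act_injective (h.X_mem_group hr a) (h.X_mem_group hr b)
    (by rw [E.act_X hr, E.act_X hr, e]))

lemma τ_ne_zero {r : ℕ} (hr : r < T.n) {t : F} (ht : t ≠ 0) : E.τ r t ≠ 0 := fun e =>
  ht (E.τ_injective hr (e.trans (E.τ_zero hr).symm))

/-- The fixed points. -/
noncomputable def fix : Subgroup (GL D.Idx F) :=
  (E.hom.eqLocus (MonoidHom.id _)).map (D.group F).subtype

lemma mem_fix {g : GL D.Idx F} : g ∈ E.fix ↔ g ∈ D.group F ∧ E.act g = g := by
  constructor
  · rintro ⟨x, hx, rfl⟩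
    exact ⟨x.2, by rw [Subgroup.coe_subtype, act_coe]; exact congrArg Subtype.val hx⟩
  · rintro ⟨hg, e⟩
    refine ⟨⟨g, hg⟩, Subtype.ext ?_, rfl⟩
    rw [← E.act_coe]; exact e

lemma fix_le_group : E.fix ≤ D.group F := fun _ hg => (E.mem_fix.1 hg).1

lemma act_of_fix {g : GL D.Idx F} (hg : g ∈ E.fix) : E.act g = g := (E.mem_fix.1 hg).2

lemma act_mem_gen {S S' : Set ℕ} (hS : ∀ r ∈ S, r < T.n) (hmap : ∀ r ∈ S, E.ρ r ∈ S')
    {g : GL D.Idx F} (hg : g ∈ gen D F S) : E.act g ∈ gen D F S' := by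
  have hle : gen D F S ≤ D.group F := h.gen_le_group hS
  induction hg using Subgroup.closure_induction with
  | mem g hg =>
    obtain ⟨r, hr, t, rfl⟩ := hg
    rw [E.act_X (hS r hr)]
    exact X_mem_gen D (hmap r hr) _
  | one => rw [act_one]; exact one_mem _
  | mul a b ha hb iha ihb => rw [E.act_mul (hle ha) (hle hb)]; exact mul_mem iha ihb
  | inv a ha iha => rw [E.act_inv (hle ha)]; exact inv_mem iha

lemma act_posUnipotent {g : GL D.Idx F} (hg : g ∈ D.posUnipotent F) :
    E.act g ∈ D.posUnipotent F := by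
  rw [h.posUnipotent_eq] at hg ⊢
  exact E.act_mem_gen (S' := posSet T) (fun r hr => hr.2)
    (fun r hr => ⟨(E.sym.pos r hr.2).2 hr.1, E.sym.lt r hr.2⟩) hg

lemma act_nU {r : ℕ} (hr : r < T.n) {t : F} (ht : t ≠ 0) :
    E.act (nU D r t) = nU D (E.ρ r) (E.τ r t) := by
  have hn := Cert.neg_lt (T := T) hr
  rw [nU, nU, h.neg_eq hr, h.neg_eq (E.sym.lt r hr),
    E.act_mul (mul_mem (h.X_mem_group hr t) (h.X_mem_group hn _)) (h.X_mem_group hr t),
    E.act_mul (h.X_mem_group hr t) (h.X_mem_group hn _), E.act_X hr, E.act_X hn, E.sym.neg r hr,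
    E.neg_inv r hr t ht]

lemma act_nS {i : ℕ} (hi : i < T.l) : E.act (nS D F i) = nS D F (E.π i) := by
  rw [nS, nS, h.simple_eq hi, h.simple_eq (E.sym.pi_lt i hi), E.act_nU (h.simple_lt hi) one_ne_zero,
    E.one i hi, E.sym.simple i hi]

lemma act_nW : ∀ {w : List ℕ}, WordOK T w → E.act (nW D F w) = nW D F (w.map E.π) := by
  intro w
  induction w with
  | nil => intro _; simpa [nW] using E.act_one
  | cons i w ih =>
    intro hw
    rw [List.map_cons, nW_cons, nW_cons, E.act_mul (h.monomial_le_group (h.nS_mem_monomial hw.head))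
      (h.monomial_le_group (h.nW_mem_monomial hw.tail)), E.act_nS hw.head, ih hw.tail]

lemma act_hU_simple {i : ℕ} (hi : i < T.l) {t : F} (ht : t ≠ 0) :
    E.act (hU D (T.simple i) t) = hU D (T.simple (E.π i)) (E.τ (T.simple i) t) := by
  have hr := h.simple_lt hi
  rw [hU, hU, E.act_mul (h.nU_mem_group hr t) (h.nU_mem_group hr _), E.act_nU hr ht,
    E.act_nU hr (neg_ne_zero.2 one_ne_zero), E.τ_neg hr, E.one i hi, E.sym.simple i hi]

/-- The action on the units at a simple index. -/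
noncomputable def τu (i : Fin T.l) : Fˣ →* Fˣ :=
  Units.map
    { toFun := E.τ (T.simple i)
      map_one' := E.one i i.2
      map_mul' := E.mul i i.2 }

lemma coe_τu (i : Fin T.l) (u : Fˣ) : (E.τu i u : F) = E.τ (T.simple i) u := rfl

/-- The permutation of the simple indices. -/
def πf (i : Fin T.l) : Fin T.l := ⟨E.π i, E.sym.pi_lt i i.2⟩

lemma πf_injective : Function.Injective E.πf := fun i j e =>
  Fin.ext (E.sym.pi_inj h i.2 j.2 (congrArg Fin.val e))

/-- The action on the parameters of the torus. -/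
noncomputable def tor : (Fin T.l → Fˣ) →* (Fin T.l → Fˣ) :=
  ∏ i, ((MonoidHom.mulSingle (fun _ => Fˣ) (E.πf i)).comp (E.τu i)).comp (Pi.evalMonoidHom _ i)

lemma tor_apply (c : Fin T.l → Fˣ) (i : Fin T.l) : E.tor c (E.πf i) = E.τu i (c i) := by
  rw [tor, MonoidHom.finsetProd_apply, Finset.prod_apply, Finset.prod_eq_single i]
  · simp
  · intro j _ hj
    simp only [MonoidHom.comp_apply, MonoidHom.mulSingle_apply]
    exact Pi.mulSingle_eq_of_ne (fun e => hj (E.πf_injective e).symm) _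
  · intro hi; exact absurd (Finset.mem_univ i) hi

include h in
lemma torusHom_mulSingle (i : Fin T.l) (u : Fˣ) :
    torusHom (D := D) (T := T) (Pi.mulSingle i u) = hU D (T.simple i) (u : F) := by
  refine Units.ext ?_
  show torus D (charOf T (extC T (Pi.mulSingle i u))) = _
  rw [h.hU_root (h.simple_lt i.2) u.ne_zero]
  refine torus_congr D fun s _ => Finset.prod_congr rfl fun k hk => ?_
  show _ = ((u : F) ^ T.cor (T.simple i) k) ^ T.car k s
  rw [(h.simple_spec i.2).2.2.2 k (Finset.mem_range.1 hk), extC, dif_pos (Finset.mem_range.1 hk)]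
  by_cases e : (i : ℕ) = k
  · subst e; simp
  · rw [if_neg e, Pi.mulSingle_eq_of_ne (fun e' => e (congrArg Fin.val e').symm)]; simp

lemma act_torusHom (c : Fin T.l → Fˣ) :
    E.act (torusHom (D := D) (T := T) c) = torusHom (E.tor c) := by
  have hmem : ∀ c, torusHom (D := D) (T := T) c ∈ D.group F := fun c =>
    h.diagonal_le_group (h.range_torusHom.le ⟨c, rfl⟩)
  let φ : (Fin T.l → Fˣ) →* GL D.Idx F :=
    { toFun := fun c => E.act (torusHom (D := D) (T := T) c)
      map_one' := by rw [map_one, act_one]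
      map_mul' := fun a b => by rw [map_mul, E.act_mul (hmem a) (hmem b)] }
  suffices key : ∀ i u, φ (Pi.mulSingle i u) = torusHom (E.tor (Pi.mulSingle i u)) by
    have hc : c ∈ φ.eqLocusM (torusHom.comp E.tor) := by
      rw [← Finset.univ_prod_mulSingle c]
      exact Submonoid.prod_mem _ fun i _ => key i (c i)
    exact hc
  intro i u
  show E.act (torusHom (D := D) (T := T) (Pi.mulSingle i u)) = torusHom (E.tor (Pi.mulSingle i u))
  have e : E.tor (Pi.mulSingle i u) = Pi.mulSingle (E.πf i) (E.τu i u) := by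
    funext k
    obtain ⟨j, rfl⟩ := (Finite.injective_iff_surjective.1 E.πf_injective) k
    rw [E.tor_apply]
    by_cases hj : j = i
    · subst hj; simp
    · rw [Pi.mulSingle_eq_of_ne hj, map_one, Pi.mulSingle_eq_of_ne (fun e => hj (E.πf_injective e))]
  rw [e, torusHom_mulSingle (h := h), E.act_hU_simple i.2 u.ne_zero, torusHom_mulSingle (h := h)]
  rfl

lemma act_diagonal {g : GL D.Idx F} (hg : g ∈ D.diagonalSubgroup F) :
    E.act g ∈ D.diagonalSubgroup F := by
  rw [← h.range_torusHom] at hg ⊢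
  obtain ⟨c, rfl⟩ := hg
  exact ⟨E.tor c, (E.act_torusHom c).symm⟩

lemma act_borel {g : GL D.Idx F} (hg : g ∈ D.borelSubgroup F) : E.act g ∈ D.borelSubgroup F := by
  obtain ⟨u, hu, t, ht, rfl⟩ := h.mem_borel_iff.1 hg
  rw [E.act_mul (h.posUnipotent_le_group hu) (h.diagonal_le_group ht)]
  exact mul_mem (Subgroup.mem_sup_left (E.act_posUnipotent hu))
    (Subgroup.mem_sup_right (E.act_diagonal ht))

lemma act_monomial {g : GL D.Idx F} (hg : g ∈ D.monomialSubgroup F) :
    E.act g ∈ D.monomialSubgroup F := by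
  obtain ⟨w, hw, t, ht, rfl⟩ := h.exists_word_of_monomial hg
  rw [E.act_mul (h.monomial_le_group (h.nW_mem_monomial hw)) (h.diagonal_le_group ht), E.act_nW hw]
  exact mul_mem (h.nW_mem_monomial (E.sym.wordOK hw))
    (Cert.diagonal_le_monomial (E.act_diagonal ht))

lemma Maps_act {g : GL D.Idx F} (hg : g ∈ D.monomialSubgroup F) {r s : ℕ} (hr : r < T.n)
    (hs : s < T.n) (hm : Maps D g r s) : Maps D (E.act g) (E.ρ r) (E.ρ s) := by
  obtain ⟨π', hπ, -⟩ := h.exists_perm (E.act_monomial hg)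
  obtain ⟨hlt, hM, -⟩ := hπ _ (E.sym.lt r hr)
  obtain ⟨c, hc, e⟩ := hm
  obtain ⟨c', hc', e'⟩ := hM
  have hgG := h.monomial_le_group hg
  have h1 := congrArg E.act (e 1)
  rw [E.act_mul (mul_mem hgG (h.X_mem_group hr 1)) (inv_mem hgG),
    E.act_mul hgG (h.X_mem_group hr 1), E.act_inv hgG, E.act_X hr, E.act_X hs, e'] at h1
  rw [← h.root_eq_of_X_eq hlt (E.sym.lt s hs) (mul_ne_zero hc' (E.τ_ne_zero hr one_ne_zero)) h1]
  exact ⟨c', hc', e'⟩

end Endo

end CfsgLib.Chev
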