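import Cfsg.Agent.Lib.Chev.TwistD4Layers
import Cfsg.Agent.Lib.Chev.TwistWord

/-!
Commutator identities in the unipotent group of `³D₄(q)`: generation by two layers and the centre
of the radical, and the special torus parameters.
-/

set_option autoImplicit false
set_option maxRecDepth 100000
set_option linter.unusedSectionVars false

open scoped commutatorElement

namespace CfsgLib.Chev.D4Root

open Cfsg.Lie Matrix

variable {K : Type*} [Field K] [Fintype K] {q : ℕ}

theorem chkBA : chkWordEq tabD4 0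
    [(14, 1), (18, 1), (13, 1), (12, 1), (14, -1), (12, -1), (13, -1), (18, -1)]
    [(19, 1), (16, -1), (15, -1), (17, -1), (20, 1), (21, 1), (22, 1), (23, -1)] = true := by
  decide +kernel

theorem chkBC : chkWordEq tabD4 0 [(14, 1), (22, 1), (14, -1), (22, -1)] [(23, 1)] = true := by
  decide +kernel

variable (f : K →+* K) (hf : ∀ t, f t = t ^ q) (hK : Fintype.card K = q ^ 3)
include hf hK

/-- The commutator of the two simple layers at the parameter one. -/
theorem comm_ba : ⁅el f q 1 (1 : K), el f q 0 1⁆ =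
    el f q 2 1 * el f q 3 (-1) * el f q 4 1 * el f q 5 (-1) := by
  have h := certD4.prod_eq_of_chk (F := K) chkBA
  have hp : ∀ k : Fin 6, Par q k (-1 : K) := fun k => par_neg f hf (par_one k)
  have hn : (-1 : K) ^ q = -1 := by rw [← hf, map_neg, map_one]
  have hi : ∀ r : ℕ, r < tabD4.n → ∀ t : K, X chevD4 r (-t) = (X chevD4 r t)⁻¹ :=
    fun r hr t => (certD4.X_inv hr t).symm
  refine Subtype.ext ?_
  simp only [commutatorElement_def, Subgroup.coe_mul, Subgroup.coe_inv,
    coe_el f hf hK (par_one _), coe_el f hf hK (hp _)]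
  simp only [ev, word, one_pow, hn, List.map_cons, List.map_nil, List.prod_cons, List.prod_nil,
    mul_one, Int.cast_one, Int.cast_neg] at h ⊢
  rw [hi 14 (by decide +kernel), hi 12 (by decide +kernel), hi 13 (by decide +kernel),
    hi 18 (by decide +kernel)] at h
  simp only [_root_.neg_neg, _root_.mul_inv_rev, mul_assoc] at h ⊢
  exact h

/-- The commutator of the fixed layer with its image at the parameter one. -/
theorem comm_bc : ⁅el f q 1 (1 : K), el f q 4 1⁆ = el f q 5 1 := by
  have h := certD4.prod_eq_of_chk (F := K) chkBC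
  refine Subtype.ext ?_
  simp only [commutatorElement_def, Subgroup.coe_mul, Subgroup.coe_inv,
    coe_el f hf hK (par_one _)]
  simp only [ev, word, List.map_cons, List.map_nil, List.prod_cons, List.prod_nil,
    mul_one, Int.cast_one, Int.cast_neg] at h ⊢
  rw [← certD4.X_inv (by decide +kernel), ← certD4.X_inv (by decide +kernel)] at h
  simp only [mul_assoc] at h ⊢
  exact h

omit hf in
/-- The exponent of the second long character is prime to the order of the group of units. -/
lemma coprime_exp (hq2 : 2 ≤ q) : (Nat.card Kˣ).Coprime (q ^ 2 + q - 1) := by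
  rw [Nat.card_units, Nat.card_eq_fintype_card, hK]
  obtain ⟨m, rfl⟩ : ∃ m, q = m + 1 := ⟨q - 1, by omega⟩
  set e := (m + 1) ^ 2 + (m + 1) - 1 with he
  have he' : e = m * (m + 3) + 1 := by rw [he]; ring_nf; omega
  have hM : (m + 1) ^ 3 - 1 = m * (e + 2) := by
    have : (m + 1) ^ 3 = m * (e + 2) + 1 := by rw [he']; ring
    omega
  have hodd : ¬ 2 ∣ e := by
    rw [he']
    intro hd
    rcases Nat.even_or_odd m with ⟨j, rfl⟩ | ⟨j, rfl⟩
    · have : 2 ∣ (j + j) * (j + j + 3) := ⟨j * (j + j + 3), by ring⟩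
      omega
    · have : 2 ∣ (2 * j + 1) * (2 * j + 1 + 3) := ⟨(2 * j + 1) * (j + 2), by ring⟩
      omega
  rw [hM]
  refine Nat.Coprime.mul_left ?_ ?_
  · rw [he']; simp
  · rw [Nat.coprime_self_add_left]
    exact Nat.coprime_two_left.2 (Nat.odd_iff.2 (Nat.two_dvd_ne_zero.1 hodd))

omit hf hK in
lemma chi_one_right {v : Kˣ} (k : Fin 6) : chi q k (v : K) ((1 : Kˣ) : K) =
    ([(v : K) ^ 2, 1 / (v * (v : K) ^ q * ((v : K) ^ q) ^ q),
      (((v : K) ^ q * ((v : K) ^ q) ^ q / v))⁻¹, (v : K) ^ q * ((v : K) ^ q) ^ q / v,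
      v * (v : K) ^ q * ((v : K) ^ q) ^ q, 1] : List K).getD k 0 := by
  fin_cases k <;> simp [chi]

omit hf in
/-- The long characters are onto. -/
lemma exists_chi (hq2 : 2 ≤ q) {k : Fin 6} (hk : k = 2 ∨ k = 3) {c : K} (hc : c ≠ 0) :
    ∃ v : Kˣ, chi q k (v : K) ((1 : Kˣ) : K) = c := by
  obtain ⟨c', hc'⟩ : ∃ c' : Kˣ, (c' : K) = if k = 2 then c⁻¹ else c :=
    ⟨Units.mk0 (if k = 2 then c⁻¹ else c) (by split <;> simp [hc]), rfl⟩
  obtain ⟨v, hv⟩ := (powCoprime (coprime_exp hK hq2)).surjective c'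
  refine ⟨v, ?_⟩
  have e : (v : K) ^ q * ((v : K) ^ q) ^ q / v = (c' : K) := by
    rw [← hv, powCoprime_apply, Units.val_pow_eq_pow_val, eq_comm, eq_div_iff v.ne_zero,
      ← pow_succ, ← pow_mul, ← pow_add]
    congr 1
    have : 1 ≤ q ^ 2 + q := le_add_left (by omega)
    rw [← sq]; omega
  rw [chi_one_right]
  rcases hk with rfl | rfl
  · show ((v : K) ^ q * ((v : K) ^ q) ^ q / v)⁻¹ = c
    rw [e, hc', if_pos rfl, inv_inv]
  · show (v : K) ^ q * ((v : K) ^ q) ^ q / v = c
    rw [e, hc', if_neg (by decide)]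

omit hf in
/-- The short characters are onto their fixed field. -/
lemma exists_chi_short {c : K} (hc : c ≠ 0) (hcq : c ^ q = c) :
    ∃ u : Kˣ, u ^ q = u ∧ chi q 5 ((1 : Kˣ) : K) (u : K) = c :=
  ⟨Units.mk0 c hc, Units.ext (by simpa using hcq), rfl⟩

variable (hq : IsPrimePow q)
include hq

/-- A subgroup stable under the torus containing one element of a layer up to deeper ones contains
the layer up to deeper ones. -/
lemma lay_le_of_one {M : Subgroup ↥(endoD4 f).fix}
    (hM : ∀ v u : Kˣ, u ^ q = u → ∀ m ∈ M, tel f q v u * m * (tel f q v u)⁻¹ ∈ M) {k : Fin 6}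
    (hk : k = 2 ∨ k = 3 ∨ k = 5) {c : K} (hc : Par q k c) (hc0 : c ≠ 0) (hcM : el f q k c ∈ M)
    (hdeep : lay f (k.val + 1) ≤ M) : lay f k.val ≤ M := by
  intro n hn
  obtain ⟨t, ht, htn⟩ := exists_coord f hf hK hq k hn
  have htM : el f q k t ∈ M := by
    by_cases ht0 : t = 0
    · rw [ht0, el_zero f hf hK]; exact one_mem _
    obtain ⟨v, u, hu, e⟩ : ∃ v u : Kˣ, u ^ q = u ∧ chi q k (v : K) (u : K) = t / c := by
      rcases hk with rfl | rfl | rfl
      · obtain ⟨v, e⟩ := exists_chi hK hq.two_le (k := 2) (Or.inl rfl) (div_ne_zero ht0 hc0)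
        exact ⟨v, 1, one_pow _, e⟩
      · obtain ⟨v, e⟩ := exists_chi hK hq.two_le (k := 3) (Or.inr rfl) (div_ne_zero ht0 hc0)
        exact ⟨v, 1, one_pow _, e⟩
      · obtain ⟨u, hu, e⟩ := exists_chi_short (q := q) hK (div_ne_zero ht0 hc0) (by
          rw [div_pow, ht rfl, hc rfl])
        exact ⟨1, u, hu, e⟩
    have h1 := hM v u hu _ hcM
    rwa [tel_conj f hf hK hu hc, e, div_mul_cancel₀ _ hc0] at h1
  have := mul_mem htM (hdeep htn)
  rwa [mul_inv_cancel_left] at this

end CfsgLib.Chev.D4Root
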