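import Cfsg.Agent.Lib.Chev.TwistD4Root
import Cfsg.Agent.Lib.Schur.ChainSplit

/-!
The unipotent group of `³D₄(q)` inside the group: layers, torus, and some commutator identities.
-/

set_option autoImplicit false
set_option maxRecDepth 100000
set_option linter.unusedSectionVars false

open scoped commutatorElement

namespace CfsgLib.Chev.D4Root

open Cfsg.Lie Matrix
open Cert (torusHom)

variable {K : Type*} [Field K] [Fintype K] {q : ℕ}
variable (f : K →+* K) (hf : ∀ t, f t = t ^ q)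

/-- The layers inside the group. -/
noncomputable def lay (k : ℕ) : Subgroup ↥(endoD4 f).fix :=
  (gen chevD4 K {r | r ∈ sfx k}).subgroupOf (endoD4 f).fix

/-- The torus inside the group. -/
noncomputable def tor' : Subgroup ↥(endoD4 f).fix :=
  (chevD4.diagonalSubgroup K).subgroupOf (endoD4 f).fix

open Classical in
/-- The element of parameter `t` of a layer. -/
noncomputable def el (q : ℕ) (k : Fin 6) (t : K) : ↥(endoD4 f).fix :=
  if h : ev q k t ∈ (endoD4 f).fix then ⟨ev q k t, h⟩ else 1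

open Classical in
/-- The torus element. -/
noncomputable def tel (q : ℕ) (v u : Kˣ) : ↥(endoD4 f).fix :=
  if h : th q v u ∈ (endoD4 f).fix then ⟨th q v u, h⟩ else 1

include hf
variable (hK : Fintype.card K = q ^ 3)
include hK

lemma coe_el {k : Fin 6} {t : K} (ht : Par q k t) :
    (el f q k t : GL chevD4.Idx K) = ev q k t := by
  rw [el, dif_pos (ev_mem_fix f hf (pow_cubeD4 hK) ht)]

lemma coe_tel {v u : Kˣ} (hu : u ^ q = u) : (tel f q v u : GL chevD4.Idx K) = th q v u := by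
  have h : th q v u ∈ (endoD4 f).fix := (th_mem f hf (pow_cubeD4 hK) hu).1
  rw [tel, dif_pos h]

omit hK in
lemma par_add {k : Fin 6} {a b : K} (ha : Par q k a) (hb : Par q k b) : Par q k (a + b) :=
  fun h => by rw [← hf, map_add, hf, hf, ha h, hb h]

omit hK in
lemma par_neg {k : Fin 6} {a : K} (ha : Par q k a) : Par q k (-a) := fun h => by
  rw [neg_pow_q f hf, ha h]

omit hK in
lemma par_zero (k : Fin 6) : Par q k (0 : K) := fun _ => by rw [← hf, map_zero]

omit hf hK in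
lemma par_one (k : Fin 6) : Par q k (1 : K) := fun _ => one_pow q

omit hf hK in
lemma size_eq_one {k : Fin 6} : (orb k).size = 1 ↔ k = 1 ∨ k = 4 ∨ k = 5 := by
  revert k; decide +kernel

omit hf in
lemma chi_par {v u : Kˣ} (hu : u ^ q = u) (k : Fin 6) : Par q k (chi q k (v : K) (u : K)) := by
  intro hk
  have hu' : (u : K) ^ q = u := by rw [← Units.val_pow_eq_pow_val, hu]
  have h3 := pow_cubeD4 hK
  rcases size_eq_one.1 hk with rfl | rfl | rfl
  · show ((u : K) ^ 2 / (v * (v : K) ^ q * ((v : K) ^ q) ^ q)) ^ q = _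
    rw [div_pow, mul_pow, mul_pow, h3, ← pow_mul, mul_comm 2, pow_mul, hu']
    show _ = (u : K) ^ 2 / (v * (v : K) ^ q * ((v : K) ^ q) ^ q)
    ring
  · show ((v : K) * (v : K) ^ q * ((v : K) ^ q) ^ q / u) ^ q = _
    rw [div_pow, mul_pow, mul_pow, h3, hu']
    show _ = (v : K) * (v : K) ^ q * ((v : K) ^ q) ^ q / u
    ring
  · exact hu'

omit hf hK in
lemma par_mul {k : Fin 6} {a b : K} (ha : Par q k a) (hb : Par q k b) : Par q k (a * b) :=
  fun h => by rw [mul_pow, ha h, hb h]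

lemma el_add {k : Fin 6} {a b : K} (ha : Par q k a) (hb : Par q k b) :
    el f q k (a + b) = el f q k a * el f q k b := by
  refine Subtype.ext ?_
  rw [Subgroup.coe_mul, coe_el f hf hK ha, coe_el f hf hK hb, coe_el f hf hK (par_add f hf ha hb),
    ev_add f hf]

lemma el_zero (k : Fin 6) : el f q k (0 : K) = 1 := by
  refine Subtype.ext ?_
  rw [coe_el f hf hK (par_zero f hf k), ev_zero f hf, OneMemClass.coe_one]

lemma el_neg {k : Fin 6} {a : K} (ha : Par q k a) : el f q k (-a) = (el f q k a)⁻¹ := by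
  refine eq_inv_of_mul_eq_one_left ?_
  rw [← el_add f hf hK (par_neg f hf ha) ha, neg_add_cancel, el_zero f hf hK]

lemma el_mem {k : Fin 6} {t : K} (ht : Par q k t) {j : ℕ} (hj : j ≤ k) :
    el f q k t ∈ lay f j := by
  rw [lay, Subgroup.mem_subgroupOf, coe_el f hf hK ht]
  exact ev_mem_sfx k t hj

lemma el_eq_zero {k : Fin 6} {t : K} (ht : Par q k t) (h : el f q k t ∈ lay f (k.val + 1)) :
    t = 0 := by
  rw [lay, Subgroup.mem_subgroupOf, coe_el f hf hK ht] at h
  exact ev_eq_zero f hf h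

omit hf hK in
lemma lay_anti {i j : ℕ} (hij : i ≤ j) : lay f j ≤ lay f i := by
  refine Subgroup.comap_mono (gen_mono _ fun r hr => ?_)
  obtain ⟨o, ho, hro⟩ := List.mem_flatMap.1 hr
  refine List.mem_flatMap.2 ⟨o, ?_, hro⟩
  have e : dataTwD4.L.drop j = (dataTwD4.L.drop i).drop (j - i) := by
    rw [List.drop_drop]; congr 1; omega
  exact List.mem_of_mem_drop (e ▸ ho)

omit hf hK in
lemma lay_six : lay f 6 = ⊥ := by
  rw [lay, show {r | r ∈ sfx 6} = (∅ : Set ℕ) from Set.eq_empty_iff_forall_notMem.2 fun r h => by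
    have e : sfx 6 = [] := rfl
    rw [Set.mem_ofPred_eq, e] at h; exact List.not_mem_nil h,
    show gen chevD4 K (∅ : Set ℕ) = ⊥ by simp [gen]]
  simp

omit hf hK in
lemma lay_conj {h n : ↥(endoD4 f).fix} (hh : h ∈ tor' f) {k : ℕ} (hn : n ∈ lay f k) :
    h * n * h⁻¹ ∈ lay f k := by
  rw [lay, Subgroup.mem_subgroupOf, Subgroup.coe_mul, Subgroup.coe_mul, Subgroup.coe_inv]
  refine (Subgroup.mem_normalizer_iff.1 (certD4.diagonal_le_normalizer_gen (F := K)
    (S := {r | r ∈ sfx k}) (fun r hr => ?_) (Subgroup.mem_subgroupOf.1 hh)) _).1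
    (Subgroup.mem_subgroupOf.1 hn)
  obtain ⟨o, ho, hro⟩ := List.mem_flatMap.1 hr
  exact ((Endo.layer_root_mem (T := tabD4) (ρ := twistD4a.rt) (L := dataTwD4.L)
    (by decide +kernel) (List.mem_of_mem_drop ho)).1 r hro).2

omit hf hK in
lemma lay_comm {i j k : ℕ}
    (hc : chkCommGen tabD4 (sfx i) (sfx j) (sfx k) = true) {g n : ↥(endoD4 f).fix}
    (hg : g ∈ lay f i) (hn : n ∈ lay f j) : ⁅g, n⁆ ∈ lay f k := by
  rw [lay, Subgroup.mem_subgroupOf]
  have h := certD4.commutator_mem_gen hc (Subgroup.mem_subgroupOf.1 hg)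
    (Subgroup.mem_subgroupOf.1 hn)
  simpa [commutatorElement_def] using h

omit hf hK in
theorem chkLayersComm : ([(0, 0, 2), (0, 2, 3), (0, 3, 4), (0, 4, 5), (0, 5, 6)] : List (ℕ × ℕ × ℕ)).all
    (fun p => chkCommGen tabD4 (sfx p.1) (sfx p.2.1) (sfx p.2.2)) = true := by
  decide +kernel

omit hf hK in
lemma commUN {j k : ℕ} (hjk : (0, j, k) ∈ ([(0, 0, 2), (0, 2, 3), (0, 3, 4), (0, 4, 5), (0, 5, 6)] :
    List (ℕ × ℕ × ℕ))) {g n : ↥(endoD4 f).fix} (hg : g ∈ lay f 0) (hn : n ∈ lay f j) :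
    ⁅g, n⁆ ∈ lay f k :=
  lay_comm f (List.all_eq_true.1 chkLayersComm _ hjk) hg hn

lemma tel_mem {v u : Kˣ} (hu : u ^ q = u) : tel f q v u ∈ tor' f := by
  rw [tor', Subgroup.mem_subgroupOf, coe_tel f hf hK hu]
  exact (th_mem f hf (pow_cubeD4 hK) hu).2

omit hK in
lemma tor_comm {a b : ↥(endoD4 f).fix} (ha : a ∈ tor' f) (hb : b ∈ tor' f) : a * b = b * a := by
  obtain ⟨c, hc⟩ := certD4.range_torusHom.ge (Subgroup.mem_subgroupOf.1 ha)
  obtain ⟨c', hc'⟩ := certD4.range_torusHom.ge (Subgroup.mem_subgroupOf.1 hb)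
  refine Subtype.ext ?_
  rw [Subgroup.coe_mul, Subgroup.coe_mul, ← hc, ← hc', ← map_mul, ← map_mul, mul_comm]

lemma tel_conj {v u : Kˣ} (hu : u ^ q = u) {k : Fin 6} {t : K} (ht : Par q k t) :
    tel f q v u * el f q k t * (tel f q v u)⁻¹ = el f q k (chi q k (v : K) (u : K) * t) := by
  refine Subtype.ext ?_
  rw [Subgroup.coe_mul, Subgroup.coe_mul, Subgroup.coe_inv, coe_tel f hf hK hu, coe_el f hf hK ht,
    coe_el f hf hK (par_mul (chi_par hK hu k) ht), th_conj f hf (pow_cubeD4 hK) hu]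

lemma tel_comm {v u : Kˣ} (hu : u ^ q = u) {k : Fin 6} {t : K} (ht : Par q k t) :
    ⁅tel f q v u, el f q k t⁆ = el f q k ((chi q k (v : K) (u : K) - 1) * t) := by
  rw [commutatorElement_def, tel_conj f hf hK hu ht, ← el_neg f hf hK ht,
    ← el_add f hf hK (par_mul (chi_par hK hu k) ht) (par_neg f hf ht)]
  ring_nf

/-- Every element moved by the torus is a commutator with it. -/
lemma exists_tel_comm {v u : Kˣ} (hu : u ^ q = u) {k : Fin 6}
    (hne : chi q k (v : K) (u : K) ≠ 1) {t : K} (ht : Par q k t) :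
    ∃ s, Par q k s ∧ ⁅tel f q v u, el f q k s⁆ = el f q k t := by
  have hd : Par q k (chi q k (v : K) (u : K) - 1) := by
    rw [sub_eq_add_neg]; exact par_add f hf (chi_par hK hu k) (par_neg f hf (par_one k))
  have hs : Par q k (t / (chi q k (v : K) (u : K) - 1)) := fun h => by
    rw [div_pow, ht h, hd h]
  exact ⟨_, hs, by rw [tel_comm f hf hK hu hs, mul_div_cancel₀ _ (sub_ne_zero.2 hne)]⟩

variable (hq : IsPrimePow q)
include hq

/-- The coordinate of an element of a layer. -/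
theorem exists_coord (k : Fin 6) {n : ↥(endoD4 f).fix} (hn : n ∈ lay f k.val) :
    ∃ t, Par q k t ∧ (el f q k t)⁻¹ * n ∈ lay f (k.val + 1) := by
  have h1 := fix_sfx_le f hf hK hq k (Subgroup.mem_inf.2 ⟨n.2, Subgroup.mem_subgroupOf.1 hn⟩)
  suffices ∀ g ∈ Subgroup.closure ({g | ∃ t, Par q k t ∧ g = ev q k t} ∪
      (((endoD4 f).fix ⊓ gen chevD4 K {r | r ∈ sfx (k.val + 1)} : Subgroup (GL chevD4.Idx K)) :
        Set (GL chevD4.Idx K))), ∃ hg : g ∈ (endoD4 f).fix,
      (⟨g, hg⟩ : ↥(endoD4 f).fix) ∈ lay f k.val ∧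
      ∃ t, Par q k t ∧ (el f q k t)⁻¹ * ⟨g, hg⟩ ∈ lay f (k.val + 1) from by
    obtain ⟨hg, -, t, ht, h2⟩ := this _ h1
    exact ⟨t, ht, h2⟩
  have hnorm : ∀ {g m : ↥(endoD4 f).fix}, g ∈ lay f k.val → m ∈ lay f (k.val + 1) →
      g * m * g⁻¹ ∈ lay f (k.val + 1) := by
    intro g m hg hm
    have hh : ∀ k : Fin 6, chkCommGen tabD4 (sfx k.val) (sfx (k.val + 1)) (sfx (k.val + 1)) = true := by
      decide +kernel
    have h3 := mul_mem (lay_comm f (hh k) hg hm) hm
    rwa [commutatorElement_def, inv_mul_cancel_right] at h3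
  intro g hg
  induction hg using Subgroup.closure_induction with
  | mem g hg =>
    rcases hg with ⟨t, ht, rfl⟩ | hg
    · refine ⟨ev_mem_fix f hf (pow_cubeD4 hK) ht, ?_, t, ht, ?_⟩
      · exact Subgroup.mem_subgroupOf.2 (ev_mem_sfx k t le_rfl)
      · rw [show (⟨ev q k t, ev_mem_fix f hf (pow_cubeD4 hK) ht⟩ : ↥(endoD4 f).fix) = el f q k t
          from Subtype.ext (coe_el f hf hK ht).symm, inv_mul_cancel]
        exact one_mem _
    · have hm : (⟨g, hg.1⟩ : ↥(endoD4 f).fix) ∈ lay f (k.val + 1) := Subgroup.mem_subgroupOf.2 hg.2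
      exact ⟨hg.1, lay_anti f (Nat.le_succ _) hm, 0, par_zero f hf k,
        by rwa [el_zero f hf hK, inv_one, one_mul]⟩
  | one => exact ⟨one_mem _, one_mem _, 0, par_zero f hf k, by
      rw [el_zero f hf hK, inv_one, one_mul]; exact one_mem _⟩
  | mul a b _ _ iha ihb =>
    obtain ⟨ha, ha', s, hs, hs'⟩ := iha
    obtain ⟨hb, hb', t, ht, ht'⟩ := ihb
    refine ⟨mul_mem ha hb, mul_mem (s := lay f k.val) ha' hb', s + t, par_add f hf hs ht, ?_⟩
    rw [el_add f hf hK hs ht]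
    have h3 := mul_mem (hnorm (inv_mem (el_mem f hf hK ht le_rfl)) hs') ht'
    rw [show (⟨a * b, mul_mem ha hb⟩ : ↥(endoD4 f).fix) = ⟨a, ha⟩ * ⟨b, hb⟩ from rfl]
    convert h3 using 1
    group
  | inv a _ iha =>
    obtain ⟨ha, ha', s, hs, hs'⟩ := iha
    refine ⟨inv_mem ha, inv_mem (x := (⟨a, ha⟩ : ↥(endoD4 f).fix)) ha', -s, par_neg f hf hs, ?_⟩
    rw [el_neg f hf hK hs, inv_inv]
    have h3 := hnorm (el_mem f hf hK hs le_rfl) (inv_mem hs')
    rw [show (⟨a⁻¹, inv_mem ha⟩ : ↥(endoD4 f).fix) = ⟨a, ha⟩⁻¹ from rfl]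
    convert h3 using 1
    group

end CfsgLib.Chev.D4Root
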