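import Cfsg.Agent.Lib.Chev.TwistD4Gen

/-!
The preimage of a Sylow subgroup of the defining characteristic of `³D₄(q)`, `q ≥ 3`, in a central
extension: its derived subgroup meets the kernel trivially.
-/

set_option autoImplicit false
set_option maxRecDepth 100000
set_option linter.unusedSectionVars false

open scoped commutatorElement

namespace CfsgLib.Chev.D4Root

open Cfsg.Lie Matrix
open CfsgLib.Schur

variable {K : Type*} [Field K] [Fintype K] {q : ℕ}
variable (f : K →+* K) (hf : ∀ t, f t = t ^ q) (hK : Fintype.card K = q ^ 3) (hq : IsPrimePow q)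
include hf hK hq

omit hf hq in
/-- A generator of the units and its norm. -/
lemma exists_units (hq3 : 3 ≤ q) :
    ∃ w z : Kˣ, z ^ q = z ∧ (z : K) = w * (w : K) ^ q * ((w : K) ^ q) ^ q ∧ (z : K) ≠ 1 ∧
      (w : K) ^ 2 ≠ 1 ∧ (w : K) ^ 4 ≠ 1 ∧ (w : K) ^ 2 / z ≠ 1 ∧ (w : K) ^ 4 / z ≠ 1 ∧
      (z : K) ^ 2 / (w : K) ^ 4 ≠ 1 := by
  obtain ⟨w, hw⟩ := IsCyclic.exists_ofOrder_eq_natCard (α := Kˣ)
  rw [Nat.card_units, Nat.card_eq_fintype_card, hK] at hw
  have h9 : 9 ≤ q * q := Nat.mul_le_mul hq3 hq3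
  have h3 : q ^ 3 = q * (q * q) := by ring
  have hbig : 3 * (q * q) ≤ q ^ 3 := h3 ▸ Nat.mul_le_mul_right _ hq3
  have hlin : 3 * q ≤ q * q := Nat.mul_le_mul_right _ hq3
  have hne : ∀ a b : ℕ, a < q ^ 3 - 1 → b < q ^ 3 - 1 → a ≠ b → (w : K) ^ a ≠ (w : K) ^ b := by
    intro a b ha hb hab e
    refine hab (pow_injOn_Iio_orderOf (x := w) ?_ ?_ (Units.ext (by simpa using e))) <;>
      rw [Set.mem_Iio, hw] <;> assumption
  refine ⟨w, w ^ (1 + q + q * q), ?_, ?_, ?_, ?_, ?_, ?_, ?_, ?_⟩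
  · refine Units.ext ?_
    simp only [Units.val_pow_eq_pow_val, ← pow_mul]
    rw [show (1 + q + q * q) * q = q + q * q + q * q * q by ring, pow_add, pow_add, pow_add,
      pow_add, pow_one, pow_mul (w : K) (q * q), pow_mul (w : K) q, pow_cubeD4 hK]
    ring
  · rw [Units.val_pow_eq_pow_val, pow_add, pow_add, pow_one, pow_mul]
  all_goals simp only [Units.val_pow_eq_pow_val, ← pow_mul, ne_eq,
    div_eq_one_iff_eq (pow_ne_zero _ w.ne_zero)]
  · simpa using hne (1 + q + q * q) 0 (by omega) (by omega) (by omega)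
  · simpa using hne 2 0 (by omega) (by omega) (by omega)
  · simpa using hne 4 0 (by omega) (by omega) (by omega)
  · exact hne _ _ (by omega) (by omega) (by omega)
  · exact hne _ _ (by omega) (by omega) (by omega)
  · intro e
    rw [show (1 + q + q * q) * 2 = 4 + (2 * q + 2 * (q * q) - 2) by
      obtain ⟨j, hj⟩ : ∃ j, 2 * q + 2 * (q * q) = j + 2 := ⟨2 * q + 2 * (q * q) - 2, by omega⟩
      rw [hj, Nat.add_sub_cancel]; linarith, pow_add, mul_eq_left₀ (pow_ne_zero _ w.ne_zero)] at e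
    exact hne (2 * q + 2 * (q * q) - 2) 0 (by omega) (by omega) (by omega) (by simpa using e)

/-- The generators of the unipotent group. -/
noncomputable def gens (q : ℕ) : Set ↥(endoD4 f).fix :=
  {g | ∃ k : Fin 6, (k = 0 ∨ k = 1 ∨ k = 4) ∧ ∃ t, Par q k t ∧ g = el f q k t}

/-- The torus moving the second layer fixes the third: `(z, z)` for `z` fixed. -/
lemma chi_zz {z : Kˣ} (hz : z ^ q = z) :
    chi q 2 (z : K) (z : K) = 1 ∧ chi q 3 (z : K) (z : K) = z := by
  have h : (z : K) ^ q = z := by rw [← Units.val_pow_eq_pow_val, hz]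
  have hz0 := z.ne_zero
  refine ⟨?_, ?_⟩ <;> simp [chi, h]

/-- The unipotent group is generated by three layers and its commutators, for `q ≥ 3`. -/
theorem gens_generate (hq3 : 3 ≤ q) :
    lay f 0 ≤ Subgroup.closure (gens f q ∪
      {x | ∃ a ∈ lay f 0, ∃ b ∈ lay f 0, x = ⁅a, b⁆}) := by
  set M := Subgroup.closure (gens f q ∪ {x | ∃ a ∈ lay f 0, ∃ b ∈ lay f 0, x = ⁅a, b⁆})
  have hel : ∀ k : Fin 6, (k = 0 ∨ k = 1 ∨ k = 4) → ∀ t, Par q k t → el f q k t ∈ M :=
    fun k hk t ht => Subgroup.subset_closure (Or.inl ⟨k, hk, t, ht, rfl⟩)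
  have hcom : ∀ a ∈ lay f 0, ∀ b ∈ lay f 0, ⁅a, b⁆ ∈ M :=
    fun a ha b hb => Subgroup.subset_closure (Or.inr ⟨a, ha, b, hb, rfl⟩)
  have hinv : ∀ v u : Kˣ, u ^ q = u → ∀ m ∈ M,
      tel f q v u * m * (tel f q v u)⁻¹ ∈ M := by
    intro v u hu m hm
    refine (Subgroup.closure_le (M.comap (MulAut.conj (tel f q v u)).toMonoidHom)).2 ?_ hm
    rintro _ (⟨k, hk, t, ht, rfl⟩ | ⟨a, ha, b, hb, rfl⟩) <;>
      simp only [Subgroup.coe_comap, Set.mem_preimage, MulEquiv.coe_toMonoidHom, MulAut.conj_apply,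
        SetLike.mem_coe]
    · rw [tel_conj f hf hK hu ht]; exact hel k hk _ (par_mul (chi_par hK hu k) ht)
    · rw [show tel f q v u * ⁅a, b⁆ * (tel f q v u)⁻¹ =
        ⁅tel f q v u * a * (tel f q v u)⁻¹, tel f q v u * b * (tel f q v u)⁻¹⁆ by
        simp only [commutatorElement_def]; group]
      exact hcom _ (lay_conj f (tel_mem f hf hK hu) ha) _ (lay_conj f (tel_mem f hf hK hu) hb)
  have hstep : ∀ k : Fin 6, (∀ t, Par q k t → el f q k t ∈ M) → lay f (k.val + 1) ≤ M →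
      lay f k.val ≤ M := by
    intro k hk hdeep n hn
    obtain ⟨t, ht, htn⟩ := exists_coord f hf hK hq k hn
    simpa using mul_mem (hk t ht) (hdeep htn)
  have h5 : lay f 5 ≤ M := by
    refine lay_le_of_one f hf hK hq hinv (k := 5) (by simp) (par_one 5) one_ne_zero ?_
      (by show lay f 6 ≤ M; rw [lay_six]; exact bot_le)
    rw [← comm_bc f hf hK]
    exact hcom _ (el_mem f hf hK (par_one _) (Nat.zero_le _)) _
      (el_mem f hf hK (par_one _) (Nat.zero_le _))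
  have h4 : lay f 4 ≤ M := hstep 4 (hel 4 (by simp)) h5
  set a := el f q 2 (1 : K) * el f q 3 (-1) with ha
  have hm1 : Par q 3 (-1 : K) := par_neg f hf (par_one 3)
  have haM : a ∈ M := by
    have h1 := hcom _ (el_mem f hf hK (par_one 1) (Nat.zero_le _)) _
      (el_mem f hf hK (par_one 0) (Nat.zero_le _))
    rw [comm_ba f hf hK] at h1
    have h2 := mul_mem (hel 4 (by simp) 1 (par_one 4))
      (h5 (el_mem f hf hK (par_neg f hf (par_one 5)) (le_refl _)))
    have h6 := mul_mem h1 (inv_mem h2)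
    rwa [mul_assoc (el f q 2 (1 : K) * el f q 3 (-1)), mul_inv_cancel_right] at h6
  obtain ⟨w, z, hz, hzw, hz1, -⟩ := exists_units hK hq3
  have haM' : el f q 2 (1 : K) * el f q 3 (-(z : K)) ∈ M := by
    have h1 := hinv z z hz a haM
    rw [ha, show tel f q z z * (el f q 2 (1 : K) * el f q 3 (-1)) * (tel f q z z)⁻¹ =
      (tel f q z z * el f q 2 1 * (tel f q z z)⁻¹) * (tel f q z z * el f q 3 (-1) * (tel f q z z)⁻¹)
      by group, tel_conj f hf hK hz (par_one 2), tel_conj f hf hK hz hm1,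
      (chi_zz f hf hK hq hz).1, (chi_zz f hf hK hq hz).2, one_mul, mul_neg, mul_one] at h1
    exact h1
  have hp : Par q 3 (z : K) := fun h => by rw [← Units.val_pow_eq_pow_val, hz]
  have h3 : lay f 3 ≤ M := by
    refine lay_le_of_one f hf hK hq hinv (k := 3) (by simp) (c := (z : K) + -1)
      (par_add f hf hp hm1) (fun e => hz1 (by linear_combination e)) ?_ h4
    rw [el_add f hf hK hp hm1]
    have h1 := mul_mem (inv_mem haM') haM
    have e : el f q 3 (-(z : K)) = (el f q 3 (z : K))⁻¹ := el_neg f hf hK hp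
    rw [ha, e, _root_.mul_inv_rev, inv_inv, mul_assoc, inv_mul_cancel_left] at h1
    exact h1
  have he2 : el f q 2 (1 : K) ∈ M := by
    have h1 := mul_mem haM (inv_mem (h3 (el_mem f hf hK hm1 (le_refl _))))
    rwa [ha, mul_inv_cancel_right] at h1
  have h2 : lay f 2 ≤ M :=
    lay_le_of_one f hf hK hq hinv (k := 2) (by simp) (par_one 2) one_ne_zero he2 h3
  exact hstep 0 (hel 0 (by simp)) (hstep 1 (hel 1 (by simp)) h2)

omit hf in
/-- The torus moves and fixes the layers as needed. -/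
lemma chi_table {w z : Kˣ} (hz : z ^ q = z)
    (hzw : (z : K) = w * (w : K) ^ q * ((w : K) ^ q) ^ q) :
    (chi q 0 (z : K) ((z ^ 2 : Kˣ) : K) = 1 ∧ chi q 1 (z : K) ((z ^ 2 : Kˣ) : K) = z ∧
      chi q 2 (z : K) ((z ^ 2 : Kˣ) : K) = z ∧ chi q 3 (z : K) ((z ^ 2 : Kˣ) : K) = z) ∧
    (chi q 0 (w : K) ((1 : Kˣ) : K) = (w : K) ^ 2 ∧ chi q 1 (w : K) ((1 : Kˣ) : K) = (z : K)⁻¹ ∧
      chi q 4 (w : K) ((1 : Kˣ) : K) = z ∧ chi q 5 (w : K) ((1 : Kˣ) : K) = 1) ∧
    (chi q 0 (w : K) (z : K) = (w : K) ^ 2 / z ∧ chi q 1 (w : K) (z : K) = z ∧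
      chi q 4 (w : K) (z : K) = 1 ∧ chi q 5 (w : K) (z : K) = z) ∧
    (chi q 0 ((w ^ 2 : Kˣ) : K) (z : K) = (w : K) ^ 4 / z ∧
      chi q 1 ((w ^ 2 : Kˣ) : K) (z : K) = 1 ∧
      chi q 2 ((w ^ 2 : Kˣ) : K) (z : K) = (w : K) ^ 4 / z ∧
      chi q 3 ((w ^ 2 : Kˣ) : K) (z : K) = (z : K) ^ 2 / (w : K) ^ 4) := by
  have hzq : (z : K) ^ q = z := by rw [← Units.val_pow_eq_pow_val, hz]
  have hz2 : ((z : K) ^ 2) ^ q = (z : K) ^ 2 := by rw [← pow_mul, mul_comm, pow_mul, hzq]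
  have hw := w.ne_zero
  have hwq : (w : K) ^ q ≠ 0 := pow_ne_zero _ hw
  have hwqq : ((w : K) ^ q) ^ q ≠ 0 := pow_ne_zero _ hwq
  have h2q : ((w : K) ^ 2) ^ q = ((w : K) ^ q) ^ 2 := by rw [← pow_mul, ← pow_mul, mul_comm]
  have h2qq : (((w : K) ^ q) ^ 2) ^ q = (((w : K) ^ q) ^ q) ^ 2 := by
    rw [← pow_mul ((w : K) ^ q), ← pow_mul ((w : K) ^ q), mul_comm]
  refine ⟨⟨?_, ?_, ?_, ?_⟩, ⟨?_, ?_, ?_, ?_⟩, ⟨?_, ?_, ?_, ?_⟩, ⟨?_, ?_, ?_, ?_⟩⟩ <;>
    simp only [chi, Units.val_pow_eq_pow_val, Units.val_one, h2q, h2qq, hzq,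
      List.getD_cons_zero, List.getD_cons_succ, Fin.val_zero, Fin.val_one,
      Fin.val_two] <;>
    (try simp only [show ((3 : Fin 6) : ℕ) = 3 from rfl,
      show ((4 : Fin 6) : ℕ) = 4 from rfl, show ((5 : Fin 6) : ℕ) = 5 from rfl,
      List.getD_cons_zero, List.getD_cons_succ]) <;>
    (try rw [hzw]) <;> field_simp

/-- The derived subgroup of the preimage meets the kernel trivially. -/
theorem sylow_lift_ge3 (hq3 : 3 ≤ q) {Γ : Type*} [Group Γ] (σ : Γ →* ↥(endoD4 f).fix)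
    (hσ : Function.Surjective σ) (hc : σ.ker ≤ Subgroup.center Γ) {x : Γ} (hx : x ∈ σ.ker)
    (hxd : x ∈ ⁅(lay f 0).comap σ, (lay f 0).comap σ⁆) : x = 1 := by
  classical
  obtain ⟨w, z, hz, hzw, hz1, hw2, hw4, hwz, hw4z, hzw4⟩ := exists_units hK hq3
  obtain ⟨⟨a0, a1, a2, a3⟩, ⟨b0, b1, b4, b5⟩, ⟨c0, c1, c4, c5⟩, ⟨d0, d1, d2, d3⟩⟩ :=
    chi_table hK hq hz hzw
  have hz2 : (z ^ 2) ^ q = z ^ 2 := by rw [← pow_mul, mul_comm, pow_mul, hz]
  have h1q : (1 : Kˣ) ^ q = 1 := one_pow q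
  have hA : Chain.Act (lay f 0) (tor' f) :=
    ⟨fun h hh u hu => lay_conj f hh hu, fun a ha b hb => tor_comm f hf ha hb⟩
  have hLay : ∀ j k : ℕ, j ≤ k →
      (0, j, k) ∈ ([(0, 0, 2), (0, 2, 3), (0, 3, 4), (0, 4, 5), (0, 5, 6)] : List (ℕ × ℕ × ℕ)) →
      Chain.Layer (lay f 0) (tor' f) (lay f j) (lay f k) := fun j k hjk hmem =>
    ⟨lay_anti f hjk, lay_anti f (Nat.zero_le j), fun h hh n hn => lay_conj f hh hn,
      fun h hh n hn => lay_conj f hh hn, fun g hg n hn => commUN f hmem hg hn⟩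
  have hgen := gens_generate f hf hK hq hq3
  have hgU : gens f q ⊆ (lay f 0 : Set ↥(endoD4 f).fix) := by
    rintro _ ⟨k, -, t, ht, rfl⟩; exact el_mem f hf hK ht (Nat.zero_le _)
  -- moved and fixed layers
  have deadL : ∀ {j' k' : ℕ} {M : Subgroup Γ}, Chain.Good σ (lay f 0) (tor' f) (lay f k') M →
      Chain.Layer (lay f 0) (tor' f) (lay f j') (lay f k') → ∀ v u : Kˣ, u ^ q = u →
      ∀ i k : Fin 6, j' ≤ k.val → chi q i (v : K) (u : K) = 1 → chi q k (v : K) (u : K) ≠ 1 →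
      ∀ s t, Par q i s → Par q k t → Chain.Dead σ M (el f q i s) (el f q k t) := by
    intro j' k' M hG hL v u hu i k hjk h1 hne s t hs ht
    obtain ⟨r, hr, e⟩ := exists_tel_comm f hf hK hu hne ht
    rw [← e]
    refine Chain.dead_of_fix_left hc hA hL hG hσ (tel_mem f hf hK hu)
      (el_mem f hf hK hs (Nat.zero_le _)) (el_mem f hf hK hr hjk) ?_
    rw [tel_conj f hf hK hu hs, h1, one_mul]
  have deadR : ∀ {j' k' : ℕ} {M : Subgroup Γ}, Chain.Good σ (lay f 0) (tor' f) (lay f k') M →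
      Chain.Layer (lay f 0) (tor' f) (lay f j') (lay f k') → ∀ v u : Kˣ, u ^ q = u →
      ∀ i k : Fin 6, j' ≤ k.val → chi q k (v : K) (u : K) = 1 → chi q i (v : K) (u : K) ≠ 1 →
      ∀ s t, Par q i s → Par q k t → Chain.Dead σ M (el f q i s) (el f q k t) := by
    intro j' k' M hG hL v u hu i k hjk h1 hne s t hs ht
    obtain ⟨r, hr, e⟩ := exists_tel_comm f hf hK hu hne hs
    rw [← e]
    refine Chain.dead_of_fix_right hc hA hL hG hσ (tel_mem f hf hK hu)
      (el_mem f hf hK hr (Nat.zero_le _)) (el_mem f hf hK ht hjk) ?_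
    rw [tel_comm f hf hK hu ht, h1, sub_self, zero_mul, el_zero f hf hK]
    exact one_mem _
  -- a step up
  have step : ∀ k : Fin 6, ∀ {M : Subgroup Γ}, Chain.Good σ (lay f 0) (tor' f) (lay f (k.val + 1)) M →
      Chain.Layer (lay f 0) (tor' f) (lay f k.val) (lay f (k.val + 1)) →
      (∀ i : Fin 6, (i = 0 ∨ i = 1 ∨ i = 4) → ∀ s t, Par q i s → Par q k t →
        Chain.Dead σ M (el f q i s) (el f q k t)) →
      ∀ v u : Kˣ, u ^ q = u → chi q k (v : K) (u : K) ≠ 1 →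
      ∃ M', Chain.Good σ (lay f 0) (tor' f) (lay f k.val) M' := by
    intro k M hG hL hkill v u hu hne
    have hd := Chain.dead_of_gens hc hA hL hG hσ hgen hgU
      (T := {g | ∃ t, Par q k t ∧ g = el f q k t})
      (fun n hn => by
        obtain ⟨t, ht, htn⟩ := exists_coord f hf hK hq k hn
        have := mul_mem (Subgroup.subset_closure (Or.inl ⟨t, ht, rfl⟩) :
          el f q k t ∈ Subgroup.closure ({g | ∃ t, Par q k t ∧ g = el f q k t} ∪
            (lay f (k.val + 1) : Set ↥(endoD4 f).fix))) (Subgroup.subset_closure (Or.inr htn))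
        rwa [mul_inv_cancel_left] at this)
      (by rintro _ ⟨t, ht, rfl⟩; exact el_mem f hf hK ht le_rfl)
      (by rintro _ ⟨i, hi, s, hs, rfl⟩ _ ⟨t, ht, rfl⟩; exact hkill i hi s t hs ht)
    refine Chain.Good.step hc hA hL hG hσ hd (tel_mem f hf hK (v := v) hu)
      (fun n hn hcn => ?_) fun n hn => ?_
    · obtain ⟨t, ht, htn⟩ := exists_coord f hf hK hq k hn
      have h1 := hL.commUN (el f q k t) (el_mem f hf hK ht (Nat.zero_le _))
      set m := (el f q k t)⁻¹ * n with hm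
      have hmc : ⁅tel f q v u, m⁆ ∈ lay f (k.val + 1) := by
        rw [commutatorElement_def]
        exact mul_mem (lay_conj f (tel_mem f hf hK hu) htn) (inv_mem htn)
      have h2 : ⁅tel f q v u, el f q k t⁆ ∈ lay f (k.val + 1) := by
        have e : ⁅tel f q v u, n⁆ = ⁅tel f q v u, el f q k t⁆ *
            (⁅el f q k t, ⁅tel f q v u, m⁆⁆ * ⁅tel f q v u, m⁆) := by
          rw [show n = el f q k t * m by rw [hm, mul_inv_cancel_left]]
          simp only [commutatorElement_def]; group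
        rw [e] at hcn
        exact (Subgroup.mul_mem_cancel_right _
          (mul_mem (h1 _ (hL.le hmc)) hmc)).1 hcn
      rw [tel_comm f hf hK hu ht] at h2
      have hp : Par q k ((chi q k (v : K) (u : K) - 1) * t) := par_mul (by
        rw [sub_eq_add_neg]; exact par_add f hf (chi_par hK hu k) (par_neg f hf (par_one k))) ht
      have h3 := el_eq_zero f hf hK hp h2
      rcases mul_eq_zero.1 h3 with h4 | h4
      · exact absurd (sub_eq_zero.1 h4) hne
      · rw [hm, h4, el_zero f hf hK, inv_one, one_mul] at htn; exact htn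
    · obtain ⟨t, ht, htn⟩ := exists_coord f hf hK hq k hn
      obtain ⟨r, hr, e⟩ := exists_tel_comm f hf hK hu hne ht
      exact ⟨_, el_mem f hf hK hr le_rfl, by rw [e]; exact htn⟩
  have leftbot : ∀ {j' k' : ℕ} {M : Subgroup Γ}, Chain.Good σ (lay f 0) (tor' f) (lay f k') M →
      Chain.Layer (lay f 0) (tor' f) (lay f j') (lay f k') → k' ≤ 4 → ∀ k : Fin 6, j' ≤ k.val →
      ∀ s t, Par q 4 s → Par q k t → Chain.Dead σ M (el f q 4 s) (el f q k t) :=
    fun hG hL hk' k hjk s t hs ht => Chain.dead_of_left_bot hc hA hL hG hσ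
      (el_mem f hf hK hs hk') (el_mem f hf hK ht hjk)
  -- commuting lifts of a layer moved down by a representative
  have commLift : ∀ {j' k' : ℕ} {M : Subgroup Γ}, Chain.Good σ (lay f 0) (tor' f) (lay f k') M →
      Chain.Layer (lay f 0) (tor' f) (lay f j') (lay f k') → ∀ i : Fin 6, j' ≤ i.val →
      ∀ c ∈ dataTwD4.CL, (∀ r ∈ (orb i).list twistD4a.rt, rword tabD4 c.word r ∈ sfx k') →
      ∀ s t, Par q i s → Par q i t → Chain.Dead σ M (el f q i s) (el f q i t) := by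
    intro j' k' M hG hL i hji c hc' hmove s t hs ht
    obtain ⟨m, -, hmf, -, hmM⟩ := (std_fixD4 f hf hK hq).reps c hc'
    have hmove' : ∀ r, Par q i r → (⟨m, hmf⟩ : ↥(endoD4 f).fix) * el f q i r *
        (⟨m, hmf⟩ : ↥(endoD4 f).fix)⁻¹ ∈ lay f k' := by
      intro r hr
      rw [lay, Subgroup.mem_subgroupOf]
      simp only [Subgroup.coe_mul, Subgroup.coe_inv, coe_el f hf hK hr]
      refine Cert.conj_gen_le (S := {a | a ∈ (orb i).list twistD4a.rt}) (fun a ha => ?_)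
        (ev_mem_gen i r fun a ha => ha)
      exact ⟨_, hmove a ha, hmM a ((Endo.layer_root_mem (T := tabD4) (ρ := twistD4a.rt)
        (L := dataTwD4.L) (by decide +kernel) (orb_mem i)).1 a ha).2⟩
    obtain ⟨m', hm'⟩ := hσ ⟨m, hmf⟩
    obtain ⟨s', hs'⟩ := hσ (el f q i s)
    obtain ⟨t', ht'⟩ := hσ (el f q i t)
    refine Chain.dead_of_commute hc hA hL hG hσ hs' ht'
      (Chain.commute_of_conj (m := m') hc hG (lay_anti f (Nat.zero_le _)) ?_ ?_ ?_)
    · rw [hs', ht', ← el_add f hf hK hs ht, ← el_add f hf hK ht hs, add_comm]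
    · rw [map_mul, map_mul, map_inv, hm', hs']; exact hmove' s hs
    · rw [map_mul, map_mul, map_inv, hm', ht']; exact hmove' t ht
  -- the chain
  have g6 : Chain.Good σ (lay f 0) (tor' f) (lay f 6) ⊥ := by rw [lay_six]; exact Chain.good_bot hc
  obtain ⟨M5, g5⟩ := step 5 g6 (hLay 5 6 (by omega) (by decide)) (fun i hi s t hs ht => by
      refine deadR g6 (hLay 5 6 (by omega) (by decide)) w 1 h1q i 5 le_rfl b5 ?_ s t hs ht
      rcases hi with rfl | rfl | rfl
      · rw [b0]; exact hw2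
      · rw [b1]; exact fun e => hz1 (inv_eq_one.1 e)
      · rw [b4]; exact hz1)
    w z hz (by rw [c5]; exact hz1)
  obtain ⟨M4, g4⟩ := step 4 g5 (hLay 4 5 (by omega) (by decide)) (fun i hi s t hs ht => by
      rcases hi with rfl | rfl | rfl
      · exact deadR g5 (hLay 4 5 (by omega) (by decide)) w z hz 0 4 le_rfl c4
          (by rw [c0]; exact hwz) s t hs ht
      · exact deadR g5 (hLay 4 5 (by omega) (by decide)) w z hz 1 4 le_rfl c4
          (by rw [c1]; exact hz1) s t hs ht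
      · exact commLift g5 (hLay 4 5 (by omega) (by decide)) 4 le_rfl ⟨[1], [1]⟩ (by simp [dataTwD4])
          (by decide +kernel) s t hs ht)
    w 1 h1q (by rw [b4]; exact hz1)
  obtain ⟨M3, g3⟩ := step 3 g4 (hLay 3 4 (by omega) (by decide)) (fun i hi s t hs ht => by
      rcases hi with rfl | rfl | rfl
      · exact deadL g4 (hLay 3 4 (by omega) (by decide)) z (z ^ 2) hz2 0 3 le_rfl a0
          (by rw [a3]; exact hz1) s t hs ht
      · exact deadL g4 (hLay 3 4 (by omega) (by decide)) (w ^ 2) z hz 1 3 le_rfl d1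
          (by rw [d3]; exact hzw4) s t hs ht
      · exact leftbot g4 (hLay 3 4 (by omega) (by decide)) le_rfl 3 le_rfl s t hs ht)
    z (z ^ 2) hz2 (by rw [a3]; exact hz1)
  obtain ⟨M2, g2⟩ := step 2 g3 (hLay 2 3 (by omega) (by decide)) (fun i hi s t hs ht => by
      rcases hi with rfl | rfl | rfl
      · exact deadL g3 (hLay 2 3 (by omega) (by decide)) z (z ^ 2) hz2 0 2 le_rfl a0
          (by rw [a2]; exact hz1) s t hs ht
      · exact deadL g3 (hLay 2 3 (by omega) (by decide)) (w ^ 2) z hz 1 2 le_rfl d1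
          (by rw [d2]; exact hw4z) s t hs ht
      · exact leftbot g3 (hLay 2 3 (by omega) (by decide)) (by norm_num) 2 le_rfl s t hs ht)
    z (z ^ 2) hz2 (by rw [a2]; exact hz1)
  -- the top
  have hL0 := hLay 0 2 (by omega) (by decide)
  refine Chain.top_inf_ker hc hA hL0 g2 hσ rfl ?_ hx hxd
  refine Chain.dead_of_gens hc hA hL0 g2 hσ hgen hgU (T := gens f q) ?_ hgU ?_
  · intro n hn
    have he : ∀ k : Fin 6, (k = 0 ∨ k = 1) → ∀ t, Par q k t → el f q k t ∈
        Subgroup.closure (gens f q ∪ (lay f 2 : Set ↥(endoD4 f).fix)) := fun k hk t ht =>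
      Subgroup.subset_closure (Or.inl ⟨k, hk.imp_right Or.inl, t, ht, rfl⟩)
    obtain ⟨t, ht, htn⟩ := exists_coord f hf hK hq 0 hn
    obtain ⟨s, hs, hsn⟩ := exists_coord f hf hK hq 1 htn
    have := mul_mem (he 0 (by simp) t ht) (mul_mem (he 1 (by simp) s hs)
      (Subgroup.subset_closure (Or.inr hsn)))
    rwa [mul_inv_cancel_left, mul_inv_cancel_left] at this
  rintro _ ⟨i, hi, s, hs, rfl⟩ _ ⟨k, hk, t, ht, rfl⟩
  rcases hk with rfl | rfl | rfl
  rotate_left 2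
  · exact Chain.dead_of_mem_bot hc hA hL0 g2 hσ (el_mem f hf hK hs (Nat.zero_le _))
      (el_mem f hf hK ht (show 2 ≤ 4 by norm_num))
  all_goals rcases hi with rfl | rfl | rfl
  · exact commLift g2 hL0 0 le_rfl ⟨[1], [1]⟩ (by simp [dataTwD4]) (by decide +kernel) s t hs ht
  · exact deadL g2 hL0 (w ^ 2) z hz 1 0 le_rfl d1 (by rw [d0]; exact hw4z) s t hs ht
  · exact leftbot g2 hL0 (by norm_num) 0 le_rfl s t hs ht
  · exact deadL g2 hL0 z (z ^ 2) hz2 0 1 (Nat.zero_le _) a0 (by rw [a1]; exact hz1) s t hs ht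
  · exact commLift g2 hL0 1 (Nat.zero_le _) ⟨[0, 2, 3], [0, 2, 3]⟩ (by simp [dataTwD4])
      (by decide +kernel) s t hs ht
  · exact leftbot g2 hL0 (by norm_num) 1 (Nat.zero_le _) s t hs ht

end CfsgLib.Chev.D4Root
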