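import Cfsg.Agent.Lib.Chev.TwistD4Gen
import Cfsg.Agent.Lib.Schur.ParabolicTwo

/-!
The group `³D₄(2)`: the derived subgroup of the preimage of a Sylow 2-subgroup in a central
extension meets the kernel trivially.
-/

set_option autoImplicit false
set_option maxRecDepth 100000
set_option linter.unusedSectionVars false

open scoped commutatorElement

namespace CfsgLib.Chev.D4Root

open Cfsg.Lie Matrix
open CfsgLib.Schur
open Cert (torusHom)

variable {K : Type*} [Field K] [Fintype K]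
variable (f : K →+* K) (hf : ∀ t, f t = t ^ 2) (hK : Fintype.card K = 2 ^ 3)
include hf

omit hf in
theorem chkTwoComm : ([(0, 1, 1), (1, 1, 5), (2, 2, 5), (0, 5, 6)] : List (ℕ × ℕ × ℕ)).all
    (fun p => chkCommGen tabD4 (sfx p.1) (sfx p.2.1) (sfx p.2.2)) = true := by
  decide +kernel

omit hf in
lemma twoComm {i j k : ℕ}
    (h : (i, j, k) ∈ ([(0, 1, 1), (1, 1, 5), (2, 2, 5), (0, 5, 6)] : List (ℕ × ℕ × ℕ)))
    {g n : ↥(endoD4 f).fix} (hg : g ∈ lay f i) (hn : n ∈ lay f j) : ⁅g, n⁆ ∈ lay f k :=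
  lay_comm f (List.all_eq_true.1 chkTwoComm _ h) hg hn

lemma add_self_two (x : K) : x + x = 0 := by
  have h : (1 + 1 : K) ^ 2 = 1 + 1 := by rw [← hf, map_add, map_one]
  linear_combination x * h

lemma par_two {k : Fin 6} (hk : k = 1 ∨ k = 4 ∨ k = 5) {t : K} (ht : Par 2 k t) :
    t = 0 ∨ t = 1 := by
  have h := ht (size_eq_one.2 hk)
  rcases eq_or_ne t 0 with h0 | h0
  · exact Or.inl h0
  · refine Or.inr (mul_left_cancel₀ h0 ?_)
    rw [mul_one, ← sq]; exact h

include hK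

lemma hq2 : IsPrimePow 2 := Nat.prime_two.isPrimePow

lemma el_sq {k : Fin 6} {t : K} (ht : Par 2 k t) : el f 2 k t * el f 2 k t = 1 := by
  rw [← el_add f hf hK ht ht, add_self_two f hf, el_zero f hf hK]

lemma el_one_ne (k : Fin 6) : el f 2 k (1 : K) ∉ lay f (k.val + 1) := fun h =>
  one_ne_zero (el_eq_zero f hf hK (par_one k) h)

/-- The deepest layer has two elements. -/
lemma mem_lay5 {x : ↥(endoD4 f).fix} (hx : x ∈ lay f 5) : x = 1 ∨ x = el f 2 5 1 := by
  obtain ⟨t, ht, h⟩ := exists_coord f hf hK (hq2 f hf hK) 5 hx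
  rw [show ((5 : Fin 6) : ℕ) + 1 = 6 from rfl, lay_six, Subgroup.mem_bot, inv_mul_eq_one] at h
  rcases par_two f hf (by simp) ht with rfl | rfl
  · exact Or.inl (by rw [← h, el_zero f hf hK])
  · exact Or.inr h.symm

lemma norm_one (v : Kˣ) : (v : K) * (v : K) ^ 2 * ((v : K) ^ 2) ^ 2 = 1 := by
  classical
  have h : (v : K) ^ 7 = 1 := by
    rw [← Units.val_pow_eq_pow_val, show (7 : ℕ) = Fintype.card Kˣ by
      rw [Fintype.card_units, hK]; rfl, pow_card_eq_one, Units.val_one]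
  rw [← h]; ring

lemma chi_four (v : Kˣ) : chi 2 4 (v : K) ((1 : Kˣ) : K) = 1 := by
  rw [chi_one_right]; exact norm_one f hf hK v

lemma chi_two_three (v : Kˣ) : chi 2 2 (v : K) ((1 : Kˣ) : K) =
    (chi 2 3 (v : K) ((1 : Kˣ) : K))⁻¹ := by
  rw [chi_one_right, chi_one_right]; rfl

/-- A torus-stable subgroup with the commutator of the simple layers contains the radical part. -/
theorem lay_two_le {M : Subgroup ↥(endoD4 f).fix}
    (hM : ∀ v : Kˣ, ∀ m ∈ M, tel f 2 v 1 * m * (tel f 2 v 1)⁻¹ ∈ M)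
    (hc : el f 2 5 (1 : K) ∈ M) (hr : ⁅el f 2 1 (1 : K), el f 2 0 1⁆ ∈ M) : lay f 2 ≤ M := by
  have hq := hq2 f hf hK
  have h5 : lay f 5 ≤ M := fun x hx => by
    rcases mem_lay5 f hf hK hx with rfl | rfl
    exacts [one_mem _, hc]
  have hp23 : ∀ (k : Fin 6), (k = 2 ∨ k = 3) → ∀ t : K, Par 2 k t := fun k hk t h => by
    rcases hk with rfl | rfl <;> rcases size_eq_one.1 h with e | e | e <;> exact absurd e (by decide)
  let Φ : K → K → K → ↥(endoD4 f).fix := fun x y s => el f 2 2 x * el f 2 3 y * el f 2 4 s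
  have hΦ : ∀ x y s, Par 2 4 s → Φ x y s ∈ lay f 2 := fun x y s hs =>
    mul_mem (mul_mem (el_mem f hf hK (hp23 2 (by simp) x) le_rfl)
      (el_mem f hf hK (hp23 3 (by simp) y) (by decide)))
      (el_mem f hf hK hs (by decide))
  have hswap : ∀ g m n : ↥(endoD4 f).fix, g ∈ lay f 2 → m ∈ lay f 2 → n ∈ lay f 2 →
      (g * m * n ∈ M ↔ g * n * m ∈ M) := by
    intro g m n hg hm hn
    have h1 := h5 (twoComm f (i := 2) (j := 2) (k := 5) (by decide) hm hn)
    have h2 := h5 (twoComm f (i := 2) (j := 2) (k := 5) (by decide) hg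
      (twoComm f (i := 2) (j := 2) (k := 5) (by decide) hm hn |> lay_anti f (by norm_num : 2 ≤ 5)))
    have e : g * m * n = ⁅g, ⁅m, n⁆⁆ * ⁅m, n⁆ * (g * n * m) := by
      simp only [commutatorElement_def]; group
    rw [e, Subgroup.mul_mem_cancel_left _ (mul_mem h2 h1)]
  have hadd : ∀ x y s x' y' s', Par 2 4 s → Par 2 4 s' → Φ x y s ∈ M → Φ x' y' s' ∈ M →
      Φ (x + x') (y + y') (s + s') ∈ M := by
    intro x y s x' y' s' hs hs' h1 h2
    have p2 := hp23 2 (Or.inl rfl)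
    have p3 := hp23 3 (Or.inr rfl)
    have m2 := fun t => el_mem f hf hK (p2 t) (le_refl 2)
    have m3 := fun t => el_mem f hf hK (p3 t) (show 2 ≤ 3 by norm_num)
    have m4 := fun t ht => el_mem f hf hK (k := 4) (t := t) ht (show 2 ≤ 4 by norm_num)
    have h := mul_mem h1 h2
    simp only [Φ] at h ⊢
    rw [el_add f hf hK (p2 x) (p2 x'), el_add f hf hK (p3 y) (p3 y'), el_add f hf hK hs hs']
    have hconj : ∀ g m n k : ↥(endoD4 f).fix, g ∈ lay f 2 → m ∈ lay f 2 → n ∈ lay f 2 →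
        g * m * n * k ∈ M → g * n * m * k ∈ M := by
      intro g m n k hg hm hn hk
      have e : g * m * n * k = ⁅g, ⁅m, n⁆⁆ * ⁅m, n⁆ * (g * n * m * k) := by
        simp only [commutatorElement_def]; group
      have h1 := twoComm f (i := 2) (j := 2) (k := 5) (by decide) hm hn
      have h2 := twoComm f (i := 2) (j := 2) (k := 5) (by decide) hg
        (lay_anti f (by norm_num : 2 ≤ 5) h1)
      rwa [e, Subgroup.mul_mem_cancel_left _ (mul_mem (h5 h2) (h5 h1))] at hk
    have mA := m2 x; have mA' := m2 x'; have mB := m3 y; have mB' := m3 y'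
    have mC := m4 s hs
    generalize el f 2 2 x = A, el f 2 2 x' = A', el f 2 3 y = B, el f 2 3 y' = B',
      el f 2 4 s = C, el f 2 4 s' = C' at h mA mA' mB mB' mC ⊢
    have s1 : A * B * C * A' * (B' * C') ∈ M := by simpa only [mul_assoc] using h
    have s2 := hconj (A * B) C A' (B' * C') (mul_mem mA mB) mC mA' s1
    have s3 := hconj A B A' (C * (B' * C')) mA mB mA' (by simpa only [mul_assoc] using s2)
    have s4 := hconj (A * A' * B) C B' C' (mul_mem (mul_mem mA mA') mB) mC mB'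
      (by simpa only [mul_assoc] using s3)
    simpa only [mul_assoc] using s4
  -- the orbit of the commutator
  have hone : (1 : K) = -1 := eq_neg_of_add_eq_zero_left (add_self_two f hf 1)
  have h0 : Φ 1 1 1 ∈ M := by
    have h1 := hr
    rw [comm_ba f hf hK, ← hone] at h1
    exact (Subgroup.mul_mem_cancel_right _ hc).1 h1
  have hscale : ∀ v : Kˣ, ∀ x y s, Par 2 4 s → Φ x y s ∈ M →
      Φ (chi 2 2 (v : K) ((1 : Kˣ) : K) * x) (chi 2 3 (v : K) ((1 : Kˣ) : K) * y) s ∈ M := by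
    intro v x y s hs h
    have h1 := hM v _ h
    simp only [Φ] at h1 ⊢
    rw [show tel f 2 v 1 * (el f 2 2 x * el f 2 3 y * el f 2 4 s) * (tel f 2 v 1)⁻¹ =
      (tel f 2 v 1 * el f 2 2 x * (tel f 2 v 1)⁻¹) * (tel f 2 v 1 * el f 2 3 y * (tel f 2 v 1)⁻¹) *
        (tel f 2 v 1 * el f 2 4 s * (tel f 2 v 1)⁻¹) by group,
      tel_conj f hf hK (one_pow _) (hp23 2 (by simp) x),
      tel_conj f hf hK (one_pow _) (hp23 3 (by simp) y),
      tel_conj f hf hK (one_pow _) hs, chi_four f hf hK, one_mul] at h1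
    exact h1
  have p1 : Par 2 4 (1 : K) := par_one 4
  have hcurve : ∀ s : K, s ≠ 0 → Φ s⁻¹ s 1 ∈ M := by
    intro s hs
    obtain ⟨v, hv⟩ := exists_chi (q := 2) hK le_rfl (k := 3) (Or.inr rfl) hs
    have h1 := hscale v 1 1 1 p1 h0
    rwa [chi_two_three f hf hK, hv, mul_one, mul_one] at h1
  obtain ⟨σ, hσ0, hσ1⟩ : ∃ σ : K, σ ≠ 0 ∧ σ ≠ 1 := by
    classical
    by_contra h
    push Not at h
    have : (Finset.univ : Finset K) ⊆ {0, 1} := fun a _ => by
      rcases eq_or_ne a 0 with e | e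
      · simp [e]
      · simp [h a e]
    have := Finset.card_le_card this
    rw [Finset.card_univ, hK] at this
    exact absurd (this.trans Finset.card_le_two) (by norm_num)
  have hσ2 : 1 + σ ≠ 0 := fun e => hσ1 ((eq_neg_of_add_eq_zero_right e).trans hone.symm)
  obtain ⟨a, ha⟩ : ∃ a : K, a = 1 + σ⁻¹ + (1 + σ)⁻¹ := ⟨_, rfl⟩
  have h2K : ∀ x : K, x + x = 0 := add_self_two f hf
  have ha0 : a ≠ 0 := by
    intro e
    rw [ha] at e
    field_simp at e
    have h3 : σ ^ 3 = 1 := by linear_combination (σ - 1) * e - (σ ^ 2 - σ) * h2K 1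
    have h7 : σ ^ 7 = 1 := by
      have := norm_one f hf hK (Units.mk0 σ hσ0)
      simp only [Units.val_mk0] at this
      rw [← this]; ring
    exact hσ1 (by linear_combination h7 - (σ ^ 4 + σ) * h3)
  have hP : ∀ x : K, x ≠ 0 → Φ x 0 1 ∈ M := by
    have h1 : Φ a 0 1 ∈ M := by
      have h2 := hadd _ _ _ _ _ _ (par_add f hf p1 p1) p1
        (hadd _ _ _ _ _ _ p1 p1 (hcurve 1 one_ne_zero) (hcurve σ hσ0)) (hcurve (1 + σ) hσ2)
      rwa [inv_one, h2K (1 + σ), h2K 1, zero_add, ← ha] at h2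
    intro x hx
    obtain ⟨v, hv⟩ := exists_chi (q := 2) hK le_rfl (k := 2) (Or.inl rfl) (div_ne_zero hx ha0)
    have h2 := hscale v _ _ _ p1 h1
    rwa [hv, mul_zero, div_mul_cancel₀ _ ha0] at h2
  have hx00 : ∀ x, Φ x 0 0 ∈ M := by
    intro x
    by_cases hx : x = 0 ∨ x = a
    · rcases hx with hx | hx <;> rw [hx]
      · simp only [Φ, el_zero f hf hK, mul_one]; exact one_mem _
      · have h1 := hadd _ _ _ _ _ _ (par_add f hf p1 p1) (par_add f hf p1 p1)
          (hadd _ _ _ _ _ _ p1 p1 (hP 1 one_ne_zero) (hP σ hσ0))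
          (hadd _ _ _ _ _ _ p1 p1 (hP (1 + σ) hσ2) (hP a ha0))
        rw [← add_assoc, h2K (1 + σ), zero_add, add_zero (0 : K), h2K 1, add_zero] at h1
        exact h1
    · push Not at hx
      have hxa : x + a ≠ 0 := fun e => hx.2 (by linear_combination e - h2K a)
      have h1 := hadd _ _ _ _ _ _ p1 p1 (hP (x + a) hxa) (hP a ha0)
      rwa [add_assoc, h2K a, add_zero, add_zero, h2K 1] at h1
  have he4 : el f 2 4 (1 : K) ∈ M := by
    have h1 := hadd _ _ _ _ _ _ p1 (par_zero f hf 4) (hP a ha0) (hx00 a)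
    rw [h2K a, add_zero, add_zero] at h1
    simpa [Φ, el_zero f hf hK] using h1
  have he2 : ∀ x, el f 2 2 x ∈ M := fun x => by simpa [Φ, el_zero f hf hK] using hx00 x
  have he3 : ∀ y, el f 2 3 y ∈ M := fun y => by
    rcases eq_or_ne y 0 with rfl | hy
    · rw [el_zero f hf hK]; exact one_mem _
    · have h1 := hcurve y hy
      simp only [Φ] at h1
      exact (Subgroup.mul_mem_cancel_left _ (he2 _)).1 ((Subgroup.mul_mem_cancel_right _ he4).1 h1)
  intro n hn
  obtain ⟨x, hx, hxn⟩ := exists_coord f hf hK hq 2 hn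
  obtain ⟨y, hy, hyn⟩ := exists_coord f hf hK hq 3 hxn
  obtain ⟨s, hs, hsn⟩ := exists_coord f hf hK hq 4 hyn
  have hes : el f 2 4 s ∈ M := by
    rcases par_two f hf (by simp) hs with rfl | rfl
    · rw [el_zero f hf hK]; exact one_mem _
    · exact he4
  have := mul_mem (he2 x) (mul_mem (he3 y) (mul_mem hes (h5 hsn)))
  rwa [mul_inv_cancel_left, mul_inv_cancel_left, mul_inv_cancel_left] at this

lemma card_par (k : Fin 6) :
    Nat.card {t : K // Par 2 k t} = 2 ^ (orb k).size := by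
  classical
  have hs : (orb k).size = 1 ∨ (orb k).size = 3 := by revert k; decide +kernel
  rcases hs with h | h <;> rw [h]
  · have e : ∀ t : K, Par 2 k t ↔ t ∈ ({0, 1} : Finset K) := fun t => by
      refine ⟨fun ht => ?_, fun ht => ?_⟩
      · rcases par_two f hf (size_eq_one.1 h) ht with rfl | rfl <;> simp
      · intro _
        simp only [Finset.mem_insert, Finset.mem_singleton] at ht
        rcases ht with rfl | rfl <;> simp
    rw [Nat.card_congr (Equiv.subtypeEquivRight e), Nat.card_eq_fintype_card, Fintype.card_coe,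
      Finset.card_pair zero_ne_one, pow_one]
  · have e : ∀ t : K, Par 2 k t ↔ True := fun t => ⟨fun _ => trivial, fun _ h1 => by omega⟩
    rw [Nat.card_congr (Equiv.subtypeEquivRight e),
      Nat.card_congr (Equiv.subtypeUnivEquiv fun _ => trivial), Nat.card_eq_fintype_card, hK]

lemma card_lay (k : Fin 6) :
    Nat.card (lay f k.val) = 2 ^ (orb k).size * Nat.card (lay f (k.val + 1)) := by
  rw [← card_par f hf hK k, ← Nat.card_prod]
  let φ : {t : K // Par 2 k t} × lay f (k.val + 1) → lay f k.val := fun p =>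
    ⟨el f 2 k p.1.1 * p.2.1, mul_mem (el_mem f hf hK p.1.2 le_rfl)
      (lay_anti f (Nat.le_succ _) p.2.2)⟩
  refine (Nat.card_eq_of_bijective φ ⟨?_, ?_⟩).symm
  · rintro ⟨⟨s, hs⟩, m, hm⟩ ⟨⟨t, ht⟩, m', hm'⟩ e
    have e' : el f 2 k s * m = el f 2 k t * m' := congrArg Subtype.val e
    have hp := par_add f hf (par_neg f hf ht) hs
    have h1 : el f 2 k (-t + s) ∈ lay f (k.val + 1) := by
      rw [el_add f hf hK (par_neg f hf ht) hs, el_neg f hf hK ht,
        show (el f 2 k t)⁻¹ * el f 2 k s = m' * m⁻¹ by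
          rw [inv_mul_eq_iff_eq_mul, ← mul_assoc, ← e', mul_inv_cancel_right]]
      exact mul_mem hm' (inv_mem hm)
    have h2 : s = t := by linear_combination el_eq_zero f hf hK hp h1
    subst h2
    exact Prod.ext rfl (Subtype.ext (mul_left_cancel e'))
  · rintro ⟨n, hn⟩
    obtain ⟨t, ht, h⟩ := exists_coord f hf hK (hq2 f hf hK) k hn
    exact ⟨(⟨t, ht⟩, ⟨_, h⟩), Subtype.ext (mul_inv_cancel_left _ _)⟩

/-- The simple layer as a subgroup. -/
noncomputable def topX : Subgroup ↥(endoD4 f).fix where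
  carrier := Set.range (el f 2 0)
  one_mem' := ⟨0, el_zero f hf hK 0⟩
  mul_mem' := by
    rintro _ _ ⟨a, rfl⟩ ⟨b, rfl⟩
    exact ⟨a + b, el_add f hf hK (fun h => absurd h (by decide)) (fun h => absurd h (by decide))⟩
  inv_mem' := by
    rintro _ ⟨a, rfl⟩
    exact ⟨-a, el_neg f hf hK (fun h => absurd h (by decide))⟩

/-- The configuration of the parabolic with a radical of symplectic type. -/
theorem exists_conf : ∃ S : ParTwo.Conf ↥(endoD4 f).fix, S.U = lay f 0 := by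
  classical
  have hq := hq2 f hf hK
  have p0 : ∀ t : K, Par 2 0 t := fun t h => absurd h (by decide)
  have p : ∀ k : Fin 6, Par 2 k (1 : K) := fun k => par_one k
  obtain ⟨w, hw⟩ : ∃ w : Kˣ, w ≠ 1 := by
    by_contra h
    push Not at h
    have h1 : Fintype.card Kˣ ≤ 1 := Fintype.card_le_one_iff.2 fun a b => (h a).trans (h b).symm
    rw [Fintype.card_units, hK] at h1
    omega
  have h1u : (1 : Kˣ) ^ 2 = 1 := one_pow 2
  have hchi0 : chi 2 0 (w : K) ((1 : Kˣ) : K) ≠ 1 := by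
    rw [chi_one_right]
    show (w : K) ^ 2 ≠ 1
    intro e
    refine hw (Units.ext ?_)
    have h2 : ((w : K) - 1) ^ 2 = 0 := by linear_combination e - ((w : K) - 1) * add_self_two f hf 1
    simpa [sub_eq_zero] using h2
  have hchi3 : chi 2 3 (w : K) ((1 : Kˣ) : K) ≠ 1 := by
    rw [chi_one_right]
    show (w : K) ^ 2 * ((w : K) ^ 2) ^ 2 / w ≠ 1
    intro e
    refine hw ((powCoprime (coprime_exp (q := 2) hK le_rfl)).injective ?_)
    rw [powCoprime_apply, powCoprime_apply, one_pow]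
    refine Units.ext ?_
    rw [Units.val_one, ← e, Units.val_pow_eq_pow_val, eq_div_iff w.ne_zero]
    ring
  have hchi2 : chi 2 2 (w : K) ((1 : Kˣ) : K) ≠ 1 := by
    rw [chi_two_three f hf hK, ne_eq, inv_eq_one]; exact hchi3
  have hstd := std_fixD4 f hf hK hq
  obtain ⟨ma, -, hmaf, -, hmaM⟩ := hstd.reps ⟨[0, 2, 3], [0, 2, 3]⟩ (by simp [dataTwD4])
  obtain ⟨mb, -, hmbf, -, hmbM⟩ := hstd.reps ⟨[1], [1]⟩ (by simp [dataTwD4])
  have hmove : ∀ (m : GL chevD4.Idx K) (hmf : m ∈ (endoD4 f).fix) (v : List ℕ),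
      (∀ r < tabD4.n, Maps chevD4 m r (rword tabD4 v r)) → ∀ (k : Fin 6) (j : ℕ),
      (∀ r ∈ (orb k).list twistD4a.rt, rword tabD4 v r ∈ sfx j) → ∀ t, Par 2 k t →
      (⟨m, hmf⟩ : ↥(endoD4 f).fix) * el f 2 k t * (⟨m, hmf⟩ : ↥(endoD4 f).fix)⁻¹ ∈ lay f j := by
    intro m hmf v hmM k j hv t ht
    rw [lay, Subgroup.mem_subgroupOf]
    simp only [Subgroup.coe_mul, Subgroup.coe_inv, coe_el f hf hK ht]
    refine Cert.conj_gen_le (S := {a | a ∈ (orb k).list twistD4a.rt}) (fun a ha => ?_)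
      (ev_mem_gen k t fun a ha => ha)
    exact ⟨_, hv a ha, hmM a ((Endo.layer_root_mem (T := tabD4) (ρ := twistD4a.rt)
      (L := dataTwD4.L) (by decide +kernel) (orb_mem k)).1 a ha).2⟩
  set n : ↥(endoD4 f).fix := ⟨ma, hmaf⟩
  set c := el f 2 5 (1 : K)
  set b := el f 2 1 (1 : K)
  set h := tel f 2 w 1
  have hhT : h ∈ tor' f := tel_mem f hf hK h1u
  have hbU : b ∈ lay f 0 := el_mem f hf hK (p 1) (Nat.zero_le _)
  have hb1 : b ∈ lay f 1 := el_mem f hf hK (p 1) le_rfl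
  have hc5 : c ∈ lay f 5 := el_mem f hf hK (p 5) le_rfl
  have hcne : c ≠ 1 := fun e => el_one_ne f hf hK 5 (show c ∈ _ by rw [e]; exact one_mem _)
  have hb5 : b ∉ lay f 5 := fun e => el_one_ne f hf hK 1 (lay_anti f (by norm_num) e)
  have hchi5 : ∀ v : Kˣ, chi 2 5 (v : K) ((1 : Kˣ) : K) = 1 := fun v => by rw [chi_one_right]; rfl
  have hchi1 : ∀ v : Kˣ, chi 2 1 (v : K) ((1 : Kˣ) : K) = 1 := fun v => by
    rw [chi_one_right]
    show 1 / ((v : K) * (v : K) ^ 2 * ((v : K) ^ 2) ^ 2) = 1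
    rw [norm_one f hf hK, div_one]
  have hvc : ∀ v : Kˣ, tel f 2 v 1 * c * (tel f 2 v 1)⁻¹ = c := fun v => by
    rw [tel_conj f hf hK h1u (p 5), hchi5, one_mul]
  have hvb : ∀ v : Kˣ, tel f 2 v 1 * b * (tel f 2 v 1)⁻¹ = b := fun v => by
    rw [tel_conj f hf hK h1u (p 1), hchi1, one_mul]
  have hnc : n * c * n⁻¹ = c := by
    rcases mem_lay5 f hf hK (hmove ma hmaf _ hmaM 5 5 (by decide +kernel) 1 (p 5)) with e | e
    · exact absurd (conj_eq_one_iff.1 e) hcne
    · exact e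
  have hnb4 : n * b * n⁻¹ ∈ lay f 4 := hmove ma hmaf _ hmaM 1 4 (by decide +kernel) 1 (p 1)
  have hnb : ∃ y, (y = 1 ∨ y = c) ∧ n * b * n⁻¹ = el f 2 4 1 * y := by
    obtain ⟨t, ht, h4⟩ := exists_coord f hf hK hq 4 hnb4
    rcases par_two f hf (by simp) ht with rfl | rfl
    · exfalso
      rw [el_zero f hf hK, inv_one, one_mul] at h4
      rcases mem_lay5 f hf hK h4 with e | e
      · exact hb5 (by rw [conj_eq_one_iff.1 e]; exact one_mem _)
      · exact hb5 (by rw [mul_left_cancel (mul_right_cancel (e.trans hnc.symm))]; exact hc5)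
    · exact ⟨_, mem_lay5 f hf hK h4, (mul_inv_cancel_left _ _).symm⟩
  have hccom : ∀ u ∈ lay f 0, u * c = c * u := fun u hu => by
    have h1 := twoComm f (i := 0) (j := 5) (k := 6) (by decide) hu hc5
    rwa [lay_six, Subgroup.mem_bot, commutatorElement_eq_one_iff_mul_comm] at h1
  let K0 : Subgroup ↥(endoD4 f).fix :=
    Subgroup.closure ({g | ∃ x ∈ topX f hf hK, g = x * b * x⁻¹} ∪ {c})
  let K1 : Subgroup ↥(endoD4 f).fix :=
    Subgroup.closure ({g | ∃ u ∈ lay f 0, ∃ v ∈ lay f 0, g = ⁅u, v⁆} ∪ {c})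
  have hK0inv : ∀ v : Kˣ, ∀ m ∈ K0, tel f 2 v 1 * m * (tel f 2 v 1)⁻¹ ∈ K0 := by
    intro v m hm
    refine (Subgroup.closure_le (K0.comap (MulAut.conj (tel f 2 v 1)).toMonoidHom)).2 ?_ hm
    rintro _ (⟨x, ⟨t, rfl⟩, rfl⟩ | rfl) <;>
      simp only [Subgroup.coe_comap, Set.mem_preimage, MulEquiv.coe_toMonoidHom, MulAut.conj_apply,
        SetLike.mem_coe]
    · refine Subgroup.subset_closure (Or.inl ⟨_, ⟨chi 2 0 (v : K) ((1 : Kˣ) : K) * t, rfl⟩, ?_⟩)
      rw [← tel_conj f hf hK h1u (p0 t)]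
      conv_rhs => rw [← hvb v]
      group
    · rw [hvc]; exact Subgroup.subset_closure (Or.inr rfl)
  have hK1inv : ∀ v : Kˣ, ∀ m ∈ K1, tel f 2 v 1 * m * (tel f 2 v 1)⁻¹ ∈ K1 := by
    intro v m hm
    refine (Subgroup.closure_le (K1.comap (MulAut.conj (tel f 2 v 1)).toMonoidHom)).2 ?_ hm
    rintro _ (⟨u, hu, u', hu', rfl⟩ | rfl) <;>
      simp only [Subgroup.coe_comap, Set.mem_preimage, MulEquiv.coe_toMonoidHom, MulAut.conj_apply,
        SetLike.mem_coe]
    · refine Subgroup.subset_closure (Or.inl ⟨_, lay_conj f (tel_mem f hf hK (v := v) h1u) hu,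
        _, lay_conj f (tel_mem f hf hK (v := v) h1u) hu', ?_⟩)
      simp only [commutatorElement_def]; group
    · rw [hvc]; exact Subgroup.subset_closure (Or.inr rfl)
  have hK0 : lay f 2 ≤ K0 := by
    refine lay_two_le f hf hK hK0inv (Subgroup.subset_closure (Or.inr rfl)) ?_
    have h1 : b ∈ K0 := Subgroup.subset_closure (Or.inl ⟨1, one_mem _, by group⟩)
    have h2 : el f 2 0 1 * b * (el f 2 0 1)⁻¹ ∈ K0 :=
      Subgroup.subset_closure (Or.inl ⟨_, ⟨1, rfl⟩, rfl⟩)
    have h3 := mul_mem h1 (inv_mem h2)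
    rwa [show b * (el f 2 0 1 * b * (el f 2 0 1)⁻¹)⁻¹ =
      b * el f 2 0 1 * b⁻¹ * (el f 2 0 1)⁻¹ by group, ← commutatorElement_def] at h3
  have hK1 : lay f 2 ≤ K1 := by
    refine lay_two_le f hf hK hK1inv (Subgroup.subset_closure (Or.inr rfl)) ?_
    exact Subgroup.subset_closure (Or.inl
      ⟨_, hbU, _, el_mem f hf hK (p0 1) (Nat.zero_le _), rfl⟩)
  have hlay1 : ∀ M : Subgroup ↥(endoD4 f).fix, b ∈ M → lay f 2 ≤ M → lay f 1 ≤ M := by
    intro M hb h2 x hx
    obtain ⟨t, ht, htx⟩ := exists_coord f hf hK hq 1 hx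
    have h3 : el f 2 1 t ∈ M := by
      rcases par_two f hf (by simp) ht with rfl | rfl
      · rw [el_zero f hf hK]; exact one_mem _
      · exact hb
    simpa using mul_mem h3 (h2 htx)
  refine ⟨{
    U := lay f 0
    X := topX f hf hK
    Q := lay f 1
    c := c
    b := b
    h := h
    n := n
    m := ⟨mb, hmbf⟩
    U_eq := ?_
    X_comm := ?_
    c_mem := lay_anti f (by norm_num) hc5
    c_ne := hcne
    c_sq := el_sq f hf hK (p 5)
    c_comm := hccom
    Q_comm := fun u hu v hv =>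
      mem_lay5 f hf hK (twoComm f (i := 1) (j := 1) (k := 5) (by decide) hu hv)
    b_mem := hb1
    b_sq := el_sq f hf hK (p 1)
    X_conj := ?_
    Q_gen := hlay1 K0 (Subgroup.subset_closure (Or.inl ⟨1, one_mem _, by group⟩)) hK0
    card_Q := ?_
    h_b := hvb w
    h_c := hvc w
    h_Q := fun v hv => lay_conj f hhT hv
    h_odd := ?_
    h_X := ?_
    n_c := hnc
    n_b := lay_anti f (by norm_num) hnb4
    n_derived := hK1 (lay_anti f (by norm_num) hnb4)
    n_pair := ?_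
    Q_torus := ?_
    m_X := ?_ }, rfl⟩
  · refine le_antisymm (fun x hx => ?_) (sup_le ?_ (lay_anti f (Nat.zero_le _)))
    · obtain ⟨t, -, htx⟩ := exists_coord f hf hK hq 0 hx
      have := Subgroup.mul_mem_sup (show el f 2 0 t ∈ topX f hf hK from ⟨t, rfl⟩) htx
      rwa [mul_inv_cancel_left] at this
    · rintro _ ⟨t, rfl⟩; exact el_mem f hf hK (p0 t) le_rfl
  · rintro _ ⟨s, rfl⟩ _ ⟨t, rfl⟩
    rw [← el_add f hf hK (p0 s) (p0 t), ← el_add f hf hK (p0 t) (p0 s), add_comm]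
  · rintro _ ⟨t, rfl⟩
    have h1 := mul_mem (twoComm f (i := 0) (j := 1) (k := 1) (by decide)
      (el_mem f hf hK (p0 t) (Nat.zero_le _)) hb1) hb1
    rwa [commutatorElement_def, inv_mul_cancel_right] at h1
  · have h6 : Nat.card (lay f 6) = 1 := by rw [lay_six, Subgroup.card_bot]
    have e5 := card_lay f hf hK 5
    have e4 := card_lay f hf hK 4
    have e3 := card_lay f hf hK 3
    have e2 := card_lay f hf hK 2
    have e1 := card_lay f hf hK 1
    have hsz : (orb 1).size = 1 ∧ (orb 2).size = 3 ∧ (orb 3).size = 3 ∧ (orb 4).size = 1 ∧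
        (orb 5).size = 1 := by decide +kernel
    have hX : Nat.card (topX f hf hK) = 8 := by
      have hinj : Function.Injective (el f 2 0 : K → ↥(endoD4 f).fix) := by
        intro s t e
        have h1 : el f 2 0 (-t + s) ∈ lay f ((0 : Fin 6).val + 1) := by
          rw [el_add f hf hK (p0 _) (p0 _), el_neg f hf hK (p0 t), e, inv_mul_cancel]
          exact one_mem _
        linear_combination el_eq_zero f hf hK (p0 _) h1
      show Nat.card ↥(Set.range (el f 2 0)) = 8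
      rw [Nat.card_range_of_injective hinj, Nat.card_eq_fintype_card, hK]
      norm_num
    rw [hX]
    obtain ⟨s1, s2, s3, s4, s5⟩ := hsz
    rw [s1] at e1; rw [s2] at e2; rw [s3] at e3; rw [s4] at e4; rw [s5] at e5
    simp only [Fin.val_one, Fin.val_two, show ((3 : Fin 6) : ℕ) = 3 from rfl,
      show ((4 : Fin 6) : ℕ) = 4 from rfl, show ((5 : Fin 6) : ℕ) = 5 from rfl] at e1 e2 e3 e4 e5
    rw [e1, e2, e3, e4, e5, h6]
    norm_num
  · refine ⟨7, by decide, Subtype.ext ?_⟩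
    rw [SubgroupClass.coe_pow, coe_tel f hf hK h1u, th, ← map_pow, OneMemClass.coe_one]
    have h7 : w ^ 7 = 1 := by
      rw [show (7 : ℕ) = Fintype.card Kˣ by rw [Fintype.card_units, hK]; rfl, pow_card_eq_one]
    rw [show par 2 w (1 : Kˣ) ^ 7 = 1 from ?_, map_one]
    funext i
    obtain ⟨i, hi⟩ := i
    have hi' : i < 4 := hi
    interval_cases i
    · exact h7
    · exact one_pow 7
    · show (w ^ 2) ^ 7 = 1
      rw [← pow_mul, mul_comm, pow_mul, h7, one_pow]
    · show ((w ^ 2) ^ 2) ^ 7 = 1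
      rw [← pow_mul, ← pow_mul, mul_comm (2 : ℕ) (2 * 7), mul_comm (2 : ℕ) 7, mul_assoc, pow_mul, h7,
        one_pow]
  · rintro _ ⟨t, rfl⟩
    obtain ⟨r, -, e⟩ := exists_tel_comm f hf hK h1u hchi0 (p0 t)
    exact ⟨_, ⟨r, rfl⟩, e⟩
  · obtain ⟨y, hy, e⟩ := hnb
    rw [e]
    rcases hy with rfl | rfl
    · rw [mul_one]; exact comm_bc f hf hK
    · rw [show ⁅b, el f 2 4 1 * c⁆ = ⁅b, el f 2 4 1⁆ * (el f 2 4 1 * ⁅b, c⁆ * (el f 2 4 1)⁻¹) by
        simp only [commutatorElement_def]; group,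
        commutatorElement_eq_one_iff_mul_comm.2 (hccom b hbU), comm_bc f hf hK]
      simp
      rfl
  · set M := Subgroup.closure ({b, n * b * n⁻¹, c} ∪ {g | ∃ v ∈ lay f 1, g = ⁅h, v⁆})
    have hbM : b ∈ M := Subgroup.subset_closure (Or.inl (by simp))
    have hcM : c ∈ M := Subgroup.subset_closure (Or.inl (by simp))
    have h5 : lay f 5 ≤ M := fun x hx => by
      rcases mem_lay5 f hf hK hx with rfl | rfl
      exacts [one_mem _, hcM]
    have h23 : ∀ k : Fin 6, (k = 2 ∨ k = 3) → ∀ t, Par 2 k t → el f 2 k t ∈ M := by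
      intro k hk t ht
      obtain ⟨r, hr, e⟩ := exists_tel_comm f hf hK h1u
        (show chi 2 k (w : K) ((1 : Kˣ) : K) ≠ 1 by rcases hk with rfl | rfl; exacts [hchi2, hchi3]) ht
      refine Subgroup.subset_closure (Or.inr ⟨_, el_mem f hf hK hr ?_, e.symm⟩)
      rcases hk with rfl | rfl <;> decide
    have h4 : ∀ t, Par 2 4 t → el f 2 4 t ∈ M := by
      intro t ht
      rcases par_two f hf (by simp) ht with rfl | rfl
      · rw [el_zero f hf hK]; exact one_mem _
      · obtain ⟨y, hy, e⟩ := hnb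
        have h1 : n * b * n⁻¹ ∈ M := Subgroup.subset_closure (Or.inl (by simp))
        rw [e] at h1
        refine (Subgroup.mul_mem_cancel_right _ ?_).1 h1
        rcases hy with rfl | rfl
        exacts [one_mem _, hcM]
    refine hlay1 M hbM fun x hx => ?_
    obtain ⟨r, hr, hrx⟩ := exists_coord f hf hK hq 2 hx
    obtain ⟨s, hs, hsx⟩ := exists_coord f hf hK hq 3 hrx
    obtain ⟨t, ht, htx⟩ := exists_coord f hf hK hq 4 hsx
    have := mul_mem (h23 2 (by simp) r hr) (mul_mem (h23 3 (by simp) s hs)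
      (mul_mem (h4 t ht) (h5 htx)))
    rwa [mul_inv_cancel_left, mul_inv_cancel_left, mul_inv_cancel_left] at this
  · rintro _ ⟨t, rfl⟩
    exact lay_anti f (by norm_num) (hmove mb hmbf _ hmbM 0 2 (by decide +kernel) t (p0 t))

/-- The derived subgroup of the preimage meets the kernel trivially. -/
theorem sylow_lift_two {Γ : Type*} [Group Γ] [Finite Γ] (σ : Γ →* ↥(endoD4 f).fix)
    (hσ : Function.Surjective σ) (hc : σ.ker ≤ Subgroup.center Γ) {x : Γ} (hx : x ∈ σ.ker)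
    (hxd : x ∈ ⁅(lay f 0).comap σ, (lay f 0).comap σ⁆) : x = 1 := by
  obtain ⟨S, hS⟩ := exists_conf f hf hK
  exact ParTwo.inf_ker S σ hσ hc hx (by rw [hS]; exact hxd)

end CfsgLib.Chev.D4Root
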