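import Cfsg.Agent.Lib.Chev.TwistD4Split
import Cfsg.Agent.Lib.Chev.TwistD4Sylow
import Cfsg.Agent.Lib.Chev.TwistD4SylowTwo
import Cfsg.Agent.Lib.Schur.SLTwo
import Cfsg.Agent.Lib.StemExt.Basic
import Cfsg.Agent.Lib.SL2.Facts

/-!
The Schur multiplier of `³D₄(q)` is trivial.
-/

set_option autoImplicit false
set_option maxRecDepth 100000
set_option linter.unusedSectionVars false
set_option linter.style.haveILetI false

namespace CfsgLib.Chev.D4Root

open Cfsg.Lie Matrix
open TorusD4 (up low)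
open CfsgLib.Schur.Canon (SplitBN Ctx closure_lift_inf_ker)
open scoped MatrixGroups commutatorElement

variable {K : Type*} [Field K] [Fintype K] {q : ℕ}
variable (f : K →+* K) (hf : ∀ t, f t = t ^ q) (hK : Fintype.card K = q ^ 3)

include hf hK in
/-- The homomorphism of a rank one subgroup is injective. -/
lemma rk_injective {k : Type*} [Field k] {i : Fin 2}
    (R : Rk f q (six i) (wd i) k) : Function.Injective R.φ := by
  rw [injective_iff_map_eq_one]
  intro M hM
  have hU : ∀ t, R.φ (up t) ∈ lay f 0 := fun t => Xs_le f hf hK i (rk_up f hf hK R t)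
  rcases sl2_cases M with ⟨e, y, rfl⟩ | ⟨y, z, e, rfl⟩
  · rw [map_mul] at hM
    have h1 : R.φ (up y) = (R.φ (dia e))⁻¹ := eq_inv_of_mul_eq_one_right hM
    have h2 : R.φ (up y) = 1 :=
      U_inf_mon f (hU y) (h1 ▸ inv_mem (tor_le_mon f (R.diag_mem e)))
    have he : e = 1 := R.diag_inj e (by rw [h2, eq_comm, inv_eq_one] at h1; exact h1)
    have hy : y = 0 := by
      refine R.emb.injective ((el_eq_zero f hf hK (R.par y) ?_).trans (map_zero R.emb).symm)
      rw [← R.up_eq, h2]; exact one_mem _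
    rw [he, hy, up_zero, mul_one]
    refine Subtype.ext ?_
    simp only [dia]
    ext a b; fin_cases a <;> fin_cases b <;> simp
  · exfalso
    obtain ⟨x, hx, hneg⟩ := rk_neg f hf hK R
    rw [map_mul, map_mul, map_mul] at hM
    set n := R.φ (wel k)
    have hn : n = (R.φ (up y) * R.φ (dia e))⁻¹ * (R.φ (up z))⁻¹ := by
      have := eq_inv_of_mul_eq_one_left hM
      rw [← this]; group
    refine hneg ?_
    rw [hn]
    have hc : ∀ {a w : ↥(endoD4 f).fix}, a ∈ lay f 0 → w ∈ lay f 0 → a * w * a⁻¹ ∈ lay f 0 :=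
      fun ha hw => mul_mem (mul_mem ha hw) (inv_mem ha)
    have h3 := hc (inv_mem (hU z)) (Xs_le f hf hK i hx)
    have h4 := lay_conj f (inv_mem (R.diag_mem e)) (hc (inv_mem (hU y)) h3)
    simpa only [_root_.mul_inv_rev, inv_inv, mul_assoc] using
      (show (R.φ (up y) * R.φ (dia e))⁻¹ * ((R.φ (up z))⁻¹ * x * ((R.φ (up z))⁻¹)⁻¹) *
          ((R.φ (up y) * R.φ (dia e))⁻¹)⁻¹ ∈ lay f 0 by
        simpa only [_root_.mul_inv_rev, inv_inv, mul_assoc] using h4)

/-- The cyclic or quaternion Sylow subgroups of an isomorphic copy of `SL₂`. -/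
lemma sylow_of_iso {k : Type*} [Field k] [Fintype k] {p : ℕ} [Fact p.Prime] [CharP k p]
    {L : Type*} [Group L] (e : SL(2, k) ≃* L) (ℓ : ℕ) (hℓ : ℓ.Prime) (hℓp : ℓ ≠ p) :
    ∃ U : Subgroup L, ¬ ℓ ∣ U.index ∧
      (IsCyclic U ∨ ∃ n : ℕ, n ≠ 0 ∧ Nonempty (U ≃* QuaternionGroup n)) := by
  haveI := Fact.mk hℓ
  obtain ⟨P⟩ : Nonempty (Sylow ℓ SL(2, k)) := inferInstance
  refine ⟨(P : Subgroup SL(2, k)).map e.toMonoidHom, ?_, ?_⟩
  · rw [Subgroup.index_map_of_bijective e.bijective]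
    exact P.not_dvd_index
  · set g := (e.subgroupMap (P : Subgroup SL(2, k))).symm
    by_cases h2 : ℓ = 2
    · subst h2
      have hodd : Odd (Nat.card k) := by
        obtain ⟨m, -, hc⟩ := FiniteField.card k p
        rw [Nat.card_eq_fintype_card, hc]
        exact ((Fact.out : p.Prime).odd_of_ne_two (Ne.symm hℓp)).pow
      obtain ⟨j, -, ⟨e'⟩⟩ := CfsgLib.SL2.sylow_two_quaternion hodd P
      exact Or.inr ⟨2 ^ j, by positivity, ⟨g.trans e'⟩⟩
    · haveI := CfsgLib.Schur.isCyclic_sylow_odd p ℓ h2 hℓp P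
      exact Or.inl (isCyclic_of_surjective g.symm.toMonoidHom g.symm.surjective)

include hf hK

/-- The multiplier of the fixed points. -/
theorem multiplier_fix (hq : IsPrimePow q) :
    Cfsg.HasCyclicSchurMultiplier ↥(endoD4 f).fix 1 := by
  classical
  refine CfsgLib.StemExt.hasCyclicSchurMultiplier_one fun Δ _ _ σ hσ => ?_
  obtain ⟨hs, hc, hd⟩ := hσ
  obtain ⟨p, e, hp0, he, rfl⟩ := hq
  have hp : p.Prime := Nat.prime_iff.2 hp0
  have hq : IsPrimePow (p ^ e) := ⟨p, e, hp0, he, rfl⟩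
  haveI := Fact.mk hp
  have hq2 : 2 ≤ p ^ e := hq.two_le
  set S := split (p := p) f hf hK hq hp (dvd_pow_self p he.ne') with hS
  -- the characteristic does not divide the kernel
  have hidx : ¬ p ∣ (lay f 0).index := by
    have hU : Nat.card ↥(lay f 0) = (p ^ e) ^ 12 := by
      rw [U_eq, ← Subgroup.inf_subgroupOf_left,
        Nat.card_congr (Subgroup.subgroupOfEquivOfLe inf_le_left).toEquiv,
        card_posD4 f hf hK hq]
    have h := (lay f 0).card_mul_index
    rw [hU, card_twistD4 f hf hK hq, mul_assoc, mul_assoc] at h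
    rw [Nat.eq_of_mul_eq_mul_left (pow_pos (by omega) _) h]
    intro hdvd
    have hd' : ∀ m, m ≠ 0 → p ∣ (p ^ e) ^ m := fun m hm =>
      (dvd_pow_self p he.ne').trans (dvd_pow_self _ hm)
    have h1 : ∀ m, m ≠ 0 → ¬ p ∣ (p ^ e) ^ m - 1 := fun m hm hdiv => by
      have := Nat.dvd_sub (hd' m hm) hdiv
      rw [Nat.sub_sub_self (Nat.one_le_pow _ _ (by omega))] at this
      exact hp.not_dvd_one this
    rcases (hp.dvd_mul).1 hdvd with h2 | h2
    · exact h1 2 two_ne_zero h2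
    rcases (hp.dvd_mul).1 h2 with h3 | h3
    · exact h1 6 (by norm_num) h3
    · exact hp.not_dvd_one ((Nat.dvd_add_right (dvd_add (hd' 8 (by norm_num))
        (hd' 4 (by norm_num)))).1 h3)
  have hcop : ¬ p ∣ Nat.card σ.ker := fun hdvd => by
    obtain ⟨z, hz⟩ := exists_prime_orderOf_dvd_card' p hdvd
    have hzd : (z : Δ) ∈ ⁅(lay f 0).comap σ, (lay f 0).comap σ⁆ :=
      CfsgLib.Schur.mem_commutator_preimage hs hp (a := 1) z.2 (hc z.2) (hd z.2)
        (by rw [pow_one, ← hz]; exact congrArg Subtype.val (pow_orderOf_eq_one z)) _ hidx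
    have hz1 : (z : Δ) = 1 := by
      rcases Nat.lt_or_ge (p ^ e) 3 with h3 | h3
      · have e2 : p ^ e = 2 := by omega
        exact sylow_lift_two f (fun t => (hf t).trans (by rw [e2])) (hK.trans (by rw [e2])) σ hs hc
          z.2 hzd
      · exact sylow_lift_ge3 f hf hK hq h3 σ hs hc z.2 hzd
    rw [OneMemClass.coe_eq_one.1 hz1, orderOf_one] at hz
    exact hp.ne_one hz.symm
  have c : Ctx σ p := ⟨hp, hs, hc, hcop⟩
  have hchar : CharP K p := by
    obtain ⟨m, hm, hcard⟩ := FiniteField.card K (ringChar K)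
    have h1 : p ∣ (ringChar K) ^ (m : ℕ) := by
      rw [← hcard, hK, ← pow_mul]; exact dvd_pow_self p (by positivity)
    rw [(Nat.prime_dvd_prime_iff_eq hp hm).1 (hp.dvd_of_dvd_pow h1)]
    exact ringChar.charP K
  -- the tori of the rank one subgroups
  have key : ∀ (k : Type _) [Field k] [Fintype k] [CharP k p] (i : Fin 2)
      (R : Rk f (p ^ e) (six i) (wd i) k), rep f hf hK i = R.φ (wel k) →
      Nat.card ↥(S.Hh σ i) ≤ Nat.card kˣ := by
    intro k _ _ _ i R hR
    refine le_trans ?_ (card_rk_tor f hf hK R)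
    have hL : S.L i = R.φ.range := by
      rw [← rk_range f hf hK R, ← hR]; rfl
    let ψ : ↥(S.Hh σ i) → ↥(LL (q := p ^ e) f (R.φ (wel k)) i ⊓ tor' f) := fun w =>
      ⟨σ w, by rw [rk_range f hf hK R, ← hL]; exact S.σ_mem_L c w.2.1, w.2.2⟩
    refine Nat.card_le_card_of_injective ψ fun a b hab => ?_
    have hk : (a : Δ)⁻¹ * b ∈ σ.ker := by
      rw [MonoidHom.mem_ker, map_mul, map_inv, show σ a = σ b from congrArg Subtype.val hab,
        inv_mul_cancel]
    have hbot := closure_lift_inf_ker c (S.T i) (fun x hx => S.isPElt_T i hx) (S.L i)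
      (S.closure_T i) fun ℓ hℓ hℓp => by
        rw [hL]
        exact sylow_of_iso (p := p)
          (MonoidHom.ofInjective (rk_injective f hf hK R)) ℓ hℓ hℓp
    have h1 : (a : Δ)⁻¹ * b ∈ (⊥ : Subgroup Δ) := hbot ▸ ⟨(S.Lh σ i).mul_mem ((S.Lh σ i).inv_mem a.2.1) b.2.1, hk⟩
    exact Subtype.ext (inv_mul_eq_one.1 (Subgroup.mem_bot.1 h1))
  haveI := hchar
  haveI : CharP ↥(fixFld f) p :=
    (RingHom.charP_iff (fixFld f).subtype (fixFld f).subtype.injective p).2 hchar
  haveI : Fintype ↥(fixFld f) := Fintype.ofFinite _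
  have hA := key K 0 (rkA f hf hK) rfl
  have hB := key ↥(fixFld f) 1 (rkB f hf hK) rfl
  have hcA : Nat.card Kˣ = (p ^ e) ^ 3 - 1 := by
    rw [Nat.card_units, Nat.card_eq_fintype_card, hK]
  have hcB : Nat.card (↥(fixFld f))ˣ ≤ p ^ e - 1 := by
    refine le_trans (Nat.card_le_card_of_injective
      (fun u => (⟨Units.map (fixFld f).subtype.toMonoidHom u, ?_⟩ :
        {u : Kˣ // u ^ (p ^ e - 1) = 1})) fun a b hab => ?_) ?_
    · have h := unit_fix f hf u
      rwa [show p ^ e = p ^ e - 1 + 1 by omega, pow_succ, mul_eq_right] at h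
    · exact Units.map_injective (fixFld f).subtype.injective (congrArg Subtype.val hab)
    · rw [card_units_pow_eq_one]; exact Nat.gcd_le_right _ (by omega)
  have hH : Nat.card S.H = (p ^ e - 1) ^ 2 * ((p ^ e) ^ 2 + p ^ e + 1) := by
    show Nat.card ↥(tor' f) = _
    rw [tor', ← Subgroup.inf_subgroupOf_left,
      Nat.card_congr (Subgroup.subgroupOfEquivOfLe inf_le_left).toEquiv,
      card_diagD4 f hf hK]
  have hmain := S.card_ker_inf_mul_le c
  rw [inf_eq_left.2 hd, Fin.prod_univ_two, hH] at hmain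
  have hbound : Nat.card ↥(S.Hh σ 0) * Nat.card ↥(S.Hh σ 1) ≤
      ((p ^ e) ^ 3 - 1) * (p ^ e - 1) :=
    Nat.mul_le_mul (hA.trans hcA.le) (hB.trans hcB)
  have hP : (p ^ e - 1) ^ 2 * ((p ^ e) ^ 2 + p ^ e + 1) = ((p ^ e) ^ 3 - 1) * (p ^ e - 1) := by
    obtain ⟨m, hm⟩ : ∃ m, p ^ e = m + 1 := ⟨p ^ e - 1, by omega⟩
    rw [hm]
    have : (m + 1) ^ 3 = m * ((m + 1) ^ 2 + (m + 1) + 1) + 1 := by ring
    rw [this, Nat.add_sub_cancel, Nat.add_sub_cancel]; ring
  have hpos : 0 < (p ^ e - 1) ^ 2 * ((p ^ e) ^ 2 + p ^ e + 1) :=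
    Nat.mul_pos (pow_pos (by omega) _) (by omega)
  rw [← Subgroup.card_eq_one]
  refine le_antisymm (Nat.le_of_mul_le_mul_right ?_ hpos) Nat.card_pos
  rw [one_mul]
  exact hmain.trans (hbound.trans hP.ge)

end CfsgLib.Chev.D4Root
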