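import Cfsg.Agent.Lib.Chev.TwistD4
import Cfsg.Agent.Lib.Chev.CentralGen

/-!
The root subgroups of `³D₄(q)`, orbit by orbit, and the action of the torus on them.
-/

set_option autoImplicit false
set_option maxRecDepth 100000
set_option linter.unusedSectionVars false

open scoped commutatorElement

namespace CfsgLib.Chev.D4Root

open Cfsg.Lie Matrix
open Cert (torusHom extC extC_ne_zero)

variable {K : Type*} [Field K] [Fintype K] {q : ℕ}

/-- The orbits of positive roots in the order of the layers. -/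
def orb (k : Fin 6) : Orb := dataTwD4.L.getD k.val ⟨0, 0, [], 0, []⟩

/-- The roots from the layer `k` on. -/
def sfx (k : ℕ) : List ℕ := flatOrbs twistD4a.rt (dataTwD4.L.drop k)

/-- The word of the element of parameter `t` in a layer. -/
def word (q : ℕ) : Fin 6 → K → List (ℕ × K)
  | ⟨0, _⟩, t => [(18, t), (13, t ^ q), (12, (t ^ q) ^ q)]
  | ⟨1, _⟩, t => [(14, t)]
  | ⟨2, _⟩, t => [(19, t), (16, -(t ^ q)), (15, -((t ^ q) ^ q))]
  | ⟨3, _⟩, t => [(17, t), (20, -(t ^ q)), (21, -((t ^ q) ^ q))]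
  | ⟨4, _⟩, t => [(22, t)]
  | ⟨5, _⟩, t => [(23, t)]

/-- The admissible parameters of a layer. -/
def Par (q : ℕ) (k : Fin 6) (t : K) : Prop := (orb k).size = 1 → t ^ q = t

/-- The element of parameter `t` in a layer. -/
noncomputable def ev (q : ℕ) (k : Fin 6) (t : K) : GL chevD4.Idx K :=
  ((word q k t).map fun p => X chevD4 p.1 p.2).prod

theorem chkBaseL : chkBase tabD4 twistD4a.rt dataTwD4.L = true := by decide +kernel

theorem orb_mem (k : Fin 6) : orb k ∈ dataTwD4.L := by
  have h : dataTwD4.L.length = 6 := rfl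
  rw [orb, List.getD_eq_getElem _ _ (lt_of_lt_of_eq k.isLt h.symm)]
  exact List.getElem_mem _

theorem signs : (List.range 24).all (fun r => decide (twistD4a.dg r = 1)) = true := by
  decide +kernel

/-- The roots of the words. -/
theorem word_roots (k : Fin 6) (t : K) :
    (word q k t).map Prod.fst = (orb k).list twistD4a.rt := by
  have h : ∀ k : Fin 6, (orb k).list twistD4a.rt =
      ([[18, 13, 12], [14], [19, 16, 15], [17, 20, 21], [22], [23]] : List (List ℕ)).getD k [] := by
    decide +kernel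
  rw [h k]
  fin_cases k <;> rfl

theorem word_sum (k : Fin 6) (t : K) :
    ((word q k t).map fun p => if p.1 = (orb k).root then p.2 else 0).sum = t := by
  fin_cases k <;> simp [word, orb, dataTwD4]

variable (f : K →+* K) (hf : ∀ t, f t = t ^ q)
include hf

lemma τ_eq {r : ℕ} (hd : twistD4a.dg r = 1) (t : K) :
    (endoD4 f).τ r t = (twistD4a.ep r : K) * t ^ q := by
  show (twistD4a.ep r : K) * f t ^ twistD4a.dg r = _
  rw [hd, hf, pow_one]

lemma neg_pow_q (t : K) : (-t) ^ q = -(t ^ q) := by rw [← hf, ← hf, map_neg]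

lemma signed_triple_mem_fix (hK : ∀ t : K, ((t ^ q) ^ q) ^ q = t) {r s u : ℕ}
    (hr : r < tabD4.n ∧ twistD4a.rt r = s ∧ twistD4a.ep r = -1 ∧ twistD4a.dg r = 1)
    (hs : s < tabD4.n ∧ twistD4a.rt s = u ∧ twistD4a.ep s = 1 ∧ twistD4a.dg s = 1)
    (hu : u < tabD4.n ∧ twistD4a.rt u = r ∧ twistD4a.ep u = -1 ∧ twistD4a.dg u = 1)
    (hc : chkCommute tabD4 r s = true ∧ chkCommute tabD4 r u = true) (t : K) :
    X chevD4 r t * X chevD4 s (-(t ^ q)) * X chevD4 u (-((t ^ q) ^ q)) ∈ (endoD4 f).fix := by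
  have mr := certD4.X_mem_group hr.1 t
  have ms := certD4.X_mem_group hs.1 (-(t ^ q))
  have mu := certD4.X_mem_group hu.1 (-((t ^ q) ^ q))
  refine (endoD4 f).mem_fix.2 ⟨mul_mem (mul_mem mr ms) mu, ?_⟩
  rw [(endoD4 f).act_mul (mul_mem mr ms) mu, (endoD4 f).act_mul mr ms, (endoD4 f).act_X hr.1,
    (endoD4 f).act_X hs.1, (endoD4 f).act_X hu.1, τ_eq f hf hr.2.2.2, τ_eq f hf hs.2.2.2,
    τ_eq f hf hu.2.2.2, hr.2.2.1, hs.2.2.1, hu.2.2.1, neg_pow_q f hf, neg_pow_q f hf, hK]
  show X chevD4 (twistD4a.rt r) _ * X chevD4 (twistD4a.rt s) _ * X chevD4 (twistD4a.rt u) _ = _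
  rw [hr.2.1, hs.2.1, hu.2.1]
  simp only [Int.cast_neg, Int.cast_one, neg_mul, one_mul, _root_.neg_neg]
  exact ((certD4.commute_X hc.1 t _).mul_right (certD4.commute_X hc.2 t _)).eq.symm.trans
    (mul_assoc _ _ _).symm

theorem ev_mem_fix (hK : ∀ t : K, ((t ^ q) ^ q) ^ q = t) {k : Fin 6} {t : K} (ht : Par q k t) :
    ev q k t ∈ (endoD4 f).fix := by
  fin_cases k <;>
    simp only [ev, word, List.map_cons, List.map_nil, List.prod_cons, List.prod_nil, mul_one,
      ← mul_assoc]
  · exact triple_mem_fixD4 f hf hK (by decide +kernel) (by decide +kernel) (by decide +kernel)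
      (by decide +kernel) t
  · exact single_mem_fixD4 f hf (by decide +kernel) (ht rfl)
  · exact signed_triple_mem_fix f hf hK (by decide +kernel) (by decide +kernel) (by decide +kernel)
      (by decide +kernel) t
  · exact signed_triple_mem_fix f hf hK (by decide +kernel) (by decide +kernel) (by decide +kernel)
      (by decide +kernel) t
  · exact single_mem_fixD4 f hf (by decide +kernel) (ht rfl)
  · exact single_mem_fixD4 f hf (by decide +kernel) (ht rfl)

omit hf in
theorem ev_mem_gen (k : Fin 6) (t : K) {S : Set ℕ}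
    (hS : ∀ r ∈ (orb k).list twistD4a.rt, r ∈ S) : ev q k t ∈ gen chevD4 K S := by
  refine list_prod_mem fun g hg => ?_
  obtain ⟨p, hp, rfl⟩ := List.mem_map.1 hg
  exact X_mem_gen _ (hS _ (word_roots (q := q) k t ▸ List.mem_map_of_mem hp)) _

omit hf in
theorem ev_mem_sfx (k : Fin 6) (t : K) {j : ℕ} (hj : j ≤ k) :
    ev q k t ∈ gen chevD4 K {r | r ∈ sfx j} := by
  refine ev_mem_gen k t fun r hr => ?_
  have h : ∀ k : Fin 6, ∀ j : Fin 6, j.val ≤ k.val →
      ((orb k).list twistD4a.rt).all (fun r => (sfx j.val).contains r) = true := by decide +kernel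
  have := h k ⟨j, lt_of_le_of_lt hj k.isLt⟩ hj
  simp only [List.all_eq_true, List.contains_iff_mem] at this
  exact this r hr

theorem ev_add (k : Fin 6) (a b : K) : ev q k (a + b) = ev q k a * ev q k b := by
  have hp : ∀ x y : K, (x + y) ^ q = x ^ q + y ^ q := fun x y => by
    rw [← hf, ← hf, ← hf, map_add]
  have h3 : ∀ r s u : ℕ, (∀ a ∈ [r, s, u], ∀ b ∈ [r, s, u], chkCommute tabD4 a b = true) →
      ∀ x y z x' y' z' : K, X chevD4 r (x + x') * (X chevD4 s (y + y') * (X chevD4 u (z + z') * 1)) =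
        X chevD4 r x * (X chevD4 s y * (X chevD4 u z * 1)) *
          (X chevD4 r x' * (X chevD4 s y' * (X chevD4 u z' * 1))) := by
    intro r s u hc x y z x' y' z'
    have hr : r < tabD4.n ∧ s < tabD4.n ∧ u < tabD4.n := by
      refine ⟨?_, ?_, ?_⟩ <;>
      · simp only [List.mem_cons, List.not_mem_nil, or_false, forall_eq_or_imp, forall_eq,
          chkCommute, Bool.and_eq_true, decide_eq_true_eq] at hc
        tauto
    have c1 := (certD4.commute_X (hc s (by simp) r (by simp)) y x').eq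
    have c2 := (certD4.commute_X (hc u (by simp) r (by simp)) z x').eq
    have c3 := (certD4.commute_X (hc u (by simp) s (by simp)) z y').eq
    rw [← certD4.X_add hr.1, ← certD4.X_add hr.2.1, ← certD4.X_add hr.2.2]
    generalize X chevD4 r x = A, X chevD4 r x' = A', X chevD4 s y = B, X chevD4 s y' = B',
      X chevD4 u z = C, X chevD4 u z' = C' at c1 c2 c3 ⊢
    calc A * A' * (B * B' * (C * C' * 1)) = A * (A' * B) * (B' * C) * C' := by group
      _ = A * (B * A') * (C * B') * C' := by rw [c1, c3]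
      _ = A * B * (A' * C) * B' * C' := by group
      _ = A * B * (C * A') * B' * C' := by rw [c2]
      _ = _ := by group
  fin_cases k <;> simp only [ev, word, List.map_cons, List.map_nil, List.prod_cons, List.prod_nil]
  · rw [hp, hp]; exact h3 18 13 12 (by decide +kernel) _ _ _ _ _ _
  · rw [mul_one, mul_one, mul_one, certD4.X_add (by decide +kernel)]
  · rw [hp, hp, neg_add, neg_add]; exact h3 19 16 15 (by decide +kernel) _ _ _ _ _ _
  · rw [hp, hp, neg_add, neg_add]; exact h3 17 20 21 (by decide +kernel) _ _ _ _ _ _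
  · rw [mul_one, mul_one, mul_one, certD4.X_add (by decide +kernel)]
  · rw [mul_one, mul_one, mul_one, certD4.X_add (by decide +kernel)]

theorem ev_zero (k : Fin 6) : ev q k (0 : K) = 1 := by
  have h := ev_add f hf k (0 : K) 0
  rwa [add_zero, left_eq_mul] at h

theorem ev_neg (k : Fin 6) (a : K) : ev q k (-a) = (ev q k a)⁻¹ := by
  refine eq_inv_of_mul_eq_one_left ?_
  rw [← ev_add f hf, neg_add_cancel, ev_zero f hf]

/-- A leading coordinate vanishing deeper down. -/
theorem ev_eq_zero {k : Fin 6} {t : K}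
    (h : ev q k t ∈ gen chevD4 K {r | r ∈ sfx (k.val + 1)}) : t = 0 := by
  have hchk : ∀ k : Fin 6, (((sfx k).all fun a => decide (tabD4.half ≤ a ∧ a < tabD4.n)) &&
      ((sfx k).contains (orb k).root && (((sfx (k.val + 1)).all fun a =>
        (sfx k).contains a && decide (a ≠ (orb k).root)) && (sfx k).all fun a => (sfx k).all fun b =>
        decide (a = b) || (tabD4.commTerms a b).all fun c =>
          (sfx k).contains c.1 && decide (c.1 ≠ (orb k).root)))) = true := by decide +kernel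
  have hk := hchk k
  simp only [Bool.and_eq_true, List.all_eq_true, decide_eq_true_eq, List.contains_iff_mem,
    Bool.or_eq_true] at hk
  obtain ⟨hpos, hroot, hsub, hterm⟩ := hk
  have hfree : Endo.Free tabD4 {r | r ∈ sfx k} (orb k).root :=
    ⟨fun a ha => hpos a ha, fun a ha b hb hne c hc =>
      (((hterm a ha b hb).resolve_left (Ne.symm hne)) c hc).1, hroot, fun a ha b hb hne c hc =>
      (((hterm a ha b hb).resolve_left (Ne.symm hne)) c hc).2⟩
  have h1 := Endo.inC_word (h := certD4) hfree (word q k t) (fun p hp => by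
    have h2 : p.1 ∈ (orb k).list twistD4a.rt := word_roots (q := q) k t ▸ List.mem_map_of_mem hp
    have h3 : ∀ k : Fin 6, ((orb k).list twistD4a.rt).all (fun r => (sfx k.val).contains r) = true := by
      decide +kernel
    have := h3 k
    simp only [List.all_eq_true, List.contains_iff_mem] at this
    exact this _ h2)
  rw [word_sum] at h1
  refine Endo.InC.unique (h := certD4) hfree h1 ?_
  show (X chevD4 (orb k).root 0)⁻¹ * ev q k t ∈ _
  rw [certD4.X_zero (hpos _ hroot).2, inv_one, one_mul]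
  exact gen_mono chevD4 (S := {r | r ∈ sfx (k.val + 1)}) (fun a (ha : a ∈ sfx (k.val + 1)) => show a ∈ {r | r ∈ sfx k} \ {(orb k).root} from ⟨(hsub a ha).1, fun e => (hsub a ha).2 e⟩) h

/-- The fixed elements of a layer are an element of the layer times deeper ones. -/
theorem fix_sfx_le (hK : Fintype.card K = q ^ 3) (hq : IsPrimePow q) (k : Fin 6) :
    (endoD4 f).fix ⊓ gen chevD4 K {r | r ∈ sfx k} ≤
      Subgroup.closure ({g | ∃ t, Par q k t ∧ g = ev q k t} ∪
        (((endoD4 f).fix ⊓ gen chevD4 K {r | r ∈ sfx (k.val + 1)} : Subgroup (GL chevD4.Idx K)) :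
          Set (GL chevD4.Idx K))) := by
  set M := Subgroup.closure ({g | ∃ t, Par q k t ∧ g = ev q k t} ∪
        (((endoD4 f).fix ⊓ gen chevD4 K {r | r ∈ sfx (k.val + 1)} : Subgroup (GL chevD4.Idx K)) :
          Set (GL chevD4.Idx K)))
  have hK' := pow_cubeD4 hK
  have hchk : ∀ k : Fin 6, (chkLayers tabD4 twistD4a.rt (dataTwD4.L.drop k.val) &&
      (((sfx k.val).all fun a => decide (tabD4.half ≤ a ∧ a < tabD4.n) &&
        (sfx k.val).contains (twistD4a.rt a)) &&
      ((sfx k.val).all fun a => (sfx k.val).all fun b =>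
        decide (a = b) || (tabD4.commTerms a b).all fun c => (sfx k.val).contains c.1))) = true := by
    decide +kernel
  have hk := hchk k
  simp only [Bool.and_eq_true, List.all_eq_true, decide_eq_true_eq, List.contains_iff_mem,
    Bool.or_eq_true] at hk
  obtain ⟨hlay, hst, hterm⟩ := hk
  have h6 : dataTwD4.L.length = 6 := rfl
  have hlift : ∀ o ∈ dataTwD4.L.drop k.val, (endoD4 f).Lift M o := by
    intro o ho
    obtain ⟨j, hj, rfl⟩ := List.getElem_of_mem ho
    rw [List.getElem_drop]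
    have hj6 : k.val + j < 6 := by rw [List.length_drop, h6] at hj; omega
    have eo : dataTwD4.L[k.val + j]'(h6.symm ▸ hj6) = orb ⟨k.val + j, hj6⟩ := by
      rw [orb, List.getD_eq_getElem _ _ (by rw [h6]; exact hj6)]
    rw [eo]
    refine Endo.lift_of_word _ chkBaseL (orb_mem _) fun t ht => ?_
    have hpar : Par q ⟨k.val + j, hj6⟩ t := by
      intro hsz
      have h1 : (endoD4 f).τn (orb ⟨k.val + j, hj6⟩).size (orb ⟨k.val + j, hj6⟩).root t = t := ht
      rw [hsz] at h1
      have hep : ∀ i : Fin 6, (orb i).size = 1 →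
          twistD4a.ep (orb i).root = 1 ∧ twistD4a.dg (orb i).root = 1 := by decide +kernel
      have h2 := hep _ hsz
      change (endoD4 f).τ (orb ⟨k.val + j, hj6⟩).root t = t at h1
      rwa [τ_eq f hf h2.2, h2.1, Int.cast_one, one_mul] at h1
    refine ⟨word q ⟨k.val + j, hj6⟩ t, fun p hp => List.mem_append_left _ ?_, ?_,
      ev_mem_fix f hf hK' hpar, word_sum _ t⟩
    · exact word_roots (q := q) ⟨k.val + j, hj6⟩ t ▸ List.mem_map_of_mem hp
    · rcases Nat.eq_zero_or_pos j with rfl | hj0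
      · exact Subgroup.subset_closure (Or.inl ⟨t, hpar, rfl⟩)
      · exact Subgroup.subset_closure (Or.inr
          ⟨ev_mem_fix f hf hK' hpar, ev_mem_sfx _ t (show k.val + 1 ≤ k.val + j by omega)⟩)
  have h1 := (endoD4 f).fix_gen M (P := {r | r ∈ sfx k.val}) (e := 1) (Q := q)
    (fun a ha => (hst a ha).1)
    (fun a ha b hb hne c hc => ((hterm a ha b hb).resolve_left (Ne.symm hne)) c hc)
    (fun s hs => (hst s hs).2) (dataTwD4.L.drop k.val) hlay hlift
    fun o ho => hcardD4 f hf hK hq o (List.mem_of_mem_drop ho)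
  have e : {r | r ∈ sfx k.val} ∩ {a | a ∈ flatOrbs (endoD4 f).ρ (dataTwD4.L.drop k.val)} =
      {r | r ∈ sfx k.val} := Set.inter_self _
  rw [e] at h1
  exact h1.1

/-- The parameters of the torus element `(v, u)`. -/
def par (q : ℕ) (v u : Kˣ) : Fin tabD4.l → Kˣ := fun i =>
  ([v, u, v ^ q, (v ^ q) ^ q] : List Kˣ).getD i 1

/-- The torus element `(v, u)`. -/
noncomputable def th (q : ℕ) (v u : Kˣ) : GL chevD4.Idx K :=
  torusHom (D := chevD4) (T := tabD4) (par q v u)

/-- The character of a layer at the torus element `(v, u)`. -/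
noncomputable def chi (q : ℕ) (k : Fin 6) (v u : K) : K :=
  ([v ^ 2 / u, u ^ 2 / (v * v ^ q * (v ^ q) ^ q), u * v / (v ^ q * (v ^ q) ^ q),
    v ^ q * (v ^ q) ^ q / v, v * v ^ q * (v ^ q) ^ q / u, u] : List K).getD k 0

theorem th_mem (hK : ∀ t : K, ((t ^ q) ^ q) ^ q = t) {v u : Kˣ} (hu : u ^ q = u) :
    th q v u ∈ (endoD4 f).fix ⊓ chevD4.diagonalSubgroup K := by
  refine (endoD4 f).torusHom_mem_fix (tor_fix_ofD4 f hf fun i => ?_)
  obtain ⟨i, hi⟩ := i
  have hi' : i < 4 := hi
  interval_cases i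
  · rfl
  · exact hu.symm
  · rfl
  · show v = ((v ^ q) ^ q) ^ q
    exact (Units.ext (by simp [hK])).symm

/-- The torus acts on the layers by the characters. -/
theorem th_conj (hK : ∀ t : K, ((t ^ q) ^ q) ^ q = t) {v u : Kˣ} (hu : u ^ q = u) (k : Fin 6)
    (t : K) : th q v u * ev q k t * (th q v u)⁻¹ = ev q k (chi q k (v : K) (u : K) * t) := by
  obtain ⟨c, hc⟩ : ∃ c, c = extC tabD4 (par q v u) := ⟨_, rfl⟩
  have hconj : ∀ r < tabD4.n, ∀ s : K, th q v u * X chevD4 r s * (th q v u)⁻¹ =
      X chevD4 r (charOf tabD4 c r * s) := fun r hr s =>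
    Endo.conj_X_charOf (h := certD4) (g := th q v u) (fun i _ => hc ▸ extC_ne_zero _ i)
      (hc ▸ rfl) hr s
  have hcar : ∀ r, r < 24 → 12 ≤ r → (List.range 4).map (fun i => tabD4.car i r) =
      ([[0, -1, 0, 2], [0, -1, 2, 0], [-1, 2, -1, -1], [-1, 1, -1, 1], [-1, 1, 1, -1],
        [-1, 0, 1, 1], [2, -1, 0, 0], [1, 1, -1, -1], [1, 0, -1, 1], [1, 0, 1, -1],
        [1, -1, 1, 1], [0, 1, 0, 0]] : List (List ℤ)).getD (r - 12) [] := by decide +kernel
  have hch : ∀ r : ℕ, ∀ a0 a1 a2 a3 : ℤ,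
      (List.range 4).map (fun i => tabD4.car i r) = [a0, a1, a2, a3] →
      charOf tabD4 c r = (v : K) ^ a0 * (u : K) ^ a1 * ((v : K) ^ q) ^ a2 *
        (((v : K) ^ q) ^ q) ^ a3 := by
    intro r a0 a1 a2 a3 e
    simp only [List.range_succ, List.range_zero, List.nil_append, List.cons_append, List.map_cons,
      List.map_nil, List.cons.injEq, and_true] at e
    obtain ⟨e0, e1, e2, e3⟩ := e
    show ∏ i ∈ Finset.range 4, c i ^ tabD4.car i r = _
    rw [Finset.prod_range_succ, Finset.prod_range_succ, Finset.prod_range_succ,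
      Finset.prod_range_succ, Finset.prod_range_zero, one_mul, e0, e1, e2, e3, hc]
    simp [extC, par, show tabD4.l = 4 from rfl]
  have hv : (v : K) ≠ 0 := v.ne_zero
  have huu : (u : K) ≠ 0 := u.ne_zero
  have hvq : (v : K) ^ q ≠ 0 := pow_ne_zero _ hv
  have hvqq : ((v : K) ^ q) ^ q ≠ 0 := pow_ne_zero _ hvq
  have huq : (u : K) ^ q = u := by rw [← Units.val_pow_eq_pow_val, hu]
  have hne : ∀ x : K, (-x) ^ q = -(x ^ q) := neg_pow_q f hf
  have hinv : ∀ x y : K, (x / y) ^ q = x ^ q / y ^ q := fun x y => div_pow x y q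
  rw [ev, ← MulAut.conj_apply, map_list_prod, List.map_map, ev]
  refine congrArg List.prod ?_
  fin_cases k <;>
    simp only [word, chi, List.map_cons, List.map_nil, Function.comp_apply, MulAut.conj_apply,
      List.cons.injEq, and_true, List.getD_cons_zero, List.getD_cons_succ] <;>
    refine ?_
  · refine ⟨?_, ?_, ?_⟩ <;> rw [hconj _ (by decide +kernel)] <;> congr 1
    · rw [hch 18 2 (-1) 0 0 (hcar 18 (by decide) (by decide))]; field_simp
    · rw [hch 13 0 (-1) 2 0 (hcar 13 (by decide) (by decide))]; simp only [mul_pow, hinv, ← pow_mul, huq]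
      field_simp; ring
    · rw [hch 12 0 (-1) 0 2 (hcar 12 (by decide) (by decide))]; simp only [mul_pow, hinv, huq, hK]
      field_simp; ring
  · rw [hconj _ (by decide +kernel)]; congr 1
    rw [hch 14 (-1) 2 (-1) (-1) (hcar 14 (by decide) (by decide))]; field_simp
  · refine ⟨?_, ?_, ?_⟩ <;> rw [hconj _ (by decide +kernel)] <;> congr 1
    · rw [hch 19 1 1 (-1) (-1) (hcar 19 (by decide) (by decide))]; field_simp
    · rw [hch 16 (-1) 1 1 (-1) (hcar 16 (by decide) (by decide))]; simp only [mul_pow, hinv, huq, hK]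
      field_simp
    · rw [hch 15 (-1) 1 (-1) 1 (hcar 15 (by decide) (by decide))]; simp only [mul_pow, hinv, huq, hK]
      field_simp
  · refine ⟨?_, ?_, ?_⟩ <;> rw [hconj _ (by decide +kernel)] <;> congr 1
    · rw [hch 17 (-1) 0 1 1 (hcar 17 (by decide) (by decide))]; field_simp
    · rw [hch 20 1 0 (-1) 1 (hcar 20 (by decide) (by decide))]; simp only [mul_pow, hinv, hK]
      field_simp
    · rw [hch 21 1 0 1 (-1) (hcar 21 (by decide) (by decide))]; simp only [mul_pow, hinv, hK]
      field_simp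
  · rw [hconj _ (by decide +kernel)]; congr 1
    rw [hch 22 1 (-1) 1 1 (hcar 22 (by decide) (by decide))]; field_simp
  · rw [hconj _ (by decide +kernel)]; congr 1
    rw [hch 23 0 1 0 0 (hcar 23 (by decide) (by decide))]; simp

end CfsgLib.Chev.D4Root
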