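import Cfsg.Agent.Lib.Chev.TwistD4RankOne
import Cfsg.Agent.Lib.Chev.RootCentralizer
import Cfsg.Agent.Lib.Schur.SplitLift

/-!
The split (B, N) decomposition of `³D₄(q)` with its two rank one subgroups.
-/

set_option autoImplicit false
set_option maxRecDepth 100000
set_option linter.unusedSectionVars false
set_option linter.style.haveILetI false

namespace CfsgLib.Chev.D4Root

open Cfsg.Lie Matrix
open Cert (torusHom conj_gen_le cellUnipotent)
open TorusD4 (up low sl2_closure)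
open CfsgLib.Schur.Canon (SplitBN)
open scoped MatrixGroups

variable {K : Type*} [Field K] [Fintype K] {q : ℕ}

/-- The layers of the simple classes. -/
def six : Fin 2 → Fin 6 := ![0, 1]

/-- The words of the simple classes. -/
def wd : Fin 2 → List ℕ := ![[0, 2, 3], [1]]

/-- The roots of the simple classes. -/
def rts (i : Fin 2) : List ℕ := (orb (six i)).list twistD4a.rt

theorem chkRts : ∀ i : Fin 2,
    ((rts i).all fun r => decide (12 ≤ r ∧ r < 24 ∧ rword tabD4 (wd i) r = tabD4.neg r ∧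
      rword tabD4 (wd i) (tabD4.neg r) = r ∧ rword tabD4 (wd i) r < 12) &&
        (sfx (six i).val).contains r &&
        (List.range 3).any (fun k => decide (twistD4a.rt^[k] (orb (six i)).root = r)) &&
        (rts i).all fun s => decide (r = s) || decide (tabD4.commTerms r s = [])) = true := by
  decide +kernel

theorem chkPerm : ∀ i : Fin 2, ((List.range 24).all fun r =>
    (decide (12 ≤ r) == decide (12 ≤ twistD4a.rt r)) &&
      (((rts i).contains r) == ((rts i).contains (twistD4a.rt r))) &&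
      (decide (r < 12) || (rts i).contains r || decide (12 ≤ rword tabD4 (wd i) r))) = true := by
  decide +kernel

theorem chkDec : ((sfx 1).all (fun r => decide (12 ≤ rword tabD4 (wd 0) r ∧ r < 24)) &&
    (sfx 2).all (fun r => decide (r ≠ 14)) &&
    ((List.range 24).all fun r => decide (r < 12) || decide (r = 14) ||
      decide (12 ≤ rword tabD4 (wd 1) r)) &&
    ([18, 13, 12] : List ℕ).all (fun r => decide (r ≠ 14)) &&
    chkCommGen tabD4 (sfx 1) (sfx 2) (sfx 2) && chkCommGen tabD4 (sfx 0) (sfx 1) (sfx 1)) = true := by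
  decide +kernel

theorem chkSfx : ∀ k : Fin 7, ((sfx k.val).all fun r => decide (12 ≤ r ∧ r < 24) &&
    (sfx k.val).all fun s => decide (r = s) ||
      (tabD4.commTerms r s).all fun c => (sfx k.val).contains c.1) = true := by
  decide +kernel

theorem sfx_zero : {r | r ∈ sfx 0} = posSet tabD4 := by
  have h : ((List.range 24).all fun r => decide (r < 12) || (sfx 0).contains r) = true ∧
      (sfx 0).all (fun r => decide (12 ≤ r ∧ r < 24)) = true := by decide +kernel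
  simp only [List.all_eq_true, Bool.or_eq_true, decide_eq_true_eq, List.contains_iff_mem,
    List.mem_range] at h
  ext r
  have e1 : tabD4.half = 12 := by decide +kernel
  have e2 : tabD4.n = 24 := by decide +kernel
  show r ∈ sfx 0 ↔ tabD4.half ≤ r ∧ r < tabD4.n
  rw [e1, e2]
  exact ⟨h.2 r, fun hr => (h.1 r hr.2).resolve_left (by omega)⟩

lemma wd_ok : ∀ i : Fin 2, WordOK tabD4 (wd i) :=
  Fin.forall_fin_two.2 ⟨wordOK_of_all (by decide +kernel), wordOK_of_all (by decide +kernel)⟩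

lemma half_eq : tabD4.half = 12 := by decide +kernel

lemma n_eq : tabD4.n = 24 := by decide +kernel

lemma rts_spec {i : Fin 2} {r : ℕ} (hr : r ∈ rts i) :
    r ∈ posSet tabD4 ∧ rword tabD4 (wd i) r = tabD4.neg r ∧ rword tabD4 (wd i) r < tabD4.half ∧
      rword tabD4 (wd i) (tabD4.neg r) = r ∧ r ∈ sfx (six i).val ∧
      (∃ k, twistD4a.rt^[k] (orb (six i)).root = r) ∧
      ∀ s ∈ rts i, r = s ∨ tabD4.commTerms r s = [] := by
  have h := chkRts i
  simp only [List.all_eq_true, Bool.and_eq_true, decide_eq_true_eq, List.contains_iff_mem,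
    List.any_eq_true, Bool.or_eq_true] at h
  obtain ⟨⟨⟨⟨h1, h2, h3, h4, h5⟩, h6⟩, ⟨k, -, h7⟩⟩, h8⟩ := h r hr
  refine ⟨⟨by rw [half_eq]; exact h1, by rw [n_eq]; exact h2⟩, h3, by rw [half_eq]; exact h5, h4, h6,
    ⟨k, h7⟩, h8⟩

lemma root_mem_rts (i : Fin 2) : (orb (six i)).root ∈ rts i := by revert i; decide +kernel

lemma rts_closed (i : Fin 2) : CommClosed tabD4 {r | r ∈ rts i} := by
  intro r hr s hs hne c hc
  rcases (rts_spec hr).2.2.2.2.2.2 s hs with e | e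
  · exact absurd e.symm hne
  · rw [e] at hc; exact absurd hc List.not_mem_nil

lemma sfx_spec {k : ℕ} (hk : k < 7) :
    {r | r ∈ sfx k} ⊆ posSet tabD4 ∧ CommClosed tabD4 {r | r ∈ sfx k} := by
  have h := chkSfx ⟨k, hk⟩
  simp only [List.all_eq_true, Bool.and_eq_true, decide_eq_true_eq, List.contains_iff_mem,
    Bool.or_eq_true] at h
  refine ⟨fun r hr => ?_, fun r hr s hs hne c hc => ((h r hr).2 s hs).elim
    (fun e => absurd e.symm hne) (fun h' => h' c hc)⟩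
  show tabD4.half ≤ r ∧ r < tabD4.n
  rw [half_eq, n_eq]; exact (h r hr).1

lemma rts_disjoint (i : Fin 2) : {r | r ∈ rts i} ∩ {r | r ∈ sfx ((six i).val + 1)} = ∅ := by
  have h : ∀ i : Fin 2, ((rts i).all fun r => !(sfx ((six i).val + 1)).contains r) = true := by
    decide +kernel
  have h' := h i
  simp only [List.all_eq_true, Bool.not_eq_true', List.contains_eq_mem, decide_eq_false_iff_not]
    at h'
  exact Set.eq_empty_iff_forall_notMem.2 fun r hr => h' r hr.1 hr.2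

/-- A predicate on the roots invariant under the symmetry. -/
def Inv (P : ℕ → Prop) : Prop := ∀ r < tabD4.n, (P r ↔ P (twistD4a.rt r))

lemma inv_pos : Inv fun r => tabD4.half ≤ r := by
  intro r hr
  have h := chkPerm 0
  simp only [List.all_eq_true, Bool.and_eq_true, beq_iff_eq, List.mem_range, decide_eq_decide] at h
  rw [n_eq] at hr
  show tabD4.half ≤ r ↔ tabD4.half ≤ _
  rw [half_eq]
  exact (h r hr).1.1

lemma inv_rts (j : Fin 2) : Inv fun r => r ∈ rts j := by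
  intro r hr
  have h := chkPerm j
  simp only [List.all_eq_true, Bool.and_eq_true, beq_iff_eq, List.mem_range] at h
  rw [n_eq] at hr
  show r ∈ rts j ↔ _ ∈ rts j
  rw [← List.contains_iff_mem, ← List.contains_iff_mem, (h r hr).1.2]

lemma pos_of_not_rts {i : Fin 2} {r : ℕ} (hr : r ∈ posSet tabD4) (hn : r ∉ rts i) :
    tabD4.half ≤ rword tabD4 (wd i) r := by
  have h := chkPerm i
  simp only [List.all_eq_true, Bool.and_eq_true, Bool.or_eq_true, decide_eq_true_eq,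
    List.contains_iff_mem, List.mem_range] at h
  obtain ⟨h1, h2⟩ : tabD4.half ≤ r ∧ r < tabD4.n := hr
  rw [half_eq] at h1 ⊢
  rw [n_eq] at h2
  rcases (h r h2).2 with (h3 | h3) | h3
  · omega
  · exact absurd h3 hn
  · exact h3

lemma wel_sq (k : Type*) [Field k] : wel k * wel k = dia (-1 : kˣ) := by
  refine Subtype.ext ?_
  rw [Matrix.SpecialLinearGroup.coe_mul, wel_val]
  simp only [dia]
  ext a b; fin_cases a <;> fin_cases b <;> simp [Matrix.mul_apply, Fin.sum_univ_two]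

lemma up_zero (k : Type*) [Field k] : up (0 : k) = 1 := by
  refine Subtype.ext ?_
  rw [TorusD4.up_val]
  ext a b; fin_cases a <;> fin_cases b <;> simp

variable (f : K →+* K) (hf : ∀ t, f t = t ^ q) (hK : Fintype.card K = q ^ 3)

/-- The simple root subgroups. -/
noncomputable def Xs (i : Fin 2) : Subgroup ↥(endoD4 f).fix :=
  Subgroup.closure {g | ∃ t, Par q (six i) t ∧ g = el f q (six i) t}

/-- The rank one subgroups. -/
noncomputable def LL (n : ↥(endoD4 f).fix) (i : Fin 2) : Subgroup ↥(endoD4 f).fix :=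
  Xs (q := q) f i ⊔ (Xs (q := q) f i).map (MulAut.conj n).toMonoidHom

/-- The monomial elements. -/
noncomputable def mon : Subgroup ↥(endoD4 f).fix :=
  (chevD4.monomialSubgroup K).subgroupOf (endoD4 f).fix

lemma U_eq : lay f 0 = (chevD4.posUnipotent K).subgroupOf (endoD4 f).fix := by
  rw [lay, sfx_zero, certD4.posUnipotent_eq]

lemma eq_one_of_neg {g : ↥(endoD4 f).fix} (hU : g ∈ lay f 0) {S : Set ℕ}
    (hS : ∀ r ∈ S, r < tabD4.half) (hg : (g : GL chevD4.Idx K) ∈ gen chevD4 K S) : g = 1 := by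
  rw [U_eq, Subgroup.mem_subgroupOf] at hU
  have h : (g : GL chevD4.Idx K) ∈ chevD4.borelSubgroup K ⊓ chevD4.negUnipotent K :=
    ⟨Subgroup.mem_sup_left hU, certD4.gen_neg_le hS hg⟩
  rw [certD4.borel_inf_negUnipotent, Subgroup.mem_bot] at h
  exact Subtype.ext h

lemma U_inf_mon {g : ↥(endoD4 f).fix} (hU : g ∈ lay f 0) (hm : g ∈ mon f) : g = 1 := by
  rw [U_eq, Subgroup.mem_subgroupOf] at hU
  have h : (g : GL chevD4.Idx K) ∈ chevD4.posUnipotent K ⊓ chevD4.monomialSubgroup K :=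
    ⟨hU, Subgroup.mem_subgroupOf.1 hm⟩
  rw [certD4.posUnipotent_inf_monomial, Subgroup.mem_bot] at h
  exact Subtype.ext h

lemma tor_le_mon : tor' f ≤ mon f :=
  Subgroup.comap_mono Cert.diagonal_le_monomial

lemma mon_perm {m : ↥(endoD4 f).fix} (hm : m ∈ mon f) :
    ∃ π : ℕ → ℕ, (∀ r < tabD4.n, π r < tabD4.n ∧ Maps chevD4 (m : GL chevD4.Idx K) r (π r) ∧
      π (tabD4.neg r) = tabD4.neg (π r)) ∧
      ∀ {P : ℕ → Prop}, Inv P → ∀ {i : Fin 2} {r : ℕ}, r ∈ rts i →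
        (P (π (orb (six i)).root) ↔ P (π r)) := by
  obtain ⟨w, hw, t, ht, e⟩ := certD4.exists_word_of_monomial (Subgroup.mem_subgroupOf.1 hm)
  have hM : ∀ r < tabD4.n, Maps chevD4 (m : GL chevD4.Idx K) r (rword tabD4 w r) := fun r hr => by
    rw [e]; exact Cert.Maps_mul (certD4.Maps_diagonal ht hr) (certD4.Maps_nW hw hr)
  have hc := (endoD4 f).comm_of_fix hw m.2 (Subgroup.mem_subgroupOf.1 hm) hM
  refine ⟨rword tabD4 w, fun r hr => ⟨certD4.rword_lt hw hr, hM r hr, certD4.rword_neg hw hr⟩,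
    fun {P} hP {i r} hr => ?_⟩
  obtain ⟨k, rfl⟩ := (rts_spec hr).2.2.2.2.2.1
  have hroot : (orb (six i)).root < tabD4.n := (rts_spec (root_mem_rts i)).1.2
  suffices twistD4a.rt^[k] (orb (six i)).root < tabD4.n ∧
      (P (rword tabD4 w (orb (six i)).root) ↔
        P (rword tabD4 w (twistD4a.rt^[k] (orb (six i)).root))) from this.2
  clear hr
  induction k with
  | zero => exact ⟨hroot, Iff.rfl⟩
  | succ k ih =>
    rw [Function.iterate_succ_apply']
    refine ⟨(endoD4 f).sym.lt _ ih.1, ih.2.trans ?_⟩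
    rw [hP _ (certD4.rword_lt hw ih.1)]
    exact iff_of_eq (congrArg P (hc _ ih.1))

include hf hK

omit hK in
lemma mem_Xs' (hK : Fintype.card K = q ^ 3) {i : Fin 2} {g : ↥(endoD4 f).fix} :
    g ∈ Xs (q := q) f i ↔ ∃ t, Par q (six i) t ∧ g = el f q (six i) t := by
  refine ⟨fun hg => ?_, fun h => Subgroup.subset_closure h⟩
  induction hg using Subgroup.closure_induction with
  | mem g hg => exact hg
  | one => exact ⟨0, par_zero f hf _, (el_zero f hf hK _).symm⟩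
  | mul a b _ _ iha ihb =>
    obtain ⟨s, hs, rfl⟩ := iha
    obtain ⟨t, ht, rfl⟩ := ihb
    exact ⟨s + t, par_add f hf hs ht, (el_add f hf hK hs ht).symm⟩
  | inv a _ iha =>
    obtain ⟨s, hs, rfl⟩ := iha
    exact ⟨-s, par_neg f hf hs, (el_neg f hf hK hs).symm⟩

lemma Xs_gen {i : Fin 2} {g : ↥(endoD4 f).fix} (hg : g ∈ Xs (q := q) f i) :
    (g : GL chevD4.Idx K) ∈ gen chevD4 K {r | r ∈ rts i} := by
  obtain ⟨t, ht, rfl⟩ := (mem_Xs' f hf hK).1 hg
  rw [coe_el f hf hK ht]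
  exact ev_mem_gen _ _ fun r hr => hr

lemma Xs_le (i : Fin 2) : Xs (q := q) f i ≤ lay f 0 := fun g hg => by
  obtain ⟨t, ht, rfl⟩ := (mem_Xs' f hf hK).1 hg
  exact el_mem f hf hK ht (Nat.zero_le _)

/-- A monomial element mapping one class to another maps the root subgroups. -/
lemma conj_Xs {i : Fin 2} {m x : ↥(endoD4 f).fix} {π : ℕ → ℕ}
    (hπ : ∀ r < tabD4.n, π r < tabD4.n ∧ Maps chevD4 (m : GL chevD4.Idx K) r (π r) ∧
      π (tabD4.neg r) = tabD4.neg (π r))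
    {S : Set ℕ} (hS : ∀ r ∈ rts i, π r ∈ S) (hx : x ∈ Xs (q := q) f i) :
    ((m * x * m⁻¹ : ↥(endoD4 f).fix) : GL chevD4.Idx K) ∈ gen chevD4 K S := by
  rw [Subgroup.coe_mul, Subgroup.coe_mul, Subgroup.coe_inv]
  exact conj_gen_le (fun r hr => ⟨_, hS r hr, (hπ r (rts_spec hr).1.2).2.1⟩) (Xs_gen f hf hK hx)

variable (hq : IsPrimePow q)
include hq

lemma fix_gen_Xs {i : Fin 2} {g : ↥(endoD4 f).fix}
    (hg : (g : GL chevD4.Idx K) ∈ gen chevD4 K {r | r ∈ rts i}) : g ∈ Xs (q := q) f i := by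
  have hl : g ∈ lay f (six i).val := Subgroup.mem_subgroupOf.2
    (gen_mono _ (fun r hr => (rts_spec hr).2.2.2.2.1) hg)
  obtain ⟨t, ht, h1⟩ := exists_coord f hf hK hq (six i) hl
  have he : (el f q (six i) t : GL chevD4.Idx K) ∈ gen chevD4 K {r | r ∈ rts i} := by
    rw [coe_el f hf hK ht]; exact ev_mem_gen _ _ fun r hr => hr
  have h2 := certD4.gen_inter (fun r hr => (rts_spec hr).1) (rts_closed i)
    (sfx_spec (show (six i).val + 1 < 7 by omega)).1 (sfx_spec (by omega)).2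
    (g := (((el f q (six i) t)⁻¹ * g : ↥(endoD4 f).fix) : GL chevD4.Idx K))
    (by rw [Subgroup.coe_mul, Subgroup.coe_inv]; exact mul_mem (inv_mem he) hg)
    (Subgroup.mem_subgroupOf.1 h1)
  replace h2 := gen_mono _ (S' := (∅ : Set ℕ))
    (fun r hr => ((Set.eq_empty_iff_forall_notMem.1 (rts_disjoint i)) r hr).elim) h2
  rw [show gen chevD4 K (∅ : Set ℕ) = ⊥ by simp [gen], Subgroup.mem_bot] at h2
  refine (mem_Xs' f hf hK).2 ⟨t, ht, ?_⟩
  exact (inv_mul_eq_one.1 (Subtype.ext h2)).symm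

omit hq in
/-- An element of the torus is one of the elements `tel`. -/
lemma exists_tel {g : ↥(endoD4 f).fix} (hg : g ∈ tor' f) :
    ∃ v u : Kˣ, u ^ q = u ∧ g = tel f q v u := by
  obtain ⟨c, hc, hz⟩ := (endoD4 f).exists_param
    (g := (g : GL chevD4.Idx K)) ⟨g.2, Subgroup.mem_subgroupOf.1 hg⟩
  obtain ⟨c', hc', e⟩ := exists_fix_paramD4 f hf (pow_cubeD4 hK) hz
  obtain ⟨h1, h2, h3⟩ := fix_paramD4_eq f hf hc'
  refine ⟨c' ⟨0, by decide⟩, c' ⟨1, by decide⟩, h1, Subtype.ext ?_⟩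
  rw [coe_tel f hf hK h1, ← hc, ← e, th]
  congr 1
  funext i
  obtain ⟨i, hi⟩ := i
  have hi' : i < 4 := hi
  interval_cases i
  · rfl
  · rfl
  · exact h2
  · exact h3.trans (congrArg (· ^ q) h2)

omit hq in
lemma tor_Xs {i : Fin 2} {g x : ↥(endoD4 f).fix} (hg : g ∈ tor' f) (hx : x ∈ Xs (q := q) f i) :
    g * x * g⁻¹ ∈ Xs (q := q) f i := by
  obtain ⟨v, u, hu, rfl⟩ := exists_tel f hf hK hg
  obtain ⟨t, ht, rfl⟩ := (mem_Xs' f hf hK).1 hx
  exact (mem_Xs' f hf hK).2 ⟨_, par_mul (chi_par hK hu _) ht, tel_conj f hf hK hu ht⟩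

section RankOne

variable {k : Type*} [Field k] {i : Fin 2} (R : Rk f q (six i) (wd i) k)

omit hq in
lemma rk_up (t : k) : R.φ (up t) ∈ Xs (q := q) f i :=
  (mem_Xs' f hf hK).2 ⟨_, R.par t, R.up_eq t⟩

omit hq in
lemma rk_Xs {x : ↥(endoD4 f).fix} (hx : x ∈ Xs (q := q) f i) : ∃ t, x = R.φ (up t) := by
  obtain ⟨t, ht, rfl⟩ := (mem_Xs' f hf hK).1 hx
  obtain ⟨s, rfl⟩ := R.onto t ht
  exact ⟨s, (R.up_eq s).symm⟩

omit hq in
lemma rk_range : LL (q := q) f (R.φ (wel k)) i = R.φ.range := by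
  refine le_antisymm (sup_le (fun x hx => ?_) ?_) ?_
  · obtain ⟨t, rfl⟩ := rk_Xs f hf hK R hx
    exact ⟨_, rfl⟩
  · rintro _ ⟨x, hx, rfl⟩
    obtain ⟨t, rfl⟩ := rk_Xs f hf hK R hx
    exact ⟨wel k * up t * (wel k)⁻¹, by simp⟩
  · rw [MonoidHom.range_eq_map, ← sl2_closure (H := (LL (q := q) f (R.φ (wel k)) i).comap R.φ)
      (fun t => Subgroup.mem_sup_left (rk_up f hf hK R t))
      (fun t => Subgroup.mem_sup_right ⟨_, rk_up f hf hK R (-t), ?_⟩)]
    · exact Subgroup.map_comap_le _ _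
    · simp [wel_mul_low t]

omit hq in
lemma rk_sq : R.φ (wel k) * R.φ (wel k) ∈ tor' f := by
  rw [← map_mul, wel_sq]; exact R.diag_mem _

omit hq in
lemma rk_bru {x : ↥(endoD4 f).fix} (hx : x ∈ Xs (q := q) f i) :
    ∃ a ∈ Xs (q := q) f i, ∃ b ∈ Xs (q := q) f i, ∃ h ∈ tor' f,
      R.φ (wel k) * x * R.φ (wel k) = a * h * b ∨
        R.φ (wel k) * x * R.φ (wel k) = a * h * R.φ (wel k) * b := by
  obtain ⟨t, rfl⟩ := rk_Xs f hf hK R hx
  rw [← map_mul, ← map_mul]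
  rcases sl2_cases (wel k * up t * wel k) with ⟨e, y, hM⟩ | ⟨y, z, e, hM⟩
  · exact ⟨_, rk_up f hf hK R 0, _, rk_up f hf hK R y, _, R.diag_mem e,
      Or.inl (by rw [hM, up_zero, map_one, one_mul, map_mul])⟩
  · exact ⟨_, rk_up f hf hK R y, _, rk_up f hf hK R z, _, R.diag_mem e,
      Or.inr (by rw [hM, map_mul, map_mul, map_mul])⟩

omit hq in
lemma rk_mon {g : ↥(endoD4 f).fix} (hg : g ∈ LL (q := q) f (R.φ (wel k)) i) (hm : g ∈ mon f) :
    (∃ e, g = R.φ (dia e)) ∨ (R.φ (wel k))⁻¹ * g ∈ tor' f := by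
  rw [rk_range f hf hK R] at hg
  obtain ⟨M, rfl⟩ := hg
  rcases sl2_cases M with ⟨e, y, rfl⟩ | ⟨y, z, e, rfl⟩
  · refine Or.inl ⟨e, ?_⟩
    have h1 : R.φ (up y) = (R.φ (dia e))⁻¹ * R.φ (dia e * up y) := by
      rw [map_mul, inv_mul_cancel_left]
    have h2 := U_inf_mon f (Xs_le f hf hK i (rk_up f hf hK R y))
      (h1 ▸ mul_mem (inv_mem (tor_le_mon f (R.diag_mem e))) hm)
    rw [map_mul, h2, mul_one]
  · refine Or.inr ?_
    have hU : ∀ t, (R.φ (up t) : GL chevD4.Idx K) ∈ chevD4.posUnipotent K := fun t => by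
      have := Xs_le f hf hK i (rk_up f hf hK R t)
      rwa [U_eq, Subgroup.mem_subgroupOf] at this
    have hb : (R.φ (up y * dia e) : GL chevD4.Idx K) ∈ chevD4.borelSubgroup K := by
      rw [map_mul, Subgroup.coe_mul]
      exact mul_mem (Subgroup.mem_sup_left (hU y))
        (Subgroup.mem_sup_right (Subgroup.mem_subgroupOf.1 (R.diag_mem e)))
    have hc : (R.φ (up z) : GL chevD4.Idx K) ∈
        cellUnipotent chevD4 K (R.φ (wel k) : GL chevD4.Idx K) := by
      rw [certD4.cellUnipotent_eq (π := rword tabD4 (wd i)) fun r hr =>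
        ⟨certD4.rword_lt (wd_ok i) hr, R.wel_maps r hr⟩]
      exact gen_mono _ (fun r hr => And.intro (rts_spec hr).1 (not_le.2 (rts_spec hr).2.2.1))
        (Xs_gen f hf hK (rk_up f hf hK R z))
    have h1 := (certD4.bruhat_unique hb (one_mem _) R.wel_mon (Subgroup.mem_subgroupOf.1 hm) hc
      (one_mem _) (by simp [map_mul, mul_assoc])).1
    exact h1

omit hq in
lemma rk_neg : ∃ x ∈ Xs (q := q) f i, R.φ (wel k) * x * (R.φ (wel k))⁻¹ ∉ lay f 0 := by
  refine ⟨el f q (six i) 1, (mem_Xs' f hf hK).2 ⟨1, par_one _, rfl⟩, fun hU => ?_⟩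
  have hg := conj_gen_le (g := (R.φ (wel k) : GL chevD4.Idx K)) (S' := {r | r < tabD4.half})
    (fun r hr => ⟨_, (rts_spec hr).2.2.1, R.wel_maps r (rts_spec hr).1.2⟩)
    (Xs_gen f hf hK ((mem_Xs' f hf hK).2 ⟨1, par_one _, rfl⟩ : el f q (six i) (1 : K) ∈ _))
  have h1 := eq_one_of_neg f hU (S := {r | r < tabD4.half}) (fun r hr => hr)
    (by simpa using hg)
  rw [conj_eq_one_iff] at h1
  exact one_ne_zero (el_eq_zero f hf hK (par_one (K := K) (six i))
    (by rw [h1]; exact one_mem _))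

omit hq in
/-- The torus of a rank one subgroup. -/
lemma card_rk_tor [Finite k] :
    Nat.card ↥(LL (q := q) f (R.φ (wel k)) i ⊓ tor' f) ≤ Nat.card kˣ := by
  let F : kˣ → ↥(LL (q := q) f (R.φ (wel k)) i ⊓ tor' f) := fun e =>
    ⟨R.φ (dia e), by rw [rk_range f hf hK R]; exact ⟨_, rfl⟩, R.diag_mem e⟩
  refine Nat.card_le_card_of_surjective F ?_
  rintro ⟨g, hgL, hgH⟩
  rcases rk_mon f hf hK R hgL (tor_le_mon f hgH) with ⟨e, rfl⟩ | h
  · exact ⟨e, rfl⟩
  · exfalso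
    obtain ⟨x, hx, hneg⟩ := rk_neg f hf hK R
    have hn : R.φ (wel k) ∈ tor' f := by simpa using (tor' f).mul_mem hgH ((tor' f).inv_mem h)
    exact hneg (lay_conj f hn (Xs_le f hf hK i hx))

end RankOne

/-- The representatives. -/
noncomputable def rep : Fin 2 → ↥(endoD4 f).fix :=
  ![(rkA f hf hK).φ (wel K), (rkB f hf hK).φ (wel ↥(fixFld f))]

omit hq in
lemma rep_maps : ∀ i : Fin 2, ∀ r < tabD4.n,
    Maps chevD4 (rep f hf hK i : GL chevD4.Idx K) r (rword tabD4 (wd i) r) :=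
  Fin.forall_fin_two.2 ⟨(rkA f hf hK).wel_maps, (rkB f hf hK).wel_maps⟩

omit hq in
lemma rep_mon : ∀ i : Fin 2, rep f hf hK i ∈ mon f :=
  Fin.forall_fin_two.2 ⟨(rkA f hf hK).wel_mon, (rkB f hf hK).wel_mon⟩

omit hq in
lemma rep_sq : ∀ i : Fin 2, rep f hf hK i * rep f hf hK i ∈ tor' f :=
  Fin.forall_fin_two.2 ⟨rk_sq f hf hK (i := 0) (rkA f hf hK), rk_sq f hf hK (i := 1) (rkB f hf hK)⟩

omit hq in
lemma rep_mem : ∀ i : Fin 2, rep f hf hK i ∈ LL (q := q) f (rep f hf hK i) i :=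
  Fin.forall_fin_two.2 ⟨(rk_range f hf hK (i := 0) (rkA f hf hK)).ge ⟨_, rfl⟩,
    (rk_range f hf hK (i := 1) (rkB f hf hK)).ge ⟨_, rfl⟩⟩

omit hq in
lemma mon_of_mem {g : ↥(endoD4 f).fix}
    (hg : g ∈ tor' f ⊔ Subgroup.closure (Set.range (rep f hf hK))) : g ∈ mon f :=
  sup_le (tor_le_mon f) ((Subgroup.closure_le _).2 (by
    rintro _ ⟨i, rfl⟩; exact rep_mon f hf hK i)) hg

omit hq in
theorem split_dich {m : ↥(endoD4 f).fix} (hm : m ∈ mon f) (i : Fin 2) :
    (∀ x ∈ Xs (q := q) f i, m * x * m⁻¹ ∈ lay f 0) ∨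
      ∀ x ∈ Xs (q := q) f i, m * rep f hf hK i * x * (m * rep f hf hK i)⁻¹ ∈ lay f 0 := by
  obtain ⟨π, hπ, horb⟩ := mon_perm f hm
  by_cases hp : tabD4.half ≤ π (orb (six i)).root
  · refine Or.inl fun x hx => ?_
    rw [U_eq, Subgroup.mem_subgroupOf, certD4.posUnipotent_eq]
    exact conj_Xs f hf hK hπ (fun r hr => ⟨(horb inv_pos hr).1 hp,
      (hπ r (rts_spec hr).1.2).1⟩) hx
  · refine Or.inr fun x hx => ?_
    rw [U_eq, Subgroup.mem_subgroupOf, certD4.posUnipotent_eq, Subgroup.coe_mul, Subgroup.coe_mul,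
      Subgroup.coe_inv, Subgroup.coe_mul]
    refine conj_gen_le (fun r hr => ?_) (Xs_gen f hf hK hx)
    have hlt := (rts_spec hr).1.2
    refine ⟨tabD4.neg (π r), ⟨(certD4.half_le_neg_iff (hπ r hlt).1).2
      (not_le.1 fun h => hp ((horb inv_pos hr).2 h)), Cert.neg_lt (T := tabD4) (hπ r hlt).1⟩, ?_⟩
    have h2 := rep_maps f hf hK i r hlt
    rw [(rts_spec hr).2.1] at h2
    rw [← (hπ r hlt).2.2]
    exact Cert.Maps_mul h2 (hπ _ (Cert.neg_lt (T := tabD4) hlt)).2.1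

theorem split_uniq {m : ↥(endoD4 f).fix} (hm : m ∈ mon f) (i j : Fin 2)
    (h1 : ∀ x ∈ Xs (q := q) f i, m * x * m⁻¹ ∈ lay f 0)
    (h2 : ∃ x ∈ Xs (q := q) f i, rep f hf hK j * m * x * (rep f hf hK j * m)⁻¹ ∉ lay f 0)
    {g : ↥(endoD4 f).fix} (hg : g ∈ LL (q := q) f (rep f hf hK i) i) :
    m * g * m⁻¹ ∈ LL (q := q) f (rep f hf hK j) j := by
  obtain ⟨π, hπ, horb⟩ := mon_perm f hm
  have hlt : ∀ {r}, r ∈ rts i → r < tabD4.n := fun hr => (rts_spec hr).1.2
  have hpos : ∀ r ∈ rts i, tabD4.half ≤ π r := by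
    intro r hr
    by_contra hn
    have hneg : ∀ s ∈ rts i, π s < tabD4.half := fun s hs =>
      not_le.1 fun h => hn ((horb inv_pos hr).1 ((horb inv_pos hs).2 h))
    have hx : el f q (six i) (1 : K) ∈ Xs (q := q) f i := (mem_Xs' f hf hK).2 ⟨1, par_one _, rfl⟩
    have h3 := eq_one_of_neg f (h1 _ hx) (S := {r | r < tabD4.half}) (fun r hr => hr)
      (conj_Xs f hf hK hπ hneg hx)
    rw [conj_eq_one_iff] at h3
    exact one_ne_zero (el_eq_zero f hf hK (par_one (K := K) (q := q) (six i))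
      (by rw [h3]; exact one_mem _))
  have hto : ∀ r ∈ rts i, π r ∈ rts j := by
    intro r hr
    by_contra hn
    obtain ⟨x, hx, hneg⟩ := h2
    refine hneg ?_
    rw [U_eq, Subgroup.mem_subgroupOf, certD4.posUnipotent_eq, Subgroup.coe_mul, Subgroup.coe_mul,
      Subgroup.coe_inv, Subgroup.coe_mul]
    refine conj_gen_le (fun s hs => ?_) (Xs_gen f hf hK hx)
    refine ⟨rword tabD4 (wd j) (π s), ⟨pos_of_not_rts ⟨hpos s hs, (hπ s (hlt hs)).1⟩
      fun h => hn ((horb (inv_rts j) hr).1 ((horb (inv_rts j) hs).2 h)),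
      certD4.rword_lt (wd_ok j) (hπ s (hlt hs)).1⟩,
      Cert.Maps_mul (hπ s (hlt hs)).2.1 (rep_maps f hf hK j _ (hπ s (hlt hs)).1)⟩
  have hX : ∀ x ∈ Xs (q := q) f i, m * x * m⁻¹ ∈ Xs (q := q) f j := fun x hx =>
    fix_gen_Xs f hf hK hq (conj_Xs f hf hK hπ hto hx)
  have hle : LL (q := q) f (rep f hf hK i) i ≤
      (LL (q := q) f (rep f hf hK j) j).comap (MulAut.conj m).toMonoidHom := by
    refine sup_le (fun x hx => ?_) ?_
    · exact Subgroup.mem_sup_left (hX x hx)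
    · rintro _ ⟨x, hx, rfl⟩
      simp only [Subgroup.mem_comap, MulEquiv.coe_toMonoidHom, MulAut.conj_apply]
      set y := m * (rep f hf hK i * x * (rep f hf hK i)⁻¹) * m⁻¹ with hy
      have hz : rep f hf hK j * y * (rep f hf hK j)⁻¹ ∈ Xs (q := q) f j := by
        refine fix_gen_Xs f hf hK hq ?_
        rw [hy, show rep f hf hK j * (m * (rep f hf hK i * x * (rep f hf hK i)⁻¹) * m⁻¹) *
          (rep f hf hK j)⁻¹ = (rep f hf hK j * m * rep f hf hK i) * x *
            (rep f hf hK j * m * rep f hf hK i)⁻¹ by group]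
        simp only [Subgroup.coe_mul, Subgroup.coe_inv]
        refine conj_gen_le (fun s hs => ⟨π s, hto s hs, ?_⟩) (Xs_gen f hf hK hx)
        have e1 := rep_maps f hf hK i s (hlt hs)
        rw [(rts_spec hs).2.1] at e1
        have e2 := (hπ _ (Cert.neg_lt (T := tabD4) (hlt hs))).2.1
        rw [(hπ s (hlt hs)).2.2] at e2
        have e3 := rep_maps f hf hK j _ (Cert.neg_lt (T := tabD4) (hπ s (hlt hs)).1)
        rw [(rts_spec (hto s hs)).2.2.2.1] at e3
        have e4 := Cert.Maps_mul (Cert.Maps_mul e1 e2) e3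
        rwa [← mul_assoc] at e4
      have h4 := mul_mem (mul_mem (inv_mem (rep_mem f hf hK j)) (Subgroup.mem_sup_left hz))
        (rep_mem f hf hK j)
      rwa [show (rep f hf hK j)⁻¹ * (rep f hf hK j * y * (rep f hf hK j)⁻¹) * rep f hf hK j = y by
        group] at h4
  exact hle hg

theorem split_decomp : ∀ i : Fin 2, ∀ u ∈ lay f 0, ∃ a ∈ lay f 0, ∃ b ∈ Xs (q := q) f i,
    u = a * b ∧ rep f hf hK i * a * (rep f hf hK i)⁻¹ ∈ lay f 0 := by
  have h := chkDec
  simp only [Bool.and_eq_true, List.all_eq_true, decide_eq_true_eq, Bool.or_eq_true,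
    List.mem_range] at h
  obtain ⟨⟨⟨⟨⟨hd1, hd2⟩, hd3⟩, hd4⟩, hc1⟩, hc0⟩ := h
  have hconj : ∀ i : Fin 2, ∀ {a : ↥(endoD4 f).fix} {S : Set ℕ},
      (∀ r ∈ S, r < tabD4.n ∧ tabD4.half ≤ rword tabD4 (wd i) r) →
      (a : GL chevD4.Idx K) ∈ gen chevD4 K S →
      rep f hf hK i * a * (rep f hf hK i)⁻¹ ∈ lay f 0 := by
    intro i a S hS ha
    rw [U_eq, Subgroup.mem_subgroupOf, certD4.posUnipotent_eq, Subgroup.coe_mul, Subgroup.coe_mul,
      Subgroup.coe_inv]
    exact conj_gen_le (fun r hr => ⟨rword tabD4 (wd i) r, And.intro (hS r hr).2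
      (certD4.rword_lt (wd_ok i) (hS r hr).1), rep_maps f hf hK i r (hS r hr).1⟩) ha
  have hnorm : ∀ {g m : ↥(endoD4 f).fix} {j k : List ℕ}, chkCommGen tabD4 j k k = true →
      (g : GL chevD4.Idx K) ∈ gen chevD4 K {r | r ∈ j} →
      (m : GL chevD4.Idx K) ∈ gen chevD4 K {r | r ∈ k} →
      ((g * m * g⁻¹ : ↥(endoD4 f).fix) : GL chevD4.Idx K) ∈ gen chevD4 K {r | r ∈ k} := by
    intro g m j k hc hg hm
    have h3 := mul_mem (certD4.commutator_mem_gen hc hg hm) hm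
    simpa [commutatorElement_def] using h3
  refine Fin.forall_fin_two.2 ⟨fun u hu => ?_, fun u hu => ?_⟩
  · obtain ⟨t, ht, hc⟩ := exists_coord f hf hK hq 0 hu
    have he := el_mem f hf hK ht (j := 0) (Nat.zero_le _)
    have ha : ((el f q 0 t * ((el f q 0 t)⁻¹ * u) * (el f q 0 t)⁻¹ : ↥(endoD4 f).fix) :
        GL chevD4.Idx K) ∈ gen chevD4 K {r | r ∈ sfx 1} :=
      hnorm hc0 (Subgroup.mem_subgroupOf.1 he) (Subgroup.mem_subgroupOf.1 hc)
    refine ⟨el f q 0 t * ((el f q 0 t)⁻¹ * u) * (el f q 0 t)⁻¹,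
      lay_anti f (Nat.zero_le 1) (Subgroup.mem_subgroupOf.2 ha), el f q 0 t,
      (mem_Xs' f hf hK).2 ⟨t, ht, rfl⟩, by group, hconj 0 (fun r hr => ?_) ha⟩
    obtain ⟨h1, h2⟩ := hd1 r hr
    exact ⟨n_eq.symm ▸ h2, half_eq.symm ▸ h1⟩
  · obtain ⟨t, ht, hc⟩ := exists_coord f hf hK hq 0 hu
    obtain ⟨s, hs, hd⟩ := exists_coord f hf hK hq 1 (n := (el f q 0 t)⁻¹ * u) hc
    set d := (el f q 1 s)⁻¹ * ((el f q 0 t)⁻¹ * u) with hddef
    set a := el f q 0 t * (el f q 1 s * d * (el f q 1 s)⁻¹) with hadef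
    have hS : ∀ r, (r ∈ ([18, 13, 12] : List ℕ) ∨ r ∈ sfx 2) → r ∈ posSet tabD4 ∧ r ≠ 14 := by
      rintro r (hr | hr)
      · refine ⟨?_, hd4 r hr⟩
        show tabD4.half ≤ r ∧ r < tabD4.n
        rw [half_eq, n_eq]
        simp only [List.mem_cons, List.not_mem_nil, or_false] at hr
        rcases hr with rfl | rfl | rfl <;> omega
      · exact ⟨(sfx_spec (by omega)).1 hr, hd2 r hr⟩
    have ha : (a : GL chevD4.Idx K) ∈ gen chevD4 K {r | r ∈ posSet tabD4 ∧ r ≠ 14} := by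
      rw [hadef, Subgroup.coe_mul]
      refine mul_mem ?_ (gen_mono _ (fun r hr => hS r (Or.inr hr))
        (hnorm hc1 ?_ (Subgroup.mem_subgroupOf.1 hd)))
      · rw [coe_el f hf hK ht]
        exact ev_mem_gen _ _ fun r hr => hS r (Or.inl (by
          have e : (orb 0).list twistD4a.rt = [18, 13, 12] := by decide +kernel
          rwa [e] at hr))
      · exact Subgroup.mem_subgroupOf.1 (el_mem f hf hK hs (j := 1) le_rfl)
    refine ⟨a, ?_, el f q 1 s, (mem_Xs' f hf hK).2 ⟨s, hs, rfl⟩, by rw [hadef, hddef]; group,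
      hconj 1 (fun r hr => ⟨hr.1.2, ?_⟩) ha⟩
    · rw [U_eq, Subgroup.mem_subgroupOf, certD4.posUnipotent_eq]
      exact gen_mono _ (fun r hr => hr.1) ha
    · obtain ⟨⟨h1, h2⟩, h3⟩ := hr
      rw [half_eq] at h1 ⊢
      rw [n_eq] at h2
      rcases hd3 r h2 with (h4 | h4) | h4
      · omega
      · exact absurd h4 h3
      · exact h4

omit hq in
theorem split_gen (hq : IsPrimePow q) : (⨆ i, LL (q := q) f (rep f hf hK i) i) = ⊤ := by
  set M := ⨆ i, LL (q := q) f (rep f hf hK i) i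
  have hA : ∀ x, (rkA f hf hK).φ x ∈ M := fun x =>
    le_iSup (fun i => LL (q := q) f (rep f hf hK i) i) 0
      ((rk_range f hf hK (i := 0) (rkA f hf hK)).ge ⟨x, rfl⟩)
  have hB : ∀ x, (rkB f hf hK).φ x ∈ M := fun x =>
    le_iSup (fun i => LL (q := q) f (rep f hf hK i) i) 1
      ((rk_range f hf hK (i := 1) (rkB f hf hK)).ge ⟨x, rfl⟩)
  refine eq_top_iff.2 fun g _ => ?_
  suffices (endoD4 f).fix ≤ M.map (endoD4 f).fix.subtype by
    obtain ⟨g', hg', e⟩ := this g.2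
    rwa [← Subtype.ext e]
  refine (fix_eq_twistedD4 f hf hK hq).le.trans ?_
  refine certD4.genSubgroup_le ?_
  rintro w (⟨t, ht, r, hr, rfl⟩ | ⟨t, rs, hrs, rfl⟩)
  · simp only [List.map_cons, List.map_nil, List.prod_cons, List.prod_nil, mul_one]
    simp only [List.mem_cons, List.not_mem_nil, or_false] at hr
    have htk : t ∈ fixFld f := (mem_fixFld f hf).2 ht
    rcases hr with rfl | rfl
    · refine ⟨_, hB (up ⟨t, htk⟩), ?_⟩
      show mid f _ = _
      rw [mid_up f hf]; simp [ev, word, d4p2]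
    · refine ⟨_, hB (low ⟨t, htk⟩), ?_⟩
      show mid f _ = _
      rw [mid_low]
  · rw [chevD4_prod_triple, show t ^ q ^ 2 = (t ^ q) ^ q by rw [← pow_mul, sq]]
    simp only [List.mem_cons, List.not_mem_nil, or_false] at hrs
    rcases hrs with rfl | rfl
    · refine ⟨_, hA (up t), ?_⟩
      show tri f _ = _
      rw [tri_up f hf hK]; simp [ev, word, d4p1, d4p3, d4p4, mul_assoc]
    · refine ⟨_, hA (low t), ?_⟩
      show tri f _ = _
      rw [tri_low f hf hK]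

omit hq in
theorem split_H_le : tor' f ≤ ⨆ i, LL (q := q) f (rep f hf hK i) i ⊓ tor' f := by
  intro g hg
  obtain ⟨v, u, hu, rfl⟩ := exists_tel f hf hK hg
  have huk : (u : K) ∈ fixFld f := (mem_fixFld f hf).2 (by rw [← Units.val_pow_eq_pow_val, hu])
  set u' : (↥(fixFld f))ˣ := Units.mk0 ⟨u, huk⟩ (fun e => u.ne_zero (congrArg Subtype.val e))
  have hu' : Units.map (fixFld f).subtype.toMonoidHom u' = u := Units.ext rfl
  rw [show tel f q v u = (rkA f hf hK).φ (dia v) * (rkB f hf hK).φ (dia u') from ?_]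
  · refine mul_mem ?_ ?_
    · exact le_iSup (fun i => LL (q := q) f (rep f hf hK i) i ⊓ tor' f) 0
        ⟨(rk_range f hf hK (i := 0) (rkA f hf hK)).ge ⟨_, rfl⟩, (rkA f hf hK).diag_mem v⟩
    · exact le_iSup (fun i => LL (q := q) f (rep f hf hK i) i ⊓ tor' f) 1
        ⟨(rk_range f hf hK (i := 1) (rkB f hf hK)).ge ⟨_, rfl⟩, (rkB f hf hK).diag_mem u'⟩
  · refine Subtype.ext ?_
    rw [coe_tel f hf hK hu, Subgroup.coe_mul]
    show _ = tri f (dia v) * mid f (dia u')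
    rw [tri_dia f hf hK, mid_dia f hf, hu', th, th, th, ← map_mul]
    congr 1
    funext i
    obtain ⟨i, hi⟩ := i
    have hi' : i < 4 := hi
    interval_cases i <;> simp [par]

variable {p : ℕ} (hp : p.Prime) (hpq : p ∣ q)

omit hq in
lemma isPGroup_U (hq : IsPrimePow q) (hp : p.Prime) (hpq : p ∣ q) : IsPGroup p ↥(lay f 0) := by
  obtain ⟨r, e, hr, he, rfl⟩ := hq
  have hrp : r.Prime := Nat.prime_iff.2 hr
  obtain rfl : p = r := (Nat.prime_dvd_prime_iff_eq hp hrp).1 (hp.dvd_of_dvd_pow hpq)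
  haveI := Fact.mk hp
  refine IsPGroup.of_card (n := e * 12) ?_
  rw [U_eq, ← Subgroup.inf_subgroupOf_left,
    Nat.card_congr (Subgroup.subgroupOfEquivOfLe inf_le_left).toEquiv,
    card_posD4 f hf hK ⟨p, e, hr, he, rfl⟩, ← pow_mul]

/-- The split decomposition. -/
noncomputable def split (hp : p.Prime) (hpq : p ∣ q) :
    SplitBN ↥(endoD4 f).fix (Fin 2) p where
  U := lay f 0
  H := tor' f
  n := rep f hf hK
  X := Xs (q := q) f
  pU := isPGroup_U f hf hK hq hp hpq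
  X_le := Xs_le f hf hK
  H_U _ hh _ hu := lay_conj f hh hu
  H_X i _ hh _ hx := tor_Xs f hf hK hh hx
  n_H i h hh := by
    rw [tor', Subgroup.mem_subgroupOf] at hh ⊢
    exact (Subgroup.mem_normalizer_iff.1
      (certD4.monomial_le_normalizer_diagonal (rep_mon f hf hK i)) _).1 hh
  n_sq := rep_sq f hf hK
  n_mem := rep_mem f hf hK
  decomp := split_decomp f hf hK hq
  bru := Fin.forall_fin_two.2 ⟨fun _ => rk_bru f hf hK (i := 0) (rkA f hf hK),
    fun _ => rk_bru f hf hK (i := 1) (rkB f hf hK)⟩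
  dich m hm i := split_dich f hf hK (mon_of_mem f hf hK hm) i
  neg := Fin.forall_fin_two.2 ⟨rk_neg f hf hK (i := 0) (rkA f hf hK),
    rk_neg f hf hK (i := 1) (rkB f hf hK)⟩
  uniq m hm i j h1 h2 g hg := split_uniq f hf hK hq (mon_of_mem f hf hK hm) i j h1 h2 hg
  L_N := Fin.forall_fin_two.2
    ⟨fun g hg hN => (rk_mon f hf hK (i := 0) (rkA f hf hK) hg (mon_of_mem f hf hK hN)).imp_left
      (by rintro ⟨e, rfl⟩; exact (rkA f hf hK).diag_mem e),
    fun g hg hN => (rk_mon f hf hK (i := 1) (rkB f hf hK) hg (mon_of_mem f hf hK hN)).imp_left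
      (by rintro ⟨e, rfl⟩; exact (rkB f hf hK).diag_mem e)⟩
  U_N := (Subgroup.eq_bot_iff_forall _).2 fun g hg =>
    U_inf_mon f hg.1 (mon_of_mem f hf hK hg.2)
  gen := split_gen f hf hK hq
  H_le := split_H_le f hf hK

end CfsgLib.Chev.D4Root
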