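import Cfsg.Agent.Lib.Chev.Twist
import Cfsg.Agent.Lib.Chev.All

/-!
The twists of the types B2, G2, D4, F4 and E6 (generated data, checked by the kernel).
-/

set_option autoImplicit false
set_option maxRecDepth 100000

namespace CfsgLib.Chev

open Cfsg.Lie

/-- Twist of type E6. -/
def twistE6 : Twist where
  src := [0, 1, 2, 3, 4, 5, 6, 7, 8, 9, 10, 11, 12, 13, 14, 15, 16, 17, 18, 19, 20, 21, 22, 23,
      24, 25, 26, 27, 28, 29, 30, 31, 32, 33, 34, 35, 36, 37, 38, 39, 40, 41, 42, 43, 44, 45, 46, 47,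
      48, 49, 50, 51, 52, 53, 54, 55, 56, 57, 58, 59, 60, 61, 62, 63, 64, 65, 66, 67, 68, 69, 70, 71,
      72, 73, 74, 75, 76, 77]
  img := [0, 1, 2, 5, 16, 3, 6, 17, 8, 19, 22, 11, 26, 30, 33, 35, 4, 7, 18, 9, 20, 23, 10, 21,
      24, 25, 12, 27, 31, 34, 13, 28, 32, 14, 29, 15, 56, 42, 57, 39, 43, 58, 37, 40, 44, 59, 46, 47,
      50, 61, 48, 51, 62, 53, 64, 67, 36, 38, 41, 45, 60, 49, 52, 63, 54, 65, 68, 55, 66, 69, 70, 71,
      77, 73, 76, 75, 74, 72]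
  sgn := [1, 1, 1, 1, (-1), 1, 1, (-1), 1, (-1), (-1), 1, (-1), 1, (-1), 1, (-1), (-1), 1, (-1), 1, 1, (-1), 1,
      1, 1, (-1), 1, (-1), 1, 1, (-1), 1, (-1), 1, 1, 1, 1, (-1), 1, (-1), 1, 1, (-1), 1, (-1), 1, 1,
      1, (-1), 1, 1, (-1), 1, (-1), (-1), 1, (-1), 1, (-1), 1, (-1), (-1), 1, (-1), 1, 1, (-1), 1, 1, 1, 1,
      1, 1, 1, 1, 1, 1]
  rho := [0, 1, 2, 5, 16, 3, 6, 17, 8, 19, 22, 11, 26, 30, 33, 35, 4, 7, 18, 9, 20, 23, 10, 21,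
      24, 25, 12, 27, 31, 34, 13, 28, 32, 14, 29, 15, 56, 42, 57, 39, 43, 58, 37, 40, 44, 59, 46, 47,
      50, 61, 48, 51, 62, 53, 64, 67, 36, 38, 41, 45, 60, 49, 52, 63, 54, 65, 68, 55, 66, 69, 70, 71]
  deg := [1, 1, 1, 1, 1, 1, 1, 1, 1, 1, 1, 1, 1, 1, 1, 1, 1, 1, 1, 1, 1, 1, 1, 1,
      1, 1, 1, 1, 1, 1, 1, 1, 1, 1, 1, 1, 1, 1, 1, 1, 1, 1, 1, 1, 1, 1, 1, 1,
      1, 1, 1, 1, 1, 1, 1, 1, 1, 1, 1, 1, 1, 1, 1, 1, 1, 1, 1, 1, 1, 1, 1, 1]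
  eps := [1, 1, 1, 1, (-1), 1, 1, (-1), 1, (-1), (-1), 1, (-1), 1, (-1), 1, (-1), (-1), 1, (-1), 1, 1, (-1), 1,
      1, 1, (-1), 1, (-1), 1, 1, (-1), 1, (-1), 1, 1, 1, 1, (-1), 1, (-1), 1, 1, (-1), 1, (-1), 1, 1,
      1, (-1), 1, 1, (-1), 1, (-1), (-1), 1, (-1), 1, (-1), 1, (-1), (-1), 1, (-1), 1, 1, (-1), 1, 1, 1, 1]

theorem chkTwistE6 : twistE6.chk tabE6 0 = true := by
  decide +kernel

theorem chkFaithSrcE6 : Twist.chkFaith tabE6 twistE6.src = true := by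
  decide +kernel

theorem chkFaithImgE6 : Twist.chkFaith tabE6 twistE6.img = true := by
  decide +kernel

theorem twistRhoE6 :
    ((List.range tabE6.n).all fun s => (List.range tabE6.n).any fun r =>
      decide (twistE6.rt r = s)) = true := by
  decide +kernel

/-- Twist of type D4a. -/
def twistD4a : Twist where
  src := [0, 1, 2, 3, 4, 5, 6, 7, 8, 9, 10, 11, 12, 13, 14, 15, 16, 17, 18, 19, 20, 21, 22, 23,
      24, 25, 26, 27]
  img := [0, 1, 6, 2, 7, 10, 3, 8, 4, 9, 11, 5, 18, 12, 14, 19, 15, 20, 13, 16, 21, 17, 22, 23,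
      26, 25, 27, 24]
  sgn := [1, 1, (-1), 1, (-1), 1, (-1), 1, (-1), 1, 1, 1, 1, 1, 1, (-1), 1, (-1), 1, (-1), 1, (-1), 1, 1,
      1, 1, 1, 1]
  rho := [0, 1, 6, 2, 7, 10, 3, 8, 4, 9, 11, 5, 18, 12, 14, 19, 15, 20, 13, 16, 21, 17, 22, 23]
  deg := [1, 1, 1, 1, 1, 1, 1, 1, 1, 1, 1, 1, 1, 1, 1, 1, 1, 1, 1, 1, 1, 1, 1, 1]
  eps := [1, 1, (-1), 1, (-1), 1, (-1), 1, (-1), 1, 1, 1, 1, 1, 1, (-1), 1, (-1), 1, (-1), 1, (-1), 1, 1]

theorem chkTwistD4a : twistD4a.chk tabD4 0 = true := by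
  decide +kernel

theorem chkFaithSrcD4a : Twist.chkFaith tabD4 twistD4a.src = true := by
  decide +kernel

theorem chkFaithImgD4a : Twist.chkFaith tabD4 twistD4a.img = true := by
  decide +kernel

theorem twistRhoD4a :
    ((List.range tabD4.n).all fun s => (List.range tabD4.n).any fun r =>
      decide (twistD4a.rt r = s)) = true := by
  decide +kernel

/-- Twist of type D4b. -/
def twistD4b : Twist where
  src := [0, 1, 2, 3, 4, 5, 6, 7, 8, 9, 10, 11, 12, 13, 14, 15, 16, 17, 18, 19, 20, 21, 22, 23,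
      24, 25, 26, 27]
  img := [0, 1, 3, 6, 8, 11, 2, 4, 7, 9, 5, 10, 13, 18, 14, 16, 19, 21, 12, 15, 17, 20, 22, 23,
      27, 25, 24, 26]
  sgn := [1, 1, 1, (-1), (-1), 1, (-1), (-1), 1, 1, 1, 1, 1, 1, 1, 1, (-1), (-1), 1, (-1), (-1), 1, 1, 1,
      1, 1, 1, 1]
  rho := [0, 1, 3, 6, 8, 11, 2, 4, 7, 9, 5, 10, 13, 18, 14, 16, 19, 21, 12, 15, 17, 20, 22, 23]
  deg := [1, 1, 1, 1, 1, 1, 1, 1, 1, 1, 1, 1, 1, 1, 1, 1, 1, 1, 1, 1, 1, 1, 1, 1]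
  eps := [1, 1, 1, (-1), (-1), 1, (-1), (-1), 1, 1, 1, 1, 1, 1, 1, 1, (-1), (-1), 1, (-1), (-1), 1, 1, 1]

theorem chkTwistD4b : twistD4b.chk tabD4 0 = true := by
  decide +kernel

theorem chkFaithSrcD4b : Twist.chkFaith tabD4 twistD4b.src = true := by
  decide +kernel

theorem chkFaithImgD4b : Twist.chkFaith tabD4 twistD4b.img = true := by
  decide +kernel

theorem twistRhoD4b :
    ((List.range tabD4.n).all fun s => (List.range tabD4.n).any fun r =>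
      decide (twistD4b.rt r = s)) = true := by
  decide +kernel

/-- Twist of type B2. -/
def twistB2 : Twist where
  src := [0, 3, 4, 7, 9]
  img := [1, 2, 5, 6, 8]
  sgn := [1, 1, 1, 1, 1]
  rho := [1, 0, 3, 2, 5, 4, 7, 6]
  deg := [1, 2, 2, 1, 1, 2, 2, 1]
  eps := [1, 1, 1, 1, 1, 1, 1, 1]

theorem chkTwistB2 : twistB2.chk tabB2 2 = true := by
  decide +kernel

theorem chkFaithSrcB2 : Twist.chkFaith tabB2 twistB2.src = true := by
  decide +kernel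

theorem chkFaithImgB2 : Twist.chkFaith tabB2 twistB2.img = true := by
  decide +kernel

theorem twistRhoB2 :
    ((List.range tabB2.n).all fun s => (List.range tabB2.n).any fun r =>
      decide (twistB2.rt r = s)) = true := by
  decide +kernel

/-- Twist of type F4. -/
def twistF4 : Twist where
  src := [0, 1, 2, 4, 5, 6, 15, 16, 17, 21, 22, 23, 24, 25, 26, 30, 31, 32, 41, 42, 43, 45, 46, 47,
      50, 51]
  img := [3, 7, 8, 9, 11, 18, 10, 12, 19, 13, 20, 14, 33, 27, 34, 28, 35, 37, 29, 36, 38, 39, 40, 44,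
      49, 48]
  sgn := [1, 1, 1, 1, 1, 1, 1, 1, 1, 1, 1, 1, 1, 1, 1, 1, 1, 1, 1, 1, 1, 1, 1, 1,
      1, 1]
  rho := [3, 7, 8, 0, 9, 11, 18, 1, 2, 4, 15, 5, 16, 21, 23, 10, 12, 19, 6, 17, 22, 13, 20, 14,
      33, 27, 34, 25, 30, 41, 28, 35, 37, 24, 26, 31, 42, 32, 43, 45, 46, 29, 36, 38, 47, 39, 40, 44]
  deg := [1, 1, 1, 2, 1, 1, 1, 2, 2, 2, 2, 2, 2, 2, 2, 1, 1, 1, 2, 2, 2, 1, 1, 1,
      1, 1, 1, 2, 2, 2, 1, 1, 1, 2, 2, 2, 2, 2, 2, 2, 2, 1, 1, 1, 2, 1, 1, 1]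
  eps := [1, 1, 1, 1, 1, 1, 1, 1, 1, 1, 1, 1, 1, 1, 1, 1, 1, 1, 1, 1, 1, 1, 1, 1,
      1, 1, 1, 1, 1, 1, 1, 1, 1, 1, 1, 1, 1, 1, 1, 1, 1, 1, 1, 1, 1, 1, 1, 1]

theorem chkTwistF4 : twistF4.chk tabF4 2 = true := by
  decide +kernel

theorem chkFaithSrcF4 : Twist.chkFaith tabF4 twistF4.src = true := by
  decide +kernel

theorem chkFaithImgF4 : Twist.chkFaith tabF4 twistF4.img = true := by
  decide +kernel

theorem twistRhoF4 :
    ((List.range tabF4.n).all fun s => (List.range tabF4.n).any fun r =>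
      decide (twistF4.rt r = s)) = true := by
  decide +kernel

/-- Twist of type G2. -/
def twistG2 : Twist where
  src := [0, 1, 5, 6, 10, 11, 13]
  img := [2, 3, 4, 7, 8, 9, 12]
  sgn := [1, 1, 1, 1, 1, 1, 1]
  rho := [2, 3, 0, 1, 5, 4, 7, 6, 10, 11, 8, 9]
  deg := [1, 1, 3, 3, 3, 1, 1, 3, 3, 3, 1, 1]
  eps := [1, 1, 1, 1, 1, 1, 1, 1, 1, 1, 1, 1]

theorem chkTwistG2 : twistG2.chk tabG2 3 = true := by
  decide +kernel

theorem chkFaithSrcG2 : Twist.chkFaith tabG2 twistG2.src = true := by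
  decide +kernel

theorem chkFaithImgG2 : Twist.chkFaith tabG2 twistG2.img = true := by
  decide +kernel

theorem twistRhoG2 :
    ((List.range tabG2.n).all fun s => (List.range tabG2.n).any fun r =>
      decide (twistG2.rt r = s)) = true := by
  decide +kernel

end CfsgLib.Chev
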