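import Cfsg.Agent.Lib.Chev.TwistEndo
import Cfsg.Agent.Lib.Chev.TwistData

/-! Orbits and Weyl elements of the twist of type D4 (generated data, checked by the kernel). -/

set_option autoImplicit false
set_option maxRecDepth 100000

namespace CfsgLib.Chev

/-- The map of the simple indices, type D4. -/
def piTwD4 (i : ℕ) : ℕ := ([2, 1, 3, 0] : List ℕ).getD i 0

/-- The inverse of the map of the roots, type D4. -/
def kapTwD4 (r : ℕ) : ℕ := ([0, 1, 3, 6, 8, 11, 2, 4, 7, 9, 5, 10, 13, 18, 14, 16, 19, 21, 12, 15,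
    17, 20, 22, 23] : List ℕ).getD r 0

/-- The orbit data of type D4. -/
def dataTwD4 : Endo.Data tabD4 where
  CL := [⟨[0, 2, 3], [0, 2, 3]⟩, ⟨[1], [1]⟩]
  base :=
    [⟨18, 3, [], 0, []⟩,
    ⟨14, 1, [], 1, []⟩]
  L :=
    [⟨18, 3, [], 0, []⟩,
    ⟨14, 1, [], 1, []⟩,
    ⟨19, 3, [], 0, [1]⟩,
    ⟨17, 3, [], 0, [0, 1]⟩,
    ⟨22, 1, [], 1, [0]⟩,
    ⟨23, 1, [], 1, [1, 0]⟩]

/-- Elements commuting with the twist, type D4, part 0. -/
def elemsTwD4Part0 : List Elem :=
  [⟨1218426182456967898401291, 12, 1, 0⟩,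
   ⟨10918240873019660474322188, 9, 3, 1⟩,
   ⟨309494510255963539445253896, 11, 4, 0⟩,
   ⟨326462102232401279625203727, 8, 5, 0⟩,
   ⟨2785402997749907088278422274, 8, 6, 1⟩,
   ⟨2812018364922130126497387541, 5, 7, 1⟩,
   ⟨4334051195187986597626184450, 7, 8, 0⟩,
   ⟨4360666562360209635845149717, 4, 9, 0⟩,
   ⟨6819607457877715444498368264, 4, 10, 1⟩,
   ⟨6836575049854153184678318095, 1, 11, 1⟩,
   ⟨7135151319237097063649249803, 3, 11, 0⟩,
   ⟨7144851133927659756225170700, 0, 0, 0⟩]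

/-- Elements commuting with the twist, type D4. -/
def elemsTwD4 : List Elem := elemsTwD4Part0

/-- Products of classes and elements, type D4, part 0. -/
def mulTwD4Part0 : List (List ℕ) :=
  [[1, 2],
   [0, 3],
   [4, 0],
   [5, 1],
   [2, 6],
   [3, 7],
   [8, 4],
   [9, 5],
   [6, 10],
   [7, 11],
   [11, 8],
   [10, 9]]

/-- Products of classes and elements, type D4. -/
def mulTwD4 : List (List ℕ) := mulTwD4Part0

theorem chkSymTwD4 : chkSym tabD4 twistD4a.rt piTwD4 kapTwD4 = true := by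
  decide +kernel

theorem chkDataTwD4 :
    (chkCls tabD4 twistD4a.rt piTwD4 dataTwD4.CL && (chkLayers tabD4 twistD4a.rt dataTwD4.L &&
      chkSrc tabD4 twistD4a.rt dataTwD4.CL dataTwD4.base dataTwD4.L)) = true := by
  decide +kernel

theorem chkBaseTwD4 : chkBase tabD4 twistD4a.rt dataTwD4.base = true := by
  decide +kernel

theorem chkLinkTwD4 : chkLink tabD4 dataTwD4.CL = true := by
  decide +kernel

theorem chkElemsTwD4 : chkElems tabD4 dataTwD4.CL elemsTwD4 mulTwD4 = true := by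
  decide +kernel

theorem dvdElemsTwD4 : (elemsTwD4.all fun x => decide (1 ∣ x.negc)) = true := by
  decide +kernel

theorem countElemsTwD4 :
    (List.range 13).map (fun v => (elemsTwD4.map fun x => x.negc / 1).count v) =
      [1, 1, 0, 1, 2, 1, 0, 1, 2, 1, 0, 1, 1] := by
  decide +kernel

theorem leElemsTwD4 : (elemsTwD4.all fun x => decide (x.negc / 1 < 13)) = true := by
  decide +kernel

end CfsgLib.Chev
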