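import Cfsg.Agent.Lib.Chev.TwistEndo
import Cfsg.Agent.Lib.Chev.TwistData

/-! Orbits and Weyl elements of the twist of type F4 (generated data, checked by the kernel). -/

set_option autoImplicit false
set_option maxRecDepth 100000

namespace CfsgLib.Chev

/-- The map of the simple indices, type F4. -/
def piTwF4 (i : ℕ) : ℕ := ([3, 2, 1, 0] : List ℕ).getD i 0

/-- The inverse of the map of the roots, type F4. -/
def kapTwF4 (r : ℕ) : ℕ := ([3, 7, 8, 0, 9, 11, 18, 1, 2, 4, 15, 5, 16, 21, 23, 10, 12, 19, 6, 17,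
    22, 13, 20, 14, 33, 27, 34, 25, 30, 41, 28, 35, 37, 24, 26, 31, 42, 32, 43, 45,
    46, 29, 36, 38, 47, 39, 40, 44] : List ℕ).getD r 0

/-- The orbit data of type F4. -/
def dataTwF4 : Endo.Data tabF4 where
  CL := [⟨[0, 3], [0, 3]⟩, ⟨[1, 2], [1, 2, 1, 2]⟩]
  base :=
    [⟨24, 2, [], 0, []⟩,
    ⟨25, 2, [28, 30], 1, []⟩,
    ⟨28, 2, [], 2, []⟩]
  L :=
    [⟨24, 2, [], 0, []⟩,
    ⟨25, 2, [28, 30], 1, []⟩,
    ⟨26, 2, [36, 42], 1, [0]⟩,
    ⟨28, 2, [], 2, []⟩,
    ⟨31, 2, [40, 46], 1, [1, 0]⟩,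
    ⟨41, 2, [44, 47], 1, [0, 1, 0]⟩,
    ⟨32, 2, [], 0, [1]⟩,
    ⟨36, 2, [], 2, [0]⟩,
    ⟨43, 2, [], 0, [0, 1]⟩,
    ⟨45, 2, [], 0, [1, 0, 1]⟩,
    ⟨40, 2, [], 2, [1, 0]⟩,
    ⟨44, 2, [], 2, [0, 1, 0]⟩]

/-- Elements commuting with the twist, type F4, part 0. -/
def elemsTwF4Part0 : List Elem :=
  [⟨96533667595335344311200144916688449305687896108635671, 24, 2, 0⟩,
   ⟨480405830142937821206689843020442644301632417188288783, 20, 3, 0⟩,
   ⟨24520687259219365531188653517979388939970792772909536536, 22, 4, 1⟩,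
   ⟨26153827574242422446187672332677398733157483738026088964, 18, 5, 1⟩,
   ⟨122601156055443386628979907066782602266469189139023073312, 18, 6, 0⟩,
   ⟨125481693829391067262267018541082241974767927234704842498, 14, 7, 0⟩,
   ⟨416940208159598676145320428888812458459815077535561680427, 16, 8, 1⟩,
   ⟨420870595230544689153274991132813978759290776813529213186, 12, 9, 1⟩,
   ⟨736085410899549412416458745693697086169378658048469304877, 12, 10, 0⟩,
   ⟨740015797970495425424413307937698606468854357326436837636, 8, 11, 0⟩,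
   ⟨1031474312300703034307466718285428822953901507627293675565, 10, 12, 1⟩,
   ⟨1034354850074650714940753829759728462662200245722975444751, 6, 13, 1⟩,
   ⟨1130802178555851679123546064493833666195511951123972429099, 6, 14, 0⟩,
   ⟨1132435318870874736038545083308531675988698642089088981527, 2, 15, 0⟩,
   ⟨1156475600299951163748527046983490622284367802444810229280, 4, 15, 1⟩,
   ⟨1156859472462498766225422536681594376479363746965889882392, 0, 0, 0⟩]

/-- Elements commuting with the twist, type F4. -/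
def elemsTwF4 : List Elem := elemsTwF4Part0

/-- Products of classes and elements, type F4, part 0. -/
def mulTwF4Part0 : List (List ℕ) :=
  [[2, 1],
   [3, 0],
   [0, 4],
   [1, 5],
   [6, 2],
   [7, 3],
   [4, 8],
   [5, 9],
   [10, 6],
   [11, 7],
   [8, 12],
   [9, 13],
   [14, 10],
   [15, 11],
   [12, 15],
   [13, 14]]

/-- Products of classes and elements, type F4. -/
def mulTwF4 : List (List ℕ) := mulTwF4Part0

theorem chkSymTwF4 : chkSym tabF4 twistF4.rt piTwF4 kapTwF4 = true := by
  decide +kernel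

theorem chkDataTwF4 :
    (chkCls tabF4 twistF4.rt piTwF4 dataTwF4.CL && (chkLayers tabF4 twistF4.rt dataTwF4.L &&
      chkSrc tabF4 twistF4.rt dataTwF4.CL dataTwF4.base dataTwF4.L)) = true := by
  decide +kernel

theorem chkBaseTwF4 : chkBase tabF4 twistF4.rt dataTwF4.base = true := by
  decide +kernel

theorem chkLinkTwF4 : chkLink tabF4 dataTwF4.CL = true := by
  decide +kernel

theorem chkElemsTwF4 : chkElems tabF4 dataTwF4.CL elemsTwF4 mulTwF4 = true := by
  decide +kernel

theorem dvdElemsTwF4 : (elemsTwF4.all fun x => decide (2 ∣ x.negc)) = true := by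
  decide +kernel

theorem countElemsTwF4 :
    (List.range 13).map (fun v => (elemsTwF4.map fun x => x.negc / 2).count v) =
      [1, 1, 1, 2, 1, 1, 2, 1, 1, 2, 1, 1, 1] := by
  decide +kernel

theorem leElemsTwF4 : (elemsTwF4.all fun x => decide (x.negc / 2 < 13)) = true := by
  decide +kernel

end CfsgLib.Chev
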