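import Cfsg.Agent.Lib.Chev.TwistEndo
import Cfsg.Agent.Lib.Chev.TwistData

/-! Orbits and Weyl elements of the twist of type G2 (generated data, checked by the kernel). -/

set_option autoImplicit false
set_option maxRecDepth 100000

namespace CfsgLib.Chev

/-- The map of the simple indices, type G2. -/
def piTwG2 (i : ℕ) : ℕ := ([1, 0] : List ℕ).getD i 0

/-- The inverse of the map of the roots, type G2. -/
def kapTwG2 (r : ℕ) : ℕ := ([2, 3, 0, 1, 5, 4, 7, 6, 10, 11, 8, 9] : List ℕ).getD r 0

/-- The orbit data of type G2. -/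
def dataTwG2 : Endo.Data tabG2 where
  CL := [⟨[0, 1], [0, 1, 0, 1, 0, 1]⟩]
  base :=
    [⟨6, 2, [8, 9, 10, 11], 0, []⟩,
    ⟨10, 2, [], 1, []⟩,
    ⟨11, 2, [], 2, []⟩]
  L :=
    [⟨6, 2, [8, 9, 10, 11], 0, []⟩,
    ⟨10, 2, [], 1, []⟩,
    ⟨11, 2, [], 2, []⟩]

/-- Elements commuting with the twist, type G2, part 0. -/
def elemsTwG2Part0 : List Elem :=
  [⟨4328719365, 6, 1, 0⟩,
   ⟨12137729099526, 0, 0, 0⟩]

/-- Elements commuting with the twist, type G2. -/
def elemsTwG2 : List Elem := elemsTwG2Part0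

/-- Products of classes and elements, type G2, part 0. -/
def mulTwG2Part0 : List (List ℕ) :=
  [[1],
   [0]]

/-- Products of classes and elements, type G2. -/
def mulTwG2 : List (List ℕ) := mulTwG2Part0

theorem chkSymTwG2 : chkSym tabG2 twistG2.rt piTwG2 kapTwG2 = true := by
  decide +kernel

theorem chkDataTwG2 :
    (chkCls tabG2 twistG2.rt piTwG2 dataTwG2.CL && (chkLayers tabG2 twistG2.rt dataTwG2.L &&
      chkSrc tabG2 twistG2.rt dataTwG2.CL dataTwG2.base dataTwG2.L)) = true := by
  decide +kernel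

theorem chkBaseTwG2 : chkBase tabG2 twistG2.rt dataTwG2.base = true := by
  decide +kernel

theorem chkLinkTwG2 : chkLink tabG2 dataTwG2.CL = true := by
  decide +kernel

theorem chkElemsTwG2 : chkElems tabG2 dataTwG2.CL elemsTwG2 mulTwG2 = true := by
  decide +kernel

theorem dvdElemsTwG2 : (elemsTwG2.all fun x => decide (2 ∣ x.negc)) = true := by
  decide +kernel

theorem countElemsTwG2 :
    (List.range 4).map (fun v => (elemsTwG2.map fun x => x.negc / 2).count v) =
      [1, 0, 0, 1] := by
  decide +kernel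

theorem leElemsTwG2 : (elemsTwG2.all fun x => decide (x.negc / 2 < 4)) = true := by
  decide +kernel

end CfsgLib.Chev
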