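import Cfsg.Agent.Lib.Chev.TwistE6Sylow
import Cfsg.Agent.Lib.Chev.FixRankSL

/-!
The rank one subgroups of `²E₆(q)` as images of `SL₂(q²)` and `SL₂(q)`.
-/

set_option autoImplicit false
set_option maxRecDepth 100000
set_option linter.unusedSectionVars false
set_option linter.style.haveILetI false

namespace CfsgLib.Chev.E6Root

open Cfsg.Lie Matrix
open Cert (torusHom extC mem_cellList)
open D4Root (dia wel frob frob_up frob_low frob_dia frob_wel fixFld)
open TorusD4 (up low sl2_closure)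
open scoped MatrixGroups

theorem chkClsE6 : ([(⟨[0, 5], [0, 5]⟩, 0), (⟨[2, 4], [2, 4]⟩, 1), (⟨[3], [3]⟩, 2),
      (⟨[1], [1]⟩, 3)] : List (Cls × ℕ)).all (fun p =>
    ((cellList tabE6 p.1.word).all fun r =>
      ((Endo.orbL dataTwE6.L p.2).list twistE6.rt).contains r) &&
      ((Endo.orbL dataTwE6.L p.2).list twistE6.rt).all fun r =>
        (cellList tabE6 p.1.word).contains r) = true := by
  decide +kernel

theorem chkPairE6 : ([(0, 5, 56, 36, 0), (2, 4, 42, 37, 1)] : List (ℕ × ℕ × ℕ × ℕ × ℕ)).all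
    (fun p => decide (p.1 < tabE6.l ∧ p.2.1 < tabE6.l ∧ tabE6.simple p.1 = p.2.2.1 ∧
      tabE6.simple p.2.1 = p.2.2.2.1 ∧ piTwE6 p.1 = p.2.1 ∧ piTwE6 p.2.1 = p.1 ∧
      p.1 ≠ p.2.1 ∧ p.2.2.1 ≠ p.2.2.2.1 ∧ (Endo.orbL dataTwE6.L p.2.2.2.2).root = p.2.2.1 ∧
      twistE6.rt p.2.2.1 = p.2.2.2.1 ∧ twistE6.rt p.2.2.2.1 = p.2.2.1 ∧
      twistE6.ep p.2.2.1 = 1 ∧ twistE6.ep p.2.2.2.1 = 1 ∧
      twistE6.dg p.2.2.1 = 1 ∧ twistE6.dg p.2.2.2.1 = 1 ∧
      twistE6.rt (tabE6.neg p.2.2.1) = tabE6.neg p.2.2.2.1 ∧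
      twistE6.rt (tabE6.neg p.2.2.2.1) = tabE6.neg p.2.2.1 ∧
      twistE6.ep (tabE6.neg p.2.2.1) = 1 ∧ twistE6.ep (tabE6.neg p.2.2.2.1) = 1 ∧
      twistE6.dg (tabE6.neg p.2.2.1) = 1 ∧ twistE6.dg (tabE6.neg p.2.2.2.1) = 1 ∧
      p.2.2.1 < tabE6.n ∧ p.2.2.2.1 < tabE6.n ∧ p.2.2.2.2 < 24 ∧
      chkPairwise tabE6 [p.2.2.1, p.2.2.2.1] = true ∧
      chkCommute tabE6 p.2.2.1 p.2.2.2.1 = true ∧
      chkCommute tabE6 (tabE6.neg p.2.2.1) (tabE6.neg p.2.2.2.1) = true)) = true := by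
  decide +kernel

theorem chkOneE6 : ([(3, 39, 2), (1, 46, 3)] : List (ℕ × ℕ × ℕ)).all
    (fun p => decide (p.1 < tabE6.l ∧ tabE6.simple p.1 = p.2.1 ∧
      (Endo.orbL dataTwE6.L p.2.2).root = p.2.1 ∧ (Endo.orbL dataTwE6.L p.2.2).size = 1 ∧
      twistE6.rt p.2.1 = p.2.1 ∧ twistE6.ep p.2.1 = 1 ∧ twistE6.dg p.2.1 = 1 ∧
      twistE6.rt (tabE6.neg p.2.1) = tabE6.neg p.2.1 ∧ twistE6.ep (tabE6.neg p.2.1) = 1 ∧
      twistE6.dg (tabE6.neg p.2.1) = 1 ∧ p.2.1 < tabE6.n ∧ p.2.2 < 24 ∧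
      piTwE6 p.1 = p.1)) = true := by
  decide +kernel

variable {K : Type*} [Field K] [Fintype K] {q : ℕ}
variable (f : K →+* K) (hf : ∀ t, f t = t ^ q) (hK : Fintype.card K = q ^ 2)

lemma clsX_eq {c : Cls} {s : ℕ} (h : (c, s) ∈ ([(⟨[0, 5], [0, 5]⟩, 0), (⟨[2, 4], [2, 4]⟩, 1),
      (⟨[3], [3]⟩, 2), (⟨[1], [1]⟩, 3)] : List (Cls × ℕ))) :
    (endoE6 f).clsX c = (endoE6 f).exL dataTwE6.L s := by
  have h1 := chkClsE6
  simp only [List.all_eq_true, Bool.and_eq_true, List.contains_iff_mem] at h1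
  obtain ⟨h2, h3⟩ := h1 _ h
  have e : Endo.clsPos tabE6 c = {r | r ∈ (Endo.orbL dataTwE6.L s).list (endoE6 f).ρ} :=
    Set.ext fun r => ⟨h2 r, h3 r⟩
  rw [Endo.clsX, Endo.exL, e]

include hf hK

lemma ker_small {z : Fin tabE6.l → Kˣ}
    (hz : torusHom (D := chevE6) (T := tabE6) z = 1)
    (h : z ⟨0, by decide⟩ = 1 ∨ z ⟨2, by decide⟩ = 1) : z = 1 := by
  have hz' : z ∈ (torusHom (D := chevE6) (T := tabE6) (F := K)).ker := MonoidHom.mem_ker.2 hz
  have h3 : z ⟨0, by decide⟩ ^ 3 = 1 := certE6.ker_pow invCartanE6_mul_smul hz' _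
  have h0 : z ⟨0, by decide⟩ = 1 := by
    refine h.elim id fun h2 => ?_
    rw [certE6.ker_eq_pow kerRowsE6 hz' ⟨2, by decide⟩,
      show kerVecE6 ⟨2, by decide⟩ = 2 from rfl] at h2
    rwa [pow_succ, h2, one_mul] at h3
  funext i
  rw [certE6.ker_eq_pow kerRowsE6 hz' i, h0, one_pow, Pi.one_apply]

lemma exL_le_layE6 {k : ℕ} (hk : k < dataTwE6.L.length) :
    (endoE6 f).exL dataTwE6.L k ≤ (endoE6 f).lay dataTwE6.L k :=
  Subgroup.comap_mono (gen_mono _ fun r hr => by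
    show r ∈ Endo.sfxL (endoE6 f).ρ dataTwE6.L k
    rw [Endo.sfxL_eq hk]; exact List.mem_append_left _ hr)

/-- An element of the root group of a layer is determined by its coordinate. -/
lemma exL_extE6 {k : ℕ} (hk : k < dataTwE6.L.length) {a b : ↥(endoE6 f).fix}
    (ha : a ∈ (endoE6 f).exL dataTwE6.L k) (hb : b ∈ (endoE6 f).exL dataTwE6.L k)
    (e : (endoE6 f).crd dataTwE6.L k a = (endoE6 f).crd dataTwE6.L k b) : a = b := by
  have hl := (endoE6 f).layer_of_lt (layersE6 f) hk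
  have h1 := (endoE6 f).crd_congr (layersE6 f) hk (exL_le_layE6 f hf hK hk ha)
    (exL_le_layE6 f hf hK hk hb) e
  have hcl : CommClosed tabE6 {r | r ∈ (Endo.orbL dataTwE6.L k).list (endoE6 f).ρ} :=
    fun a ha b hb hne r hr => by
      rcases ((orbE6 (by rwa [← lay_len])).2.2.1 a ha).2 b hb with e | e
      · exact absurd e.symm hne
      · rw [e] at hr; exact absurd hr List.not_mem_nil
  have h2 := Endo.gen_inter (h := certE6) (P := {r | r ∈ (Endo.orbL dataTwE6.L k).list (endoE6 f).ρ})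
    (P' := {r | r ∈ Endo.sfxL (endoE6 f).ρ dataTwE6.L (k + 1)}) (fun r hr => hl.pos r hr) hcl
    (fun r hr => (endoE6 f).sfxL_pos (layersE6 f) hr)
    (Endo.flatOrbs_spec (chkLayers_drop (k + 1) (layersE6 f))).2.2
    (u := ((a⁻¹ * b : ↥(endoE6 f).fix) : GL chevE6.Idx K))
    (Subgroup.mem_subgroupOf.1 (mul_mem (inv_mem ha) hb))
    (((endoE6 f).mem_lay dataTwE6.L).1 h1)
  rw [show {r | r ∈ (Endo.orbL dataTwE6.L k).list (endoE6 f).ρ} ∩
      {r | r ∈ Endo.sfxL (endoE6 f).ρ dataTwE6.L (k + 1)} = ∅ from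
    Set.eq_empty_iff_forall_notMem.2 fun r hr => hl.disj r hr.1 hr.2,
    show gen chevE6 K (∅ : Set ℕ) = ⊥ by simp [gen], Subgroup.mem_bot] at h2
  exact inv_mul_eq_one.1 (Subtype.ext h2)

/-- The parameters of a class of two simple roots. -/
def PairData (i j r r' s : ℕ) : Prop :=
  (i, j, r, r', s) ∈ ([(0, 5, 56, 36, 0), (2, 4, 42, 37, 1)] : List (ℕ × ℕ × ℕ × ℕ × ℕ))

omit hf hK in
lemma pair_spec {i j r r' s : ℕ} (h : PairData i j r r' s) :
    i < tabE6.l ∧ j < tabE6.l ∧ tabE6.simple i = r ∧ tabE6.simple j = r' ∧ piTwE6 i = j ∧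
      piTwE6 j = i ∧ i ≠ j ∧ r ≠ r' ∧ (Endo.orbL dataTwE6.L s).root = r ∧
      twistE6.rt r = r' ∧ twistE6.rt r' = r ∧ twistE6.ep r = 1 ∧ twistE6.ep r' = 1 ∧
      twistE6.dg r = 1 ∧ twistE6.dg r' = 1 ∧
      twistE6.rt (tabE6.neg r) = tabE6.neg r' ∧ twistE6.rt (tabE6.neg r') = tabE6.neg r ∧
      twistE6.ep (tabE6.neg r) = 1 ∧ twistE6.ep (tabE6.neg r') = 1 ∧
      twistE6.dg (tabE6.neg r) = 1 ∧ twistE6.dg (tabE6.neg r') = 1 ∧
      r < tabE6.n ∧ r' < tabE6.n ∧ s < 24 ∧ chkPairwise tabE6 [r, r'] = true ∧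
      chkCommute tabE6 r r' = true ∧ chkCommute tabE6 (tabE6.neg r) (tabE6.neg r') = true := by
  have h1 := chkPairE6
  simp only [List.all_eq_true, decide_eq_true_eq] at h1
  exact h1 _ h

/-- The rank one subgroup of a class of two simple roots. -/
theorem exists_rkPair (hq : IsPrimePow q) {i j r r' s : ℕ}
    (h : PairData i j r r' s) : ∃ R : (endoE6 f).RkSL ⟨[i, j], [i, j]⟩ K,
      ∀ (hi : i < tabE6.l) (hj : j < tabE6.l) (e : Kˣ), (R.φ (dia e) : GL chevE6.Idx K) =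
        torusHom (D := chevE6) (T := tabE6)
          (Pi.mulSingle ⟨i, hi⟩ e * Pi.mulSingle ⟨j, hj⟩ (e ^ q)) := by
  obtain ⟨hi, hj, hsi, hsj, hpi, hpj, hij, hrr, hroot, hρ, hρ', hep, hep', hdg, hdg',
    hnρ, hnρ', hnep, hnep', hndg, hndg', hr, hr', hs, hpw, hcm, hncm⟩ := pair_spec h
  have hX : (endoE6 f).clsX ⟨[i, j], [i, j]⟩ = (endoE6 f).exL dataTwE6.L s := by
    refine clsX_eq f ?_
    simp only [PairData, List.mem_cons, Prod.mk.injEq, List.not_mem_nil, or_false] at h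
    rcases h with ⟨rfl, rfl, -, -, rfl⟩ | ⟨rfl, rfl, -, -, rfl⟩ <;> simp
  let A : SL(2, K) →* GL chevE6.Idx K := MonoidHom.mk'
    (fun g => slRoot certE6 ⟨r, hr⟩ g * slRoot certE6 ⟨r', hr'⟩ (frob f g)) fun a b => by
      rw [map_mul, map_mul, map_mul]
      have c1 := slRoot_commute certE6 ⟨r, hr⟩ ⟨r', hr'⟩ hpw b (frob f a)
      calc slRoot certE6 ⟨r, hr⟩ a * slRoot certE6 ⟨r, hr⟩ b *
            (slRoot certE6 ⟨r', hr'⟩ (frob f a) * slRoot certE6 ⟨r', hr'⟩ (frob f b))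
          = slRoot certE6 ⟨r, hr⟩ a * (slRoot certE6 ⟨r, hr⟩ b *
            slRoot certE6 ⟨r', hr'⟩ (frob f a)) * slRoot certE6 ⟨r', hr'⟩ (frob f b) := by group
        _ = _ := by rw [c1]; group
  have hAu : ∀ t, A (up t) = X chevE6 r t * X chevE6 r' (t ^ q) := fun t => by
    show slRoot certE6 ⟨r, hr⟩ (up t) * slRoot certE6 ⟨r', hr'⟩ (frob f (up t)) = _
    rw [frob_up, slRoot_up, slRoot_up, hf]
  have hAl : ∀ t, A (low t) = X chevE6 (tabE6.neg r) t * X chevE6 (tabE6.neg r') (t ^ q) :=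
    fun t => by
      show slRoot certE6 ⟨r, hr⟩ (low t) * slRoot certE6 ⟨r', hr'⟩ (frob f (low t)) = _
      rw [frob_low, slRoot_low, slRoot_low, hf]
  have hfixU : ∀ t, A (up t) ∈ (endoE6 f).fix := fun t => by
    rw [hAu]
    exact pair_mem_fixE6 f hf hK ⟨hr, hρ, hep, hdg⟩ ⟨hr', hρ', hep', hdg'⟩ hcm t
  have hfix : ∀ g, A g ∈ (endoE6 f).fix := fun g => by
    have htop : (endoE6 f).fix.comap A = (⊤ : Subgroup SL(2, K)) := sl2_closure
      (fun t => Subgroup.mem_comap.2 (hfixU t))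
      (fun t => Subgroup.mem_comap.2 (by
        rw [hAl]
        exact pair_mem_fixE6 f hf hK ⟨Cert.neg_lt hr, hnρ, hnep, hndg⟩
          ⟨Cert.neg_lt hr', hnρ', hnep', hndg'⟩ hncm t))
    exact (htop ▸ Subgroup.mem_top g : g ∈ (endoE6 f).fix.comap A)
  have hl := (endoE6 f).layer_of_lt (layersE6 f) (show s < dataTwE6.L.length by rw [lay_len]; exact hs)
  have hro : r ∈ (Endo.orbL dataTwE6.L s).list (endoE6 f).ρ := hroot ▸ hl.mem_root
  have hro' : r' ∈ (Endo.orbL dataTwE6.L s).list (endoE6 f).ρ := by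
    have h1 := hl.mem_succ hro
    rwa [show (endoE6 f).ρ r = r' from hρ] at h1
  have hmem : ∀ t, (⟨A (up t), hfix _⟩ : ↥(endoE6 f).fix) ∈ (endoE6 f).exL dataTwE6.L s := fun t => by
    rw [Endo.exL, Subgroup.mem_subgroupOf]
    show A (up t) ∈ _
    rw [hAu]
    exact mul_mem (X_mem_gen _ (show r ∈ {x | x ∈ (Endo.orbL dataTwE6.L s).list (endoE6 f).ρ} from hro) _)
      (X_mem_gen _ (show r' ∈ {x | x ∈ (Endo.orbL dataTwE6.L s).list (endoE6 f).ρ} from hro') _)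
  have hcrd : ∀ t, (endoE6 f).crd dataTwE6.L s (⟨A (up t), hfix _⟩ : ↥(endoE6 f).fix) = t := by
    intro t
    refine (endoE6 f).crd_eq (layersE6 f) (by rw [lay_len]; exact hs) ?_
    show Endo.InC _ _ _ (A (up t)) t
    rw [hAu]
    have hsub : ∀ x ∈ (Endo.orbL dataTwE6.L s).list (endoE6 f).ρ,
        x ∈ Endo.sfxL (endoE6 f).ρ dataTwE6.L s := fun x hx => by
      rw [Endo.sfxL_eq (by rw [lay_len]; exact hs)]; exact List.mem_append_left _ hx
    have h1 := Endo.inC_word (h := certE6)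
      ((endoE6 f).free_root (layersE6 f) (show s < dataTwE6.L.length by rw [lay_len]; exact hs))
      [(r, t), (r', t ^ q)] (fun p hp => by
        simp only [List.mem_cons, List.not_mem_nil, or_false] at hp
        rcases hp with rfl | rfl
        exacts [hsub _ hro, hsub _ hro'])
    simpa [hroot, hrr.symm] using h1
  have hdia : ∀ e : Kˣ, A (dia e) = torusHom (D := chevE6) (T := tabE6)
      (Pi.mulSingle ⟨i, hi⟩ e * Pi.mulSingle ⟨j, hj⟩ (e ^ q)) := fun e => by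
    show slRoot certE6 ⟨r, hr⟩ (dia e) * slRoot certE6 ⟨r', hr'⟩ (frob f (dia e)) = _
    rw [frob_dia, slRoot_dia certE6 hi _ hsi, slRoot_dia certE6 hj _ hsj, ← map_mul]
    congr 3
    exact Units.ext (by simp [hf])
  refine ⟨{
    φ := A.codRestrict _ hfix
    up_mem := fun t => by rw [hX]; exact hmem t
    up_inj := fun t ht => ?_
    onto := fun x hx => ⟨(endoE6 f).crd dataTwE6.L s x, exL_extE6 f hf hK (by rw [lay_len]; exact hs)
      (hmem _) (hX ▸ hx) (hcrd _)⟩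
    dia_mem := fun e => ?_
    dia_inj := fun e he => ?_
    wel_rep := ?_ }, fun _ _ e => hdia e⟩
  · have h1 := hcrd t
    rw [show (⟨A (up t), hfix _⟩ : ↥(endoE6 f).fix) = 1 from ht,
      (endoE6 f).crd_one (layersE6 f) (by rw [lay_len]; exact hs)] at h1
    exact h1.symm
  · rw [Endo.diaG, Subgroup.mem_subgroupOf]
    show A (dia e) ∈ _
    rw [hdia]; exact certE6.range_torusHom.le ⟨_, rfl⟩
  · have h1 : A (dia e) = 1 := congrArg Subtype.val he
    rw [hdia] at h1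
    have hcase : (Pi.mulSingle (⟨i, hi⟩ : Fin tabE6.l) e * Pi.mulSingle ⟨j, hj⟩ (e ^ q) :
        Fin tabE6.l → Kˣ) ⟨0, by decide⟩ = 1 ∨
      (Pi.mulSingle (⟨i, hi⟩ : Fin tabE6.l) e * Pi.mulSingle ⟨j, hj⟩ (e ^ q) :
        Fin tabE6.l → Kˣ) ⟨2, by decide⟩ = 1 := by
      simp only [PairData, List.mem_cons, Prod.mk.injEq, List.not_mem_nil, or_false] at h
      rcases h with ⟨rfl, rfl, -⟩ | ⟨rfl, rfl, -⟩
      · exact Or.inr (by simp)
      · exact Or.inl (by simp)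
    have h2 := congrFun (ker_small f hf hK h1 hcase) ⟨i, hi⟩
    simpa [hij] using h2
  · have hw : A (wel K) = nW chevE6 K [i, j] := by
      show slRoot certE6 ⟨r, hr⟩ (wel K) * slRoot certE6 ⟨r', hr'⟩ (frob f (wel K)) = _
      rw [frob_wel, slRoot_wel, slRoot_wel]
      simp [nW, nS_simpleE6 f hf hi, nS_simpleE6 f hf hj, hsi, hsj]
    have hwok : WordOK tabE6 [i, j] := fun a ha => by
      simp only [List.mem_cons, List.not_mem_nil, or_false] at ha
      rcases ha with rfl | rfl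
      exacts [hi, hj]
    refine ⟨?_, fun a ha => ?_⟩
    · rw [Endo.monG, Subgroup.mem_subgroupOf]
      show A (wel K) ∈ _
      rw [hw]; exact certE6.nW_mem_monomial hwok
    · show Maps chevE6 (A (wel K)) a _
      rw [hw]; exact certE6.Maps_nW hwok ha

/-- The rank one subgroup of a fixed simple root. -/
theorem exists_rkOne (hq : IsPrimePow q) {i r s : ℕ}
    (h : (i, r, s) ∈ ([(3, 39, 2), (1, 46, 3)] : List (ℕ × ℕ × ℕ))) :
    ∃ R : (endoE6 f).RkSL ⟨[i], [i]⟩ ↥(fixFld f),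
      ∀ (hi : i < tabE6.l) (e : (↥(fixFld f))ˣ), (R.φ (dia e) : GL chevE6.Idx K) =
        torusHom (D := chevE6) (T := tabE6)
          (Pi.mulSingle ⟨i, hi⟩ (Units.map (fixFld f).subtype.toMonoidHom e)) := by
  have h0 := chkOneE6
  simp only [List.all_eq_true, decide_eq_true_eq] at h0
  obtain ⟨hi, hsi, hroot, hsz, hρ, hep, hdg, hnρ, hnep, hndg, hr, hs, hpi⟩ := h0 _ h
  simp only at hi hsi hroot hsz hρ hep hdg hnρ hnep hndg hr hs hpi
  have hX : (endoE6 f).clsX ⟨[i], [i]⟩ = (endoE6 f).exL dataTwE6.L s := by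
    refine clsX_eq f ?_
    simp only [List.mem_cons, Prod.mk.injEq, List.not_mem_nil, or_false] at h
    rcases h with ⟨rfl, -, rfl⟩ | ⟨rfl, -, rfl⟩ <;> simp
  have hmemFld : ∀ t : ↥(fixFld f), (t : K) ^ q = t := fun t => (hf (t : K)).symm.trans t.2
  let A : SL(2, ↥(fixFld f)) →* GL chevE6.Idx K :=
    (slRoot certE6 ⟨r, hr⟩).comp (Matrix.SpecialLinearGroup.map (fixFld f).subtype)
  have hmapu : ∀ t : ↥(fixFld f), Matrix.SpecialLinearGroup.map (fixFld f).subtype (up t) =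
      up (t : K) := fun t => Subtype.ext (by
    rw [Matrix.SpecialLinearGroup.map_apply_coe, TorusD4.up_val, TorusD4.up_val]
    ext a b; fin_cases a <;> fin_cases b <;> simp)
  have hmapl : ∀ t : ↥(fixFld f), Matrix.SpecialLinearGroup.map (fixFld f).subtype (low t) =
      low (t : K) := fun t => Subtype.ext (by
    rw [Matrix.SpecialLinearGroup.map_apply_coe, TorusD4.low_val, TorusD4.low_val]
    ext a b; fin_cases a <;> fin_cases b <;> simp)
  have hAu : ∀ t : ↥(fixFld f), A (up t) = X chevE6 r (t : K) := fun t => by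
    show slRoot certE6 ⟨r, hr⟩ (Matrix.SpecialLinearGroup.map _ (up t)) = _
    rw [hmapu, slRoot_up]
  have hAl : ∀ t : ↥(fixFld f), A (low t) = X chevE6 (tabE6.neg r) (t : K) := fun t => by
    show slRoot certE6 ⟨r, hr⟩ (Matrix.SpecialLinearGroup.map _ (low t)) = _
    rw [hmapl, slRoot_low]
  have hfix : ∀ g, A g ∈ (endoE6 f).fix := fun g => by
    have htop : (endoE6 f).fix.comap A = (⊤ : Subgroup SL(2, ↥(fixFld f))) := sl2_closure
      (fun t => Subgroup.mem_comap.2 (by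
        rw [hAu]; exact single_mem_fixE6 f hf ⟨hr, hρ, hep, hdg⟩ (hmemFld t)))
      (fun t => Subgroup.mem_comap.2 (by
        rw [hAl]; exact single_mem_fixE6 f hf ⟨Cert.neg_lt hr, hnρ, hnep, hndg⟩ (hmemFld t)))
    exact (htop ▸ Subgroup.mem_top g : g ∈ (endoE6 f).fix.comap A)
  have hlt : s < dataTwE6.L.length := by rw [lay_len]; exact hs
  have hl := (endoE6 f).layer_of_lt (layersE6 f) hlt
  have hro : r ∈ (Endo.orbL dataTwE6.L s).list (endoE6 f).ρ := hroot ▸ hl.mem_root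
  have hmem : ∀ t, (⟨A (up t), hfix _⟩ : ↥(endoE6 f).fix) ∈ (endoE6 f).exL dataTwE6.L s := fun t => by
    rw [Endo.exL, Subgroup.mem_subgroupOf]
    show A (up t) ∈ _
    rw [hAu]
    exact X_mem_gen _ (show r ∈ {x | x ∈ (Endo.orbL dataTwE6.L s).list (endoE6 f).ρ} from hro) _
  have hcrd : ∀ t : ↥(fixFld f),
      (endoE6 f).crd dataTwE6.L s (⟨A (up t), hfix _⟩ : ↥(endoE6 f).fix) = t := by
    intro t
    refine (endoE6 f).crd_eq (layersE6 f) hlt ?_
    show Endo.InC _ _ _ (A (up t)) _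
    rw [hAu]
    have h1 := Endo.inC_X (h := certE6) ((endoE6 f).free_root (layersE6 f) hlt)
      ((endoE6 f).free_root (layersE6 f) hlt).mem (t : K)
    rw [hroot] at h1 ⊢
    simpa using h1
  have hdia : ∀ e : (↥(fixFld f))ˣ, A (dia e) = torusHom (D := chevE6) (T := tabE6)
      (Pi.mulSingle ⟨i, hi⟩ (Units.map (fixFld f).subtype.toMonoidHom e)) := fun e => by
    show slRoot certE6 ⟨r, hr⟩ (Matrix.SpecialLinearGroup.map _ (dia e)) = _
    rw [show Matrix.SpecialLinearGroup.map (fixFld f).subtype (dia e) =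
      dia (Units.map (fixFld f).subtype.toMonoidHom e) from Subtype.ext (by
        rw [Matrix.SpecialLinearGroup.map_apply_coe]
        simp only [dia]
        ext a b; fin_cases a <;> fin_cases b <;> simp), slRoot_dia certE6 hi _ hsi]
  refine ⟨{
    φ := A.codRestrict _ hfix
    up_mem := fun t => by rw [hX]; exact hmem t
    up_inj := fun t ht => ?_
    onto := fun x hx => ?_
    dia_mem := fun e => ?_
    dia_inj := fun e he => ?_
    wel_rep := ?_ }, fun _ e => hdia e⟩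
  · have h1 := hcrd t
    rw [show (⟨A (up t), hfix _⟩ : ↥(endoE6 f).fix) = 1 from ht,
      (endoE6 f).crd_one (layersE6 f) hlt] at h1
    exact Subtype.ext h1.symm
  · rw [hX] at hx
    have hadm := (endoE6 f).crd_adm (layersE6 f) hlt (exL_le_layE6 f hf hK hlt hx)
    rw [Endo.Adm, Set.mem_ofPred_eq, hsz, hroot] at hadm
    have h1 : ((endoE6 f).crd dataTwE6.L s x) ^ q = (endoE6 f).crd dataTwE6.L s x := by
      rw [← τE6_eq f hf ⟨hep, hdg⟩]; exact hadm
    exact ⟨⟨_, (hf _).trans h1⟩, exL_extE6 f hf hK hlt (hmem _) hx (hcrd _)⟩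
  · rw [Endo.diaG, Subgroup.mem_subgroupOf]
    show A (dia e) ∈ _
    rw [hdia]; exact certE6.range_torusHom.le ⟨_, rfl⟩
  · have h1 : A (dia e) = 1 := congrArg Subtype.val he
    rw [hdia] at h1
    have hcase : (Pi.mulSingle (⟨i, hi⟩ : Fin tabE6.l)
        (Units.map (fixFld f).subtype.toMonoidHom e) : Fin tabE6.l → Kˣ) ⟨0, by decide⟩ = 1 := by
      simp only [List.mem_cons, Prod.mk.injEq, List.not_mem_nil, or_false] at h
      rcases h with ⟨rfl, -⟩ | ⟨rfl, -⟩ <;> simp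
    have h2 := congrFun (ker_small f hf hK h1 (Or.inl hcase)) ⟨i, hi⟩
    simp only [Pi.mulSingle_eq_same, Pi.one_apply] at h2
    exact Units.ext (Subtype.ext (congrArg Units.val h2))
  · have hwf : Matrix.SpecialLinearGroup.map (fixFld f).subtype (wel ↥(fixFld f)) = wel K :=
      Subtype.ext (by
        rw [Matrix.SpecialLinearGroup.map_apply_coe, D4Root.wel_val, D4Root.wel_val]
        ext a b; fin_cases a <;> fin_cases b <;> simp)
    have hw : A (wel ↥(fixFld f)) = nW chevE6 K [i] := by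
      show slRoot certE6 ⟨r, hr⟩ (Matrix.SpecialLinearGroup.map _ (wel _)) = _
      rw [hwf, slRoot_wel]
      simp [nW, nS_simpleE6 f hf hi, hsi]
    have hwok : WordOK tabE6 [i] := fun a ha => by
      simp only [List.mem_cons, List.not_mem_nil, or_false] at ha
      exact ha ▸ hi
    refine ⟨?_, fun a ha => ?_⟩
    · rw [Endo.monG, Subgroup.mem_subgroupOf]
      show A (wel _) ∈ _
      rw [hw]; exact certE6.nW_mem_monomial hwok
    · show Maps chevE6 (A (wel _)) a _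
      rw [hw]; exact certE6.Maps_nW hwok ha

end CfsgLib.Chev.E6Root
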