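import Cfsg.Agent.Lib.Chev.TwistE6Torus

/-!
Central extensions of `²E₆(q)`, `q ≥ 3`, split over the unipotent group.
-/

set_option autoImplicit false
set_option maxRecDepth 100000
set_option linter.unusedSectionVars false
set_option linter.style.haveILetI false

open scoped commutatorElement

namespace CfsgLib.Chev.E6Root

open Cfsg.Lie Matrix
open Cert (torusHom extC extC_ne_zero)

variable {K : Type*} [Field K] [Fintype K] {q : ℕ}

/-- A linear exponent at `q`. -/
def evl (q : ℕ) (z : ℤ × ℤ) : ℤ := z.1 * q + z.2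

/-- The parameters of the torus element of an exponent. -/
def parE (q : ℕ) (x : List (ℤ × ℤ)) (w : Kˣ) : Fin tabE6.l → Kˣ := fun i =>
  w ^ ((expT x i).1 * (q : ℤ) ^ 2 + (expT x i).2.1 * q + (expT x i).2.2)

lemma zpow_cong (hK : Fintype.card K = q ^ 2) (w : Kˣ) {m n : ℤ} (j : ℤ)
    (e : m = n + ((q : ℤ) ^ 2 - 1) * j) : w ^ m = w ^ n := by
  have hc : ((q : ℤ) ^ 2 - 1) = (Nat.card Kˣ : ℤ) := by
    rw [Nat.card_units, Nat.card_eq_fintype_card, hK, Nat.cast_sub (hK ▸ Fintype.card_pos (α := K))]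
    push_cast
    ring
  rw [e, _root_.zpow_add, _root_.zpow_mul, hc, _root_.zpow_natCast, pow_card_eq_one',
    _root_.one_zpow, mul_one]

variable (f : K →+* K) (hf : ∀ t, f t = t ^ q) (hK : Fintype.card K = q ^ 2)

lemma lay_len : dataTwE6.L.length = 24 := rfl

lemma layersE6 : chkLayers tabE6 (endoE6 f).ρ dataTwE6.L = true := (dataOK_E6 f).layers

lemma chiL_parE (hK : Fintype.card K = q ^ 2) (x : List (ℤ × ℤ)) (w : Kˣ) {k : ℕ} (hk : k < 24) :
    Endo.chiL dataTwE6.L k (parE q x w) = ((w ^ evl q (red x k) : Kˣ) : K) := by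
  have h := chkCar
  simp only [List.all_eq_true, List.mem_range, decide_eq_true_eq] at h
  have e1 : Endo.chiL dataTwE6.L k (parE q x w) =
      ((∏ i : Fin 6, parE q x w i ^ cR k i : Kˣ) : K) := by
    rw [Endo.chiL, charOf, show tabE6.l = 6 from rfl, Units.coe_prod, Finset.prod_range]
    refine Finset.prod_congr rfl fun i _ => ?_
    rw [h k hk i i.2, Units.val_zpow_eq_zpow_val]
    simp [extC, show tabE6.l = 6 from rfl]
    rfl
  rw [e1]
  congr 1
  simp only [Fin.prod_univ_six, parE, ← _root_.zpow_mul, ← _root_.zpow_add]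
  refine zpow_cong hK w (((List.range 6).map fun i => cR k i * (expT x i).1).sum) ?_
  simp [evl, red, List.range_succ]
  ring

include hf hK

lemma parE_fix (x : List (ℤ × ℤ)) (w : Kˣ) : (endoE6 f).tor (parE q x w) = parE q x w := by
  refine tor_fix_of f hf fun i => ?_
  have hπ : ∀ j : Fin tabE6.l, (((endoE6 f).πf j : Fin tabE6.l) : ℕ) = piTwE6 j := fun j => rfl
  show w ^ _ = (w ^ _) ^ q
  rw [hπ, ← _root_.zpow_natCast (w ^ _) q, ← _root_.zpow_mul]
  obtain ⟨i, hi⟩ := i
  have hi' : i < 6 := hi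
  obtain ⟨a0, b0⟩ := x.getD 0 (0, 0)
  interval_cases i <;> simp only [piTwE6, expT, List.getD_cons_zero, List.getD_cons_succ]
  · refine zpow_cong hK w 0 ?_; ring
  · refine zpow_cong hK w (-((x.getD 2 (0, 0)).1 * q + (x.getD 2 (0, 0)).2)) ?_; ring
  · refine zpow_cong hK w 0 ?_; ring
  · refine zpow_cong hK w (-((x.getD 3 (0, 0)).1 * q + (x.getD 3 (0, 0)).2)) ?_; ring
  · refine zpow_cong hK w (-((x.getD 1 (0, 0)).1 * q + (x.getD 1 (0, 0)).2)) ?_; ring
  · refine zpow_cong hK w (-((x.getD 0 (0, 0)).1 * q + (x.getD 0 (0, 0)).2)) ?_; ring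

lemma parE_torPar (x : List (ℤ × ℤ)) (w : Kˣ) : (endoE6 f).TorPar (parE q x w) :=
  ((endoE6 f).torusHom_mem_fix (parE_fix f hf hK x w)).1

omit hf in
lemma pow_ne_one_of_moved (hq3 : 3 ≤ q) {z : ℤ × ℤ} (hz : moved z = true) {g : Kˣ}
    (hg : ∀ y, y ∈ Subgroup.zpowers g) : ((g ^ evl q z : Kˣ) : K) ≠ 1 := by
  intro h1
  have h2 : g ^ evl q z = 1 := Units.ext h1
  rw [← orderOf_dvd_iff_zpow_eq_one, orderOf_eq_card_of_forall_mem_zpowers hg, Nat.card_units,
    Nat.card_eq_fintype_card, hK, Nat.cast_sub (Nat.one_le_pow _ _ (by omega))] at h2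
  push_cast at h2
  simp only [moved, decide_eq_true_eq] at hz
  obtain ⟨a1, a2, b1, b2, hne⟩ := hz
  rcases Nat.lt_or_ge q 4 with h4 | h4
  · obtain rfl : q = 3 := by omega
    norm_num [evl] at h2
    exact hne (Int.emod_eq_zero_of_dvd (by rwa [mul_comm] at h2))
  · have hq4 : (4 : ℤ) ≤ q := by exact_mod_cast h4
    have h0 : evl q z = 0 := by
      refine Int.eq_zero_of_abs_lt_dvd h2 (abs_lt.2 ⟨?_, ?_⟩) <;> simp only [evl] <;> nlinarith
    simp only [evl] at h0
    have hx : z.1 = 0 := by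
      rcases lt_trichotomy z.1 0 with hx | hx | hx
      · nlinarith
      · exact hx
      · nlinarith
    rw [hx] at h0 hne
    simp at h0
    rw [h0] at hne
    exact hne (by norm_num)

omit hf hK in
lemma orbE6 {k : ℕ} (hk : k < 24) :
    (Endo.orbL dataTwE6.L k).tail = [] ∧
      ((Endo.orbL dataTwE6.L k).size = 1 ∨ (Endo.orbL dataTwE6.L k).size = 2) ∧
      (∀ a ∈ (Endo.orbL dataTwE6.L k).list twistE6.rt, a < tabE6.n ∧
        ∀ b ∈ (Endo.orbL dataTwE6.L k).list twistE6.rt, a = b ∨ tabE6.commTerms a b = []) ∧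
      (Endo.orbL dataTwE6.L k).root < tabE6.n := by
  have h := chkOrbE6
  simp only [List.all_eq_true, List.mem_range, Bool.and_eq_true, decide_eq_true_eq,
    Bool.or_eq_true] at h
  obtain ⟨⟨h1, h2⟩, h3⟩ := h k hk
  exact ⟨h1, h2, h3, (h3 _ (List.mem_map.2 ⟨0, List.mem_range.2 (by omega), rfl⟩)).1⟩

omit hK in
lemma act_XE6 {r : ℕ} (hr : r < tabE6.n) (hd : twistE6.dg r = 1) (s : ℤ) :
    (endoE6 f).act (X chevE6 r (s : K)) = X chevE6 (twistE6.rt r) ((s * twistE6.ep r : ℤ) : K) := by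
  rw [(endoE6 f).act_X hr]
  congr 1
  show (twistE6.ep r : K) * f (s : K) ^ twistE6.dg r = _
  rw [hd, pow_one, map_intCast, Int.cast_mul, mul_comm]

/-- The elements of parameter `s`. -/
lemma uw_spec {k : ℕ} (hk : k < 24) (s : ℤ) :
    ∃ g ∈ (endoE6 f).exL dataTwE6.L k, (g : GL chevE6.Idx K) =
        ((uw k s).map fun p => X chevE6 p.1 (p.2 : K)).prod ∧
      (endoE6 f).crd dataTwE6.L k g = (s : K) := by
  obtain ⟨htail, hsz, hlist, hroot⟩ := orbE6 hk
  have hl := (endoE6 f).layer_of_lt (layersE6 f) (show k < dataTwE6.L.length by rw [lay_len]; exact hk)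
  have hu := chkUnitE6
  simp only [List.all_eq_true, List.mem_range, Bool.and_eq_true, decide_eq_true_eq] at hu
  obtain ⟨hd, hrest⟩ := hu k hk
  set o := Endo.orbL dataTwE6.L k with ho
  have hr0 : o.root ∈ o.list twistE6.rt := hl.mem_root
  have mr := certE6.X_mem_group (F := K) hroot (s : K)
  rcases hsz with e1 | e2
  · rw [if_neg (by omega), decide_eq_true_eq] at hrest
    have hfix : X chevE6 o.root (s : K) ∈ (endoE6 f).fix := by
      refine (endoE6 f).mem_fix.2 ⟨mr, ?_⟩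
      rw [act_XE6 f hf hroot hd, hrest.1, hrest.2, mul_one]
    have hw : ((uw k s).map fun p => X chevE6 p.1 (p.2 : K)).prod = X chevE6 o.root (s : K) := by
      simp [uw, ← ho, e1]
    refine ⟨⟨_, hfix⟩, Subgroup.mem_subgroupOf.2 (X_mem_gen _ (show o.root ∈ {r | r ∈ o.list _} from hr0) _),
      hw.symm, (endoE6 f).crd_eq (layersE6 f) (by rw [lay_len]; exact hk) ?_⟩
    have h1 := Endo.inC_X (h := certE6)
      ((endoE6 f).free_root (layersE6 f) (show k < dataTwE6.L.length by rw [lay_len]; exact hk))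
      ((endoE6 f).free_root (layersE6 f) (show k < dataTwE6.L.length by rw [lay_len]; exact hk)).mem
      (s : K)
    simpa [← ho] using h1
  · rw [if_pos e2, Bool.and_eq_true, decide_eq_true_eq] at hrest
    obtain ⟨⟨hd', hrr, hne, hep⟩, hcom⟩ := hrest
    have hr1 : twistE6.rt o.root ∈ o.list twistE6.rt :=
      List.mem_map.2 ⟨1, List.mem_range.2 (by omega), rfl⟩
    have hlt1 := (hlist _ hr1).1
    have ms := certE6.X_mem_group (F := K) hlt1 ((s * twistE6.ep o.root : ℤ) : K)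
    have hfix : X chevE6 o.root (s : K) *
        X chevE6 (twistE6.rt o.root) ((s * twistE6.ep o.root : ℤ) : K) ∈ (endoE6 f).fix := by
      refine (endoE6 f).mem_fix.2 ⟨mul_mem mr ms, ?_⟩
      rw [(endoE6 f).act_mul mr ms, act_XE6 f hf hroot hd, act_XE6 f hf hlt1 hd', hrr,
        mul_assoc s, hep, mul_one]
      exact (certE6.commute_X hcom _ _).eq
    have hw : ((uw k s).map fun p => X chevE6 p.1 (p.2 : K)).prod = X chevE6 o.root (s : K) *
        X chevE6 (twistE6.rt o.root) ((s * twistE6.ep o.root : ℤ) : K) := by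
      simp [uw, ← ho, e2]
    refine ⟨⟨_, hfix⟩, Subgroup.mem_subgroupOf.2 (mul_mem
      (X_mem_gen _ (show o.root ∈ {r | r ∈ o.list _} from hr0) _)
      (X_mem_gen _ (show twistE6.rt o.root ∈ {r | r ∈ o.list _} from hr1) _)),
      hw.symm, (endoE6 f).crd_eq (layersE6 f) (by rw [lay_len]; exact hk) ?_⟩
    have h1 := Endo.inC_word (h := certE6)
      ((endoE6 f).free_root (layersE6 f) (k := k) (by rw [lay_len]; exact hk))
      [(o.root, (s : K)), (twistE6.rt o.root, ((s * twistE6.ep o.root : ℤ) : K))] (fun p hp => by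
        show p.1 ∈ Endo.sfxL twistE6.rt dataTwE6.L k
        rw [Endo.sfxL_eq (by rw [lay_len]; exact hk)]
        refine List.mem_append_left _ ?_
        simp only [List.mem_cons, List.not_mem_nil, or_false] at hp
        rcases hp with rfl | rfl
        exacts [hr0, hr1])
    simpa [hne, ← ho] using h1

omit hf in
lemma fixed_ratio (hf : ∀ t, f t = t ^ q) {k : ℕ} (hk : k < 24)
    (h1 : (Endo.orbL dataTwE6.L k).size = 1) {x u : K}
    (hx : x ∈ (endoE6 f).Adm (Endo.orbL dataTwE6.L k))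
    (hu : u ∈ (endoE6 f).Adm (Endo.orbL dataTwE6.L k)) (_hu0 : u ≠ 0) :
    (x / u) ^ q = x / u := by
  have hu' := chkUnitE6
  simp only [List.all_eq_true, List.mem_range, Bool.and_eq_true, decide_eq_true_eq] at hu'
  obtain ⟨hd, hrest⟩ := hu' k hk
  rw [if_neg (by omega), decide_eq_true_eq] at hrest
  rw [Endo.Adm, Set.mem_ofPred_eq, h1] at hx hu
  have key : ∀ t : K, (endoE6 f).τn 1 (Endo.orbL dataTwE6.L k).root t = t ^ q := fun t => by
    show (endoE6 f).τ _ t = _
    exact τE6_eq f hf ⟨hrest.2, hd⟩ t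
  rw [key] at hx hu
  rw [div_pow, hx, hu]

lemma scaleE6 {k : ℕ} (hk : k < 24) {u x : K}
    (hx : x ∈ (endoE6 f).Adm (Endo.orbL dataTwE6.L k))
    (hu : u ∈ (endoE6 f).Adm (Endo.orbL dataTwE6.L k)) (hu0 : u ≠ 0) (hx0 : x ≠ 0) :
    ∃ c, (endoE6 f).TorPar c ∧ Endo.chiL dataTwE6.L k c * u = x := by
  have h := chkOnto
  simp only [List.all_eq_true, List.any_eq_true, List.mem_range, decide_eq_true_eq] at h
  obtain ⟨y, -, hy⟩ := h k hk
  set r : Kˣ := Units.mk0 (x / u) (div_ne_zero hx0 hu0) with hr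
  suffices ∃ w : Kˣ, w ^ evl q (red y k) = r by
    obtain ⟨w, hw⟩ := this
    refine ⟨parE q y w, parE_torPar f hf hK y w, ?_⟩
    rw [chiL_parE hK y w hk, hw, hr, Units.val_mk0, div_mul_cancel₀ _ hu0]
  rw [hy]
  rcases (orbE6 hk).2.1 with e1 | e2
  · have hfix : r ^ q = r := Units.ext (by
      rw [Units.val_pow_eq_pow_val, hr, Units.val_mk0]
      exact fixed_ratio f hK hf hk e1 hx hu hu0)
    obtain ⟨g, hg⟩ := IsCyclic.exists_generator (α := Kˣ)
    obtain ⟨n, hn⟩ := Subgroup.mem_zpowers_iff.1 (hg r)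
    have hq0 : (q : ℤ) - 1 ≠ 0 := by
      intro h0
      have hq1 : q = 1 := by omega
      have hcard := Fintype.one_lt_card (α := K)
      rw [hK, hq1] at hcard
      omega
    have hd : ((q : ℤ) ^ 2 - 1) ∣ n * ((q : ℤ) - 1) := by
      have h2 : g ^ (n * ((q : ℤ) - 1)) = 1 := by
        rw [_root_.zpow_mul, hn, _root_.zpow_sub, _root_.zpow_natCast, hfix, _root_.zpow_one,
          mul_inv_cancel]
      rw [← orderOf_dvd_iff_zpow_eq_one, orderOf_eq_card_of_forall_mem_zpowers hg, Nat.card_units,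
        Nat.card_eq_fintype_card, hK, Nat.cast_sub (hK ▸ Fintype.card_pos (α := K))] at h2
      push_cast at h2
      exact h2
    rw [show (q : ℤ) ^ 2 - 1 = ((q : ℤ) + 1) * ((q : ℤ) - 1) by ring] at hd
    obtain ⟨j, hj⟩ := (mul_dvd_mul_iff_right hq0).1 hd
    refine ⟨g ^ j, ?_⟩
    rw [if_neg (by omega), ← hn, hj, ← _root_.zpow_mul]
    congr 1
    simp [evl]; ring
  · exact ⟨r, by rw [if_pos e2]; simp [evl]⟩

lemma wit_mem {k : ℕ} (hk : k < 24) (hk4 : 4 ≤ k) (hq3 : 3 ≤ q) :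
    ∃ u ∈ (endoE6 f).genM dataTwE6.L [0, 1, 2, 3] ⊓ (endoE6 f).lay dataTwE6.L k,
      (endoE6 f).crd dataTwE6.L k u ≠ 0 := by
  have hlen : ∀ {i}, i < 24 → i < dataTwE6.L.length := fun h => by rw [lay_len]; exact h
  have hlayers := layersE6 f
  have hw := chkShapeE6
  simp only [List.all_eq_true, List.mem_range, Bool.or_eq_true, List.any_eq_true,
    Bool.and_eq_true, decide_eq_true_eq] at hw
  obtain ⟨w, hwm, hwk, hsh⟩ := (hw k hk).resolve_left (by omega)
  obtain ⟨k', a, b, tg⟩ := w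
  simp only at hwk hsh
  subst hwk
  have hc := chkWitE6
  simp only [List.all_eq_true, Bool.and_eq_true, decide_eq_true_eq] at hc
  obtain ⟨⟨ha, hb, -⟩, heq⟩ := hc _ hwm
  simp only at ha hb heq
  have hlay0 : ∀ {i} {g : ↥(endoE6 f).fix}, i < 24 → g ∈ (endoE6 f).exL dataTwE6.L i →
      g ∈ (endoE6 f).lay dataTwE6.L i := fun {i} {g} hi hg => by
    rw [Endo.mem_lay]
    refine gen_mono _ (fun r hr => ?_) (Subgroup.mem_subgroupOf.1 hg)
    show r ∈ Endo.sfxL twistE6.rt dataTwE6.L i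
    rw [Endo.sfxL_eq (hlen hi)]; exact List.mem_append_left _ hr
  obtain ⟨A, hA, hAw, -⟩ := uw_spec f hf hK ha 1
  obtain ⟨B, hB, hBw, -⟩ := uw_spec f hf hK hb 1
  set c := ⁅A, B⁆ with hcdef
  have hcM : c ∈ (endoE6 f).genM dataTwE6.L [0, 1, 2, 3] :=
    Subgroup.subset_closure (Or.inr ⟨A, (endoE6 f).lay_anti _ (Nat.zero_le a) (hlay0 ha hA), B,
      (endoE6 f).lay_anti _ (Nat.zero_le b) (hlay0 hb hB), rfl⟩)
  have hinv : ∀ (i : ℕ), i < 24 → ∀ g : ↥(endoE6 f).fix,
      (g : GL chevE6.Idx K) = ((uw i 1).map fun p => X chevE6 p.1 (p.2 : K)).prod →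
      ((g⁻¹ : ↥(endoE6 f).fix) : GL chevE6.Idx K) =
        (((uw i 1).reverse.map fun p => (p.1, -p.2)).map fun p => X chevE6 p.1 (p.2 : K)).prod := by
    intro i hi g hg
    rw [Subgroup.coe_inv, hg, List.prod_inv_reverse]
    congr 1
    rw [List.map_map, List.map_map, ← List.map_reverse]
    refine List.map_congr_left fun p hp => ?_
    have hlt : p.1 < tabE6.n := by
      rw [List.mem_reverse] at hp
      simp only [uw, List.mem_cons] at hp
      rcases hp with rfl | hp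
      · exact (orbE6 hi).2.2.2
      · split_ifs at hp with h2
        · simp only [List.mem_cons, List.not_mem_nil, or_false] at hp
          subst hp
          exact ((endoE6 f).sym.lt _ (orbE6 hi).2.2.2)
        · exact absurd hp List.not_mem_nil
    show (X chevE6 p.1 (p.2 : K))⁻¹ = X chevE6 p.1 ((-p.2 : ℤ) : K)
    rw [Int.cast_neg, certE6.X_inv hlt]
  have hcw : (c : GL chevE6.Idx K) =
      ((tg.flatMap fun p => uw p.1 p.2).map fun p => X chevE6 p.1 (p.2 : K)).prod := by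
    rw [← certE6.prod_eq_of_chk (p := 0) heq]
    simp only [List.map_append, List.prod_append, c, commutatorElement_def, Subgroup.coe_mul]
    rw [hinv a ha A hAw, hinv b hb B hBw, ← hAw, ← hBw]
  have hone : ∀ s : ℤ, (s = 1 ∨ s = -1) → (s : K) ≠ 0 := fun s hs => by
    rcases hs with rfl | rfl <;> simp
  match tg, hsh, hcw with
  | [(i, s)], hsh, hcw =>
    simp only [shape, decide_eq_true_eq] at hsh
    obtain ⟨rfl, hs⟩ := hsh
    obtain ⟨G, hG, hGw, hGc⟩ := uw_spec f hf hK hk s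
    have e : c = G := Subtype.ext (by rw [hcw, hGw]; simp)
    exact ⟨c, ⟨hcM, e ▸ hlay0 hk hG⟩, by rw [e, hGc]; exact hone s hs⟩
  | [(i, s), (j, t)], hsh, hcw =>
    simp only [shape, Bool.or_eq_true, Bool.and_eq_true, decide_eq_true_eq,
      List.any_eq_true] at hsh
    rcases hsh with ⟨rfl, hij, hj, hs⟩ | ⟨⟨rfl, hij, ht⟩, x, -, hfx, hmv⟩
    · obtain ⟨G, hG, hGw, hGc⟩ := uw_spec f hf hK hk s
      obtain ⟨H, hH, hHw, -⟩ := uw_spec f hf hK hj t
      have e : c = G * H := Subtype.ext (by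
        rw [hcw, Subgroup.coe_mul, hGw, hHw]; simp)
      have hH' : H ∈ (endoE6 f).lay dataTwE6.L (i + 1) :=
        (endoE6 f).lay_anti _ hij (hlay0 hj hH)
      have hH0 := (endoE6 f).lay_anti _ (Nat.le_succ i) hH'
      refine ⟨c, ⟨hcM, e ▸ mul_mem (hlay0 hk hG) hH0⟩, ?_⟩
      rw [e, (endoE6 f).crd_mul hlayers (hlen hk) (hlay0 hk hG) hH0,
        (endoE6 f).crd_of_mem_succ hlayers (hlen hk) hH', hGc, add_zero]
      exact hone s hs
    · obtain ⟨G, hG, hGw, -⟩ := uw_spec f hf hK (show i < 24 by omega) s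
      obtain ⟨H, hH, hHw, hHc⟩ := uw_spec f hf hK hk t
      have e : c = G * H := Subtype.ext (by
        rw [hcw, Subgroup.coe_mul, hGw, hHw]; simp)
      obtain ⟨g, hg⟩ := IsCyclic.exists_generator (α := Kˣ)
      set τ := (endoE6 f).torEl (parE_torPar f hf hK x g)
      have hτ : τ ∈ (endoE6 f).torG := (endoE6 f).torEl_mem _
      have hchi : ∀ {l}, l < 24 → ∀ {y : ↥(endoE6 f).fix}, y ∈ (endoE6 f).lay dataTwE6.L l →
          (endoE6 f).crd dataTwE6.L l (τ * y * τ⁻¹) =
            ((g ^ evl q (red x l) : Kˣ) : K) * (endoE6 f).crd dataTwE6.L l y := fun {l} hl {y} hy =>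
        ((endoE6 f).crd_conj hlayers (hlen hl) (c := parE q x g) rfl hy).trans
          (congrArg (· * _) (chiL_parE hK x g hl))
      have hGfix : τ * G * τ⁻¹ = G := by
        have hGl := hlay0 (show i < 24 by omega) hG
        have h1 := hchi (show i < 24 by omega) hGl
        rw [hfx, show evl q ((0 : ℤ), (0 : ℤ)) = 0 by simp [evl], _root_.zpow_zero, Units.val_one,
          one_mul] at h1
        obtain ⟨htail, -, hlist, -⟩ := orbE6 (show i < 24 by omega)
        have hl := (endoE6 f).layer_of_lt hlayers (hlen (show i < 24 by omega))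
        have hconj : τ * G * τ⁻¹ ∈ (endoE6 f).exL dataTwE6.L i := by
          rw [Endo.exL, Subgroup.mem_subgroupOf, Subgroup.coe_mul, Subgroup.coe_mul,
            Subgroup.coe_inv]
          exact (Subgroup.mem_normalizer_iff.1 (certE6.diagonal_le_normalizer_gen (F := K)
            (fun r hr => (hl.pos r hr).2)
            (Subgroup.mem_subgroupOf.1 hτ)) _).1 (Subgroup.mem_subgroupOf.1 hG)
        have h2 := (endoE6 f).crd_congr hlayers (hlen (show i < 24 by omega)) (hlay0 (by omega) hconj)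
          hGl h1
        have h3 := Endo.gen_inter (h := certE6)
          (P := {r | r ∈ (Endo.orbL dataTwE6.L i).list (endoE6 f).ρ})
          (P' := {r | r ∈ Endo.sfxL (endoE6 f).ρ dataTwE6.L (i + 1)})
          (fun r hr => hl.pos r hr)
          (fun r hr r' hr' hne q' hq' => by
            rcases (hlist r hr).2 r' hr' with e' | e'
            · exact absurd e'.symm hne
            · rw [e'] at hq'; exact absurd hq' List.not_mem_nil)
          (fun r hr => (endoE6 f).sfxL_pos hlayers hr)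
          (Endo.flatOrbs_spec (chkLayers_drop (i + 1) hlayers)).2.2
          (u := (((τ * G * τ⁻¹)⁻¹ * G : ↥(endoE6 f).fix) : GL chevE6.Idx K))
          (Subgroup.mem_subgroupOf.1 (mul_mem (inv_mem hconj) hG)) (((endoE6 f).mem_lay _).1 h2)
        rw [show {r | r ∈ (Endo.orbL dataTwE6.L i).list (endoE6 f).ρ} ∩
            {r | r ∈ Endo.sfxL (endoE6 f).ρ dataTwE6.L (i + 1)} = ∅ from
          Set.eq_empty_iff_forall_notMem.2 fun r hr => hl.disj r hr.1 hr.2,
          show gen chevE6 K (∅ : Set ℕ) = ⊥ by simp [gen], Subgroup.mem_bot] at h3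
        exact inv_mul_eq_one.1 (Subtype.ext h3)
      have hHl := hlay0 hk hH
      have hd : τ * H * τ⁻¹ * H⁻¹ ∈ (endoE6 f).lay dataTwE6.L j :=
        mul_mem ((endoE6 f).lay_conj hlayers hτ hHl) (inv_mem hHl)
      set d := τ * H * τ⁻¹ * H⁻¹
      have hGd : ⁅G, d⁆ ∈ (endoE6 f).lay dataTwE6.L (j + 1) :=
        (endoE6 f).lay_comm dataTwE6.L (p := 0)
          (List.all_eq_true.1 chkLayE6 j (List.mem_range.2 hk))
          ((endoE6 f).lay_anti _ (Nat.zero_le i) (hlay0 (by omega) hG)) hd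
      have hu : τ * c * τ⁻¹ * c⁻¹ = ⁅G, d⁆ * d := by
        rw [e, show τ * (G * H) * τ⁻¹ * (G * H)⁻¹ =
          τ * G * τ⁻¹ * d * G⁻¹ by simp only [d]; group, hGfix, commutatorElement_def]
        group
      have hdn : τ * c * τ⁻¹ * c⁻¹ ∈ (endoE6 f).genM dataTwE6.L [0, 1, 2, 3] := by
        refine mul_mem ?_ (inv_mem hcM)
        rw [hcdef, show τ * ⁅A, B⁆ * τ⁻¹ = ⁅τ * A * τ⁻¹, τ * B * τ⁻¹⁆ by
          simp only [commutatorElement_def]; group]
        exact Subgroup.subset_closure (Or.inr ⟨_, (endoE6 f).lay_conj hlayers hτ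
          ((endoE6 f).lay_anti _ (Nat.zero_le a) (hlay0 ha hA)), _, (endoE6 f).lay_conj hlayers hτ
          ((endoE6 f).lay_anti _ (Nat.zero_le b) (hlay0 hb hB)), rfl⟩)
      have hGd0 := (endoE6 f).lay_anti _ (Nat.le_succ j) hGd
      refine ⟨_, ⟨hdn, hu ▸ mul_mem hGd0 hd⟩, ?_⟩
      rw [hu, (endoE6 f).crd_mul hlayers (hlen hk) hGd0 hd,
        (endoE6 f).crd_of_mem_succ hlayers (hlen hk) hGd, zero_add,
        (endoE6 f).crd_mul hlayers (hlen hk) ((endoE6 f).lay_conj hlayers hτ hHl) (inv_mem hHl),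
        (endoE6 f).crd_inv hlayers (hlen hk) hHl, hchi hk hHl, hHc]
      have hne := pow_ne_one_of_moved (K := K) hK hq3 hmv hg
      rw [show ((g ^ evl q (red x j) : Kˣ) : K) * (t : K) + -(t : K) =
        (((g ^ evl q (red x j) : Kˣ) : K) - 1) * (t : K) by ring]
      exact mul_ne_zero (sub_ne_zero.2 hne) (hone t ht)

theorem sylHypE6 (hq : IsPrimePow q) (hq3 : 3 ≤ q) :
    (endoE6 f).SylHyp 0 dataTwE6.L [0, 1, 2, 3] where
  layers := layersE6 f
  comm k hk := List.all_eq_true.1 chkLayE6 k (List.mem_range.2 hk)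
  orb k hk a ha b hb := ((orbE6 hk).2.2.1 a ha).2 b hb
  tail k hk := (orbE6 hk).1
  lifts k hk := ((std_fixE6 f hf hK hq).lifts _ _ (by
    rw [Endo.orbL, List.getD_eq_getElem _ _ hk]; exact List.getElem_mem _)).1
  simp_lt s hs := by
    rw [lay_len]
    simp only [List.mem_cons, List.not_mem_nil, or_false] at hs
    omega
  move k hk := by
    obtain ⟨g, hg⟩ := IsCyclic.exists_generator (α := Kˣ)
    have h := chkMove
    simp only [List.all_eq_true, List.any_eq_true, List.mem_range] at h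
    obtain ⟨x, -, hx⟩ := h k hk
    exact ⟨parE q x g, parE_torPar f hf hK x g, by
      rw [chiL_parE hK x g hk]; exact pow_ne_one_of_moved (K := K) hK hq3 hx hg⟩
  sep s hs k hk hne := by
    obtain ⟨g, hg⟩ := IsCyclic.exists_generator (α := Kˣ)
    have hs4 : s < 4 := by
      simp only [List.mem_cons, List.not_mem_nil, or_false] at hs
      omega
    have h := chkSep
    simp only [List.all_eq_true, List.any_eq_true, List.mem_range, Bool.or_eq_true,
      Bool.and_eq_true, decide_eq_true_eq] at h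
    obtain ⟨x, -, hx⟩ := (h s hs4 k hk).resolve_left hne
    have h0 : ∀ {l}, l < 24 → red x l = (0, 0) → Endo.chiL dataTwE6.L l (parE q x g) = 1 :=
      fun hl e => by rw [chiL_parE hK x g hl, e]; simp [evl]
    have h1 : ∀ {l}, l < 24 → moved (red x l) = true → Endo.chiL dataTwE6.L l (parE q x g) ≠ 1 :=
      fun hl e => by rw [chiL_parE hK x g hl]; exact pow_ne_one_of_moved (K := K) hK hq3 e hg
    refine ⟨parE q x g, parE_torPar f hf hK x g, ?_⟩
    rcases hx with ⟨e1, e2⟩ | ⟨e1, e2⟩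
    · exact Or.inl ⟨h0 (by omega) e1, h1 hk e2⟩
    · exact Or.inr ⟨h0 hk e1, h1 (by omega) e2⟩
  self s hs := by
    have hs4 : s < 4 := by
      simp only [List.mem_cons, List.not_mem_nil, or_false] at hs
      omega
    have h := chkSelfE6
    simp only [List.all_eq_true, List.any_eq_true, List.mem_range, List.contains_iff_mem] at h
    obtain ⟨c, hc, hca⟩ := h s hs4
    obtain ⟨m, -, hm, -, hM⟩ := (std_fixE6 f hf hK hq).reps c hc
    exact ⟨⟨m, hm⟩, fun a ha => ⟨_, hca a ha, hM a ((orbE6 (by omega)).2.2.1 a ha).1⟩⟩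
  scale k hk hns x hx hx0 := by
    have hk4 : 4 ≤ k := by
      simp only [List.mem_cons, List.not_mem_nil, or_false] at hns
      omega
    obtain ⟨u, hu, hu0⟩ := wit_mem f hf hK hk hk4 hq3
    obtain ⟨c, hc, hcu⟩ := scaleE6 f hf hK hk hx
      ((endoE6 f).crd_adm (layersE6 f) hk hu.2) hu0 hx0
    exact ⟨u, hu, c, hc, hcu⟩

end CfsgLib.Chev.E6Root
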