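import Cfsg.Agent.Lib.Chev.TwistE6
import Cfsg.Agent.Lib.Chev.FixSylow

/-!
The torus of `²E₆(q)` on the layers of the unipotent group, with the data separating the simple
layers from the others (generated tables, checked by the kernel).
-/

set_option autoImplicit false
set_option maxRecDepth 100000
set_option linter.unusedSectionVars false

open scoped commutatorElement

namespace CfsgLib.Chev.E6Root

open Cfsg.Lie Matrix
open Cert (torusHom extC extC_ne_zero)

/-- The Cartan integers of the roots of the layers. -/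
def carR : List (List ℤ) := [
    [2, 0, -1, 0, 0, 0],
    [-1, 0, 2, -1, 0, 0],
    [0, -1, -1, 2, -1, 0],
    [0, 2, 0, -1, 0, 0],
    [1, 0, 1, -1, 0, 0],
    [-1, -1, 1, 1, -1, 0],
    [0, 1, -1, 1, -1, 0],
    [1, -1, 0, 1, -1, 0],
    [-1, -1, 1, 0, 1, -1],
    [-1, 1, 1, 0, -1, 0],
    [1, -1, 0, 0, 1, -1],
    [1, 1, 0, 0, -1, 0],
    [-1, 1, 1, -1, 1, -1],
    [1, 1, 0, -1, 1, -1],
    [-1, 0, 0, 1, 0, -1],
    [1, -1, 0, 0, 0, 1],
    [1, 0, -1, 1, 0, -1],
    [1, 1, 0, -1, 0, 1],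
    [0, 0, 1, 0, 0, -1],
    [1, 0, -1, 1, -1, 1],
    [0, 0, 1, 0, -1, 1],
    [0, 0, 1, -1, 1, 0],
    [0, -1, 0, 1, 0, 0],
    [0, 1, 0, 0, 0, 0]]

/-- Parameters of torus elements, linear in `q`. -/
def cands : List (List (ℤ × ℤ)) := [
    [(-1, -1), (0, 0), (0, 0), (0, 1)],
    [(-1, 0), (-2, 0), (0, 0), (0, 0)],
    [(-1, 0), (0, 0), (0, 0), (0, 0)],
    [(-1, 1), (-1, 0), (0, 0), (-1, 0)],
    [(0, -1), (0, 0), (0, 0), (0, 0)],
    [(0, 0), (-1, -1), (-1, 0), (0, 0)],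
    [(0, 0), (-1, -1), (0, 0), (-1, -1)],
    [(0, 0), (-1, 0), (-1, 0), (-1, 0)],
    [(0, 0), (-1, 0), (0, 0), (0, 0)],
    [(0, 0), (-1, 0), (0, 1), (0, 0)],
    [(0, 0), (0, -1), (0, 0), (0, 0)],
    [(0, 0), (0, 0), (-1, 0), (-1, -1)],
    [(0, 0), (0, 0), (-1, 0), (-1, 0)],
    [(0, 0), (0, 0), (-1, 0), (0, 0)],
    [(0, 0), (0, 0), (0, 0), (-1, 0)],
    [(0, 0), (0, 0), (0, 0), (0, 1)],
    [(0, 0), (0, 0), (0, 1), (0, 0)],
    [(0, 0), (0, 1), (0, 0), (0, 0)],
    [(0, 0), (1, 0), (0, 0), (0, 0)],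
    [(1, 0), (0, 0), (0, 0), (0, 0)]]

/-- The commutators reaching the layers. -/
def wits : List (ℕ × ℕ × ℕ × List (ℕ × ℤ)) := [
    (4, 0, 1, [(4, -1)]),
    (5, 1, 2, [(5, -1), (8, -1)]),
    (6, 2, 3, [(6, 1)]),
    (7, 0, 5, [(7, -1)]),
    (8, 1, 2, [(5, -1), (8, -1)]),
    (9, 1, 6, [(9, 1), (12, 1)]),
    (10, 1, 7, [(10, 1)]),
    (11, 0, 9, [(11, -1)]),
    (12, 3, 8, [(12, 1)]),
    (13, 1, 11, [(13, 1)]),
    (14, 2, 12, [(14, 1)]),
    (15, 0, 8, [(10, -1), (15, -1)]),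
    (16, 5, 11, [(16, 1)]),
    (17, 3, 15, [(17, 1)]),
    (18, 1, 16, [(18, 1)]),
    (19, 2, 17, [(19, 1)]),
    (20, 0, 18, [(20, 1)]),
    (21, 8, 17, [(21, -1)]),
    (22, 2, 21, [(22, 1)]),
    (23, 3, 22, [(23, 1)])]

/-- The exponent at a simple index, as coefficients of `q ^ 2, q, 1`. -/
def expT (x : List (ℤ × ℤ)) (i : ℕ) : ℤ × ℤ × ℤ :=
  match i with
  | 0 => (0, (x.getD 0 (0, 0)).1, (x.getD 0 (0, 0)).2)
  | 5 => ((x.getD 0 (0, 0)).1, (x.getD 0 (0, 0)).2, 0)
  | 2 => (0, (x.getD 1 (0, 0)).1, (x.getD 1 (0, 0)).2)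
  | 4 => ((x.getD 1 (0, 0)).1, (x.getD 1 (0, 0)).2, 0)
  | 1 => ((x.getD 2 (0, 0)).1, (x.getD 2 (0, 0)).1 + (x.getD 2 (0, 0)).2, (x.getD 2 (0, 0)).2)
  | _ => ((x.getD 3 (0, 0)).1, (x.getD 3 (0, 0)).1 + (x.getD 3 (0, 0)).2, (x.getD 3 (0, 0)).2)

/-- A Cartan integer of a layer. -/
def cR (k i : ℕ) : ℤ := (carR.getD k []).getD i 0

/-- The exponent of a character, reduced by `q ^ 2 = 1`. -/
def red (x : List (ℤ × ℤ)) (k : ℕ) : ℤ × ℤ :=
  (((List.range 6).map fun i => cR k i * (expT x i).2.1).sum,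
    ((List.range 6).map fun i => cR k i * ((expT x i).2.2 + (expT x i).1)).sum)

/-- A reduced exponent not divisible by `q ^ 2 - 1` for `q ≥ 3`. -/
def moved (z : ℤ × ℤ) : Bool :=
  decide (-2 ≤ z.1 ∧ z.1 ≤ 2 ∧ -2 ≤ z.2 ∧ z.2 ≤ 2 ∧ (3 * z.1 + z.2) % 8 ≠ 0)

theorem chkCar : ((List.range 24).all fun k => (List.range 6).all fun i =>
    decide (tabE6.car i (Endo.orbL dataTwE6.L k).root = cR k i)) = true := by
  decide +kernel

theorem chkSep : ((List.range 4).all fun s => (List.range 24).all fun k => decide (k = s) ||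
    cands.any fun x => (decide (red x s = (0, 0)) && moved (red x k)) ||
      (decide (red x k = (0, 0)) && moved (red x s))) = true := by
  decide +kernel

theorem chkMove : ((List.range 24).all fun k => cands.any fun x => moved (red x k)) = true := by
  decide +kernel

theorem chkOnto : ((List.range 24).all fun k => cands.any fun x =>
    decide (red x k = if (Endo.orbL dataTwE6.L k).size = 2 then (0, 1) else (1, 1))) = true := by
  decide +kernel

theorem chkLayE6 : ((List.range 24).all fun k =>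
    chkCommGenMod tabE6 0 (Endo.sfxL twistE6.rt dataTwE6.L 0)
      (Endo.sfxL twistE6.rt dataTwE6.L k) (Endo.sfxL twistE6.rt dataTwE6.L (k + 1))) = true := by
  decide +kernel

theorem chkOrbE6 : ((List.range 24).all fun k =>
    decide ((Endo.orbL dataTwE6.L k).tail = []) &&
    decide ((Endo.orbL dataTwE6.L k).size = 1 ∨ (Endo.orbL dataTwE6.L k).size = 2) &&
    ((Endo.orbL dataTwE6.L k).list twistE6.rt).all fun a =>
      decide (a < tabE6.n) && ((Endo.orbL dataTwE6.L k).list twistE6.rt).all fun b =>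
        decide (a = b) || decide (tabE6.commTerms a b = [])) = true := by
  decide +kernel

theorem chkSelfE6 : ((List.range 4).all fun s => dataTwE6.CL.any fun c =>
    ((Endo.orbL dataTwE6.L s).list twistE6.rt).all fun a =>
      (Endo.sfxL twistE6.rt dataTwE6.L (s + 1)).contains (rword tabE6 c.word a)) = true := by
  decide +kernel

/-- The word of the element of parameter `s` in a layer. -/
noncomputable def uw (k : ℕ) (s : ℤ) : List (ℕ × ℤ) :=
  let o := Endo.orbL dataTwE6.L k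
  (o.root, s) :: if o.size = 2 then [(twistE6.rt o.root, s * twistE6.ep o.root)] else []

theorem chkUnitE6 : ((List.range 24).all fun k =>
    let o := Endo.orbL dataTwE6.L k
    decide (twistE6.dg o.root = 1) &&
      if o.size = 2 then decide (twistE6.dg (twistE6.rt o.root) = 1 ∧
        twistE6.rt (twistE6.rt o.root) = o.root ∧ twistE6.rt o.root ≠ o.root ∧
        twistE6.ep o.root * twistE6.ep (twistE6.rt o.root) = 1) &&
          chkCommute tabE6 (twistE6.rt o.root) o.root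
      else decide (twistE6.rt o.root = o.root ∧ twistE6.ep o.root = 1)) = true := by
  decide +kernel

theorem chkWitE6 : (wits.all fun w =>
    decide (w.2.1 < 24 ∧ w.2.2.1 < 24 ∧ w.1 < 24) &&
    chkWordEq tabE6 0
      (uw w.2.1 1 ++ uw w.2.2.1 1 ++ (uw w.2.1 1).reverse.map (fun p => (p.1, -p.2)) ++
        (uw w.2.2.1 1).reverse.map (fun p => (p.1, -p.2)))
      (w.2.2.2.flatMap fun p => uw p.1 p.2)) = true := by
  decide +kernel

/-- The shape of a commutator: the layer first, or one layer before it that a torus element fixes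
while moving the layer. -/
def shape (k : ℕ) : List (ℕ × ℤ) → Bool
  | [(i, s)] => decide (i = k ∧ (s = 1 ∨ s = -1))
  | [(i, s), (j, t)] => (decide (i = k ∧ k < j ∧ j < 24 ∧ (s = 1 ∨ s = -1))) ||
      (decide (j = k ∧ i < k ∧ (t = 1 ∨ t = -1)) &&
        cands.any fun x => decide (red x i = (0, 0)) && moved (red x k))
  | _ => false

theorem chkShapeE6 : ((List.range 24).all fun k => decide (k < 4) ||
    wits.any fun w => decide (w.1 = k) && shape k w.2.2.2) = true := by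
  decide +kernel

end CfsgLib.Chev.E6Root
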