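import Cfsg.Agent.Lib.Chev.TwistSubfieldE6
import Cfsg.Agent.Lib.Chev.FoldF4

/-!
`F₄(2)` inside `²E₆(2)`: the conjugates under the diagonal automorphism of order three are not
conjugate in the group.

If `g δ^k` normalises the rational subgroup `H₀` then `(gδ^k)⁻¹σ(gδ^k)` centralises it, hence is
trivial, although `σ` inverts the coset of `δ`.
-/

set_option autoImplicit false
set_option maxRecDepth 100000
set_option linter.unusedSectionVars false

namespace CfsgLib.Chev.F4Classes

open Cfsg.Lie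

/-- Three times the coweights `ϖ₁ - ϖ₆` in the fundamental coroots. -/
def wgt (i : ℕ) : ℤ := [2, 0, 1, 0, -1, -2].getD i 0

/-- The value of `ϖ₁ - ϖ₆` on a root. -/
noncomputable def expo (r : ℕ) : ℤ := (((List.range 6).map fun i => wgt i * tabE6.car i r).sum) / 3

theorem expo_chk : ((List.range tabE6.n).all fun r => decide
    (((List.range 6).map fun i => wgt i * tabE6.car i r).sum = 3 * expo r)) = true := by
  decide +kernel

theorem expo_vals : (∀ r ∈ [e6p2, e6m2, e6p4, e6m4], expo r = 0) ∧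
    (∀ p ∈ [(e6p1, e6p6), (e6m1, e6m6), (e6p3, e6p5), (e6m3, e6m5)], expo p.1 + expo p.2 = 0) ∧
    expo 56 = 1 ∧ expo 42 = 0 ∧ expo 37 = 0 ∧ expo 36 = -1 := by decide +kernel

theorem inv_chk : ((List.range 6).all fun i => decide
    ((tabE6.car i 56 + 2 * tabE6.car i 42 + tabE6.car i 37 + 2 * tabE6.car i 36) % 3 = 0)) = true := by
  decide +kernel

theorem root_facts : tabE6.n = 72 ∧ tabE6.l = 6 ∧ tabE6.half = 36 ∧
    tabE6.simple 0 = 56 ∧ tabE6.simple 1 = 46 ∧ tabE6.simple 2 = 42 ∧ tabE6.simple 3 = 39 ∧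
    tabE6.simple 4 = 37 ∧ tabE6.simple 5 = 36 ∧
    chkCommute tabE6 56 36 = true ∧ chkCommute tabE6 42 37 = true := by decide +kernel

/-- The longest word in the classes of the orbits. -/
def longW : List ℕ :=
  clsWord dataTwE6.CL [3, 2, 1, 2, 0, 1, 2, 3, 2, 1, 2, 0, 1, 2, 3, 2, 1, 2, 0, 1, 2, 0, 1, 0]

theorem longW_neg (r : ℕ) (h1 : tabE6.half ≤ r) (h2 : r < tabE6.n) :
    rword tabE6 longW r < tabE6.half := by
  have := SubE6.longest_chk
  simp only [List.all_eq_true, List.mem_range, Bool.or_eq_true, decide_eq_true_eq] at this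
  exact (this r h2).resolve_left (by omega)

theorem longW_ok : WordOK tabE6 longW := wordOK_of_all (by decide +kernel)

section Prime

/-- The group over the field with two elements contains the representatives of the classes. -/
theorem nW_cls_mem (j : ℕ) :
    nW chevE6 (ZMod 2) ((dataTwE6.CL.getD j ⟨[], []⟩).word) ∈ twistedE6 (ZMod 2) 1 := by
  have hf : ∀ t : ZMod 2, RingHom.id (ZMod 2) t = t ^ 1 := fun t => (pow_one t).symm
  by_cases hj : j < dataTwE6.CL.length
  swap
  · rw [List.getD_eq_default _ _ (not_lt.1 hj)]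
    simp [nW]
  rw [List.getD_eq_getElem _ _ hj]
  have hc := List.getElem_mem hj
  generalize dataTwE6.CL[j] = c at hc
  simp only [dataTwE6, List.mem_cons, List.not_mem_nil, or_false] at hc
  rcases hc with rfl | rfl | rfl | rfl
  · have := GraphE6.nU_pair_memE6' (RingHom.id (ZMod 2)) hf (r := e6p1) (s := e6p6) (r' := e6m1)
      (s' := e6m6) (by decide) (by decide +kernel) (1 : ZMod 2)
    rw [one_pow] at this
    simpa [nW, GraphE6.nS_simpleE6' (RingHom.id (ZMod 2)) hf (show 0 < tabE6.l by decide),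
      GraphE6.nS_simpleE6' (RingHom.id (ZMod 2)) hf (show 5 < tabE6.l by decide),
      show tabE6.simple 0 = e6p1 by decide +kernel,
      show tabE6.simple 5 = e6p6 by decide +kernel] using this
  · have := GraphE6.nU_pair_memE6' (RingHom.id (ZMod 2)) hf (r := e6p3) (s := e6p5) (r' := e6m3)
      (s' := e6m5) (by decide) (by decide +kernel) (1 : ZMod 2)
    rw [one_pow] at this
    simpa [nW, GraphE6.nS_simpleE6' (RingHom.id (ZMod 2)) hf (show 2 < tabE6.l by decide),
      GraphE6.nS_simpleE6' (RingHom.id (ZMod 2)) hf (show 4 < tabE6.l by decide),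
      show tabE6.simple 2 = e6p3 by decide +kernel,
      show tabE6.simple 4 = e6p5 by decide +kernel] using this
  · have := GraphE6.nU_single_memE6' (RingHom.id (ZMod 2)) hf (r := e6p4) (by decide)
      (by decide +kernel) (one_pow 1)
    simpa [nW, GraphE6.nS_simpleE6' (RingHom.id (ZMod 2)) hf (show 3 < tabE6.l by decide),
      show tabE6.simple 3 = e6p4 by decide +kernel] using this
  · have := GraphE6.nU_single_memE6' (RingHom.id (ZMod 2)) hf (r := e6p2) (by decide)
      (by decide +kernel) (one_pow 1)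
    simpa [nW, GraphE6.nS_simpleE6' (RingHom.id (ZMod 2)) hf (show 1 < tabE6.l by decide),
      show tabE6.simple 1 = e6p2 by decide +kernel] using this

theorem nW_clsWord_mem : ∀ M : List ℕ,
    nW chevE6 (ZMod 2) (clsWord dataTwE6.CL M) ∈ twistedE6 (ZMod 2) 1
  | [] => by simp [clsWord, nW]
  | j :: M => by
    have h1 := nW_clsWord_mem M
    have h2 := nW_cls_mem j
    rw [nW] at h1 h2 ⊢
    rw [clsWord] at h1 ⊢
    rw [List.flatMap_cons, List.map_append, List.prod_append]
    exact mul_mem h2 h1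

/-- The simple root elements of `F₄(2)`. -/
theorem gens_mem :
    X chevE6 46 (1 : ZMod 2) ∈ twistedE6 (ZMod 2) 1 ∧ X chevE6 39 (1 : ZMod 2) ∈ twistedE6 (ZMod 2) 1 ∧
    X chevE6 56 (1 : ZMod 2) * X chevE6 36 1 ∈ twistedE6 (ZMod 2) 1 ∧
    X chevE6 42 (1 : ZMod 2) * X chevE6 37 1 ∈ twistedE6 (ZMod 2) 1 := by
  have h1 : ∀ a ∈ [e6p2, e6m2, e6p4, e6m4], X chevE6 a (1 : ZMod 2) ∈ twistedE6 (ZMod 2) 1 := by
    intro a ha
    have := certE6.prod_mem_genSubgroup (F := ZMod 2) (S := e6Words (ZMod 2) 1) (w := [(a, 1)])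
      (Or.inl ⟨1, pow_one 1, a, ha, rfl⟩)
    simp only [List.map_cons, List.map_nil, List.prod_cons, List.prod_nil, mul_one] at this
    exact this
  have h2 : ∀ a b, (a, b) ∈ [(e6p1, e6p6), (e6m1, e6m6), (e6p3, e6p5), (e6m3, e6m5)] →
      X chevE6 a (1 : ZMod 2) * X chevE6 b ((1 : ZMod 2) ^ 1) ∈ twistedE6 (ZMod 2) 1 := by
    intro a b hab
    rw [← chevE6_prod_pair]
    exact certE6.prod_mem_genSubgroup (Or.inr ⟨1, (a, b), hab, rfl⟩)
  simp only [one_pow] at h2
  exact ⟨h1 46 (by decide), h1 39 (by decide), h2 56 36 (by decide), h2 42 37 (by decide)⟩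

end Prime

/-- An element of the group over any extension of the prime field commuting with the rational
subgroup is trivial. -/
theorem eq_one_of_commute {L : Type*} [Field L] (e : ZMod 2 →+* L) {z : GL chevE6.Idx L}
    (hz : z ∈ chevE6.group L)
    (hc : ∀ x ∈ twistedE6 (ZMod 2) 1, Commute z (mapGL chevE6 e x)) : z = 1 := by
  obtain ⟨hn, hl, hhalf, s0, s1, s2, s3, s4, s5, c56, c42⟩ := root_facts
  have hled : Led chevE6 tabE6 z := by
    obtain ⟨g1, g3, g0, g2⟩ := gens_mem
    have k1 := hc _ g1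
    have k3 := hc _ g3
    have k0 := hc _ g0
    have k2 := hc _ g2
    rw [certE6.X_map, map_one] at k1 k3
    rw [map_mul, certE6.X_map, certE6.X_map, map_one] at k0 k2
    have hb : ∀ i r, r < 72 → 36 ≤ r → r ≠ tabE6.simple i →
        X chevE6 r (1 : L) ∈ gen chevE6 L (posBut tabE6 i) := fun i r h1 h2 h3 =>
      X_mem_gen chevE6 (S := posBut tabE6 i) ⟨⟨by rw [hhalf]; exact h2, by rw [hn]; exact h1⟩, h3⟩ 1
    intro i hi
    have hi6 : i < 6 := hl ▸ hi
    interval_cases i
    · exact ⟨1, one_ne_zero, _, hb 0 36 (by norm_num) (by norm_num) (by rw [s0]; norm_num),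
        by rw [s0]; exact k0⟩
    · exact ⟨1, one_ne_zero, 1, one_mem _, by rw [s1, mul_one]; exact k1⟩
    · exact ⟨1, one_ne_zero, _, hb 2 37 (by norm_num) (by norm_num) (by rw [s2]; norm_num),
        by rw [s2]; exact k2⟩
    · exact ⟨1, one_ne_zero, 1, one_mem _, by rw [s3, mul_one]; exact k3⟩
    · exact ⟨1, one_ne_zero, _, hb 4 42 (by norm_num) (by norm_num) (by rw [s4]; norm_num),
        by rw [s4, ← (certE6.commute_X c42 (1 : L) 1).eq]; exact k2⟩
    · exact ⟨1, one_ne_zero, _, hb 5 56 (by norm_num) (by norm_num) (by rw [s5]; norm_num),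
        by rw [s5, ← (certE6.commute_X c56 (1 : L) 1).eq]; exact k0⟩
  refine certE6.eq_one_of_led centralE6 hz longW_ok longW_neg hled ?_
  have := hc _ (nW_clsWord_mem
    [3, 2, 1, 2, 0, 1, 2, 3, 2, 1, 2, 0, 1, 2, 3, 2, 1, 2, 0, 1, 2, 0, 1, 0])
  rw [certE6.nW_map] at this
  change Commute z (nW chevE6 L longW) at this
  rwa [← this.eq, mul_inv_cancel_right]

section Four

variable {K : Type*} [Field K] [Fintype K] (hK : Nat.card K = 4)

/-- The character `r ↦ a ^ ⟨ϖ₁ - ϖ₆, r⟩`. -/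
noncomputable def chr (a : K) (r : ℕ) : K := a ^ expo r

/-- The diagonal element of a nonzero scalar. -/
noncomputable def dlt (a : Kˣ) : GL chevE6.Idx K :=
  ⟨torus chevE6 (chr (a : K)), torus chevE6 (chr ((a⁻¹ : Kˣ) : K)),
    by rw [torus_mul, ← torus_one chevE6]
       exact torus_congr _ fun s _ => by simp [chr, zpow_ne_zero],
    by rw [torus_mul, ← torus_one chevE6]
       exact torus_congr _ fun s _ => by simp [chr, zpow_ne_zero]⟩

omit hK in
lemma coe_dlt (a : Kˣ) : (dlt a : Matrix chevE6.Idx chevE6.Idx K) = torus chevE6 (chr (a : K)) := rfl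

omit hK in
lemma dlt_mul (a b : Kˣ) : dlt a * dlt b = dlt (a * b) := by
  refine Units.ext ?_
  rw [Units.val_mul, coe_dlt, coe_dlt, coe_dlt, torus_mul]
  exact torus_congr _ fun s _ => by simp [chr, mul_zpow]

omit hK in
lemma dlt_one : dlt (1 : Kˣ) = 1 := by
  refine Units.ext ?_
  rw [coe_dlt]
  exact (torus_congr _ fun s _ => by simp [chr]).trans (torus_one chevE6)

omit hK in
lemma dlt_inv (a : Kˣ) : (dlt a)⁻¹ = dlt a⁻¹ :=
  inv_eq_of_mul_eq_one_right (by rw [dlt_mul, mul_inv_cancel, dlt_one])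

omit hK in
/-- Over a field with a cube root of the scalar the element is a torus element. -/
lemma dlt_mem_diagonal {L : Type*} [Field L] (j : K →+* L) (a : Kˣ) {ζ : L} (hζ : ζ ^ 3 = j a) :
    mapGL chevE6 j (dlt a) ∈ chevE6.diagonalSubgroup L := by
  have hζ0 : ζ ≠ 0 := fun h => a.ne_zero (j.injective (by rw [← hζ, h, map_zero]; simp))
  refine certE6.mem_diagonalSubgroup_iff.2 ⟨fun i => ζ ^ wgt i, fun i _ => zpow_ne_zero _ hζ0, ?_⟩
  rw [coe_mapGL, coe_dlt, torus, torus, Matrix.diagonal_map j.map_zero]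
  congr 1
  funext x
  rcases x with x | s
  · simp
  · have hs : s.val < tabE6.n := lt_of_lt_of_eq s.isLt certE6.nroots_eq
    have h := expo_chk
    simp only [List.all_eq_true, List.mem_range, decide_eq_true_eq] at h
    show j ((a : K) ^ expo s.val) = ∏ i ∈ Finset.range tabE6.l, (ζ ^ wgt i) ^ tabE6.car i s.val
    have hl : tabE6.l = 6 := root_facts.2.1
    simp only [hl, ← zpow_mul, Finset.prod_range_succ, Finset.prod_range_zero, one_mul,
      ← zpow_add₀ hζ0]
    rw [map_zpow₀, ← hζ, ← zpow_natCast, ← zpow_mul, Nat.cast_ofNat, ← h _ hs]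
    simp [List.range_succ, add_assoc]

omit hK in
lemma isChar_chr (a : Kˣ) : IsChar tabE6 (chr (a : K)) := by
  let j := algebraMap K (AlgebraicClosure K)
  obtain ⟨ζ, hζ⟩ := IsAlgClosed.exists_pow_nat_eq (j a) (show 0 < 3 by norm_num)
  have hζ0 : ζ ≠ 0 := fun h => a.ne_zero (j.injective (by rw [← hζ, h, map_zero]; simp))
  have hc := certE6.isChar_charOf (F := AlgebraicClosure K) (c := fun i => ζ ^ wgt i)
    fun i _ => zpow_ne_zero _ hζ0
  have h := expo_chk
  simp only [List.all_eq_true, List.mem_range, decide_eq_true_eq] at h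
  have hv : ∀ s < tabE6.n, j (chr (a : K) s) = charOf tabE6 (fun i => ζ ^ wgt i) s := by
    intro s hs
    have hl : tabE6.l = 6 := root_facts.2.1
    simp only [chr, charOf, hl, ← zpow_mul, Finset.prod_range_succ, Finset.prod_range_zero, one_mul,
      ← zpow_add₀ hζ0]
    rw [map_zpow₀, ← hζ, ← zpow_natCast, ← zpow_mul, Nat.cast_ofNat, ← h _ hs]
    simp [List.range_succ, add_assoc]
  refine ⟨fun r hr => j.injective ?_, fun r hr s hs q hq => j.injective ?_⟩
  · rw [map_mul, map_one, hv r hr, hv _ (Cert.neg_lt hr)]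
    exact hc.mul_neg r hr
  · rw [map_mul, map_pow, hv r hr, hv s hs, hv _ (certE6.entry_lt hr hs hq)]
    exact hc.chain r hr s hs q hq

omit hK in
lemma dlt_conj (a : Kˣ) {r : ℕ} (hr : r < tabE6.n) (t : K) :
    dlt a * X chevE6 r t * (dlt a)⁻¹ = X chevE6 r (chr (a : K) r * t) := by
  rw [mul_inv_eq_iff_eq_mul]
  refine Units.ext ?_
  rw [Units.val_mul, Units.val_mul, coe_dlt, certE6.coe_X, certE6.coe_X,
    certE6.torus_mul_x (isChar_chr a) hr]

include hK

lemma cube_units (a : Kˣ) : a ^ 3 = 1 := by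
  have h : Nat.card Kˣ = 3 := by rw [Nat.card_units, hK]
  rw [← h]
  exact pow_card_eq_one'

lemma sq_eq_inv (a : Kˣ) : a ^ 2 = a⁻¹ :=
  eq_inv_of_mul_eq_one_left (by rw [← pow_succ, cube_units hK])

/-- The diagonal elements normalise the twisted group. -/
lemma dlt_conj_mem (a : Kˣ) {g : GL chevE6.Idx K} (hg : g ∈ twistedE6 K 2) :
    dlt a * g * (dlt a)⁻¹ ∈ twistedE6 K 2 := by
  suffices h : twistedE6 K 2 ≤ (twistedE6 K 2).comap (MulAut.conj (dlt a)).toMonoidHom from h hg
  obtain ⟨e1, e2, -⟩ := expo_vals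
  refine certE6.genSubgroup_le ?_
  rintro w (⟨t, ht, r, hr, rfl⟩ | ⟨t, rs, hrs, rfl⟩)
  · simp only [List.map_cons, List.map_nil, List.prod_cons, List.prod_nil, mul_one,
      Subgroup.mem_comap, MulEquiv.coe_toMonoidHom, MulAut.conj_apply]
    have hlt : r < tabE6.n := by
      revert hr; revert r; decide +kernel
    rw [dlt_conj a hlt, chr, e1 r hr, zpow_zero, one_mul]
    have := certE6.prod_mem_genSubgroup (F := K) (S := e6Words K 2) (w := [(r, t)])
      (Or.inl ⟨t, ht, r, hr, rfl⟩)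
    simp only [List.map_cons, List.map_nil, List.prod_cons, List.prod_nil, mul_one] at this
    exact this
  · rw [chevE6_prod_pair, Subgroup.mem_comap]
    simp only [MulEquiv.coe_toMonoidHom, MulAut.conj_apply]
    have hlt : rs.1 < tabE6.n ∧ rs.2 < tabE6.n := by
      revert hrs; revert rs; decide +kernel
    rw [← conj_mul, dlt_conj a hlt.1, dlt_conj a hlt.2]
    have hx : chr (a : K) rs.2 = chr (a : K) rs.1 ^ 2 := by
      have h1 : ((a ^ expo rs.1) ^ 2 : Kˣ) = a ^ expo rs.2 := by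
        rw [sq_eq_inv hK, ← zpow_neg, show -expo rs.1 = expo rs.2 by linarith [e2 rs hrs]]
      have := congrArg Units.val h1
      rw [Units.val_pow_eq_pow_val, Units.val_zpow_eq_zpow_val, Units.val_zpow_eq_zpow_val] at this
      exact this.symm
    rw [hx, ← mul_pow, ← chevE6_prod_pair]
    exact certE6.prod_mem_genSubgroup (Or.inr ⟨_, rs, hrs, rfl⟩)

omit hK in
/-- A scalar whose diagonal element lies in the Chevalley group is trivial. -/
lemma dlt_mem_group (hK : Nat.card K = 4) (a : Kˣ) (ha : dlt a ∈ chevE6.group K) : a = 1 := by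
  have hc := isChar_chr a
  let χ : ℕ → Kˣ := fun r => a ^ expo r
  have hχv : ∀ r, (χ r : K) = chr (a : K) r := fun r => Units.val_zpow_eq_zpow_val a _
  have hχ : chevE6.IsRootCharacter χ := by
    refine ⟨fun r hr => eq_inv_of_mul_eq_one_right (Units.ext ?_), fun r s k hr hs he => ?_⟩
    · have hr' : r < tabE6.n := lt_of_lt_of_eq hr certE6.nroots_eq
      rw [Units.val_mul, Units.val_one, hχv, hχv, certE6.neg_eq hr']
      exact hc.mul_neg r hr'
    · have hr' : r < tabE6.n := lt_of_lt_of_eq hr certE6.nroots_eq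
      have hs' : s < tabE6.n := lt_of_lt_of_eq hs certE6.nroots_eq
      rw [certE6.chainRoot_eq hr' hs'] at he
      refine Units.ext ?_
      rw [Units.val_mul, hχv, hχv, hχv]
      unfold Tab.chainRoot at he
      rcases hE : tabE6.entry r s with _ | ⟨q, l⟩
      · rw [hE] at he; simp at he
      · rw [hE] at he
        simp at he
        have := hc.chain r hr' s hs' (q, 1) (by rw [hE]; simp [List.zipIdx_cons])
        rw [pow_one] at this
        rw [← he, this, mul_comm]
  have hdiag := certE6.mem_diagonal_of_charDiag chkStepE6 hχ ha (by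
    rw [coe_dlt, Cert.charDiag_eq]
    exact torus_congr _ fun s _ => (hχv s).symm)
  obtain ⟨c, hc0, ec⟩ := certE6.mem_diagonalSubgroup_iff.1 hdiag
  have hv : ∀ r < 72, (a : K) ^ expo r = charOf tabE6 c r := by
    intro r hr
    have hr' : r < chevE6.nroots := by rw [certE6.nroots_eq, root_facts.1]; exact hr
    have := congrFun (congrFun (ec.symm.trans (coe_dlt a)) (Sum.inr ⟨r, hr'⟩)) (Sum.inr ⟨r, hr'⟩)
    simpa [torus, chr] using this.symm
  obtain ⟨-, -, v56, v42, v37, v36⟩ := expo_vals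
  have hl : tabE6.l = 6 := root_facts.2.1
  have hi := inv_chk
  simp only [List.all_eq_true, List.mem_range, decide_eq_true_eq] at hi
  have h1 : charOf tabE6 c 56 * charOf tabE6 c 42 ^ 2 * charOf tabE6 c 37 * charOf tabE6 c 36 ^ 2 = 1 := by
    simp only [charOf, hl, ← Finset.prod_pow, ← Finset.prod_mul_distrib]
    refine Finset.prod_eq_one fun i hi' => ?_
    have hi6 : i < 6 := Finset.mem_range.1 hi'
    have hne : c i ≠ 0 := hc0 i (hl ▸ hi6)
    simp only [← zpow_natCast, ← zpow_mul, ← zpow_add₀ hne]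
    obtain ⟨d, hd⟩ := Int.dvd_of_emod_eq_zero (hi i hi6)
    rw [show (tabE6.car i 56 + tabE6.car i 42 * (2 : ℕ) + tabE6.car i 37 + tabE6.car i 36 * (2 : ℕ)) =
      (3 : ℕ) * d by push_cast; linarith, zpow_mul, zpow_natCast]
    have := congrArg Units.val (cube_units hK (Units.mk0 _ hne))
    rw [Units.val_pow_eq_pow_val, Units.val_mk0, Units.val_one] at this
    rw [this, one_zpow]
  rw [← hv 56 (by norm_num), ← hv 42 (by norm_num), ← hv 37 (by norm_num), ← hv 36 (by norm_num),
    v56, v42, v37, v36, zpow_one, zpow_zero, one_pow, mul_one, mul_one, zpow_neg_one, inv_pow] at h1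
  have ha2 : (a : K) * ((a : K) ^ 2)⁻¹ = (a : K)⁻¹ := by
    rw [pow_two, mul_inv, ← mul_assoc, mul_inv_cancel₀ a.ne_zero, one_mul]
  rw [ha2, inv_eq_one] at h1
  exact Units.ext h1

/-- Conjugates of the rational subgroup by different diagonal elements are not conjugate. -/
theorem not_conj (e : ZMod 2 →+* K) {a b : Kˣ} {g : GL chevE6.Idx K} (hg : g ∈ twistedE6 K 2)
    (H₀ : Subgroup (GL chevE6.Idx K)) (hH₀ : H₀ = (twistedE6 (ZMod 2) 1).map (mapGL chevE6 e))
    (h : ∀ x ∈ H₀, g * (dlt a * x * (dlt a)⁻¹) * g⁻¹ ∈ H₀.map (MulAut.conj (dlt b)).toMonoidHom) :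
    a = b := by
  have : CharP K 2 := (RingHom.charP_iff_charP e 2).1 inferInstance
  let f : K →+* K := frobenius K 2
  have hf : ∀ t, f t = t ^ 2 := fun t => rfl
  have hfix : ∀ x ∈ H₀, mapGL chevE6 f x = x := by
    intro x hx
    obtain ⟨y, -, rfl⟩ := hH₀ ▸ hx
    refine Units.ext (Matrix.ext fun i j => ?_)
    show f (e ((y : Matrix chevE6.Idx chevE6.Idx (ZMod 2)) i j)) = e _
    rw [hf, ← map_pow, ZMod.pow_card]
  have hfd : ∀ u : Kˣ, mapGL chevE6 f (dlt u) = dlt (u ^ 2) := by
    intro u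
    refine Units.ext ?_
    rw [coe_mapGL, coe_dlt, coe_dlt, torus, torus, Matrix.diagonal_map f.map_zero]
    congr 1
    funext x
    rcases x with x | s
    · simp
    · simp only [Function.comp_apply, Sum.elim_inr, hf, chr, Units.val_pow_eq_pow_val]
      rw [← zpow_natCast, ← zpow_natCast, ← zpow_mul, ← zpow_mul, mul_comm]
  have hfg : mapGL chevE6 f g ∈ twistedE6 K 2 := by
    suffices h : twistedE6 K 2 ≤ (twistedE6 K 2).comap (mapGL chevE6 f) from h hg
    refine certE6.genSubgroup_le ?_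
    rintro w (⟨t, ht, r, hr, rfl⟩ | ⟨t, rs, hrs, rfl⟩)
    · simp only [List.map_cons, List.map_nil, List.prod_cons, List.prod_nil, mul_one,
        Subgroup.mem_comap, certE6.X_map, hf, ht]
      have := certE6.prod_mem_genSubgroup (F := K) (S := e6Words K 2) (w := [(r, t)])
        (Or.inl ⟨t, ht, r, hr, rfl⟩)
      simp only [List.map_cons, List.map_nil, List.prod_cons, List.prod_nil, mul_one] at this
      exact this
    · rw [chevE6_prod_pair, Subgroup.mem_comap, map_mul, certE6.X_map, certE6.X_map, hf, hf,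
        ← chevE6_prod_pair]
      exact certE6.prod_mem_genSubgroup (Or.inr ⟨_, rs, hrs, rfl⟩)
  set k := b⁻¹ * a with hk
  set g' := dlt b⁻¹ * g * dlt b with hg'
  have hg'G : g' ∈ twistedE6 K 2 := by
    have := dlt_conj_mem hK b⁻¹ hg
    rwa [dlt_inv, inv_inv] at this
  have hfg' : mapGL chevE6 f g' ∈ twistedE6 K 2 := by
    rw [hg', map_mul, map_mul, hfd, hfd]
    have h1 := dlt_conj_mem hK (b⁻¹ ^ 2) hfg
    rwa [dlt_inv, ← inv_pow, inv_inv, inv_pow] at h1
  set m := g' * dlt k with hm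
  have hnorm : ∀ x ∈ H₀, m * x * m⁻¹ ∈ H₀ := by
    intro x hx
    obtain ⟨y, hy, e1⟩ := Subgroup.mem_map.1 (h x hx)
    simp only [MulEquiv.coe_toMonoidHom, MulAut.conj_apply] at e1
    have e2 : m = (dlt b)⁻¹ * (g * dlt a) := by
      rw [hm, hg', hk, mul_assoc, dlt_mul, dlt_inv, mul_inv_cancel_left, mul_assoc]
    rw [e2, show (dlt b)⁻¹ * (g * dlt a) * x * ((dlt b)⁻¹ * (g * dlt a))⁻¹ =
      (dlt b)⁻¹ * (g * (dlt a * x * (dlt a)⁻¹) * g⁻¹) * dlt b by group, ← e1,
      show (dlt b)⁻¹ * (dlt b * y * (dlt b)⁻¹) * dlt b = y by group]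
    exact hy
  set z := m⁻¹ * mapGL chevE6 f m with hz
  have hzc : ∀ x ∈ H₀, Commute z x := by
    intro x hx
    have h1 := hfix _ (hnorm x hx)
    rw [map_mul, map_mul, map_inv, hfix x hx] at h1
    have h2 : mapGL chevE6 f m * x = m * x * m⁻¹ * mapGL chevE6 f m := by rw [← h1]; group
    calc z * x = m⁻¹ * (mapGL chevE6 f m * x) := mul_assoc ..
      _ = x * z := by rw [h2, hz]; group
  have hzf : z = (dlt k⁻¹ * (g'⁻¹ * mapGL chevE6 f g') * (dlt k⁻¹)⁻¹) * dlt k := by
    rw [hz, hm, map_mul, hfd, dlt_inv, inv_inv, mul_inv_rev, dlt_inv,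
      show dlt (k ^ 2) = dlt k * dlt k by rw [dlt_mul, pow_two]]
    group
  have hG : ∀ y ∈ twistedE6 K 2, y ∈ chevE6.group K := by
    intro y hy
    refine (certE6.genSubgroup_le ?_ : twistedE6 K 2 ≤ chevE6.group K) hy
    rintro w (⟨t, ht, r, hr, rfl⟩ | ⟨t, rs, hrs, rfl⟩)
    · have hlt : r < tabE6.n := by
        revert hr; revert r; decide +kernel
      simpa using certE6.X_mem_group hlt t
    · have hlt : rs.1 < tabE6.n ∧ rs.2 < tabE6.n := by
        revert hrs; revert rs; decide +kernel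
      rw [chevE6_prod_pair]
      exact mul_mem (certE6.X_mem_group hlt.1 _) (certE6.X_mem_group hlt.2 _)
  have hw := dlt_conj_mem hK k⁻¹ (mul_mem (inv_mem hg'G) hfg')
  let j := algebraMap K (AlgebraicClosure K)
  obtain ⟨ζ, hζ⟩ := IsAlgClosed.exists_pow_nat_eq (j k) (show 0 < 3 by norm_num)
  have hzL : mapGL chevE6 j z = 1 := by
    refine eq_one_of_commute (j.comp e) ?_ fun x hx => ?_
    · rw [hzf, map_mul]
      exact mul_mem (certE6.map_mem_group j (hG _ hw))
        (certE6.diagonal_le_group (dlt_mem_diagonal j k hζ))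
    · have h1 : mapGL chevE6 (j.comp e) x = mapGL chevE6 j (mapGL chevE6 e x) := by
        refine Units.ext (Matrix.ext fun r s => rfl)
      rw [h1]
      exact (hzc _ (hH₀ ▸ Subgroup.mem_map_of_mem _ hx)).map _
  have hz1 : z = 1 := mapGL_injective chevE6 j (hzL.trans (map_one _).symm)
  have hkg : dlt k ∈ chevE6.group K := by
    rw [hzf, mul_eq_one_iff_eq_inv] at hz1
    rw [← inv_inv (dlt k), ← hz1]
    exact inv_mem (hG _ hw)
  exact (inv_mul_eq_one.1 (hk ▸ dlt_mem_group hK k hkg)).symm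

end Four

end CfsgLib.Chev.F4Classes
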