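import Cfsg.Agent.Lib.Chev.TwistF4
import Cfsg.Agent.Lib.Chev.All

/-!
The involutions of `²F₄(2)` lie in its commutator subgroup.

An element of the Sylow 2-subgroup is a product of twelve root elements of the twisted group; the four
of order four have the same image in the abelianisation, the others are commutators up to conjugation.
An element with nontrivial image has a square moving a fixed vector.
-/

set_option autoImplicit false
set_option maxRecDepth 100000
set_option maxHeartbeats 1000000

open scoped commutatorElement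

namespace CfsgLib.Chev.F4Two

open Cfsg.Lie Matrix CfsgLib.Chev

instance : Fact (Nat.Prime 2) := ⟨Nat.prime_two⟩

/-- The product of the root elements with parameter one, for any datum. -/
noncomputable def Wd0 (D : ChevalleyDatum) (w : List ℕ) : GL D.Idx (ZMod 2) :=
  (w.map fun r => X D r (1 : ZMod 2)).prod

section generic

variable {D : ChevalleyDatum} {T : Tab} {C : Tab.Cover} (h : Cert D T C)

theorem Wd0_nil : Wd0 D [] = 1 := List.prod_nil

theorem Wd0_cons (r : ℕ) (w : List ℕ) : Wd0 D (r :: w) = X D r 1 * Wd0 D w := List.prod_cons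

theorem Wd0_append (v w : List ℕ) : Wd0 D (v ++ w) = Wd0 D v * Wd0 D w := by simp [Wd0]

include h in
theorem Wd0_reverse : ∀ {w : List ℕ}, (∀ r ∈ w, r < T.n) → Wd0 D w.reverse = (Wd0 D w)⁻¹
  | [], _ => by simp [Wd0]
  | r :: w, hw => by
    have hr := hw r List.mem_cons_self
    have h1 : X D r (1 : ZMod 2) * X D r 1 = 1 := by
      rw [h.X_add hr, CharTwo.add_self_eq_zero, h.X_zero hr]
    rw [List.reverse_cons, Wd0_append, Wd0_reverse fun s hs => hw s (List.mem_cons_of_mem _ hs),
      Wd0_cons, Wd0_cons, Wd0_nil, mul_one, _root_.mul_inv_rev,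
      inv_eq_of_mul_eq_one_right h1]

end generic

/-- The product of the root elements with parameter one. -/
noncomputable def Wd (w : List ℕ) : GL chevF4.Idx (ZMod 2) := Wd0 chevF4 w

theorem Wd_nil : Wd [] = 1 := Wd0_nil

theorem Wd_cons (r : ℕ) (w : List ℕ) : Wd (r :: w) = X chevF4 r 1 * Wd w := Wd0_cons r w

theorem Wd_append (v w : List ℕ) : Wd (v ++ w) = Wd v * Wd w := Wd0_append v w

theorem Wd_reverse {w : List ℕ} (hw : ∀ r ∈ w, r < tabF4.n) : Wd w.reverse = (Wd w)⁻¹ :=
  Wd0_reverse certF4 hw

theorem Wd_eq_prod (w : List ℕ) : Wd w = (w.map fun r => X chevF4 r (1 : ZMod 2)).prod := rfl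

attribute [irreducible] Wd

/-! ### A faster evaluation of words -/

/-- The deviations of the root elements from the identity, by columns. -/
def devTab : List (List (ℕ × ℕ)) :=
  [ [(24, 2), (26, 4), (29, 8), (31, 16), (32, 32), (36, 128), (38, 256), (39, 512), (40, 2048), (42, 32768), (43, 65536), (44, 262144), (45, 2097152), (46, 8388608), (47, 1407374883553281), (51, 1)],
    [(23, 1), (25, 4), (28, 8), (30, 16), (32, 64), (35, 128), (37, 256), (39, 1024), (40, 4096), (41, 32768), (43, 131072), (44, 524288), (45, 4194304), (46, 3659174697238530), (47, 16777216), (50, 2), (51, 2)],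
    [(21, 1), (22, 2), (27, 8), (30, 32), (31, 64), (34, 128), (37, 512), (38, 1024), (40, 8192), (41, 65536), (42, 131072), (44, 1048576), (45, 2533274790395908), (46, 33554432), (47, 67108864), (50, 4)],
    [(33, 128), (34, 256), (35, 512), (36, 1024), (37, 2048), (38, 4096), (39, 8192), (40, 16384), (41, 262145), (42, 524290), (43, 1048580), (44, 562949953421320), (45, 134217744), (46, 268435488), (47, 536870976), (48, 8)],
    [(16, 1), (17, 2), (20, 8), (25, 32), (26, 64), (33, 256), (35, 2048), (36, 4096), (39, 16384), (41, 2097152), (42, 4194304), (43, 3096224743817232), (44, 134217728), (46, 1073741824), (47, 2147483648), (50, 16)],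
    [(15, 1), (17, 4), (19, 8), (22, 16), (24, 64), (33, 512), (34, 2048), (36, 8192), (38, 16384), (41, 8388608), (42, 4222124650659872), (43, 33554432), (44, 268435456), (45, 1073741824), (47, 4294967296), (50, 32), (51, 32)],
    [(15, 2), (16, 4), (18, 8), (21, 16), (23, 32), (33, 1024), (34, 4096), (35, 8192), (37, 16384), (41, 1970324836974656), (42, 16777216), (43, 67108864), (44, 536870912), (45, 2147483648), (46, 4294967296), (51, 64)],
    [(14, 8), (27, 256), (28, 512), (29, 1024), (30, 2049), (31, 4098), (32, 8196), (37, 262144), (38, 524288), (39, 1048576), (40, 844424930132096), (44, 8589934592), (45, 17179901952), (46, 34359803904), (47, 68719607808), (48, 128), (49, 128)],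
    [(13, 8), (20, 128), (25, 513), (26, 1026), (28, 2048), (29, 4096), (32, 16400), (35, 262144), (36, 524288), (39, 281474976710912), (40, 134217728), (43, 8589967360), (44, 17179869184), (46, 137441050624), (47, 274882101248), (49, 256), (50, 256)],
    [(12, 8), (19, 128), (22, 257), (24, 1028), (27, 2048), (29, 8192), (31, 16416), (34, 262144), (36, 1048576), (38, 281474976711168), (40, 268435456), (42, 8590000128), (44, 34359738368), (45, 137447342080), (47, 549789368320), (49, 512), (50, 512), (51, 512)],
    [(11, 8), (18, 128), (21, 258), (23, 516), (27, 4096), (28, 8192), (30, 16448), (34, 524288), (35, 1048576), (37, 281474976711680), (40, 536870912), (41, 8590065664), (44, 68719476736), (45, 274894684160), (46, 549822922752), (49, 1024), (51, 1024)],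
    [(10, 8), (17, 129), (19, 256), (20, 512), (24, 4112), (26, 8224), (29, 16384), (33, 262144), (36, 844424930134016), (38, 134217728), (39, 268435456), (42, 17181966336), (43, 34368126976), (44, 137438953472), (47, 1100585369600), (48, 2048), (49, 2048), (51, 2048)],
    [(9, 8), (16, 130), (18, 256), (20, 1024), (23, 2064), (25, 8256), (28, 16384), (33, 524288), (35, 844424930136064), (37, 134217728), (39, 536870912), (41, 17184063488), (43, 68736253952), (44, 274877906944), (46, 1101659111424), (48, 4096), (49, 4096), (50, 4096), (51, 4096)],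
    [(8, 8), (15, 132), (18, 512), (19, 1024), (21, 2080), (22, 4160), (27, 16384), (33, 1048576), (34, 844424930140160), (37, 268435456), (38, 536870912), (41, 34393292800), (42, 68786585600), (44, 549755813888), (45, 1103806595072), (48, 8192), (49, 8192), (50, 8192)],
    [(7, 8), (15, 272), (16, 544), (17, 1088), (18, 2048), (19, 4096), (20, 8192), (33, 281474976727040), (34, 134217728), (35, 268435456), (36, 536870912), (41, 138512695296), (42, 277025390592), (43, 554050781184), (44, 1099511627776), (49, 16384)],
    [(5, 1), (6, 2), (13, 128), (14, 256), (25, 65536), (26, 131072), (28, 262144), (29, 524288), (30, 2097152), (31, 4194304), (32, 2814749767139328), (39, 8589934592), (40, 17179869184), (46, 2199023255552), (47, 4398046511104), (50, 32768)],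
    [(4, 1), (6, 4), (12, 128), (14, 512), (22, 32768), (24, 131072), (27, 262144), (29, 1048576), (30, 8388608), (31, 3940649674014720), (32, 33554432), (38, 8589934592), (40, 34359738368), (45, 2199023255552), (47, 8796093022208), (50, 65536), (51, 65536)],
    [(4, 2), (5, 4), (11, 128), (14, 1024), (21, 32768), (23, 65536), (27, 524288), (28, 1048576), (30, 1688849860395008), (31, 16777216), (32, 67108864), (37, 8589934592), (40, 68719476736), (45, 4398046511104), (46, 8796093022208), (51, 131072)],
    [(6, 9), (10, 128), (12, 256), (13, 512), (14, 2048), (24, 557056), (26, 1114112), (29, 562949953683456), (31, 136314880), (32, 276824064), (36, 8589934592), (38, 17179869184), (39, 34359738368), (40, 137438953472), (47, 19791209299968), (48, 262144), (51, 262144)],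
    [(5, 10), (9, 128), (11, 256), (13, 1024), (14, 4096), (23, 294912), (25, 1179648), (28, 562949953945600), (30, 138412032), (32, 553648128), (35, 8589934592), (37, 17179869184), (39, 68719476736), (40, 274877906944), (46, 21990232555520), (48, 524288), (50, 524288), (51, 524288)],
    [(4, 12), (8, 128), (11, 512), (12, 1024), (14, 8192), (21, 327680), (22, 655360), (27, 562949954469888), (30, 301989888), (31, 603979776), (34, 8589934592), (37, 34359738368), (38, 68719476736), (40, 549755813888), (45, 26388279066624), (48, 1048576), (50, 1048576)],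
    [(2, 1), (6, 16), (10, 256), (13, 2048), (17, 32768), (20, 262144), (24, 4194304), (25, 8388608), (26, 3377699722625024), (29, 134217728), (32, 1073741824), (36, 17179869184), (39, 137438953472), (43, 2199023255552), (47, 35184372088832), (50, 2097152), (51, 2097152)],
    [(2, 2), (5, 16), (9, 256), (13, 4096), (16, 32768), (20, 524288), (23, 2097152), (25, 1125899911036928), (26, 16777216), (28, 134217728), (32, 2147483648), (35, 17179869184), (39, 274877906944), (43, 4398046511104), (46, 35184372088832), (51, 4194304)],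
    [(1, 1), (6, 32), (10, 512), (12, 2048), (17, 65536), (19, 262144), (22, 2097152), (24, 2251799822073856), (26, 33554432), (29, 268435456), (31, 1073741824), (36, 34359738368), (38, 137438953472), (42, 2199023255552), (47, 70368744177664), (50, 8388608)],
    [(0, 2), (5, 64), (9, 1024), (11, 4096), (16, 131072), (18, 524288), (21, 4194304), (23, 2251799830462464), (25, 67108864), (28, 536870912), (30, 2147483648), (35, 68719476736), (37, 274877906944), (41, 4398046511104), (46, 140737488355328), (50, 16777216)],
    [(1, 4), (4, 32), (8, 512), (12, 8192), (15, 65536), (19, 1048576), (21, 8388608), (22, 1125899940397056), (24, 67108864), (27, 268435456), (31, 4294967296), (34, 34359738368), (38, 549755813888), (42, 8796093022208), (45, 70368744177664), (51, 33554432)],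
    [(0, 4), (4, 64), (8, 1024), (11, 8192), (15, 131072), (18, 1048576), (21, 3377699787636736), (22, 16777216), (23, 33554432), (27, 536870912), (30, 4294967296), (34, 68719476736), (37, 549755813888), (41, 8796093022208), (45, 140737488355328), (50, 67108864), (51, 67108864)],
    [(2, 24), (7, 256), (9, 2048), (10, 4096), (13, 16384), (16, 2359296), (17, 4718592), (20, 562950087639040), (25, 1342177280), (26, 2684354560), (33, 17179869184), (35, 137438953472), (36, 274877906944), (39, 1099511627776), (43, 52776558133248), (48, 134217728), (50, 134217728)],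
    [(1, 40), (7, 512), (8, 2048), (10, 8192), (12, 16384), (15, 8650752), (17, 34603008), (19, 562950221856768), (22, 1207959552), (24, 4831838208), (33, 34359738368), (34, 137438953472), (36, 549755813888), (38, 1099511627776), (42, 87960930222080), (48, 268435456), (50, 268435456), (51, 268435456)],
    [(0, 72), (7, 1024), (8, 4096), (9, 8192), (11, 16384), (15, 17301504), (16, 68157440), (18, 562950490292224), (21, 2281701376), (23, 4563402752), (33, 68719476736), (34, 274877906944), (35, 549755813888), (37, 1099511627776), (41, 158329674399744), (48, 536870912), (51, 536870912)],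
    [(1, 16), (2, 32), (7, 2048), (10, 16384), (15, 2097152), (16, 8388608), (17, 1688850934005760), (19, 134217728), (20, 268435456), (24, 2147483648), (26, 4294967296), (33, 137438953472), (36, 1099511627776), (42, 35184372088832), (43, 70368744177664), (51, 1073741824)],
    [(0, 16), (2, 64), (7, 4096), (9, 16384), (15, 4194304), (16, 3940651821432832), (17, 16777216), (18, 134217728), (20, 536870912), (23, 1073741824), (25, 4294967296), (33, 274877906944), (35, 1099511627776), (41, 35184372088832), (43, 140737488355328), (50, 2147483648), (51, 2147483648)],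
    [(0, 32), (1, 64), (7, 8192), (8, 16384), (15, 2814754062073856), (16, 33554432), (17, 67108864), (18, 268435456), (19, 536870912), (21, 1073741824), (22, 2147483648), (33, 549755813888), (34, 1099511627776), (41, 70368744177664), (42, 140737488355328), (50, 4294967296)],
    [(3, 128), (4, 33024), (5, 66048), (6, 132096), (11, 262144), (12, 524288), (13, 1048576), (14, 281483566645248), (27, 17179869184), (28, 34359738368), (29, 68719476736), (30, 2336462209024), (31, 4672924418048), (32, 9345848836096), (40, 17592186044416), (49, 8589934592)],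
    [(2, 32896), (3, 256), (5, 2099200), (6, 4198400), (9, 262144), (10, 524288), (13, 844442110001152), (14, 134217728), (20, 8589934592), (25, 2233382993920), (26, 4466765987840), (28, 137438953472), (29, 274877906944), (32, 36283883716608), (39, 17592186044416), (48, 17179869184), (49, 17179869184), (50, 17179869184)],
    [(1, 65664), (3, 512), (4, 8390656), (6, 33562624), (8, 262144), (10, 1048576), (12, 844459289870336), (14, 268435456), (19, 8589934592), (22, 2216203124736), (24, 8864812498944), (27, 137438953472), (29, 549755813888), (31, 71468255805440), (38, 17592186044416), (48, 34359738368), (49, 34359738368), (50, 34359738368), (51, 34359738368)],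
    [(0, 131200), (3, 1024), (4, 16781312), (5, 67117056), (8, 524288), (9, 1048576), (11, 844493649608704), (14, 536870912), (18, 8589934592), (21, 4415226380288), (23, 8830452760576), (27, 274877906944), (28, 549755813888), (30, 141836999983104), (37, 17592186044416), (48, 68719476736), (49, 68719476736), (51, 68719476736)],
    [(1, 2097408), (2, 8389120), (3, 2048), (6, 1073758208), (7, 262144), (10, 281612415664128), (12, 134217728), (13, 268435456), (17, 2207613190144), (19, 17179869184), (20, 34359738368), (24, 35459249995776), (26, 70918499991552), (29, 1099511627776), (36, 17592186044416), (49, 137438953472), (51, 137438953472)],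
    [(0, 4194560), (2, 16778240), (3, 4096), (5, 2147500032), (7, 524288), (9, 281749854617600), (11, 134217728), (13, 536870912), (16, 4406636445696), (18, 17179869184), (20, 68719476736), (23, 35321811042304), (25, 141287244169216), (28, 1099511627776), (35, 17592186044416), (49, 274877906944), (50, 274877906944), (51, 274877906944)],
    [(0, 33554944), (1, 67109888), (3, 8192), (4, 4294983680), (7, 1048576), (8, 282024732524544), (11, 268435456), (12, 536870912), (15, 8804682956800), (18, 34359738368), (19, 68719476736), (21, 70506183131136), (22, 141012366262272), (27, 1099511627776), (34, 17592186044416), (49, 549755813888), (50, 549755813888)],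
    [(0, 1073743872), (1, 2147487744), (2, 4294975488), (3, 16384), (7, 845524441759744), (8, 134217728), (9, 268435456), (10, 536870912), (15, 35201551958016), (16, 70403103916032), (17, 140806207832064), (18, 137438953472), (19, 274877906944), (20, 549755813888), (33, 17592186044416), (48, 1099511627776), (49, 1099511627776)],
    [(1, 32768), (2, 65536), (3, 262144), (4, 2097152), (5, 8388608), (6, 1972523860230144), (10, 8589934592), (12, 17179869184), (13, 34359738368), (14, 137438953472), (24, 4398046511104), (26, 8796093022208), (29, 17592186044416), (31, 35184372088832), (32, 70368744177664), (51, 2199023255552)],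
    [(0, 32768), (2, 131072), (3, 524288), (4, 4194304), (5, 4226522697170944), (6, 16777216), (9, 8589934592), (11, 17179869184), (13, 68719476736), (14, 274877906944), (23, 2199023255552), (25, 8796093022208), (28, 17592186044416), (30, 35184372088832), (32, 140737488355328), (50, 4398046511104), (51, 4398046511104)],
    [(0, 65536), (1, 131072), (3, 1048576), (4, 3105020836839424), (5, 33554432), (6, 67108864), (8, 8589934592), (11, 34359738368), (12, 68719476736), (14, 549755813888), (21, 2199023255552), (22, 4398046511104), (27, 17592186044416), (30, 70368744177664), (31, 140737488355328), (50, 8796093022208)],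
    [(0, 2199023517696), (1, 4398047035392), (2, 8796094070784), (3, 580542139465728), (4, 35184506306560), (5, 70369012613120), (6, 140738025226240), (7, 8589934592), (8, 17179869184), (9, 34359738368), (10, 68719476736), (11, 137438953472), (12, 274877906944), (13, 549755813888), (14, 1099511627776), (48, 17592186044416)],
    [(0, 2097152), (1, 4194304), (2, 2568459162484736), (3, 134217728), (5, 1073741824), (6, 2147483648), (7, 17179869184), (9, 137438953472), (10, 274877906944), (13, 1099511627776), (16, 2199023255552), (17, 4398046511104), (20, 17592186044416), (25, 70368744177664), (26, 140737488355328), (50, 35184372088832)],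
    [(0, 8388608), (1, 3729543441416192), (2, 33554432), (3, 268435456), (4, 1073741824), (6, 4294967296), (7, 34359738368), (8, 137438953472), (10, 549755813888), (12, 1099511627776), (15, 2199023255552), (17, 8796093022208), (19, 17592186044416), (22, 35184372088832), (24, 140737488355328), (50, 70368744177664), (51, 70368744177664)],
    [(0, 1548112371908608), (1, 16777216), (2, 67108864), (3, 536870912), (4, 2147483648), (5, 4294967296), (7, 68719476736), (8, 274877906944), (9, 549755813888), (11, 1099511627776), (15, 4398046511104), (16, 8796093022208), (18, 17592186044416), (21, 35184372088832), (23, 70368744177664), (51, 140737488355328)] ]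

/-- The deviation of one root element. -/
def dev (r : ℕ) : List (ℕ × ℕ) := devTab.getD r []

/-- A root element on a vector given by bits. -/
def step (r v : ℕ) : ℕ :=
  (dev r).foldl (fun acc p => if v.testBit p.1 then acc ^^^ p.2 else acc) v

/-- A word on a vector given by bits. -/
def evalW (w : List ℕ) (v : ℕ) : ℕ := w.foldr step v

/-- A bit in `ZMod 2`. -/
def bit (v i : ℕ) : ZMod 2 := if v.testBit i then 1 else 0

theorem bit_xor (a b i : ℕ) : bit (a ^^^ b) i = bit a i + bit b i := by
  simp only [bit, Nat.testBit_xor]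
  rcases a.testBit i <;> rcases b.testBit i <;> decide

theorem bit_fold (v i : ℕ) : ∀ (L : List (ℕ × ℕ)) (acc : ℕ),
    bit (L.foldl (fun acc p => if v.testBit p.1 then acc ^^^ p.2 else acc) acc) i =
      bit acc i + (L.map fun p => bit v p.1 * bit p.2 i).sum
  | [], acc => by simp
  | p :: L, acc => by
    rw [List.foldl_cons, bit_fold v i L, List.map_cons, List.sum_cons, ← add_assoc]
    congr 1
    by_cases hp : v.testBit p.1
    · rw [if_pos hp, bit_xor, show bit v p.1 = 1 from if_pos hp, one_mul]
    · rw [if_neg hp, show bit v p.1 = 0 from if_neg hp, zero_mul, add_zero]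

theorem bit_step (r v i : ℕ) :
    bit (step r v) i = bit v i + ((dev r).map fun p => bit v p.1 * bit p.2 i).sum :=
  bit_fold v i (dev r) v

/-- The bits of the odd entries of a column. -/
def colBits (L : List (ℕ × ℕ × ℤ)) : ℕ :=
  L.foldr (fun q acc => if q.2.2 % 2 = 0 then acc else 2 ^ q.1 ^^^ acc) 0

/-- The bits of the deviations of a column. -/
def devBits (c : ℕ) (L : List (ℕ × ℕ)) : ℕ :=
  L.foldr (fun p acc => if c = p.1 then p.2 ^^^ acc else acc) 0

set_option maxHeartbeats 0 in
theorem dev_chk : ((List.range 48).all fun s => (List.range 52).all fun c =>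
    decide (colBits (tabF4.col s c) = 2 ^ c ^^^ devBits c (dev s))) = true := by
  decide +kernel

theorem bit_zero (i : ℕ) : bit 0 i = 0 := by simp [bit]

theorem bit_two_pow (j i : ℕ) : bit (2 ^ j) i = if j = i then 1 else 0 := by
  simp [bit, Nat.testBit_two_pow]

theorem bit_colBits (i : ℕ) : ∀ L : List (ℕ × ℕ × ℤ),
    bit (colBits L) i = (L.map fun q => if q.1 = i then (q.2.2 : ZMod 2) else 0).sum
  | [] => bit_zero i
  | q :: L => by
    simp only [colBits, List.foldr_cons, List.map_cons, List.sum_cons]
    rw [← colBits]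
    by_cases hq : q.2.2 % 2 = 0
    · have h0 : (q.2.2 : ZMod 2) = 0 :=
        (ZMod.intCast_zmod_eq_zero_iff_dvd _ 2).2 (Int.dvd_of_emod_eq_zero hq)
      rw [if_pos hq, bit_colBits i L, h0, ite_self, zero_add]
    · have h1 : (q.2.2 : ZMod 2) = 1 := by
        rw [← ZMod.intCast_mod q.2.2 2, show q.2.2 % ((2 : ℕ) : ℤ) = 1 by omega, Int.cast_one]
      rw [if_neg hq, bit_xor, bit_two_pow, bit_colBits i L, h1]

theorem bit_devBits (c i : ℕ) : ∀ L : List (ℕ × ℕ),
    bit (devBits c L) i = (L.map fun p => if c = p.1 then bit p.2 i else 0).sum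
  | [] => bit_zero i
  | p :: L => by
    simp only [devBits, List.foldr_cons, List.map_cons, List.sum_cons]
    rw [← devBits]
    by_cases hp : c = p.1
    · rw [if_pos hp, if_pos hp, bit_xor, bit_devBits c i L]
    · rw [if_neg hp, if_neg hp, bit_devBits c i L, zero_add]

theorem dev_lt : ((List.range 48).all fun s => (dev s).all fun p => decide (p.1 < 52)) = true := by
  decide +kernel

theorem enc_surj {c : ℕ} (hc : c < 52) : ∃ col : chevF4.Idx, enc col = c := by
  by_cases h : c < 48
  · exact ⟨Sum.inr ⟨c, by rw [certF4.agrees.nroots_eq]; exact h⟩, rfl⟩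
  · refine ⟨Sum.inl ⟨c - 48, by rw [certF4.agrees.rank_eq]; show c - 48 < 4; omega⟩, ?_⟩
    show chevF4.nroots + (c - 48) = c
    rw [certF4.agrees.nroots_eq]
    show 48 + (c - 48) = c
    omega

/-- A vector given by bits. -/
def phi (v : ℕ) : chevF4.Idx → ZMod 2 := fun i => bit v (enc i)

theorem x_phi {r : ℕ} (hr' : r < 48) (v : ℕ) :
    chevF4.x (ZMod 2) r 1 *ᵥ phi v = phi (step r v) := by
  funext row
  have hrow : enc row < 52 := enc_lt certF4.agrees row
  have h := dev_chk
  simp only [List.all_eq_true, List.mem_range, decide_eq_true_eq] at h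
  have hd := dev_lt
  simp only [List.all_eq_true, List.mem_range, decide_eq_true_eq] at hd
  have e : ∀ col : chevF4.Idx, chevF4.x (ZMod 2) r 1 row col =
      (if enc col = enc row then 1 else 0) +
        ((dev r).map fun p => if enc col = p.1 then bit p.2 (enc row) else 0).sum := by
    intro col
    rw [x_apply certF4.agrees (show r < tabF4.n from hr')]
    have := congrArg (fun m => bit m (enc row)) (h r hr' (enc col) (enc_lt certF4.agrees col))
    simp only [bit_xor, bit_colBits, bit_devBits, bit_two_pow] at this
    simpa using this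
  simp only [Matrix.mulVec, dotProduct, e, add_mul, Finset.sum_add_distrib]
  show _ = bit (step r v) (enc row)
  rw [bit_step]
  refine congrArg₂ (fun a b : ZMod 2 => a + b) ?_ ?_
  · rw [Finset.sum_eq_single row]
    · simp [phi]
    · intro col _ hne
      rw [if_neg fun he => hne (enc_injective he), zero_mul]
    · simp
  · have hd' : ∀ p ∈ dev r, p.1 < 52 := hd r hr' 
    revert hd'
    generalize dev r = L
    intro hd'
    induction L with
    | nil => simp
    | cons p L ih =>
      simp only [List.map_cons, List.sum_cons, add_mul, Finset.sum_add_distrib,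
        ih fun q hq => hd' q (List.mem_cons_of_mem _ hq)]
      refine congrArg₂ (fun a b : ZMod 2 => a + b) ?_ rfl
      obtain ⟨c, hc⟩ := enc_surj (hd' p List.mem_cons_self)
      rw [Finset.sum_eq_single c]
      · rw [if_pos hc, show phi v c = bit v p.1 by rw [phi, hc], mul_comm]
      · intro col _ hne
        rw [if_neg fun he => hne (enc_injective (he.trans hc.symm)), zero_mul]
      · simp

theorem Wd_phi : ∀ {w : List ℕ}, (∀ r ∈ w, r < 48) → ∀ v : ℕ,
    (Wd w : Matrix chevF4.Idx chevF4.Idx (ZMod 2)) *ᵥ phi v = phi (evalW w v)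
  | [], _, v => by simp [Wd_nil, evalW]
  | r :: w, hw, v => by
    have h := hw r List.mem_cons_self
    rw [Wd_cons, Units.val_mul,
      ← Matrix.mulVec_mulVec, Wd_phi (fun s hs => hw s (List.mem_cons_of_mem _ hs)) v,
      certF4.coe_X, x_phi h]
    rfl

theorem phi_injOn {v v' : ℕ} (hv : v < 2 ^ 52) (hv' : v' < 2 ^ 52) (h : phi v = phi v') : v = v' := by
  refine Nat.eq_of_testBit_eq fun i => ?_
  rcases lt_or_ge i 52 with hi | hi
  · obtain ⟨c, rfl⟩ := enc_surj hi
    have hb : bit v (enc c) = bit v' (enc c) := congrFun h c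
    simp only [bit] at hb
    revert hb
    rcases v.testBit (enc c) <;> rcases v'.testBit (enc c) <;> decide
  · have hp : (2 : ℕ) ^ 52 ≤ 2 ^ i := Nat.pow_le_pow_right two_pos hi
    rw [Nat.testBit_lt_two_pow (hv.trans_le hp), Nat.testBit_lt_two_pow (hv'.trans_le hp)]

/-- Two words agree, by the fast evaluation. -/
def eqChk (v w : List ℕ) : Bool :=
  (v.all fun r => decide (r < 48)) && ((w.all fun r => decide (r < 48)) &&
    (List.range 52).all fun c => decide (evalW v (2 ^ c) = evalW w (2 ^ c)))

theorem phi_two_pow (col : chevF4.Idx) : phi (2 ^ enc col) = Pi.single col 1 := by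
  funext i
  rw [phi, bit_two_pow]
  by_cases hi : i = col
  · subst hi; simp
  · rw [if_neg fun he => hi (enc_injective he.symm), Pi.single_eq_of_ne hi]

theorem Wd_eq_of_eqChk {v w : List ℕ} (hc : eqChk v w = true) : Wd v = Wd w := by
  simp only [eqChk, Bool.and_eq_true, List.all_eq_true, decide_eq_true_eq, List.mem_range] at hc
  obtain ⟨hv, hw, he⟩ := hc
  refine Units.ext (Matrix.ext_of_mulVec_single fun col => ?_)
  rw [← phi_two_pow, Wd_phi hv, Wd_phi hw, he _ (enc_lt certF4.agrees col)]

/-! ### The twelve root elements -/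

/-- The word of the root element of an orbit. -/
def orbWord (r : ℕ) : List ℕ :=
  if r = 24 then [24, 33] else if r = 25 then [27, 25, 28] else if r = 26 then [34, 26, 36]
  else if r = 28 then [28, 30] else if r = 31 then [35, 31, 40] else if r = 41 then [29, 41, 44]
  else if r = 32 then [32, 37] else if r = 36 then [36, 42] else if r = 43 then [43, 38]
  else if r = 45 then [45, 39] else if r = 40 then [40, 46] else [44, 47]

/-- The orbits of the elements of order four. -/
def odd4 (r : ℕ) : Bool := r == 25 || (r == 26 || (r == 31 || r == 41))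

/-- All products with their parities. -/
def cands : List ℕ → List (List ℕ × Bool)
  | [] => [([], false)]
  | r :: L => cands L ++ (cands L).map fun c => (orbWord r ++ c.1, xor (odd4 r) c.2)

/-- The orbit representatives. -/
def reps12 : List ℕ := [24, 25, 26, 28, 31, 41, 32, 36, 43, 45, 40, 44]

theorem reps12_eq : dataTwF4.L.map (fun o => o.root) = reps12 := by decide +kernel

/-- The check of one candidate. -/
def wchk (c : List ℕ × Bool) : Bool :=
  !c.2 || (c.1.all (fun r => decide (r < 48)) &&
      (decide (evalW (c.1 ++ c.1) 4 < 2 ^ 52) && decide (evalW (c.1 ++ c.1) 4 ≠ 4)))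

set_option maxHeartbeats 0 in
theorem witness_chk0 : ((cands (reps12.drop 2)).all wchk) = true := by
  decide +kernel

set_option maxHeartbeats 0 in
theorem witness_chk1 : (((cands (reps12.drop 2)).map fun c =>
    (orbWord 25 ++ c.1, xor (odd4 25) c.2)).all wchk) = true := by
  decide +kernel

set_option maxHeartbeats 0 in
theorem witness_chk2 : (((cands (reps12.drop 2)).map fun c =>
    (orbWord 24 ++ c.1, xor (odd4 24) c.2)).all wchk) = true := by
  decide +kernel

set_option maxHeartbeats 0 in
theorem witness_chk3 : ((((cands (reps12.drop 2)).map fun c =>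
    (orbWord 25 ++ c.1, xor (odd4 25) c.2)).map fun c =>
      (orbWord 24 ++ c.1, xor (odd4 24) c.2)).all wchk) = true := by
  decide +kernel

theorem witness_chk : ((cands reps12).all wchk) = true := by
  have h0 := witness_chk0
  have h1 := witness_chk1
  have h2 := witness_chk2
  have h3 := witness_chk3
  have e : reps12 = 24 :: 25 :: reps12.drop 2 := rfl
  rw [e]
  generalize reps12.drop 2 = L at h0 h1 h2 h3 ⊢
  simp only [cands, List.map_append, List.all_append, Bool.and_eq_true]
  exact ⟨⟨h0, h1⟩, h2, h3⟩

theorem witness {c : List ℕ × Bool} (hc : c ∈ cands reps12) (hb : c.2 = true) :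
    Wd c.1 * Wd c.1 ≠ 1 := by
  have h := witness_chk
  simp only [wchk, List.all_eq_true, Bool.or_eq_true, Bool.and_eq_true, decide_eq_true_eq,
    Bool.not_eq_true'] at h
  obtain ⟨h1, h2, h3⟩ := (h c hc).resolve_left (by simp [hb])
  intro he
  have h4 := Wd_phi (w := c.1 ++ c.1) (fun r hr => h1 r ((List.mem_append.1 hr).elim id id)) 4
  rw [Wd_append, he, Units.val_one, Matrix.one_mulVec] at h4
  exact h3 (phi_injOn h2 (by norm_num) h4.symm)

/-! ### The decomposition -/

theorem decomp (E : Endo certF4 (ZMod 2)) : ∀ L : List Orb, chkLayers tabF4 E.ρ L = true →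
    (∀ o ∈ L, Wd (orbWord o.root) ∈ E.fix ∧ (∀ r ∈ orbWord o.root, r ∈ o.cls E.ρ) ∧
      (orbWord o.root).count o.root = 1) →
    ∀ u ∈ E.fix ⊓ gen chevF4 (ZMod 2) {a | a ∈ flatOrbs E.ρ L},
      ∃ c ∈ cands (L.map fun o => o.root), u = Wd c.1 := by
  intro L
  induction L with
  | nil =>
    intro _ _ u hu
    refine ⟨([], false), by simp [cands], ?_⟩
    have h0 : gen chevF4 (ZMod 2) {a | a ∈ flatOrbs E.ρ []} = ⊥ := by simp [gen, flatOrbs]
    rw [h0, inf_bot_eq, Subgroup.mem_bot] at hu
    simp [hu, Wd_nil]
  | cons o L ih =>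
    intro hc hlift u hu
    obtain ⟨-, hflat, hclosed⟩ := Endo.flatOrbs_spec hc
    simp only [chkLayers, Bool.and_eq_true] at hc
    have hl := Endo.Layer.of_chk hc.1
    have e1 : flatOrbs E.ρ (o :: L) = o.list E.ρ ++ flatOrbs E.ρ L := by simp [flatOrbs]
    rw [e1] at hflat hclosed hu
    set S : Set ℕ := {a | a ∈ o.list E.ρ ++ flatOrbs E.ρ L} with hS
    have hSsub : S ⊆ posSet tabF4 := fun a ha => (hflat a ha).1
    have hSst : ∀ s ∈ S, E.ρ s ∈ S := fun s hs => (hflat s hs).2
    have hfree : ∀ a ∈ o.list E.ρ, Endo.Free tabF4 S a := by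
      refine fun a ha => ⟨hSsub, hclosed, List.mem_append_left _ ha, ?_⟩
      intro x hx y hy hne q hq e
      have : q.1 ∈ flatOrbs E.ρ L := by
        rcases List.mem_append.1 hx with hx' | hx'
        · exact (hl.terms x hx' y hy hne.symm).1 q hq
        · rcases List.mem_append.1 hy with hy' | hy'
          · exact (hl.terms y hy' x hx hne).2 q hq
          · exact (Endo.flatOrbs_spec hc.2).2.2 x hx' y hy' hne q hq
      exact hl.disj a ha (e ▸ this)
    have hf0 := hfree _ hl.mem_root
    have hcls : o.cls E.ρ ⊆ S := by
      rintro a (ha | ha)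
      · exact List.mem_append_left _ ha
      · obtain ⟨x, hx, y, hy, hne, c, hc', rfl⟩ := hl.tail a ha
        rcases hc' with hc' | hc'
        · exact hclosed x (List.mem_append_left _ hx) y (List.mem_append_left _ hy) hne.symm c hc'
        · exact hclosed y (List.mem_append_left _ hy) x (List.mem_append_left _ hx) hne c hc'
    have hzero : ∀ w ∈ E.fix, Endo.InC chevF4 S o.root w 0 →
        w ∈ E.fix ⊓ gen chevF4 (ZMod 2) {a | a ∈ flatOrbs E.ρ L} := by
      intro w hw hw0
      have hz : ∀ a ∈ o.list E.ρ, w ∈ gen chevF4 (ZMod 2) (S \ {a}) := by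
        intro a ha
        obtain ⟨k, -, rfl⟩ := List.mem_map.1 ha
        obtain ⟨h1, h2⟩ := E.inC_iterate hSsub hSst hf0.mem hw hw0 k
        rw [Endo.InC, E.τn_zero k (hSsub hf0.mem).2, certF4.X_zero (hSsub h1).2, inv_one, one_mul] at h2
        exact h2
      have hrec : ∀ M : List ℕ, (∀ a ∈ M, a ∈ o.list E.ρ) →
          w ∈ gen chevF4 (ZMod 2) (S \ {a | a ∈ M}) ∧ CommClosed tabF4 (S \ {a | a ∈ M}) := by
        intro M
        induction M with
        | nil =>
          intro _
          simp only [List.not_mem_nil, Set.ofPred_false, Set.sdiff_empty]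
          exact ⟨gen_mono chevF4 Set.sdiff_subset (hz _ hl.mem_root), hclosed⟩
        | cons a M ihM =>
          intro hM
          obtain ⟨g1, g2⟩ := ihM fun x hx => hM x (List.mem_cons_of_mem _ hx)
          have ha := hM a List.mem_cons_self
          have eS : S \ {x | x ∈ a :: M} = (S \ {x | x ∈ M}) ∩ (S \ {a}) := by
            ext x; simp only [Set.mem_sdiff, Set.mem_ofPred_eq, List.mem_cons, Set.mem_inter_iff,
              Set.mem_singleton_iff]; tauto
          rw [eS]
          refine ⟨Endo.gen_inter (h := certF4) (Set.sdiff_subset.trans hSsub) g2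
            (Set.sdiff_subset.trans hSsub) (hfree a ha).closed' g1 (hz a ha), ?_⟩
          exact fun x hx y hy hne q hq => ⟨g2 x hx.1 y hy.1 hne q hq,
            (hfree a ha).closed' x hx.2 y hy.2 hne q hq⟩
      refine ⟨hw, gen_mono chevF4 ?_ (hrec _ fun a ha => ha).1⟩
      rintro a ⟨ha, hn⟩
      exact (List.mem_append.1 ha).resolve_left hn
    obtain ⟨huf, huS⟩ := hu
    obtain ⟨t, ht⟩ := Endo.exists_inC (h := certF4) hf0 huS
    obtain ⟨hwf, hwc, hwn⟩ := hlift o List.mem_cons_self
    have ht01 : ∀ x : ZMod 2, x = 0 ∨ x = 1 := by decide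
    rcases ht01 t with rfl | rfl
    · obtain ⟨c, hc', he⟩ := ih hc.2 (fun o' ho => hlift o' (List.mem_cons_of_mem _ ho)) u
        (hzero u huf ht)
      exact ⟨c, by simp [cands, hc'], he⟩
    · set g := Wd (orbWord o.root) with hg
      have hv : Endo.InC chevF4 S o.root g 1 := by
        have := Endo.inC_word (h := certF4) hf0 ((orbWord o.root).map fun r => (r, (1 : ZMod 2)))
          (fun p hp => by
            obtain ⟨r, hr, rfl⟩ := List.mem_map.1 hp
            exact hcls (hwc r hr))
        have hsum : (((orbWord o.root).map fun r => (r, (1 : ZMod 2))).map fun p =>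
            if p.1 = o.root then p.2 else 0).sum = 1 := by
          have : ∀ L : List ℕ, ((L.map fun r => (r, (1 : ZMod 2))).map fun p =>
              if p.1 = o.root then p.2 else 0).sum = (L.count o.root : ZMod 2) := by
            intro L
            induction L with
            | nil => simp
            | cons a L ih =>
              simp only [List.map_cons, List.sum_cons, ih, List.count_cons]
              by_cases ha : a = o.root
              · simp [ha, add_comm]
              · simp [ha]
          rw [this, hwn, Nat.cast_one]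
        rw [hsum] at this
        simpa [hg, Wd_eq_prod, List.map_map, Function.comp_def] using this
      have hgS : g ∈ gen chevF4 (ZMod 2) S := by
        rw [hg, Wd_eq_prod]
        refine Subgroup.list_prod_mem _ fun x hx => ?_
        obtain ⟨r, hr, rfl⟩ := List.mem_map.1 hx
        exact X_mem_gen chevF4 (hcls (hwc r hr)) 1
      obtain ⟨t', ht'⟩ := Endo.exists_inC (h := certF4) hf0 (mul_mem (inv_mem hgS) huS)
      have h1 := Endo.InC.mul (h := certF4) hf0 hv ht'
      rw [mul_inv_cancel_left] at h1
      have h0 : (1 : ZMod 2) + t' = 1 := Endo.InC.unique (h := certF4) hf0 h1 ht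
      rw [add_eq_left] at h0
      rw [h0] at ht'
      obtain ⟨c, hc', he⟩ := ih hc.2 (fun o' ho => hlift o' (List.mem_cons_of_mem _ ho)) _
        (hzero _ (mul_mem (inv_mem hwf) huf) ht')
      refine ⟨(orbWord o.root ++ c.1, xor (odd4 o.root) c.2), ?_, ?_⟩
      · simp only [List.map_cons, cands, List.mem_append, List.mem_map]
        exact Or.inr ⟨c, hc', rfl⟩
      · rw [Wd_append, ← he, ← hg, mul_inv_cancel_left]

/-! ### The abelianisation -/

/-- The group `²F₄(2)`. -/
abbrev G2 : Subgroup (GL chevF4.Idx (ZMod 2)) := twistedF4 (ZMod 2) 1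

theorem hf1 : ∀ t : ZMod 2, (RingHom.id (ZMod 2)) t = t ^ 1 := fun t => (pow_one t).symm

theorem hK1 : Fintype.card (ZMod 2) = 2 * 1 ^ 2 := by simp

/-- The endomorphism. -/
noncomputable abbrev endo2 : Endo certF4 (ZMod 2) := endoF4 (RingHom.id (ZMod 2))

theorem fix_eq : endo2.fix = G2 := fix_eq_twistedF4 (RingHom.id (ZMod 2)) hf1 hK1

theorem gen_mem {w : List (ℕ × ZMod 2)} (hw : w ∈ f4Words (ZMod 2) 1) {v : List ℕ}
    (h : ((w.map fun p => X chevF4 p.1 p.2).prod) = Wd v) : Wd v ∈ G2 :=
  h ▸ certF4.prod_mem_genSubgroup hw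

theorem mem24 : Wd [33, 24] ∈ G2 :=
  gen_mem (w := f4PairWord 1 f4p1 f4p4 1) (Or.inl ⟨1, Or.inl rfl⟩)
    (by simp [f4PairWord, Wd_eq_prod, f4p1, f4p4])

theorem mem24m : Wd [14, 23] ∈ G2 :=
  gen_mem (w := f4PairWord 1 f4m1 f4m4 1) (Or.inl ⟨1, Or.inr rfl⟩)
    (by simp [f4PairWord, Wd_eq_prod, f4m1, f4m4])

theorem mem25 : Wd [27, 25, 28] ∈ G2 :=
  gen_mem (w := b2ClassWord 1 f4a f4b f4ab f4aab 1 0) (Or.inr ⟨1, 0, Or.inl rfl⟩)
    (by
      simp [b2ClassWord, Wd_eq_prod, f4a, f4b, f4ab, f4aab,
        certF4.X_zero (show 30 < tabF4.n by decide +kernel)])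

theorem mem25u : Wd [27, 25, 30] ∈ G2 :=
  gen_mem (w := b2ClassWord 1 f4a f4b f4ab f4aab 1 1) (Or.inr ⟨1, 1, Or.inl rfl⟩)
    (by
      simp [b2ClassWord, Wd_eq_prod, f4a, f4b, f4ab, f4aab, CharTwo.add_self_eq_zero,
        certF4.X_zero (show 28 < tabF4.n by decide +kernel)])

theorem mem25m : Wd [19, 17] ∈ G2 :=
  gen_mem (w := b2ClassWord 1 f4ma f4mb f4mab f4maab 0 1) (Or.inr ⟨0, 1, Or.inr rfl⟩)
    (by
      simp [b2ClassWord, Wd_eq_prod, f4ma, f4mb, f4mab, f4maab,
        certF4.X_zero (show 20 < tabF4.n by decide +kernel),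
        certF4.X_zero (show 22 < tabF4.n by decide +kernel)])

/-- The representative of the first class. -/
def wA : List ℕ := [33, 24, 14, 23, 33, 24]

/-- The representative of the second class. -/
def wB : List ℕ := [27, 25, 28, 19, 17, 27, 25, 30]

theorem memA : Wd wA ∈ G2 := by
  have h := mul_mem (mul_mem mem24 mem24m) mem24
  rwa [← Wd_append, ← Wd_append] at h

theorem memB : Wd wB ∈ G2 := by
  have h := mul_mem (mul_mem mem25 mem25m) mem25u
  rwa [← Wd_append, ← Wd_append] at h

/-- An element given by a word has image `a` in the abelianisation. -/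
def Img (w : List ℕ) (a : Abelianization ↥G2) : Prop :=
  ∃ h : Wd w ∈ G2, Abelianization.of (⟨Wd w, h⟩ : ↥G2) = a

theorem Img.append {v w : List ℕ} {a b : Abelianization ↥G2} (hv : Img v a) (hw : Img w b) :
    Img (v ++ w) (a * b) := by
  obtain ⟨h1, rfl⟩ := hv
  obtain ⟨h2, rfl⟩ := hw
  have h : Wd (v ++ w) ∈ G2 := Wd_append v w ▸ mul_mem h1 h2
  refine ⟨h, ?_⟩
  rw [← map_mul]
  exact congrArg _ (Subtype.ext (Wd_append v w))

theorem Img.congr {v w : List ℕ} {a : Abelianization ↥G2} (hv : Img v a)
    (hc : eqChk v w = true) :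
    Img w a := by
  obtain ⟨h1, rfl⟩ := hv
  exact ⟨Wd_eq_of_eqChk hc ▸ h1, congrArg _ (Subtype.ext (Wd_eq_of_eqChk hc).symm)⟩

theorem Img.rev {v : List ℕ} {a : Abelianization ↥G2} (hv : Img v a)
    (hn : ∀ r ∈ v, r < tabF4.n) : Img v.reverse a⁻¹ := by
  obtain ⟨h1, rfl⟩ := hv
  refine ⟨Wd_reverse hn ▸ inv_mem h1, ?_⟩
  rw [← map_inv]
  exact congrArg _ (Subtype.ext (Wd_reverse hn))

theorem Img.conj {g v w : List ℕ} {a b : Abelianization ↥G2} (hg : Img g b) (hv : Img v a)
    (hn : ∀ r ∈ g, r < tabF4.n)
    (hc : eqChk (g ++ v ++ g.reverse) w = true) : Img w a := by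
  have h := ((hg.append hv).append (hg.rev hn)).congr hc
  rwa [show b * a * b⁻¹ = a by rw [mul_comm b a, mul_inv_cancel_right]] at h

theorem Img.comm {v v' w : List ℕ} {a a' : Abelianization ↥G2} (hv : Img v a) (hv' : Img v' a')
    (hn : ∀ r ∈ v, r < tabF4.n) (hn' : ∀ r ∈ v', r < tabF4.n)
    (hc : eqChk (v ++ v' ++ v.reverse ++ v'.reverse) w = true) : Img w 1 := by
  have h := (((hv.append hv').append (hv.rev hn)).append (hv'.rev hn')).congr hc
  rwa [show a * a' * a⁻¹ * a'⁻¹ = 1 by rw [mul_comm a a']; group] at h

theorem imgs : ∃ al : Abelianization ↥G2, al * al = 1 ∧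
    ∀ r ∈ reps12, Img (orbWord r) (if odd4 r then al else 1) := by
  obtain ⟨a24, h24'⟩ : ∃ a, Img [33, 24] a := ⟨_, mem24, rfl⟩
  obtain ⟨al, h25⟩ : ∃ a, Img [27, 25, 28] a := ⟨_, mem25, rfl⟩
  obtain ⟨ba, hA⟩ : ∃ a, Img wA a := ⟨_, memA, rfl⟩
  obtain ⟨bb, hB⟩ : ∃ a, Img wB a := ⟨_, memB, rfl⟩
  have h26 : Img (orbWord 26) al := Img.conj hA h25 (by decide +kernel) (by decide +kernel)
  have h31 : Img (orbWord 31) al :=
    Img.conj (hB.append hA) h25 (by decide +kernel) (by decide +kernel)
  have h41 : Img (orbWord 41) al :=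
    Img.conj ((hA.append hB).append hA) h25 (by decide +kernel) (by decide +kernel)
  have h36 : Img (orbWord 36) 1 :=
    Img.comm h24' h41 (by decide +kernel) (by decide +kernel) (by decide +kernel)
  have h3643 : Img (orbWord 36 ++ orbWord 43) 1 :=
    Img.comm h24' h31 (by decide +kernel) (by decide +kernel) (by decide +kernel)
  have h43 : Img (orbWord 43) 1 := by
    have h := ((h36.rev (by decide +kernel)).append h3643).congr (w := orbWord 43) (by decide +kernel)
    rwa [inv_one, one_mul] at h
  have h24 : Img (orbWord 24) 1 :=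
    Img.conj (hB.append hA) h43 (by decide +kernel) (by decide +kernel)
  have h32 : Img (orbWord 32) 1 := Img.conj hB h24 (by decide +kernel) (by decide +kernel)
  have h45 : Img (orbWord 45) 1 := Img.conj hB h43 (by decide +kernel) (by decide +kernel)
  have h28 : Img (orbWord 28) 1 := Img.conj hA h36 (by decide +kernel) (by decide +kernel)
  have h40 : Img (orbWord 40) 1 := Img.conj hB h36 (by decide +kernel) (by decide +kernel)
  have h44 : Img (orbWord 44) 1 := Img.conj hA h40 (by decide +kernel) (by decide +kernel)
  refine ⟨al, ?_, ?_⟩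
  · obtain ⟨h1, e1⟩ := (h25.append h25).congr (w := orbWord 28) (by decide +kernel)
    obtain ⟨h2, e2⟩ := h28
    exact e1.symm.trans e2
  · intro r hr
    simp only [reps12, List.mem_cons, List.not_mem_nil, or_false] at hr
    rcases hr with rfl | rfl | rfl | rfl | rfl | rfl | rfl | rfl | rfl | rfl | rfl | rfl
    · exact h24
    · exact h25
    · exact h26
    · exact h28
    · exact h31
    · exact h41
    · exact h32
    · exact h36
    · exact h43
    · exact h45
    · exact h40
    · exact h44

theorem img_cands {al : Abelianization ↥G2} (hal : al * al = 1) : ∀ L : List ℕ,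
    (∀ r ∈ L, Img (orbWord r) (if odd4 r then al else 1)) →
    ∀ c ∈ cands L, Img c.1 (if c.2 then al else 1)
  | [], _, c, hc => by
    simp only [cands, List.mem_singleton] at hc
    subst hc
    have h1 : Wd [] ∈ G2 := Wd_nil ▸ one_mem G2
    refine ⟨h1, ?_⟩
    rw [show (⟨Wd [], h1⟩ : ↥G2) = 1 from Subtype.ext Wd_nil, map_one]
    rfl
  | r :: L, hL, c, hc => by
    simp only [cands, List.mem_append, List.mem_map] at hc
    rcases hc with hc | ⟨d, hd, rfl⟩
    · exact img_cands hal L (fun s hs => hL s (List.mem_cons_of_mem _ hs)) c hc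
    · have h := (hL r List.mem_cons_self).append
        (img_cands hal L (fun s hs => hL s (List.mem_cons_of_mem _ hs)) d hd)
      have e : (if odd4 r then al else 1) * (if d.2 then al else 1) =
          if xor (odd4 r) d.2 then al else 1 := by
        cases odd4 r <;> cases d.2 <;> simp [hal]
      rwa [e] at h

theorem orb_chk : (dataTwF4.L.all fun o =>
    (orbWord o.root).all (fun r => (o.list twistF4.rt ++ o.tail).contains r) &&
      decide ((orbWord o.root).count o.root = 1)) = true := by
  decide +kernel

/-- An involution in the unipotent radical is a commutator element. -/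
theorem mem_commutator_of_mem_pos {g : ↥G2} (hg : (g : GL chevF4.Idx (ZMod 2)) ∈ chevF4.posUnipotent (ZMod 2))
    (h2 : g * g = 1) : g ∈ commutator ↥G2 := by
  obtain ⟨al, hal, himg⟩ := imgs
  have hd := dataOK_F4 (RingHom.id (ZMod 2))
  have hmem : (g : GL chevF4.Idx (ZMod 2)) ∈ endo2.fix ⊓
      gen chevF4 (ZMod 2) {a | a ∈ flatOrbs endo2.ρ dataTwF4.L} := by
    refine ⟨fix_eq.symm ▸ g.2, ?_⟩
    rw [certF4.posUnipotent_eq] at hg
    exact gen_mono chevF4 (fun r hr => hd.cover endo2 hr) hg
  obtain ⟨c, hc, he⟩ := decomp endo2 dataTwF4.L hd.layers (fun o ho => by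
    have hroot : o.root ∈ reps12 := reps12_eq ▸ List.mem_map_of_mem ho
    obtain ⟨h1, -⟩ := himg _ hroot
    have h2' := orb_chk
    simp only [List.all_eq_true, Bool.and_eq_true, decide_eq_true_eq, List.contains_iff_mem,
      List.mem_append] at h2'
    exact ⟨fix_eq.symm ▸ h1, (h2' o ho).1, (h2' o ho).2⟩) _ hmem
  rw [reps12_eq] at hc
  obtain ⟨h3, h4⟩ := img_cands hal reps12 himg c hc
  have hgc : g = ⟨Wd c.1, h3⟩ := Subtype.ext he
  rcases Bool.eq_false_or_eq_true c.2 with hb | hb
  · exact absurd ((congrArg Subtype.val h2 :) ) (by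
      show (g : GL chevF4.Idx (ZMod 2)) * g ≠ 1
      rw [he]; exact witness hc hb)
  · rw [hb, if_neg Bool.false_ne_true] at h4
    rw [hgc, ← Abelianization.ker_of ↥G2, MonoidHom.mem_ker]
    exact h4

/-- Every involution of `²F₄(2)` lies in the commutator subgroup. -/
theorem mem_commutator_of_mul_self {g : ↥G2} (h2 : g * g = 1) : g ∈ commutator ↥G2 := by
  set U : Subgroup ↥G2 := (chevF4.posUnipotent (ZMod 2)).subgroupOf G2 with hU
  have hcU : Nat.card U = 2 ^ 12 := by
    have h1 := card_posF4 (RingHom.id (ZMod 2)) hf1 hK1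
    rw [show (endoF4 (RingHom.id (ZMod 2))).fix = G2 from fix_eq, inf_comm] at h1
    rw [hU, ← Subgroup.card_map_of_injective G2.subtype_injective, Subgroup.subgroupOf_map_subtype,
      h1, ZMod.card]
  have hcG : Nat.card ↥G2 = 2 ^ 12 * (9 * 15 * 65) := by
    have h1 := card_twistF4 (RingHom.id (ZMod 2)) hf1 hK1
    rw [show (endoF4 (RingHom.id (ZMod 2))).fix = G2 from fix_eq, ZMod.card] at h1
    rw [h1]
    norm_num
  have hfac : Nat.card U = 2 ^ (Nat.card ↥G2).factorization 2 := by
    rw [hcU, hcG, Nat.factorization_mul (by norm_num) (by norm_num), Finsupp.add_apply,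
      Nat.prime_two.factorization_pow, Finsupp.single_eq_same,
      Nat.factorization_eq_zero_of_not_dvd (by norm_num)]
  let P : Sylow 2 ↥G2 := Sylow.ofCard U hfac
  have hp : IsPGroup 2 ↥(Subgroup.zpowers g) := by
    rintro ⟨z, k, rfl⟩
    refine ⟨1, Subtype.ext ?_⟩
    show (g ^ k) ^ 2 ^ 1 = 1
    rw [pow_one, ← zpow_natCast, ← _root_.zpow_mul, mul_comm, _root_.zpow_mul, zpow_natCast, sq, h2, _root_.one_zpow]
  obtain ⟨Q, hQ⟩ := hp.exists_le_sylow
  obtain ⟨x, hx⟩ := MulAction.exists_smul_eq ↥G2 Q P
  have hmem : x * g * x⁻¹ ∈ U := by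
    have : x * g * x⁻¹ ∈ (P : Subgroup ↥G2) := by
      rw [← hx]
      exact ⟨g, hQ (Subgroup.mem_zpowers g), rfl⟩
    exact this
  have h := mem_commutator_of_mem_pos (g := x * g * x⁻¹) hmem
    (by rw [show x * g * x⁻¹ * (x * g * x⁻¹) = x * (g * g) * x⁻¹ by group, h2]; group)
  have h' := (inferInstance : (commutator ↥G2).Normal).conj_mem _ h x⁻¹
  rwa [show x⁻¹ * (x * g * x⁻¹) * x⁻¹⁻¹ = g by group] at h'

end CfsgLib.Chev.F4Two
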