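import Cfsg.Agent.Lib.Chev.TwistF4Torus
import Cfsg.Agent.Lib.Chev.TwistF4Two
import Cfsg.Agent.Lib.Schur.ChainScalar

/-!
Central extensions of `²F₄(q)` split over the unipotent group.
-/

set_option autoImplicit false
set_option maxRecDepth 100000
set_option linter.unusedSectionVars false
set_option linter.style.haveILetI false

open scoped commutatorElement

namespace CfsgLib.Chev.F4Root

open Cfsg.Lie Matrix
open CfsgLib.Schur
open Cert (torusHom extC extC_ne_zero)

/-- Words of root elements with parameter one. -/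
def unitWord : ℕ → List ℕ
  | 24 => [24, 33] | 25 => [27, 25, 28] | 26 => [34, 26, 36] | 31 => [35, 31, 40]
  | 41 => [29, 41, 44] | 32 => [32, 37] | 43 => [43, 38] | 45 => [45, 39] | 40 => [40, 46]
  | _ => [44, 47]

theorem chkUnitFix : ([24, 25, 26, 31, 41, 32, 43, 45, 40, 44] : List ℕ).all (fun r =>
    ((unitWord r).all fun s => decide (s < tabF4.n)) &&
      F4Two.eqChk ((unitWord r).map twistF4.rt) (unitWord r)) = true := by
  decide +kernel

theorem chkCommA : F4Two.eqChk
    (unitWord 24 ++ unitWord 25 ++ (unitWord 24).reverse ++ (unitWord 25).reverse)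
    (unitWord 26 ++ unitWord 31 ++ unitWord 32 ++ unitWord 43 ++ unitWord 45 ++
      unitWord 40) = true := by
  decide +kernel

theorem chkCommB : F4Two.eqChk
    (unitWord 25 ++ unitWord 26 ++ (unitWord 25).reverse ++ (unitWord 26).reverse)
    (unitWord 31 ++ (unitWord 41 ++ unitWord 45 ++ unitWord 44)) = true := by
  decide +kernel

theorem chkLayF4 : ((List.range 12).all fun k =>
    chkCommGenMod tabF4 2 (Endo.sfxL twistF4.rt dataTwF4.L 0) (Endo.sfxL twistF4.rt dataTwF4.L k)
      (Endo.sfxL twistF4.rt dataTwF4.L (k + 1))) = true := by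
  decide +kernel

theorem chkRayClass : chkCommGenMod tabF4 2 [25, 27, 28, 30] [28, 30] [] = true := by
  decide +kernel

theorem chkRayWord : ([25, 27, 28, 30] : List ℕ).all (fun r => decide (r < tabF4.n) &&
    (Endo.sfxL twistF4.rt dataTwF4.L 4).contains (rword tabF4 (clsWord dataTwF4.CL [1, 0]) r)) =
      true ∧
    Endo.orbL dataTwF4.L 1 = ⟨25, 2, [28, 30], 1, []⟩ ∧
    Endo.orbL dataTwF4.L 3 = ⟨28, 2, [], 2, []⟩ ∧
    Orb.list ⟨25, 2, [28, 30], 1, []⟩ twistF4.rt = [25, 27] ∧
    Orb.list ⟨28, 2, [], 2, []⟩ twistF4.rt = [28, 30] := by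
  refine ⟨?_, rfl, rfl, ?_, ?_⟩ <;> decide +kernel

theorem chkCoords :
    ((unitWord 26 ++ unitWord 31 ++ unitWord 32 ++ unitWord 43 ++ unitWord 45 ++ unitWord 40).all
        (fun r => (Endo.sfxL twistF4.rt dataTwF4.L 2).contains r) &&
      decide ((unitWord 26 ++ unitWord 31 ++ unitWord 32 ++ unitWord 43 ++ unitWord 45 ++
        unitWord 40).count (Endo.orbL dataTwF4.L 2).root = 1)) = true ∧
    ((unitWord 31 ++ (unitWord 41 ++ unitWord 45 ++ unitWord 44)).all
        (fun r => (Endo.sfxL twistF4.rt dataTwF4.L 4).contains r) &&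
      decide ((unitWord 31 ++ (unitWord 41 ++ unitWord 45 ++ unitWord 44)).count
        (Endo.orbL dataTwF4.L 4).root = 1)) = true ∧
    ((unitWord 41 ++ unitWord 45 ++ unitWord 44).all
        (fun r => (Endo.sfxL twistF4.rt dataTwF4.L 5).contains r) &&
      decide ((unitWord 41 ++ unitWord 45 ++ unitWord 44).count
        (Endo.orbL dataTwF4.L 5).root = 1)) = true ∧
    (unitWord 24 ++ unitWord 25 ++ unitWord 26 ++ unitWord 31).all
        (fun r => (Endo.sfxL twistF4.rt dataTwF4.L 0).contains r) = true := by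
  decide +kernel

theorem chkFixed : ([35, 31, 40] : List ℕ).all (fun r => decide (r < tabF4.n) &&
    (decide (tabF4.car 0 r + tabF4.car 1 r = 0) && decide (tabF4.car 2 r + tabF4.car 3 r = 0))) =
      true := by
  decide +kernel

variable {K : Type*} [Field K] [Fintype K] [CharP K 2] {e : ℕ}

/-- The product of root elements with parameter one. -/
noncomputable def wrd (w : List ℕ) : GL chevF4.Idx K :=
  (w.map fun r => X chevF4 r (1 : K)).prod

lemma wrd_eq (w : List ℕ) : wrd (K := K) w = (w.map fun r => X chevF4 r (1 : K)).prod := rfl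

/-- Identities of words are checked over the prime field. -/
lemma wrd_of_chk {v w : List ℕ} (hc : F4Two.eqChk v w = true) :
    wrd (K := K) v = wrd w := by
  haveI : Fact (Nat.Prime 2) := ⟨Nat.prime_two⟩
  have hlt : ∀ r, r ∈ v ∨ r ∈ w → r < tabF4.n := by
    simp only [F4Two.eqChk, Bool.and_eq_true, List.all_eq_true, decide_eq_true_eq] at hc
    exact fun r hr => hr.elim (hc.1 r) (hc.2.1 r)
  let i : ZMod 2 →+* K := ZMod.castHom dvd_rfl K
  have h := congrArg (mapGL chevF4 i) (F4Two.Wd_eq_of_eqChk hc)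
  have hmap : ∀ u : List ℕ, mapGL chevF4 i (F4Two.Wd u) = wrd u := fun u => by
    rw [F4Two.Wd_eq_prod, map_list_prod, List.map_map, wrd_eq]
    refine congrArg List.prod (List.map_congr_left fun r _ => ?_)
    rw [Function.comp_apply, certF4.X_map, map_one]
  rwa [hmap, hmap] at h

lemma wrd_append (v w : List ℕ) : wrd (K := K) (v ++ w) = wrd v * wrd w := by
  simp [wrd_eq]

lemma wrd_reverse : ∀ {w : List ℕ}, (∀ r ∈ w, r < tabF4.n) →
    wrd (K := K) w.reverse = (wrd w)⁻¹
  | [], _ => by simp [wrd_eq]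
  | r :: w, hw => by
    have hr := hw r List.mem_cons_self
    have h1 : X chevF4 r (1 : K) * X chevF4 r 1 = 1 := by
      rw [certF4.X_add hr, CharTwo.add_self_eq_zero, certF4.X_zero hr]
    have ih := wrd_reverse fun s hs => hw s (List.mem_cons_of_mem _ hs)
    rw [wrd_eq, wrd_eq] at ih
    rw [wrd_eq, wrd_eq, List.reverse_cons, List.map_append, List.prod_append, ih, List.map_cons,
      List.map_cons, List.map_nil, List.prod_cons, List.prod_cons, List.prod_nil, mul_one,
      _root_.mul_inv_rev, inv_eq_of_mul_eq_one_right h1]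

variable (f : K →+* K) (hf : ∀ t, f t = t ^ e) (hK : Fintype.card K = 2 * e ^ 2)

/-- The layers. -/
noncomputable abbrev L4 (k : ℕ) : Subgroup ↥(endoF4 f).fix := (endoF4 f).lay dataTwF4.L k

/-- The coordinates. -/
noncomputable abbrev cd (k : ℕ) (g : ↥(endoF4 f).fix) : K := (endoF4 f).crd dataTwF4.L k g

lemma wrd_mem_gen {w : List ℕ} {k : ℕ}
    (hw : w.all (fun r => (Endo.sfxL twistF4.rt dataTwF4.L k).contains r) = true) :
    wrd (K := K) w ∈ gen chevF4 K {r | r ∈ Endo.sfxL twistF4.rt dataTwF4.L k} := by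
  rw [wrd_eq]
  refine list_prod_mem fun g hg => ?_
  obtain ⟨r, hr, rfl⟩ := List.mem_map.1 hg
  simp only [List.all_eq_true, List.contains_iff_mem] at hw
  exact X_mem_gen _ (show r ∈ {r | r ∈ Endo.sfxL twistF4.rt dataTwF4.L k} from hw r hr) _

/-- The coordinate of a word. -/
lemma cd_wrd {g : ↥(endoF4 f).fix} {w : List ℕ} (hg : (g : GL chevF4.Idx K) = wrd w) {k : ℕ}
    (hk : k < 12) (hw : (w.all (fun r => (Endo.sfxL twistF4.rt dataTwF4.L k).contains r) &&
      decide (w.count (Endo.orbL dataTwF4.L k).root = 1)) = true) :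
    g ∈ L4 f k ∧ cd f k g = 1 := by
  simp only [Bool.and_eq_true, decide_eq_true_eq] at hw
  refine ⟨((endoF4 f).mem_lay _).2 (hg ▸ wrd_mem_gen hw.1), ?_⟩
  refine (endoF4 f).crd_eq (layersF4 f) hk ?_
  have hmem := hw.1
  simp only [List.all_eq_true, List.contains_iff_mem] at hmem
  have h1 := Endo.inC_word (h := certF4) ((endoF4 f).free_root (layersF4 f) hk)
    (w.map fun r => (r, (1 : K))) (fun p hp => by
      obtain ⟨r, hr, rfl⟩ := List.mem_map.1 hp
      exact hmem r hr)
  have hsum : ∀ v : List ℕ, ((v.map fun r => (r, (1 : K))).map fun p =>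
      if p.1 = (Endo.orbL dataTwF4.L k).root then p.2 else 0).sum =
        (v.count (Endo.orbL dataTwF4.L k).root : K) := by
    intro v
    induction v with
    | nil => simp
    | cons r v ih =>
      rw [List.map_cons, List.map_cons, List.sum_cons, ih, List.count_cons]
      by_cases hr : r = (Endo.orbL dataTwF4.L k).root
      · simp [hr, add_comm]
      · simp [hr]
  rw [hsum, hw.2, Nat.cast_one, List.map_map] at h1
  rw [hg, wrd_eq]
  exact h1

include hf in
lemma unit_mem_fix {r : ℕ} (hr : r ∈ ([24, 25, 26, 31, 41, 32, 43, 45, 40, 44] : List ℕ)) :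
    wrd (K := K) (unitWord r) ∈ (endoF4 f).fix := by
  have h := List.all_eq_true.1 chkUnitFix r hr
  simp only [Bool.and_eq_true, List.all_eq_true, decide_eq_true_eq] at h
  obtain ⟨hlt, hw⟩ := h
  have hsign := signTwF4
  simp only [List.all_eq_true, List.mem_range, decide_eq_true_eq] at hsign
  have hτ : ∀ s < tabF4.n, (endoF4 f).τ s (1 : K) = 1 := fun s hs => by
    rw [τF4_eq f hf ⟨(hsign s hs).2, rfl⟩, one_pow, one_pow]
  have h1 : ((((unitWord r).map fun s => (s, (1 : K))) : List (ℕ × K)).map fun p =>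
      X chevF4 ((endoF4 f).ρ p.1) ((endoF4 f).τ p.1 p.2)).prod =
      (((unitWord r).map fun s => (s, (1 : K))).map fun p => X chevF4 p.1 p.2).prod := by
    have h2 : wrd (K := K) ((unitWord r).map twistF4.rt) = wrd (unitWord r) :=
      wrd_of_chk hw
    rw [wrd_eq, wrd_eq, List.map_map] at h2
    rw [List.map_map, List.map_map]
    refine Eq.trans (congrArg List.prod (List.map_congr_left fun s hs => ?_)) h2
    show X chevF4 ((endoF4 f).ρ s) ((endoF4 f).τ s 1) = X chevF4 (twistF4.rt s) 1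
    rw [hτ s (hlt s hs)]
    rfl
  have h3 := (endoF4 f).prod_mem_fix (fun p hp => by
    obtain ⟨s, hs, rfl⟩ := List.mem_map.1 hp; exact hlt s hs) h1
  rw [List.map_map] at h3
  rw [wrd_eq]
  exact h3

include hf in
lemma exists_unit {r : ℕ} (hr : r ∈ ([24, 25, 26, 31, 41, 32, 43, 45, 40, 44] : List ℕ)) :
    ∃ g : ↥(endoF4 f).fix, (g : GL chevF4.Idx K) = wrd (unitWord r) :=
  ⟨⟨_, unit_mem_fix f hf hr⟩, rfl⟩

lemma commL4 {k : ℕ} (hk : k < 12) {g n : ↥(endoF4 f).fix} (hg : g ∈ L4 f 0) (hn : n ∈ L4 f k) :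
    ⁅g, n⁆ ∈ L4 f (k + 1) :=
  (endoF4 f).lay_comm dataTwF4.L (p := 2)
    (List.all_eq_true.1 chkLayF4 k (List.mem_range.2 hk)) hg hn

variable {Δ : Type*} [Group Δ] (σ : Δ →* ↥(endoF4 f).fix) (hs : Function.Surjective σ)
  (hc : σ.ker ≤ Subgroup.center Δ)
variable {k : ℕ} (hk : k < 12) {M : Subgroup Δ}
  (hG : Chain.Good σ (L4 f 0) (endoF4 f).torG (L4 f (k + 1)) M)

lemma actF4 : Chain.Act (L4 f 0) (endoF4 f).torG :=
  ⟨fun _ hh _ hu => (endoF4 f).lay_conj (layersF4 f) hh hu,
    fun _ ha _ hb => (endoF4 f).torG_comm ha hb⟩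

include hk in
lemma layerF4 : Chain.Layer (L4 f 0) (endoF4 f).torG (L4 f k) (L4 f (k + 1)) :=
  ⟨(endoF4 f).lay_anti _ (Nat.le_succ k), (endoF4 f).lay_anti _ (Nat.zero_le k),
    fun _ hh _ hn => (endoF4 f).lay_conj (layersF4 f) hh hn,
    fun _ hh _ hn => (endoF4 f).lay_conj (layersF4 f) hh hn,
    fun _ hg _ hn => commL4 f hk hg hn⟩

include hs hc hk hG in
/-- The left elements dead with the whole layer are stable under the torus. -/
lemma dead_conj {h m : ↥(endoF4 f).fix} (hh : h ∈ (endoF4 f).torG) (hm : m ∈ L4 f 0)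
    (hd : ∀ n ∈ L4 f k, Chain.Dead σ M m n) :
    ∀ n ∈ L4 f k, Chain.Dead σ M (h * m * h⁻¹) n := by
  intro n hn
  have hA := actF4 f
  have hL := layerF4 f hk
  have hn' : h⁻¹ * n * h⁻¹⁻¹ ∈ L4 f k :=
    (endoF4 f).lay_conj (layersF4 f) (inv_mem hh) hn
  obtain ⟨h', rfl⟩ := hs h
  obtain ⟨m', rfl⟩ := hs m
  obtain ⟨n', rfl⟩ := hs n
  rw [Chain.dead_iff hc hA hL hG hs
    (g' := h' * m' * h'⁻¹) (n' := h' * (h'⁻¹ * n' * h') * h'⁻¹)
    (by simp only [map_mul, map_inv]) (by simp only [map_mul, map_inv]; group),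
    Chain.pair_conj hc hA hL hG hh hm (by simpa using hn')]
  exact hd _ (by simpa using hn') m' (h'⁻¹ * n' * h') rfl (by simp only [map_mul, map_inv])

include hf hK hs hc hk hG in
/-- A dead element of nonzero coordinate gives dead elements of all coordinates. -/
lemma exists_dead {i : ℕ} (hi : i < 12) {m : ↥(endoF4 f).fix} (hm : m ∈ L4 f i)
    (hne : cd f i m ≠ 0) (hd : ∀ n ∈ L4 f k, Chain.Dead σ M m n) (c : K) :
    ∃ m' ∈ L4 f i, cd f i m' = c ∧ ∀ n ∈ L4 f k, Chain.Dead σ M m' n := by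
  rcases eq_or_ne c 0 with rfl | hc0
  · exact ⟨1, one_mem _, (endoF4 f).crd_one (layersF4 f) hi,
      fun n _ => Chain.dead_one_left hc (actF4 f) (layerF4 f hk) hG hs n⟩
  obtain ⟨a, b, hab⟩ := exists_chi hK hi (Units.mk0 (c / cd f i m) (div_ne_zero hc0 hne))
  refine ⟨_, (endoF4 f).lay_conj (layersF4 f) (tel_mem f hf hK a b) hm, ?_,
    dead_conj f σ hs hc hk hG (tel_mem f hf hK a b)
      ((endoF4 f).lay_anti _ (Nat.zero_le i) hm) hd⟩
  rw [cd, crd_tel f hf hK a b hi hm, hab, Units.val_mk0, div_mul_cancel₀ _ hne]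

include hf hK hs hc hG in
/-- The left elements killing the layers of the same ray. -/
lemma ray_witness {i : ℕ} (hray : (i, k) ∈ rayPairs) (hi : i ≠ 1) (he : 2 ≤ e) (c : K) :
    ∃ m ∈ L4 f i, cd f i m = c ∧ ∀ n ∈ L4 f k, Chain.Dead σ M m n := by
  simp only [rayPairs, List.mem_cons, Prod.mk.injEq, List.not_mem_nil, or_false] at hray
  obtain ⟨hA0, hB0, hC0, hw0⟩ := chkCoords
  have hin0 : ∀ {g : ↥(endoF4 f).fix} {r : ℕ}, r ∈ ([24, 25, 26, 31] : List ℕ) →
      (g : GL chevF4.Idx K) = wrd (unitWord r) → g ∈ L4 f 0 := by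
    intro g r hr hg
    refine ((endoF4 f).mem_lay _).2 (hg ▸ wrd_mem_gen ?_)
    simp only [List.all_append, Bool.and_eq_true] at hw0
    simp only [List.mem_cons, List.not_mem_nil, or_false] at hr
    rcases hr with rfl | rfl | rfl | rfl
    exacts [hw0.1.1.1, hw0.1.1.2, hw0.1.2, hw0.2]
  have hlt : ∀ r ∈ ([24, 25, 26, 31, 41, 32, 43, 45, 40, 44] : List ℕ),
      ∀ s ∈ unitWord r, s < tabF4.n := fun r hr s hs => by
    have h := List.all_eq_true.1 chkUnitFix r hr
    simp only [Bool.and_eq_true, List.all_eq_true, decide_eq_true_eq] at h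
    exact h.1 s hs
  have hcomm : ∀ {a b : ↥(endoF4 f).fix} {r s : ℕ} {w : List ℕ},
      r ∈ ([24, 25, 26, 31, 41, 32, 43, 45, 40, 44] : List ℕ) →
      s ∈ ([24, 25, 26, 31, 41, 32, 43, 45, 40, 44] : List ℕ) →
      (a : GL chevF4.Idx K) = wrd (unitWord r) → (b : GL chevF4.Idx K) = wrd (unitWord s) →
      F4Two.eqChk (unitWord r ++ unitWord s ++ (unitWord r).reverse ++
        (unitWord s).reverse) w = true →
      ((⁅a, b⁆ : ↥(endoF4 f).fix) : GL chevF4.Idx K) = wrd w := by
    intro a b r s w hr hs' ha hb hw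
    have h : wrd (K := K) (unitWord r ++ unitWord s ++ (unitWord r).reverse ++
        (unitWord s).reverse) = wrd w := wrd_of_chk hw
    rw [wrd_append, wrd_append, wrd_append, wrd_reverse (hlt r hr), wrd_reverse (hlt s hs'),
      ← ha, ← hb] at h
    rw [← h, commutatorElement_def]
    simp
  obtain ⟨u24, e24⟩ := exists_unit f hf (r := 24) (by simp)
  obtain ⟨u25, e25⟩ := exists_unit f hf (r := 25) (by simp)
  obtain ⟨u26, e26⟩ := exists_unit f hf (r := 26) (by simp)
  obtain ⟨u31, e31⟩ := exists_unit f hf (r := 31) (by simp)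
  rcases hray with ⟨rfl, rfl⟩ | ⟨rfl, rfl⟩ | ⟨rfl, rfl⟩ | ⟨rfl, rfl⟩
  · exact absurd rfl hi
  · obtain ⟨hm, h1⟩ := cd_wrd f (hcomm (by simp) (by simp) e24 e25 chkCommA)
      (show 2 < 12 by omega) hA0
    exact exists_dead f hf hK σ hs hc (by omega) hG (by omega) hm (h1 ▸ one_ne_zero) (fun n hn =>
      Chain.dead_commutator hc (actF4 f) (layerF4 f (by omega)) hG hs (hin0 (by simp) e24)
        (hin0 (by simp) e25) hn) c
  · obtain ⟨hm, h1⟩ := cd_wrd f (hcomm (by simp) (by simp) e25 e26 chkCommB)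
      (show 4 < 12 by omega) hB0
    exact exists_dead f hf hK σ hs hc (by omega) hG (by omega) hm (h1 ▸ one_ne_zero) (fun n hn =>
      Chain.dead_commutator hc (actF4 f) (layerF4 f (by omega)) hG hs (hin0 (by simp) e25)
        (hin0 (by simp) e26) hn) c
  · -- a torus element fixing the first factor of a commutator and moving the second
    obtain ⟨g, hg⟩ := IsCyclic.exists_generator (α := Kˣ)
    have hm4 := hcomm (by simp) (by simp) e25 e26 chkCommB
    rw [wrd_append, ← e31] at hm4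
    set m := ⁅u25, u26⁆
    obtain ⟨hB, hB1⟩ := cd_wrd f (g := u31⁻¹ * m) (w := unitWord 41 ++ unitWord 45 ++ unitWord 44)
      (by rw [Subgroup.coe_mul, Subgroup.coe_inv, hm4, inv_mul_cancel_left]) (show 5 < 12 by omega)
      hC0
    set h := tel f hf hK g g
    have hfix : h * u31 * h⁻¹ = u31 := by
      refine Subtype.ext ?_
      rw [Subgroup.coe_mul, Subgroup.coe_mul, Subgroup.coe_inv, e31, wrd_eq,
        ← MulAut.conj_apply, map_list_prod, List.map_map]
      refine congrArg List.prod (List.map_congr_left fun r hr => ?_)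
      have h1 := chkFixed
      simp only [List.all_eq_true, Bool.and_eq_true, decide_eq_true_eq] at h1
      obtain ⟨hr', h01, h23⟩ := h1 r hr
      rw [Function.comp_apply, MulAut.conj_apply]
      show torusHom (D := chevF4) (T := tabF4) (par e g g) * X chevF4 r 1 *
        (torusHom (D := chevF4) (T := tabF4) (par e g g))⁻¹ = _
      rw [Endo.conj_X_charOf (h := certF4) (c := extC tabF4 (par e g g))
        (fun i _ => extC_ne_zero _ i) rfl hr', mul_one]
      congr 1
      rw [charOf, show tabF4.l = 4 from rfl, Finset.prod_range, Fin.prod_univ_four]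
      simp only [extC, par, show tabF4.l = 4 from rfl, Fin.val_zero, Fin.val_one, Fin.val_two,
        show ((3 : Fin 4) : ℕ) = 3 from rfl, Nat.ofNat_pos, Nat.one_lt_ofNat, Nat.lt_add_one,
        dite_true, List.getD_cons_zero, List.getD_cons_succ]
      rw [← zpow_add₀ (Units.ne_zero _), h01, _root_.zpow_zero, one_mul]
      simp only [show (2 : ℕ) < 4 by norm_num, dite_true]
      rw [← zpow_add₀ (Units.ne_zero _), h23, _root_.zpow_zero]
    obtain ⟨hx, hx1⟩ := crd_tel_comm f hf hK g g (show 5 < 12 by omega) hB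
    have hu31 : u31 ∈ L4 f 0 := hin0 (by simp) e31
    have hval : ⁅h, m⁆ = ⁅u31, ⁅h, u31⁻¹ * m⁆⁆ * ⁅h, u31⁻¹ * m⁆ := by
      simp only [commutatorElement_def]
      calc h * m * h⁻¹ * m⁻¹ = (h * u31 * h⁻¹) * (h * (u31⁻¹ * m) * h⁻¹) * m⁻¹ := by group
        _ = _ := by rw [hfix]; group
    have hmem6 := commL4 f (show 5 < 12 by omega) hu31 hx
    have hmm : ⁅h, m⁆ ∈ L4 f 5 := by
      rw [hval]; exact mul_mem ((endoF4 f).lay_anti _ (by omega) hmem6) hx
    have hm0 : m ∈ L4 f 0 := by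
      rw [show m = u31 * (u31⁻¹ * m) by group]
      exact mul_mem hu31 ((endoF4 f).lay_anti _ (by omega) hB)
    have hne : cd f 5 ⁅h, m⁆ ≠ 0 := by
      rw [cd, hval, (endoF4 f).crd_mul (layersF4 f) (show 5 < 12 by omega)
        ((endoF4 f).lay_anti _ (by omega) hmem6) hx,
        (endoF4 f).crd_of_mem_succ (layersF4 f) (show 5 < 12 by omega) hmem6, zero_add, hx1]
      refine mul_ne_zero (sub_ne_zero.2 fun h1 => ?_) (by rw [show (endoF4 f).crd dataTwF4.L 5 (u31⁻¹ * m) = 1 from hB1]; exact one_ne_zero)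
      have h2 : chi e 5 g g = 1 := Units.ext (by simpa using h1)
      rw [chi, ← _root_.zpow_add, ← orderOf_dvd_iff_zpow_eq_one,
        orderOf_eq_card_of_forall_mem_zpowers hg, card_units_F4 hK] at h2
      simp only [eA, eB, cR, carR, List.getD_cons_zero, List.getD_cons_succ] at h2
      have he' : (2 : ℤ) ≤ e := by exact_mod_cast he
      have h3 := Int.le_of_dvd (by linarith) h2
      nlinarith
    have hd : ∀ n ∈ L4 f 11, Chain.Dead σ M m n := fun n hn =>
      Chain.dead_commutator hc (actF4 f) (layerF4 f (by omega)) hG hs (hin0 (by simp) e25)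
        (hin0 (by simp) e26) hn
    refine exists_dead f hf hK σ hs hc (by omega) hG (by omega) hmm hne (fun n hn => ?_) c
    rw [commutatorElement_def]
    exact Chain.dead_mul_left hc (actF4 f) (layerF4 f (by omega)) hG hs
      ((endoF4 f).lay_conj (layersF4 f) (tel_mem f hf hK g g) hm0) (inv_mem hm0) hn
      (dead_conj f σ hs hc (by omega) hG (tel_mem f hf hK g g) hm0 hd n hn)
      (Chain.dead_inv_left hc (actF4 f) (layerF4 f (by omega)) hG hs hm0 hn (hd n hn))

include hf hK hs hc in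
/-- The two layers of a rank one group commute. -/
lemma ray_suzuki {M : Subgroup Δ} (hG : Chain.Good σ (L4 f 0) (endoF4 f).torG (L4 f (3 + 1)) M)
    {g n : ↥(endoF4 f).fix} (hg : g ∈ L4 f 1) (hn : n ∈ L4 f 3)
    (hI : ∀ m ∈ L4 f 2, Chain.Dead σ M m n) : Chain.Dead σ M g n := by
  have hA := actF4 f
  have hL := layerF4 f (show 3 < 12 by omega)
  obtain ⟨hw, e1, e3, l1, l3⟩ := chkRayWord
  have hl : dataTwF4.L.length = 12 := rfl
  have hmem : ∀ j < 12, Endo.orbL dataTwF4.L j ∈ dataTwF4.L := fun j hj => by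
    rw [Endo.orbL, List.getD_eq_getElem _ _ (by omega)]; exact List.getElem_mem _
  have pick : ∀ j, j = 1 ∨ j = 3 → ∀ g ∈ L4 f j, ∃ u ∈ L4 f j, cd f j u = cd f j g ∧
      (u : GL chevF4.Idx K) ∈ gen chevF4 K ((Endo.orbL dataTwF4.L j).cls twistF4.rt) := by
    intro j hj g hg
    have hj' : j < 12 := by omega
    have hlift := ((stdF4 f hf hK).lifts _ _ (hmem j hj')).1
    obtain ⟨u, -, huF, huG, huC⟩ :=
      hlift _ ((endoF4 f).crd_adm (layersF4 f) hj' hg)
    have hcls : (Endo.orbL dataTwF4.L j).cls twistF4.rt ⊆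
        {r | r ∈ Endo.sfxL twistF4.rt dataTwF4.L j} := by
      have hchk : ([1, 3] : List ℕ).all (fun j => ((Endo.orbL dataTwF4.L j).list twistF4.rt ++
          (Endo.orbL dataTwF4.L j).tail).all fun r =>
            (Endo.sfxL twistF4.rt dataTwF4.L j).contains r) = true := by decide +kernel
      simp only [List.all_eq_true, List.contains_iff_mem] at hchk
      intro r hr
      exact hchk j (by simpa using hj) r (List.mem_append.2 hr)
    exact ⟨⟨u, huF⟩, ((endoF4 f).mem_lay _).2 (gen_mono _ hcls huG),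
      (endoF4 f).crd_eq (layersF4 f) hj' (Endo.InC.mono hcls huC), huG⟩
  obtain ⟨u, hu, hu1, huG⟩ := pick 1 (Or.inl rfl) g hg
  obtain ⟨v, hv, hv1, hvG⟩ := pick 3 (Or.inr rfl) n hn
  have hu0 : u ∈ L4 f 0 := (endoF4 f).lay_anti _ (by omega) hu
  have hgu : u⁻¹ * g ∈ L4 f 2 := (endoF4 f).crd_congr (layersF4 f) (show 1 < 12 by omega) hu hg hu1
  have hvn : v⁻¹ * n ∈ L4 f 4 := (endoF4 f).crd_congr (layersF4 f) (show 3 < 12 by omega) hv hn hv1
  rw [show g = u * (u⁻¹ * g) by group]
  refine Chain.dead_mul_left hc hA hL hG hs hu0 ((endoF4 f).lay_anti _ (by omega) hgu) hn ?_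
    (hI _ hgu)
  rw [show n = v * (v⁻¹ * n) by group]
  refine Chain.dead_mul_right hc hA hL hG hs hu0 hv
    ((endoF4 f).lay_anti _ (by omega) hvn) ?_ (Chain.dead_of_mem_bot hc hA hL hG hs hu0 hvn)
  rw [e1] at huG
  rw [e3] at hvG
  have huS : (u : GL chevF4.Idx K) ∈ gen chevF4 K {r | r ∈ ([25, 27, 28, 30] : List ℕ)} :=
    gen_mono _ (fun r hr => by
      rcases hr with hr | hr
      · rw [l1] at hr; simp only [List.mem_cons, List.not_mem_nil, or_false] at hr
        rcases hr with rfl | rfl <;> simp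
      · simp only [List.mem_cons, List.not_mem_nil, or_false] at hr
        rcases hr with rfl | rfl <;> simp) huG
  have hvS : (v : GL chevF4.Idx K) ∈ gen chevF4 K {r | r ∈ ([28, 30] : List ℕ)} :=
    gen_mono _ (fun r hr => by
      rcases hr with hr | hr
      · rwa [l3] at hr
      · exact absurd hr List.not_mem_nil) hvG
  have hcom : u * v = v * u := by
    have h1 := certF4.commutator_mem_gen_mod (p := 2) chkRayClass huS hvS
    rw [show {r | r ∈ ([] : List ℕ)} = (∅ : Set ℕ) by simp,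
      show gen chevF4 K (∅ : Set ℕ) = ⊥ by simp [gen], Subgroup.mem_bot,
      commutatorElement_eq_one_iff_mul_comm] at h1
    exact Subtype.ext h1
  obtain ⟨m, -, hmf, -, hmM⟩ := (endoF4 f).exists_rep_clsWord (dataOK_F4 f).cls (repsF4 f hf hK)
    (M := [1, 0]) (by decide)
  obtain ⟨m', hm'⟩ := hs ⟨m, hmf⟩
  have hconj : ∀ x : ↥(endoF4 f).fix,
      (x : GL chevF4.Idx K) ∈ gen chevF4 K {r | r ∈ ([25, 27, 28, 30] : List ℕ)} →
      ∀ x', σ x' = x → σ (m' * x' * m'⁻¹) ∈ L4 f (3 + 1) := by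
    intro x hx x' hx'
    rw [map_mul, map_mul, map_inv, hm', hx']
    refine ((endoF4 f).mem_lay _).2 ?_
    rw [Subgroup.coe_mul, Subgroup.coe_mul, Subgroup.coe_inv]
    simp only [List.all_eq_true, Bool.and_eq_true, decide_eq_true_eq, List.contains_iff_mem] at hw
    exact Cert.conj_gen_le (fun r hr => ⟨_, (hw r hr).2, hmM r (hw r hr).1⟩) hx
  obtain ⟨u', hu'⟩ := hs u
  obtain ⟨v', hv'⟩ := hs v
  refine Chain.dead_of_commute hc hA hL hG hs hu' hv'
    (Chain.commute_of_conj hc hG ((endoF4 f).lay_anti _ (by omega)) (by rw [hu', hv', hcom])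
      (hconj u huS u' hu') (hconj v ?_ v' hv'))
  exact gen_mono _ (fun r hr => by
    simp only [Set.mem_ofPred_eq, List.mem_cons, List.not_mem_nil, or_false] at hr ⊢
    tauto) hvS

include hf hK hs hc hG in
/-- Every layer is dead. -/
theorem dead_all (hk : k < 12) (he : e = 2 ∨ e = 4 ∨ e = 8 ∨ 16 ≤ e) :
    ∀ g ∈ L4 f 0, ∀ n ∈ L4 f k, Chain.Dead σ M g n := by
  have hA := actF4 f
  have hL := layerF4 f hk
  have he2 : 2 ≤ e := by omega
  have h5 : 5 ≤ Fintype.card K := by rw [hK]; nlinarith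
  suffices ∀ d i, 12 ≤ i + d → ∀ g ∈ L4 f i, ∀ n ∈ L4 f k, Chain.Dead σ M g n from
    this 12 0 (by omega)
  intro d
  induction d with
  | zero =>
    intro i hi g hg n _
    rw [L4, (endoF4 f).lay_of_length_le _ (show dataTwF4.L.length ≤ i from (by
      rw [show dataTwF4.L.length = 12 from rfl]; omega)), Subgroup.mem_bot] at hg
    subst hg
    exact Chain.dead_one_left hc hA hL hG hs n
  | succ d ih =>
    intro i hi g hg n hn
    have IH := ih (i + 1) (by omega)
    have hg0 : g ∈ L4 f 0 := (endoF4 f).lay_anti _ (Nat.zero_le i) hg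
    rcases lt_trichotomy i k with hik | rfl | hik
    · have hi12 : i < 12 := by omega
      by_cases hray : (i, k) ∈ rayPairs
      · by_cases hi1 : i = 1
        · subst hi1
          have hk3 : k = 3 := by simpa [rayPairs] using hray
          subst hk3
          exact ray_suzuki f hf hK σ hs hc hG hg hn fun m hm => IH m hm n hn
        · obtain ⟨m, hm, hm1, hmd⟩ :=
            ray_witness f hf hK σ hs hc hG hray hi1 he2 (cd f i g)
          have h1 : m⁻¹ * g ∈ L4 f (i + 1) :=
            (endoF4 f).crd_congr (layersF4 f) hi12 hm hg hm1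
          rw [show g = m * (m⁻¹ * g) by group]
          exact Chain.dead_mul_left hc hA hL hG hs ((endoF4 f).lay_anti _ (Nat.zero_le i) hm)
            ((endoF4 f).lay_anti _ (Nat.zero_le _) h1) hn (hmd n hn) (IH _ h1 n hn)
      · obtain ⟨a, b, hfx, hmv⟩ := exists_moves hK he hk hik hray
        have hne : (chi e k a b : K) - 1 ≠ 0 :=
          sub_ne_zero.2 fun h1 => hmv (Units.ext (by simpa using h1))
        obtain ⟨x, hx, hx1⟩ :=
          exists_coord f hf hK hk ((endoF4 f).crd dataTwF4.L k n / ((chi e k a b : K) - 1))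
        obtain ⟨hy, hy1⟩ := crd_tel_comm f hf hK a b hk hx
        rw [hx1, mul_div_cancel₀ _ hne] at hy1
        have h1 := (endoF4 f).crd_congr (layersF4 f) hk hy hn hy1
        rw [show n = ⁅tel f hf hK a b, x⁆ * (⁅tel f hf hK a b, x⁆⁻¹ * n) by group]
        refine Chain.dead_mul_right hc hA hL hG hs hg0 hy (hL.le h1)
          (Chain.dead_of_fix_left_mod hc hA hL hG hs (tel_mem f hf hK a b) hg0 hx fun n' hn' => ?_)
          (Chain.dead_of_mem_bot hc hA hL hG hs hg0 h1)
        obtain ⟨h2, h3⟩ := crd_tel_comm f hf hK a b hi12 hg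
        refine IH _ ((endoF4 f).mem_succ_of_crd (layersF4 f) hi12 h2 ?_) n' hn'
        rw [h3, hfx, Units.val_one, sub_self, zero_mul]
    · refine Chain.dead_scalar hc hA hL hG hs h5 (cd f i)
        (fun a ha b hb => (endoF4 f).crd_mul (layersF4 f) hk ha hb)
        (fun a ha h0 => (endoF4 f).mem_succ_of_crd (layersF4 f) hk ha h0)
        (exists_coord f hf hK hk) (fun c hc0 => ?_) hg hn
      obtain ⟨a, b, hab⟩ := exists_chi hK hk (Units.mk0 c hc0)
      refine ⟨_, tel_mem f hf hK a b, fun x hx => ?_⟩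
      rw [cd, crd_tel f hf hK a b hk hx, hab, Units.val_mk0]
    · exact Chain.dead_of_left_bot hc hA hL hG hs
        ((endoF4 f).lay_anti _ (show k + 1 ≤ i by omega) hg) hn

include hf hK hs hc in
/-- The preimage of the unipotent group has derived subgroup meeting the kernel trivially. -/
theorem sylow_lift (he : e = 2 ∨ e = 4 ∨ e = 8 ∨ 16 ≤ e) {z : Δ} (hz : z ∈ σ.ker)
    (hzd : z ∈ ⁅(L4 f 0).comap σ, (L4 f 0).comap σ⁆) : z = 1 := by
  have he2 : 2 ≤ e := by omega
  have hgood : ∀ d, d ≤ 11 → ∃ M, Chain.Good σ (L4 f 0) (endoF4 f).torG (L4 f (12 - d)) M := by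
    intro d hd
    induction d with
    | zero =>
      rw [Nat.sub_zero, L4, L4, (endoF4 f).lay_of_length_le (k := 12) _ (le_of_eq rfl)]
      exact ⟨⊥, Chain.good_bot hc⟩
    | succ d ih =>
      obtain ⟨M, hM⟩ := ih (by omega)
      have hk : 12 - (d + 1) < 12 := by omega
      rw [show 12 - d = 12 - (d + 1) + 1 by omega] at hM
      obtain ⟨g, hg⟩ := IsCyclic.exists_generator (α := Kˣ)
      obtain ⟨a, b, hab⟩ := exists_chi hK hk g
      have hne : (chi e (12 - (d + 1)) a b : K) - 1 ≠ 0 := by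
        rw [hab, sub_ne_zero]
        intro h1
        have h2 := orderOf_eq_card_of_forall_mem_zpowers hg
        rw [show g = 1 from Units.ext h1, orderOf_one, Nat.card_units, Nat.card_eq_fintype_card,
          hK] at h2
        have : 8 ≤ 2 * e ^ 2 := by nlinarith
        omega
      refine Chain.Good.step hc (actF4 f) (layerF4 f hk) hM hs
        (dead_all f hf hK σ hs hc hM hk he) (tel_mem f hf hK a b) (fun x hx h1 => ?_)
        (fun n hn => ?_)
      · have h2 := (crd_tel_comm f hf hK a b hk hx).2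
        rw [(endoF4 f).crd_of_mem_succ (layersF4 f) hk h1, eq_comm, mul_eq_zero] at h2
        exact (endoF4 f).mem_succ_of_crd (layersF4 f) hk hx (h2.resolve_left hne)
      · obtain ⟨x, hx, hx1⟩ := exists_coord f hf hK hk
          ((endoF4 f).crd dataTwF4.L (12 - (d + 1)) n / ((chi e (12 - (d + 1)) a b : K) - 1))
        obtain ⟨hy, hy1⟩ := crd_tel_comm f hf hK a b hk hx
        rw [hx1, mul_div_cancel₀ _ hne] at hy1
        exact ⟨x, hx, (endoF4 f).crd_congr (layersF4 f) hk hy hn hy1⟩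
  obtain ⟨M, hM⟩ := hgood 11 le_rfl
  exact Chain.top_inf_ker hc (actF4 f) (layerF4 f (show 0 < 12 by omega)) hM hs rfl
    (dead_all f hf hK σ hs hc hM (by omega) he) hz hzd

end CfsgLib.Chev.F4Root
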