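import Cfsg.Agent.Lib.Chev.TwistF4RankOneB
import Cfsg.Agent.Lib.Chev.TwistF4Sylow
import Cfsg.Agent.Lib.Chev.FixSplit
import Cfsg.Agent.Lib.StemExt.Basic

/-!
The Schur multiplier of `²F₄(q)` is trivial for `q > 2`.
-/

set_option autoImplicit false
set_option maxRecDepth 100000
set_option linter.unusedSectionVars false
set_option linter.style.haveILetI false

open scoped commutatorElement

namespace CfsgLib.Chev.F4Root

open Cfsg.Lie Matrix
open Cert (torusHom extC)
open CfsgLib.Schur.Canon (SplitBN Ctx closure_lift_inf_ker)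

theorem baseF4cls : ∀ b ∈ dataTwF4.base,
    (b.cls twistF4.rt ⊆ {r | r ∈ cellList tabF4 clA.word}) ∨
      (b.cls twistF4.rt ⊆ {r | r ∈ cellList tabF4 clB.word}) := by
  have h : ∀ b ∈ dataTwF4.base, ((b.list twistF4.rt ++ b.tail).all fun r =>
      (cellList tabF4 clA.word).contains r) = true ∨
      ((b.list twistF4.rt ++ b.tail).all fun r =>
      (cellList tabF4 clB.word).contains r) = true := by
    decide +kernel
  intro b hb
  rcases h b hb with h1 | h1
  · refine Or.inl fun r hr => ?_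
    simp only [List.all_eq_true, List.contains_iff_mem] at h1
    exact h1 r (List.mem_append.2 hr)
  · refine Or.inr fun r hr => ?_
    simp only [List.all_eq_true, List.contains_iff_mem] at h1
    exact h1 r (List.mem_append.2 hr)

theorem sfxPos : ((List.range tabF4.n).all fun r =>
    decide (tabF4.half ≤ r) == (Endo.sfxL twistF4.rt dataTwF4.L 0).contains r) = true := by
  decide +kernel

variable {K : Type*} [Field K] [Fintype K] [CharP K 2] {e : ℕ}
variable (f : K →+* K) (hf : ∀ t, f t = t ^ e) (hK : Fintype.card K = 2 * e ^ 2)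

lemma lay0_eq : (endoF4 f).lay dataTwF4.L 0 = (endoF4 f).posG := by
  rw [Endo.lay, Endo.posG, certF4.posUnipotent_eq]
  congr 2
  ext r
  have h := sfxPos
  simp only [List.all_eq_true, List.mem_range, beq_iff_eq, List.contains_eq_mem,
    decide_eq_decide] at h
  exact ⟨fun hr => (endoF4 f).sfxL_pos (layersF4 f) hr, fun hr => (h r hr.2).1 hr.1⟩

include hf hK

lemma splitHyp : (endoF4 f).SplitHyp dataTwF4 2 (Fintype.card K) where
  ok := dataOK_F4 f
  reps := (std_fixF4 f hf hK).reps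
  lifts o ho := ((std_fixF4 f hf hK).lifts _ o ho).1
  liftBase := (std_fixF4 f hf hK).lift
  card := hcardF4 f hf hK
  two_le := Fintype.one_lt_card
  exp_ne := two_ne_zero
  ne c hc := by
    simp only [dataTwF4, List.mem_cons, List.not_mem_nil, or_false] at hc
    rcases hc with rfl | rfl <;> simp
  base b hb := (baseF4cls b hb).elim (fun h => ⟨clA, clA_mem, h⟩) fun h => ⟨clB, clB_mem, h⟩

omit hf hK in
lemma conj_clsL {c : Cls} (hc : c ∈ dataTwF4.CL) {t x : ↥(endoF4 f).fix}
    (ht : t ∈ (endoF4 f).diaG) (hx : x ∈ (endoF4 f).clsL c) :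
    t * x * t⁻¹ ∈ (endoF4 f).clsL c := by
  have hle : (endoF4 f).clsL c ≤
      ((endoF4 f).clsL c).comap (MulAut.conj t).toMonoidHom := by
    refine sup_le (fun y hy => Subgroup.mem_sup_left
        ((endoF4 f).diaG_clsX (dataOK_F4 f).cls hc ht hy)) (fun y hy => Subgroup.mem_sup_right ?_)
    exact (endoF4 f).conj_diaG_gen (dataOK_F4 f).cls hc (S := Endo.clsNeg tabF4 c)
      (fun r hr => hr.1) ht hy
  exact hle hx

lemma tel_mem_A (u : Kˣ) : tel f hf hK u 1 ∈ (endoF4 f).clsL clA := by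
  let N : Kˣ → ↥(endoF4 f).fix := fun v =>
    elA f hf hK (v : K) * elA' f hf hK (v : K)⁻¹ * elA f hf hK (v : K)
  have hN : ∀ v, N v ∈ (endoF4 f).clsL clA := fun v =>
    mul_mem (mul_mem (Subgroup.mem_sup_left (elA_mem f hf hK _))
      (Subgroup.mem_sup_right (elA'_mem f hf hK _))) (Subgroup.mem_sup_left (elA_mem f hf hK _))
  have hNv : ∀ v : Kˣ, (N v : GL chevF4.Idx K) =
      nU chevF4 33 ((v : K) ^ e) * nU chevF4 24 (v : K) := by
    intro v
    have e0 := certF4.prod_nU [(33, (v : K) ^ e), (24, (v : K))] (by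
      intro p hp
      simp only [List.mem_cons, List.not_mem_nil, or_false] at hp
      rcases hp with rfl | rfl
      · exact (by decide +kernel : 33 < tabF4.n)
      · exact (by decide +kernel : 24 < tabF4.n))
      (by decide +kernel : chkPairwise tabF4 [33, 24] = true)
    simp only [List.map_cons, List.map_nil, List.prod_cons, List.prod_nil, mul_one,
      CharTwo.neg_eq, cellA.2.1, cellA.2.2.1] at e0
    rw [e0]
    simp [N, elA, elA', inv_pow]
  have hco : (tel f hf hK u 1 : GL chevF4.Idx K) = ((N u * N 1 : ↥(endoF4 f).fix) : GL chevF4.Idx K) := by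
    rw [Subgroup.coe_mul, hNv, hNv, Units.val_one, one_pow]
    have hc := certF4.commute_nU (F := K) (a := 33) (b := 24) (by decide +kernel)
      (by decide +kernel) (by decide +kernel) (1 : K) (u : K)
    have hcor : ∀ i : Fin tabF4.l, tabF4.cor 33 i = ([1, 0, 0, 0] : List ℤ).getD i 0 ∧
        tabF4.cor 24 i = ([0, 0, 0, 1] : List ℤ).getD i 0 := by decide +kernel
    have hh : hU chevF4 33 ((u : K) ^ e) * hU chevF4 24 (u : K) =
        nU chevF4 33 ((u : K) ^ e) * nU chevF4 24 (u : K) *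
          (nU chevF4 33 (1 : K) * nU chevF4 24 (1 : K)) := by
      rw [show hU chevF4 33 ((u : K) ^ e) * hU chevF4 24 (u : K) =
        nU chevF4 33 ((u : K) ^ e) * nU chevF4 33 (-1 : K) *
          (nU chevF4 24 (u : K) * nU chevF4 24 (-1 : K)) from rfl, CharTwo.neg_eq, mul_assoc,
        ← mul_assoc (nU chevF4 33 (1 : K)), hc.eq]
      group
    rw [← hh, ← Units.val_pow_eq_pow_val, certF4.hU_eq_torusHom (by decide +kernel),
      certF4.hU_eq_torusHom (by decide +kernel), ← map_mul]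
    show torusHom (D := chevF4) (T := tabF4) (par e u 1) = _
    congr 1
    funext i
    simp only [Pi.mul_apply, (hcor i).1, (hcor i).2]
    obtain ⟨i, hi⟩ := i
    have hi' : i < 4 := hi
    interval_cases i <;> simp [par]
  rw [Subtype.ext hco]
  exact mul_mem (hN u) (hN 1)

lemma tel_mem_B (b : Kˣ) : tel f hf hK 1 b ∈ (endoF4 f).clsL clB := by
  obtain ⟨v, hv⟩ := (powCoprime (coprime_F4 hK)).surjective b
  have hv' : v ^ (2 * (e + 1)) = b := hv
  set n := repB f hf hK
  set t := tel f hf hK v 1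
  have hn : n ∈ (endoF4 f).clsL clB := repB_mem f hf hK
  have hcor : ∀ i : Fin tabF4.l,
      tabF4.cor (rword tabF4 [1, 2, 1, 2] 33) i = ([1, 2, 2, 0] : List ℤ).getD i 0 ∧
      tabF4.cor (rword tabF4 [1, 2, 1, 2] 24) i = ([0, 1, 2, 1] : List ℤ).getD i 0 ∧
      tabF4.cor 33 i = ([1, 0, 0, 0] : List ℤ).getD i 0 ∧
      tabF4.cor 24 i = ([0, 0, 0, 1] : List ℤ).getD i 0 := by
    decide +kernel
  have ht : (t : GL chevF4.Idx K) = hU chevF4 33 ((v : K) ^ e) * hU chevF4 24 (v : K) := by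
    show torusHom (D := chevF4) (T := tabF4) (par e v 1) = _
    rw [← Units.val_pow_eq_pow_val, certF4.hU_eq_torusHom (by decide +kernel),
      certF4.hU_eq_torusHom (by decide +kernel), ← map_mul]
    congr 1
    funext i
    simp only [Pi.mul_apply, (hcor i).2.2.1, (hcor i).2.2.2]
    obtain ⟨i, hi⟩ := i
    have hi' : i < 4 := hi
    interval_cases i <;> simp [par]
  have hco : tel f hf hK 1 b = n * (t * n⁻¹ * t⁻¹) := by
    rw [show n * (t * n⁻¹ * t⁻¹) = n * t * n⁻¹ * t⁻¹ by group, eq_mul_inv_iff_mul_eq]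
    refine Subtype.ext ?_
    simp only [Subgroup.coe_mul, Subgroup.coe_inv]
    rw [ht,
      coe_repB f hf hK, ← conj_mul, certF4.nW_conj_hU wordOK_F4 (by decide +kernel)
        (pow_ne_zero _ v.ne_zero),
      certF4.nW_conj_hU wordOK_F4 (by decide +kernel) v.ne_zero, ← Units.val_pow_eq_pow_val,
      certF4.hU_eq_torusHom (by decide +kernel), certF4.hU_eq_torusHom (by decide +kernel),
      ← map_mul, certF4.hU_eq_torusHom (by decide +kernel),
      certF4.hU_eq_torusHom (by decide +kernel), ← map_mul]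
    show torusHom (D := chevF4) (T := tabF4) (par e 1 b) * _ = _
    rw [← map_mul]
    congr 1
    funext i
    simp only [Pi.mul_apply, (hcor i).1, (hcor i).2.1, (hcor i).2.2.1, (hcor i).2.2.2]
    obtain ⟨i, hi⟩ := i
    have hi' : i < 4 := hi
    interval_cases i <;> simp [par]
    · rw [← hv', ← pow_mul, ← pow_mul, ← pow_succ]
      refine Units.ext ?_
      rw [Units.val_pow_eq_pow_val, Units.val_pow_eq_pow_val,
        show 2 * (e + 1) * e = Fintype.card K + 2 * e by rw [hK]; ring, pow_add,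
        FiniteField.pow_card, ← pow_succ', show e * 2 + 1 = 2 * e + 1 by ring]
    · rw [← hv', ← pow_mul, ← pow_add, show 2 * (e + 1) = e * 2 + 2 by ring]
  rw [hco]
  exact mul_mem hn (conj_clsL f clB_mem
    (Subgroup.mem_subgroupOf.2 (certF4.range_torusHom.le ⟨_, rfl⟩)) (inv_mem hn))

lemma diaG_le : (endoF4 f).diaG ≤
    ⨆ i, (endoF4 f).clsL ((splitHyp f hf hK).cl i) ⊓ (endoF4 f).diaG := by
  intro t ht
  obtain ⟨a, b, rfl⟩ := exists_tel f hf hK ht
  have hd : ∀ a b : Kˣ, tel f hf hK a b ∈ (endoF4 f).diaG := fun a b =>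
    Subgroup.mem_subgroupOf.2 (certF4.range_torusHom.le ⟨_, rfl⟩)
  have e1 : tel f hf hK a b = tel f hf hK a 1 * tel f hf hK 1 b := Subtype.ext (by
    show torusHom (D := chevF4) (T := tabF4) (par e a b) =
      torusHom (D := chevF4) (T := tabF4) (par e a 1) *
        torusHom (D := chevF4) (T := tabF4) (par e 1 b)
    rw [← map_mul]
    congr 1
    funext i
    obtain ⟨i, hi⟩ := i
    have hi' : i < 4 := hi
    interval_cases i <;> simp [par])
  rw [e1]
  exact mul_mem (Subgroup.mem_iSup_of_mem (⟨0, by decide⟩ : Fin dataTwF4.CL.length)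
      ⟨tel_mem_A f hf hK a, hd a 1⟩)
    (Subgroup.mem_iSup_of_mem (⟨1, by decide⟩ : Fin dataTwF4.CL.length)
      ⟨tel_mem_B f hf hK b, hd 1 b⟩)

/-- The multiplier of the fixed points. -/
theorem multiplier_fix (m : ℕ) (hem : e = 2 ^ m) (hm : 1 ≤ m) :
    Cfsg.HasCyclicSchurMultiplier ↥(endoF4 f).fix 1 := by
  classical
  refine CfsgLib.StemExt.hasCyclicSchurMultiplier_one fun Δ _ _ σ hσ => ?_
  obtain ⟨hs, hc, hd⟩ := hσ
  have h2 := Nat.prime_two
  haveI := Fact.mk h2
  have he : e = 2 ∨ e = 4 ∨ e = 8 ∨ 16 ≤ e := by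
    rcases Nat.lt_or_ge m 4 with h4 | h4
    · interval_cases m <;> omega
    · exact Or.inr (Or.inr (Or.inr (by
        subst hem; exact le_trans (by norm_num) (Nat.pow_le_pow_right (show 2 > 0 by norm_num) h4))))
  have hQ : Fintype.card K = 2 ^ (2 * m + 1) := by rw [hK, hem]; ring
  -- the kernel has odd order
  have hidx : ¬ 2 ∣ ((endoF4 f).lay dataTwF4.L 0).index := by
    have hU : Nat.card ↥((endoF4 f).lay dataTwF4.L 0) = Fintype.card K ^ 12 := by
      rw [lay0_eq, Endo.posG, ← Subgroup.inf_subgroupOf_left,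
        Nat.card_congr (Subgroup.subgroupOfEquivOfLe inf_le_left).toEquiv,
        card_posF4 f hf hK]
    have h := ((endoF4 f).lay dataTwF4.L 0).card_mul_index
    rw [hU, card_twistF4 f hf hK, mul_assoc, mul_assoc, mul_assoc] at h
    rw [Nat.eq_of_mul_eq_mul_left (pow_pos Fintype.card_pos _) h]
    have hev : ∀ i, i ≠ 0 → Even (Fintype.card K ^ i) := fun i hi =>
      (Nat.even_pow' hi).2 (hK ▸ even_two_mul _)
    intro hdvd
    rcases (h2.dvd_mul).1 hdvd with d1 | d1
    · obtain ⟨c1, hc1⟩ := hev 1 one_ne_zero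
      rw [pow_one] at hc1
      have := Fintype.card_pos (α := K)
      omega
    rcases (h2.dvd_mul).1 d1 with d2 | d2
    · obtain ⟨c1, hc1⟩ := hev 3 (by norm_num)
      omega
    rcases (h2.dvd_mul).1 d2 with d3 | d3
    · obtain ⟨c1, hc1⟩ := hev 4 (by norm_num)
      have := pow_pos (Fintype.card_pos (α := K)) 4
      omega
    · obtain ⟨c1, hc1⟩ := hev 6 (by norm_num)
      omega
  have hcop : ¬ 2 ∣ Nat.card σ.ker := fun hdvd => by
    obtain ⟨z, hz⟩ := exists_prime_orderOf_dvd_card' 2 hdvd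
    have hzd : (z : Δ) ∈ ⁅((endoF4 f).lay dataTwF4.L 0).comap σ,
        ((endoF4 f).lay dataTwF4.L 0).comap σ⁆ :=
      CfsgLib.Schur.mem_commutator_preimage hs h2 (a := 1) z.2 (hc z.2) (hd z.2)
        (by rw [pow_one, ← hz]; exact congrArg Subtype.val (pow_orderOf_eq_one z)) _ hidx
    have hz1 : (z : Δ) = 1 := sylow_lift f hf hK σ hs hc he z.2 hzd
    rw [OneMemClass.coe_eq_one.1 hz1, orderOf_one] at hz
    omega
  have c : Ctx σ 2 := ⟨h2, hs, hc, hcop⟩
  set P := splitHyp f hf hK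
  set S := P.split h2 hQ (diaG_le f hf hK) with hS
  have hLi : ∀ i, S.L i = (endoF4 f).clsL (P.cl i) := P.split_L h2 hQ (diaG_le f hf hK)
  -- the tori of the rank one subgroups
  have key : ∀ i, Nat.card ↥(S.Hh σ i) ≤ Nat.card Kˣ := by
    intro i
    have hcl : P.cl i = clA ∨ P.cl i = clB := by
      have h := P.cl_mem i
      generalize P.cl i = w at h
      simpa [dataTwF4, clA, clB] using h
    have hb : Nat.card ↥((endoF4 f).clsL (P.cl i) ⊓ (endoF4 f).diaG) ≤ Nat.card Kˣ := by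
      rcases hcl with e' | e' <;> rw [e']
      · exact card_torA f hf hK
      · exact card_torB f hf hK m hem
    refine le_trans ?_ hb
    let ψ : ↥(S.Hh σ i) → ↥((endoF4 f).clsL (P.cl i) ⊓ (endoF4 f).diaG) := fun w =>
      ⟨σ w, by rw [← hLi]; exact S.σ_mem_L c w.2.1, w.2.2⟩
    refine Nat.card_le_card_of_injective ψ fun a b hab => ?_
    have hk : (a : Δ)⁻¹ * b ∈ σ.ker := by
      rw [MonoidHom.mem_ker, map_mul, map_inv, show σ a = σ b from congrArg Subtype.val hab,
        inv_mul_cancel]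
    have hbot := closure_lift_inf_ker c (S.T i) (fun x hx => S.isPElt_T i hx) (S.L i)
      (S.closure_T i) fun ℓ hℓ hℓ2 => by
        rw [hLi]
        rcases hcl with e' | e' <;> rw [e']
        · obtain ⟨U, hU, hUc⟩ := sylowA f hf hK ℓ hℓ hℓ2
          exact ⟨U, hU, Or.inl hUc⟩
        · obtain ⟨U, hU, hUc⟩ := sylowB f hf hK m hem hm ℓ hℓ hℓ2
          exact ⟨U, hU, Or.inl hUc⟩
    have h1 : (a : Δ)⁻¹ * b ∈ (⊥ : Subgroup Δ) :=
      hbot ▸ ⟨(S.Lh σ i).mul_mem ((S.Lh σ i).inv_mem a.2.1) b.2.1, hk⟩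
    exact Subtype.ext (inv_mul_eq_one.1 (Subgroup.mem_bot.1 h1))
  have hH : Nat.card S.H = Nat.card Kˣ ^ 2 := by
    show Nat.card ↥((endoF4 f).diaG) = _
    rw [Endo.diaG, ← Subgroup.inf_subgroupOf_left,
      Nat.card_congr (Subgroup.subgroupOfEquivOfLe inf_le_left).toEquiv,
      card_diagF4 f hf hK, Nat.card_units, Nat.card_eq_fintype_card]
  have hmain := S.card_ker_inf_mul_le c
  rw [inf_eq_left.2 hd, hH] at hmain
  have hbound : ∏ i, Nat.card ↥(S.Hh σ i) ≤ Nat.card Kˣ ^ 2 :=
    (Finset.prod_le_prod' fun i _ => key i).trans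
      (le_of_eq (by rw [Finset.prod_const, Finset.card_univ, Fintype.card_fin]; rfl))
  rw [← Subgroup.card_eq_one]
  refine le_antisymm (Nat.le_of_mul_le_mul_right ?_
    (pow_pos (Nat.card_pos (α := Kˣ)) 2)) Nat.card_pos
  rw [one_mul]
  exact hmain.trans hbound

end CfsgLib.Chev.F4Root
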