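import Cfsg.Agent.Lib.Chev.TwistF4Torus
import Cfsg.Agent.Lib.Chev.BlockHom
import Cfsg.Agent.Lib.Schur.SLTwo
import Cfsg.Agent.Lib.Chev.RootCentralizer

/-!
The rank one subgroup of `²F₄(q)` isomorphic to a subgroup of `SL₂(q)`.
-/

set_option autoImplicit false
set_option maxRecDepth 100000
set_option linter.unusedSectionVars false
set_option linter.style.haveILetI false

namespace CfsgLib.Chev.F4Root

open Cfsg.Lie Matrix
open Cert (torusHom extC extC_ne_zero blockGroup blockGL coe_blockGL mem_cellList)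
open scoped MatrixGroups

/-- The class with two commuting roots. -/
def clA : Cls := ⟨[0, 3], [0, 3]⟩

/-- The roots moved by the block of `clA`. -/
def rootsA : List ℕ := [24, 33, 23, 14]

theorem chkA : chkBlock tabF4 rootsA [25, 26] = true := by decide +kernel

theorem colsA :
    (tabF4.col 24 25 = [(25, 0, 1), (26, 1, 1)] ∧ tabF4.col 24 26 = [(26, 0, 1)]) ∧
    (tabF4.col 33 25 = [(25, 0, 1)] ∧ tabF4.col 33 26 = [(26, 0, 1)]) ∧
    (tabF4.col 23 25 = [(25, 0, 1)] ∧ tabF4.col 23 26 = [(26, 0, 1), (25, 1, 1)]) ∧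
    (tabF4.col 14 25 = [(25, 0, 1)] ∧ tabF4.col 14 26 = [(26, 0, 1)]) := by
  decide +kernel

theorem cellA : cellList tabF4 clA.word = [24, 33] ∧ tabF4.neg 24 = 23 ∧ tabF4.neg 33 = 14 ∧
    tabF4.neg 23 = 24 ∧ tabF4.neg 14 = 33 ∧ tabF4.n = 48 ∧ tabF4.l = 4 := by
  decide +kernel

theorem sfxA : ([24, 33] : List ℕ).all (fun r =>
    (Endo.sfxL twistF4.rt dataTwF4.L 0).contains r &&
      !(Endo.sfxL twistF4.rt dataTwF4.L 1).contains r) = true ∧
    (Endo.orbL dataTwF4.L 0).root = 24 ∧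
    ([24, 33] : List ℕ).all (fun a => ([24, 33] : List ℕ).all fun b =>
      decide (a = b) || decide (tabF4.commTerms a b = [])) = true := by
  decide +kernel

lemma clA_mem : clA ∈ dataTwF4.CL := by simp [clA, dataTwF4]

variable {K : Type*} [Field K]

lemma nroots_F4 : chevF4.nroots = 48 := certF4.nroots_eq.trans cellA.2.2.2.2.2.1

/-- The coordinates of the block. -/
def iotaA (i : Fin 2) : chevF4.Idx :=
  Sum.inr ⟨([25, 26] : List ℕ).getD i 0, by
    rw [nroots_F4]; fin_cases i <;> decide⟩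

lemma iotaA_inj : Function.Injective iotaA := fun i j h => by
  have h' := congrArg Fin.val (Sum.inr.inj h)
  fin_cases i <;> fin_cases j <;> first | rfl | simp at h'

lemma enc_iotaA (i : Fin 2) : enc (iotaA i) ∈ ([25, 26] : List ℕ) := by
  fin_cases i <;> simp [iotaA, enc]

lemma iotaA_onto (a : chevF4.Idx) (ha : enc a ∈ ([25, 26] : List ℕ)) : ∃ i, iotaA i = a := by
  have h0 : enc (iotaA 0) = 25 := rfl
  have h1 : enc (iotaA 1) = 26 := rfl
  simp only [List.mem_cons, List.not_mem_nil, or_false] at ha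
  rcases ha with e | e
  · exact ⟨0, enc_injective (h0.trans e.symm)⟩
  · exact ⟨1, enc_injective (h1.trans e.symm)⟩

lemma sub_X24 (t : K) :
    ((X chevF4 24 t : GL chevF4.Idx K) : Matrix chevF4.Idx chevF4.Idx K).submatrix iotaA iotaA =
      !![1, 0; t, 1] := by
  ext i j
  rw [Matrix.submatrix_apply, certF4.coe_X,
    x_apply certF4.agrees (show 24 < tabF4.n by decide +kernel)]
  fin_cases i <;> fin_cases j <;> simp [iotaA, enc, colsA]

lemma sub_X33 (t : K) :
    ((X chevF4 33 t : GL chevF4.Idx K) : Matrix chevF4.Idx chevF4.Idx K).submatrix iotaA iotaA =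
      1 := by
  ext i j
  rw [Matrix.submatrix_apply, certF4.coe_X,
    x_apply certF4.agrees (show 33 < tabF4.n by decide +kernel)]
  fin_cases i <;> fin_cases j <;> simp [iotaA, enc, colsA]

lemma sub_X23 (t : K) :
    ((X chevF4 23 t : GL chevF4.Idx K) : Matrix chevF4.Idx chevF4.Idx K).submatrix iotaA iotaA =
      !![1, t; 0, 1] := by
  ext i j
  rw [Matrix.submatrix_apply, certF4.coe_X,
    x_apply certF4.agrees (show 23 < tabF4.n by decide +kernel)]
  fin_cases i <;> fin_cases j <;> simp [iotaA, enc, colsA]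

lemma sub_X14 (t : K) :
    ((X chevF4 14 t : GL chevF4.Idx K) : Matrix chevF4.Idx chevF4.Idx K).submatrix iotaA iotaA =
      1 := by
  ext i j
  rw [Matrix.submatrix_apply, certF4.coe_X,
    x_apply certF4.agrees (show 14 < tabF4.n by decide +kernel)]
  fin_cases i <;> fin_cases j <;> simp [iotaA, enc, colsA]

/-- The block of a product. -/
lemma subA_mul {g g' : GL chevF4.Idx K} (hg : g ∈ blockGroup chevF4 K [25, 26]) :
    ((g * g' : GL chevF4.Idx K) : Matrix chevF4.Idx chevF4.Idx K).submatrix iotaA iotaA =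
      (g : Matrix chevF4.Idx chevF4.Idx K).submatrix iotaA iotaA *
        (g' : Matrix chevF4.Idx chevF4.Idx K).submatrix iotaA iotaA := by
  rw [Units.val_mul]
  exact Cert.submatrix_mul iotaA hg.1 iotaA_inj enc_iotaA iotaA_onto

variable [Fintype K] [CharP K 2] {e : ℕ}
variable (f : K →+* K) (hf : ∀ t, f t = t ^ e) (hK : Fintype.card K = 2 * e ^ 2)

lemma clsPosA {r : ℕ} : r ∈ Endo.clsPos tabF4 clA ↔ r = 24 ∨ r = 33 := by
  rw [Endo.clsPos, Set.mem_ofPred_eq, cellA.1]; simp

lemma clsNegA {r : ℕ} (hr : r ∈ Endo.clsNeg tabF4 clA) : r = 23 ∨ r = 14 := by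
  obtain ⟨hlt, hn⟩ := hr
  rw [cellA.1] at hn
  simp only [List.mem_cons, List.not_mem_nil, or_false] at hn
  rw [← Cert.neg_neg (T := tabF4) hlt]
  rcases hn with e | e <;> rw [e]
  · exact Or.inl cellA.2.1
  · exact Or.inr cellA.2.2.1

lemma blockA_of_L {g : ↥(endoF4 f).fix} (hg : g ∈ (endoF4 f).clsL clA) :
    (g : GL chevF4.Idx K) ∈ blockGroup chevF4 K [25, 26] := by
  have hle : (endoF4 f).clsL clA ≤
      (blockGroup chevF4 K [25, 26]).comap (endoF4 f).fix.subtype :=
    sup_le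
      (fun x hx => certF4.gen_le_blockGroup chkA (fun r hr => by
        rcases clsPosA.1 hr with rfl | rfl <;> simp [rootsA]) (Subgroup.mem_subgroupOf.1 hx))
      (fun x hx => certF4.gen_le_blockGroup chkA (fun r hr => by
        rcases clsNegA hr with rfl | rfl <;> simp [rootsA]) (Subgroup.mem_subgroupOf.1 hx))
  exact hle hg

/-- The representation on the block. -/
noncomputable def psiA : ↥((endoF4 f).clsL clA) →* GL (Fin 2) K :=
  (blockGL (D := chevF4) iotaA iotaA_inj enc_iotaA iotaA_onto).comp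
    (((endoF4 f).fix.subtype.comp ((endoF4 f).clsL clA).subtype).codRestrict
      (blockGroup chevF4 K [25, 26]) fun g => blockA_of_L f g.2)

lemma coe_psiA (g : ↥((endoF4 f).clsL clA)) :
    (psiA f g : Matrix (Fin 2) (Fin 2) K) =
      ((g.1 : GL chevF4.Idx K) : Matrix chevF4.Idx chevF4.Idx K).submatrix iotaA iotaA := rfl

include hf hK

/-- The element of parameter `t`. -/
noncomputable def elA (t : K) : ↥(endoF4 f).fix :=
  ⟨X chevF4 33 (t ^ e) * X chevF4 24 t,
    pair_mem_fixF4 f hf hK (by decide +kernel) (by decide +kernel) (by decide +kernel) t⟩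

/-- The opposite element of parameter `t`. -/
noncomputable def elA' (t : K) : ↥(endoF4 f).fix :=
  ⟨X chevF4 14 (t ^ e) * X chevF4 23 t,
    pair_mem_fixF4 f hf hK (by decide +kernel) (by decide +kernel) (by decide +kernel) t⟩

lemma elA_mem (t : K) : elA f hf hK t ∈ (endoF4 f).clsX clA := by
  rw [Endo.clsX, Subgroup.mem_subgroupOf]
  exact mul_mem (X_mem_gen _ (clsPosA.2 (Or.inr rfl)) _) (X_mem_gen _ (clsPosA.2 (Or.inl rfl)) _)

lemma elA'_mem (t : K) : elA' f hf hK t ∈ (endoF4 f).clsY clA := by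
  rw [Endo.clsY, Subgroup.mem_subgroupOf]
  have h14 : 14 ∈ Endo.clsNeg tabF4 clA :=
    ⟨by decide +kernel, by rw [cellA.1, cellA.2.2.2.2.1]; simp⟩
  have h23 : 23 ∈ Endo.clsNeg tabF4 clA :=
    ⟨by decide +kernel, by rw [cellA.1, cellA.2.2.2.1]; simp⟩
  exact mul_mem (X_mem_gen _ h14 _) (X_mem_gen _ h23 _)

/-- The positive root subgroup consists of these elements. -/
lemma exists_elA {a : ↥(endoF4 f).fix} (ha : a ∈ (endoF4 f).clsX clA) :
    ∃ t, a = elA f hf hK t := by
  obtain ⟨hs, hroot, hcomm⟩ := sfxA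
  simp only [List.all_eq_true, Bool.and_eq_true, Bool.not_eq_true', List.contains_eq_mem,
    decide_eq_true_eq, decide_eq_false_iff_not, Bool.or_eq_true] at hs hcomm
  set S : Set ℕ := {r | r ∈ ([24, 33] : List ℕ)}
  have hSA : Endo.clsPos tabF4 clA = S := by
    ext r; rw [clsPosA]; simp [S]
  have hmem : ∀ {g : ↥(endoF4 f).fix}, (g : GL chevF4.Idx K) ∈ gen chevF4 K S →
      g ∈ (endoF4 f).lay dataTwF4.L 0 := fun hg =>
    ((endoF4 f).mem_lay _).2 (gen_mono _ (fun r hr => (hs r hr).1) hg)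
  have ha' : (a : GL chevF4.Idx K) ∈ gen chevF4 K S := hSA ▸ Subgroup.mem_subgroupOf.1 ha
  set t := (endoF4 f).crd dataTwF4.L 0 a
  have he' : (elA f hf hK t : GL chevF4.Idx K) ∈ gen chevF4 K S :=
    hSA ▸ Subgroup.mem_subgroupOf.1 (elA_mem f hf hK t)
  have hcd : (endoF4 f).crd dataTwF4.L 0 (elA f hf hK t) = t := by
    refine (endoF4 f).crd_eq (layersF4 f) (by decide) ?_
    have h1 := Endo.inC_word (h := certF4)
      ((endoF4 f).free_root (layersF4 f) (k := 0) (by decide))
      [(33, t ^ e), (24, t)] (fun p hp => by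
        simp only [List.mem_cons, List.not_mem_nil, or_false] at hp
        rcases hp with rfl | rfl <;> exact (hs _ (by simp)).1)
    simpa [hroot, elA] using h1
  have h1 := (endoF4 f).crd_congr (layersF4 f) (k := 0) (by decide) (hmem he') (hmem ha') hcd
  have hc : CommClosed tabF4 S := fun x hx y hy hne q hq => by
    rcases hcomm x hx y hy with e' | e'
    · exact absurd e'.symm hne
    · rw [e'] at hq; exact absurd hq List.not_mem_nil
  have h2 := certF4.gen_inter (g := (((elA f hf hK t)⁻¹ * a : ↥(endoF4 f).fix) : GL chevF4.Idx K))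
    (fun r hr => (endoF4 f).sfxL_pos (layersF4 f) (hs r hr).1) hc
    (fun r hr => (endoF4 f).sfxL_pos (layersF4 f) hr)
    (Endo.flatOrbs_spec (chkLayers_drop 1 (layersF4 f))).2.2
    (by rw [Subgroup.coe_mul, Subgroup.coe_inv]; exact mul_mem (inv_mem he') ha')
    (((endoF4 f).mem_lay _).1 h1)
  replace h2 := gen_mono _ (S' := (∅ : Set ℕ)) (fun r hr => ((hs r hr.1).2 hr.2).elim) h2
  rw [show gen chevF4 K (∅ : Set ℕ) = ⊥ by simp [gen], Subgroup.mem_bot] at h2
  exact ⟨t, (inv_mul_eq_one.1 (Subtype.ext h2)).symm⟩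

omit hf hK in
lemma sub_pairA (T t : K) :
    ((X chevF4 33 T * X chevF4 24 t : GL chevF4.Idx K) :
      Matrix chevF4.Idx chevF4.Idx K).submatrix iotaA iotaA = !![1, 0; t, 1] := by
  rw [subA_mul (certF4.X_mem_blockGroup chkA (by simp [rootsA]) _), sub_X33, sub_X24, one_mul]

omit hf hK in
lemma sub_pairA' (T t : K) :
    ((X chevF4 14 T * X chevF4 23 t : GL chevF4.Idx K) :
      Matrix chevF4.Idx chevF4.Idx K).submatrix iotaA iotaA = !![1, t; 0, 1] := by
  rw [subA_mul (certF4.X_mem_blockGroup chkA (by simp [rootsA]) _), sub_X14, sub_X23, one_mul]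

lemma psiA_el {g : ↥((endoF4 f).clsL clA)} {t : K} (hg : g.1 = elA f hf hK t) :
    (psiA f g : Matrix (Fin 2) (Fin 2) K) = !![1, 0; t, 1] := by
  rw [coe_psiA, hg]; exact sub_pairA _ _

/-- The representative. -/
noncomputable def repA : ↥(endoF4 f).fix :=
  elA f hf hK 1 * elA' f hf hK 1 * elA f hf hK 1

lemma coe_repA : (repA f hf hK : GL chevF4.Idx K) = nW chevF4 K [0, 3] := by
  have e0 := certF4.prod_nU [(33, (1 : K)), (24, 1)] (by
    intro p hp
    simp only [List.mem_cons, List.not_mem_nil, or_false] at hp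
    rcases hp with rfl | rfl
    · exact (by decide +kernel : 33 < tabF4.n)
    · exact (by decide +kernel : 24 < tabF4.n))
    (by decide +kernel : chkPairwise tabF4 [33, 24] = true)
  simp only [List.map_cons, List.map_nil, List.prod_cons, List.prod_nil, mul_one, inv_one,
    CharTwo.neg_eq, cellA.2.1, cellA.2.2.1] at e0
  have e1 : nW chevF4 K [0, 3] = nU chevF4 33 1 * nU chevF4 24 1 := by
    simp [nW, nS_simpleF4 (show 0 < tabF4.l by decide), nS_simpleF4 (show 3 < tabF4.l by decide),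
      show tabF4.simple 0 = 33 by decide +kernel, show tabF4.simple 3 = 24 by decide +kernel]
  rw [e1, e0]
  simp [repA, elA, elA']

lemma repA_isRep : (endoF4 f).IsRep clA (repA f hf hK) := by
  have hw : WordOK tabF4 [0, 3] := wordOK_of_all (by decide +kernel)
  refine ⟨?_, fun r hr => ?_⟩
  · rw [Endo.monG, Subgroup.mem_subgroupOf, coe_repA f hf hK]
    exact certF4.nW_mem_monomial hw
  · rw [coe_repA f hf hK]; exact certF4.Maps_nW hw hr

lemma repA_mem : repA f hf hK ∈ (endoF4 f).clsL clA :=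
  mul_mem (mul_mem (Subgroup.mem_sup_left (elA_mem f hf hK 1))
    (Subgroup.mem_sup_right (elA'_mem f hf hK 1))) (Subgroup.mem_sup_left (elA_mem f hf hK 1))

lemma psiA_rep : (psiA f ⟨_, repA_mem f hf hK⟩ : Matrix (Fin 2) (Fin 2) K) = !![0, 1; 1, 0] := by
  rw [coe_psiA]
  simp only [repA, elA, elA', Subgroup.coe_mul]
  rw [subA_mul, subA_mul, sub_pairA, sub_pairA']
  · ext i j
    fin_cases i <;> fin_cases j <;>
      simp [Matrix.mul_apply, Fin.sum_univ_two, CharTwo.add_self_eq_zero]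
  · exact mul_mem (certF4.X_mem_blockGroup chkA (by simp [rootsA]) _)
      (certF4.X_mem_blockGroup chkA (by simp [rootsA]) _)
  · exact mul_mem (mul_mem (certF4.X_mem_blockGroup chkA (by simp [rootsA]) _)
      (certF4.X_mem_blockGroup chkA (by simp [rootsA]) _))
      (mul_mem (certF4.X_mem_blockGroup chkA (by simp [rootsA]) _)
      (certF4.X_mem_blockGroup chkA (by simp [rootsA]) _))

lemma det_psiA (g : ↥((endoF4 f).clsL clA)) : (psiA f g : Matrix (Fin 2) (Fin 2) K).det = 1 := by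
  refine congrArg Units.val ((endoF4 f).class_hom_eq_one (dataOK_F4 f).cls clA_mem
    (repA_isRep f hf hK) (repA_mem f hf hK) (GeneralLinearGroup.det.comp (psiA f)) ?_ g)
  intro x hx
  obtain ⟨t, rfl⟩ := exists_elA f hf hK hx
  refine Units.ext ?_
  show (psiA f _ : Matrix (Fin 2) (Fin 2) K).det = 1
  rw [psiA_el f hf hK rfl, Matrix.det_fin_two]
  simp

/-- The parameters of a torus element. -/
lemma exists_tel {t : ↥(endoF4 f).fix} (ht : t ∈ (endoF4 f).diaG) :
    ∃ a b : Kˣ, t = tel f hf hK a b := by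
  obtain ⟨c, hc, hz⟩ := (endoF4 f).exists_param
    (g := (t : GL chevF4.Idx K)) ⟨t.2, Subgroup.mem_subgroupOf.1 ht⟩
  obtain ⟨c', hc', e'⟩ := exists_fix_paramF4 f hf hz
  obtain ⟨h0, h1⟩ := (fix_paramF4_eq f hf hK).1 hc'
  refine ⟨c' ⟨3, by decide⟩, c' ⟨2, by decide⟩, Subtype.ext ?_⟩
  show (t : GL chevF4.Idx K) = torusHom (D := chevF4) (T := tabF4) (par e _ _)
  rw [← hc, ← e']
  congr 1
  funext i
  obtain ⟨i, hi⟩ := i
  have hi' : i < 4 := hi
  interval_cases i
  · exact h0
  · exact h1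
  · rfl
  · rfl

lemma sub_telA (a b : Kˣ) (i j : Fin 2) :
    ((tel f hf hK a b : GL chevF4.Idx K) : Matrix chevF4.Idx chevF4.Idx K).submatrix iotaA iotaA
      i j = if i = j then (chi e (i + 1) a b : K) else 0 := by
  show torus chevF4 (charOf tabF4 (extC tabF4 (par e a b))) (iotaA i) (iotaA j) = _
  rw [torus, Matrix.diagonal_apply]
  by_cases hij : i = j
  · subst hij
    rw [if_pos rfl, if_pos rfl, ← charOf_par a b (show (i : ℕ) + 1 < 12 by omega)]
    fin_cases i
    · show charOf _ _ 25 = _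
      congr 1
    · show charOf _ _ 26 = _
      congr 1
  · rw [if_neg (fun h => hij (iotaA_inj h)), if_neg hij]

lemma torA {t : ↥(endoF4 f).fix} (ht : t ∈ (endoF4 f).diaG) (hL : t ∈ (endoF4 f).clsL clA) :
    ∃ a : Kˣ, t = tel f hf hK a 1 ∧
      (psiA f ⟨t, hL⟩ : Matrix (Fin 2) (Fin 2) K) = !![((a⁻¹ : Kˣ) : K), 0; 0, (a : K)] := by
  obtain ⟨a, b, rfl⟩ := exists_tel f hf hK ht
  have hd := det_psiA f hf hK ⟨_, hL⟩
  rw [coe_psiA, Matrix.det_fin_two, sub_telA f hf hK, sub_telA f hf hK, sub_telA f hf hK,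
    sub_telA f hf hK] at hd
  simp only [Fin.isValue, if_true, show (0 : Fin 2) ≠ 1 by decide, show (1 : Fin 2) ≠ 0 by decide,
    if_false, mul_zero, sub_zero, Fin.val_zero, Fin.val_one, zero_add] at hd
  have hd' : chi e 1 a b * chi e 2 a b = 1 := Units.ext hd
  have hb : b = 1 := by
    have h1 : b ^ (3 - 4 * (e : ℤ)) = 1 := by
      rw [← hd', chi, chi, mul_mul_mul_comm, ← _root_.zpow_add, ← _root_.zpow_add,
        show eA e 1 + eA e 2 = 0 by simp [eA, cR, carR],
        show eB e 1 + eB e 2 = 3 - 4 * (e : ℤ) by simp [eB, cR, carR]; ring,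
        _root_.zpow_zero, one_mul]
    have h2 : b ^ (2 * (e : ℤ) ^ 2 - 1) = 1 := by
      rw [← card_units_F4 hK, _root_.zpow_natCast, pow_card_eq_one']
    calc b = b ^ ((3 - 4 * (e : ℤ)) * (3 + 4 * e) + (2 * (e : ℤ) ^ 2 - 1) * 8) := by
          rw [show (3 - 4 * (e : ℤ)) * (3 + 4 * e) + (2 * (e : ℤ) ^ 2 - 1) * 8 = 1 by ring,
            _root_.zpow_one]
      _ = 1 := by rw [_root_.zpow_add, _root_.zpow_mul, _root_.zpow_mul, h1, h2, _root_.one_zpow,
        _root_.one_zpow, one_mul]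
  subst hb
  refine ⟨a, rfl, ?_⟩
  ext i j
  rw [coe_psiA, sub_telA f hf hK]
  have hc : chi e 1 a 1 = a⁻¹ ∧ chi e 2 a 1 = a := by
    simp [chi, eA, cR, carR]
  fin_cases i <;> fin_cases j <;> simp [hc.1, hc.2]

theorem psiA_injective : Function.Injective (psiA f) := by
  have hok := (dataOK_F4 f).cls
  refine (endoF4 f).class_injective hok (std_fixF4 f hf hK).reps clA_mem (psiA f)
    (repA_isRep f hf hK) (repA_mem f hf hK) ⟨_, elA_mem f hf hK 1, fun h => ?_⟩
    (fun t ht h1 => ?_) (fun a t ha ht h1 => ?_) (fun a b ha hb h1 => ?_)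
  · have h1 := psiA_el f hf hK (g := ⟨_, Subgroup.mem_sup_left (elA_mem f hf hK 1)⟩) rfl
    rw [show (⟨_, Subgroup.mem_sup_left (elA_mem f hf hK 1)⟩ : ↥((endoF4 f).clsL clA)) = 1 from
      Subtype.ext h, map_one] at h1
    exact zero_ne_one (α := K) (by simpa using congrFun (congrFun h1 1) 0)
  · obtain ⟨a, ea, hm⟩ := torA f hf hK ht t.2
    rw [Subtype.coe_eta, h1] at hm
    have ha : a = 1 := Units.ext (by simpa using (congrFun (congrFun hm 1) 1).symm)
    refine Subtype.ext (ea.trans ?_)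
    subst ha
    refine Subtype.ext ?_
    show torusHom (D := chevF4) (T := tabF4) (par e 1 1) = _
    rw [show par e (1 : Kˣ) 1 = 1 by
      funext i; obtain ⟨i, hi⟩ := i; have hi' : i < 4 := hi; interval_cases i <;> simp [par],
      map_one]
    rfl
  · obtain ⟨s, es⟩ := exists_elA f hf hK ha
    obtain ⟨c, -, hm⟩ := torA f hf hK ht t.2
    have h2 := congrArg (fun g : GL (Fin 2) K => (g : Matrix (Fin 2) (Fin 2) K) 1 0) h1
    simp only [psiA_el f hf hK es] at h2
    rw [Subtype.coe_eta] at hm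
    rw [hm] at h2
    simp at h2
    subst h2
    refine Subtype.ext (es.trans (Subtype.ext ?_))
    show X chevF4 33 ((0 : K) ^ e) * X chevF4 24 (0 : K) = _
    rw [← hf, map_zero, certF4.X_zero (by decide +kernel), certF4.X_zero (by decide +kernel),
      mul_one]
    rfl
  · obtain ⟨s, es⟩ := exists_elA f hf hK ha
    obtain ⟨u, eu⟩ := exists_elA f hf hK hb
    rw [map_mul, map_mul, map_inv, eq_mul_inv_iff_mul_eq] at h1
    have h2 := congrArg (fun g : GL (Fin 2) K => (g : Matrix (Fin 2) (Fin 2) K) 1 1) h1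
    simp only [Units.val_mul, psiA_el f hf hK es, psiA_el f hf hK eu, psiA_rep f hf hK] at h2
    simp [Matrix.mul_apply, Fin.sum_univ_two] at h2
    subst h2
    refine Subtype.ext (es.trans (Subtype.ext ?_))
    show X chevF4 33 ((0 : K) ^ e) * X chevF4 24 (0 : K) = _
    rw [← hf, map_zero, certF4.X_zero (by decide +kernel), certF4.X_zero (by decide +kernel),
      mul_one]
    rfl

/-- The torus of the rank one subgroup. -/
theorem card_torA :
    Nat.card ↥((endoF4 f).clsL clA ⊓ (endoF4 f).diaG) ≤ Nat.card Kˣ := by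
  classical
  refine Nat.card_le_card_of_surjective (fun a : Kˣ =>
    if h : tel f hf hK a 1 ∈ (endoF4 f).clsL clA ⊓ (endoF4 f).diaG then
      (⟨_, h⟩ : ↥((endoF4 f).clsL clA ⊓ (endoF4 f).diaG)) else 1) ?_
  rintro ⟨t, hL, ht⟩
  obtain ⟨a, rfl, -⟩ := torA f hf hK ht hL
  exact ⟨a, dif_pos _⟩

/-- The Sylow subgroups in odd characteristic different from two are cyclic. -/
theorem sylowA (ℓ : ℕ) (hℓ : ℓ.Prime) (hℓ2 : ℓ ≠ 2) :
    ∃ U : Subgroup ↥((endoF4 f).clsL clA), ¬ ℓ ∣ U.index ∧ IsCyclic U := by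
  haveI := Fact.mk hℓ
  haveI : Fact (Nat.Prime 2) := ⟨Nat.prime_two⟩
  let φ : ↥((endoF4 f).clsL clA) →* SL(2, K) :=
    { toFun := fun g => ⟨(psiA f g : Matrix (Fin 2) (Fin 2) K), det_psiA f hf hK g⟩
      map_one' := Subtype.ext (by simp)
      map_mul' := fun a b => Subtype.ext ((congrArg Units.val (map_mul _ a b)).trans (Units.val_mul _ _)) }
  have hφ : Function.Injective φ := fun a b hab =>
    psiA_injective f hf hK (Units.ext (congrArg Subtype.val hab))
  obtain ⟨P⟩ : Nonempty (Sylow ℓ ↥((endoF4 f).clsL clA)) := inferInstance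
  refine ⟨P, P.not_dvd_index, ?_⟩
  obtain ⟨Q, hQ⟩ := (P.isPGroup'.map φ).exists_le_sylow
  haveI := CfsgLib.Schur.isCyclic_sylow_odd 2 ℓ hℓ2 hℓ2 Q
  haveI : IsCyclic ↥((P : Subgroup ↥((endoF4 f).clsL clA)).map φ) :=
    isCyclic_of_injective (Subgroup.inclusion hQ) (Subgroup.inclusion_injective hQ)
  exact isCyclic_of_injective ((P : Subgroup ↥((endoF4 f).clsL clA)).equivMapOfInjective φ hφ).toMonoidHom
    (MulEquiv.injective _)

end CfsgLib.Chev.F4Root
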