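import Cfsg.Agent.Lib.Chev.TwistF4RankOneA
import Cfsg.Agent.Lib.Suzuki.Tori
import Cfsg.Agent.Lib.Suzuki.LieEquiv

/-!
The rank one subgroup of `²F₄(q)` isomorphic to a subgroup of `Sz(q)`.
-/

set_option autoImplicit false
set_option maxRecDepth 100000
set_option linter.unusedSectionVars false
set_option linter.style.haveILetI false

namespace CfsgLib.Chev.F4Root

open Cfsg.Lie Matrix
open Cert (torusHom extC extC_ne_zero blockGroup blockGL coe_blockGL mem_cellList)

/-- The class with four roots. -/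
def clB : Cls := ⟨[1, 2], [1, 2, 1, 2]⟩

/-- The roots moved by the block of `clB`. -/
def rootsB : List ℕ := [25, 27, 28, 30, 22, 20, 19, 17]

theorem chkB : chkBlock tabF4 rootsB [33, 34, 35, 37] = true := by decide +kernel

theorem colsB25 : [33, 34, 35, 37].map (tabF4.col 25) =
    [[(33, 0, 1)], [(34, 0, 1), (35, 1, 1)], [(35, 0, 1)], [(37, 0, 1)]] := by
  decide +kernel

theorem colsB27 : [33, 34, 35, 37].map (tabF4.col 27) =
    [[(33, 0, 1), (34, 1, 1)], [(34, 0, 1)], [(35, 0, 1), (37, 1, 1)], [(37, 0, 1)]] := by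
  decide +kernel

theorem colsB28 : [33, 34, 35, 37].map (tabF4.col 28) =
    [[(33, 0, 1), (35, 1, 1)], [(34, 0, 1), (37, 1, -1)], [(35, 0, 1)], [(37, 0, 1)]] := by
  decide +kernel

theorem colsB30 : [33, 34, 35, 37].map (tabF4.col 30) =
    [[(33, 0, 1), (37, 1, 1)], [(34, 0, 1)], [(35, 0, 1)], [(37, 0, 1)]] := by
  decide +kernel

theorem colsB22 : [33, 34, 35, 37].map (tabF4.col 22) =
    [[(33, 0, 1)], [(34, 0, 1)], [(35, 0, 1), (34, 1, 1)], [(37, 0, 1)]] := by
  decide +kernel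

theorem colsB20 : [33, 34, 35, 37].map (tabF4.col 20) =
    [[(33, 0, 1)], [(34, 0, 1), (33, 1, 1)], [(35, 0, 1)], [(37, 0, 1), (35, 1, 1)]] := by
  decide +kernel

theorem colsB19 : [33, 34, 35, 37].map (tabF4.col 19) =
    [[(33, 0, 1)], [(34, 0, 1)], [(35, 0, 1), (33, 1, 1)], [(37, 0, 1), (34, 1, -1)]] := by
  decide +kernel

theorem colsB17 : [33, 34, 35, 37].map (tabF4.col 17) =
    [[(33, 0, 1)], [(34, 0, 1)], [(35, 0, 1)], [(37, 0, 1), (33, 1, 1)]] := by
  decide +kernel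

theorem cellB : cellList tabF4 clB.word = [25, 27, 28, 30] ∧
    ([(25, 22), (27, 20), (28, 19), (30, 17)] : List (ℕ × ℕ)).all (fun p =>
      decide (tabF4.neg p.1 = p.2 ∧ tabF4.neg p.2 = p.1 ∧ p.1 < tabF4.n ∧ p.2 < tabF4.n)) = true := by
  decide +kernel

theorem sfxB :
    ([25, 27, 28, 30] : List ℕ).all (fun r =>
      (Endo.sfxL twistF4.rt dataTwF4.L 1).contains r &&
      (([28, 30] : List ℕ).contains r || !(Endo.sfxL twistF4.rt dataTwF4.L 2).contains r)) = true ∧
    ([28, 30] : List ℕ).all (fun r =>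
      (Endo.sfxL twistF4.rt dataTwF4.L 3).contains r &&
        !(Endo.sfxL twistF4.rt dataTwF4.L 4).contains r) = true ∧
    (Endo.orbL dataTwF4.L 1).root = 25 ∧ (Endo.orbL dataTwF4.L 3).root = 28 ∧
    ([25, 27, 28, 30] : List ℕ).all (fun a => ([25, 27, 28, 30] : List ℕ).all fun b =>
      decide (a = b) || (tabF4.commTerms a b).all fun q =>
        ([25, 27, 28, 30] : List ℕ).contains q.1) = true ∧
    ([28, 30] : List ℕ).all (fun a => ([28, 30] : List ℕ).all fun b =>
      decide (a = b) || decide (tabF4.commTerms a b = [])) = true := by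
  decide +kernel

theorem carB :
    ((List.range 4).map fun i => tabF4.car i 33) = [2, -1, 0, 0] ∧
    ((List.range 4).map fun i => tabF4.car i 34) = [1, 1, -1, 0] ∧
    ((List.range 4).map fun i => tabF4.car i 35) = [1, -1, 1, -1] ∧
    ((List.range 4).map fun i => tabF4.car i 37) = [0, 1, 0, -1] := by
  decide +kernel

lemma clB_mem : clB ∈ dataTwF4.CL := by simp [clB, dataTwF4]

variable {K : Type*} [Field K]

/-- The coordinates of the block. -/
def iotaB (i : Fin 4) : chevF4.Idx :=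
  Sum.inr ⟨([33, 34, 35, 37] : List ℕ).getD i 0, by
    rw [nroots_F4]; fin_cases i <;> decide⟩

lemma iotaB_inj : Function.Injective iotaB := fun i j h => by
  have h' := congrArg Fin.val (Sum.inr.inj h)
  fin_cases i <;> fin_cases j <;> first | rfl | simp at h'

lemma enc_iotaB (i : Fin 4) : enc (iotaB i) ∈ ([33, 34, 35, 37] : List ℕ) := by
  fin_cases i <;> simp [iotaB, enc]

lemma iotaB_onto (a : chevF4.Idx) (ha : enc a ∈ ([33, 34, 35, 37] : List ℕ)) :
    ∃ i, iotaB i = a := by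
  have h0 : enc (iotaB 0) = 33 := rfl
  have h1 : enc (iotaB 1) = 34 := rfl
  have h2 : enc (iotaB 2) = 35 := rfl
  have h3 : enc (iotaB 3) = 37 := rfl
  simp only [List.mem_cons, List.not_mem_nil, or_false] at ha
  rcases ha with e | e | e | e
  · exact ⟨0, enc_injective (h0.trans e.symm)⟩
  · exact ⟨1, enc_injective (h1.trans e.symm)⟩
  · exact ⟨2, enc_injective (h2.trans e.symm)⟩
  · exact ⟨3, enc_injective (h3.trans e.symm)⟩

variable [Fintype K] [CharP K 2]

lemma colB {r : ℕ} {L : List (List (ℕ × ℕ × ℤ))}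
    (h : [33, 34, 35, 37].map (tabF4.col r) = L) :
    tabF4.col r 33 = L.getD 0 [] ∧ tabF4.col r 34 = L.getD 1 [] ∧
      tabF4.col r 35 = L.getD 2 [] ∧ tabF4.col r 37 = L.getD 3 [] := by
  subst h; exact ⟨rfl, rfl, rfl, rfl⟩

lemma sub_X25 (t : K) :
    ((X chevF4 25 t : GL chevF4.Idx K) : Matrix chevF4.Idx chevF4.Idx K).submatrix iotaB iotaB =
      !![1, 0, 0, 0; 0, 1, 0, 0; 0, t, 1, 0; 0, 0, 0, 1] := by
  ext i j
  rw [Matrix.submatrix_apply, certF4.coe_X,
    x_apply certF4.agrees (show 25 < tabF4.n by decide +kernel)]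
  fin_cases i <;> fin_cases j <;>
    simp [iotaB, enc, colB colsB25]

lemma sub_X27 (t : K) :
    ((X chevF4 27 t : GL chevF4.Idx K) : Matrix chevF4.Idx chevF4.Idx K).submatrix iotaB iotaB =
      !![1, 0, 0, 0; t, 1, 0, 0; 0, 0, 1, 0; 0, 0, t, 1] := by
  ext i j
  rw [Matrix.submatrix_apply, certF4.coe_X,
    x_apply certF4.agrees (show 27 < tabF4.n by decide +kernel)]
  fin_cases i <;> fin_cases j <;>
    simp [iotaB, enc, colB colsB27]

lemma sub_X28 (t : K) :
    ((X chevF4 28 t : GL chevF4.Idx K) : Matrix chevF4.Idx chevF4.Idx K).submatrix iotaB iotaB =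
      !![1, 0, 0, 0; 0, 1, 0, 0; t, 0, 1, 0; 0, t, 0, 1] := by
  ext i j
  rw [Matrix.submatrix_apply, certF4.coe_X,
    x_apply certF4.agrees (show 28 < tabF4.n by decide +kernel)]
  fin_cases i <;> fin_cases j <;>
    simp [iotaB, enc, colB colsB28, CharTwo.neg_eq]

lemma sub_X30 (t : K) :
    ((X chevF4 30 t : GL chevF4.Idx K) : Matrix chevF4.Idx chevF4.Idx K).submatrix iotaB iotaB =
      !![1, 0, 0, 0; 0, 1, 0, 0; 0, 0, 1, 0; t, 0, 0, 1] := by
  ext i j
  rw [Matrix.submatrix_apply, certF4.coe_X,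
    x_apply certF4.agrees (show 30 < tabF4.n by decide +kernel)]
  fin_cases i <;> fin_cases j <;>
    simp [iotaB, enc, colB colsB30]

lemma sub_X22 (t : K) :
    ((X chevF4 22 t : GL chevF4.Idx K) : Matrix chevF4.Idx chevF4.Idx K).submatrix iotaB iotaB =
      !![1, 0, 0, 0; 0, 1, t, 0; 0, 0, 1, 0; 0, 0, 0, 1] := by
  ext i j
  rw [Matrix.submatrix_apply, certF4.coe_X,
    x_apply certF4.agrees (show 22 < tabF4.n by decide +kernel)]
  fin_cases i <;> fin_cases j <;>
    simp [iotaB, enc, colB colsB22]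

lemma sub_X20 (t : K) :
    ((X chevF4 20 t : GL chevF4.Idx K) : Matrix chevF4.Idx chevF4.Idx K).submatrix iotaB iotaB =
      !![1, t, 0, 0; 0, 1, 0, 0; 0, 0, 1, t; 0, 0, 0, 1] := by
  ext i j
  rw [Matrix.submatrix_apply, certF4.coe_X,
    x_apply certF4.agrees (show 20 < tabF4.n by decide +kernel)]
  fin_cases i <;> fin_cases j <;>
    simp [iotaB, enc, colB colsB20]

lemma sub_X19 (t : K) :
    ((X chevF4 19 t : GL chevF4.Idx K) : Matrix chevF4.Idx chevF4.Idx K).submatrix iotaB iotaB =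
      !![1, 0, t, 0; 0, 1, 0, t; 0, 0, 1, 0; 0, 0, 0, 1] := by
  ext i j
  rw [Matrix.submatrix_apply, certF4.coe_X,
    x_apply certF4.agrees (show 19 < tabF4.n by decide +kernel)]
  fin_cases i <;> fin_cases j <;>
    simp [iotaB, enc, colB colsB19, CharTwo.neg_eq]

lemma sub_X17 (t : K) :
    ((X chevF4 17 t : GL chevF4.Idx K) : Matrix chevF4.Idx chevF4.Idx K).submatrix iotaB iotaB =
      !![1, 0, 0, t; 0, 1, 0, 0; 0, 0, 1, 0; 0, 0, 0, 1] := by
  ext i j
  rw [Matrix.submatrix_apply, certF4.coe_X,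
    x_apply certF4.agrees (show 17 < tabF4.n by decide +kernel)]
  fin_cases i <;> fin_cases j <;>
    simp [iotaB, enc, colB colsB17]

/-- The block of a product. -/
lemma subB_mul {g g' : GL chevF4.Idx K} (hg : g ∈ blockGroup chevF4 K [33, 34, 35, 37]) :
    ((g * g' : GL chevF4.Idx K) : Matrix chevF4.Idx chevF4.Idx K).submatrix iotaB iotaB =
      (g : Matrix chevF4.Idx chevF4.Idx K).submatrix iotaB iotaB *
        (g' : Matrix chevF4.Idx chevF4.Idx K).submatrix iotaB iotaB := by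
  rw [Units.val_mul]
  exact Cert.submatrix_mul iotaB hg.1 iotaB_inj enc_iotaB iotaB_onto

/-- The block of a positive class word. -/
def matB (T t u w : K) : Matrix (Fin 4) (Fin 4) K :=
  !![1, 0, 0, 0; T, 1, 0, 0; T * t + u, t, 1, 0; T * (T * t + u) + w, u, T, 1]

/-- The block of a negative class word. -/
def matB' (T t u w : K) : Matrix (Fin 4) (Fin 4) K :=
  !![1, T, u, T * (T * t + u) + w; 0, 1, t, T * t + u; 0, 0, 1, T; 0, 0, 0, 1]

lemma sub_wordB (T t u w : K) :
    ((X chevF4 27 T * X chevF4 25 t * X chevF4 28 (T * t + u) * X chevF4 30 w : GL chevF4.Idx K) :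
      Matrix chevF4.Idx chevF4.Idx K).submatrix iotaB iotaB = matB T t u w := by
  have hb : ∀ r ∈ rootsB, ∀ x : K, X chevF4 r x ∈ blockGroup chevF4 K [33, 34, 35, 37] :=
    fun r hr x => certF4.X_mem_blockGroup chkB hr x
  have h27 := hb 27 (by simp [rootsB]) T
  have h25 := hb 25 (by simp [rootsB]) t
  have h28 := hb 28 (by simp [rootsB]) (T * t + u)
  rw [subB_mul (mul_mem (mul_mem h27 h25) h28), subB_mul (mul_mem h27 h25), subB_mul h27, sub_X27,
    sub_X25, sub_X28, sub_X30, matB]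
  have h2 : (2 : K) = 0 := CharTwo.two_eq_zero
  ext i j
  fin_cases i <;> fin_cases j <;>
    simp [Matrix.mul_apply, Fin.sum_univ_four] <;> grobner

lemma sub_wordB' (T t u w : K) :
    ((X chevF4 20 T * X chevF4 22 t * X chevF4 19 (T * t + u) * X chevF4 17 w : GL chevF4.Idx K) :
      Matrix chevF4.Idx chevF4.Idx K).submatrix iotaB iotaB = matB' T t u w := by
  have hb : ∀ r ∈ rootsB, ∀ x : K, X chevF4 r x ∈ blockGroup chevF4 K [33, 34, 35, 37] :=
    fun r hr x => certF4.X_mem_blockGroup chkB hr x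
  have h20 := hb 20 (by simp [rootsB]) T
  have h22 := hb 22 (by simp [rootsB]) t
  have h19 := hb 19 (by simp [rootsB]) (T * t + u)
  rw [subB_mul (mul_mem (mul_mem h20 h22) h19), subB_mul (mul_mem h20 h22), subB_mul h20, sub_X20,
    sub_X22, sub_X19, sub_X17, matB']
  have h2 : (2 : K) = 0 := CharTwo.two_eq_zero
  ext i j
  fin_cases i <;> fin_cases j <;>
    simp [Matrix.mul_apply, Fin.sum_univ_four] <;> grobner

/-- Positive class words lie in the Suzuki group. -/
lemma matB_mem_Sz (θ : K →+* K) {E : ℕ} (hθ : ∀ x, θ x = x ^ E) {T t u w : K} (h1 : θ T = t)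
    (h2 : θ t = T ^ 2) (h3 : θ u = w) (h4 : θ w = u ^ 2) {g : GL (Fin 4) K}
    (hg : (g : Matrix (Fin 4) (Fin 4) K) = matB T t u w) : g ∈ Cfsg.Lie.Sz K E := by
  refine Subgroup.subset_closure ⟨?_, ?_⟩
  · intro x y
    rw [Units.coeHom_apply, hg]
    have hc : (2 : K) = 0 := CharTwo.two_eq_zero
    simp [matB, Cfsg.Lie.altForm4, Matrix.mulVec, dotProduct, Fin.sum_univ_four]
    grobner
  · rw [hg, show (fun x : K => x ^ E) = θ from funext fun x => (hθ x).symm]
    have hc : (2 : K) = 0 := CharTwo.two_eq_zero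
    ext i j
    fin_cases i <;> fin_cases j <;>
      simp [matB, Cfsg.Lie.star4, Cfsg.Lie.pairOf, map_add, map_mul, h1, h2, h3, h4] <;> grobner

/-- Negative class words lie in the Suzuki group. -/
lemma matB'_mem_Sz (θ : K →+* K) {E : ℕ} (hθ : ∀ x, θ x = x ^ E) {T t u w : K} (h1 : θ T = t)
    (h2 : θ t = T ^ 2) (h3 : θ u = w) (h4 : θ w = u ^ 2) {g : GL (Fin 4) K}
    (hg : (g : Matrix (Fin 4) (Fin 4) K) = matB' T t u w) : g ∈ Cfsg.Lie.Sz K E := by
  refine Subgroup.subset_closure ⟨?_, ?_⟩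
  · intro x y
    rw [Units.coeHom_apply, hg]
    have hc : (2 : K) = 0 := CharTwo.two_eq_zero
    simp [matB', Cfsg.Lie.altForm4, Matrix.mulVec, dotProduct, Fin.sum_univ_four]
    grobner
  · rw [hg, show (fun x : K => x ^ E) = θ from funext fun x => (hθ x).symm]
    have hc : (2 : K) = 0 := CharTwo.two_eq_zero
    ext i j
    fin_cases i <;> fin_cases j <;>
      simp [matB', Cfsg.Lie.star4, Cfsg.Lie.pairOf, map_add, map_mul, h1, h2, h3, h4] <;> grobner

variable {e : ℕ} (f : K →+* K) (hf : ∀ t, f t = t ^ e) (hK : Fintype.card K = 2 * e ^ 2)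

lemma clsPosB {r : ℕ} : r ∈ Endo.clsPos tabF4 clB ↔ r ∈ ([25, 27, 28, 30] : List ℕ) := by
  rw [Endo.clsPos, Set.mem_ofPred_eq, cellB.1]

lemma negB {p : ℕ × ℕ} (hp : p ∈ ([(25, 22), (27, 20), (28, 19), (30, 17)] : List (ℕ × ℕ))) :
    tabF4.neg p.1 = p.2 ∧ tabF4.neg p.2 = p.1 ∧ p.1 < tabF4.n ∧ p.2 < tabF4.n := by
  have h := cellB.2
  simp only [List.all_eq_true, decide_eq_true_eq] at h
  exact h p hp

lemma clsNegB {r : ℕ} (hr : r ∈ Endo.clsNeg tabF4 clB) : r ∈ ([22, 20, 19, 17] : List ℕ) := by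
  obtain ⟨hlt, hn⟩ := hr
  rw [cellB.1] at hn
  simp only [List.mem_cons, List.not_mem_nil, or_false] at hn
  rw [← Cert.neg_neg (T := tabF4) hlt]
  rcases hn with e | e | e | e <;> rw [e]
  · rw [(negB (p := (25, 22)) (by simp)).1]; simp
  · rw [(negB (p := (27, 20)) (by simp)).1]; simp
  · rw [(negB (p := (28, 19)) (by simp)).1]; simp
  · rw [(negB (p := (30, 17)) (by simp)).1]; simp

lemma blockB_of_L {g : ↥(endoF4 f).fix} (hg : g ∈ (endoF4 f).clsL clB) :
    (g : GL chevF4.Idx K) ∈ blockGroup chevF4 K [33, 34, 35, 37] := by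
  have hle : (endoF4 f).clsL clB ≤
      (blockGroup chevF4 K [33, 34, 35, 37]).comap (endoF4 f).fix.subtype :=
    sup_le
      (fun x hx => certF4.gen_le_blockGroup chkB (fun r hr => List.mem_append_left _ (clsPosB.1 hr)
          : ∀ r ∈ Endo.clsPos tabF4 clB, r ∈ ([25, 27, 28, 30] ++ [22, 20, 19, 17] : List ℕ))
        (Subgroup.mem_subgroupOf.1 hx))
      (fun x hx => certF4.gen_le_blockGroup chkB (fun r hr => List.mem_append_right _ (clsNegB hr)
          : ∀ r ∈ Endo.clsNeg tabF4 clB, r ∈ ([25, 27, 28, 30] ++ [22, 20, 19, 17] : List ℕ))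
        (Subgroup.mem_subgroupOf.1 hx))
  exact hle hg

/-- The representation on the block. -/
noncomputable def psiB : ↥((endoF4 f).clsL clB) →* GL (Fin 4) K :=
  (blockGL (D := chevF4) iotaB iotaB_inj enc_iotaB iotaB_onto).comp
    (((endoF4 f).fix.subtype.comp ((endoF4 f).clsL clB).subtype).codRestrict
      (blockGroup chevF4 K [33, 34, 35, 37]) fun g => blockB_of_L f g.2)

lemma coe_psiB (g : ↥((endoF4 f).clsL clB)) :
    (psiB f g : Matrix (Fin 4) (Fin 4) K) =
      ((g.1 : GL chevF4.Idx K) : Matrix chevF4.Idx chevF4.Idx K).submatrix iotaB iotaB := rfl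

include hf hK

/-- The element of parameters `t` and `u`. -/
noncomputable def elB (t u : K) : ↥(endoF4 f).fix :=
  ⟨X chevF4 27 (t ^ e) * X chevF4 25 t * X chevF4 28 (t ^ (e + 1) + u) * X chevF4 30 (u ^ (2 * e)),
    class_mem_fixF4 f hf hK (k1 := -1) (k2 := -1) (by decide +kernel) (by decide +kernel)
      (by decide +kernel) (by decide +kernel) (by decide +kernel) t u⟩

/-- The opposite element of parameters `t` and `u`. -/
noncomputable def elB' (t u : K) : ↥(endoF4 f).fix :=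
  ⟨X chevF4 20 (t ^ e) * X chevF4 22 t * X chevF4 19 (t ^ (e + 1) + u) * X chevF4 17 (u ^ (2 * e)),
    class_mem_fixF4 f hf hK (k1 := 1) (k2 := -1) (by decide +kernel) (by decide +kernel)
      (by decide +kernel) (by decide +kernel) (by decide +kernel) t u⟩

lemma elB_mem (t u : K) : elB f hf hK t u ∈ (endoF4 f).clsX clB := by
  rw [Endo.clsX, Subgroup.mem_subgroupOf]
  refine mul_mem (mul_mem (mul_mem ?_ ?_) ?_) ?_ <;>
    exact X_mem_gen _ (clsPosB.2 (by simp)) _

lemma elB'_mem (t u : K) : elB' f hf hK t u ∈ (endoF4 f).clsY clB := by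
  rw [Endo.clsY, Subgroup.mem_subgroupOf]
  have hm : ∀ p ∈ ([(25, 22), (27, 20), (28, 19), (30, 17)] : List (ℕ × ℕ)),
      p.2 ∈ Endo.clsNeg tabF4 clB := fun p hp => by
    refine ⟨(negB hp).2.2.2, ?_⟩
    rw [cellB.1, (negB hp).2.1]
    exact List.mem_map_of_mem (f := Prod.fst) hp
  exact mul_mem (mul_mem (mul_mem (X_mem_gen _ (hm (27, 20) (by simp)) _)
    (X_mem_gen _ (hm (25, 22) (by simp)) _)) (X_mem_gen _ (hm (28, 19) (by simp)) _))
    (X_mem_gen _ (hm (30, 17) (by simp)) _)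

lemma pos_e : 0 < e := by
  rcases Nat.eq_zero_or_pos e with rfl | he
  · have h := Fintype.card_pos (α := K)
    simp [hK] at h
  · exact he

lemma elB_mul_zero (t u : K) : elB f hf hK t 0 * elB f hf hK 0 u = elB f hf hK t u := by
  have he := pos_e f hf hK
  refine Subtype.ext ?_
  show X chevF4 27 (t ^ e) * X chevF4 25 t * X chevF4 28 (t ^ (e + 1) + 0) *
      X chevF4 30 ((0 : K) ^ (2 * e)) *
    (X chevF4 27 ((0 : K) ^ e) * X chevF4 25 (0 : K) * X chevF4 28 ((0 : K) ^ (e + 1) + u) *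
      X chevF4 30 (u ^ (2 * e))) = X chevF4 27 (t ^ e) * X chevF4 25 t *
        X chevF4 28 (t ^ (e + 1) + u) * X chevF4 30 (u ^ (2 * e))
  rw [zero_pow he.ne', zero_pow (show 2 * e ≠ 0 by omega), zero_pow (show e + 1 ≠ 0 by omega),
    certF4.X_zero (show 27 < tabF4.n by decide +kernel),
    certF4.X_zero (show 25 < tabF4.n by decide +kernel),
    certF4.X_zero (show 30 < tabF4.n by decide +kernel), add_zero, zero_add, one_mul, one_mul,
    mul_one, ← certF4.X_add (show 28 < tabF4.n by decide +kernel)]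
  simp only [mul_assoc]

lemma elB_zero : elB f hf hK 0 0 = 1 := by
  have h := elB_mul_zero f hf hK 0 0
  rwa [mul_eq_left] at h

/-- The positive root subgroup consists of these elements. -/
lemma exists_elB {a : ↥(endoF4 f).fix} (ha : a ∈ (endoF4 f).clsX clB) :
    ∃ t u, a = elB f hf hK t u := by
  obtain ⟨h1, h3, hr1, hr3, hcomm, hcomm'⟩ := sfxB
  simp only [List.all_eq_true, Bool.and_eq_true, Bool.not_eq_true', List.contains_eq_mem,
    decide_eq_true_eq, decide_eq_false_iff_not, Bool.or_eq_true] at h1 h3 hcomm hcomm'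
  have he := pos_e f hf hK
  set S : Set ℕ := {r | r ∈ ([25, 27, 28, 30] : List ℕ)}
  set S' : Set ℕ := {r | r ∈ ([28, 30] : List ℕ)}
  have hSB : Endo.clsPos tabF4 clB = S := Set.ext fun r => clsPosB
  have ha' : (a : GL chevF4.Idx K) ∈ gen chevF4 K S := hSB ▸ Subgroup.mem_subgroupOf.1 ha
  have hel : ∀ t u, (elB f hf hK t u : GL chevF4.Idx K) ∈ gen chevF4 K S := fun t u =>
    hSB ▸ Subgroup.mem_subgroupOf.1 (elB_mem f hf hK t u)
  have hlay : ∀ {g : ↥(endoF4 f).fix}, (g : GL chevF4.Idx K) ∈ gen chevF4 K S →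
      g ∈ (endoF4 f).lay dataTwF4.L 1 := fun hg =>
    ((endoF4 f).mem_lay _).2 (gen_mono _ (fun r hr => (h1 r hr).1) hg)
  set t := (endoF4 f).crd dataTwF4.L 1 a
  have hcd : (endoF4 f).crd dataTwF4.L 1 (elB f hf hK t 0) = t := by
    refine (endoF4 f).crd_eq (layersF4 f) (by decide) ?_
    have h := Endo.inC_word (h := certF4)
      ((endoF4 f).free_root (layersF4 f) (k := 1) (by decide))
      [(27, t ^ e), (25, t), (28, t ^ (e + 1) + 0), (30, (0 : K) ^ (2 * e))] (fun p hp => by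
        simp only [List.mem_cons, List.not_mem_nil, or_false] at hp
        rcases hp with rfl | rfl | rfl | rfl <;> exact (h1 _ (by simp)).1)
    simpa [hr1, elB, mul_assoc] using h
  have hd := (endoF4 f).crd_congr (layersF4 f) (k := 1) (by decide) (hlay (hel t 0)) (hlay ha') hcd
  set b : ↥(endoF4 f).fix := (elB f hf hK t 0)⁻¹ * a
  have hb : (b : GL chevF4.Idx K) ∈ gen chevF4 K S' := by
    have hc : CommClosed tabF4 S := fun x hx y hy hne q hq => by
      rcases hcomm x hx y hy with e' | e'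
      · exact absurd e'.symm hne
      · exact e' q hq
    refine gen_mono _ (fun r hr => (h1 r hr.1).2.resolve_right fun hn => hn hr.2) (certF4.gen_inter
      (fun r hr => (endoF4 f).sfxL_pos (layersF4 f) (h1 r hr).1) hc
      (fun r hr => (endoF4 f).sfxL_pos (layersF4 f) hr)
      (Endo.flatOrbs_spec (chkLayers_drop 2 (layersF4 f))).2.2
      (show (b : GL chevF4.Idx K) ∈ gen chevF4 K S by
        simp only [b, Subgroup.coe_mul, Subgroup.coe_inv]
        exact mul_mem (inv_mem (hel t 0)) ha')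
      (((endoF4 f).mem_lay _).1 hd))
  have hlay' : ∀ {g : ↥(endoF4 f).fix}, (g : GL chevF4.Idx K) ∈ gen chevF4 K S' →
      g ∈ (endoF4 f).lay dataTwF4.L 3 := fun hg =>
    ((endoF4 f).mem_lay _).2 (gen_mono _ (fun r hr => (h3 r hr).1) hg)
  set u := (endoF4 f).crd dataTwF4.L 3 b
  have heq : (elB f hf hK 0 u : GL chevF4.Idx K) =
      X chevF4 28 u * X chevF4 30 (u ^ (2 * e)) := by
    simp [elB, zero_pow he.ne', certF4.X_zero (show 27 < tabF4.n by decide +kernel),
      certF4.X_zero (show 25 < tabF4.n by decide +kernel)]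
  have he2 : (elB f hf hK 0 u : GL chevF4.Idx K) ∈ gen chevF4 K S' := by
    rw [heq]
    exact mul_mem (X_mem_gen _ (show 28 ∈ S' by simp [S']) _)
      (X_mem_gen _ (show 30 ∈ S' by simp [S']) _)
  have hcd' : (endoF4 f).crd dataTwF4.L 3 (elB f hf hK 0 u) = u := by
    refine (endoF4 f).crd_eq (layersF4 f) (by decide) ?_
    have h := Endo.inC_word (h := certF4)
      ((endoF4 f).free_root (layersF4 f) (k := 3) (by decide))
      [(28, u), (30, u ^ (2 * e))] (fun p hp => by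
        simp only [List.mem_cons, List.not_mem_nil, or_false] at hp
        rcases hp with rfl | rfl <;> exact (h3 _ (by simp)).1)
    rw [heq]
    simpa [hr3] using h
  have hd' := (endoF4 f).crd_congr (layersF4 f) (k := 3) (by decide) (hlay' he2) (hlay' hb) hcd'
  have hc' : CommClosed tabF4 S' := fun x hx y hy hne q hq => by
    rcases hcomm' x hx y hy with e' | e'
    · exact absurd e'.symm hne
    · rw [e'] at hq; exact absurd hq List.not_mem_nil
  have h2 := certF4.gen_inter (g := (((elB f hf hK 0 u)⁻¹ * b : ↥(endoF4 f).fix) :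
      GL chevF4.Idx K))
    (fun r hr => (endoF4 f).sfxL_pos (layersF4 f) (h3 r hr).1) hc'
    (fun r hr => (endoF4 f).sfxL_pos (layersF4 f) hr)
    (Endo.flatOrbs_spec (chkLayers_drop 4 (layersF4 f))).2.2
    (by rw [Subgroup.coe_mul, Subgroup.coe_inv]; exact mul_mem (inv_mem he2) hb)
    (((endoF4 f).mem_lay _).1 hd')
  replace h2 := gen_mono _ (S' := (∅ : Set ℕ)) (fun r hr => ((h3 r hr.1).2 hr.2).elim) h2
  rw [show gen chevF4 K (∅ : Set ℕ) = ⊥ by simp [gen], Subgroup.mem_bot] at h2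
  refine ⟨t, u, ?_⟩
  rw [← elB_mul_zero, inv_mul_eq_one.1 (Subtype.ext h2)]
  simp [b]

omit hK in
lemma sub_elB_aux (t u : K) : t ^ (e + 1) + u = t ^ e * t + u := by rw [pow_succ]

lemma psiB_el {g : ↥((endoF4 f).clsL clB)} {t u : K} (hg : g.1 = elB f hf hK t u) :
    (psiB f g : Matrix (Fin 4) (Fin 4) K) = matB (t ^ e) t u (u ^ (2 * e)) := by
  rw [coe_psiB, hg]
  show Matrix.submatrix (Units.val (X chevF4 27 (t ^ e) * X chevF4 25 t *
    X chevF4 28 (t ^ (e + 1) + u) * X chevF4 30 (u ^ (2 * e)))) iotaB iotaB = _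
  rw [sub_elB_aux f hf]
  exact sub_wordB _ _ _ _

lemma psiB_el' {g : ↥((endoF4 f).clsL clB)} {t u : K} (hg : g.1 = elB' f hf hK t u) :
    (psiB f g : Matrix (Fin 4) (Fin 4) K) = matB' (t ^ e) t u (u ^ (2 * e)) := by
  rw [coe_psiB, hg]
  show Matrix.submatrix (Units.val (X chevF4 20 (t ^ e) * X chevF4 22 t *
    X chevF4 19 (t ^ (e + 1) + u) * X chevF4 17 (u ^ (2 * e)))) iotaB iotaB = _
  rw [sub_elB_aux f hf]
  exact sub_wordB' _ _ _ _

/-- The representative. -/
noncomputable def repB : ↥(endoF4 f).fix :=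
  elB f hf hK 1 0 * elB' f hf hK 0 1 * elB f hf hK 1 1

lemma coe_repB : (repB f hf hK : GL chevF4.Idx K) = nW chevF4 K [1, 2, 1, 2] := by
  have he := pos_e f hf hK
  rw [certF4.nW_eq_intWord wordOK_F4, ← certF4.prod_eq_of_chk (p := 2) wordRepF4]
  simp [repB, elB, elB', mul_assoc, zero_pow he.ne', zero_pow (show 2 * e ≠ 0 by omega),
    zero_pow (show e + 1 ≠ 0 by omega), CharTwo.add_self_eq_zero]

lemma repB_isRep : (endoF4 f).IsRep clB (repB f hf hK) := by
  refine ⟨?_, fun r hr => ?_⟩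
  · rw [Endo.monG, Subgroup.mem_subgroupOf, coe_repB f hf hK]
    exact certF4.nW_mem_monomial wordOK_F4
  · rw [coe_repB f hf hK]; exact certF4.Maps_nW wordOK_F4 hr

lemma repB_mem : repB f hf hK ∈ (endoF4 f).clsL clB :=
  mul_mem (mul_mem (Subgroup.mem_sup_left (elB_mem f hf hK 1 0))
    (Subgroup.mem_sup_right (elB'_mem f hf hK 0 1))) (Subgroup.mem_sup_left (elB_mem f hf hK 1 1))

lemma repB_split : (⟨_, repB_mem f hf hK⟩ : ↥((endoF4 f).clsL clB)) =
    ⟨_, Subgroup.mem_sup_left (elB_mem f hf hK 1 0)⟩ *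
      ⟨_, Subgroup.mem_sup_right (elB'_mem f hf hK 0 1)⟩ *
        ⟨_, Subgroup.mem_sup_left (elB_mem f hf hK 1 1)⟩ := rfl

lemma psiB_rep : (psiB f ⟨_, repB_mem f hf hK⟩ : Matrix (Fin 4) (Fin 4) K) =
    !![0, 0, 0, 1; 0, 0, 1, 0; 0, 1, 0, 0; 1, 0, 0, 0] := by
  have he := pos_e f hf hK
  rw [repB_split, map_mul, map_mul, Units.val_mul, Units.val_mul, psiB_el f hf hK rfl,
    psiB_el' f hf hK rfl, psiB_el f hf hK rfl]
  have h2 : (2 : K) = 0 := CharTwo.two_eq_zero
  ext i j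
  fin_cases i <;> fin_cases j <;>
    simp [matB, matB', Matrix.mul_apply, Fin.sum_univ_four, zero_pow he.ne',
      zero_pow (show 2 * e ≠ 0 by omega), CharTwo.add_self_eq_zero]

/-- The block lies in the Suzuki group. -/
theorem psiB_mem (m : ℕ) (hem : e = 2 ^ m) (g : ↥((endoF4 f).clsL clB)) :
    psiB f g ∈ Cfsg.Lie.Sz K (2 ^ (m + 1)) := by
  let θ : K →+* K := iterateFrobenius K 2 (m + 1)
  have hθ : ∀ x, θ x = x ^ (2 ^ (m + 1)) := fun x => iterateFrobenius_def _ _ _
  have hθe : ∀ x : K, θ x = x ^ (2 * e) := fun x => by rw [hθ, hem, pow_succ']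
  have hT : ∀ t : K, θ (t ^ e) = t := fun t => by
    rw [hθe, ← pow_mul, show e * (2 * e) = 2 * e ^ 2 by ring, ← hK, FiniteField.pow_card]
  have ht : ∀ t : K, θ t = (t ^ e) ^ 2 := fun t => by rw [hθe, ← pow_mul, mul_comm e 2]
  have hw : ∀ u : K, θ (u ^ (2 * e)) = u ^ 2 := fun u => by
    rw [hθe, ← pow_mul, show 2 * e * (2 * e) = (2 * e ^ 2) * 2 by ring, pow_mul, ← hK,
      FiniteField.pow_card]
  refine (endoF4 f).class_hom_mem (dataOK_F4 f).cls clB_mem (repB_isRep f hf hK) (repB_mem f hf hK)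
    (psiB f) _ (fun x hx => ?_) ?_ g
  · obtain ⟨t, u, rfl⟩ := exists_elB f hf hK hx
    exact matB_mem_Sz θ hθ (hT t) (ht t) (hθe u) (hw u) (psiB_el f hf hK rfl)
  · rw [repB_split, map_mul, map_mul]
    exact mul_mem (mul_mem
      (matB_mem_Sz θ hθ (hT 1) (ht 1) (hθe 0) (hw 0) (psiB_el f hf hK rfl))
      (matB'_mem_Sz θ hθ (hT 0) (ht 0) (hθe 1) (hw 1) (psiB_el' f hf hK rfl)))
      (matB_mem_Sz θ hθ (hT 1) (ht 1) (hθe 1) (hw 1) (psiB_el f hf hK rfl))

/-- The characters of the block. -/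
def chiB (e : ℕ) (a b : Kˣ) : Fin 4 → Kˣ :=
  ![(a ^ e) ^ (2 : ℤ) * (b ^ e)⁻¹, a ^ e * b ^ e * b⁻¹, a ^ e * (b ^ e)⁻¹ * b * a⁻¹,
    b ^ e * a⁻¹]

lemma sub_telB (a b : Kˣ) (i j : Fin 4) :
    ((tel f hf hK a b : GL chevF4.Idx K) : Matrix chevF4.Idx chevF4.Idx K).submatrix iotaB iotaB
      i j = if i = j then (chiB e a b i : K) else 0 := by
  show torus chevF4 (charOf tabF4 (extC tabF4 (par e a b))) (iotaB i) (iotaB j) = _
  rw [torus, Matrix.diagonal_apply]
  by_cases hij : i = j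
  · subst hij
    rw [if_pos rfl, if_pos rfl]
    obtain ⟨c33, c34, c35, c37⟩ := carB
    simp only [List.range_succ_eq_map, List.range_zero, List.map_cons, List.map_nil,
      List.cons.injEq, and_true] at c33 c34 c35 c37
    fin_cases i
    · show charOf _ _ 33 = _
      simp [charOf, show tabF4.l = 4 from rfl, Finset.prod_range_succ, extC, par, chiB, c33]
    · show charOf _ _ 34 = _
      simp [charOf, show tabF4.l = 4 from rfl, Finset.prod_range_succ, extC, par, chiB, c34]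
    · show charOf _ _ 35 = _
      simp [charOf, show tabF4.l = 4 from rfl, Finset.prod_range_succ, extC, par, chiB, c35]
    · show charOf _ _ 37 = _
      simp [charOf, show tabF4.l = 4 from rfl, Finset.prod_range_succ, extC, par, chiB, c37]
  · rw [if_neg (fun h => hij (iotaB_inj h)), if_neg hij]

lemma torB (m : ℕ) (hem : e = 2 ^ m) {t : ↥(endoF4 f).fix} (ht : t ∈ (endoF4 f).diaG)
    (hL : t ∈ (endoF4 f).clsL clB) :
    ∃ b : Kˣ, t = tel f hf hK 1 b ∧ (psiB f ⟨t, hL⟩ : Matrix (Fin 4) (Fin 4) K) =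
      Matrix.diagonal fun i => (chiB e 1 b i : K) := by
  obtain ⟨a, b, rfl⟩ := exists_tel f hf hK ht
  have hM : (psiB f ⟨_, hL⟩ : Matrix (Fin 4) (Fin 4) K) =
      Matrix.diagonal fun i => (chiB e a b i : K) := by
    ext i j
    rw [coe_psiB, sub_telB f hf hK, Matrix.diagonal_apply]
  have hmem := psiB_mem f hf hK m hem ⟨_, hL⟩
  have hsp : psiB f ⟨_, hL⟩ ∈ Cfsg.Lie.Sp4 K :=
    ((Subgroup.closure_le _).2 fun g hg => hg.1) hmem
  have h03 := hsp (Pi.single 0 1) (Pi.single 3 1)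
  rw [Units.coeHom_apply, hM] at h03
  simp [Cfsg.Lie.altForm4, Matrix.mulVec_diagonal] at h03
  have he := pos_e f hf hK
  have ha : a = 1 := by
    have h1 : chiB e a b 0 * chiB e a b 3 = 1 := Units.ext (by simpa using h03)
    have h2 : a ^ (2 * (e : ℤ) - 1) = 1 := by
      rw [← h1]
      simp only [chiB, Matrix.cons_val_zero, Matrix.cons_val]
      rw [← _root_.zpow_natCast a e, ← _root_.zpow_mul, mul_assoc, inv_mul_cancel_left,
        ← _root_.zpow_neg_one, ← _root_.zpow_add]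
      congr 1
      ring
    have h3 : a ^ (2 * (e : ℤ) ^ 2 - 1) = 1 := by
      rw [← card_units_F4 hK, _root_.zpow_natCast, pow_card_eq_one']
    calc a = a ^ ((2 * (e : ℤ) - 1) * (2 * e + 1) - (2 * (e : ℤ) ^ 2 - 1) * 2) := by
          rw [show (2 * (e : ℤ) - 1) * (2 * e + 1) - (2 * (e : ℤ) ^ 2 - 1) * 2 = 1 by ring,
            _root_.zpow_one]
      _ = 1 := by rw [_root_.zpow_sub, _root_.zpow_mul, _root_.zpow_mul, h2, h3,
        _root_.one_zpow, _root_.one_zpow, mul_inv_cancel]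
  subst ha
  exact ⟨b, rfl, hM⟩

theorem psiB_injective (m : ℕ) (hem : e = 2 ^ m) : Function.Injective (psiB f) := by
  have hok := (dataOK_F4 f).cls
  have he := pos_e f hf hK
  have hzero : ∀ t : K, t ^ e = 0 → t = 0 := fun t h => eq_zero_of_pow_eq_zero h
  refine (endoF4 f).class_injective hok (std_fixF4 f hf hK).reps clB_mem (psiB f)
    (repB_isRep f hf hK) (repB_mem f hf hK) ⟨_, elB_mem f hf hK 1 0, fun h => ?_⟩
    (fun t ht h1 => ?_) (fun a t ha ht h1 => ?_) (fun a b ha hb h1 => ?_)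
  · have h1 := psiB_el f hf hK (g := ⟨_, Subgroup.mem_sup_left (elB_mem f hf hK 1 0)⟩) rfl
    rw [show (⟨_, Subgroup.mem_sup_left (elB_mem f hf hK 1 0)⟩ : ↥((endoF4 f).clsL clB)) = 1 from
      Subtype.ext h, map_one] at h1
    exact zero_ne_one (α := K) (by simpa [matB] using congrFun (congrFun h1 1) 0)
  · obtain ⟨b, eb, hm⟩ := torB f hf hK m hem ht t.2
    rw [Subtype.coe_eta, h1] at hm
    have h0 := congrFun (congrFun hm 0) 0
    simp [chiB] at h0
    have hb : b = 1 := by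
      have h2 : (b : K) ^ e = 1 := h0
      refine Units.ext ?_
      rw [Units.val_one, ← FiniteField.pow_card (b : K), hK,
        show 2 * e ^ 2 = e * (2 * e) by ring, pow_mul, h2, one_pow]
    refine Subtype.ext (eb.trans ?_)
    subst hb
    refine Subtype.ext ?_
    show torusHom (D := chevF4) (T := tabF4) (par e 1 1) = _
    rw [show par e (1 : Kˣ) 1 = 1 by
      funext i; obtain ⟨i, hi⟩ := i; have hi' : i < 4 := hi; interval_cases i <;> simp [par],
      map_one]
    rfl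
  · obtain ⟨s, u, es⟩ := exists_elB f hf hK ha
    obtain ⟨c, -, hm⟩ := torB f hf hK m hem ht t.2
    have h2 := congrArg (fun g : GL (Fin 4) K => (g : Matrix (Fin 4) (Fin 4) K)) h1
    simp only [psiB_el f hf hK es] at h2
    rw [Subtype.coe_eta] at hm
    rw [hm] at h2
    have hs : s = 0 := hzero s (by simpa [matB] using congrFun (congrFun h2 1) 0)
    have hu : u = 0 := by simpa [matB] using congrFun (congrFun h2 3) 1
    subst hs hu
    exact Subtype.ext (es.trans (elB_zero f hf hK))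
  · obtain ⟨s, u, es⟩ := exists_elB f hf hK ha
    obtain ⟨s', u', eu⟩ := exists_elB f hf hK hb
    rw [map_mul, map_mul, map_inv, eq_mul_inv_iff_mul_eq] at h1
    have h2 := congrArg (fun g : GL (Fin 4) K => (g : Matrix (Fin 4) (Fin 4) K)) h1
    simp only [Units.val_mul, psiB_el f hf hK es, psiB_el f hf hK eu, psiB_rep f hf hK] at h2
    have hs : s = 0 := hzero s (by
      simpa [matB, Matrix.mul_apply, Fin.sum_univ_four] using congrFun (congrFun h2 1) 3)
    have hu : u = 0 := by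
      simpa [matB, Matrix.mul_apply, Fin.sum_univ_four] using congrFun (congrFun h2 3) 2
    subst hs hu
    exact Subtype.ext (es.trans (elB_zero f hf hK))

/-- The torus of the rank one subgroup. -/
theorem card_torB (m : ℕ) (hem : e = 2 ^ m) :
    Nat.card ↥((endoF4 f).clsL clB ⊓ (endoF4 f).diaG) ≤ Nat.card Kˣ := by
  classical
  refine Nat.card_le_card_of_surjective (fun b : Kˣ =>
    if h : tel f hf hK 1 b ∈ (endoF4 f).clsL clB ⊓ (endoF4 f).diaG then
      (⟨_, h⟩ : ↥((endoF4 f).clsL clB ⊓ (endoF4 f).diaG)) else 1) ?_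
  rintro ⟨t, hL, ht⟩
  obtain ⟨b, rfl, -⟩ := torB f hf hK m hem ht hL
  exact ⟨b, dif_pos _⟩

/-- The Sylow subgroups for the odd primes are cyclic. -/
theorem sylowB (m : ℕ) (hem : e = 2 ^ m) (hm : 1 ≤ m) (ℓ : ℕ) (hℓ : ℓ.Prime) (hℓ2 : ℓ ≠ 2) :
    ∃ U : Subgroup ↥((endoF4 f).clsL clB), ¬ ℓ ∣ U.index ∧ IsCyclic U := by
  haveI := Fact.mk hℓ
  haveI : CfsgLib.Suzuki.Param K m := ⟨hm, by rw [hK, hem]; ring⟩
  let φ : ↥((endoF4 f).clsL clB) →* CfsgLib.Suzuki.Gp K m :=
    (CfsgLib.Suzuki.lieEquiv K m).symm.toMonoidHom.comp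
      ((psiB f).codRestrict _ (psiB_mem f hf hK m hem))
  have hφ : Function.Injective φ := fun a b hab =>
    psiB_injective f hf hK m hem (congrArg Subtype.val
      ((CfsgLib.Suzuki.lieEquiv K m).symm.injective hab))
  obtain ⟨P⟩ : Nonempty (Sylow ℓ ↥((endoF4 f).clsL clB)) := inferInstance
  refine ⟨P, P.not_dvd_index, ?_⟩
  obtain ⟨Q, hQ⟩ := (P.isPGroup'.map φ).exists_le_sylow
  haveI := CfsgLib.Suzuki.sylow_cyclic hℓ2 Q
  haveI : IsCyclic ↥((P : Subgroup ↥((endoF4 f).clsL clB)).map φ) :=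
    isCyclic_of_injective (Subgroup.inclusion hQ) (Subgroup.inclusion_injective hQ)
  exact isCyclic_of_injective
    ((P : Subgroup ↥((endoF4 f).clsL clB)).equivMapOfInjective φ hφ).toMonoidHom
    (MulEquiv.injective _)

end CfsgLib.Chev.F4Root
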