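import Cfsg.Agent.Lib.Chev.TwistF4
import Cfsg.Agent.Lib.Chev.FixLayer

/-!
The torus of `²F₄(q)` on the layers of the unipotent group.
-/

set_option autoImplicit false
set_option maxRecDepth 100000
set_option linter.unusedSectionVars false

open scoped commutatorElement

namespace CfsgLib.Chev.F4Root

open Cfsg.Lie Matrix
open Cert (torusHom extC extC_ne_zero)

/-- The Cartan integers of the roots of the layers. -/
def carR : List (List ℤ) :=
  [[0, 0, -1, 2], [0, -2, 2, -1], [0, -2, 1, 1], [-1, 0, 1, -1], [-2, 2, -1, 1], [2, 0, 0, -1],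
    [-2, 0, 1, 0], [1, -1, 0, 1], [2, -2, 1, 0], [0, 2, -1, 0], [-1, 1, 0, 0], [1, 0, 0, 0]]

/-- A Cartan integer of a layer. -/
def cR (k i : ℕ) : ℤ := (carR.getD k []).getD i 0

theorem chkCar : ((List.range 12).all fun k => (List.range 4).all fun i =>
    decide (tabF4.car i (Endo.orbL dataTwF4.L k).root = cR k i)) = true := by
  decide +kernel

/-- The exponent of the first parameter. -/
def eA (e : ℕ) (k : ℕ) : ℤ := e * cR k 0 + cR k 3

/-- The exponent of the second parameter. -/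
def eB (e : ℕ) (k : ℕ) : ℤ := e * cR k 1 + cR k 2

/-- The pairs of layers with proportional characters. -/
def rayPairs : List (ℕ × ℕ) := [(1, 3), (2, 7), (4, 10), (5, 11)]

/-- The coefficients of twice the determinant of two characters, reduced. -/
def detCoef (i k : ℕ) : ℤ × ℤ :=
  let p2 := cR i 0 * cR k 1 - cR i 1 * cR k 0
  let p1 := cR i 0 * cR k 2 + cR i 3 * cR k 1 - cR i 1 * cR k 3 - cR i 2 * cR k 0
  let p0 := cR i 3 * cR k 2 - cR i 2 * cR k 3
  (2 * p1, p2 + 2 * p0)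

theorem chkDet : ((List.range 12).all fun k => (List.range k).all fun i =>
    rayPairs.contains (i, k) ||
      (decide (-12 ≤ (detCoef i k).1 ∧ (detCoef i k).1 ≤ 12 ∧ -12 ≤ (detCoef i k).2 ∧
        (detCoef i k).2 ≤ 12 ∧ detCoef i k ≠ (0, 0)) &&
      ([2, 4, 8] : List ℤ).all fun e =>
        decide (((detCoef i k).1 * e + (detCoef i k).2) % (2 * e ^ 2 - 1) ≠ 0))) = true := by
  decide +kernel

/-- Exponents realising every character value. -/
def onto : List (List ℤ) :=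
  [[0, 0, 0, -1], [0, -1, 0, 0], [0, 1, 0, 0], [0, 0, 0, 1], [-2, -1, 0, 0], [2, 1, 0, 0],
    [-1, 0, 0, 0], [0, 0, -2, 0], [1, 0, 0, 0], [0, 0, 2, 1], [-2, 0, 0, 0], [2, 0, 0, 0]]

/-- An exponent of `onto`. -/
def cO (k i : ℕ) : ℤ := (onto.getD k []).getD i 0

theorem chkOnto : ((List.range 12).all fun k =>
    decide (cR k 0 * cO k 1 + cR k 3 * cO k 0 + cR k 1 * cO k 3 + cR k 2 * cO k 2 = 0) &&
    decide (cR k 0 * cO k 0 + cR k 1 * cO k 2 +
      2 * (cR k 3 * cO k 1 + cR k 2 * cO k 3) = 2)) = true := by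
  decide +kernel

/-- The exponents of a layer are not proportional to those of another. -/
theorem det_ne {e : ℕ} (he : e = 2 ∨ e = 4 ∨ e = 8 ∨ 16 ≤ e) {i k : ℕ} (hk : k < 12) (hik : i < k)
    (hray : (i, k) ∉ rayPairs) :
    ¬ (2 * (e : ℤ) ^ 2 - 1) ∣ eA e i * eB e k - eB e i * eA e k := by
  intro hd
  have h := chkDet
  simp only [List.all_eq_true, List.mem_range, Bool.or_eq_true, Bool.and_eq_true,
    List.contains_iff_mem, decide_eq_true_eq] at h
  obtain ⟨⟨b1, b2, b3, b4, hne⟩, h8⟩ := (h k hk i hik).resolve_left hray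
  have hd2 : (2 * (e : ℤ) ^ 2 - 1) ∣ (detCoef i k).1 * e + (detCoef i k).2 := by
    have h1 := (hd.mul_left 2).sub (dvd_mul_left (2 * (e : ℤ) ^ 2 - 1)
      (cR i 0 * cR k 1 - cR i 1 * cR k 0))
    rw [show (detCoef i k).1 * (e : ℤ) + (detCoef i k).2 =
      2 * (eA e i * eB e k - eB e i * eA e k) -
        (cR i 0 * cR k 1 - cR i 1 * cR k 0) * (2 * (e : ℤ) ^ 2 - 1) by
      simp only [eA, eB, detCoef]; ring]
    exact h1
  rcases he with rfl | rfl | rfl | he
  · exact h8 2 (by simp) (Int.emod_eq_zero_of_dvd hd2)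
  · exact h8 4 (by simp) (Int.emod_eq_zero_of_dvd hd2)
  · exact h8 8 (by simp) (Int.emod_eq_zero_of_dvd hd2)
  · have he' : (16 : ℤ) ≤ e := by exact_mod_cast he
    generalize hd1 : (detCoef i k).1 = x, hd0 : (detCoef i k).2 = y at b1 b2 b3 b4 hd2
    have h0 : x * e + y = 0 := by
      refine Int.eq_zero_of_abs_lt_dvd hd2 (abs_lt.2 ⟨?_, ?_⟩) <;> nlinarith
    have hx : x = 0 := by
      rcases lt_trichotomy x 0 with hx | hx | hx
      · nlinarith
      · exact hx
      · nlinarith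
    exact hne (Prod.ext (hd1.trans hx) (hd0.trans (by rw [hx, zero_mul, zero_add] at h0; exact h0)))

variable {K : Type*} [Field K] [Fintype K] [CharP K 2] {e : ℕ}

/-- The parameters of the torus element `(a, b)`. -/
def par (e : ℕ) (a b : Kˣ) : Fin tabF4.l → Kˣ := fun i =>
  ([a ^ e, b ^ e, b, a] : List Kˣ).getD i 1

/-- The character of a layer at `(a, b)`. -/
def chi (e : ℕ) (k : ℕ) (a b : Kˣ) : Kˣ := a ^ eA e k * b ^ eB e k

theorem charOf_par (a b : Kˣ) {k : ℕ} (hk : k < 12) :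
    charOf tabF4 (extC tabF4 (par e a b)) (Endo.orbL dataTwF4.L k).root = (chi e k a b : K) := by
  have h := chkCar
  simp only [List.all_eq_true, List.mem_range, decide_eq_true_eq] at h
  have e1 : charOf tabF4 (extC tabF4 (par e a b)) (Endo.orbL dataTwF4.L k).root =
      ∏ i : Fin 4, ((par e a b i : Kˣ) : K) ^ cR k i := by
    rw [charOf, show tabF4.l = 4 from rfl, Finset.prod_range]
    refine Finset.prod_congr rfl fun i _ => ?_
    rw [h k hk i i.2]
    simp [extC, show tabF4.l = 4 from rfl]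
    rfl
  have e2 : chi e k a b = (par e a b ⟨0, by decide⟩) ^ cR k 0 *
      (par e a b ⟨1, by decide⟩) ^ cR k 1 * (par e a b ⟨2, by decide⟩) ^ cR k 2 *
        (par e a b ⟨3, by decide⟩) ^ cR k 3 := by
    show _ = (a ^ e) ^ cR k 0 * (b ^ e) ^ cR k 1 * b ^ cR k 2 * a ^ cR k 3
    rw [chi, eA, eB, ← _root_.zpow_natCast a e, ← _root_.zpow_natCast b e, ← _root_.zpow_mul, ← _root_.zpow_mul, _root_.zpow_add,
      _root_.zpow_add]
    generalize a ^ ((e : ℤ) * cR k 0) = w, a ^ cR k 3 = x, b ^ ((e : ℤ) * cR k 1) = y,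
      b ^ cR k 2 = z
    rw [← mul_assoc, mul_assoc w x y, mul_comm x y, ← mul_assoc w y x, mul_right_comm (w * y) x z]
  rw [e1, Fin.prod_univ_four, e2]
  push_cast
  rfl

lemma card_units_F4 (hK : Fintype.card K = 2 * e ^ 2) :
    (Nat.card Kˣ : ℤ) = 2 * (e : ℤ) ^ 2 - 1 := by
  rw [Nat.card_units, Nat.card_eq_fintype_card, hK,
    Nat.cast_sub (hK ▸ Fintype.card_pos (α := K))]
  push_cast
  ring

/-- A torus element fixing one layer and moving another. -/
theorem exists_moves (hK : Fintype.card K = 2 * e ^ 2) (he : e = 2 ∨ e = 4 ∨ e = 8 ∨ 16 ≤ e)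
    {i k : ℕ} (hk : k < 12) (hik : i < k) (hray : (i, k) ∉ rayPairs) :
    ∃ a b : Kˣ, chi e i a b = 1 ∧ chi e k a b ≠ 1 := by
  obtain ⟨g, hg⟩ := IsCyclic.exists_generator (α := Kˣ)
  refine ⟨g ^ (-eB e i), g ^ eA e i, ?_, fun h1 => det_ne he hk hik hray ?_⟩
  · rw [chi, ← _root_.zpow_mul, ← _root_.zpow_mul, ← _root_.zpow_add,
      show -eB e i * eA e i + eA e i * eB e i = 0 by ring, _root_.zpow_zero]
  · rw [chi, ← _root_.zpow_mul, ← _root_.zpow_mul, ← _root_.zpow_add, ← orderOf_dvd_iff_zpow_eq_one,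
      orderOf_eq_card_of_forall_mem_zpowers hg, card_units_F4 hK] at h1
    convert h1 using 1
    ring

/-- Every value of a character occurs. -/
theorem exists_chi (hK : Fintype.card K = 2 * e ^ 2) {k : ℕ} (hk : k < 12) (c : Kˣ) :
    ∃ a b : Kˣ, chi e k a b = c := by
  refine ⟨c ^ (cO k 0 * e + cO k 1), c ^ (cO k 2 * e + cO k 3), ?_⟩
  have h := chkOnto
  simp only [List.all_eq_true, List.mem_range, Bool.and_eq_true, decide_eq_true_eq] at h
  obtain ⟨h1, h2⟩ := h k hk
  rw [chi, ← _root_.zpow_mul, ← _root_.zpow_mul, ← _root_.zpow_add]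
  set p0 := cR k 3 * cO k 1 + cR k 2 * cO k 3
  have hexp : (cO k 0 * e + cO k 1) * eA e k + (cO k 2 * e + cO k 3) * eB e k =
      1 + (1 - p0) * (2 * (e : ℤ) ^ 2 - 1) := by
    simp only [eA, eB, p0] at h2 ⊢
    linear_combination (e : ℤ) * h1 + (e : ℤ) ^ 2 * h2
  rw [hexp, ← card_units_F4 hK, _root_.zpow_add, _root_.zpow_one, _root_.zpow_mul', _root_.zpow_natCast, pow_card_eq_one',
    _root_.one_zpow, mul_one]

variable (f : K →+* K) (hf : ∀ t, f t = t ^ e) (hK : Fintype.card K = 2 * e ^ 2)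
include hf hK

theorem par_fix (a b : Kˣ) :
    torusHom (D := chevF4) (T := tabF4) (par e a b) ∈ (endoF4 f).fix :=
  ((endoF4 f).torusHom_mem_fix ((fix_paramF4_eq f hf hK).2 ⟨rfl, rfl⟩)).1

/-- The torus element `(a, b)`. -/
noncomputable def tel (a b : Kˣ) : ↥(endoF4 f).fix := ⟨_, par_fix f hf hK a b⟩

lemma tel_mem (a b : Kˣ) : tel f hf hK a b ∈ (endoF4 f).torG :=
  Subgroup.mem_subgroupOf.2 (certF4.range_torusHom.le ⟨_, rfl⟩)

omit hf hK in
lemma layersF4 : chkLayers tabF4 (endoF4 f).ρ dataTwF4.L = true := (dataOK_F4 f).layers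

/-- The torus multiplies the coordinates by the characters. -/
theorem crd_tel (a b : Kˣ) {k : ℕ} (hk : k < 12) {g : ↥(endoF4 f).fix}
    (hg : g ∈ (endoF4 f).lay dataTwF4.L k) :
    (endoF4 f).crd dataTwF4.L k (tel f hf hK a b * g * (tel f hf hK a b)⁻¹) =
      (chi e k a b : K) * (endoF4 f).crd dataTwF4.L k g := by
  rw [(endoF4 f).crd_conj (layersF4 f) hk (c := par e a b) rfl hg, charOf_par a b hk]

/-- Commutators with the torus. -/
theorem crd_tel_comm (a b : Kˣ) {k : ℕ} (hk : k < 12) {g : ↥(endoF4 f).fix}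
    (hg : g ∈ (endoF4 f).lay dataTwF4.L k) :
    ⁅tel f hf hK a b, g⁆ ∈ (endoF4 f).lay dataTwF4.L k ∧
      (endoF4 f).crd dataTwF4.L k ⁅tel f hf hK a b, g⁆ =
        ((chi e k a b : K) - 1) * (endoF4 f).crd dataTwF4.L k g := by
  have h := (endoF4 f).crd_comm (layersF4 f) hk (c := par e a b) (t := tel f hf hK a b) rfl hg
  rwa [charOf_par a b hk] at h

/-- Every element of the field is a coordinate. -/
theorem exists_coord {k : ℕ} (hk : k < 12) (t : K) :
    ∃ g ∈ (endoF4 f).lay dataTwF4.L k, (endoF4 f).crd dataTwF4.L k g = t := by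
  have hmem : Endo.orbL dataTwF4.L k ∈ dataTwF4.L := by
    have hl : dataTwF4.L.length = 12 := rfl
    rw [Endo.orbL, List.getD_eq_getElem _ _ (by omega)]
    exact List.getElem_mem _
  have hsz : ∀ o ∈ dataTwF4.L, o.size = 2 := by decide +kernel
  have hadm : (endoF4 f).Adm (Endo.orbL dataTwF4.L k) = Set.univ := by
    have h1 := hcardF4 f hf hK _ hmem
    rw [hsz _ hmem] at h1
    refine Set.eq_univ_of_forall fun x => ?_
    by_contra hx
    have h2 : Nat.card ((endoF4 f).Adm (Endo.orbL dataTwF4.L k)) < Nat.card K :=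
      Finite.card_subtype_lt hx
    rw [Nat.pow_left_injective two_ne_zero h1, Nat.card_eq_fintype_card] at h2
    exact lt_irrefl _ h2
  exact (endoF4 f).exists_crd (layersF4 f) hk ((stdF4 f hf hK).lifts _ _ hmem).1
    (hadm ▸ Set.mem_univ t)

end CfsgLib.Chev.F4Root
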