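import Cfsg.Agent.Lib.Chev.TwistF4Two

/-!
`²F₄(2)` is not perfect.

The parity of the elements of order four among the twelve root elements is a homomorphism of the
Sylow 2-subgroup (read off an orbit of 32 vectors).  Its transfer is nontrivial on a root element `x`
of order four: all conjugates of `x` in the Sylow subgroup are odd, since the sixteen Weyl elements
carry root elements of orbits to root elements of orbits of the same parity.
-/

set_option autoImplicit false
set_option maxRecDepth 100000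
set_option maxHeartbeats 1000000

namespace CfsgLib.Chev.F4Two

open Cfsg.Lie Matrix CfsgLib.Chev

/-- The word of the root element of order four. -/
def wX : List ℕ := [27, 25, 28]

theorem x_sq_chk : eqChk (wX ++ wX) (orbWord 28) = true ∧ eqChk ((wX ++ wX) ++ (wX ++ wX)) [] = true := by
  decide +kernel

/-! ### The parity -/

/-- Even vectors of an orbit of 32. -/
def evenVec : List ℕ :=
  [34896609280, 1134408237056, 17627082653696, 996969283584, 1821603004416, 19413789048832, 19551228002304, 18451716374528, 722091376640, 18726594281472, 859530330112, 19688666955776, 2096480911360, 18589155328000, 18314277421056, 1959041957888]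

/-- Odd vectors of an orbit of 32. -/
def oddVec : List ℕ :=
  [172335562752, 309774516224, 1684164050944, 18176838467584, 447213469696, 1271847190528, 17764521607168, 1409286144000, 17901960560640, 19276350095360, 584652423168, 1546725097472, 18039399514112, 19138911141888, 18864033234944, 19001472188416]

theorem parity_chk : (reps12.all fun r =>
    (evenVec.all fun v => (if odd4 r then oddVec else evenVec).contains (evalW (orbWord r) v)) &&
    oddVec.all fun v => (if odd4 r then evenVec else oddVec).contains (evalW (orbWord r) v)) = true ∧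
    (oddVec ++ evenVec).all (fun v => decide (v < 2 ^ 52)) = true ∧
    (oddVec.all fun v => !evenVec.contains v) = true := by
  decide +kernel

theorem orbWord_lt : ∀ r ∈ reps12, ∀ x ∈ orbWord r, x < 48 := by decide +kernel

/-- The table of parities. -/
def inTab (b : Bool) (v : ℕ) : Prop := if b then v ∈ oddVec else v ∈ evenVec

/-- `g` shifts the table by `b`. -/
def Shifts (g : GL chevF4.Idx (ZMod 2)) (b : Bool) : Prop :=
  ∀ d v, inTab d v → ∃ v', inTab (xor d b) v' ∧
    (g : Matrix chevF4.Idx chevF4.Idx (ZMod 2)) *ᵥ phi v = phi v'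

theorem Shifts.mul {g g' : GL chevF4.Idx (ZMod 2)} {b b' : Bool} (hg : Shifts g b)
    (hg' : Shifts g' b') : Shifts (g * g') (xor b b') := by
  intro d v hv
  obtain ⟨v', hv', e⟩ := hg' d v hv
  obtain ⟨v'', hv'', e'⟩ := hg _ v' hv'
  refine ⟨v'', ?_, by rw [Units.val_mul, ← Matrix.mulVec_mulVec, e, e']⟩
  rwa [show xor d (xor b b') = xor (xor d b') b by cases d <;> cases b <;> cases b' <;> rfl]

theorem shifts_orb {r : ℕ} (hr : r ∈ reps12) : Shifts (Wd (orbWord r)) (odd4 r) := by
  intro d v hv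
  refine ⟨evalW (orbWord r) v, ?_, Wd_phi (orbWord_lt r hr) v⟩
  have h := parity_chk.1
  simp only [List.all_eq_true, Bool.and_eq_true, List.contains_iff_mem] at h
  cases d <;> cases ho : odd4 r <;> simp only [inTab] at hv ⊢ <;>
    simp only [Bool.false_eq_true, ↓reduceIte, Bool.bne_false, Bool.bne_true, Bool.not_true,
      Bool.not_false] at hv ⊢
  · have := (h r hr).1 v hv; rwa [ho] at this
  · have := (h r hr).1 v hv; rwa [ho] at this
  · have := (h r hr).2 v hv; rwa [ho] at this
  · have := (h r hr).2 v hv; rwa [ho] at this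

theorem shifts_cands : ∀ L : List ℕ, (∀ r ∈ L, r ∈ reps12) → ∀ c ∈ cands L, Shifts (Wd c.1) c.2
  | [], _, c, hc => by
    simp only [cands, List.mem_singleton] at hc
    subst hc
    intro d v hv
    exact ⟨v, by simpa using hv, by rw [Wd_nil, Units.val_one, Matrix.one_mulVec]⟩
  | r :: L, hL, c, hc => by
    simp only [cands, List.mem_append, List.mem_map] at hc
    rcases hc with hc | ⟨c', hc', rfl⟩
    · exact shifts_cands L (fun s hs => hL s (List.mem_cons_of_mem _ hs)) c hc
    · rw [Wd_append]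
      exact (shifts_orb (hL r List.mem_cons_self)).mul
        (shifts_cands L (fun s hs => hL s (List.mem_cons_of_mem _ hs)) c' hc')

theorem Shifts.unique {g : GL chevF4.Idx (ZMod 2)} {b b' : Bool} (h : Shifts g b)
    (h' : Shifts g b') : b = b' := by
  have h0 : inTab false 34896609280 := by simp [inTab, evenVec]
  obtain ⟨v, hv, e⟩ := h _ _ h0
  obtain ⟨v', hv', e'⟩ := h' _ _ h0
  have h52 := parity_chk.2.1
  have hdis := parity_chk.2.2
  simp only [List.all_eq_true, decide_eq_true_eq, List.mem_append, Bool.not_eq_true',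
    List.contains_eq_mem, decide_eq_false_iff_not] at h52 hdis
  have hlt : ∀ d u, inTab d u → u < 2 ^ 52 := fun d u hu => by
    cases d
    · exact h52 u (Or.inr hu)
    · exact h52 u (Or.inl hu)
  obtain rfl := phi_injOn (hlt _ _ hv) (hlt _ _ hv') (e.symm.trans e')
  cases b <;> cases b' <;> first | rfl | exact absurd hv' (hdis v hv) | exact absurd hv (hdis v hv')

/-- An element of the Sylow subgroup as a candidate. -/
theorem exists_cand {g : ↥G2}
    (hg : (g : GL chevF4.Idx (ZMod 2)) ∈ chevF4.posUnipotent (ZMod 2)) :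
    ∃ c ∈ cands reps12, (g : GL chevF4.Idx (ZMod 2)) = Wd c.1 := by
  obtain ⟨al, hal, himg⟩ := imgs
  have hd := dataOK_F4 (RingHom.id (ZMod 2))
  have hmem : (g : GL chevF4.Idx (ZMod 2)) ∈ endo2.fix ⊓
      gen chevF4 (ZMod 2) {a | a ∈ flatOrbs endo2.ρ dataTwF4.L} := by
    refine ⟨fix_eq.symm ▸ g.2, ?_⟩
    rw [certF4.posUnipotent_eq] at hg
    exact gen_mono chevF4 (fun r hr => hd.cover endo2 hr) hg
  obtain ⟨c, hc, he⟩ := decomp endo2 dataTwF4.L hd.layers (fun o ho => by
    have hroot : o.root ∈ reps12 := reps12_eq ▸ List.mem_map_of_mem ho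
    obtain ⟨h1, -⟩ := himg _ hroot
    have h2' := orb_chk
    simp only [List.all_eq_true, Bool.and_eq_true, decide_eq_true_eq, List.contains_iff_mem,
      List.mem_append] at h2'
    exact ⟨fix_eq.symm ▸ h1, (h2' o ho).1, (h2' o ho).2⟩) _ hmem
  rw [reps12_eq] at hc
  exact ⟨c, hc, he⟩

/-- The Sylow 2-subgroup. -/
noncomputable def U2 : Subgroup ↥G2 := (chevF4.posUnipotent (ZMod 2)).subgroupOf G2

theorem card_G2 : Nat.card ↥G2 = 2 ^ 12 * (9 * 15 * 65) := by
  have h1 := card_twistF4 (RingHom.id (ZMod 2)) hf1 hK1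
  rw [show (endoF4 (RingHom.id (ZMod 2))).fix = G2 from fix_eq, ZMod.card] at h1
  rw [h1]
  norm_num

theorem card_U2 : Nat.card U2 = 2 ^ 12 := by
  have h1 := card_posF4 (RingHom.id (ZMod 2)) hf1 hK1
  rw [show (endoF4 (RingHom.id (ZMod 2))).fix = G2 from fix_eq, inf_comm] at h1
  rw [U2, ← Subgroup.card_map_of_injective G2.subtype_injective, Subgroup.subgroupOf_map_subtype,
    h1, ZMod.card]

theorem index_U2 : U2.index = 9 * 15 * 65 := by
  have h := U2.card_mul_index
  rw [card_U2, card_G2] at h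
  exact Nat.eq_of_mul_eq_mul_left (by norm_num) h

theorem exists_shifts (u : U2) : ∃ b, Shifts ((u : ↥G2) : GL chevF4.Idx (ZMod 2)) b := by
  obtain ⟨c, hc, e⟩ := exists_cand u.2
  exact ⟨c.2, e ▸ shifts_cands reps12 (fun _ h => h) c hc⟩

/-- The parity. -/
noncomputable def par : U2 →* Multiplicative (ZMod 2) where
  toFun u := Multiplicative.ofAdd (if (exists_shifts u).choose then 1 else 0)
  map_one' := by
    have h := (exists_shifts 1).choose_spec
    rw [h.unique (b' := false) (fun d v hv => ⟨v, by simpa using hv,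
      by rw [OneMemClass.coe_one, OneMemClass.coe_one, Units.val_one, Matrix.one_mulVec]⟩)]
    rfl
  map_mul' u v := by
    have h1 := (exists_shifts u).choose_spec.mul (exists_shifts v).choose_spec
    rw [(exists_shifts (u * v)).choose_spec.unique (b' := xor _ _) (by simpa using h1)]
    cases (exists_shifts u).choose <;> cases (exists_shifts v).choose <;> rfl

theorem par_eq {u : U2} {c : List ℕ × Bool} (hc : c ∈ cands reps12)
    (e : ((u : ↥G2) : GL chevF4.Idx (ZMod 2)) = Wd c.1) :
    par u = Multiplicative.ofAdd (if c.2 then 1 else 0) := by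
  show Multiplicative.ofAdd (if (exists_shifts u).choose then (1 : ZMod 2) else 0) = _
  rw [(exists_shifts u).choose_spec.unique (e ▸ shifts_cands reps12 (fun _ h => h) c hc)]

theorem orbWord_pos : ∀ r ∈ reps12, ∀ x ∈ orbWord r, tabF4.half ≤ x ∧ x < tabF4.n := by
  decide +kernel

theorem cands_pos : ∀ L : List ℕ, (∀ r ∈ L, r ∈ reps12) → ∀ c ∈ cands L, ∀ x ∈ c.1,
    x ∈ posSet tabF4
  | [], _, c, hc => by
    simp only [cands, List.mem_singleton] at hc
    subst hc; simp
  | r :: L, hL, c, hc => by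
    simp only [cands, List.mem_append, List.mem_map] at hc
    rcases hc with hc | ⟨c', hc', rfl⟩
    · exact cands_pos L (fun s hs => hL s (List.mem_cons_of_mem _ hs)) c hc
    · intro x hx
      rcases List.mem_append.1 hx with hx | hx
      · exact orbWord_pos r (hL r List.mem_cons_self) x hx
      · exact cands_pos L (fun s hs => hL s (List.mem_cons_of_mem _ hs)) c' hc' x hx

theorem shifts_one : Shifts 1 false := fun d v hv =>
  ⟨v, by simpa using hv, by rw [Units.val_one, Matrix.one_mulVec]⟩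

/-! ### The Weyl elements -/

/-- The sixteen Weyl elements commuting with the twist, as words in the two classes. -/
def canon : List (List ℕ) :=
  [[], [0], [1], [1, 0], [0, 1], [0, 1, 0], [1, 0, 1], [1, 0, 1, 0], [0, 1, 0, 1], [0, 1, 0, 1, 0], [1, 0, 1, 0, 1], [1, 0, 1, 0, 1, 0], [0, 1, 0, 1, 0, 1], [0, 1, 0, 1, 0, 1, 0], [1, 0, 1, 0, 1, 0, 1], [1, 0, 1, 0, 1, 0, 1, 0]]

/-- The action of a word in the classes. -/
noncomputable def clsAct (M : List ℕ) (r : ℕ) : ℕ := rword tabF4 (clsWord dataTwF4.CL M) r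

/-- The orbits that stay positive. -/
noncomputable def keepOrbs (M : List ℕ) : List Orb :=
  dataTwF4.L.filter fun o => (o.list twistF4.rt).all fun r => decide (tabF4.half ≤ clsAct M r)

/-- One Weyl element: its positive orbits form layers and are moved to orbits of the same parity. -/
noncomputable def weylChk (M : List ℕ) : Bool :=
  chkLayers tabF4 twistF4.rt (keepOrbs M) &&
    ((List.range tabF4.n).all fun r => decide (r < tabF4.half ∨ clsAct M r < tabF4.half) ||
      (flatOrbs twistF4.rt (keepOrbs M)).contains r) &&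
    (keepOrbs M).all fun o =>
      let im := clsAct M o.root
      let r' := (reps12.find? fun q => q == im || twistF4.rt q == im).getD 0
      reps12.contains r' && (decide (odd4 r' = odd4 o.root) &&
        eqChk ((orbWord o.root).map (clsAct M)) (orbWord r'))

set_option maxHeartbeats 0 in
theorem weylChk_all : (canon.all fun M => weylChk M && M.all fun j => decide (j < 2)) = true := by
  decide +kernel

set_option maxHeartbeats 0 in
theorem canon_closed : ((List.range 2).all fun j => canon.all fun M => canon.any fun M' =>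
    (List.range tabF4.n).all fun r => decide (clsAct (j :: M) r = clsAct M' r)) = true := by
  decide +kernel

theorem wordOK_canon {M : List ℕ} (hM : ∀ j ∈ M, j < 2) : WordOK tabF4 (clsWord dataTwF4.CL M) :=
  endo2.wordOK_clsWord (dataOK_F4 (RingHom.id (ZMod 2))).cls fun j hj => hM j hj

theorem exists_canon : ∀ {M : List ℕ}, (∀ j ∈ M, j < 2) →
    ∃ M' ∈ canon, ∀ r < tabF4.n, clsAct M r = clsAct M' r
  | [], _ => ⟨[], by simp [canon], fun _ _ => rfl⟩
  | j :: M, hM => by
    have hj := hM j List.mem_cons_self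
    obtain ⟨M1, h1, e1⟩ := exists_canon (M := M) fun i hi => hM i (List.mem_cons_of_mem _ hi)
    have h := canon_closed
    simp only [List.all_eq_true, List.any_eq_true, List.mem_range, decide_eq_true_eq] at h
    obtain ⟨M2, h2, e2⟩ := h j hj M1 h1
    refine ⟨M2, h2, fun r hr => ?_⟩
    rw [← e2 r hr]
    unfold clsAct at e1 ⊢
    rw [show clsWord dataTwF4.CL (j :: M) = (dataTwF4.CL.getD j ⟨[], []⟩).word ++
        clsWord dataTwF4.CL M from rfl,
      show clsWord dataTwF4.CL (j :: M1) = (dataTwF4.CL.getD j ⟨[], []⟩).word ++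
        clsWord dataTwF4.CL M1 from rfl, rword_append, rword_append, e1 r hr]

theorem maps_one {m : GL chevF4.Idx (ZMod 2)} {r s : ℕ} (hM : Maps chevF4 m r s) :
    m * X chevF4 r 1 * m⁻¹ = X chevF4 s 1 := by
  obtain ⟨c, hc, e⟩ := hM
  rw [e, show c = 1 from (by decide : ∀ c : ZMod 2, c ≠ 0 → c = 1) c hc, mul_one]

theorem conj_Wd {m : GL chevF4.Idx (ZMod 2)} {f : ℕ → ℕ} (hM : ∀ r < tabF4.n, Maps chevF4 m r (f r)) :
    ∀ {v : List ℕ}, (∀ r ∈ v, r < tabF4.n) → m * Wd v * m⁻¹ = Wd (v.map f)
  | [], _ => by simp [Wd_nil]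
  | r :: v, hv => by
    rw [List.map_cons, Wd_cons, Wd_cons, ← maps_one (hM r (hv r List.mem_cons_self)),
      ← conj_Wd hM fun s hs => hv s (List.mem_cons_of_mem _ hs)]
    group

/-- Conjugates of `x` in the Sylow subgroup are odd. -/
theorem odd_of_conj {c : List ℕ × Bool} (hc : c ∈ cands reps12) {g : GL chevF4.Idx (ZMod 2)}
    (hg : g ∈ G2) (e : g * Wd wX * g⁻¹ = Wd c.1) : c.2 = true := by
  have hd := dataOK_F4 (RingHom.id (ZMod 2))
  have hreps := repsF4 (RingHom.id (ZMod 2)) hf1 hK1
  have hgf : g ∈ endo2.fix := fix_eq.symm ▸ hg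
  obtain ⟨w, hw, hwc, m, -, hmf, hmn, hmM, b, hb, u, hu, rfl⟩ := endo2.bruhat_fix hd.cls hreps hgf
  obtain ⟨v, hv, t, ht, rfl⟩ := endo2.borel_fix.1 hb
  obtain rfl : t = 1 := by
    have h1 := card_diagF4 (RingHom.id (ZMod 2)) hf1 hK1
    rw [ZMod.card, show (2 - 1) ^ 2 = 1 from rfl] at h1
    exact Subgroup.mem_bot.1 (Subgroup.card_eq_one.1 h1 ▸ ht)
  rw [mul_one] at e
  have hvU : v ∈ chevF4.posUnipotent (ZMod 2) := hv.2
  have hvF : v ∈ endo2.fix := hv.1
  -- the Weyl element
  obtain ⟨M0, hM0, e0⟩ := endo2.exists_cls_list hd.cls hw hwc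
  obtain ⟨M, hM, e1⟩ := exists_canon (M := M0) fun j hj => hM0 j hj
  have hact : ∀ r < tabF4.n, Maps chevF4 m r (clsAct M r) := fun r hr => by
    rw [← e1 r hr]; show Maps chevF4 m r (rword tabF4 _ r); rw [← e0 r hr]; exact hmM r hr
  have hchk := weylChk_all
  simp only [List.all_eq_true, Bool.and_eq_true, decide_eq_true_eq] at hchk
  obtain ⟨hMw, hM2⟩ := hchk M hM
  simp only [weylChk, List.all_eq_true, Bool.and_eq_true, Bool.or_eq_true, List.mem_range,
    decide_eq_true_eq, List.contains_iff_mem] at hMw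
  obtain ⟨⟨hlay, hcov⟩, hmove⟩ := hMw
  -- the element before and after
  obtain ⟨huf, hucell⟩ := hu
  have huU : u ∈ chevF4.posUnipotent (ZMod 2) :=
    Endo.cellUnipotent_le_pos (h := certF4) hw hmM hucell
  have hxU : Wd wX ∈ chevF4.posUnipotent (ZMod 2) := by
    rw [certF4.posUnipotent_eq, Wd_eq_prod]
    refine Subgroup.list_prod_mem _ fun y hy => ?_
    obtain ⟨r, hr, rfl⟩ := List.mem_map.1 hy
    refine X_mem_gen chevF4 ?_ _
    simp only [wX, List.mem_cons, List.not_mem_nil, or_false] at hr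
    have h24 : tabF4.half = 24 ∧ tabF4.n = 48 := by decide +kernel
    show tabF4.half ≤ r ∧ r < tabF4.n
    omega
  set y := u * Wd wX * u⁻¹ with hydef
  have hyU : y ∈ chevF4.posUnipotent (ZMod 2) := mul_mem (mul_mem huU hxU) (inv_mem huU)
  have hyF : y ∈ endo2.fix := mul_mem (mul_mem huf (fix_eq.symm ▸ mem25)) (inv_mem huf)
  have hzU : m * y * m⁻¹ ∈ chevF4.posUnipotent (ZMod 2) := by
    have h1 : Wd c.1 ∈ chevF4.posUnipotent (ZMod 2) := by
      rw [certF4.posUnipotent_eq, Wd_eq_prod]
      refine Subgroup.list_prod_mem _ fun y hy => ?_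
      obtain ⟨r, hr, rfl⟩ := List.mem_map.1 hy
      refine X_mem_gen chevF4 ?_ _
      exact cands_pos reps12 (fun s hs => hs) c hc r hr
    have h2 := mul_mem (mul_mem (inv_mem hvU) h1) hvU
    rwa [← e, show v⁻¹ * (v * m * u * Wd wX * (v * m * u)⁻¹) * v = m * y * m⁻¹ by
      rw [hydef]; group] at h2
  -- `y` only involves the roots that stay positive
  have hy2 : y ∈ endo2.fix ⊓ gen chevF4 (ZMod 2) {a | a ∈ flatOrbs endo2.ρ (keepOrbs M)} := by
    refine ⟨hyF, ?_⟩
    have hy' := hyU
    rw [certF4.posUnipotent_eq, ← Cert.posList_set] at hy'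
    obtain ⟨a, ha, x', hx, ey⟩ := certF4.exists_split {r | tabF4.half ≤ clsAct M r} (posList tabF4)
      Cert.sortedLT_posList (fun r hr => Cert.mem_posList.1 hr)
      (by rw [Cert.posList_set]; exact certF4.commClosed_posSet) y hy'
    rw [Cert.posList_set] at ha hx
    have hma : m * a * m⁻¹ ∈ chevF4.posUnipotent (ZMod 2) := by
      rw [certF4.posUnipotent_eq]
      exact Cert.conj_gen_le (S' := posSet tabF4) (fun r hr => ⟨clsAct M r,
        ⟨hr.2, certF4.rword_lt (wordOK_canon hM2) hr.1.2⟩, hact r hr.1.2⟩) ha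
    have hmx : m * x' * m⁻¹ ∈ chevF4.negUnipotent (ZMod 2) := by
      rw [certF4.negUnipotent_eq]
      exact Cert.conj_gen_le (S' := {r | r < tabF4.half}) (fun r hr => ⟨clsAct M r,
        (not_le.1 hr.2 : clsAct M r < tabF4.half), hact r hr.1.2⟩) hx
    have h1 : m * x' * m⁻¹ ∈ chevF4.borelSubgroup (ZMod 2) := by
      refine Subgroup.mem_sup_left ?_
      have := mul_mem (inv_mem hma) hzU
      rwa [ey, show (m * a * m⁻¹)⁻¹ * (m * (a * x') * m⁻¹) = m * x' * m⁻¹ by group] at this
    have h2 := Endo.neg_not_borel (h := certF4) hmx h1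
    rw [conj_eq_one_iff] at h2
    rw [ey, h2, mul_one]
    refine gen_mono chevF4 (fun r hr => ?_) ha
    refine (hcov r hr.1.2).resolve_left ?_
    rintro (h3 | h3)
    · exact absurd hr.1.1 (not_le.2 h3)
    · exact absurd hr.2 (not_le.2 h3)
  have hroot : ∀ o ∈ keepOrbs M, o.root ∈ reps12 := fun o ho =>
    reps12_eq ▸ List.mem_map_of_mem (List.mem_of_mem_filter ho)
  obtain ⟨al, -, himg⟩ := imgs
  obtain ⟨d, hd', ed⟩ := decomp endo2 (keepOrbs M) hlay (fun o ho => by
    obtain ⟨h1, -⟩ := himg _ (hroot o ho)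
    have h2' := orb_chk
    simp only [List.all_eq_true, Bool.and_eq_true, decide_eq_true_eq, List.contains_iff_mem,
      List.mem_append] at h2'
    exact ⟨fix_eq.symm ▸ h1, (h2' o (List.mem_of_mem_filter ho)).1,
      (h2' o (List.mem_of_mem_filter ho)).2⟩) y hy2
  -- parities
  have hmap : ∀ L : List Orb, (∀ o ∈ L, o ∈ keepOrbs M) → ∀ d ∈ cands (L.map fun o => o.root),
      Shifts (m * Wd d.1 * m⁻¹) d.2 := by
    intro L
    induction L with
    | nil =>
      intro _ d hd
      simp only [List.map_nil, cands, List.mem_singleton] at hd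
      subst hd
      rw [Wd_nil, mul_one, mul_inv_cancel]
      exact shifts_one
    | cons o L ih =>
      intro hL d hd
      simp only [List.map_cons, cands, List.mem_append, List.mem_map] at hd
      rcases hd with hd | ⟨d', hd', rfl⟩
      · exact ih (fun o' ho' => hL o' (List.mem_cons_of_mem _ ho')) d hd
      · have ho := hL o List.mem_cons_self
        obtain ⟨hr', hpar, heq⟩ := hmove o ho
        rw [Wd_append, show m * (Wd (orbWord o.root) * Wd d'.1) * m⁻¹ =
            m * Wd (orbWord o.root) * m⁻¹ * (m * Wd d'.1 * m⁻¹) by group,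
          conj_Wd hact (orbWord_lt _ (hroot o ho)), Wd_eq_of_eqChk heq, ← hpar]
        exact (shifts_orb hr').mul (ih (fun o' ho' => hL o' (List.mem_cons_of_mem _ ho')) d' hd')
  have sd : Shifts y d.2 := ed ▸ shifts_cands _ (fun r hr => by
    obtain ⟨o, ho, rfl⟩ := List.mem_map.1 hr; exact hroot o ho) d hd'
  have sz : Shifts (m * y * m⁻¹) d.2 := ed ▸ hmap _ (fun o ho => ho) d hd'
  have hsh : ∀ {g : GL chevF4.Idx (ZMod 2)}, g ∈ endo2.fix → g ∈ chevF4.posUnipotent (ZMod 2) →
      ∃ b, Shifts g b := fun {g} h1 h2 => exists_shifts ⟨⟨g, fix_eq ▸ h1⟩, h2⟩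
  obtain ⟨bu, su⟩ := hsh huf huU
  obtain ⟨bu', su'⟩ := hsh (inv_mem huf) (inv_mem huU)
  obtain ⟨bv, sv⟩ := hsh hvF hvU
  obtain ⟨bv', sv'⟩ := hsh (inv_mem hvF) (inv_mem hvU)
  have hone : ∀ {g : GL chevF4.Idx (ZMod 2)} {b b' : Bool}, Shifts g b → Shifts g⁻¹ b' →
      b' = b := fun {g} {b b'} h1 h2 => by
    have := (h1.mul h2).unique (b' := false) (by rw [mul_inv_cancel]; exact shifts_one)
    revert this; cases b <;> cases b' <;> decide
  rw [hone su su'] at su'
  rw [hone sv sv'] at sv'
  have sx : Shifts (Wd wX) true := shifts_orb (r := 25) (by simp [reps12])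
  have hd2 : d.2 = true := by
    have := sd.unique ((su.mul sx).mul su')
    revert this; cases d.2 <;> cases bu <;> decide
  have hc2 : Shifts (Wd c.1) d.2 := by
    rw [← e, show v * m * u * Wd wX * (v * m * u)⁻¹ = v * (m * y * m⁻¹) * v⁻¹ by rw [hydef]; group]
    have := (sv.mul sz).mul sv'
    rwa [show xor (xor bv d.2) bv = d.2 by cases bv <;> cases d.2 <;> rfl] at this
  rw [(shifts_cands reps12 (fun _ h => h) c hc).unique hc2, hd2]

/-- The root element of order four. -/
noncomputable def xx : ↥G2 := ⟨Wd wX, mem25⟩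

theorem xx_pow_four : xx ^ 4 = 1 := by
  refine Subtype.ext ?_
  show Wd wX ^ 4 = 1
  rw [show Wd wX ^ 4 = Wd wX * Wd wX * (Wd wX * Wd wX) by rw [show 4 = 2 + 2 from rfl, pow_add, pow_two],
    ← Wd_append, ← Wd_append,
    Wd_eq_of_eqChk x_sq_chk.2, Wd_nil]

/-- The transfer of the parity. -/
noncomputable def psi : ↥G2 →* Multiplicative (ZMod 2) := MonoidHom.transfer par

theorem par_conj (u : U2) (g : ↥G2) (n : ℕ) (hd : n ∣ 4) (hu : (u : ↥G2) = g⁻¹ * xx ^ n * g) :
    par u = (Multiplicative.ofAdd (1 : ZMod 2)) ^ n := by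
  obtain ⟨c, hc, e⟩ := exists_cand (g := (u : ↥G2)) u.2
  rw [par_eq hc e]
  obtain ⟨k, hk, rfl⟩ := (Nat.dvd_prime_pow Nat.prime_two (m := 2)).1 hd
  rcases Nat.eq_zero_or_pos k with rfl | hk0
  · have e' : (g : GL chevF4.Idx (ZMod 2))⁻¹ * Wd wX * ((g : GL chevF4.Idx (ZMod 2))⁻¹)⁻¹ = Wd c.1 := by
      rw [← e, hu, inv_inv, pow_zero, pow_one, Subgroup.coe_mul, Subgroup.coe_mul, Subgroup.coe_inv]
      rfl
    rw [odd_of_conj hc (inv_mem g.2) e']
    rfl
  · have hev : (Multiplicative.ofAdd (1 : ZMod 2)) ^ 2 ^ k = 1 := by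
      interval_cases k <;> decide
    rw [hev]
    rcases Bool.eq_false_or_eq_true c.2 with hb | hb
    · refine absurd ?_ (witness hc hb)
      have h2 : g⁻¹ * xx ^ 2 ^ k * g * (g⁻¹ * xx ^ 2 ^ k * g) = 1 := by
        rw [show g⁻¹ * xx ^ 2 ^ k * g * (g⁻¹ * xx ^ 2 ^ k * g) =
          g⁻¹ * (xx ^ 2 ^ k * xx ^ 2 ^ k) * g by group, ← pow_add]
        interval_cases k
        · rw [show (2 : ℕ) ^ 1 + 2 ^ 1 = 4 by norm_num, xx_pow_four, mul_one, inv_mul_cancel]
        · rw [show (2 : ℕ) ^ 2 + 2 ^ 2 = 4 + 4 by norm_num, pow_add, xx_pow_four, mul_one, mul_one,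
            inv_mul_cancel]
      rw [← hu] at h2
      rw [← e, ← Subgroup.coe_mul, h2, OneMemClass.coe_one]
    · rw [hb]; rfl

theorem psi_x : psi xx = Multiplicative.ofAdd 1 := by
  classical
  rw [psi, MonoidHom.transfer_eq_prod_quotient_orbitRel_zpowers_quot]
  refine (Finset.prod_congr rfl fun q _ => par_conj _ q.out.out
    (Function.minimalPeriod (xx • ·) q.out) ?_ ?_).trans ?_
  · refine Function.IsPeriodicPt.minimalPeriod_dvd ?_
    show (xx • ·)^[4] q.out = q.out
    simp only [smul_iterate, xx_pow_four, one_smul]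
  · rfl
  rw [Finset.prod_pow_eq_pow_sum]
  have hne : ∀ q : Quotient (MulAction.orbitRel (Subgroup.zpowers xx) (↥G2 ⧸ U2)),
      NeZero (Function.minimalPeriod (xx • ·) q.out) := fun q => by
    refine ⟨(Function.IsPeriodicPt.minimalPeriod_pos (n := 4) (by norm_num) ?_).ne'⟩
    show (xx • ·)^[4] q.out = q.out
    simp only [smul_iterate, xx_pow_four, one_smul]
  have hsum := index_U2
  rw [Subgroup.index_eq_card, Nat.card_congr (Subgroup.quotientEquivSigmaZMod U2 xx),
    Nat.card_sigma, Finset.sum_congr rfl fun q _ => Nat.card_zmod _] at hsum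
  rw [hsum]
  decide

end CfsgLib.Chev.F4Two
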