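import Cfsg.Agent.Lib.Chev.TwistDataG2
import Cfsg.Agent.Lib.Chev.TwistFinal
import Cfsg.Agent.Lib.Chev.TwistWord
import Cfsg.Agent.Lib.Chev.OrderData
import Cfsg.Prelude.Def_LieTwisted

/-!
The small Ree groups as the fixed points of a twist, in characteristic three.
-/

set_option autoImplicit false
set_option maxRecDepth 100000
set_option linter.unusedSectionVars false

namespace CfsgLib.Chev

open Cfsg.Lie Matrix
open Cert (torusHom extC extC_ne_zero)

theorem signTwG2 : ((List.range tabG2.n).all fun r =>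
    decide (twistG2.dg (tabG2.neg r) = twistG2.dg r ∧ twistG2.ep r = 1 ∧
      (twistG2.dg r = 1 ∨ twistG2.dg r = 3))) = true := by
  decide +kernel

theorem simpleTwG2 :
    ((List.range tabG2.l).all fun i => decide (twistG2.ep (tabG2.simple i) = 1)) = true := by
  decide +kernel

/-- The inverse of the Cartan matrix of type G2. -/
noncomputable def invCartanG2 : Matrix (Fin tabG2.l) (Fin tabG2.l) ℤ :=
  matOf tabG2.l [[2, 1], [3, 2]]

theorem invCartanG2_mul_smul : invCartanG2 * cartanT tabG2 = ((1 : ℕ) : ℤ) • 1 := by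
  decide +kernel

/-- The longest element, as a product of generators. -/
theorem wordLongG2 : chkWordEq tabG2 3 [(8, 1), (10, 1), (3, -1), (1, -1), (8, 1), (10, 1)]
    (nIntWord tabG2 [0, 1, 0, 1, 0, 1]) = true := by
  decide +kernel

/-- The involution of the torus, as a product of generators. -/
theorem wordInvolG2 : chkWordEq tabG2 3
    [(7, 1), (6, 1), (8, 1), (9, 1), (10, 0), (11, 0), (3, 1), (1, 1), (2, 1), (0, 1), (9, 1),
      (11, 1), (3, 1), (1, 1)]
    [(7, -1), (4, 1), (7, -1), (7, -1), (4, 1), (7, -1), (6, -1), (5, 1), (6, -1), (6, -1), (5, 1),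
      (6, -1)] = true := by
  decide +kernel

variable {K : Type*} [Field K] [Fintype K] [CharP K 3] {e : ℕ}

/-- The twist of `G₂(K)` with the field map `f`. -/
noncomputable def endoG2 (f : K →+* K) : Endo certG2 K :=
  Endo.ofTwist certG2 chkTwistG2 chkFaithImgG2 chkFaithSrcG2 f (RootSym.of_chk chkSymTwG2)
    (fun r hr => by
      have h1 := signTwG2
      simp only [List.all_eq_true, List.mem_range, decide_eq_true_eq] at h1
      refine ⟨(h1 r hr).1, ?_⟩
      rw [(h1 _ (Cert.neg_lt hr)).2.1, (h1 r hr).2.1, Int.cast_one, one_mul]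
      rcases (h1 r hr).2.2 with h | h <;> rw [h] <;> ring)
    simpleTwG2

section

variable (f : K →+* K) (hf : ∀ t, f t = t ^ e)
include hf

lemma τG2_eq {r k : ℕ} (hr : twistG2.ep r = 1 ∧ twistG2.dg r = k) (t : K) :
    (endoG2 f).τ r t = (t ^ e) ^ k := by
  show (twistG2.ep r : K) * f t ^ twistG2.dg r = _
  rw [hr.1, hr.2, hf]; simp

omit hf in
lemma pow_fullG2 (hK : Fintype.card K = 3 * e ^ 2) (t : K) : ((t ^ e) ^ e) ^ 3 = t := by
  rw [← pow_mul, ← pow_mul, show e * (e * 3) = Fintype.card K by rw [hK]; ring,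
    FiniteField.pow_card]

omit hf in
lemma pow_full'G2 (hK : Fintype.card K = 3 * e ^ 2) (t : K) : ((t ^ e) ^ 3) ^ e = t := by
  rw [← pow_mul, ← pow_mul, show e * (3 * e) = Fintype.card K by rw [hK]; ring,
    FiniteField.pow_card]

omit hf in
/-- The roots of a class of type G₂ with the terms of the first two. -/
noncomputable def chkClassG2 (a b c d g k : ℕ) (k1 k2 k3 k4 : ℤ) : Bool :=
  decide (b ≠ a) && (decide (b ≠ tabG2.neg a) &&
    (decide (tabG2.commTerms a b = [(c, k1, 1, 1), (d, k2, 2, 1), (g, k3, 3, 1), (k, k4, 3, 2)]) &&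
    (decide (twistG2.rt a = b ∧ twistG2.rt b = a ∧ twistG2.rt c = g ∧ twistG2.rt g = c ∧
      twistG2.rt d = k ∧ twistG2.rt k = d) &&
    (decide (a < tabG2.n ∧ b < tabG2.n ∧ c < tabG2.n ∧ d < tabG2.n ∧ g < tabG2.n ∧ k < tabG2.n) &&
    (decide (twistG2.ep a = 1 ∧ twistG2.ep b = 1 ∧ twistG2.ep c = 1 ∧ twistG2.ep d = 1 ∧
      twistG2.ep g = 1 ∧ twistG2.ep k = 1) &&
    (decide (twistG2.dg a = 3 ∧ twistG2.dg b = 1 ∧ twistG2.dg c = 3 ∧ twistG2.dg d = 3 ∧
      twistG2.dg g = 1 ∧ twistG2.dg k = 1) &&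
    (chkCommuteMod tabG2 3 c d && (chkCommuteMod tabG2 3 c g && (chkCommuteMod tabG2 3 c k &&
    (chkCommuteMod tabG2 3 d g && (chkCommuteMod tabG2 3 d k && chkCommuteMod tabG2 3 g k)))))))))))

omit hf in
/-- Moving the second root past the first. -/
lemma swapG2 {a b c d g k : ℕ} {k1 k2 k3 k4 : ℤ}
    (hck : chkClassG2 a b c d g k k1 k2 k3 k4 = true) (s t : K) :
    X chevG2 b t * X chevG2 a s = X chevG2 a s * (X chevG2 b t *
      (X chevG2 c ((k1 : K) * -s * t) * X chevG2 d ((k2 : K) * (-s) ^ 2 * t) *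
        X chevG2 g ((k3 : K) * (-s) ^ 3 * t) * X chevG2 k ((k4 : K) * (-s) ^ 3 * t ^ 2))) := by
  simp only [chkClassG2, Bool.and_eq_true, decide_eq_true_eq] at hck
  obtain ⟨hne, hneg, hterm, -, ⟨ha, hb, -⟩, -⟩ := hck
  have e1 := certG2.X_conj ha hb hne hneg s t
  simp only [hterm, List.map_cons, List.map_nil, List.prod_cons, List.prod_nil, mul_one,
    pow_one, ← mul_assoc] at e1
  simp only [← mul_assoc]
  rw [mul_assoc (X chevG2 a s) (X chevG2 b t)]
  rw [show X chevG2 b t * X chevG2 a s =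
    X chevG2 a s * (X chevG2 a (-s) * X chevG2 b t * X chevG2 a s) by
      rw [← certG2.X_inv ha]; group, e1]
  simp only [mul_assoc]

lemma class_mem_fixG2 (hK : Fintype.card K = 3 * e ^ 2) {a b c d g k : ℕ} {k1 k2 k3 k4 : ℤ}
    (hck : chkClassG2 a b c d g k k1 k2 k3 k4 = true) {s t p P u v : K}
    (hs : s = t ^ e) (hp : p = (k1 : K) * -s * t + u ^ e) (hP : P = (k2 : K) * (-s) ^ 2 * t + v ^ e)
    (hu : (k3 : K) * (-s) ^ 3 * t + (p ^ e) ^ 3 = u)
    (hv : (k4 : K) * (-s) ^ 3 * t ^ 2 + (P ^ e) ^ 3 = v) :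
    X chevG2 a s * X chevG2 b t * X chevG2 c p * X chevG2 d P * X chevG2 g u * X chevG2 k v ∈
      (endoG2 f).fix := by
  have hsw := swapG2 hck s t
  simp only [chkClassG2, Bool.and_eq_true, decide_eq_true_eq] at hck
  obtain ⟨-, -, -, ⟨ra, rb, rc, rg, rd, rk⟩, ⟨ha, hb, hc, hd, hg, hk⟩, ⟨ea, eb, ec, ed, eg, ek⟩,
    ⟨da, db, dc, dd, dg, dk⟩, hcd, hcg, hck, hdg, hdk, hgk⟩ := hck
  have m : ∀ {r : ℕ}, r < tabG2.n → ∀ x : K, X chevG2 r x ∈ chevG2.group K :=
    fun hr x => certG2.X_mem_group hr x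
  refine (endoG2 f).mem_fix.2
    ⟨mul_mem (mul_mem (mul_mem (mul_mem (mul_mem (m ha _) (m hb _)) (m hc _)) (m hd _)) (m hg _))
      (m hk _), ?_⟩
  rw [(endoG2 f).act_mul
      (mul_mem (mul_mem (mul_mem (mul_mem (m ha _) (m hb _)) (m hc _)) (m hd _)) (m hg _)) (m hk _),
    (endoG2 f).act_mul (mul_mem (mul_mem (mul_mem (m ha _) (m hb _)) (m hc _)) (m hd _)) (m hg _),
    (endoG2 f).act_mul (mul_mem (mul_mem (m ha _) (m hb _)) (m hc _)) (m hd _),
    (endoG2 f).act_mul (mul_mem (m ha _) (m hb _)) (m hc _),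
    (endoG2 f).act_mul (m ha _) (m hb _), (endoG2 f).act_X ha, (endoG2 f).act_X hb,
    (endoG2 f).act_X hc, (endoG2 f).act_X hd, (endoG2 f).act_X hg, (endoG2 f).act_X hk,
    τG2_eq f hf ⟨ea, da⟩, τG2_eq f hf ⟨eb, db⟩, τG2_eq f hf ⟨ec, dc⟩, τG2_eq f hf ⟨ed, dd⟩,
    τG2_eq f hf ⟨eg, dg⟩, τG2_eq f hf ⟨ek, dk⟩, pow_one, pow_one, pow_one, ← hs,
    show (s ^ e) ^ 3 = t by rw [hs, pow_fullG2 hK]]
  show X chevG2 (twistG2.rt a) _ * X chevG2 (twistG2.rt b) _ * X chevG2 (twistG2.rt c) _ *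
    X chevG2 (twistG2.rt d) _ * X chevG2 (twistG2.rt g) _ * X chevG2 (twistG2.rt k) _ = _
  rw [ra, rb, rc, rd, rg, rk, hsw]
  generalize hA : (k1 : K) * -s * t = A at hp
  generalize hB : (k2 : K) * (-s) ^ 2 * t = B at hP
  generalize hC : (k3 : K) * (-s) ^ 3 * t = C' at hu
  generalize hD : (k4 : K) * (-s) ^ 3 * t ^ 2 = D' at hv
  simp only [mul_assoc]
  congr 2
  have cgk := (certG2.commute_X_mod (p := 3) hgk ((p ^ e) ^ 3) D').eq
  have ckc := (certG2.commute_X_mod (p := 3) hck (u ^ e) v).eq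
  have cgc := (certG2.commute_X_mod (p := 3) hcg (u ^ e) u).eq
  have cdc := (certG2.commute_X_mod (p := 3) hcd (u ^ e) B).eq
  have ckd := (certG2.commute_X_mod (p := 3) hdk (v ^ e) v).eq
  have cgd := (certG2.commute_X_mod (p := 3) hdg (v ^ e) u).eq
  rw [← mul_assoc (X chevG2 k D'), ← cgk, mul_assoc (X chevG2 g ((p ^ e) ^ 3)),
    ← mul_assoc (X chevG2 k D'), certG2.X_add hk, hv, ← mul_assoc (X chevG2 g C'),
    certG2.X_add hg, hu, ← mul_assoc (X chevG2 k v), ← ckc, mul_assoc (X chevG2 c (u ^ e)),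
    ← ckd, ← mul_assoc (X chevG2 g u), ← cgc, mul_assoc (X chevG2 c (u ^ e)),
    ← mul_assoc (X chevG2 g u), ← cgd, mul_assoc (X chevG2 d (v ^ e)),
    ← mul_assoc (X chevG2 d B), ← cdc, mul_assoc (X chevG2 c (u ^ e)),
    ← mul_assoc (X chevG2 d B), certG2.X_add hd, ← hP, ← mul_assoc (X chevG2 c A),
    certG2.X_add hc, ← hp]

lemma reeU_prod (t u v : K) :
    ((reeWordU e t u v).map fun p => X chevG2 p.1 p.2).prod =
      X chevG2 g2a (t ^ e) * X chevG2 g2b t * X chevG2 g2ab (t ^ (e + 1) + u ^ e) *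
        X chevG2 g2aab (t ^ (2 * e + 1) + v ^ e) * X chevG2 g2aaab u * X chevG2 g2aaabb v := by
  simp [reeWordU, mul_assoc]

lemma reeV_prod (t u v : K) :
    ((reeWordV e t u v).map fun p => X chevG2 p.1 p.2).prod =
      X chevG2 g2ma (-(t ^ e)) * X chevG2 g2mb (-t) * X chevG2 g2mab (-(t ^ (e + 1) + u ^ e)) *
        X chevG2 g2maab (-(t ^ (2 * e + 1) + v ^ e)) * X chevG2 g2maaab (-u) *
        X chevG2 g2maaabb (-v) := by
  have hn : ∀ r ∈ [g2a, g2b, g2ab, g2aab, g2aaab, g2aaabb], chevG2.negIdx.getD r 0 =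
      ([4, 5, 3, 2, 1, 0] : List ℕ).getD ([g2a, g2b, g2ab, g2aab, g2aaab, g2aaabb].idxOf r) 0 := by
    decide +kernel
  simp only [reeWordV, ChevalleyDatum.negWord, reeWordU, List.map_cons, List.map_nil,
    List.prod_cons, List.prod_nil, mul_one]
  rw [hn g2a (by simp), hn g2b (by simp), hn g2ab (by simp), hn g2aab (by simp),
    hn g2aaab (by simp), hn g2aaabb (by simp)]
  simp [g2a, g2b, g2ab, g2aab, g2aaab, g2aaabb, g2ma, g2mb, g2mab, g2maab, g2maaab, g2maaabb,
    mul_assoc, List.idxOf_cons]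

omit hf in
lemma natCast3G2 : (3 : K) = 0 := by
  simpa using CharP.cast_eq_zero K 3

lemma f_pow (x y : K) : (x + y) ^ e = x ^ e + y ^ e := by rw [← hf, map_add, hf, hf]

omit hf in
lemma add_cube (x y : K) : (x + y) ^ 3 = x ^ 3 + y ^ 3 := by
  linear_combination (x ^ 2 * y + x * y ^ 2) * natCast3G2 (K := K)

lemma e_ne_zero_G2 : e ≠ 0 := fun h => by
  subst h
  exact one_ne_zero ((show f 0 = 1 by rw [hf, pow_zero]).symm.trans (map_zero f))

lemma paramsG2 (hK : Fintype.card K = 3 * e ^ 2) (t u v : K) :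
    ((t ^ (e + 1) + u ^ e) ^ e) ^ 3 = (t ^ e) ^ 3 * t + u ∧
      ((t ^ (2 * e + 1) + v ^ e) ^ e) ^ 3 = (t ^ e) ^ 3 * t ^ 2 + v := by
  constructor
  · rw [f_pow f hf, add_cube, pow_fullG2 hK,
      show ((t ^ (e + 1)) ^ e) ^ 3 = ((t ^ e) ^ e) ^ 3 * (t ^ e) ^ 3 by ring, pow_fullG2 hK,
      mul_comm]
  · rw [f_pow f hf, add_cube, pow_fullG2 hK,
      show ((t ^ (2 * e + 1)) ^ e) ^ 3 = (((t ^ e) ^ e) ^ 3) ^ 2 * (t ^ e) ^ 3 by ring,
      pow_fullG2 hK, mul_comm]

theorem twistedG2_le_fix (hK : Fintype.card K = 3 * e ^ 2) :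
    twistedG2 K e ≤ (endoG2 f).fix := by
  refine certG2.genSubgroup_le ?_
  rintro w ⟨t, u, v, rfl | rfl⟩
  · obtain ⟨h1, h2⟩ := paramsG2 f hf hK t u v
    rw [reeU_prod f hf]
    refine class_mem_fixG2 f hf hK (k1 := -1) (k2 := 1) (k3 := 1) (k4 := 1) (by decide +kernel)
      rfl ?_ ?_ ?_ ?_
    · rw [pow_succ]; push_cast; ring
    · rw [pow_succ, mul_comm 2 e, pow_mul]; push_cast; ring
    · rw [h1]; push_cast; ring
    · rw [h2]; push_cast; ring
  · obtain ⟨h1, h2⟩ := paramsG2 f hf hK t u v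
    rw [reeV_prod f hf]
    refine class_mem_fixG2 f hf hK (k1 := 1) (k2 := 1) (k3 := -1) (k4 := 1) (by decide +kernel)
      ?_ ?_ ?_ ?_ ?_
    · rw [← hf, ← hf, map_neg]
    · rw [← hf (-u), map_neg, hf, pow_succ]; push_cast; ring
    · rw [← hf (-v), map_neg, hf, pow_succ, mul_comm 2 e, pow_mul]; push_cast; ring
    · rw [← hf (-(t ^ (e + 1) + u ^ e)), map_neg, hf,
        show (-((t ^ (e + 1) + u ^ e) ^ e)) ^ 3 = -(((t ^ (e + 1) + u ^ e) ^ e) ^ 3) by ring, h1]
      push_cast; ring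
    · rw [← hf (-(t ^ (2 * e + 1) + v ^ e)), map_neg, hf,
        show (-((t ^ (2 * e + 1) + v ^ e) ^ e)) ^ 3 = -(((t ^ (2 * e + 1) + v ^ e) ^ e) ^ 3) by ring,
        h2]
      push_cast; ring

lemma reeU_mem (t u v : K) :
    X chevG2 g2a (t ^ e) * X chevG2 g2b t * X chevG2 g2ab (t ^ (e + 1) + u ^ e) *
        X chevG2 g2aab (t ^ (2 * e + 1) + v ^ e) * X chevG2 g2aaab u * X chevG2 g2aaabb v ∈
      twistedG2 K e := by
  rw [← reeU_prod f hf]; exact certG2.prod_mem_genSubgroup ⟨t, u, v, Or.inl rfl⟩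

lemma reeV_mem (t u v : K) :
    X chevG2 g2ma (-(t ^ e)) * X chevG2 g2mb (-t) * X chevG2 g2mab (-(t ^ (e + 1) + u ^ e)) *
        X chevG2 g2maab (-(t ^ (2 * e + 1) + v ^ e)) * X chevG2 g2maaab (-u) *
        X chevG2 g2maaabb (-v) ∈ twistedG2 K e := by
  rw [← reeV_prod f hf]; exact certG2.prod_mem_genSubgroup ⟨t, u, v, Or.inr rfl⟩

omit hf in
lemma X_zeroG2 : ∀ r : ℕ, r < 12 → (X chevG2 r (0 : K) : GL chevG2.Idx K) = 1 :=
  fun r hr => certG2.X_zero (show r < tabG2.n from hr)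

lemma pairU_mem (u : K) : X chevG2 8 (u ^ e) * X chevG2 10 u ∈ twistedG2 K e := by
  simpa [g2a, g2b, g2ab, g2aab, g2aaab, g2aaabb, zero_pow (e_ne_zero_G2 f hf),
    zero_pow (show e + 1 ≠ 0 by omega), zero_pow (show 2 * e + 1 ≠ 0 by omega), X_zeroG2,
    mul_assoc] using reeU_mem f hf 0 u 0

lemma pairV_mem (u : K) : X chevG2 3 (-(u ^ e)) * X chevG2 1 (-u) ∈ twistedG2 K e := by
  simpa [g2ma, g2mb, g2mab, g2maab, g2maaab, g2maaabb, zero_pow (e_ne_zero_G2 f hf),
    zero_pow (show e + 1 ≠ 0 by omega), zero_pow (show 2 * e + 1 ≠ 0 by omega), X_zeroG2,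
    mul_assoc] using reeV_mem f hf 0 u 0

lemma nU_pair_memG2 (u : K) : nU chevG2 8 (u ^ e) * nU chevG2 10 u ∈ twistedG2 K e := by
  have e0 := certG2.prod_nU [(8, u ^ e), (10, u)] (by
    intro p hp
    simp only [List.mem_cons, List.not_mem_nil, or_false] at hp
    rcases hp with rfl | rfl
    · exact (by decide +kernel : 8 < tabG2.n)
    · exact (by decide +kernel : 10 < tabG2.n)) (by decide +kernel : chkPairwise tabG2 [8, 10] = true)
  simp only [List.map_cons, List.map_nil, List.prod_cons, List.prod_nil, mul_one] at e0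
  obtain ⟨n8, n10⟩ : tabG2.neg 8 = 3 ∧ tabG2.neg 10 = 1 := by decide +kernel
  rw [e0, n8, n10]
  have m2 := pairV_mem f hf u⁻¹
  rw [inv_pow] at m2
  exact mul_mem (mul_mem (pairU_mem f hf u) m2) (pairU_mem f hf u)

theorem long_memG2 : nW chevG2 K [0, 1, 0, 1, 0, 1] ∈ twistedG2 K e := by
  rw [certG2.nW_eq_intWord (wordOK_of_all (by decide +kernel)),
    ← certG2.prod_eq_of_chk (p := 3) wordLongG2]
  have m1 := pairU_mem f hf (1 : K)
  have m2 := pairV_mem f hf (1 : K)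
  simpa [mul_assoc] using mul_mem (mul_mem m1 m2) m1

theorem repsG2 (hK : Fintype.card K = 3 * e ^ 2) :
    (endoG2 f).Reps (twistedG2 K e) dataTwG2.CL := by
  intro c hc
  simp only [dataTwG2, List.mem_cons, List.not_mem_nil, or_false] at hc
  subst hc
  have hw : WordOK tabG2 [0, 1, 0, 1, 0, 1] := wordOK_of_all (by decide +kernel)
  exact ⟨_, long_memG2 f hf, twistedG2_le_fix f hf hK (long_memG2 f hf),
    certG2.nW_mem_monomial hw, fun r hr => certG2.Maps_nW hw hr⟩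

lemma fix_paramG2_eq (hK : Fintype.card K = 3 * e ^ 2) {c : Fin tabG2.l → Kˣ} :
    (endoG2 f).tor c = c ↔ c ⟨0, by decide⟩ = c ⟨1, by decide⟩ ^ e := by
  have hv : ∀ i, (endoG2 f).tor c ((endoG2 f).πf i) =
      c i ^ (e * ([3, 1] : List ℕ).getD i 0) := fun i => by
    refine Units.ext ?_
    have hs : ∀ j : Fin tabG2.l, twistG2.ep (tabG2.simple j) = 1 ∧
        twistG2.dg (tabG2.simple j) = ([3, 1] : List ℕ).getD j 0 := by
      decide +kernel
    rw [(endoG2 f).tor_val, τG2_eq f hf (hs i), Units.val_pow_eq_pow_val, pow_mul]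
  constructor
  · intro hc
    exact ((hv ⟨1, by decide⟩).symm.trans (congrFun hc _)).symm.trans
      (congrArg (c ⟨1, by decide⟩ ^ ·) (mul_one e))
  · intro h0
    funext k
    obtain ⟨j, rfl⟩ := (Finite.injective_iff_surjective.1 (endoG2 f).πf_injective) k
    rw [hv]
    obtain ⟨j, hj⟩ := j
    have hj' : j < 2 := hj
    interval_cases j
    · show c ⟨0, hj⟩ ^ (e * 3) = c ⟨1, _⟩
      refine Units.ext ?_
      rw [h0, Units.val_pow_eq_pow_val, Units.val_pow_eq_pow_val, pow_mul, pow_fullG2 hK]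
    · show c ⟨1, hj⟩ ^ (e * 1) = c ⟨0, _⟩
      rw [h0, mul_one]

omit hf in
lemma ker_trivialG2 {z : Fin tabG2.l → Kˣ}
    (hz : z ∈ (torusHom (D := chevG2) (T := tabG2) (F := K)).ker) : z = 1 :=
  funext fun i => (pow_one _).symm.trans (certG2.ker_pow invCartanG2_mul_smul hz i)

theorem exists_fix_paramG2 {c : Fin tabG2.l → Kˣ}
    (hz : c⁻¹ * (endoG2 f).tor c ∈ (torusHom (D := chevG2) (T := tabG2) (F := K)).ker) :
    ∃ c', (endoG2 f).tor c' = c' ∧
      torusHom (D := chevG2) (T := tabG2) c' = torusHom (D := chevG2) (T := tabG2) c :=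
  ⟨c, (inv_mul_eq_one.1 (ker_trivialG2 hz)).symm, rfl⟩

omit hf in
/-- The fixed parameters of the torus. -/
def parG2 (e : ℕ) (v : Kˣ) : Fin tabG2.l → Kˣ := fun i => ([v ^ e, v] : List Kˣ).getD i 1

omit hf in
lemma parG2_mul (u v : Kˣ) : parG2 e (u * v) = parG2 e u * parG2 e v := by
  funext i
  obtain ⟨i, hi⟩ := i
  have hi' : i < 2 := hi
  interval_cases i
  · exact mul_pow u v e
  · rfl

lemma tor_parG2 (hK : Fintype.card K = 3 * e ^ 2) (v : Kˣ) :
    (endoG2 f).tor (parG2 e v) = parG2 e v := (fix_paramG2_eq f hf hK).2 rfl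

lemma eq_parG2 (hK : Fintype.card K = 3 * e ^ 2) {c : Fin tabG2.l → Kˣ}
    (hc : (endoG2 f).tor c = c) : c = parG2 e (c ⟨1, by decide⟩) := by
  funext i
  obtain ⟨i, hi⟩ := i
  have hi' : i < 2 := hi
  interval_cases i
  · exact (fix_paramG2_eq f hf hK).1 hc
  · rfl

omit hf in
lemma odd_e_G2 (hK : Fintype.card K = 3 * e ^ 2) : Odd e := by
  have : Fact (Nat.Prime 3) := ⟨Nat.prime_three⟩
  obtain ⟨n, -, hn⟩ := FiniteField.card K 3
  by_contra h
  obtain ⟨k, rfl⟩ := Nat.not_odd_iff_even.1 h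
  have h2 : 2 ∣ 3 ^ (n : ℕ) := ⟨3 * k * (k + k), by rw [← hn, hK]; ring⟩
  exact absurd (Nat.prime_two.dvd_of_dvd_pow h2) (by decide)

omit hf in
lemma half_G2 (hK : Fintype.card K = 3 * e ^ 2) :
    ∃ n, Fintype.card K - 1 = 2 * n ∧ Odd n ∧ (3 * e + 1).Coprime n := by
  obtain ⟨k, rfl⟩ := odd_e_G2 hK
  refine ⟨6 * k ^ 2 + 6 * k + 1, ?_, ⟨3 * k ^ 2 + 3 * k, by ring⟩, ?_⟩
  · rw [hK]
    have : 3 * (2 * k + 1) ^ 2 = 2 * (6 * k ^ 2 + 6 * k + 1) + 1 := by ring
    omega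
  · refine Nat.coprime_of_dvd fun p hp h1 h2 => ?_
    have h3 : p ∣ 2 := by
      have e1 : 6 * (6 * k ^ 2 + 6 * k + 1) + 2 = (3 * (2 * k + 1) + 1) * (6 * k + 2) := by ring
      exact (Nat.dvd_add_right (h2.mul_left 6)).1 (e1 ▸ h1.mul_right _)
    rw [(Nat.prime_dvd_prime_iff_eq hp Nat.prime_two).1 h3] at h2
    rw [show 6 * k ^ 2 + 6 * k + 1 = 2 * (3 * k ^ 2 + 3 * k) + 1 by ring] at h2
    omega

theorem torusG2 (hK : Fintype.card K = 3 * e ^ 2) :
    (endoG2 f).fix ⊓ chevG2.diagonalSubgroup K ≤ twistedG2 K e := by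
  intro g hg
  obtain ⟨c, rfl, hz⟩ := (endoG2 f).exists_param hg
  obtain ⟨c', hc', e'⟩ := exists_fix_paramG2 f hf hz
  rw [← e', eq_parG2 f hf hK hc']
  generalize c' ⟨1, by decide⟩ = v
  have hn1 : (-1 : K) ^ e = -1 := by rw [← hf, map_neg, map_one]
  have hA : ∀ u : Kˣ, torusHom (D := chevG2) (T := tabG2) (parG2 e (u ^ (3 * e + 1))) ∈
      twistedG2 K e := by
    intro u
    have m1 := mul_mem (nU_pair_memG2 f hf (u : K)) (nU_pair_memG2 f hf (-1 : K))
    rw [hn1] at m1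
    have hc := certG2.commute_nU (F := K) (a := 8) (b := 10) (by decide +kernel)
      (by decide +kernel) (by decide +kernel) (-1) (u : K)
    have e1 : nU chevG2 8 ((u : K) ^ e) * nU chevG2 10 (u : K) *
        (nU chevG2 8 (-1 : K) * nU chevG2 10 (-1 : K)) =
        hU chevG2 8 ((u : K) ^ e) * hU chevG2 10 (u : K) := by
      simp only [hU]
      rw [mul_assoc, ← mul_assoc (nU chevG2 10 (u : K)), ← hc.eq]; group
    rw [e1, ← Units.val_pow_eq_pow_val, certG2.hU_eq_torusHom (by decide +kernel),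
      certG2.hU_eq_torusHom (by decide +kernel), ← map_mul] at m1
    convert m1 using 2
    have hcor : ∀ i : Fin tabG2.l, tabG2.cor 8 i = ([1, 3] : List ℤ).getD i 0 ∧
        tabG2.cor 10 i = ([1, 1] : List ℤ).getD i 0 := by decide +kernel
    funext i
    simp only [Pi.mul_apply, (hcor i).1, (hcor i).2]
    obtain ⟨i, hi⟩ := i
    have hi' : i < 2 := hi
    interval_cases i <;> simp [parG2]
    · refine Units.ext ?_
      simp only [Units.val_pow_eq_pow_val, Units.val_mul]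
      rw [← pow_mul, show (3 * e + 1) * e = Fintype.card K + e by rw [hK]; ring, pow_add,
        FiniteField.pow_card, mul_comm]
    · rw [← pow_mul, mul_comm e 3, pow_succ]
  have hI : torusHom (D := chevG2) (T := tabG2) (parG2 e (-1 : Kˣ)) ∈ twistedG2 K e := by
    have m0 := reeU_mem f hf (1 : K) 0 0
    have m10 := pairV_mem f hf (-1 : K)
    have m11 := reeV_mem f hf (0 : K) 0 (-1)
    have m2 := reeU_mem f hf (0 : K) 0 1
    have := mul_mem (mul_mem (mul_mem (mul_mem m0 m10) m11) m2) m10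
    have hz := e_ne_zero_G2 f hf
    have key : torusHom (D := chevG2) (T := tabG2) (parG2 e (-1 : Kˣ)) =
        hU chevG2 7 ((-1 : Kˣ) : K) * hU chevG2 6 ((-1 : Kˣ) : K) := by
      rw [certG2.hU_eq_torusHom (by decide +kernel), certG2.hU_eq_torusHom (by decide +kernel),
        ← map_mul]
      congr 1
      have hcor : ∀ i : Fin tabG2.l, tabG2.cor 7 i = ([1, 0] : List ℤ).getD i 0 ∧
          tabG2.cor 6 i = ([0, 1] : List ℤ).getD i 0 := by decide +kernel
      funext i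
      simp only [Pi.mul_apply, (hcor i).1, (hcor i).2]
      obtain ⟨i, hi⟩ := i
      have hi' : i < 2 := hi
      interval_cases i <;> simp [parG2]
      exact (odd_e_G2 hK).neg_one_pow
    rw [key]
    have ew : hU chevG2 7 ((-1 : Kˣ) : K) * hU chevG2 6 ((-1 : Kˣ) : K) =
        (([(7, -1), (4, 1), (7, -1), (7, -1), (4, 1), (7, -1), (6, -1), (5, 1), (6, -1), (6, -1),
          (5, 1), (6, -1)] : List (ℕ × ℤ)).map fun g => X chevG2 g.1 (g.2 : K)).prod := by
      obtain ⟨n7, n6⟩ : tabG2.neg 7 = 4 ∧ tabG2.neg 6 = 5 := by decide +kernel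
      simp [hU, nU, certG2.neg_eq (show 7 < tabG2.n by decide +kernel),
        certG2.neg_eq (show 6 < tabG2.n by decide +kernel), n7, n6, mul_assoc]
    rw [ew, ← certG2.prod_eq_of_chk (p := 3) wordInvolG2]
    simpa [g2a, g2b, g2ab, g2aab, g2aaab, g2aaabb, g2ma, g2mb, g2mab, g2maab, g2maaab, g2maaabb,
      zero_pow hz, zero_pow (show e + 1 ≠ 0 by omega), zero_pow (show 2 * e + 1 ≠ 0 by omega),
      hn1, X_zeroG2, mul_assoc] using this
  obtain ⟨n, hn, hodd, hcop⟩ := half_G2 hK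
  have hsq : ∀ w : Kˣ, w ^ n = 1 →
      torusHom (D := chevG2) (T := tabG2) (parG2 e w) ∈ twistedG2 K e := by
    intro w hw
    obtain ⟨a, ha⟩ := exists_pow_eq_self_of_coprime (hcop.coprime_dvd_right (orderOf_dvd_of_pow_eq_one hw))
    rw [← ha, ← pow_mul, mul_comm, pow_mul]
    exact hA _
  have hv2 : (v ^ n) ^ 2 = 1 := by
    rw [← pow_mul, mul_comm, ← hn, ← Nat.card_eq_fintype_card (α := K), ← Nat.card_units,
      pow_card_eq_one']
  have hv3 : (v : K) ^ n = 1 ∨ (v : K) ^ n = -1 := sq_eq_one_iff.1 (by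
    rw [← Units.val_pow_eq_pow_val, ← Units.val_pow_eq_pow_val, hv2, Units.val_one])
  rcases hv3 with h | h
  · exact hsq v (Units.ext (by rw [Units.val_pow_eq_pow_val, h, Units.val_one]))
  · rw [show v = -1 * (-v) by rw [neg_one_mul, neg_neg], parG2_mul, map_mul]
    refine mul_mem hI (hsq _ (Units.ext ?_))
    rw [Units.val_pow_eq_pow_val, Units.val_neg, hodd.neg_pow, h, neg_neg, Units.val_one]

omit hf in
lemma dataOK_G2 : (endoG2 f).DataOK dataTwG2 := Endo.DataOK.of_chk _ chkDataTwG2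

lemma base_cardG2 (hK : Fintype.card K = 3 * e ^ 2) :
    ∀ b ∈ dataTwG2.base, Nat.card ((endoG2 f).Adm b) ^ 2 = Fintype.card K ^ b.size := by
  intro b hb
  simp only [dataTwG2, List.mem_cons, List.not_mem_nil, or_false] at hb
  have key : ∀ r, twistG2.ep r = 1 ∧ twistG2.dg r = 1 →
      twistG2.ep (twistG2.rt r) = 1 ∧ twistG2.dg (twistG2.rt r) = 3 → ∀ t : K,
      (endoG2 f).τn 2 r t = t := fun r h1 h2 t => by
    show (endoG2 f).τ (twistG2.rt r) ((endoG2 f).τ r t) = t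
    rw [τG2_eq f hf h2, τG2_eq f hf h1, pow_one, pow_fullG2 hK]
  rcases hb with rfl | rfl | rfl <;>
    rw [Endo.card_adm_univ _ (key _ (by decide +kernel) (by decide +kernel)),
      Nat.card_eq_fintype_card]

lemma lift_baseG2 (hK : Fintype.card K = 3 * e ^ 2) :
    ∀ b ∈ dataTwG2.base, (endoG2 f).Lift (twistedG2 K e) b := by
  have hle := twistedG2_le_fix f hf hK
  have hz := e_ne_zero_G2 f hf
  intro b hb
  refine Endo.lift_of_word _ chkBaseTwG2 hb fun t ht => ?_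
  simp only [dataTwG2, List.mem_cons, List.not_mem_nil, or_false] at hb
  rcases hb with rfl | rfl | rfl
  · have k1 : ((reeWordU e t 0 0).map fun p => X chevG2 p.1 p.2).prod ∈ twistedG2 K e :=
      certG2.prod_mem_genSubgroup ⟨t, 0, 0, Or.inl rfl⟩
    refine ⟨_, ?_, k1, hle k1, ?_⟩
    · simp [reeWordU, Orb.list, List.range_succ, show (endoG2 f).ρ 6 = 7 from
        (by decide +kernel : twistG2.rt 6 = 7), g2a, g2b, g2ab, g2aab, g2aaab, g2aaabb]
    · simp [reeWordU, g2a, g2b, g2ab, g2aab, g2aaab, g2aaabb]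
  · have k1 : (([(8, t ^ e), (10, t)] : List (ℕ × K)).map fun p => X chevG2 p.1 p.2).prod ∈
        twistedG2 K e := by
      simpa using pairU_mem f hf t
    refine ⟨_, ?_, k1, hle k1, ?_⟩
    · simp [Orb.list, List.range_succ, show (endoG2 f).ρ 10 = 8 from
        (by decide +kernel : twistG2.rt 10 = 8)]
    · simp
  · have k1 : (([(9, t ^ e), (11, t)] : List (ℕ × K)).map fun p => X chevG2 p.1 p.2).prod ∈
        twistedG2 K e := by
      simpa [g2a, g2b, g2ab, g2aab, g2aaab, g2aaabb, zero_pow hz,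
        zero_pow (show e + 1 ≠ 0 by omega), zero_pow (show 2 * e + 1 ≠ 0 by omega), X_zeroG2,
        mul_assoc] using reeU_mem f hf 0 0 t
    refine ⟨_, ?_, k1, hle k1, ?_⟩
    · simp [Orb.list, List.range_succ, show (endoG2 f).ρ 11 = 9 from
        (by decide +kernel : twistG2.rt 11 = 9)]
    · simp

theorem stdG2 (hK : Fintype.card K = 3 * e ^ 2) : (endoG2 f).Std dataTwG2 (twistedG2 K e) :=
  ⟨dataOK_G2 f, repsG2 f hf hK, torusG2 f hf hK, lift_baseG2 f hf hK⟩

theorem hcardG2 (hK : Fintype.card K = 3 * e ^ 2) :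
    ∀ o ∈ dataTwG2.L, Nat.card ((endoG2 f).Adm o) ^ 2 = Fintype.card K ^ o.size := by
  intro o ho
  obtain ⟨-, b, hb, e1, e2⟩ := (stdG2 f hf hK).lifts _ o ho
  rw [e1, e2]
  exact base_cardG2 f hf hK b hb

theorem fix_eq_twistedG2 (hK : Fintype.card K = 3 * e ^ 2) :
    (endoG2 f).fix = twistedG2 K e :=
  le_antisymm ((endoG2 f).fix_le (stdG2 f hf hK) (hcardG2 f hf hK))
    (twistedG2_le_fix f hf hK)

theorem std_fixG2 (hK : Fintype.card K = 3 * e ^ 2) :
    (endoG2 f).Std dataTwG2 (endoG2 f).fix := by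
  rw [fix_eq_twistedG2 f hf hK]; exact stdG2 f hf hK

theorem card_posG2 (hK : Fintype.card K = 3 * e ^ 2) :
    Nat.card ↥((endoG2 f).fix ⊓ chevG2.posUnipotent K) = Fintype.card K ^ 3 := by
  have := ((endoG2 f).fix_posUnipotent (dataOK_G2 f)
    (fun o ho => ((stdG2 f hf hK).lifts _ o ho).1) (hcardG2 f hf hK)).2
  rw [show tabG2.half = 3 * 2 by decide +kernel, pow_mul] at this
  exact Nat.pow_left_injective two_ne_zero this

theorem card_diagG2 (hK : Fintype.card K = 3 * e ^ 2) :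
    Nat.card ↥((endoG2 f).fix ⊓ chevG2.diagonalSubgroup K) = Fintype.card K - 1 := by
  have h := (endoG2 f).card_diag_fix fun c hc => exists_fix_paramG2 f hf hc
  have hker : Nat.card ↥((torusHom (D := chevG2) (T := tabG2) (F := K)).ker ⊓
      (endoG2 f).fixPar) = 1 :=
    Subgroup.card_eq_one.2 (eq_bot_iff.2 fun z hz => Subgroup.mem_bot.2 (ker_trivialG2 hz.1))
  have e1 : Nat.card ↥(endoG2 f).fixPar = Nat.card Kˣ := Nat.card_congr
    { toFun := fun c => c.1 ⟨1, by decide⟩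
      invFun := fun v => ⟨parG2 e v, tor_parG2 f hf hK v⟩
      left_inv := fun c => Subtype.ext (eq_parG2 f hf hK c.2).symm
      right_inv := fun v => rfl }
  rw [hker, one_mul, e1, Nat.card_units, Nat.card_eq_fintype_card (α := K)] at h
  exact h

theorem card_twistG2 (hK : Fintype.card K = 3 * e ^ 2) :
    Nat.card ↥(endoG2 f).fix =
      Fintype.card K ^ 3 * (Fintype.card K - 1) * (Fintype.card K ^ 3 + 1) := by
  rw [(endoG2 f).card_fix (stdG2 f hf hK) two_ne_zero (hcardG2 f hf hK) chkElemsTwG2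
      dvdElemsTwG2, card_posG2 f hf hK, card_diagG2 f hf hK,
    sum_elems (Q := Fintype.card K) leElemsTwG2 countElemsTwG2]
  simp [List.range_succ, add_comm]

omit hf in
lemma charOf_parG2 (v : Kˣ) (r : ℕ) :
    charOf tabG2 (extC tabG2 (parG2 e v)) r =
      ((v : K) ^ e) ^ tabG2.car 0 r * (v : K) ^ tabG2.car 1 r := by
  rw [charOf, show tabG2.l = 2 from rfl, Finset.prod_range_succ, Finset.prod_range_one]
  simp [extC, parG2, show tabG2.l = 2 from rfl]

theorem perfectTwG2 (hK : Fintype.card K = 3 * e ^ 2) (he : 3 ≤ e) :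
    commutator ↥(endoG2 f).fix = ⊤ := by
  have heq := fix_eq_twistedG2 f hf hK
  have hstd := std_fixG2 f hf hK
  obtain ⟨g, hg⟩ := IsCyclic.exists_generator (α := Kˣ)
  have ho : orderOf g = Fintype.card K - 1 := by
    rw [orderOf_eq_card_of_forall_mem_zpowers hg, Nat.card_units, Nat.card_eq_fintype_card]
  have hee : 9 * e ≤ 3 * e ^ 2 := by nlinarith
  have hpow : ∀ n, 0 < n → n < Fintype.card K - 1 → (g : K) ^ n ≠ 1 := fun n h0 h1 h2 => by
    have := Nat.le_of_dvd h0 (orderOf_dvd_of_pow_eq_one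
      (Units.ext (by rwa [Units.val_pow_eq_pow_val, Units.val_one]) : g ^ n = 1))
    omega
  have g0 : (g : K) ≠ 0 := g.ne_zero
  refine (endoG2 f).perfect_fix (dataOK_G2 f) hstd.reps ?_ (hcardG2 f hf hK) ?_
  · intro b hb
    have hl : (endoG2 f).Lift (endoG2 f).fix b := hstd.lift b hb
    have hA := (endoG2 f).torusHom_mem_fix (tor_parG2 f hf hK g)
    simp only [dataTwG2, List.mem_cons, List.not_mem_nil, or_false] at hb
    rcases hb with rfl | rfl | rfl
    · refine Endo.Lift.comm _ chkBaseTwG2 (by simp [dataTwG2])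
        (by decide +kernel : twistG2.rt^[2] 6 = 6) hA (fun i _ => extC_ne_zero _ i) rfl ?_ hl
      rw [charOf_parG2, show tabG2.car 0 6 = -3 by decide +kernel,
        show tabG2.car 1 6 = 2 by decide +kernel, _root_.zpow_neg, zpow_ofNat, zpow_ofNat, ne_eq,
        inv_mul_eq_one₀ (pow_ne_zero _ (pow_ne_zero _ g0)), ← pow_mul]
      intro h1
      refine hpow (e * 3 - 2) (by omega) (by omega) (mul_right_cancel₀ (pow_ne_zero 2 g0) ?_)
      rw [one_mul, ← pow_add, Nat.sub_add_cancel (by omega)]; exact h1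
    · refine Endo.Lift.comm _ chkBaseTwG2 (by simp [dataTwG2])
        (by decide +kernel : twistG2.rt^[2] 10 = 10) hA (fun i _ => extC_ne_zero _ i) rfl ?_ hl
      rw [charOf_parG2, show tabG2.car 0 10 = 3 by decide +kernel,
        show tabG2.car 1 10 = -1 by decide +kernel, zpow_ofNat, _root_.zpow_neg_one, ne_eq,
        mul_inv_eq_one₀ g0, ← pow_mul]
      intro h1
      refine hpow (e * 3 - 1) (by omega) (by omega) (mul_right_cancel₀ g0 ?_)
      rw [one_mul, ← pow_succ, Nat.sub_add_cancel (by omega)]; exact h1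
    · refine Endo.Lift.comm _ chkBaseTwG2 (by simp [dataTwG2])
        (by decide +kernel : twistG2.rt^[2] 11 = 11) hA (fun i _ => extC_ne_zero _ i) rfl ?_ hl
      rw [charOf_parG2, show tabG2.car 0 11 = 0 by decide +kernel,
        show tabG2.car 1 11 = 1 by decide +kernel, zpow_zero, zpow_one, one_mul]
      intro h1
      exact hpow 1 one_pos (by omega) (by rw [pow_one, h1])
  · refine Endo.fix_le_pos_neg _ heq.le (twistedG2_le_fix f hf hK) ?_ ?_
    · rintro w ⟨t, u, v, rfl | rfl⟩ p hp <;>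
        simp only [reeWordV, ChevalleyDatum.negWord, reeWordU, List.map_cons, List.map_nil,
          List.mem_cons, List.not_mem_nil, or_false] at hp <;>
        rcases hp with rfl | rfl | rfl | rfl | rfl | rfl <;> (dsimp only; decide +kernel)
    · rw [show tabG2.half = 6 by decide +kernel]
      rintro w ⟨t, u, v, rfl | rfl⟩ <;>
        simp only [reeWordV, ChevalleyDatum.negWord, reeWordU, List.map_cons, List.map_nil,
          List.mem_cons, List.not_mem_nil, or_false, forall_eq_or_imp, forall_eq] <;>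
        decide +kernel

end

theorem charThree_G2 {K : Type*} [Field K] [Fintype K] {m : ℕ}
    (hK : Fintype.card K = 3 ^ (2 * m + 1)) : CharP K 3 :=
  haveI : Fact (Nat.Prime 3) := ⟨Nat.prime_three⟩
  charP_of_card_eq_prime_pow hK

theorem setupG2 {K : Type*} [Field K] [Fintype K] [CharP K 3] {m : ℕ}
    (hK : Fintype.card K = 3 ^ (2 * m + 1)) :
    ∃ f : K →+* K, (∀ t, f t = t ^ 3 ^ m) ∧ Fintype.card K = 3 * (3 ^ m) ^ 2 :=
  haveI : Fact (Nat.Prime 3) := ⟨Nat.prime_three⟩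
  ⟨iterateFrobenius K 3 m, fun t => iterateFrobenius_def 3 m t, by rw [hK]; ring⟩

end CfsgLib.Chev
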