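import Cfsg.Agent.Lib.Chev.TwistG2Rank1
import Cfsg.Agent.Lib.Chev.SL2
import Cfsg.Agent.Lib.SL2.Unipotent
import Cfsg.Agent.Lib.SL2.Facts

/-!
The centralizer of the torus involution of the small Ree group: `2 × PSL₂(q)`.
-/

set_option autoImplicit false
set_option maxRecDepth 100000
set_option linter.unusedSectionVars false

namespace CfsgLib.Chev

open Cfsg.Lie Matrix
open scoped MatrixGroups

theorem pairsPsiG2 : ∀ a ∈ [8, 3], ∀ b ∈ [10, 1], chkCommuteMod tabG2 3 a b = true := by
  decide +kernel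

theorem wordSquareG2 : chkWordEq tabG2 3
    [(8, 1), (10, 1), (3, -1), (1, -1), (8, 1), (10, 1), (8, 1), (10, 1), (3, -1), (1, -1), (8, 1),
      (10, 1)] [] = true := by
  decide +kernel

/-- The homomorphism from the group of order two sending the generator to an involution. -/
def homZModTwo {G : Type*} [Group G] (x : G) (hx : x * x = 1) : Multiplicative (ZMod 2) →* G where
  toFun v := if v = 1 then 1 else x
  map_one' := if_pos rfl
  map_mul' v w := by
    have h : ∀ v : Multiplicative (ZMod 2), v = 1 ∨ v = Multiplicative.ofAdd 1 := by decide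
    rcases h v with rfl | rfl <;> rcases h w with rfl | rfl <;>
      simp [hx, show Multiplicative.ofAdd (1 : ZMod 2) * Multiplicative.ofAdd 1 = 1 by decide]

/-- A hom out of the group of order two is injective as soon as the generator moves. -/
lemma homZModTwo_eq {G : Type*} [Group G] (x : G) (hx : x * x = 1) (v : Multiplicative (ZMod 2)) :
    (v = 1 ∧ homZModTwo x hx v = 1) ∨ (v ≠ 1 ∧ homZModTwo x hx v = x) := by
  by_cases hv : v = 1
  · exact Or.inl ⟨hv, if_pos hv⟩
  · exact Or.inr ⟨hv, if_neg hv⟩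

variable {K : Type*} [Field K] [Fintype K] [CharP K 3] {e : ℕ} (f : K →+* K)
  (hf : ∀ t, f t = t ^ e)

/-- An upper transvection. -/
noncomputable def up2 (t : K) : SL(2, K) := SL2.upperHom (Multiplicative.ofAdd t)

/-- A lower transvection. -/
noncomputable def low2 (t : K) : SL(2, K) :=
  Matrix.SpecialLinearGroup.transvection (one_ne_zero : (1 : Fin 2) ≠ 0) t

lemma coe_up2 (t : K) : (up2 t : Matrix (Fin 2) (Fin 2) K) = !![1, t; 0, 1] := SL2.upperHom_coe _

lemma coe_low2 (t : K) : (low2 t : Matrix (Fin 2) (Fin 2) K) = !![1, 0; t, 1] := by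
  show Matrix.transvection (1 : Fin 2) 0 t = _
  ext i j
  fin_cases i <;> fin_cases j <;> simp [Matrix.transvection]

lemma sl2_top {H : Subgroup SL(2, K)} (h1 : ∀ t : K, up2 t ∈ H) (h2 : ∀ t : K, low2 t ∈ H) :
    H = ⊤ := by
  refine Classical.eq_top_of_transvection_mem H fun i j hij c => ?_
  match i, j, hij with
  | 0, 0, hij => exact absurd rfl hij
  | 0, 1, _ => exact h1 c
  | 1, 0, _ => exact h2 c
  | 1, 1, hij => exact absurd rfl hij

/-- The homomorphism of one root. -/
noncomputable def phiG2 {r : ℕ} (hr : r < tabG2.n) : SL(2, K) →* GL chevG2.Idx K :=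
  (certG2.exists_sl2_hom (F := K) hr).choose

lemma phiG2_mem {r : ℕ} (hr : r < tabG2.n) (g : SL(2, K)) :
    phiG2 hr g ∈ chevG2.rootSubgroup K r ⊔ chevG2.rootSubgroup K (tabG2.neg r) :=
  (certG2.exists_sl2_hom (F := K) hr).choose_spec.1 g

lemma phiG2_up {r : ℕ} (hr : r < tabG2.n) (t : K) : phiG2 hr (up2 t) = X chevG2 r t :=
  (certG2.exists_sl2_hom (F := K) hr).choose_spec.2.1 _ t (coe_up2 t)

lemma phiG2_low {r : ℕ} (hr : r < tabG2.n) (t : K) :
    phiG2 hr (low2 t) = X chevG2 (tabG2.neg r) t :=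
  (certG2.exists_sl2_hom (F := K) hr).choose_spec.2.2 _ t (coe_low2 t)

lemma commute_rootPairsG2 {x y : GL chevG2.Idx K}
    (hx : x ∈ chevG2.rootSubgroup K 8 ⊔ chevG2.rootSubgroup K 3)
    (hy : y ∈ chevG2.rootSubgroup K 10 ⊔ chevG2.rootSubgroup K 1) : Commute x y := by
  have hx' : x ∈ gen chevG2 K {a | a ∈ [8, 3]} := by
    refine (sup_le ?_ ?_ : _ ≤ gen chevG2 K {a | a ∈ [8, 3]}) hx <;>
      (rw [certG2.rootSubgroup_eq]; refine Subgroup.closure_mono ?_
       rintro _ ⟨r, rfl, t, rfl⟩; exact ⟨_, by simp, t, rfl⟩)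
  have hy' : y ∈ gen chevG2 K {b | b ∈ [10, 1]} := by
    refine (sup_le ?_ ?_ : _ ≤ gen chevG2 K {b | b ∈ [10, 1]}) hy <;>
      (rw [certG2.rootSubgroup_eq]; refine Subgroup.closure_mono ?_
       rintro _ ⟨r, rfl, t, rfl⟩; exact ⟨_, by simp, t, rfl⟩)
  have h1 : gen chevG2 K {a | a ∈ [8, 3]} ≤ Subgroup.centralizer {y} := by
    rw [gen, Subgroup.closure_le]
    rintro _ ⟨a, ha, t, rfl⟩
    rw [SetLike.mem_coe, Subgroup.mem_centralizer_singleton_iff]
    have h2 : gen chevG2 K {b | b ∈ [10, 1]} ≤ Subgroup.centralizer {X chevG2 a t} := by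
      rw [gen, Subgroup.closure_le]
      rintro _ ⟨b, hb, u, rfl⟩
      rw [SetLike.mem_coe, Subgroup.mem_centralizer_singleton_iff]
      exact ((certG2.commute_X_mod (p := 3) (pairsPsiG2 a ha b hb) t u).eq).symm
    exact (Subgroup.mem_centralizer_singleton_iff.1 (h2 hy')).symm
  exact Subgroup.mem_centralizer_singleton_iff.1 (h1 hx')

lemma lt8G2 : 8 < tabG2.n := by decide +kernel

lemma lt10G2 : 10 < tabG2.n := by decide +kernel

/-- The embedded `SL₂`. -/
noncomputable def psiG2 : SL(2, K) →* GL chevG2.Idx K :=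
  MonoidHom.mk' (fun g => phiG2 lt8G2 (Matrix.SpecialLinearGroup.map f g) *
      phiG2 lt10G2 g)
    fun g g' => by
      have hc : Commute (phiG2 (K := K) lt8G2
          (Matrix.SpecialLinearGroup.map f g')) (phiG2 lt10G2 g) := by
        have h1 := phiG2_mem lt8G2 (Matrix.SpecialLinearGroup.map f g')
        have h2 := phiG2_mem lt10G2 g
        rw [show tabG2.neg 8 = 3 by decide +kernel] at h1
        rw [show tabG2.neg 10 = 1 by decide +kernel] at h2
        exact commute_rootPairsG2 h1 h2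
      simp only [map_mul, mul_assoc]
      rw [← mul_assoc (phiG2 _ (Matrix.SpecialLinearGroup.map f g')), hc.eq]
      simp only [mul_assoc]

lemma psiG2_apply (g : SL(2, K)) : psiG2 f g =
    phiG2 lt8G2 (Matrix.SpecialLinearGroup.map f g) * phiG2 lt10G2 g := by
  unfold psiG2; rfl

lemma map_up2 (t : K) : Matrix.SpecialLinearGroup.map f (up2 t) = up2 (f t) := by
  refine Subtype.ext ?_
  rw [Matrix.SpecialLinearGroup.map_apply_coe, coe_up2, coe_up2]
  ext i j
  fin_cases i <;> fin_cases j <;> simp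

lemma map_low2 (t : K) : Matrix.SpecialLinearGroup.map f (low2 t) = low2 (f t) := by
  refine Subtype.ext ?_
  rw [Matrix.SpecialLinearGroup.map_apply_coe, coe_low2, coe_low2]
  ext i j
  fin_cases i <;> fin_cases j <;> simp

include hf

lemma psiG2_up (t : K) : psiG2 f (up2 t) = reeElt e (0, t, 0) := by
  rw [psiG2_apply, map_up2, phiG2_up, phiG2_up, reeElt_eq f hf, hf]
  simp [lowG2, zero_pow (e_ne_zero_G2 f hf), X_zeroG2]

lemma psiG2_up' (t : K) : psiG2 f (up2 t) = X chevG2 8 (t ^ e) * X chevG2 10 t := by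
  rw [psiG2_apply, map_up2, phiG2_up, phiG2_up, hf]

lemma psiG2_low (t : K) : psiG2 f (low2 t) = X chevG2 3 (t ^ e) * X chevG2 1 t := by
  rw [psiG2_apply, map_low2, phiG2_low, phiG2_low, hf, show tabG2.neg 8 = 3 by decide +kernel,
    show tabG2.neg 10 = 1 by decide +kernel]

lemma psiG2_low_neg (t : K) : psiG2 f (low2 t) ∈ chevG2.negUnipotent K := by
  rw [psiG2_low f hf, certG2.negUnipotent_eq]
  have h3 : 3 ∈ {r | r < tabG2.half} := by rw [Set.mem_ofPred_eq]; decide +kernel
  have h1 : 1 ∈ {r | r < tabG2.half} := by rw [Set.mem_ofPred_eq]; decide +kernel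
  exact mul_mem (X_mem_gen _ h3 _) (X_mem_gen _ h1 _)

lemma psiG2_mem_fix (hK : Fintype.card K = 3 * e ^ 2) (g : SL(2, K)) :
    psiG2 f g ∈ (endoG2 f).fix := by
  have htop : (endoG2 f).fix.comap (psiG2 f) = ⊤ := by
    refine sl2_top (fun t => ?_) fun t => ?_
    · rw [Subgroup.mem_comap]
      rw [psiG2_up f hf]
      exact (reeElt_mem f hf hK _).1
    · rw [Subgroup.mem_comap]
      have h1 : ((reeWordV e (0 : K) (-t) 0).map fun q => X chevG2 q.1 q.2).prod ∈ (endoG2 f).fix :=
        twistedG2_le_fix f hf hK (certG2.prod_mem_genSubgroup ⟨0, -t, 0, Or.inr rfl⟩)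
      rw [reeV_prod f hf] at h1
      rw [psiG2_low f hf]
      simpa [g2ma, g2mb, g2mab, g2maab, g2maaab, g2maaabb, zero_pow (e_ne_zero_G2 f hf), X_zeroG2,
        (odd_e_G2 hK).neg_pow] using h1
  exact (htop.ge (Subgroup.mem_top g) : g ∈ (endoG2 f).fix.comap (psiG2 f))

lemma psiG2_weyl : psiG2 f (up2 1 * low2 (-1) * up2 1) = n0G2 K := by
  rw [map_mul, map_mul, psiG2_up f hf, psiG2_low f hf, reeElt_eq f hf]
  have hodd : ((-1 : K)) ^ e = -1 := by rw [← hf, map_neg, map_one]
  have h1 := certG2.prod_eq_of_chk (F := K) (p := 3) wordLongG2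
  rw [← certG2.nW_eq_intWord long_word_okG2] at h1
  show _ = nW chevG2 K [0, 1, 0, 1, 0, 1]
  rw [← h1]
  simp [lowG2, zero_pow (e_ne_zero_G2 f hf), X_zeroG2, hodd, mul_assoc]

omit hf in
lemma weyl_sq : (up2 1 * low2 (-1) * up2 1 : SL(2, K)) * (up2 1 * low2 (-1) * up2 1) = -1 := by
  refine Subtype.ext ?_
  simp only [Matrix.SpecialLinearGroup.coe_mul, coe_up2, coe_low2,
    Matrix.SpecialLinearGroup.coe_neg, Matrix.SpecialLinearGroup.coe_one]
  ext i j
  fin_cases i <;> fin_cases j <;> simp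

lemma psiG2_neg_one : psiG2 f (-1 : SL(2, K)) = 1 := by
  rw [← weyl_sq, map_mul]
  have hodd : ((-1 : K)) ^ e = -1 := by rw [← hf, map_neg, map_one]
  have h1 := certG2.prod_eq_of_chk (F := K) (p := 3) wordSquareG2
  simp only [List.map_nil, List.prod_nil] at h1
  rw [map_mul, map_mul, psiG2_up f hf, psiG2_low f hf, reeElt_eq f hf, ← h1]
  simp [lowG2, zero_pow (e_ne_zero_G2 f hf), X_zeroG2, hodd, mul_assoc]

lemma psiG2_up_inj {t t' : K} (h : psiG2 f (up2 t) = psiG2 f (up2 t')) : t = t' := by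
  rw [psiG2_up f hf, psiG2_up f hf] at h
  exact congrArg (fun p => p.2.1) (reeElt_injective f hf h)

lemma psiG2_ker (hK : Fintype.card K = 3 * e ^ 2) {g : SL(2, K)} (hg : psiG2 f g = 1) :
    g = 1 ∨ g = -1 := by
  have hup0 : (up2 0 : SL(2, K)) = 1 := by
    refine Subtype.ext ?_
    rw [coe_up2, Matrix.SpecialLinearGroup.coe_one]
    exact Matrix.one_fin_two.symm
  -- the lower left entry vanishes
  have key : ∀ g : SL(2, K), psiG2 f g = 1 → (g : Matrix (Fin 2) (Fin 2) K) 1 0 = 0 := by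
    intro g hg
    by_contra hc
    set x := -((g : Matrix (Fin 2) (Fin 2) K) 0 0) / (g : Matrix (Fin 2) (Fin 2) K) 1 0 with hx
    obtain ⟨g', hg'⟩ : ∃ g' : SL(2, K), g' = up2 x * g * (up2 x)⁻¹ := ⟨_, rfl⟩
    have hg1 : psiG2 f g' = 1 := by rw [hg', map_mul, map_mul, hg, mul_one, map_inv, mul_inv_cancel]
    have e0 : (g' * up2 x : SL(2, K)) = up2 x * g := by rw [hg']; group
    have e00 := congrArg (fun m : SL(2, K) => (m : Matrix (Fin 2) (Fin 2) K) 0 0) e0
    simp only [Matrix.SpecialLinearGroup.coe_mul, coe_up2] at e00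
    simp [Matrix.mul_apply] at e00
    have h00 : (g' : Matrix (Fin 2) (Fin 2) K) 0 0 = 0 := by
      rw [e00, hx]; field_simp; ring
    have hdet := g'.2
    rw [Matrix.det_fin_two, h00, zero_mul, zero_sub] at hdet
    have heq : g' * up2 1 = low2 (-((g' : Matrix (Fin 2) (Fin 2) K) 1 0) ^ 2) * g' := by
      refine Subtype.ext ?_
      simp only [Matrix.SpecialLinearGroup.coe_mul, coe_up2, coe_low2]
      ext i j
      fin_cases i <;> fin_cases j <;> simp [Matrix.mul_apply, h00]
      linear_combination -((g' : Matrix (Fin 2) (Fin 2) K) 1 0) * hdet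
    have h1 := congrArg (psiG2 f) heq
    rw [map_mul, map_mul, hg1, one_mul, mul_one] at h1
    have h2 := psiG2_low_neg f hf (-((g' : Matrix (Fin 2) (Fin 2) K) 1 0) ^ 2)
    rw [← h1] at h2
    have h3 : psiG2 f (up2 (1 : K)) = 1 := Endo.neg_not_borel (h := certG2) h2 (by
      rw [psiG2_up f hf]; exact Subgroup.mem_sup_left (reeElt_mem f hf hK _).2)
    exact one_ne_zero (psiG2_up_inj f hf (t := (1 : K)) (t' := 0)
      (by rw [h3, hup0, map_one]))
  have hc := key g hg
  have hdet := g.2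
  rw [Matrix.det_fin_two, hc, mul_zero, sub_zero] at hdet
  have heq : g * up2 1 = up2 ((g : Matrix (Fin 2) (Fin 2) K) 0 0 ^ 2) * g := by
    refine Subtype.ext ?_
    simp only [Matrix.SpecialLinearGroup.coe_mul, coe_up2]
    ext i j
    fin_cases i <;> fin_cases j <;> simp [Matrix.mul_apply, hc]
    linear_combination -((g : Matrix (Fin 2) (Fin 2) K) 0 0) * hdet
  have h1 := congrArg (psiG2 f) heq
  rw [map_mul, map_mul, hg, one_mul, mul_one] at h1
  have ha2 := (psiG2_up_inj f hf h1).symm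
  have hd : (g : Matrix (Fin 2) (Fin 2) K) 1 1 = (g : Matrix (Fin 2) (Fin 2) K) 0 0 := by
    linear_combination ((g : Matrix (Fin 2) (Fin 2) K) 0 0) * hdet -
      ((g : Matrix (Fin 2) (Fin 2) K) 1 1) * ha2
  rcases sq_eq_one_iff.1 ha2 with ha | ha
  · left
    have e1 : g = up2 ((g : Matrix (Fin 2) (Fin 2) K) 0 1) := by
      refine Subtype.ext ?_
      rw [coe_up2]
      ext i j
      fin_cases i <;> fin_cases j <;> simp [hc, hd, ha]
    rw [e1] at hg
    rw [e1, psiG2_up_inj f hf (hg.trans (by rw [hup0, map_one] : (1 : GL chevG2.Idx K) =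
      psiG2 f (up2 0))), hup0]
  · right
    have e1 : g = -1 * up2 (-(g : Matrix (Fin 2) (Fin 2) K) 0 1) := by
      refine Subtype.ext ?_
      rw [Matrix.SpecialLinearGroup.coe_mul, coe_up2]
      ext i j
      fin_cases i <;> fin_cases j <;> simp [hc, hd, ha]
    rw [e1, map_mul, psiG2_neg_one f hf, one_mul] at hg
    rw [e1, psiG2_up_inj f hf (hg.trans (by rw [hup0, map_one] : (1 : GL chevG2.Idx K) =
      psiG2 f (up2 0))), hup0, mul_one]

omit hf in
/-- The involution of the fixed torus. -/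
noncomputable def invG2 (e : ℕ) : GL chevG2.Idx K := torG2Hom e (-1)

omit hf in
lemma even_psiRootsG2 : ∀ r ∈ [8, 10, 3, 1], Even (tabG2.car 0 r + tabG2.car 1 r) ∧ r < 12 := by
  decide +kernel

lemma invG2_mem (hK : Fintype.card K = 3 * e ^ 2) :
    invG2 (K := K) e ∈ (endoG2 f).fix ⊓ chevG2.diagonalSubgroup K :=
  (range_torG2Hom f hf hK).le ⟨-1, rfl⟩

omit hf in
lemma neg_one_ne_oneG2 : (-1 : Kˣ) ≠ 1 := fun h => by
  have h1 : (-1 : K) = 1 := by simpa using congrArg Units.val h
  have h2 : (2 : K) = 0 := by linear_combination -h1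
  exact one_ne_zero (by linear_combination natCast3G2 (K := K) - h2 : (1 : K) = 0)

lemma invG2_sq : invG2 (K := K) e * invG2 e = 1 := by
  rw [invG2, ← map_mul, neg_mul_neg, one_mul, map_one]

lemma invG2_ne_one : invG2 (K := K) e ≠ 1 := fun h =>
  neg_one_ne_oneG2 (torG2Hom_injective f hf (h.trans (map_one _).symm))

lemma invG2_comm_X {r : ℕ} (hr : r ∈ [8, 10, 3, 1]) (t : K) :
    invG2 e * X chevG2 r t = X chevG2 r t * invG2 e := by
  obtain ⟨⟨k, hk⟩, hr'⟩ := even_psiRootsG2 r hr
  have hodd : ((-1 : K)) ^ e = -1 := by rw [← hf, map_neg, map_one]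
  rw [invG2, ← mul_inv_eq_iff_eq_mul, torG2Hom_conj f hf _ hr', Units.val_neg, Units.val_one, hodd,
    ← zpow_add₀ (neg_ne_zero.2 one_ne_zero), hk, (Even.add_self k).neg_one_zpow, one_mul]

lemma invG2_comm_psi (g : SL(2, K)) :
    invG2 e * psiG2 f g = psiG2 f g * invG2 e := by
  have htop : (Subgroup.centralizer {invG2 (K := K) e}).comap (psiG2 f) = ⊤ := by
    refine sl2_top (fun t => ?_) fun t => ?_
    · rw [Subgroup.mem_comap, Subgroup.mem_centralizer_singleton_iff, psiG2_up' f hf]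
      exact ((show Commute (invG2 e) _ from invG2_comm_X f hf (by simp) _).mul_right
        (invG2_comm_X f hf (by simp) _)).eq.symm
    · rw [Subgroup.mem_comap, Subgroup.mem_centralizer_singleton_iff, psiG2_low f hf]
      exact ((show Commute (invG2 e) _ from invG2_comm_X f hf (by simp) _).mul_right
        (invG2_comm_X f hf (by simp) _)).eq.symm
  exact (Subgroup.mem_centralizer_singleton_iff.1
    (htop.ge (Subgroup.mem_top g) : g ∈ (Subgroup.centralizer {invG2 e}).comap (psiG2 f))).symm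

/-- The involution lies outside the embedded `SL₂`. -/
lemma invG2_ne_psi (hK : Fintype.card K = 3 * e ^ 2) (g : SL(2, K)) : psiG2 f g ≠ invG2 e := by
  intro hg
  have hcom : ∀ x : SL(2, K), g * x = x * g ∨ g * x = -(x * g) := by
    intro x
    have h1 := invG2_comm_psi f hf x
    rw [← hg, ← map_mul, ← map_mul] at h1
    rcases psiG2_ker f hf hK (g := g * x * (x * g)⁻¹)
      (by rw [map_mul, map_inv, h1, mul_inv_cancel]) with h | h
    · exact Or.inl (mul_inv_eq_one.1 h)
    · exact Or.inr (by rw [mul_inv_eq_iff_eq_mul.1 h, neg_mul, one_mul])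
  have h2 : (2 : K) ≠ 0 := fun h => one_ne_zero
    (by linear_combination natCast3G2 (K := K) - h : (1 : K) = 0)
  have hdet := g.2
  rw [Matrix.det_fin_two] at hdet
  set p := (g : Matrix (Fin 2) (Fin 2) K) 0 0 with hp
  set q := (g : Matrix (Fin 2) (Fin 2) K) 0 1 with hq
  set r := (g : Matrix (Fin 2) (Fin 2) K) 1 0 with hr
  set s := (g : Matrix (Fin 2) (Fin 2) K) 1 1 with hs
  have hup : (r = 0 ∧ p = s) ∨ (r = -2 * p ∧ r = -2 * s ∧ 2 * q = -(p + s)) := by
    rcases hcom (up2 1) with h | h <;>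
      have e00 := congrArg (fun m : SL(2, K) => (m : Matrix (Fin 2) (Fin 2) K) 0 0) h <;>
      have e01 := congrArg (fun m : SL(2, K) => (m : Matrix (Fin 2) (Fin 2) K) 0 1) h <;>
      have e11 := congrArg (fun m : SL(2, K) => (m : Matrix (Fin 2) (Fin 2) K) 1 1) h <;>
      simp [Matrix.mul_apply, Matrix.vecMul, dotProduct, Fin.sum_univ_two, coe_up2, ← hp, ← hq, ← hr,
        ← hs] at e00 e01 e11
    · exact Or.inl ⟨by linear_combination e11, by linear_combination e01⟩
    · exact Or.inr ⟨by linear_combination e00, by linear_combination e11, by linear_combination e01⟩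
  have hlow : (q = 0 ∧ p = s) ∨ (q = -2 * p ∧ q = -2 * s ∧ 2 * r = -(p + s)) := by
    rcases hcom (low2 1) with h | h <;>
      have e00 := congrArg (fun m : SL(2, K) => (m : Matrix (Fin 2) (Fin 2) K) 0 0) h <;>
      have e10 := congrArg (fun m : SL(2, K) => (m : Matrix (Fin 2) (Fin 2) K) 1 0) h <;>
      have e11 := congrArg (fun m : SL(2, K) => (m : Matrix (Fin 2) (Fin 2) K) 1 1) h <;>
      simp [Matrix.mul_apply, Matrix.vecMul, dotProduct, Fin.sum_univ_two, coe_low2, ← hp, ← hq, ← hr,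
        ← hs] at e00 e10 e11
    · exact Or.inl ⟨by linear_combination e00, by linear_combination -e10⟩
    · exact Or.inr ⟨by linear_combination e00, by linear_combination e11, by linear_combination e10⟩
  have h3 := natCast3G2 (K := K)
  have hscal : r = 0 ∧ q = 0 ∧ p = s := by
    rcases hup with ⟨u1, u2⟩ | ⟨u1, u2, u3⟩ <;> rcases hlow with ⟨l1, l2⟩ | ⟨l1, l2, l3⟩
    · exact ⟨u1, l1, u2⟩
    all_goals
      exfalso
      have hp0 : p = 0 := by grind
      have hs0 : s = 0 := by grind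
      refine one_ne_zero (α := K) ?_
      grind
  obtain ⟨hr0, hq0, hps⟩ := hscal
  rw [hr0, ← hps, hq0, mul_zero, sub_zero, ← pow_two] at hdet
  have e1 : g = 1 ∨ g = -1 := by
    refine (sq_eq_one_iff.1 hdet).imp (fun h => ?_) (fun h => ?_) <;>
      (refine Subtype.ext ?_; ext i j; fin_cases i <;> fin_cases j <;> simp [← hp, ← hq, ← hr, ← hs, hr0, hq0, ← hps, h])
  rcases e1 with rfl | rfl
  · exact invG2_ne_one f hf (hg.symm.trans (map_one _))
  · exact invG2_ne_one f hf (hg.symm.trans (psiG2_neg_one f hf))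

/-- The involution in the fixed points. -/
noncomputable def invEltG2 (hK : Fintype.card K = 3 * e ^ 2) : ↥(endoG2 f).fix :=
  ⟨invG2 e, (invG2_mem f hf hK).1⟩

lemma invEltG2_sq (hK : Fintype.card K = 3 * e ^ 2) :
    invEltG2 f hf hK * invEltG2 f hf hK = 1 :=
  Subtype.ext (invG2_sq f hf)

/-- The homomorphism onto the centralizer. -/
noncomputable def centHomG2 (hK : Fintype.card K = 3 * e ^ 2) :
    Multiplicative (ZMod 2) × (SL(2, K) ⧸ Subgroup.center SL(2, K)) →* ↥(endoG2 f).fix :=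
  MonoidHom.noncommCoprod
    (homZModTwo (invEltG2 f hf hK) (invEltG2_sq f hf hK))
    (QuotientGroup.lift (Subgroup.center SL(2, K))
      ((psiG2 f).codRestrict (endoG2 f).fix (psiG2_mem_fix f hf hK))
      (fun g hg => Subtype.ext (by
        rcases SL2.eq_one_or_eq_neg_one_of_mem_center g hg with rfl | rfl
        · exact map_one _
        · exact psiG2_neg_one f hf)))
    (fun v p => by
      induction p using QuotientGroup.induction_on with | H g => ?_
      rcases homZModTwo_eq _ (invEltG2_sq f hf hK) v with ⟨-, h⟩ | ⟨-, h⟩ <;> rw [h]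
      · exact Commute.one_left _
      · exact Subtype.ext (invG2_comm_psi f hf g))

lemma centHomG2_apply (hK : Fintype.card K = 3 * e ^ 2) (v : Multiplicative (ZMod 2))
    (g : SL(2, K)) :
    ((centHomG2 f hf hK (v, (g : SL(2, K) ⧸ Subgroup.center SL(2, K))) : ↥(endoG2 f).fix) :
      GL chevG2.Idx K) = (if v = 1 then 1 else invG2 e) * psiG2 f g := by
  rw [centHomG2, MonoidHom.noncommCoprod_apply, Subgroup.coe_mul]
  congr 1
  show ((if v = 1 then 1 else _ : ↥(endoG2 f).fix) : GL chevG2.Idx K) = _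
  split_ifs <;> rfl

lemma centHomG2_injective (hK : Fintype.card K = 3 * e ^ 2) :
    Function.Injective (centHomG2 f hf hK) := by
  rw [injective_iff_map_eq_one]
  rintro ⟨v, p⟩ h
  induction p using QuotientGroup.induction_on with | H g => ?_
  have h1 := (centHomG2_apply f hf hK v g).symm.trans (congrArg Subtype.val h)
  by_cases hv : v = 1
  · subst hv
    rw [if_pos rfl, one_mul] at h1
    refine Prod.ext rfl ((QuotientGroup.eq_one_iff g).2 ?_)
    rcases psiG2_ker f hf hK h1 with rfl | rfl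
    · exact one_mem _
    · exact SL2.neg_one_mem_center
  · rw [if_neg hv] at h1
    exact absurd (mul_eq_one_iff_eq_inv'.1 h1 |>.trans
      (inv_eq_of_mul_eq_one_right (invG2_sq f hf))) (invG2_ne_psi f hf hK g)

/-- The middle part of the unipotent radical. -/
lemma eq_middle_of_commG2 (hK : Fintype.card K = 3 * e ^ 2) {x : GL chevG2.Idx K}
    (hx : x ∈ (endoG2 f).fix ⊓ chevG2.posUnipotent K) (hc : invG2 e * x = x * invG2 e) :
    ∃ t, x = reeElt e (0, t, 0) := by
  obtain ⟨p, hp⟩ := (reeEquiv f hf hK).surjective ⟨x, hx⟩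
  obtain rfl : reeElt e p = x := congrArg Subtype.val hp
  refine ⟨p.2.1, congrArg (reeElt e) ?_⟩
  have h := mul_inv_eq_iff_eq_mul.2 hc
  rw [invG2, reeElt_eq f hf, lowG2, ← conj_mul, ← conj_mul, ← conj_mul, ← conj_mul, ← conj_mul,
    torG2Hom_conj f hf _ (by norm_num), torG2Hom_conj f hf _ (by norm_num),
    torG2Hom_conj f hf _ (by norm_num), torG2Hom_conj f hf _ (by norm_num),
    torG2Hom_conj f hf _ (by norm_num), torG2Hom_conj f hf _ (by norm_num), ← lowG2, ← lowG2] at h
  obtain ⟨-, h6, -, -, -, h11⟩ := coordG2_inj h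
  have hodd : ((-1 : K)) ^ e = -1 := by rw [← hf, map_neg, map_one]
  rw [Units.val_neg, Units.val_one, hodd, ← zpow_add₀ (neg_ne_zero.2 one_ne_zero),
    show tabG2.car 0 6 + tabG2.car 1 6 = -1 by decide +kernel] at h6
  rw [Units.val_neg, Units.val_one, hodd, ← zpow_add₀ (neg_ne_zero.2 one_ne_zero),
    show tabG2.car 0 11 + tabG2.car 1 11 = 1 by decide +kernel, zpow_one] at h11
  rw [_root_.zpow_neg_one, inv_neg, inv_one] at h6
  refine Prod.ext ?_ (Prod.ext rfl ?_)
  · linear_combination p.1 * natCast3G2 (K := K) + h6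
  · linear_combination p.2.2 * natCast3G2 (K := K) + h11

lemma n0G2_comm_inv :
    invG2 e * n0G2 K = n0G2 K * invG2 e := by
  rw [← psiG2_weyl f hf, invG2_comm_psi f hf]

lemma torG2_comm_inv (v : Kˣ) :
    invG2 e * torG2Hom e v = torG2Hom e v * invG2 e := by
  rw [invG2, ← map_mul, ← map_mul, mul_comm]

/-- The number of elements commuting with the involution is at most `q(q² - 1)`. -/
theorem card_centralizer_leG2 (hK : Fintype.card K = 3 * e ^ 2)
    (a : ↥(endoG2 f).fix) (ha : (a : GL chevG2.Idx K) = invG2 e) :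
    Nat.card ↥(Subgroup.centralizer {a}) ≤
      Nat.card (K × Kˣ) + Nat.card (K × Kˣ × K) := by
  classical
  let F : (K × Kˣ) ⊕ (K × Kˣ × K) → GL chevG2.Idx K := Sum.elim
    (fun p => reeElt e (0, p.1, 0) * torG2Hom e p.2)
    (fun p => reeElt e (0, p.1, 0) * torG2Hom e p.2.1 * n0G2 K * reeElt e (0, p.2.2, 0))
  have hsub : Subtype.val '' (Subgroup.centralizer {a} : Set ↥(endoG2 f).fix) ⊆ Set.range F := by
    rintro _ ⟨⟨g, hg⟩, hgc, rfl⟩
    have hcomm : invG2 e * g = g * invG2 e := by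
      rw [← ha]
      exact (congrArg Subtype.val (Subgroup.mem_centralizer_singleton_iff.1 hgc)).symm
    have hD := (invG2_mem f hf hK).2
    -- the decomposition of an element of the Borel subgroup
    have hborel : ∀ b ∈ (endoG2 f).fix ⊓ chevG2.borelSubgroup K, invG2 e * b = b * invG2 e →
        ∃ t v, b = reeElt e (0, t, 0) * torG2Hom e v := by
      intro b hb hc
      obtain ⟨x, hx, d, hd, rfl⟩ := (endoG2 f).borel_fix.1 hb
      obtain ⟨v, rfl⟩ := (range_torG2Hom f hf hK).ge hd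
      have hx' : invG2 e * x = x * invG2 e := by
        rw [← mul_assoc, mul_assoc x, ← torG2_comm_inv f hf v, ← mul_assoc] at hc
        exact mul_right_cancel hc
      obtain ⟨t, rfl⟩ := eq_middle_of_commG2 f hf hK hx hx'
      exact ⟨t, v, rfl⟩
    rcases cellsG2 f hf hK hg with hB | ⟨b, hb, u, hu, rfl⟩
    · obtain ⟨t, v, e1⟩ := hborel g ⟨hg, hB⟩ hcomm
      exact ⟨Sum.inl (t, v), e1.symm⟩
    set c := invG2 (K := K) e with hc
    have hci : c⁻¹ = c := inv_eq_of_mul_eq_one_right (invG2_sq f hf)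
    have hn : c * n0G2 K * c⁻¹ = n0G2 K := by rw [n0G2_comm_inv f hf, mul_inv_cancel_right]
    have hg' : c * b * c⁻¹ * n0G2 K * (c * u * c⁻¹) = b * n0G2 K * u := by
      calc _ = c * b * c⁻¹ * (c * n0G2 K * c⁻¹) * (c * u * c⁻¹) := by rw [hn]
        _ = c * (b * n0G2 K * u) * c⁻¹ := by group
        _ = _ := mul_inv_eq_iff_eq_mul.2 hcomm
    have hu' : c * u * c⁻¹ ∈ chevG2.posUnipotent K := (Subgroup.mem_normalizer_iff.1
      (certG2.diagonal_le_normalizer_posUnipotent hD) u).1 hu.2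
    have hz : u * (c * u * c⁻¹)⁻¹ = 1 := by
      refine freeG2 f hf (mul_mem hu.2 (inv_mem hu')) (one_mem _) ?_
      rw [mul_one]
      have e2 : n0G2 K * (u * (c * u * c⁻¹)⁻¹) * (n0G2 K)⁻¹ = b⁻¹ * (c * b * c⁻¹) := by
        rw [eq_inv_mul_iff_mul_eq, ← mul_assoc, ← mul_assoc, ← mul_assoc, ← hg']
        group
      have hB : n0G2 K * (u * (c * u * c⁻¹)⁻¹) * (n0G2 K)⁻¹ ∈ chevG2.borelSubgroup K := by
        rw [e2]
        exact mul_mem (inv_mem hb.2) (mul_mem (mul_mem (Subgroup.mem_sup_right hD) hb.2)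
          (inv_mem (Subgroup.mem_sup_right hD)))
      have h3 := Endo.neg_not_borel (h := certG2)
        (n0G2_conj_pos (mul_mem hu.2 (inv_mem hu'))).1 hB
      rw [conj_eq_one_iff.1 h3, mul_one, inv_mul_cancel]
      exact one_mem _
    have hu1 : c * u = u * c := mul_inv_eq_iff_eq_mul.1 (mul_inv_eq_one.1 hz).symm
    have hb1 : c * b = b * c := by
      rw [(mul_inv_eq_one.1 hz).symm] at hg'
      exact mul_inv_eq_iff_eq_mul.1 (mul_right_cancel (mul_right_cancel hg'))
    obtain ⟨t, v, rfl⟩ := hborel b hb hb1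
    obtain ⟨s, rfl⟩ := eq_middle_of_commG2 f hf hK hu hu1
    exact ⟨Sum.inr (t, v, s), rfl⟩
  rw [← Nat.card_sum]
  calc Nat.card ↥(Subgroup.centralizer {a})
      = (Subtype.val '' (Subgroup.centralizer {a} : Set ↥(endoG2 f).fix)).ncard := by
        rw [Set.ncard_image_of_injective _ Subtype.val_injective, ← Nat.card_coe_set_eq]; rfl
    _ ≤ (Set.range F).ncard := Set.ncard_le_ncard hsub (Set.finite_range F)
    _ ≤ _ := by rw [← Set.image_univ, ← Set.ncard_univ]; exact Set.ncard_image_le Set.finite_univ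

/-- The centralizer of the involution. -/
theorem range_centHomG2 (hK : Fintype.card K = 3 * e ^ 2)
    (a : ↥(endoG2 f).fix) (ha : (a : GL chevG2.Idx K) = invG2 e) :
    (centHomG2 f hf hK).range = Subgroup.centralizer {a} := by
  refine Subgroup.eq_of_le_of_card_ge ?_ ?_
  · rintro _ ⟨⟨v, p⟩, rfl⟩
    induction p using QuotientGroup.induction_on with | H g => ?_
    rw [Subgroup.mem_centralizer_singleton_iff]
    refine Subtype.ext ?_
    rw [Subgroup.coe_mul, Subgroup.coe_mul, centHomG2_apply f hf hK, ha]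
    have h1 : Commute (invG2 (K := K) e) (psiG2 f g) := invG2_comm_psi f hf g
    split_ifs
    · rw [one_mul]; exact h1.eq.symm
    · exact ((Commute.refl (invG2 (K := K) e)).mul_right h1).eq.symm
  · refine (card_centralizer_leG2 f hf hK a ha).trans (le_of_eq ?_)
    rw [← Nat.card_congr (MonoidHom.ofInjective (centHomG2_injective f hf hK)).toEquiv]
    have h2 := SL2.card_SL_two' (F := K)
    have h3 : Nat.card (Subgroup.center SL(2, K)) = 2 := by
      rw [Nat.card_eq_two_iff' (1 : Subgroup.center SL(2, K))]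
      refine ⟨⟨-1, SL2.neg_one_mem_center⟩, ?_, ?_⟩
      · exact fun h => SL2.neg_one_ne_one (fun h2' => one_ne_zero
          (by linear_combination natCast3G2 (K := K) - h2' : (1 : K) = 0)) (congrArg Subtype.val h)
      · rintro ⟨x, hx⟩ hne
        exact Subtype.ext ((SL2.eq_one_or_eq_neg_one_of_mem_center x hx).resolve_left
          fun h => hne (Subtype.ext h))
    have h4 := Subgroup.card_eq_card_quotient_mul_card_subgroup (Subgroup.center SL(2, K))
    rw [h3, h2] at h4
    simp only [Nat.card_prod, Nat.card_units, Nat.card_eq_fintype_card (α := Multiplicative (ZMod 2)),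
      Fintype.card_multiplicative, ZMod.card]
    rw [mul_comm 2, ← h4]
    obtain ⟨n, hn⟩ := Nat.exists_eq_add_one_of_ne_zero (Nat.card_pos (α := K)).ne'
    rw [hn, Nat.add_sub_cancel]
    ring

lemma eq_invG2 (hK : Fintype.card K = 3 * e ^ 2) {x : GL chevG2.Idx K}
    (hx : x ∈ (endoG2 f).fix ⊓ chevG2.diagonalSubgroup K) (h1 : x ≠ 1) (h2 : x * x = 1) :
    x = invG2 e := by
  obtain ⟨v, rfl⟩ := (range_torG2Hom f hf hK).ge hx
  rw [← map_mul, ← (torG2Hom e).map_one] at h2
  have h3 := torG2Hom_injective f hf h2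
  have h4 : (v : K) * v = 1 := by rw [← Units.val_mul, h3, Units.val_one]
  rcases mul_self_eq_one_iff.1 h4 with h5 | h5
  · exact absurd (by rw [show v = 1 from Units.ext h5, map_one]) h1
  · rw [invG2, show v = -1 from Units.ext (by simpa using h5)]

theorem centralizer_invG2 (hK : Fintype.card K = 3 * e ^ 2) (a : ↥(endoG2 f).fix)
    (haH : (a : GL chevG2.Idx K) ∈ chevG2.diagonalSubgroup K) (ha1 : a ≠ 1) (ha2 : a * a = 1) :
    Nonempty (↥(Subgroup.centralizer {a}) ≃*
      Multiplicative (ZMod 2) × Matrix.ProjectiveSpecialLinearGroup (Fin 2) K) := by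
  have ha := eq_invG2 f hf hK ⟨a.2, haH⟩ (fun h => ha1 (Subtype.ext h)) (congrArg Subtype.val ha2)
  exact ⟨((MonoidHom.ofInjective (centHomG2_injective f hf hK)).trans
    (MulEquiv.subgroupCongr (range_centHomG2 f hf hK a ha))).symm⟩

end CfsgLib.Chev
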