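import Cfsg.Agent.Lib.Chev.TwistG2Centralizer
import Cfsg.Agent.Lib.Transfer.Focal

/-!
The Sylow 2-subgroups of the small Ree group and their normalizers.
-/

set_option autoImplicit false
set_option maxRecDepth 100000
set_option linter.unusedSectionVars false

namespace CfsgLib.Chev

open Cfsg.Lie Matrix
open scoped MatrixGroups Pointwise

/-- The elementary abelian group of order eight. -/
abbrev EightG2 : Type :=
  Multiplicative (ZMod 2) × (Multiplicative (ZMod 2) × Multiplicative (ZMod 2))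

/-- The generator of the first factor. -/
abbrev genA : EightG2 := (Multiplicative.ofAdd 1, (1, 1))

/-- The automorphism of order three fixing the first factor. -/
def cycleG2 (d : EightG2) : EightG2 := (d.1, (d.2.2, d.2.1 * d.2.2))

set_option synthInstance.maxSize 4000 in
theorem orbit_card_eq_seven : ∀ T : Finset EightG2, genA ∈ T → (1 : EightG2) ∉ T →
    (∀ d : EightG2, cycleG2 d ∈ T ∨ d ∉ T) → T ≠ {genA} → T.card % 2 = 1 → T.card = 7 := by
  decide +kernel

theorem kleinPairs_card : Nat.card {y : EightG2 × EightG2 //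
    y.1 ≠ 1 ∧ y.2 ≠ 1 ∧ y.1 ≠ y.2 ∧ y.1.1 = 1 ∧ y.2.1 = 1} = 6 := by
  rw [Nat.card_eq_fintype_card]; decide +kernel

lemma genA_ne_one : (genA : EightG2) ≠ 1 := by decide

lemma cycle_moves : ((1 : Multiplicative (ZMod 2)), (Multiplicative.ofAdd (1 : ZMod 2),
    (1 : Multiplicative (ZMod 2)))) ≠ cycleG2 (1, (Multiplicative.ofAdd 1, 1)) := by decide

lemma klein_gens : (Multiplicative.ofAdd (1 : ZMod 2), (1 : Multiplicative (ZMod 2))) ≠ 1 ∧
    ((1 : Multiplicative (ZMod 2)), Multiplicative.ofAdd (1 : ZMod 2)) ≠ 1 ∧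
    ((1, (Multiplicative.ofAdd 1, 1)) : EightG2) ≠ (1, (1, Multiplicative.ofAdd 1)) := by decide

lemma eight_gen : ∀ d : EightG2, ∃ i j k : Fin 2, d = genA ^ (i : ℕ) *
    ((1, (Multiplicative.ofAdd 1, 1)) : EightG2) ^ (j : ℕ) *
    ((1, (1, Multiplicative.ofAdd 1)) : EightG2) ^ (k : ℕ) := by decide +kernel

lemma eight_sq : ∀ d : EightG2, d * d = 1 := by decide

variable {K : Type*} [Field K] [Fintype K] [CharP K 3] {e : ℕ} (f : K →+* K)
  (hf : ∀ t, f t = t ^ e)

lemma two_ne_zeroG2 : (2 : K) ≠ 0 := fun h => one_ne_zero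
  (by linear_combination natCast3G2 (K := K) - h : (1 : K) = 0)

/-- An element of order four. -/
noncomputable def quatI : SL(2, K) := up2 1 * low2 (-1) * up2 1

/-- An element of order four inverting the first. -/
noncomputable def quatJ : SL(2, K) :=
  ⟨!![1, 1; 1, -1], by rw [Matrix.det_fin_two_of]; linear_combination -natCast3G2 (K := K)⟩

lemma coe_quatI : (quatI : SL(2, K)).1 = !![0, 1; -1, 0] := by
  rw [quatI, Matrix.SpecialLinearGroup.coe_mul, Matrix.SpecialLinearGroup.coe_mul, coe_up2, coe_low2]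
  ext i j
  fin_cases i <;> fin_cases j <;> simp

lemma coe_quatJ : (quatJ : SL(2, K)).1 = !![1, 1; 1, -1] := rfl

lemma quatJ_sq : (quatJ : SL(2, K)) * quatJ = -1 := by
  refine Subtype.ext ?_
  rw [Matrix.SpecialLinearGroup.coe_mul, coe_quatJ, Matrix.SpecialLinearGroup.coe_neg,
    Matrix.SpecialLinearGroup.coe_one]
  ext i j
  fin_cases i <;> fin_cases j <;> simp <;> linear_combination natCast3G2 (K := K)

lemma quat_anticomm : (quatI : SL(2, K)) * quatJ = -1 * (quatJ * quatI) := by
  refine Subtype.ext ?_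
  rw [Matrix.SpecialLinearGroup.coe_mul, Matrix.SpecialLinearGroup.coe_mul,
    Matrix.SpecialLinearGroup.coe_mul, Matrix.SpecialLinearGroup.coe_neg,
    Matrix.SpecialLinearGroup.coe_one, coe_quatI, coe_quatJ]
  ext i j
  fin_cases i <;> fin_cases j <;> simp

lemma mk_neg_one_mul (g : SL(2, K)) :
    ((-1 * g : SL(2, K)) : SL(2, K) ⧸ Subgroup.center SL(2, K)) = g := by
  rw [QuotientGroup.mk_mul, (QuotientGroup.eq_one_iff _).2 SL2.neg_one_mem_center, one_mul]

lemma eq_mk_iff {g g' : SL(2, K)} :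
    (g : SL(2, K) ⧸ Subgroup.center SL(2, K)) = g' ↔ g = g' ∨ g = -1 * g' := by
  constructor
  · intro h
    rw [eq_comm, QuotientGroup.eq] at h
    rcases SL2.eq_one_or_eq_neg_one_of_mem_center _ h with h | h
    · exact Or.inl (inv_mul_eq_one.1 h).symm
    · right
      rw [inv_mul_eq_iff_eq_mul.1 h, mul_neg, mul_one, neg_mul, one_mul]
  · rintro (rfl | rfl)
    · rfl
    · exact mk_neg_one_mul g'

lemma quat_commute : Commute ((quatI : SL(2, K)) : SL(2, K) ⧸ Subgroup.center SL(2, K))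
    ((quatJ : SL(2, K)) : SL(2, K) ⧸ Subgroup.center SL(2, K)) := by
  show _ * _ = _ * _
  rw [← QuotientGroup.mk_mul, ← QuotientGroup.mk_mul, quat_anticomm, mk_neg_one_mul]

/-- The four group of `PSL₂`. -/
noncomputable def kleinHom :
    Multiplicative (ZMod 2) × Multiplicative (ZMod 2) →* SL(2, K) ⧸ Subgroup.center SL(2, K) :=
  MonoidHom.noncommCoprod
    (homZModTwo ((quatI : SL(2, K)) : SL(2, K) ⧸ Subgroup.center SL(2, K)) (by
      rw [← QuotientGroup.mk_mul, quatI, weyl_sq, ← mul_one (-1 : SL(2, K)), mk_neg_one_mul,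
        QuotientGroup.mk_one]))
    (homZModTwo ((quatJ : SL(2, K)) : SL(2, K) ⧸ Subgroup.center SL(2, K)) (by
      rw [← QuotientGroup.mk_mul, quatJ_sq, ← mul_one (-1 : SL(2, K)), mk_neg_one_mul,
        QuotientGroup.mk_one]))
    (fun v w => by
      rcases homZModTwo_eq ((quatI : SL(2, K)) : SL(2, K) ⧸ Subgroup.center SL(2, K)) (by
        rw [← QuotientGroup.mk_mul, quatI, weyl_sq, ← mul_one (-1 : SL(2, K)), mk_neg_one_mul,
          QuotientGroup.mk_one]) v with ⟨-, h⟩ | ⟨-, h⟩ <;>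
      rcases homZModTwo_eq ((quatJ : SL(2, K)) : SL(2, K) ⧸ Subgroup.center SL(2, K)) (by
        rw [← QuotientGroup.mk_mul, quatJ_sq, ← mul_one (-1 : SL(2, K)), mk_neg_one_mul,
          QuotientGroup.mk_one]) w with ⟨-, h'⟩ | ⟨-, h'⟩ <;> rw [h, h']
      all_goals first
        | exact Commute.one_left _
        | exact Commute.one_right _
        | exact quat_commute)

lemma kleinHom_apply (v w : Multiplicative (ZMod 2)) :
    kleinHom (K := K) (v, w) = (if v = 1 then 1 else ((quatI : SL(2, K)) :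
      SL(2, K) ⧸ Subgroup.center SL(2, K))) * (if w = 1 then 1 else ((quatJ : SL(2, K)) :
      SL(2, K) ⧸ Subgroup.center SL(2, K))) := rfl

lemma kleinHom_injective : Function.Injective (kleinHom (K := K)) := by
  rw [injective_iff_map_eq_one]
  rintro ⟨v, w⟩ h
  rw [kleinHom_apply] at h
  have hne : ∀ g : SL(2, K), g.1 0 1 ≠ 0 → (g : SL(2, K) ⧸ Subgroup.center SL(2, K)) ≠ 1 := by
    intro g hg h1
    rw [← QuotientGroup.mk_one, eq_mk_iff] at h1
    rcases h1 with rfl | rfl <;> simp at hg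
  by_cases hv : v = 1 <;> by_cases hw : w = 1
  · rw [hv, hw]; rfl
  all_goals exfalso
  · rw [if_pos hv, if_neg hw, one_mul] at h
    exact hne quatJ (by simp [coe_quatJ]) h
  · rw [if_neg hv, if_pos hw, mul_one] at h
    exact hne quatI (by simp [coe_quatI]) h
  · rw [if_neg hv, if_neg hw, ← QuotientGroup.mk_mul] at h
    exact hne (quatI * quatJ)
      (by simp [Matrix.SpecialLinearGroup.coe_mul, coe_quatI, coe_quatJ]) h

/-- The cycle is induced by a transvection. -/
lemma kleinHom_cycle (x : Multiplicative (ZMod 2) × Multiplicative (ZMod 2)) :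
    ((up2 1 : SL(2, K)) : SL(2, K) ⧸ Subgroup.center SL(2, K)) * kleinHom x *
      ((up2 1 : SL(2, K)) : SL(2, K) ⧸ Subgroup.center SL(2, K))⁻¹ =
        kleinHom (x.2, x.1 * x.2) := by
  have h3 := natCast3G2 (K := K)
  have hI : ((up2 1 * quatI : SL(2, K)) : SL(2, K) ⧸ Subgroup.center SL(2, K)) =
      ((quatJ * up2 1 : SL(2, K)) : SL(2, K) ⧸ Subgroup.center SL(2, K)) := by
    rw [eq_mk_iff]; right
    refine Subtype.ext ?_
    simp only [Matrix.SpecialLinearGroup.coe_mul, Matrix.SpecialLinearGroup.coe_neg,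
      Matrix.SpecialLinearGroup.coe_one, coe_up2, coe_quatI, coe_quatJ]
    ext i j
    fin_cases i <;> fin_cases j <;> simp <;>
      first | linear_combination h3 | linear_combination -h3 | linear_combination 2 * h3 |
        linear_combination -2 * h3
  have hJ : ((up2 1 * quatJ : SL(2, K)) : SL(2, K) ⧸ Subgroup.center SL(2, K)) =
      ((quatI * quatJ * up2 1 : SL(2, K)) : SL(2, K) ⧸ Subgroup.center SL(2, K)) := by
    rw [eq_mk_iff]; right
    refine Subtype.ext ?_
    simp only [Matrix.SpecialLinearGroup.coe_mul, Matrix.SpecialLinearGroup.coe_neg,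
      Matrix.SpecialLinearGroup.coe_one, coe_up2, coe_quatI, coe_quatJ]
    ext i j
    fin_cases i <;> fin_cases j <;> simp <;>
      first | linear_combination h3 | linear_combination -h3 | linear_combination 2 * h3 |
        linear_combination -2 * h3
  rw [QuotientGroup.mk_mul, QuotientGroup.mk_mul, ← mul_inv_eq_iff_eq_mul] at hI
  rw [QuotientGroup.mk_mul, QuotientGroup.mk_mul, QuotientGroup.mk_mul,
    ← mul_inv_eq_iff_eq_mul] at hJ
  obtain ⟨v, w⟩ := x
  have hgen : ∀ v : Multiplicative (ZMod 2), v = 1 ∨ v = Multiplicative.ofAdd 1 := by decide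
  have eI : kleinHom (K := K) (Multiplicative.ofAdd 1, 1) =
      ((quatI : SL(2, K)) : SL(2, K) ⧸ Subgroup.center SL(2, K)) := by
    rw [kleinHom_apply, if_neg (by decide), if_pos rfl, mul_one]
  have eJ : kleinHom (K := K) (1, Multiplicative.ofAdd 1) =
      ((quatJ : SL(2, K)) : SL(2, K) ⧸ Subgroup.center SL(2, K)) := by
    rw [kleinHom_apply, if_neg (by decide : ¬Multiplicative.ofAdd (1 : ZMod 2) = 1), if_pos rfl,
      one_mul]
  have eIJ : kleinHom (K := K) (Multiplicative.ofAdd 1, Multiplicative.ofAdd 1) =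
      ((quatI : SL(2, K)) : SL(2, K) ⧸ Subgroup.center SL(2, K)) *
        ((quatJ : SL(2, K)) : SL(2, K) ⧸ Subgroup.center SL(2, K)) := by
    rw [kleinHom_apply, if_neg (by decide), if_neg (by decide)]
  rcases hgen v with rfl | rfl <;> rcases hgen w with rfl | rfl
  · simp only [one_mul, Prod.mk_one_one]
    rw [(kleinHom (K := K)).map_one, mul_one, mul_inv_cancel]
  · rw [eJ, hJ, one_mul, eIJ]
  · rw [eI, hI, mul_one, eJ]
  · rw [eIJ, ← conj_mul, hI, hJ,
      show Multiplicative.ofAdd (1 : ZMod 2) * Multiplicative.ofAdd 1 = 1 by decide, eI,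
      quat_commute.eq, ← mul_assoc, ← QuotientGroup.mk_mul, quatJ_sq,
      ← mul_one (-1 : SL(2, K)), mk_neg_one_mul, QuotientGroup.mk_one, one_mul]

include hf

/-- The subgroup of order eight. -/
noncomputable def sylowHomG2 (hK : Fintype.card K = 3 * e ^ 2) : EightG2 →* ↥(endoG2 f).fix :=
  (centHomG2 f hf hK).comp (MonoidHom.prodMap (MonoidHom.id _) kleinHom)

lemma sylowHomG2_injective (hK : Fintype.card K = 3 * e ^ 2) :
    Function.Injective (sylowHomG2 f hf hK) :=
  (centHomG2_injective f hf hK).comp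
    (Function.Injective.prodMap Function.injective_id kleinHom_injective)

lemma sylowHomG2_genA (hK : Fintype.card K = 3 * e ^ 2) :
    ((sylowHomG2 f hf hK genA : ↥(endoG2 f).fix) : GL chevG2.Idx K) = invG2 e := by
  have hg : sylowHomG2 f hf hK genA =
      centHomG2 f hf hK (Multiplicative.ofAdd 1, kleinHom 1) := rfl
  rw [hg, (kleinHom (K := K)).map_one,
    ← QuotientGroup.mk_one, centHomG2_apply f hf hK, if_neg (by decide), map_one, mul_one]

lemma range_sylowHomG2_card (hK : Fintype.card K = 3 * e ^ 2) :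
    Nat.card (sylowHomG2 f hf hK).range = 8 := by
  rw [← Nat.card_congr (MonoidHom.ofInjective (sylowHomG2_injective f hf hK)).toEquiv,
    Nat.card_eq_fintype_card]
  rfl

lemma two_part_twistG2 (hK : Fintype.card K = 3 * e ^ 2) :
    (Nat.card ↥(endoG2 f).fix).factorization 2 = 3 := by
  obtain ⟨N, hN, hodd, -⟩ := half_G2 hK
  rw [card_twistG2 f hf hK]
  obtain ⟨q, hq⟩ : ∃ q, Fintype.card K = q := ⟨_, rfl⟩
  rw [hq] at hN hK ⊢
  obtain ⟨k, hk⟩ := odd_e_G2 (hq.trans hK)
  have he : e ^ 2 % 8 = 1 := by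
    rw [hk, Nat.pow_mod]
    have : k % 4 = 0 ∨ k % 4 = 1 ∨ k % 4 = 2 ∨ k % 4 = 3 := by omega
    rcases this with h | h | h | h <;>
      rw [show (2 * k + 1) % 8 = 2 * (k % 4) + 1 by omega, h] <;> rfl
  have h8 : q % 8 = 3 := by omega
  have h4 : (q ^ 3 + 1) % 8 = 4 := by
    rw [Nat.add_mod, Nat.pow_mod, h8]
  obtain ⟨M, hM⟩ : ∃ M, q ^ 3 + 1 = 4 * (2 * M + 1) := ⟨(q ^ 3 + 1) / 8, by omega⟩
  obtain ⟨L, rfl⟩ := hodd
  have hq3 : ¬ 2 ∣ q ^ 3 := by omega
  have hq0 : q ^ 3 ≠ 0 := by omega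
  rw [hN, hM, Nat.factorization_mul (mul_ne_zero hq0 (by omega)) (by omega),
    Nat.factorization_mul hq0 (by omega),
    Nat.factorization_mul (by norm_num) (by omega),
    Nat.factorization_mul (by norm_num) (by omega)]
  simp only [Finsupp.add_apply]
  rw [Nat.factorization_eq_zero_of_not_dvd hq3,
    Nat.factorization_eq_zero_of_not_dvd (show ¬ 2 ∣ 2 * L + 1 by omega),
    Nat.factorization_eq_zero_of_not_dvd (show ¬ 2 ∣ 2 * M + 1 by omega),
    show (4 : ℕ) = 2 ^ 2 by norm_num, Nat.Prime.factorization_pow Nat.prime_two,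
    Nat.Prime.factorization_self Nat.prime_two, Finsupp.single_eq_same]
  all_goals rfl

/-- A Sylow 2-subgroup. -/
noncomputable def sylowTwoG2 (hK : Fintype.card K = 3 * e ^ 2) :
    haveI : Fact (Nat.Prime 2) := ⟨Nat.prime_two⟩
    Sylow 2 ↥(endoG2 f).fix :=
  have : Fact (Nat.Prime 2) := ⟨Nat.prime_two⟩
  Sylow.ofCard (sylowHomG2 f hf hK).range
    (by rw [range_sylowHomG2_card, two_part_twistG2 f hf hK]; norm_num)

lemma coe_sylowTwoG2 (hK : Fintype.card K = 3 * e ^ 2) :
    (sylowTwoG2 f hf hK : Subgroup ↥(endoG2 f).fix) = (sylowHomG2 f hf hK).range := rfl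

theorem sylowTwo_structureG2 (hK : Fintype.card K = 3 * e ^ 2) (S : Sylow 2 ↥(endoG2 f).fix) :
    Nat.card S = 8 ∧ ∀ x ∈ S, x * x = 1 := by
  have : Fact (Nat.Prime 2) := ⟨Nat.prime_two⟩
  obtain ⟨g, rfl⟩ := MulAction.exists_smul_eq ↥(endoG2 f).fix (sylowTwoG2 f hf hK) S
  constructor
  · rw [← range_sylowHomG2_card f hf hK]
    exact (Nat.card_congr (Subgroup.equivSMul (MulAut.conj g) _).toEquiv).symm
  · intro x hx
    change x ∈ MulAut.conj g • (sylowHomG2 f hf hK).range at hx
    obtain ⟨_, ⟨d, rfl⟩, rfl⟩ := hx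
    show MulAut.conj g (sylowHomG2 f hf hK d) * MulAut.conj g (sylowHomG2 f hf hK d) = 1
    rw [← map_mul, ← map_mul, eight_sq, map_one, map_one]

omit hf in
/-- The four group of `PSL₂` is self-centralizing. -/
lemma kleinHom_centralizer (p : SL(2, K) ⧸ Subgroup.center SL(2, K))
    (h : ∀ x, p * kleinHom x = kleinHom x * p) : ∃ x, kleinHom x = p := by
  induction p using QuotientGroup.induction_on with | H g => ?_
  have hI := h (Multiplicative.ofAdd 1, 1)
  have hJ := h (1, Multiplicative.ofAdd 1)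
  rw [kleinHom_apply, if_neg (by decide), if_pos rfl, mul_one, ← QuotientGroup.mk_mul,
    ← QuotientGroup.mk_mul, eq_mk_iff] at hI
  rw [kleinHom_apply, if_neg (by decide : ¬Multiplicative.ofAdd (1 : ZMod 2) = 1), if_pos rfl,
    one_mul, ← QuotientGroup.mk_mul, ← QuotientGroup.mk_mul, eq_mk_iff] at hJ
  set a := g.1 0 0 with ha
  set b := g.1 0 1 with hb
  set c := g.1 1 0 with hc
  set d := g.1 1 1 with hd
  have h3 := natCast3G2 (K := K)
  have h2 := two_ne_zeroG2 (K := K)
  have hdet : a * d - b * c = 1 := by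
    have h1 := g.2
    rwa [Matrix.det_fin_two] at h1
  have hI' : (c = -b ∧ d = a) ∨ (c = b ∧ d = -a) := by
    rcases hI with h | h <;>
      have e00 := congrArg (fun m : SL(2, K) => m.1 0 0) h <;>
      have e01 := congrArg (fun m : SL(2, K) => m.1 0 1) h <;>
      simp [Matrix.mul_apply, Matrix.vecMul, dotProduct, Fin.sum_univ_two, coe_quatI, ← ha, ← hb,
        ← hc, ← hd] at e00 e01
    · exact Or.inl ⟨by grind, by grind⟩
    · exact Or.inr ⟨by grind, by grind⟩
  have hJ' : (c = b ∧ b + b = a - d) ∨ (2 * a = -(b + c) ∧ a - b = -(b + d)) := by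
    rcases hJ with h | h <;>
      have e00 := congrArg (fun m : SL(2, K) => m.1 0 0) h <;>
      have e01 := congrArg (fun m : SL(2, K) => m.1 0 1) h <;>
      simp [Matrix.mul_apply, Matrix.vecMul, dotProduct, Fin.sum_univ_two, coe_quatJ, ← ha, ← hb,
        ← hc, ← hd] at e00 e01
    · exact Or.inl ⟨by grind, by grind⟩
    · exact Or.inr ⟨by grind, by grind⟩
  have fin : (b = 0 ∧ c = 0 ∧ a = d ∧ (a = 1 ∨ a = -1)) ∨
      (a = 0 ∧ d = 0 ∧ c = -b ∧ (b = 1 ∨ b = -1)) ∨
      (b = a ∧ c = a ∧ d = -a ∧ (a = 1 ∨ a = -1)) ∨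
      (b = -a ∧ c = -a ∧ d = -a ∧ (a = 1 ∨ a = -1)) := by
    rcases hI' with ⟨i1, i2⟩ | ⟨i1, i2⟩ <;> rcases hJ' with ⟨j1, j2⟩ | ⟨j1, j2⟩
    · left
      have hb0 : b = 0 := by grind
      refine ⟨hb0, by rw [i1, hb0, neg_zero], i2.symm, mul_self_eq_one_iff.1 ?_⟩
      grind
    · right; left
      have ha0 : a = 0 := by grind
      refine ⟨ha0, by rw [i2, ha0], i1, mul_self_eq_one_iff.1 ?_⟩
      grind
    · right; right; left
      have hba : b = a := by grind
      refine ⟨hba, by rw [i1, hba], i2, mul_self_eq_one_iff.1 ?_⟩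
      grind
    · right; right; right
      have hba : b = -a := by grind
      refine ⟨hba, by rw [i1, hba], i2, mul_self_eq_one_iff.1 ?_⟩
      grind
  rcases fin with ⟨rb, rc, rd, ra⟩ | ⟨ra, rd, rc, rb⟩ | ⟨rb, rc, rd, ra⟩ | ⟨rb, rc, rd, ra⟩
  · refine ⟨1, ?_⟩
    rw [(kleinHom (K := K)).map_one, ← QuotientGroup.mk_one, eq_mk_iff]
    rcases ra with ra | ra
    · left; refine Subtype.ext ?_
      ext i j
      fin_cases i <;> fin_cases j <;> simp [← ha, ← hb, ← hc, ← hd, rb, rc, ← rd, ra]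
    · right; refine Subtype.ext ?_
      ext i j
      fin_cases i <;> fin_cases j <;> simp [← ha, ← hb, ← hc, ← hd, rb, rc, ← rd, ra]
  · refine ⟨(Multiplicative.ofAdd 1, 1), ?_⟩
    rw [kleinHom_apply, if_neg (by decide), if_pos rfl, mul_one, eq_mk_iff]
    rcases rb with rb | rb
    · left; refine Subtype.ext ?_
      ext i j
      fin_cases i <;> fin_cases j <;> simp [coe_quatI, ← ha, ← hb, ← hc, ← hd, ra, rd, rc, rb]
    · right; refine Subtype.ext ?_
      ext i j
      fin_cases i <;> fin_cases j <;> simp [coe_quatI, ← ha, ← hb, ← hc, ← hd, ra, rd, rc, rb]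
  · refine ⟨(1, Multiplicative.ofAdd 1), ?_⟩
    rw [kleinHom_apply, if_neg (by decide : ¬Multiplicative.ofAdd (1 : ZMod 2) = 1), if_pos rfl,
      one_mul, eq_mk_iff]
    rcases ra with ra | ra
    · left; refine Subtype.ext ?_
      ext i j
      fin_cases i <;> fin_cases j <;> simp [coe_quatJ, ← ha, ← hb, ← hc, ← hd, rb, rc, rd, ra]
    · right; refine Subtype.ext ?_
      ext i j
      fin_cases i <;> fin_cases j <;> simp [coe_quatJ, ← ha, ← hb, ← hc, ← hd, rb, rc, rd, ra]
  · refine ⟨(Multiplicative.ofAdd 1, Multiplicative.ofAdd 1), ?_⟩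
    rw [kleinHom_apply, if_neg (by decide), if_neg (by decide), ← QuotientGroup.mk_mul, eq_mk_iff]
    rcases ra with ra | ra
    · left; refine Subtype.ext ?_
      ext i j
      fin_cases i <;> fin_cases j <;>
        simp [Matrix.SpecialLinearGroup.coe_mul, coe_quatI, coe_quatJ, ← ha, ← hb, ← hc, ← hd, rb,
          rc, rd, ra]
    · right; refine Subtype.ext ?_
      ext i j
      fin_cases i <;> fin_cases j <;>
        simp [Matrix.SpecialLinearGroup.coe_mul, coe_quatI, coe_quatJ, ← ha, ← hb, ← hc, ← hd, rb,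
          rc, rd, ra]

lemma centralizer_genA (hK : Fintype.card K = 3 * e ^ 2) :
    Subgroup.centralizer {sylowHomG2 f hf hK genA} = (centHomG2 f hf hK).range :=
  (range_centHomG2 f hf hK _ (sylowHomG2_genA f hf hK)).symm

theorem centralizer_range_sylowHomG2 (hK : Fintype.card K = 3 * e ^ 2) :
    Subgroup.centralizer ((sylowHomG2 f hf hK).range : Set ↥(endoG2 f).fix) =
      (sylowHomG2 f hf hK).range := by
  refine le_antisymm ?_ ?_
  · intro x hx
    rw [Subgroup.mem_centralizer_iff] at hx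
    have hx' : x ∈ (centHomG2 f hf hK).range := by
      rw [← centralizer_genA f hf hK, Subgroup.mem_centralizer_singleton_iff]
      exact (hx _ ⟨genA, rfl⟩).symm
    obtain ⟨⟨v, p⟩, rfl⟩ := hx'
    obtain ⟨y, rfl⟩ := kleinHom_centralizer p fun y => by
      have h1 := hx _ ⟨((1 : Multiplicative (ZMod 2)), y), rfl⟩
      change centHomG2 f hf hK (1, kleinHom y) * centHomG2 f hf hK (v, p) =
        centHomG2 f hf hK (v, p) * centHomG2 f hf hK (1, kleinHom y) at h1
      rw [← map_mul, ← map_mul] at h1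
      exact (congrArg Prod.snd (centHomG2_injective f hf hK h1)).symm
    exact ⟨(v, y), rfl⟩
  · rintro _ ⟨d, rfl⟩
    rw [Subgroup.mem_centralizer_iff]
    rintro _ ⟨d', rfl⟩
    rw [← map_mul, ← map_mul, mul_comm]

/-- The normalizer of the Sylow 2-subgroup inside the centralizer of an involution. -/
theorem card_normalizer_centG2 (hK : Fintype.card K = 3 * e ^ 2) :
    Nat.card ↥(Subgroup.normalizer ((sylowHomG2 f hf hK).range : Set ↥(endoG2 f).fix) ⊓
      Subgroup.centralizer {sylowHomG2 f hf hK genA}) = 24 := by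
  have : Fact (Nat.Prime 2) := ⟨Nat.prime_two⟩
  set P := (sylowHomG2 f hf hK).range with hP
  set M := Subgroup.normalizer (P : Set ↥(endoG2 f).fix) ⊓
    Subgroup.centralizer {sylowHomG2 f hf hK genA} with hM
  have hPM : P ≤ M := by
    refine le_inf Subgroup.le_normalizer ?_
    rintro _ ⟨d, rfl⟩
    rw [Subgroup.mem_centralizer_singleton_iff, ← map_mul, ← map_mul, mul_comm]
  have hidx : (P.subgroupOf M).index * 8 = Nat.card M := by
    rw [← range_sylowHomG2_card f hf hK, ← hP,
      ← Nat.card_congr (Subgroup.subgroupOfEquivOfLe hPM).toEquiv, Subgroup.index_mul_card]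
  have hodd : ¬ 2 ∣ (P.subgroupOf M).index := by
    intro h2
    have h1 : 2 ^ 4 ∣ Nat.card ↥(endoG2 f).fix :=
      (show 2 ^ 4 ∣ Nat.card M by
        rw [← hidx, show 2 ^ 4 = 2 * 8 by norm_num]; exact Nat.mul_dvd_mul h2 (dvd_refl 8)).trans
        (Subgroup.card_subgroup_dvd_card M)
    have h3 := (Nat.Prime.pow_dvd_iff_le_factorization Nat.prime_two Nat.card_pos.ne').1 h1
    rw [two_part_twistG2 f hf hK] at h3
    omega
  -- the element of order three
  set u := centHomG2 f hf hK
    (1, ((up2 1 : SL(2, K)) : SL(2, K) ⧸ Subgroup.center SL(2, K))) with hu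
  have huconj : ∀ d, u * sylowHomG2 f hf hK d * u⁻¹ = sylowHomG2 f hf hK (cycleG2 d) := by
    intro d
    rw [hu, sylowHomG2, MonoidHom.comp_apply, MonoidHom.comp_apply, ← map_inv, ← map_mul, ← map_mul]
    refine congrArg _ (Prod.ext ?_ ?_)
    · show 1 * d.1 * (1 : Multiplicative (ZMod 2))⁻¹ = d.1
      rw [one_mul, inv_one, mul_one]
    · exact kleinHom_cycle d.2
  have huM : u ∈ M := by
    refine Subgroup.mem_inf.2 ⟨?_, ?_⟩
    · refine Subgroup.mem_normalizer_fintype fun x hx => ?_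
      obtain ⟨d, rfl⟩ := hx
      exact ⟨cycleG2 d, (huconj d).symm⟩
    · rw [Subgroup.mem_centralizer_singleton_iff, ← mul_inv_eq_iff_eq_mul, huconj]
      rfl
  have hu3 : 3 ∣ Nat.card M := by
    have h3 : (⟨u, huM⟩ : M) ^ 3 = 1 := by
      refine Subtype.ext ?_
      show u ^ 3 = 1
      rw [hu, ← map_pow]
      rw [show ((1 : Multiplicative (ZMod 2)),
        ((up2 1 : SL(2, K)) : SL(2, K) ⧸ Subgroup.center SL(2, K))) ^ 3 = 1 from ?_, map_one]
      refine Prod.ext (one_pow 3) ?_
      show _ ^ 3 = (1 : SL(2, K) ⧸ Subgroup.center SL(2, K))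
      rw [← QuotientGroup.mk_pow, up2, ← map_pow, ← ofAdd_nsmul, nsmul_eq_mul, Nat.cast_ofNat,
        natCast3G2, zero_mul, ofAdd_zero, map_one, QuotientGroup.mk_one]
    have hne : (⟨u, huM⟩ : M) ≠ 1 := by
      intro h1
      have h2 := huconj (1, (Multiplicative.ofAdd 1, 1))
      rw [show u = 1 from congrArg Subtype.val h1, one_mul, inv_one, mul_one] at h2
      exact absurd (sylowHomG2_injective f hf hK h2) cycle_moves
    haveI : Fact (Nat.Prime 3) := ⟨Nat.prime_three⟩
    rw [← orderOf_eq_prime h3 hne]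
    exact orderOf_dvd_natCard _
  -- at most six cosets
  have hle : (P.subgroupOf M).index ≤ 6 := by
    have hval : ∀ (m : M) (x : Multiplicative (ZMod 2) × Multiplicative (ZMod 2)), x ≠ 1 →
        ∃ y : EightG2, y ≠ 1 ∧ y.1 = 1 ∧ sylowHomG2 f hf hK y =
          (m : ↥(endoG2 f).fix) * sylowHomG2 f hf hK (1, x) * (m : ↥(endoG2 f).fix)⁻¹ := by
      intro m x hx
      obtain ⟨h1, h2⟩ := Subgroup.mem_inf.1 m.2
      obtain ⟨y, hy⟩ := ((Subgroup.mem_normalizer_iff (H := P)).1 h1 _).1
        (⟨(1, x), rfl⟩ : sylowHomG2 f hf hK (1, x) ∈ P)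
      refine ⟨y, fun h => hx ?_, ?_, hy⟩
      · rw [h, map_one, eq_comm, conj_eq_one_iff, ← map_one (sylowHomG2 f hf hK)] at hy
        exact congrArg Prod.snd (sylowHomG2_injective f hf hK hy)
      · rw [centralizer_genA f hf hK] at h2
        obtain ⟨⟨v, p⟩, hp⟩ := h2
        rw [← hp, sylowHomG2, MonoidHom.comp_apply, MonoidHom.comp_apply, ← map_inv, ← map_mul,
          ← map_mul] at hy
        have h3 := congrArg Prod.fst (centHomG2_injective f hf hK hy)
        change y.1 = v * 1 * v⁻¹ at h3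
        rwa [mul_one, mul_inv_cancel] at h3
    choose F hF1 hF2 hF3 using hval
    let gI : Multiplicative (ZMod 2) × Multiplicative (ZMod 2) := (Multiplicative.ofAdd 1, 1)
    let gJ : Multiplicative (ZMod 2) × Multiplicative (ZMod 2) := (1, Multiplicative.ofAdd 1)
    have hgI : gI ≠ 1 := klein_gens.1
    have hgJ : gJ ≠ 1 := klein_gens.2.1
    have hne : ∀ m, F m gI hgI ≠ F m gJ hgJ := fun m h => by
      have h1 := (hF3 m gI hgI).symm.trans ((congrArg _ h).trans (hF3 m gJ hgJ))
      exact absurd (sylowHomG2_injective f hf hK (mul_left_cancel (mul_right_cancel h1)))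
        klein_gens.2.2
    have hinj : ∀ m m', F m gI hgI = F m' gI hgI → F m gJ hgJ = F m' gJ hgJ →
        m⁻¹ * m' ∈ P.subgroupOf M := by
      intro m m' hI hJ
      have hcomm : ∀ (x : Multiplicative (ZMod 2) × Multiplicative (ZMod 2)) (hx : x ≠ 1),
          F m x hx = F m' x hx →
          ((m : ↥(endoG2 f).fix)⁻¹ * m') * sylowHomG2 f hf hK (1, x) =
            sylowHomG2 f hf hK (1, x) * ((m : ↥(endoG2 f).fix)⁻¹ * m') := by
        intro x hx h
        have h1 := (hF3 m x hx).symm.trans ((congrArg _ h).trans (hF3 m' x hx))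
        rw [← mul_inv_eq_iff_eq_mul, _root_.mul_inv_rev, inv_inv]
        calc _ = (m : ↥(endoG2 f).fix)⁻¹ * ((m' : ↥(endoG2 f).fix) * sylowHomG2 f hf hK (1, x) *
              (m' : ↥(endoG2 f).fix)⁻¹) * m := by group
          _ = _ := by rw [← h1]; group
      rw [Subgroup.mem_subgroupOf, Subgroup.coe_mul, Subgroup.coe_inv, hP,
        ← centralizer_range_sylowHomG2 f hf hK, Subgroup.mem_centralizer_iff]
      rintro _ ⟨d, rfl⟩
      have hA := Subgroup.mem_centralizer_singleton_iff.1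
        (mul_mem (inv_mem (Subgroup.mem_inf.1 m.2).2) (Subgroup.mem_inf.1 m'.2).2)
      have hall : ∀ d : EightG2,
          Commute ((m : ↥(endoG2 f).fix)⁻¹ * m') (sylowHomG2 f hf hK d) := by
        intro d
        obtain ⟨i, j, k, rfl⟩ := eight_gen d
        rw [map_mul, map_mul, map_pow, map_pow, map_pow]
        exact ((Commute.pow_right hA _).mul_right (Commute.pow_right (hcomm gI hgI hI) _)).mul_right
          (Commute.pow_right (hcomm gJ hgJ hJ) _)
      exact (hall d).eq.symm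
    let G : M ⧸ P.subgroupOf M → {y : EightG2 × EightG2 //
        y.1 ≠ 1 ∧ y.2 ≠ 1 ∧ y.1 ≠ y.2 ∧ y.1.1 = 1 ∧ y.2.1 = 1} := fun q =>
      ⟨(F q.out gI hgI, F q.out gJ hgJ), hF1 _ _ _, hF1 _ _ _, hne _, hF2 _ _ _, hF2 _ _ _⟩
    have hG : Function.Injective G := fun q q' h => by
      rw [← q.out_eq, ← q'.out_eq]
      exact QuotientGroup.eq.2 (hinj _ _ (congrArg (fun y => y.1.1) h)
        (congrArg (fun y => y.1.2) h))
    rw [Subgroup.index_eq_card, ← kleinPairs_card]
    exact Nat.card_le_card_of_injective G hG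
  rw [← hidx] at hu3 ⊢
  omega

/-- The normalizer of the Sylow 2-subgroup has order 168. -/
theorem card_normalizerG2 (hK : Fintype.card K = 3 * e ^ 2)
    (hperf : commutator ↥(endoG2 f).fix = ⊤) :
    Nat.card ↥(Subgroup.normalizer ((sylowHomG2 f hf hK).range : Set ↥(endoG2 f).fix)) = 168 := by
  have : Fact (Nat.Prime 2) := ⟨Nat.prime_two⟩
  classical
  set P := (sylowHomG2 f hf hK).range with hP
  set N := Subgroup.normalizer (P : Set ↥(endoG2 f).fix) with hN
  set a := sylowHomG2 f hf hK genA with ha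
  letI : MulAction ↥N ↥(endoG2 f).fix := MulAction.compHom _
    ((ConjAct.toConjAct : ↥(endoG2 f).fix ≃* ConjAct ↥(endoG2 f).fix).toMonoidHom.comp N.subtype)
  have hsmul : ∀ (n : ↥N) (x : ↥(endoG2 f).fix),
      n • x = (n : ↥(endoG2 f).fix) * x * (n : ↥(endoG2 f).fix)⁻¹ := fun n x =>
    ConjAct.toConjAct_smul _ _
  have haP : a ∈ P := ⟨genA, rfl⟩
  have hstab : MulAction.stabilizer ↥N a = (N ⊓ Subgroup.centralizer {a}).subgroupOf N := by
    ext n
    rw [MulAction.mem_stabilizer_iff, hsmul, mul_inv_eq_iff_eq_mul, Subgroup.mem_subgroupOf,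
      Subgroup.mem_inf, Subgroup.mem_centralizer_singleton_iff]
    exact ⟨fun h => ⟨n.2, h⟩, fun h => h.2⟩
  have hcard : (MulAction.orbit ↥N a).ncard * 24 = Nat.card ↥N := by
    rw [← MulAction.index_stabilizer, hstab,
      show (24 : ℕ) = Nat.card ↥((N ⊓ Subgroup.centralizer {a}).subgroupOf N) by
        rw [Nat.card_congr (Subgroup.subgroupOfEquivOfLe inf_le_left).toEquiv, hN, ha,
          card_normalizer_centG2 f hf hK],
      Subgroup.index_mul_card]
  have hsub : ∀ x ∈ MulAction.orbit ↥N a, x ∈ P := by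
    rintro _ ⟨n, rfl⟩
    show n • a ∈ P
    rw [hsmul]
    exact ((Subgroup.mem_normalizer_iff (H := P)).1 n.2 a).1 haP
  set T : Finset EightG2 :=
    Finset.univ.filter fun d => sylowHomG2 f hf hK d ∈ MulAction.orbit ↥N a with hT
  have hTcard : T.card = (MulAction.orbit ↥N a).ncard := by
    have himg : MulAction.orbit ↥N a = (sylowHomG2 f hf hK) '' (T : Set EightG2) := by
      ext x
      constructor
      · intro hx
        obtain ⟨d, rfl⟩ := hsub x hx
        exact ⟨d, by simpa [hT] using hx, rfl⟩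
      · rintro ⟨d, hd, rfl⟩
        simpa [hT] using hd
    rw [himg, Set.ncard_image_of_injective _ (sylowHomG2_injective f hf hK), Set.ncard_coe_finset]
  have hodd : T.card % 2 = 1 := by
    by_contra hne
    have h16 : 2 ^ 4 ∣ Nat.card ↥(endoG2 f).fix := by
      refine (?_ : 2 ^ 4 ∣ Nat.card ↥N).trans (Subgroup.card_subgroup_dvd_card N)
      obtain ⟨k, hk⟩ : 2 ∣ T.card := Nat.dvd_of_mod_eq_zero (by omega)
      exact ⟨3 * k, by rw [← hcard, ← hTcard, hk]; ring⟩
    have h3 := (Nat.Prime.pow_dvd_iff_le_factorization Nat.prime_two Nat.card_pos.ne').1 h16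
    rw [two_part_twistG2 f hf hK] at h3
    omega
  -- the involution is moved, as the group is perfect
  have hmove : T ≠ {genA} := by
    intro hTeq
    have hfixa : ∀ n : ↥N, (n : ↥(endoG2 f).fix) * a = a * n := by
      intro n
      have h1 : n • a ∈ MulAction.orbit ↥N a := MulAction.mem_orbit a n
      obtain ⟨d, hd⟩ := hsub _ h1
      have h2 : d ∈ T := by rw [hT, Finset.mem_filter, hd]; exact ⟨Finset.mem_univ _, h1⟩
      rw [hTeq, Finset.mem_singleton] at h2
      rw [h2, ← ha, hsmul, eq_comm, mul_inv_eq_iff_eq_mul] at hd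
      exact hd
    have hPc : IsMulCommutative (sylowTwoG2 f hf hK : Subgroup ↥(endoG2 f).fix) := by
      refine ⟨⟨?_⟩⟩
      rintro ⟨_, ⟨d, rfl⟩⟩ ⟨_, ⟨d', rfl⟩⟩
      refine Subtype.ext ?_
      show sylowHomG2 f hf hK d * sylowHomG2 f hf hK d' =
        sylowHomG2 f hf hK d' * sylowHomG2 f hf hK d
      rw [← map_mul, ← map_mul, mul_comm]
    have h1 := Transfer.commutator_inf_sylow_eq_normalizer (sylowTwoG2 f hf hK) hPc
    rw [hperf, top_inf_eq, coe_sylowTwoG2 f hf hK, ← hP] at h1
    have haN : (⟨a, Subgroup.le_normalizer haP⟩ : ↥N) ∈ commutator ↥N := by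
      have h2 : a ∈ (commutator ↥N).map N.subtype := by
        rw [commutator_def, Subgroup.map_commutator, ← MonoidHom.range_eq_map, Subgroup.range_subtype]
        exact (h1.le haP).1
      obtain ⟨y, hy, e1⟩ := h2
      rwa [show (⟨a, Subgroup.le_normalizer haP⟩ : ↥N) = y from Subtype.ext e1.symm]
    -- transfer
    letI : CommGroup ↥(P.subgroupOf N) :=
      { (inferInstance : Group ↥(P.subgroupOf N)) with
        mul_comm := fun x y => by
          obtain ⟨d, hd⟩ := Subgroup.mem_subgroupOf.1 x.2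
          obtain ⟨d', hd'⟩ := Subgroup.mem_subgroupOf.1 y.2
          refine Subtype.ext (Subtype.ext ?_)
          simp only [Subgroup.coe_mul]
          rw [← hd, ← hd', ← map_mul, ← map_mul, mul_comm] }
    set aN : ↥N := ⟨a, Subgroup.le_normalizer haP⟩ with haN'
    have hker := Abelianization.commutator_subset_ker
      (MonoidHom.transfer (MonoidHom.id ↥(P.subgroupOf N))) haN
    rw [MonoidHom.mem_ker, MonoidHom.transfer_eq_pow] at hker
    swap
    · intro k g₀ _
      have hc : Commute g₀ aN := Subtype.ext (hfixa g₀)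
      rw [mul_assoc, ← (hc.pow_right k).eq, inv_mul_cancel_left]
    have h2 : aN ^ (P.subgroupOf N).index = 1 := congrArg Subtype.val hker
    have hi : (P.subgroupOf N).index * 8 = T.card * 24 := by
      rw [hTcard, hcard, ← range_sylowHomG2_card f hf hK, ← hP,
        ← Nat.card_congr (Subgroup.subgroupOfEquivOfLe (Subgroup.le_normalizer (H := P))).toEquiv,
        Subgroup.index_mul_card]
    have hs : aN ^ 2 = 1 := by
      refine Subtype.ext ?_
      show a ^ 2 = 1
      rw [pow_two, ha, ← map_mul, eight_sq, map_one]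
    obtain ⟨k, hk⟩ : Odd (P.subgroupOf N).index := Nat.odd_iff.2 (by omega)
    rw [hk, pow_succ, pow_mul, hs, one_pow, one_mul] at h2
    have h4 : a = sylowHomG2 f hf hK 1 := by
      rw [map_one]; exact congrArg Subtype.val h2
    exact absurd (sylowHomG2_injective f hf hK h4) genA_ne_one
  have h7 : T.card = 7 := by
    refine orbit_card_eq_seven T ?_ ?_ ?_ hmove hodd
    · rw [hT, Finset.mem_filter]
      exact ⟨Finset.mem_univ _, MulAction.mem_orbit_self a⟩
    · rw [hT, Finset.mem_filter, map_one]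
      rintro ⟨-, n, hn⟩
      change n • a = 1 at hn
      rw [hsmul, conj_eq_one_iff] at hn
      exact absurd (sylowHomG2_injective f hf hK (hn.trans (map_one _).symm)) genA_ne_one
    · intro d
      by_cases hd : d ∈ T
      · left
        rw [hT, Finset.mem_filter] at hd ⊢
        refine ⟨Finset.mem_univ _, ?_⟩
        obtain ⟨n, hn⟩ := hd.2
        change n • a = _ at hn
        set u := centHomG2 f hf hK
          (1, ((up2 1 : SL(2, K)) : SL(2, K) ⧸ Subgroup.center SL(2, K))) with hu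
        have huconj : ∀ d, u * sylowHomG2 f hf hK d * u⁻¹ = sylowHomG2 f hf hK (cycleG2 d) := by
          intro d
          rw [hu, sylowHomG2, MonoidHom.comp_apply, MonoidHom.comp_apply, ← map_inv, ← map_mul,
            ← map_mul]
          refine congrArg _ (Prod.ext ?_ ?_)
          · show 1 * d.1 * (1 : Multiplicative (ZMod 2))⁻¹ = d.1
            rw [one_mul, inv_one, mul_one]
          · exact kleinHom_cycle d.2
        have huN : u ∈ N := Subgroup.mem_normalizer_fintype fun x hx => by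
          obtain ⟨d, rfl⟩ := hx
          exact ⟨cycleG2 d, (huconj d).symm⟩
        refine ⟨⟨u, huN⟩ * n, ?_⟩
        show (⟨u, huN⟩ * n : ↥N) • a = _
        rw [mul_smul, hn, hsmul, huconj]
      · exact Or.inr hd
  rw [← hcard, ← hTcard, h7]

/-- The centralizer and normalizer of any Sylow 2-subgroup. -/
theorem sylowTwo_normalizerG2 (hK : Fintype.card K = 3 * e ^ 2)
    (hperf : commutator ↥(endoG2 f).fix = ⊤) (S : Sylow 2 ↥(endoG2 f).fix) :
    Subgroup.centralizer ((S : Subgroup ↥(endoG2 f).fix) : Set ↥(endoG2 f).fix) = S ∧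
      Nat.card (Subgroup.normalizer ((S : Subgroup ↥(endoG2 f).fix) : Set ↥(endoG2 f).fix)) = 168 := by
  have : Fact (Nat.Prime 2) := ⟨Nat.prime_two⟩
  obtain ⟨g, rfl⟩ := MulAction.exists_smul_eq ↥(endoG2 f).fix (sylowTwoG2 f hf hK) S
  set φ := MulAut.conj g with hφ
  have hS : ((g • sylowTwoG2 f hf hK : Sylow 2 ↥(endoG2 f).fix) : Subgroup ↥(endoG2 f).fix) =
      (sylowHomG2 f hf hK).range.map (φ : ↥(endoG2 f).fix ≃* ↥(endoG2 f).fix).toMonoidHom := rfl
  rw [hS]
  constructor
  · conv_rhs => rw [← centralizer_range_sylowHomG2 f hf hK]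
    ext x
    rw [Subgroup.mem_centralizer_iff, Subgroup.mem_map_equiv, Subgroup.mem_centralizer_iff]
    constructor
    · intro h y hy
      have := congrArg φ.symm (h _ ⟨y, hy, rfl⟩)
      simpa using this
    · rintro h _ ⟨y, hy, rfl⟩
      simpa using congrArg φ (h y hy)
  · rw [← Subgroup.map_equiv_normalizer_eq, Subgroup.card_map_of_injective φ.injective,
      card_normalizerG2 f hf hK hperf]

end CfsgLib.Chev
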