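import Cfsg.Agent.Lib.Chev.TwistG2Unip

/-!
The torus of the small Ree group and its action on the unipotent radical.
-/

set_option autoImplicit false
set_option maxRecDepth 100000
set_option linter.unusedSectionVars false

namespace CfsgLib.Chev

open Cfsg.Lie Matrix
open Cert (torusHom extC extC_ne_zero)

variable {K : Type*} [Field K] [Fintype K] [CharP K 3] {e : ℕ} (f : K →+* K)
  (hf : ∀ t, f t = t ^ e)
include hf

/-- The units onto the fixed torus. -/
noncomputable def torG2Hom (e : ℕ) : Kˣ →* GL chevG2.Idx K :=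
  (torusHom (D := chevG2) (T := tabG2)).comp (MonoidHom.mk' (parG2 e) fun u v => parG2_mul u v)

lemma torG2Hom_injective : Function.Injective (torG2Hom (K := K) e) := by
  rw [injective_iff_map_eq_one]
  intro v hv
  exact congrFun (ker_trivialG2 (K := K) (z := parG2 e v) hv) ⟨1, by decide⟩

lemma range_torG2Hom (hK : Fintype.card K = 3 * e ^ 2) :
    (torG2Hom e).range = (endoG2 f).fix ⊓ chevG2.diagonalSubgroup K := by
  ext g
  constructor
  · rintro ⟨v, rfl⟩
    exact (endoG2 f).torusHom_mem_fix (tor_parG2 f hf hK v)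
  · intro hg
    obtain ⟨c, rfl, hz⟩ := (endoG2 f).exists_param hg
    obtain ⟨c', hc', e'⟩ := exists_fix_paramG2 f hf hz
    refine ⟨c' ⟨1, by decide⟩, ?_⟩
    show torusHom (parG2 e _) = _
    rw [← eq_parG2 f hf hK hc', e']

/-- The fixed torus is the multiplicative group. -/
noncomputable def torG2Equiv (hK : Fintype.card K = 3 * e ^ 2) :
    Kˣ ≃* ↥((endoG2 f).fix ⊓ chevG2.diagonalSubgroup K) :=
  (MonoidHom.ofInjective (torG2Hom_injective f hf)).trans
    (MulEquiv.subgroupCongr (range_torG2Hom f hf hK))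

lemma torG2Hom_conj (v : Kˣ) {r : ℕ} (hr : r < 12) (t : K) :
    torG2Hom e v * X chevG2 r t * (torG2Hom e v)⁻¹ =
      X chevG2 r (((v : K) ^ e) ^ tabG2.car 0 r * (v : K) ^ tabG2.car 1 r * t) := by
  rw [← charOf_parG2 v r]
  exact Endo.conj_X_charOf (h := certG2) (fun i _ => extC_ne_zero _ i) rfl hr t

omit hf in
lemma fpf_G2 (hK : Fintype.card K = 3 * e ^ 2) {v : Kˣ} (hv : Odd (orderOf v)) {k : ℕ}
    (hk : k = 1 ∨ k = 2) (h : v ^ (3 * e) = v ^ k) : v = 1 := by
  have hq : v ^ Fintype.card K = v := Units.ext (by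
    rw [Units.val_pow_eq_pow_val, FiniteField.pow_card])
  have h2 : v ^ 3 = v ^ (k * k) := by
    calc v ^ 3 = (v ^ Fintype.card K) ^ 3 := by rw [hq]
      _ = (v ^ (3 * e)) ^ (3 * e) := by rw [← pow_mul, ← pow_mul, hK]; ring_nf
      _ = (v ^ (3 * e)) ^ k := by rw [h, pow_right_comm, h, pow_right_comm]
      _ = v ^ (k * k) := by rw [h, ← pow_mul]
  rcases hk with rfl | rfl
  · have h3 : v ^ 2 = 1 := mul_right_cancel (b := v) (by rw [← pow_succ, one_mul]; simpa using h2)
    rcases (Nat.dvd_prime Nat.prime_two).1 (orderOf_dvd_of_pow_eq_one h3) with h4 | h4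
    · exact orderOf_eq_one_iff.1 h4
    · rw [h4] at hv; exact absurd hv (by decide)
  · exact mul_right_cancel (b := v ^ 3) (by
      rw [one_mul, ← pow_succ', show (2 * 2 : ℕ) = 3 + 1 by norm_num] at *; exact h2.symm)

lemma reeElt_fixed_eq_one (hK : Fintype.card K = 3 * e ^ 2) {v : Kˣ} (hv : Odd (orderOf v))
    (hv1 : v ≠ 1) {p : K × K × K}
    (h : torG2Hom e v * reeElt e p * (torG2Hom e v)⁻¹ = reeElt e p) : reeElt e p = 1 := by
  rw [reeElt_eq f hf, lowG2, ← conj_mul, ← conj_mul, ← conj_mul, ← conj_mul, ← conj_mul,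
    torG2Hom_conj f hf v (by norm_num), torG2Hom_conj f hf v (by norm_num),
    torG2Hom_conj f hf v (by norm_num), torG2Hom_conj f hf v (by norm_num),
    torG2Hom_conj f hf v (by norm_num), torG2Hom_conj f hf v (by norm_num), ← lowG2, ← lowG2] at h
  obtain ⟨-, h6, -, -, h10, h11⟩ := coordG2_inj h
  rw [show tabG2.car 0 6 = -3 by decide +kernel, show tabG2.car 1 6 = 2 by decide +kernel,
    _root_.zpow_neg, zpow_ofNat, zpow_ofNat] at h6
  rw [show tabG2.car 0 10 = 3 by decide +kernel, show tabG2.car 1 10 = -1 by decide +kernel,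
    zpow_ofNat, _root_.zpow_neg_one] at h10
  rw [show tabG2.car 0 11 = 0 by decide +kernel, show tabG2.car 1 11 = 1 by decide +kernel,
    zpow_zero, zpow_one, one_mul] at h11
  have hv0 : (v : K) ≠ 0 := v.ne_zero
  have t0 : p.1 = 0 := by
    by_contra hne
    have h1 := mul_eq_right₀ hne |>.1 h6
    rw [inv_mul_eq_one₀ (pow_ne_zero _ (pow_ne_zero _ hv0)), ← pow_mul, mul_comm e 3] at h1
    exact hv1 (fpf_G2 hK hv (Or.inr rfl) (Units.ext (by
      simpa [Units.val_pow_eq_pow_val] using h1)))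
  have u0 : p.2.1 = 0 := by
    by_contra hne
    have h1 := mul_eq_right₀ hne |>.1 h10
    rw [mul_inv_eq_one₀ hv0, ← pow_mul, mul_comm e 3] at h1
    exact hv1 (fpf_G2 hK hv (Or.inl rfl) (Units.ext (by
      simpa [Units.val_pow_eq_pow_val] using h1)))
  have v0 : p.2.2 = 0 := by
    by_contra hne
    exact hv1 (Units.ext (by simpa using mul_eq_right₀ hne |>.1 h11))
  rw [reeElt_eq f hf, t0, u0, v0]
  simp [zero_pow (e_ne_zero_G2 f hf), X_zeroG2, lowG2_zero]

theorem centralizer_torG2 (hK : Fintype.card K = 3 * e ^ 2) {g : GL chevG2.Idx K}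
    (hg : g ∈ (endoG2 f).fix ⊓ chevG2.diagonalSubgroup K) (hg1 : g ≠ 1) (hodd : Odd (orderOf g)) :
    ((endoG2 f).fix ⊓ chevG2.posUnipotent K) ⊓ Subgroup.centralizer {g} = ⊥ := by
  rw [← range_torG2Hom f hf hK] at hg
  obtain ⟨v, rfl⟩ := hg
  rw [orderOf_injective _ (torG2Hom_injective f hf)] at hodd
  rw [eq_bot_iff]
  rintro x ⟨hx, hc⟩
  obtain ⟨p, hp⟩ := (reeEquiv f hf hK).surjective ⟨x, hx⟩
  have hp' : reeElt e p = x := congrArg Subtype.val hp
  rw [Subgroup.mem_bot, ← hp']
  refine reeElt_fixed_eq_one f hf hK hodd (fun h => hg1 (by rw [h, map_one])) ?_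
  rw [hp', mul_inv_eq_iff_eq_mul]
  exact Subgroup.mem_centralizer_singleton_iff.1 hc |>.symm

theorem card_odd_torG2 (hK : Fintype.card K = 3 * e ^ 2) :
    2 * Nat.card {h : ↥((endoG2 f).fix ⊓ chevG2.diagonalSubgroup K) // Odd (orderOf h)} =
      Fintype.card K - 1 := by
  obtain ⟨n, hn, hodd, -⟩ := half_G2 hK
  have hcard : Nat.card Kˣ = 2 * n := by rw [Nat.card_units, Nat.card_eq_fintype_card, hn]
  have e1 : Nat.card {h : ↥((endoG2 f).fix ⊓ chevG2.diagonalSubgroup K) // Odd (orderOf h)} =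
      Nat.card {v : Kˣ // v ^ n = 1} := by
    refine (Nat.card_congr (Equiv.subtypeEquiv (torG2Equiv f hf hK).toEquiv fun v => ?_)).symm
    show v ^ n = 1 ↔ Odd (orderOf (torG2Equiv f hf hK v))
    rw [MulEquiv.orderOf_eq]
    constructor
    · exact fun h => hodd.of_dvd_nat (orderOf_dvd_of_pow_eq_one h)
    · intro h
      exact orderOf_dvd_iff_pow_eq_one.1 (Nat.Coprime.dvd_of_dvd_mul_left
        ((Nat.coprime_two_right).2 h) (hcard ▸ orderOf_dvd_natCard v))
  rw [e1, card_units_pow_eq_one, hn, Nat.gcd_eq_right (dvd_mul_left n 2)]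

theorem card_orderThreeG2 (hK : Fintype.card K = 3 * e ^ 2) :
    Nat.card {u : ↥((endoG2 f).fix ⊓ chevG2.posUnipotent K) // orderOf u = 3} =
      Fintype.card K ^ 2 - 1 := by
  classical
  have key : ∀ p, orderOf (reeEquiv f hf hK p) = 3 ↔ p.1 = 0 ∧ p.2 ≠ (0, 0) := by
    intro p
    haveI : Fact (Nat.Prime 3) := ⟨Nat.prime_three⟩
    rw [orderOf_eq_prime_iff, ne_eq, Subtype.ext_iff, Subtype.ext_iff, SubgroupClass.coe_pow,
      OneMemClass.coe_one]
    rw [show ((reeEquiv f hf hK p : _) : GL chevG2.Idx K) = reeElt e p from rfl,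
      reeElt_cube_eq_one f hf]
    refine and_congr_right fun h0 => not_congr ?_
    have h0' : reeElt e (0 : K × K × K) = 1 := by
      rw [reeElt_eq f hf]; simp [zero_pow (e_ne_zero_G2 f hf), X_zeroG2, lowG2_zero]
    rw [← h0']
    constructor
    · intro h; exact congrArg Prod.snd (reeElt_injective f hf h)
    · intro h; exact congrArg (reeElt e) (Prod.ext h0 h)
  have e1 : Nat.card {u : ↥((endoG2 f).fix ⊓ chevG2.posUnipotent K) // orderOf u = 3} =
      Nat.card {q : K × K // q ≠ (0, 0)} := by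
    refine ((Nat.card_congr (Equiv.subtypeEquiv (reeEquiv f hf hK) fun p => (key p).symm)).symm).trans
      (Nat.card_congr
        { toFun := fun p => ⟨p.1.2, p.2.2⟩
          invFun := fun q => ⟨(0, q.1), rfl, q.2⟩
          left_inv := fun p => Subtype.ext (Prod.ext p.2.1.symm rfl)
          right_inv := fun q => rfl })
  rw [e1, Nat.card_eq_fintype_card, Fintype.card_subtype_compl, Fintype.card_subtype_eq,
    Fintype.card_prod, sq]

end CfsgLib.Chev
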