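import Cfsg.Agent.Lib.Chev.TwistG2Rank1

/-!
The small Ree groups are generated by two elements: a generator of the torus, and the product of
the opposite-point representative with one unipotent element.
-/

set_option autoImplicit false
set_option maxRecDepth 100000
set_option linter.unusedSectionVars false

namespace CfsgLib.Chev

open Cfsg.Lie Matrix
open Cert (torusHom extC extC_ne_zero)

variable {K : Type*} [Field K] [Fintype K] [CharP K 3] {e : ℕ} (f : K →+* K)
  (hf : ∀ t, f t = t ^ e)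
include hf

lemma ree_mul (hK : Fintype.card K = 3 * e ^ 2) (p p' : K × K × K) :
    reeElt e p * reeElt e p' = reeElt e (p.1 + p'.1, -((p'.1 ^ e) ^ 3 * p.1) + p.2.1 + p'.2.1,
      -((p'.1 ^ e) ^ 3 * p.1 ^ 2) + p.2.2 - (-((p'.1 ^ e) ^ 3 * p.1) + p.2.1) * p'.1 + p'.2.2) := by
  obtain ⟨r, hr⟩ := (reeEquiv f hf hK).surjective
    ⟨_, mul_mem (reeElt_mem f hf hK p) (reeElt_mem f hf hK p')⟩
  have hr' : reeElt e r = reeElt e p * reeElt e p' := congrArg Subtype.val hr
  rw [← hr']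
  rw [reeElt_eq f hf p, reeElt_eq f hf p', mul_coordG2, reeElt_eq f hf r] at hr'
  obtain ⟨-, h1, -, -, h2, h3⟩ := coordG2_inj hr'
  exact congrArg _ (Prod.ext h1 (Prod.ext h2 h3))

lemma ree_zero : reeElt e (0 : K × K × K) = 1 := by
  rw [reeElt_eq f hf]; simp [zero_pow (e_ne_zero_G2 f hf), X_zeroG2, lowG2_zero]

lemma ree_inv_low (hK : Fintype.card K = 3 * e ^ 2) (u w : K) :
    (reeElt e (0, u, w))⁻¹ = reeElt e (0, -u, -w) := by
  refine inv_eq_of_mul_eq_one_right ((ree_mul f hf hK _ _).trans ?_)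
  rw [← ree_zero f hf]
  congr 1
  simp [zero_pow (e_ne_zero_G2 f hf)]

lemma ree_conj (hK : Fintype.card K = 3 * e ^ 2) (v : Kˣ) (p : K × K × K) :
    torG2Hom e v * reeElt e p * (torG2Hom e v)⁻¹ =
      reeElt e (((((v : K) ^ e) ^ 3)⁻¹ * (v : K) ^ 2) * p.1,
        (((v : K) ^ e) ^ 3 * (v : K)⁻¹) * p.2.1, (v : K) * p.2.2) := by
  have hm : torG2Hom e v * reeElt e p * (torG2Hom e v)⁻¹ ∈
      (endoG2 f).fix ⊓ chevG2.posUnipotent K := by
    have hv := (range_torG2Hom f hf hK).le ⟨v, rfl⟩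
    exact ⟨(endoG2 f).fix.mul_mem ((endoG2 f).fix.mul_mem hv.1 (reeElt_mem f hf hK p).1)
      ((endoG2 f).fix.inv_mem hv.1),
      (Subgroup.mem_normalizer_iff.1 (certG2.diagonal_le_normalizer_posUnipotent hv.2) _).1
        (reeElt_mem f hf hK p).2⟩
  obtain ⟨r, hr⟩ := (reeEquiv f hf hK).surjective ⟨_, hm⟩
  have hr' : reeElt e r = torG2Hom e v * reeElt e p * (torG2Hom e v)⁻¹ := congrArg Subtype.val hr
  rw [← hr']
  rw [reeElt_eq f hf p, lowG2, ← conj_mul, ← conj_mul, ← conj_mul, ← conj_mul, ← conj_mul,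
    torG2Hom_conj f hf v (by norm_num), torG2Hom_conj f hf v (by norm_num),
    torG2Hom_conj f hf v (by norm_num), torG2Hom_conj f hf v (by norm_num),
    torG2Hom_conj f hf v (by norm_num), torG2Hom_conj f hf v (by norm_num), ← lowG2,
    reeElt_eq f hf r] at hr'
  obtain ⟨-, h1, -, -, h2, h3⟩ := coordG2_inj hr'
  rw [show tabG2.car 0 6 = -3 by decide +kernel, show tabG2.car 1 6 = 2 by decide +kernel,
    _root_.zpow_neg, zpow_ofNat, zpow_ofNat] at h1
  rw [show tabG2.car 0 10 = 3 by decide +kernel, show tabG2.car 1 10 = -1 by decide +kernel,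
    zpow_ofNat, _root_.zpow_neg_one] at h2
  rw [show tabG2.car 0 11 = 0 by decide +kernel, show tabG2.car 1 11 = 1 by decide +kernel,
    zpow_zero, zpow_one, one_mul] at h3
  exact congrArg _ (Prod.ext h1 (Prod.ext h2 h3))

omit hf in
/-- The character on the quotient is faithful. -/
lemma char_t_injective (hK : Fintype.card K = 3 * e ^ 2) {v : Kˣ} (h : v ^ (3 * e) = v ^ 2) : v = 1 := by
  obtain ⟨N, hN, hodd, -⟩ := half_G2 hK
  have hv2 : v ^ 2 = 1 := by
    refine fpf_G2 hK (hodd.of_dvd_nat (orderOf_dvd_of_pow_eq_one ?_)) (Or.inr rfl) ?_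
    · rw [← pow_mul, ← hN, ← Nat.card_eq_fintype_card, ← Nat.card_units, pow_card_eq_one']
    · rw [← pow_mul, mul_comm 2 (3 * e), pow_mul, h]
  obtain ⟨k, hk⟩ := odd_e_G2 hK
  rw [hk, show 3 * (2 * k + 1) = 2 * (3 * k + 1) + 1 by ring, pow_succ, pow_mul, hv2, one_pow,
    one_mul] at h
  exact h

omit hf in
lemma char_u_kernel (hK : Fintype.card K = 3 * e ^ 2) {v : Kˣ} (h : v ^ (3 * e) = v) : v ^ 2 = 1 := by
  obtain ⟨N, hN, hodd, -⟩ := half_G2 hK
  refine fpf_G2 hK (hodd.of_dvd_nat (orderOf_dvd_of_pow_eq_one ?_)) (Or.inl rfl) ?_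
  · rw [← pow_mul, ← hN, ← Nat.card_eq_fintype_card, ← Nat.card_units, pow_card_eq_one']
  · rw [← pow_mul, mul_comm 2 (3 * e), pow_mul, h, pow_one]

theorem two_generatedG2 (hK : Fintype.card K = 3 * e ^ 2) (he : 3 ≤ e) :
    ∃ a b : GL chevG2.Idx K,
      a ∈ (endoG2 f).fix ∧ b ∈ (endoG2 f).fix ∧ Subgroup.closure {a, b} = (endoG2 f).fix := by
  classical
  obtain ⟨g, hg⟩ := IsCyclic.exists_generator (α := Kˣ)
  set n := n0G2 K with hn
  set h := torG2Hom (K := K) e g with hh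
  set u0 := reeElt e ((1, 0, 0) : K × K × K) with hu0
  have hnf : n ∈ (endoG2 f).fix := n0G2_mem f hf hK
  have htor : ∀ v : Kˣ, torG2Hom e v ∈ (endoG2 f).fix := fun v => ((range_torG2Hom f hf hK).le ⟨v, rfl⟩).1
  set L := Subgroup.closure ({h, n * u0} : Set (GL chevG2.Idx K)) with hL
  have hLle : L ≤ (endoG2 f).fix := by
    rw [hL, Subgroup.closure_le]
    rintro x (rfl | rfl)
    · exact htor g
    · exact mul_mem hnf (reeElt_mem f hf hK _).1
  refine ⟨h, n * u0, htor g, mul_mem hnf (reeElt_mem f hf hK _).1, le_antisymm hLle ?_⟩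
  have hah : h ∈ L := Subgroup.subset_closure (by simp)
  have hbL : n * u0 ∈ L := Subgroup.subset_closure (by simp)
  have htorL : ∀ v : Kˣ, torG2Hom e v ∈ L := fun v => by
    obtain ⟨k, rfl⟩ := Subgroup.mem_zpowers_iff.1 (hg v)
    rw [map_zpow]; exact Subgroup.zpow_mem _ hah k
  have hdiagL : ∀ x : GL chevG2.Idx K, x ∈ (endoG2 f).fix → x ∈ chevG2.diagonalSubgroup K → x ∈ L :=
    fun x h1 h2 => by
      obtain ⟨v, rfl⟩ := (range_torG2Hom f hf hK).ge ⟨h1, h2⟩
      exact htorL v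
  set M := L.comap (MulAut.conj n).toMonoidHom with hM
  have hmem : ∀ x, x ∈ M ↔ n * x * n⁻¹ ∈ L := fun x => Iff.rfl
  have htorM : ∀ v : Kˣ, torG2Hom e v ∈ M := fun v => (hmem _).2 (hdiagL _
    (mul_mem (mul_mem hnf (htor v)) (inv_mem hnf))
    (Endo.diag_conj (h := certG2) n0G2_monomial ((range_torG2Hom f hf hK).le ⟨v, rfl⟩).2))
  -- first coordinates
  let T : AddSubgroup K :=
    { carrier := {t | ∃ u w : K, reeElt e (t, u, w) ∈ M}
      zero_mem' := ⟨0, 0, by rw [show ((0 : K), (0 : K), (0 : K)) = 0 from rfl, ree_zero f hf]; exact one_mem _⟩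
      add_mem' := by
        rintro a b ⟨u, w, h1⟩ ⟨u', w', h2⟩
        have := mul_mem h1 h2
        rw [ree_mul f hf hK] at this
        exact ⟨_, _, this⟩
      neg_mem' := by
        rintro a ⟨u, w, h1⟩
        have hx := (reeEquiv f hf hK).surjective ⟨_, inv_mem (reeElt_mem f hf hK (a, u, w))⟩
        obtain ⟨r, hr⟩ := hx
        have hr' : reeElt e r = (reeElt e (a, u, w))⁻¹ := congrArg Subtype.val hr
        have h2 : reeElt e r ∈ M := hr' ▸ inv_mem h1
        have h3 : reeElt e (a, u, w) * reeElt e r = reeElt e 0 := by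
          rw [hr', mul_inv_cancel, ree_zero f hf]
        rw [ree_mul f hf hK] at h3
        have : a + r.1 = 0 := congrArg Prod.fst (reeElt_injective f hf h3)
        have hr1 : r.1 = -a := by linear_combination this
        exact ⟨r.2.1, r.2.2, by rw [← hr1]; exact h2⟩ }
  have hscale : ∀ (v : Kˣ) (p : K × K × K), reeElt e p ∈ M →
      reeElt e (((((v : K) ^ e) ^ 3)⁻¹ * (v : K) ^ 2) * p.1,
        (((v : K) ^ e) ^ 3 * (v : K)⁻¹) * p.2.1, (v : K) * p.2.2) ∈ M := fun v p hp => by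
    rw [← ree_conj f hf hK]
    exact mul_mem (mul_mem (htorM v) hp) (inv_mem (htorM v))
  set lt : Kˣ →* Kˣ := MonoidHom.mk' (fun v => ((v ^ e) ^ 3)⁻¹ * v ^ 2)
    (fun a b => by rw [mul_pow, mul_pow, mul_pow, mul_inv]; exact mul_mul_mul_comm _ _ _ _) with hlt
  have hlt_inj : Function.Injective lt := (injective_iff_map_eq_one lt).2 fun v hv => by
    refine char_t_injective hK ?_
    have : (v ^ e) ^ 3 = v ^ 2 := inv_mul_eq_one.1 hv
    rwa [← pow_mul, mul_comm] at this
  have hlt_surj : Function.Surjective lt := Finite.injective_iff_surjective.1 hlt_inj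
  have hT : ∀ t : K, t ∈ T := by
    -- a nonzero element
    have hc : u0 * h * u0⁻¹ * h⁻¹ ∈ M := by
      have h1 : u0 * h * u0⁻¹ ∈ M := (hmem _).2 (by
        rw [show n * (u0 * h * u0⁻¹) * n⁻¹ = (n * u0) * h * (n * u0)⁻¹ by group]
        exact mul_mem (mul_mem hbL hah) (inv_mem hbL))
      exact mul_mem h1 (inv_mem (htorM g))
    obtain ⟨r, hr⟩ := (reeEquiv f hf hK).surjective ⟨_, inv_mem (reeElt_mem f hf hK (1, 0, 0))⟩
    have hr' : reeElt e r = u0⁻¹ := congrArg Subtype.val hr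
    have h1 : r.1 = -1 := by
      have h3 : u0 * reeElt e r = reeElt e 0 := by rw [hr', mul_inv_cancel, ree_zero f hf]
      rw [hu0, ree_mul f hf hK] at h3
      have := congrArg Prod.fst (reeElt_injective f hf h3)
      simp at this
      linear_combination this
    rw [show u0 * h * u0⁻¹ * h⁻¹ = u0 * (h * u0⁻¹ * h⁻¹) by group, ← hr', hh, ree_conj f hf hK, hu0,
      ree_mul f hf hK] at hc
    set t0 := (1 : K) + ((((g : K) ^ e) ^ 3)⁻¹ * (g : K) ^ 2) * r.1 with ht0
    have hmem0 : t0 ∈ T := ⟨_, _, hc⟩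
    have ht0' : t0 ≠ 0 := by
      intro h0
      have hg1 : lt g = 1 := Units.ext (by
        simp [hlt]
        rw [ht0, h1] at h0
        linear_combination -h0)
      have : g = 1 := hlt_inj (hg1.trans (map_one lt).symm)
      have hcard := orderOf_eq_card_of_forall_mem_zpowers hg
      rw [this, orderOf_one, Nat.card_units, Nat.card_eq_fintype_card, hK] at hcard
      have : 27 ≤ 3 * e ^ 2 := by nlinarith
      omega
    intro t
    by_cases ht : t = 0
    · rw [ht]; exact T.zero_mem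
    obtain ⟨v, hv⟩ := hlt_surj (Units.mk0 (t / t0) (div_ne_zero ht ht0'))
    obtain ⟨u, w, hm⟩ := hmem0
    have := hscale v _ hm
    have hv' := congrArg Units.val hv
    simp [hlt] at hv'
    refine ⟨((((v : K) ^ e) ^ 3) * (v : K)⁻¹) * u, (v : K) * w, ?_⟩
    rwa [show ((((v : K) ^ e) ^ 3)⁻¹ * (v : K) ^ 2) * t0 = t by rw [hv', div_mul_cancel₀ _ ht0']] at this
  -- middle coordinates
  have hU : ∀ u : K, ∃ w : K, reeElt e (0, u, w) ∈ M := by
    let U : AddSubgroup K :=
      { carrier := {u | ∃ w : K, reeElt e (0, u, w) ∈ M}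
        zero_mem' := ⟨0, by rw [show ((0 : K), (0 : K), (0 : K)) = 0 from rfl, ree_zero f hf]; exact one_mem _⟩
        add_mem' := by
          rintro a b ⟨w, h1⟩ ⟨w', h2⟩
          have := mul_mem h1 h2
          rw [ree_mul f hf hK] at this
          exact ⟨_, by simpa [zero_pow (e_ne_zero_G2 f hf)] using this⟩
        neg_mem' := by
          rintro a ⟨w, h1⟩
          exact ⟨-w, ree_inv_low f hf hK a w ▸ inv_mem h1⟩ }
    obtain ⟨s, hs⟩ : ∃ s : K, (s ^ e) ^ 3 ≠ s := by
      by_contra hc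
      push Not at hc
      have hgg : g ^ (3 * e) = g := Units.ext (by
        rw [Units.val_pow_eq_pow_val, mul_comm, pow_mul]; exact hc g)
      have h2 := char_u_kernel hK hgg
      have hcard := orderOf_eq_card_of_forall_mem_zpowers hg
      rw [Nat.card_units, Nat.card_eq_fintype_card, hK] at hcard
      have := Nat.le_of_dvd (by norm_num) (orderOf_dvd_of_pow_eq_one h2)
      have : 27 ≤ 3 * e ^ 2 := by nlinarith
      omega
    obtain ⟨a, b, h1⟩ := hT 1
    obtain ⟨a', b', h2⟩ := hT s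
    have h12 := mul_mem h1 h2
    have h21 := mul_mem h2 h1
    rw [ree_mul f hf hK] at h12 h21
    simp only at h12 h21
    have hd := mul_mem (inv_mem h21) h12
    obtain ⟨r, hr⟩ := (reeEquiv f hf hK).surjective ⟨_, mul_mem
      (inv_mem (reeElt_mem f hf hK (s + 1, -(((1 : K) ^ e) ^ 3 * s) + a' + a,
        -(((1 : K) ^ e) ^ 3 * s ^ 2) + b' - (-(((1 : K) ^ e) ^ 3 * s) + a') * 1 + b)))
      (reeElt_mem f hf hK (1 + s, -((s ^ e) ^ 3 * 1) + a + a',
        -((s ^ e) ^ 3 * 1 ^ 2) + b - (-((s ^ e) ^ 3 * 1) + a) * s + b'))⟩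
    have hr' := congrArg Subtype.val hr
    change reeElt e r = _ at hr'
    have hrM : reeElt e r ∈ M := by rw [hr']; exact hd
    rw [eq_inv_mul_iff_mul_eq, ree_mul f hf hK] at hr'
    have e1 := congrArg Prod.fst (reeElt_injective f hf hr')
    have e2 := congrArg (fun p => p.2.1) (reeElt_injective f hf hr')
    simp only at e1 e2
    have r0 : r.1 = 0 := by linear_combination e1
    have hu1 : r.2.1 = s - (s ^ e) ^ 3 := by
      rw [r0, zero_pow (e_ne_zero_G2 f hf)] at e2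
      simp only [one_pow, one_mul, mul_one] at e2
      linear_combination e2
    have hmem0 : s - (s ^ e) ^ 3 ∈ U := ⟨r.2.2, by rw [← hu1, ← r0]; exact hrM⟩
    have hne : s - (s ^ e) ^ 3 ≠ 0 := sub_ne_zero.2 (Ne.symm hs)
    have hsq : ∀ x : K, x ^ 2 * (s - (s ^ e) ^ 3) ∈ U := by
      intro x
      by_cases hx : x = 0
      · simp [hx, U.zero_mem]
      set mu : Kˣ →* Kˣ := MonoidHom.mk' (fun v => (v ^ e) ^ 3 * v⁻¹)
        (fun a b => by rw [mul_pow, mul_pow, mul_inv]; exact mul_mul_mul_comm _ _ _ _) with hmu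
      have hker : mu.ker ≤ (powMonoidHom 2 : Kˣ →* Kˣ).ker := fun v hv => by
        rw [MonoidHom.mem_ker] at hv ⊢
        have : (v ^ e) ^ 3 = v := mul_inv_eq_one.1 hv
        exact char_u_kernel hK (by rwa [← pow_mul, mul_comm] at this)
      have hle : mu.range ≤ (powMonoidHom 2 : Kˣ →* Kˣ).range := by
        rintro _ ⟨v, rfl⟩
        obtain ⟨k, hk⟩ := odd_e_G2 hK
        refine ⟨v ^ (3 * k + 1), ?_⟩
        show (v ^ (3 * k + 1)) ^ 2 = (v ^ e) ^ 3 * v⁻¹
        rw [eq_mul_inv_iff_mul_eq, ← pow_mul, ← pow_succ, ← pow_mul, hk]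
        ring_nf
      have hrange : mu.range = (powMonoidHom 2 : Kˣ →* Kˣ).range := by
        refine Subgroup.eq_of_le_of_card_ge hle ?_
        have e1 := Subgroup.card_eq_card_quotient_mul_card_subgroup mu.ker
        have e2 := Subgroup.card_eq_card_quotient_mul_card_subgroup (powMonoidHom 2 : Kˣ →* Kˣ).ker
        rw [Nat.card_congr (QuotientGroup.quotientKerEquivRange _).toEquiv] at e1 e2
        have e3 := Subgroup.card_le_of_le hker
        have e4 : 0 < Nat.card mu.ker := Nat.card_pos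
        rw [e1] at e2
        by_contra hlt'
        push Not at hlt'
        have := Nat.mul_lt_mul_of_lt_of_le hlt' e3 Nat.card_pos
        omega
      obtain ⟨v, hv⟩ := hrange.ge ⟨Units.mk0 x hx, rfl⟩
      obtain ⟨w, hw⟩ := hmem0
      have := hscale v _ hw
      have hv' := congrArg Units.val hv
      simp [hmu] at hv'
      rw [mul_zero, hv'] at this
      exact ⟨_, this⟩
    intro u
    have h3 : (3 : K) = 0 := natCast3G2
    have := U.sub_mem (hsq (u / (s - (s ^ e) ^ 3) + 1)) (hsq (u / (s - (s ^ e) ^ 3) - 1))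
    rwa [show (u / (s - (s ^ e) ^ 3) + 1) ^ 2 * (s - (s ^ e) ^ 3) -
      (u / (s - (s ^ e) ^ 3) - 1) ^ 2 * (s - (s ^ e) ^ 3) = u by
        field_simp; linear_combination (u * (s - (s ^ e) ^ 3)) * h3] at this
  -- last coordinates
  have hW : ∀ w : K, reeElt e (0, 0, w) ∈ M := by
    obtain ⟨a, b, h1⟩ := hT 1
    obtain ⟨b', h2⟩ := hU 1
    have h12 := mul_mem h1 h2
    have h21 := mul_mem h2 h1
    rw [ree_mul f hf hK] at h12 h21
    simp [zero_pow (e_ne_zero_G2 f hf)] at h12 h21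
    have hd := mul_mem (inv_mem h21) h12
    obtain ⟨k, hk0, hk⟩ : ∃ k : K, k ≠ 0 ∧ reeElt e (0, 0, k) ∈ M := by
      refine ⟨(b + b') - (b' - 1 + b), by ring_nf; exact one_ne_zero, ?_⟩
      convert hd using 1
      rw [eq_inv_mul_iff_mul_eq, ree_mul f hf hK]
      congr 1
      simp [zero_pow (e_ne_zero_G2 f hf)]
      first
        | exact ⟨by ring, by ring⟩
        | ring
    intro w
    by_cases hw : w = 0
    · rw [hw, show ((0 : K), (0 : K), (0 : K)) = 0 from rfl, ree_zero f hf]; exact one_mem _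
    have := hscale (Units.mk0 (w / k) (div_ne_zero hw hk0)) _ hk
    simpa [div_mul_cancel₀ _ hk0] using this
  have hUM : ∀ p : K × K × K, reeElt e p ∈ M := by
    rintro ⟨t, u, w⟩
    obtain ⟨a, b, h1⟩ := hT t
    obtain ⟨b', h2⟩ := hU (u - a)
    have := mul_mem (mul_mem h1 h2) (hW (w - (b - a * 0 + b')))
    rw [ree_mul f hf hK, ree_mul f hf hK] at this
    convert this using 2
    simp [zero_pow (e_ne_zero_G2 f hf)]
  have hbor : ∀ b ∈ (endoG2 f).fix ⊓ chevG2.borelSubgroup K, b ∈ M := by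
    intro b hb
    obtain ⟨v, hv, t, ht, rfl⟩ := (endoG2 f).borel_fix.1 hb
    obtain ⟨p, hp⟩ := (reeEquiv f hf hK).surjective ⟨v, hv⟩
    obtain ⟨w, rfl⟩ := (range_torG2Hom f hf hK).ge ht
    rw [← show reeElt e p = v from congrArg Subtype.val hp]
    exact mul_mem (hUM p) (htorM w)
  have hnM : n ∈ M := by
    have : u0 * n ∈ M := (hmem _).2 (by
      rw [show n * (u0 * n) * n⁻¹ = n * u0 by group]; exact hbL)
    have h2 := mul_mem (inv_mem (hUM (1, 0, 0))) this
    rwa [inv_mul_cancel_left] at h2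
  intro x hx
  have hall : ∀ y ∈ (endoG2 f).fix, y ∈ M := by
    intro y hy
    rcases cellsG2 f hf hK hy with hB | ⟨b, hb, u, hu, rfl⟩
    · exact hbor y ⟨hy, hB⟩
    · obtain ⟨p, hp⟩ := (reeEquiv f hf hK).surjective ⟨u, hu⟩
      exact mul_mem (mul_mem (hbor b hb) hnM) ((show reeElt e p = u from congrArg Subtype.val hp) ▸ hUM p)
  have := (hmem _).1 (hall (n⁻¹ * x * n) (mul_mem (mul_mem (inv_mem hnf) hx) hnf))
  rwa [show n * (n⁻¹ * x * n) * n⁻¹ = x by group] at this

end CfsgLib.Chev
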