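import Cfsg.Agent.Lib.Chev.TwistG2

/-!
Coordinates and products in the unipotent radical of the small Ree group.
-/

set_option autoImplicit false
set_option maxRecDepth 100000
set_option linter.unusedSectionVars false

namespace CfsgLib.Chev

open Cfsg.Lie Matrix
open Cert (torusHom extC extC_ne_zero mem_posList sortedLT_posList)

variable {K : Type*} [Field K] [Fintype K] [CharP K 3]

/-- The part in the last four positive roots. -/
noncomputable def lowG2 (p P g k : K) : GL chevG2.Idx K :=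
  X chevG2 8 p * X chevG2 9 P * X chevG2 10 g * X chevG2 11 k

theorem commG2 : ∀ a ∈ [8, 9, 10, 11], ∀ b ∈ [8, 9, 10, 11], a < b →
    chkCommuteMod tabG2 3 a b = true := by
  decide +kernel

lemma low_commute {a b : ℕ} (ha : a ∈ [8, 9, 10, 11]) (hb : b ∈ [8, 9, 10, 11]) (x y : K) :
    Commute (X chevG2 a x : GL chevG2.Idx K) (X chevG2 b y) := by
  rcases lt_trichotomy a b with hab | hab | hab
  · exact certG2.commute_X_mod (p := 3) (commG2 a ha b hb hab) x y
  · subst hab
    have h12 : a < tabG2.n := (by decide +kernel : ∀ a ∈ [8, 9, 10, 11], a < tabG2.n) a ha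
    show _ * _ = _ * _
    rw [certG2.X_add h12, certG2.X_add h12, add_comm]
  · exact (certG2.commute_X_mod (p := 3) (commG2 b hb a ha hab) y x).symm

lemma lowG2_mul (p P g k p' P' g' k' : K) :
    lowG2 p P g k * lowG2 p' P' g' k' = lowG2 (p + p') (P + P') (g + g') (k + k') := by
  obtain ⟨h8, h9, h10, h11⟩ : 8 < tabG2.n ∧ 9 < tabG2.n ∧ 10 < tabG2.n ∧ 11 < tabG2.n := by
    decide +kernel
  simp only [lowG2, ← certG2.X_add h8, ← certG2.X_add h9, ← certG2.X_add h10, ← certG2.X_add h11,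
    mul_assoc]
  congr 1
  have c := fun (a b : ℕ) (ha : a ∈ [8, 9, 10, 11]) (hb : b ∈ [8, 9, 10, 11]) (x y : K) =>
    (low_commute (K := K) ha hb x y).eq
  rw [← mul_assoc (X chevG2 11 k), c 11 8 (by simp) (by simp), mul_assoc (X chevG2 8 p'),
    ← mul_assoc (X chevG2 10 g), c 10 8 (by simp) (by simp), mul_assoc (X chevG2 8 p'),
    ← mul_assoc (X chevG2 9 P), c 9 8 (by simp) (by simp), mul_assoc (X chevG2 8 p'),
    ← mul_assoc (X chevG2 11 k), c 11 9 (by simp) (by simp), mul_assoc (X chevG2 9 P'),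
    ← mul_assoc (X chevG2 10 g), c 10 9 (by simp) (by simp), mul_assoc (X chevG2 9 P'),
    ← mul_assoc (X chevG2 11 k), c 11 10 (by simp) (by simp), mul_assoc (X chevG2 10 g')]

lemma lowG2_zero : lowG2 (0 : K) 0 0 0 = 1 := by
  simp [lowG2, X_zeroG2]

theorem swapChkG2 : chkClassG2 7 6 8 9 10 11 (-1) 1 1 1 = true := by decide +kernel

/-- Moving the long simple root past the short one. -/
lemma swap67 (s t : K) :
    (X chevG2 6 t * X chevG2 7 s : GL chevG2.Idx K) =
      X chevG2 7 s * X chevG2 6 t *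
        lowG2 (s * t) (s ^ 2 * t) (-(s ^ 3 * t)) (-(s ^ 3 * t ^ 2)) := by
  rw [swapG2 swapChkG2 s t, lowG2, ← mul_assoc (X chevG2 7 s)]
  congr 4 <;> congr 1 <;> push_cast <;> ring

theorem terms78 : tabG2.commTerms 7 8 = [(9, -2, 1, 1), (10, -3, 2, 1), (11, 3, 1, 2)] ∧
    tabG2.commTerms 10 6 = [(11, -1, 1, 1)] ∧
    (∀ b ∈ [9, 10, 11], chkCommuteMod tabG2 3 7 b = true) ∧
    (∀ b ∈ [8, 9, 11], chkCommuteMod tabG2 3 6 b = true) := by
  decide +kernel

/-- Moving the short simple root to the front. -/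
lemma low_mul_X7 (p P g k s : K) :
    lowG2 p P g k * X chevG2 7 s = X chevG2 7 s * lowG2 p (P + 2 * s * p) g k := by
  obtain ⟨h7, h8, h9, h10, h11⟩ : 7 < tabG2.n ∧ 8 < tabG2.n ∧ 9 < tabG2.n ∧ 10 < tabG2.n ∧
      11 < tabG2.n := by
    decide +kernel
  obtain ⟨ht, -, hc, -⟩ := terms78
  have e1 := certG2.X_conj h7 h8 (by decide) (by decide +kernel) s p
  simp only [ht, List.map_cons, List.map_nil, List.prod_cons, List.prod_nil, mul_one, pow_one] at e1
  have z1 : ((-3 : ℤ) : K) = 0 := by push_cast; rw [natCast3G2, neg_zero]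
  have z2 : ((3 : ℤ) : K) = 0 := by push_cast; exact natCast3G2
  rw [z1, z2, zero_mul, zero_mul, zero_mul, zero_mul, X_zeroG2 10 (by norm_num),
    X_zeroG2 11 (by norm_num), mul_one, mul_one] at e1
  have e2 : (X chevG2 8 p * X chevG2 7 s : GL chevG2.Idx K) =
      X chevG2 7 s * (X chevG2 8 p * X chevG2 9 (2 * s * p)) := by
    rw [show (2 * s * p : K) = ((-2 : ℤ) : K) * -s * p by push_cast; ring, ← e1, ← mul_assoc,
      ← mul_assoc, certG2.X_add h7, add_neg_cancel, certG2.X_zero h7, one_mul]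
  have c := fun b (hb : b ∈ [9, 10, 11]) (y : K) =>
    (certG2.commute_X_mod (F := K) (p := 3) (hc b hb) s y).eq
  simp only [lowG2, mul_assoc]
  rw [← c 11 (by simp), ← mul_assoc (X chevG2 10 g), ← c 10 (by simp), mul_assoc (X chevG2 7 s),
    ← mul_assoc (X chevG2 9 P), ← c 9 (by simp), mul_assoc (X chevG2 7 s),
    ← mul_assoc (X chevG2 8 p), e2]
  simp only [mul_assoc]
  rw [← mul_assoc (X chevG2 9 (2 * (s * p))), certG2.X_add h9, add_comm]

/-- Moving the long simple root to the front. -/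
lemma low_mul_X6 (p P g k t : K) :
    lowG2 p P g k * X chevG2 6 t = X chevG2 6 t * lowG2 p P g (k - g * t) := by
  obtain ⟨h6, h10, h11⟩ : 6 < tabG2.n ∧ 10 < tabG2.n ∧ 11 < tabG2.n := by decide +kernel
  obtain ⟨-, ht, -, hc⟩ := terms78
  have e1 := certG2.X_conj h10 h6 (by decide) (by decide +kernel) (-g) t
  simp only [ht, List.map_cons, List.map_nil, List.prod_cons, List.prod_nil, mul_one, pow_one,
    _root_.neg_neg] at e1
  have e2 : (X chevG2 10 g * X chevG2 6 t : GL chevG2.Idx K) =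
      X chevG2 6 t * (X chevG2 10 g * X chevG2 11 (-(g * t))) := by
    have e3 : (X chevG2 10 g * X chevG2 6 t : GL chevG2.Idx K) =
        X chevG2 6 t * X chevG2 11 (-(g * t)) * X chevG2 10 g := by
      rw [show -(g * t) = ((-1 : ℤ) : K) * g * t by push_cast; ring, ← e1,
        mul_assoc (X chevG2 10 g * X chevG2 6 t), certG2.X_add h10, neg_add_cancel,
        certG2.X_zero h10, mul_one]
    rw [e3, mul_assoc, (low_commute (K := K) (a := 11) (b := 10) (by simp) (by simp) _ _).eq]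
  have c := fun b (hb : b ∈ [8, 9, 11]) (y : K) =>
    (certG2.commute_X_mod (F := K) (p := 3) (hc b hb) t y).eq
  simp only [lowG2, mul_assoc]
  rw [← c 11 (by simp), ← mul_assoc (X chevG2 10 g), e2]
  simp only [mul_assoc]
  rw [certG2.X_add h11, ← mul_assoc (X chevG2 9 P), ← c 9 (by simp), mul_assoc (X chevG2 6 t),
    ← mul_assoc (X chevG2 8 p), ← c 8 (by simp), mul_assoc (X chevG2 6 t),
    show -(g * t) + k = k - g * t by ring]

/-- The product in the coordinates. -/
theorem mul_coordG2 (a b a' b' p P g k p' P' g' k' : K) :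
    X chevG2 7 a * X chevG2 6 b * lowG2 p P g k *
        (X chevG2 7 a' * X chevG2 6 b' * lowG2 p' P' g' k') =
      X chevG2 7 (a + a') * X chevG2 6 (b + b') *
        lowG2 (a' * b + p + p') (a' ^ 2 * b + (P + 2 * a' * p) + P') (-(a' ^ 3 * b) + g + g')
          (-(a' ^ 3 * b ^ 2) + k - (-(a' ^ 3 * b) + g) * b' + k') := by
  obtain ⟨h6, h7⟩ : 6 < tabG2.n ∧ 7 < tabG2.n := by decide +kernel
  calc X chevG2 7 a * X chevG2 6 b * lowG2 p P g k *
        (X chevG2 7 a' * X chevG2 6 b' * lowG2 p' P' g' k')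
      = X chevG2 7 a * X chevG2 6 b * (lowG2 p P g k * X chevG2 7 a') *
          (X chevG2 6 b' * lowG2 p' P' g' k') := by simp only [mul_assoc]
    _ = X chevG2 7 a * (X chevG2 6 b * X chevG2 7 a') * lowG2 p (P + 2 * a' * p) g k *
          (X chevG2 6 b' * lowG2 p' P' g' k') := by rw [low_mul_X7]; simp only [mul_assoc]
    _ = X chevG2 7 (a + a') * X chevG2 6 b *
          (lowG2 (a' * b + p) (a' ^ 2 * b + (P + 2 * a' * p)) (-(a' ^ 3 * b) + g)
            (-(a' ^ 3 * b ^ 2) + k) * X chevG2 6 b') * lowG2 p' P' g' k' := by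
        rw [swap67, ← lowG2_mul, ← certG2.X_add h7]; simp only [mul_assoc]
    _ = _ := by
        rw [low_mul_X6, ← certG2.X_add h6, ← lowG2_mul]; simp only [mul_assoc]

/-- Uniqueness of the coordinates. -/
theorem coordG2_inj {a b p P g k a' b' p' P' g' k' : K}
    (h : X chevG2 7 a * X chevG2 6 b * lowG2 p P g k =
      X chevG2 7 a' * X chevG2 6 b' * lowG2 p' P' g' k') :
    a = a' ∧ b = b' ∧ p = p' ∧ P = P' ∧ g = g' ∧ k = k' := by
  have conv' : ∀ a b p P g k : K, X chevG2 7 a * X chevG2 6 b * lowG2 p P g k =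
      prodX chevG2 (posList tabG2) (fun r => ([b, a, -(a * b) + p, -(a ^ 2 * b) + P, a ^ 3 * b + g,
        a ^ 3 * b ^ 2 + k] : List K).getD (r - 6) 0) := by
    intro a b p P g k
    rw [show posList tabG2 = [6, 7, 8, 9, 10, 11] by decide +kernel]
    simp only [prodX, List.map_cons, List.map_nil, List.prod_cons, List.prod_nil, mul_one,
      Nat.sub_self, Nat.reduceSub, List.getD_cons_zero, List.getD_cons_succ]
    conv_rhs => rw [← mul_assoc, swap67, mul_assoc]
    rw [show (X chevG2 8 (-(a * b) + p) * (X chevG2 9 (-(a ^ 2 * b) + P) *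
        (X chevG2 10 (a ^ 3 * b + g) * X chevG2 11 (a ^ 3 * b ^ 2 + k))) : GL chevG2.Idx K) =
      lowG2 (-(a * b) + p) (-(a ^ 2 * b) + P) (a ^ 3 * b + g) (a ^ 3 * b ^ 2 + k) by
        simp only [lowG2, mul_assoc], lowG2_mul]
    congr 2 <;> ring
  rw [conv', conv'] at h
  have h' := certG2.prodX_inj (posList tabG2) sortedLT_posList (fun r hr => mem_posList.1 hr) _ _ h
  have hm : ∀ i, i < 6 → i + 6 ∈ posList tabG2 := by decide +kernel
  have h0 := h' _ (hm 0 (by norm_num))
  have h1 := h' _ (hm 1 (by norm_num))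
  have h2 := h' _ (hm 2 (by norm_num))
  have h3 := h' _ (hm 3 (by norm_num))
  have h4 := h' _ (hm 4 (by norm_num))
  have h5 := h' _ (hm 5 (by norm_num))
  simp only [Nat.add_sub_cancel, List.getD_cons_zero, List.getD_cons_succ] at h0 h1 h2 h3 h4 h5
  subst h0 h1
  exact ⟨rfl, rfl, add_left_cancel h2, add_left_cancel h3, add_left_cancel h4, add_left_cancel h5⟩

section

variable {e : ℕ} (f : K →+* K) (hf : ∀ t, f t = t ^ e)
include hf

/-- The word of three parameters as an element. -/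
noncomputable def reeElt (e : ℕ) (p : K × K × K) : GL chevG2.Idx K :=
  ((reeWordU e p.1 p.2.1 p.2.2).map fun q => X chevG2 q.1 q.2).prod

lemma reeElt_eq (p : K × K × K) :
    reeElt e p = X chevG2 7 (p.1 ^ e) * X chevG2 6 p.1 *
      lowG2 (p.1 ^ (e + 1) + p.2.1 ^ e) (p.1 ^ (2 * e + 1) + p.2.2 ^ e) p.2.1 p.2.2 := by
  rw [reeElt, reeU_prod f hf]
  simp [lowG2, g2a, g2b, g2ab, g2aab, g2aaab, g2aaabb, mul_assoc]

lemma reeElt_injective : Function.Injective (reeElt (K := K) e) := by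
  intro p p' h
  rw [reeElt_eq f hf, reeElt_eq f hf] at h
  obtain ⟨-, h1, -, -, h2, h3⟩ := coordG2_inj h
  exact Prod.ext h1 (Prod.ext h2 h3)

lemma reeElt_mem (hK : Fintype.card K = 3 * e ^ 2) (p : K × K × K) :
    reeElt e p ∈ (endoG2 f).fix ⊓ chevG2.posUnipotent K := by
  refine Subgroup.mem_inf.2 ⟨twistedG2_le_fix f hf hK
    (certG2.prod_mem_genSubgroup ⟨p.1, p.2.1, p.2.2, Or.inl rfl⟩), ?_⟩
  rw [certG2.posUnipotent_eq]
  refine list_prod_mem fun x hx => ?_
  obtain ⟨q, hq, rfl⟩ := List.mem_map.1 hx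
  refine X_mem_gen _ (?_ : q.1 ∈ posSet tabG2) _
  simp only [reeWordU, List.mem_cons, List.not_mem_nil, or_false] at hq
  rcases hq with rfl | rfl | rfl | rfl | rfl | rfl <;>
    (show _ ∧ _; dsimp only; decide +kernel)

/-- The parametrization of the fixed unipotent radical. -/
noncomputable def reeEquiv (hK : Fintype.card K = 3 * e ^ 2) :
    K × K × K ≃ ↥((endoG2 f).fix ⊓ chevG2.posUnipotent K) :=
  Equiv.ofBijective (fun p => ⟨reeElt e p, reeElt_mem f hf hK p⟩) <| by
    rw [Nat.bijective_iff_injective_and_card]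
    refine ⟨fun p p' h => reeElt_injective f hf (congrArg Subtype.val h), ?_⟩
    rw [card_posG2 f hf hK, Nat.card_prod, Nat.card_prod, Nat.card_eq_fintype_card]
    ring

/-- The cube of a fixed unipotent element. -/
lemma reeElt_cube_eq_one (p : K × K × K) : reeElt e p ^ 3 = 1 ↔ p.1 = 0 := by
  rw [reeElt_eq f hf, pow_succ, pow_two, mul_coordG2, mul_coordG2]
  have h3 := natCast3G2 (K := K)
  constructor
  · intro h
    rw [show (1 : GL chevG2.Idx K) =
      X chevG2 7 0 * X chevG2 6 0 * lowG2 0 0 0 0 by simp [X_zeroG2, lowG2_zero]] at h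
    obtain ⟨-, -, -, h4, -, -⟩ := coordG2_inj h
    have h5 : 2 * ((p.1 ^ e) ^ 2 * p.1) = 0 := by
      linear_combination h4 - (p.1 ^ (2 * e + 1) + p.2.2 ^ e +
        2 * (p.1 ^ e * (p.1 ^ (e + 1) + p.2.1 ^ e)) + (p.1 ^ e) ^ 2 * p.1) * h3
    rcases mul_eq_zero.1 h5 with h6 | h6
    · exact absurd (show (3 : K) = 2 + 1 by norm_num) (by rw [h3, h6, zero_add]; exact zero_ne_one)
    · rcases mul_eq_zero.1 h6 with h7 | h7
      · exact (pow_eq_zero_iff (e_ne_zero_G2 f hf)).1 ((pow_eq_zero_iff two_ne_zero).1 h7)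
      · exact h7
  · intro h
    simp only [h, zero_pow (e_ne_zero_G2 f hf), zero_pow (show e + 1 ≠ 0 by omega),
      zero_pow (show 2 * e + 1 ≠ 0 by omega)]
    ring_nf
    rw [h3]
    simp [X_zeroG2, lowG2_zero]

end

end CfsgLib.Chev
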