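import Cfsg.Agent.Lib.Chev.TwistCtx
import Cfsg.Agent.Lib.Chev.WeylCount

/-!
The Weyl elements commuting with a symmetry of the roots.
-/

set_option autoImplicit false

namespace CfsgLib.Chev

open Cfsg.Lie Matrix

/-- A class of simple indices with the longest word on it. -/
structure Cls where
  /-- the members -/
  mem : List ℕ
  /-- the word -/
  word : List ℕ

/-- An element of the centralizer of the symmetry: the images of the positive roots, the number of
inversions, and an element below it with the class leading to it. -/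
structure Elem where
  /-- the packed images of the positive roots -/
  code : ℕ
  /-- the number of inversions -/
  negc : ℕ
  /-- the index of an element below -/
  par : ℕ
  /-- the number of the class -/
  cls : ℕ

/-- The word of a list of classes. -/
def clsWord (CL : List Cls) (M : List ℕ) : List ℕ :=
  M.flatMap fun j => (CL.getD j ⟨[], []⟩).word

/-- The checks of the classes. -/
def chkCls (T : Tab) (ρ π : ℕ → ℕ) (CL : List Cls) : Bool :=
  ((List.range T.l).all fun i => CL.any fun c => c.mem.contains i) &&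
  ((CL.all fun c =>
    (c.mem.all fun i => decide (i < T.l) && (c.mem.all fun j =>
      (List.range c.mem.length).any fun k => decide (π^[k] i = j))) &&
    ((c.word.all fun i => c.mem.contains i) &&
    ((c.mem.all fun i => decide (rword T c.word (T.simple i) < T.half)) &&
    (List.range T.n).all fun r =>
      decide (rword T c.word (rword T c.word r) = r) &&
      (decide (ρ (rword T c.word r) = rword T c.word (ρ r)) &&
      (decide (¬ (T.half ≤ r ∧ rword T c.word r < T.half)) ||
        (List.range T.l).all fun m => c.mem.contains m || decide (T.cor r m = 0)))))) &&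
  (List.range CL.length).all fun a => (List.range CL.length).all fun b => decide (a = b) ||
    ((CL.getD a ⟨[], []⟩).mem.all fun i =>
      decide (T.half ≤ rword T (CL.getD b ⟨[], []⟩).word (T.simple i))))

/-- The check of one element with its row of the table. -/
noncomputable def chkElem (T : Tab) (CL : List Cls) (Es : List Elem) (e : Elem) (row : List ℕ) :
    Bool :=
  Nat.blt e.code (2 ^ (8 * (T.n - T.half))) &&
  ((Nat.beq e.negc (Tab.sumBelow (T.n - T.half) fun s =>
      cond (Nat.blt (Tab.field 8 e.code s) T.half) 1 0)) &&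
  ((cond (Nat.beq e.negc 0)
      (allBelow (T.n - T.half) fun s => Nat.beq (Tab.field 8 e.code s) (T.half + s))
      (Nat.blt e.par Es.length && (Nat.blt (Es.getD e.par e).negc e.negc &&
        (Nat.blt e.cls CL.length &&
        allBelow (T.n - T.half) fun s => Nat.beq (Tab.field 8 e.code s)
          (T.rwordF (CL.getD e.cls ⟨[], []⟩).word (Tab.field 8 (Es.getD e.par e).code s)))))) &&
  (decide (row.length = CL.length) && (CL.zip row).all fun ct =>
    Nat.blt ct.2 Es.length && allBelow T.l fun i =>
      Nat.beq (Tab.field 8 (Es.getD ct.2 e).code (T.simple i - T.half))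
        (T.rwordF ct.1.word (Tab.field 8 e.code (T.simple i - T.half))))))

/-- The checks of the list of elements, given the multiplication table. -/
noncomputable def chkElems (T : Tab) (CL : List Cls) (Es : List Elem) (tbl : List (List ℕ)) :
    Bool :=
  decide (tbl.length = Es.length) && (incr (Es.map Elem.code) &&
    ((Es.any fun e => decide (e.negc = 0)) &&
      (Es.zip tbl).all fun et => chkElem T CL Es et.1 et.2))

namespace Endo

variable {D : ChevalleyDatum} {T : Tab} {C : Tab.Cover} {h : Cert D T C} {F : Type*} [Field F]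
  (E : Endo h F)

/-- A word commutes with the symmetry. -/
def Comm (w : List ℕ) : Prop := ∀ r < T.n, E.ρ (rword T w r) = rword T w (E.ρ r)

lemma comm_nil : E.Comm [] := fun _ _ => rfl

include h in
lemma Comm.append {v w : List ℕ} (hw' : WordOK T w) (hv : E.Comm v) (hw : E.Comm w) :
    E.Comm (v ++ w) := fun r hr => by
  rw [rword_append, rword_append, hv _ (h.rword_lt hw' hr), hw r hr]

variable {CL : List Cls}

/-- The classes check out. -/
structure ClsOK (CL : List Cls) : Prop where
  cover : ∀ i < T.l, ∃ c ∈ CL, i ∈ c.mem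
  lt : ∀ c ∈ CL, ∀ i ∈ c.mem, i < T.l
  cyc : ∀ c ∈ CL, ∀ i ∈ c.mem, ∀ j ∈ c.mem, ∃ k, E.π^[k] i = j
  sub : ∀ c ∈ CL, ∀ i ∈ c.word, i ∈ c.mem
  negs : ∀ c ∈ CL, ∀ i ∈ c.mem, rword T c.word (T.simple i) < T.half
  invol : ∀ c ∈ CL, ∀ r < T.n, rword T c.word (rword T c.word r) = r
  comm : ∀ c ∈ CL, E.Comm c.word
  supp : ∀ c ∈ CL, ∀ r < T.n, T.half ≤ r → rword T c.word r < T.half →
    ∀ m < T.l, m ∉ c.mem → T.cor r m = 0
  sep : ∀ a < CL.length, ∀ b < CL.length, a ≠ b → ∀ i ∈ (CL.getD a ⟨[], []⟩).mem,
    T.half ≤ rword T (CL.getD b ⟨[], []⟩).word (T.simple i)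

lemma ClsOK.of_chk (hc : chkCls T E.ρ E.π CL = true) : E.ClsOK CL := by
  simp only [chkCls, Bool.and_eq_true, List.all_eq_true, List.any_eq_true, List.mem_range,
    Bool.or_eq_true, decide_eq_true_eq, List.contains_iff_mem] at hc
  obtain ⟨h1, h2, h3⟩ := hc
  refine ⟨h1, fun c hc i hi => ((h2 c hc).1 i hi).1, fun c hc i hi j hj => ?_,
    fun c hc => (h2 c hc).2.1, fun c hc => (h2 c hc).2.2.1,
    fun c hc r hr => ((h2 c hc).2.2.2 r hr).1, fun c hc r hr => ((h2 c hc).2.2.2 r hr).2.1,
    fun c hc r hr hh hlt m hm hnm => ?_, fun a ha b hb hab => (h3 a ha b hb).resolve_left hab⟩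
  · obtain ⟨k, -, e⟩ := ((h2 c hc).1 i hi).2 j hj; exact ⟨k, e⟩
  · rcases ((h2 c hc).2.2.2 r hr).2.2 with e | e
    · exact absurd ⟨hh, hlt⟩ e
    · exact (e m hm).resolve_left hnm

lemma ClsOK.wordOK (hC : E.ClsOK CL) {c : Cls} (hc : c ∈ CL) : WordOK T c.word :=
  fun i hi => hC.lt c hc i (hC.sub c hc i hi)

lemma wordOK_clsWord (hC : E.ClsOK CL) {M : List ℕ} (hM : ∀ j ∈ M, j < CL.length) :
    WordOK T (clsWord CL M) := fun i hi => by
  obtain ⟨j, hj, hi⟩ := List.mem_flatMap.1 hi
  rw [List.getD_eq_getElem _ _ (hM j hj)] at hi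
  exact hC.wordOK E (List.getElem_mem _) i hi

lemma comm_clsWord (hC : E.ClsOK CL) : ∀ {M : List ℕ}, (∀ j ∈ M, j < CL.length) →
    E.Comm (clsWord CL M)
  | [], _ => E.comm_nil
  | j :: M, hM => by
    have hj := hM j List.mem_cons_self
    have hM' : ∀ i ∈ M, i < CL.length := fun i hi => hM i (List.mem_cons_of_mem _ hi)
    rw [show clsWord CL (j :: M) = (CL.getD j ⟨[], []⟩).word ++ clsWord CL M from rfl,
      List.getD_eq_getElem _ _ hj]
    exact Comm.append E (E.wordOK_clsWord hC hM') (hC.comm _ (List.getElem_mem _))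
      (comm_clsWord hC hM')

lemma pos_iff_of_comm {w : List ℕ} (hw : WordOK T w) (hc : E.Comm w) {i : ℕ} (hi : i < T.l) :
    rword T w (T.simple (E.π i)) < T.half ↔ rword T w (T.simple i) < T.half := by
  rw [← E.sym.simple i hi, ← hc _ (h.simple_lt hi)]
  have := E.sym.pos _ (h.rword_lt hw (h.simple_lt hi))
  omega

include h in
/-- A word negating the members of a class negates all positive roots on the class. -/
lemma neg_of_class {w : List ℕ} (hw : WordOK T w) {c : List ℕ}
    (hneg : ∀ i ∈ c, i < T.l → rword T w (T.simple i) < T.half) {r : ℕ} (hh : T.half ≤ r)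
    (hr : r < T.n) (hsupp : ∀ m < T.l, m ∉ c → T.cor r m = 0) : rword T w r < T.half := by
  suffices ∀ k < T.l, h.wt k (rword T w r) ≤ 0 by
    obtain ⟨k, hk, hne⟩ := h.exists_wt_ne (h.rword_lt hw hr)
    exact h.neg_of_wt_neg hk (h.rword_lt hw hr) (lt_of_le_of_ne (this k hk) hne)
  induction r using Nat.strong_induction_on with
  | _ r ih =>
    intro k hk
    rcases h.exists_lower hh hr with ⟨i, hi, rfl⟩ | ⟨i, hi, hpos, hlt, hcar⟩
    · refine h.wt_nonpos hk (h.rword_lt hw hr) (hneg i ?_ hi)
      by_contra hn
      have h1 := hsupp i hi hn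
      rw [(h.simple_spec hi).2.2.2 i hi, if_pos rfl] at h1
      exact one_ne_zero h1
    · have hrl := h.refl_lt hi hr
      have hwt : ∀ m < T.l, m ∉ c → h.wt m r = 0 := fun m hm hn =>
        (h.wt_eq_zero_iff hm hr).2 (hsupp m hm hn)
      have hic : i ∈ c := by
        by_contra hn
        have e := h.wt_refl hi hr i
        rw [hwt i hi hn] at e
        have h1 := h.wt_nonneg hi hrl hpos
        have h2 : 0 < h.wt i (T.simple i) := by
          refine lt_of_le_of_ne (h.wt_nonneg hi (h.simple_lt hi) (h.simple_spec hi).1) fun e0 => ?_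
          have := (h.wt_eq_zero_iff hi (h.simple_lt hi)).1 e0.symm
          rw [(h.simple_spec hi).2.2.2 i hi, if_pos rfl] at this
          exact one_ne_zero this
        nlinarith
      have hsupp' : ∀ m < T.l, m ∉ c → T.cor (T.refl i r) m = 0 := by
        intro m hm hn
        rw [← h.wt_eq_zero_iff hm hrl, h.wt_refl hi hr, hwt m hm hn,
          (h.wt_eq_zero_iff hm (h.simple_lt hi)).2]
        · simp
        · rw [(h.simple_spec hi).2.2.2 m hm, if_neg]
          rintro rfl
          exact hn hic
      have e := h.wt_rword_refl hw hi hrl k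
      rw [h.refl_refl hi hr, h.car_refl hi hr] at e
      have h1 := ih _ hlt hpos hrl hsupp' k hk
      have h2 := h.wt_nonpos hk (h.rword_lt hw (h.simple_lt hi)) (hneg i hic hi)
      rw [e]
      nlinarith

include h in
/-- A word keeping the simple roots positive fixes every root. -/
lemma eq_self_of_pos {w : List ℕ} (hw : WordOK T w)
    (hpos : ∀ i < T.l, T.half ≤ rword T w (T.simple i)) {r : ℕ} (hr : r < T.n) :
    rword T w r = r := h.rword_eq_self hw hpos hr

/-- Peeling off one class. -/
lemma descent_step (hC : E.ClsOK CL) {w : List ℕ} (hw : WordOK T w) (hc : E.Comm w) {i : ℕ}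
    (hi : i < T.l) (hneg : rword T w (T.simple i) < T.half) :
    ∃ j, ∃ hj : j < CL.length, i ∈ CL[j].mem ∧
      T.negCount (w ++ CL[j].word) < T.negCount w := by
  obtain ⟨c, hc', hic⟩ := hC.cover i hi
  obtain ⟨j, hj, rfl⟩ := List.getElem_of_mem hc'
  refine ⟨j, hj, hic, ?_⟩
  set v := CL[j].word
  have hv := hC.wordOK E hc'
  have hall : ∀ m ∈ CL[j].mem, m < T.l → rword T w (T.simple m) < T.half := by
    intro m hm _
    obtain ⟨k, rfl⟩ := hC.cyc _ hc' i hic m hm
    clear hm
    have hpil : ∀ n, E.π^[n] i < T.l := fun n => by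
      induction n with
      | zero => exact hi
      | succ n ih => rw [Function.iterate_succ_apply']; exact E.sym.pi_lt _ ih
    have : ∀ n, rword T w (T.simple (E.π^[n] i)) < T.half := fun n => by
      induction n with
      | zero => exact hneg
      | succ n ih =>
        rw [Function.iterate_succ_apply']
        exact (E.pos_iff_of_comm hw hc (hpil n)).2 ih
    exact this k
  classical
  rw [T.negCount_eq, T.negCount_eq]
  refine lt_of_eq_of_lt (Finset.card_image_of_injOn (f := rword T v) ?_).symm
    (Finset.card_lt_card ?_)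
  · intro a ha b hb e
    simp only [Finset.coe_filter, Set.mem_ofPred_eq, Finset.mem_Ico] at ha hb
    exact h.rword_inj hv ha.1.2 hb.1.2 e
  rw [Finset.ssubset_iff_subset_ne]
  refine ⟨fun s hs => ?_, fun e => ?_⟩
  · obtain ⟨r, hr, rfl⟩ := Finset.mem_image.1 hs
    rw [Finset.mem_filter, Finset.mem_Ico] at hr ⊢
    obtain ⟨⟨hh, hr⟩, hlt⟩ := hr
    rw [rword_append] at hlt
    have hx := h.rword_lt hv hr
    refine ⟨⟨?_, hx⟩, hlt⟩
    by_contra hn
    rw [not_le] at hn
    have hnx := Cert.neg_lt (T := T) hx
    have hy : T.half ≤ T.neg (rword T v r) := (h.half_le_neg_iff hx).2 hn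
    have hvy : rword T v (T.neg (rword T v r)) < T.half := by
      rw [h.rword_neg hv hx, hC.invol _ hc' r hr]
      exact not_le.1 fun e => absurd ((h.half_le_neg_iff hr).1 e) (not_lt.2 hh)
    have h2 := neg_of_class (h := h) hw hall hy hnx (hC.supp _ hc' _ hnx hy hvy)
    rw [h.rword_neg hw hx] at h2
    exact absurd ((h.half_le_neg_iff (h.rword_lt hw hx)).2 hlt) (not_le.2 h2)
  · have hi' := h.simple_lt hi
    have hmem : T.simple i ∈ (Finset.Ico T.half T.n).filter fun r => rword T w r < T.half :=
      Finset.mem_filter.2 ⟨Finset.mem_Ico.2 ⟨(h.simple_spec hi).1, hi'⟩, hneg⟩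
    rw [← e, Finset.mem_image] at hmem
    obtain ⟨r, hr, er⟩ := hmem
    rw [Finset.mem_filter, Finset.mem_Ico] at hr
    have := congrArg (rword T v) er
    rw [hC.invol _ hc' r hr.1.2] at this
    have hlt : rword T v (T.simple i) < T.half := hC.negs _ hc' i hic
    omega

/-- Every commuting word is a product of the class words. -/
theorem exists_cls_list (hC : E.ClsOK CL) {w : List ℕ} (hw : WordOK T w) (hc : E.Comm w) :
    ∃ M : List ℕ, (∀ j ∈ M, j < CL.length) ∧ SameAct T w (clsWord CL M) := by
  induction hk : T.negCount w using Nat.strong_induction_on generalizing w with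
  | _ k ih =>
    by_cases hpos : ∀ i < T.l, T.half ≤ rword T w (T.simple i)
    · exact ⟨[], fun j hj => absurd hj List.not_mem_nil,
        fun r hr => eq_self_of_pos (h := h) hw hpos hr⟩
    · push Not at hpos
      obtain ⟨i, hi, hneg⟩ := hpos
      obtain ⟨j, hj, -, hlt⟩ := E.descent_step hC hw hc hi hneg
      have hv := hC.wordOK E (List.getElem_mem hj)
      have hwv : WordOK T (w ++ CL[j].word) := fun a ha =>
        (List.mem_append.1 ha).elim (hw a) (hv a)
      obtain ⟨M, hM, e⟩ := ih _ (hk ▸ hlt) hwv
        (Comm.append E hv hc (hC.comm _ (List.getElem_mem hj))) rfl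
      refine ⟨M ++ [j], fun a ha => (List.mem_append.1 ha).elim (hM a)
        (fun ha => by rw [List.mem_singleton.1 ha]; exact hj), fun r hr => ?_⟩
      have h1 := e _ (h.rword_lt hv hr)
      rw [rword_append, hC.invol _ (List.getElem_mem hj) r hr] at h1
      rw [show clsWord CL (M ++ [j]) = clsWord CL M ++ CL[j].word by
        simp [clsWord, hj], rword_append]
      exact h1

/-- The words of a list of elements: they exhaust the centralizer of the symmetry without
repetition. -/
theorem exists_elems (hC : E.ClsOK CL) {Es : List Elem} {tbl : List (List ℕ)}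
    (hEs : chkElems T CL Es tbl = true) :
    ∃ wd : Fin Es.length → List ℕ, (∀ a, WordOK T (wd a) ∧ E.Comm (wd a) ∧
        T.negCount (wd a) = (Es.get a).negc) ∧
      (∀ a b, SameAct T (wd a) (wd b) → a = b) ∧
      ∀ w, WordOK T w → E.Comm w → ∃ a, SameAct T w (wd a) := by
  simp only [chkElems, chkElem, Bool.and_eq_true, List.all_eq_true, decide_eq_true_eq, List.any_eq_true] at hEs
  obtain ⟨hlen, hinc, ⟨e0, he0, he0'⟩, hall⟩ := hEs
  have hat : ∀ a : Fin Es.length, (Es.get a, tbl.get (Fin.cast hlen.symm a)) ∈ Es.zip tbl := by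
    intro a
    have hlt : a.val < (Es.zip tbl).length := by rw [List.length_zip, hlen, min_self]; exact a.2
    have : (Es.zip tbl)[a.val] = (Es.get a, tbl.get (Fin.cast hlen.symm a)) := List.getElem_zip
    rw [← this]
    exact List.getElem_mem hlt
  have hcnt : ∀ (a : Fin Es.length) (w : List ℕ), (∀ s, s < T.n - T.half →
      rword T w (T.half + s) = Tab.field 8 (Es.get a).code s) →
      T.negCount w = (Es.get a).negc := by
    intro a w hw
    rw [Nat.eq_of_beq_eq_true (hall _ (hat a)).2.1, T.negCount_eq, Tab.sumBelow_eq,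
      Finset.card_filter]
    refine Finset.sum_bij (fun r _ => r - T.half) ?_ ?_ ?_ ?_
    · intro r hr; rw [Finset.mem_Ico] at hr; simp only [Finset.mem_range]; omega
    · intro r hr s hs e; rw [Finset.mem_Ico] at hr hs; omega
    · intro s hs
      rw [Finset.mem_range] at hs
      exact ⟨T.half + s, Finset.mem_Ico.2 ⟨Nat.le_add_right _ _, by omega⟩,
        Nat.add_sub_cancel_left _ _⟩
    · intro r hr
      rw [Finset.mem_Ico] at hr
      dsimp only
      rw [← hw (r - T.half) (by omega), show T.half + (r - T.half) = r by omega]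
      cases hb : Nat.blt (rword T w r) T.half
      · rw [cond_false, if_neg]
        intro h2
        have : Nat.blt (rword T w r) T.half = true := Nat.ble_eq_true_of_le h2
        rw [hb] at this
        exact Bool.noConfusion this
      · have hlt : rword T w r < T.half := Nat.le_of_ble_eq_true hb
        rw [cond_true, if_pos hlt]
  have hword : ∀ k, ∀ a : Fin Es.length, (Es.get a).negc = k → ∃ w, WordOK T w ∧ E.Comm w ∧
      ∀ s, s < T.n - T.half → rword T w (T.half + s) = Tab.field 8 (Es.get a).code s := by
    intro k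
    induction k using Nat.strong_induction_on with
    | _ k ih =>
      intro a ha
      obtain ⟨-, -, h2, -⟩ := hall _ (hat a)
      by_cases hk : k = 0
      · subst hk
        rw [ha, show Nat.beq 0 0 = true from rfl, cond_true] at h2
        exact ⟨[], fun i hi => absurd hi List.not_mem_nil, E.comm_nil, fun s hs =>
          (Nat.eq_of_beq_eq_true (allBelow_eq_true h2 s hs)).symm⟩
      · cases hb : Nat.beq (Es.get a).negc 0
        swap
        · exact absurd (ha ▸ Nat.eq_of_beq_eq_true hb) hk
        rw [hb, cond_false, Bool.and_eq_true, Bool.and_eq_true, Bool.and_eq_true] at h2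
        obtain ⟨hp, hlt, hcl, hcode⟩ := h2
        have hp' : (Es.get a).par < Es.length := Nat.le_of_ble_eq_true hp
        have hcl' : (Es.get a).cls < CL.length := Nat.le_of_ble_eq_true hcl
        rw [List.getD_eq_getElem _ _ hp'] at hlt hcode
        rw [List.getD_eq_getElem _ _ hcl'] at hcode
        obtain ⟨w, hw, hwc, hwe⟩ := ih _ (ha ▸ Nat.le_of_ble_eq_true hlt) ⟨_, hp'⟩ rfl
        have hv := hC.wordOK E (List.getElem_mem hcl')
        refine ⟨CL[(Es.get a).cls].word ++ w, fun i hi => (List.mem_append.1 hi).elim (hv i) (hw i),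
          Comm.append E hw (hC.comm _ (List.getElem_mem hcl')) hwc, fun s hs => ?_⟩
        rw [rword_append, hwe s hs, Nat.eq_of_beq_eq_true (allBelow_eq_true hcode s hs),
          T.rwordF_eq]
        rfl
  choose wd hwd hwc hwe using fun a => hword _ a rfl
  have hsimple : ∀ (a : Fin Es.length) (i : ℕ), i < T.l →
      rword T (wd a) (T.simple i) = Tab.field 8 (Es.get a).code (T.simple i - T.half) := by
    intro a i hi
    obtain ⟨hp1, hp2, -⟩ := h.simple_spec hi
    rw [← hwe a (T.simple i - T.half) (by omega), show T.half + (T.simple i - T.half) = T.simple i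
      by omega]
  refine ⟨wd, fun a => ⟨hwd a, hwc a, hcnt a _ (hwe a)⟩, fun a b hab => ?_, ?_⟩
  · by_contra hne
    have hpw := List.pairwise_iff_getElem.1 (List.pairwise_map.1 (incr_pairwise hinc))
    have hcode : ∀ s, s < T.n - T.half → Tab.field 8 (Es.get a).code s = Tab.field 8 (Es.get b).code s :=
      fun s hs => by rw [← hwe a s hs, ← hwe b s hs]; exact hab _ (by omega)
    -- equal fields on all positions force equal codes below the checked bound
    have hlt : ∀ a : Fin Es.length, (Es.get a).code % 2 ^ (8 * (T.n - T.half)) =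
        ∑ s ∈ Finset.range (T.n - T.half), Tab.field 8 (Es.get a).code s * 2 ^ (8 * s) := by
      intro a
      generalize (Es.get a).code = P
      induction T.n - T.half with
      | zero => simp [Nat.mod_one]
      | succ m ih =>
        rw [Finset.sum_range_succ, ← ih, Tab.field, Nat.shiftRight_eq_div_pow,
          show 8 * (m + 1) = 8 * m + 8 by ring, pow_add, Nat.mod_mul, mul_comm (_ % 2 ^ 8)]
    have h1 : (Es.get a).code % 2 ^ (8 * (T.n - T.half)) =
        (Es.get b).code % 2 ^ (8 * (T.n - T.half)) := by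
      rw [hlt, hlt]
      exact Finset.sum_congr rfl fun s hs => by rw [hcode s (Finset.mem_range.1 hs)]
    rw [Nat.mod_eq_of_lt (Nat.le_of_ble_eq_true (hall _ (hat a)).1),
      Nat.mod_eq_of_lt (Nat.le_of_ble_eq_true (hall _ (hat b)).1)] at h1
    rcases lt_or_gt_of_ne (fun e => hne (Fin.ext e) : a.val ≠ b.val) with hlt' | hlt'
    · exact (hpw a.val b.val a.2 b.2 hlt').ne h1
    · exact (hpw b.val a.val b.2 a.2 hlt').ne h1.symm
  · intro w hw hc
    obtain ⟨M, hM, e⟩ := E.exists_cls_list hC hw hc
    suffices ∃ a, SameAct T (clsWord CL M) (wd a) by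
      obtain ⟨a, ha⟩ := this
      exact ⟨a, fun r hr => (e r hr).trans (ha r hr)⟩
    clear e
    induction M with
    | nil =>
      obtain ⟨k, hk, rfl⟩ := List.getElem_of_mem he0
      refine ⟨⟨k, hk⟩, h.sameAct_of_simple (E.wordOK_clsWord hC hM) (hwd _) fun i hi => ?_⟩
      obtain ⟨hp1, hp2, -⟩ := h.simple_spec hi
      obtain ⟨-, -, h2, -⟩ := hall _ (hat ⟨k, hk⟩)
      rw [show (Es.get ⟨k, hk⟩).negc = 0 from he0', show Nat.beq 0 0 = true from rfl,
        cond_true] at h2
      rw [hsimple _ i hi,
        Nat.eq_of_beq_eq_true (allBelow_eq_true h2 (T.simple i - T.half) (by omega))]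
      show T.simple i = _
      omega
    | cons j M ih =>
      have hj := hM j List.mem_cons_self
      have hM' : ∀ x ∈ M, x < CL.length := fun x hx => hM x (List.mem_cons_of_mem _ hx)
      obtain ⟨a, ha⟩ := ih hM'
      obtain ⟨-, -, -, hl2, h3⟩ := hall _ (hat a)
      have hjt : j < (tbl.get (Fin.cast hlen.symm a)).length := by rw [hl2]; exact hj
      have hz := h3 (CL[j], (tbl.get (Fin.cast hlen.symm a))[j]) (by
        rw [← List.getElem_zip (h := by rw [List.length_zip]; omega)]
        exact List.getElem_mem _)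
      have hb : (tbl.get (Fin.cast hlen.symm a))[j] < Es.length := Nat.le_of_ble_eq_true hz.1
      refine ⟨⟨_, hb⟩, h.sameAct_of_simple (E.wordOK_clsWord hC hM) (hwd _) fun i hi => ?_⟩
      rw [show clsWord CL (j :: M) = (CL.getD j ⟨[], []⟩).word ++ clsWord CL M from rfl,
        List.getD_eq_getElem _ _ hj, rword_append, ha _ (h.simple_lt hi), hsimple a i hi,
        hsimple ⟨_, hb⟩ i hi]
      have h4 := Nat.eq_of_beq_eq_true (allBelow_eq_true hz.2 i hi)
      rw [List.getD_eq_getElem _ _ hb, T.rwordF_eq] at h4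
      exact h4.symm

end Endo

end CfsgLib.Chev
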