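import Cfsg.Agent.Lib.Chev.TwistOrbits
import Cfsg.Agent.Lib.Chev.TwistWeyl
import Cfsg.Agent.Lib.Chev.Order

/-!
The fixed points of a root-permuting endomorphism: generators and order.
-/

set_option autoImplicit false

namespace CfsgLib.Chev

open Cfsg.Lie Matrix

/-- The check that the orbits come from classes of the base list and cover the positive roots. -/
def chkSrc (T : Tab) (ρ : ℕ → ℕ) (CL : List Cls) (base L : List Orb) : Bool :=
  ((List.range T.n).all fun r => decide (r < T.half) || (flatOrbs ρ L).contains r) &&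
  ((L.all fun o => decide (o.src < base.length) && ((o.word.all fun j => decide (j < CL.length)) &&
    let b := base.getD o.src o
    (decide (rword T (clsWord CL o.word) b.root = o.root) && (decide (o.size = b.size) &&
      b.tail.all fun q => (o.list ρ ++ o.tail).contains (rword T (clsWord CL o.word) q))))) &&
  base.all fun b => decide (b.size ≠ 0) && (decide (b.root < T.n) &&
    (decide (ρ^[b.size] b.root = b.root) && b.tail.all fun q => decide (T.half ≤ q ∧ q < T.n))))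

namespace Endo

open Cert (cellUnipotent Maps_mul Maps_inv diagonal_le_monomial conj_gen_le mem_cellList cellList_set length_cellList
  sortedLT_cellList)

variable {D : ChevalleyDatum} {T : Tab} {C : Tab.Cover} {h : Cert D T C} {F : Type*} [Field F]
  (E : Endo h F)

/-- The standard data. -/
structure Data (T : Tab) where
  /-- classes -/
  CL : List Cls
  /-- classes of leading orbits -/
  base : List Orb
  /-- orbits of positive roots -/
  L : List Orb

/-- The data check out. -/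
structure DataOK (d : Data T) : Prop where
  cls : E.ClsOK d.CL
  layers : chkLayers T E.ρ d.L = true
  src : chkSrc T E.ρ d.CL d.base d.L = true

lemma DataOK.of_chk {d : Data T}
    (hc : (chkCls T E.ρ E.π d.CL && (chkLayers T E.ρ d.L && chkSrc T E.ρ d.CL d.base d.L)) = true) :
    E.DataOK d := by
  simp only [Bool.and_eq_true] at hc
  exact ⟨ClsOK.of_chk E hc.1, hc.2.1, hc.2.2⟩

variable {d : Data T}

lemma DataOK.cover (hd : E.DataOK d) {r : ℕ} (hr : r ∈ posSet T) : r ∈ flatOrbs E.ρ d.L := by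
  have h1 := hd.src
  simp only [chkSrc, Bool.and_eq_true, List.all_eq_true, List.mem_range, Bool.or_eq_true,
    decide_eq_true_eq, List.contains_iff_mem] at h1
  exact (h1.1 r hr.2).resolve_left (not_lt.2 hr.1)

/-- Fixed representatives of the classes in `G`. -/
def Reps (G : Subgroup (GL D.Idx F)) (CL : List Cls) : Prop :=
  ∀ c ∈ CL, ∃ m ∈ G, m ∈ E.fix ∧ m ∈ D.monomialSubgroup F ∧
    ∀ r < T.n, Maps D m r (rword T c.word r)

lemma exists_rep_clsWord {G : Subgroup (GL D.Idx F)} {CL : List Cls} (hC : E.ClsOK CL)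
    (hG : E.Reps G CL) : ∀ {M : List ℕ}, (∀ j ∈ M, j < CL.length) →
    ∃ m ∈ G, m ∈ E.fix ∧ m ∈ D.monomialSubgroup F ∧
      ∀ r < T.n, Maps D m r (rword T (clsWord CL M) r)
  | [], _ => ⟨1, one_mem _, one_mem _, one_mem _, fun _ hr => h.Maps_diagonal (one_mem _) hr⟩
  | j :: M, hM => by
    have hj := hM j List.mem_cons_self
    have hM' : ∀ i ∈ M, i < CL.length := fun i hi => hM i (List.mem_cons_of_mem _ hi)
    obtain ⟨m, hm, hmf, hmn, hmM⟩ := exists_rep_clsWord hC hG hM'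
    obtain ⟨a, ha, haf, han, haM⟩ := hG _ (List.getElem_mem hj)
    refine ⟨a * m, mul_mem ha hm, mul_mem haf hmf, mul_mem han hmn, fun r hr => ?_⟩
    rw [show clsWord CL (j :: M) = (CL.getD j ⟨[], []⟩).word ++ clsWord CL M from rfl,
      List.getD_eq_getElem _ _ hj, rword_append]
    exact Maps_mul (hmM r hr) (haM _ (h.rword_lt (E.wordOK_clsWord hC hM') hr))

lemma exists_rep {G : Subgroup (GL D.Idx F)} {CL : List Cls} (hC : E.ClsOK CL) (hG : E.Reps G CL)
    {w : List ℕ} (hw : WordOK T w) (hc : E.Comm w) :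
    ∃ m ∈ G, m ∈ E.fix ∧ m ∈ D.monomialSubgroup F ∧ ∀ r < T.n, Maps D m r (rword T w r) := by
  obtain ⟨M, hM, e⟩ := E.exists_cls_list hC hw hc
  obtain ⟨m, h1, h2, h3, h4⟩ := E.exists_rep_clsWord hC hG hM
  exact ⟨m, h1, h2, h3, fun r hr => by rw [e r hr]; exact h4 r hr⟩

/-- Every orbit inherits the lifts of the base classes. -/
theorem lifts_of_base (hd : E.DataOK d) {G K : Subgroup (GL D.Idx F)} (hG : E.Reps G d.CL)
    (hK : ∀ m ∈ G, ∀ u ∈ K, m * u * m⁻¹ ∈ K) (hb : ∀ b ∈ d.base, E.Lift K b) :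
    ∀ o ∈ d.L, E.Lift K o ∧
      ∃ b ∈ d.base, o.size = b.size ∧ Nat.card (E.Adm o) = Nat.card (E.Adm b) := by
  intro o ho
  have h1 := hd.src
  simp only [chkSrc, Bool.and_eq_true, List.all_eq_true, decide_eq_true_eq,
    List.contains_iff_mem] at h1
  obtain ⟨-, h2, h3⟩ := h1
  obtain ⟨hsrc, hword, hroot, hsize, htail⟩ := h2 o ho
  rw [List.getD_eq_getElem _ _ hsrc] at hroot hsize htail
  have hbm := List.getElem_mem (l := d.base) hsrc
  obtain ⟨hb0, hbr, hbc, hbt⟩ := h3 _ hbm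
  obtain ⟨m, hm, hmf, -, hmM⟩ := E.exists_rep_clsWord hd.cls hG hword
  obtain ⟨g1, g2⟩ := Lift.conj E (E.wordOK_clsWord hd.cls hword) (E.comm_clsWord hd.cls hword) hmf
    hmM (hK m hm) hroot hsize
    (fun r hr => by
      rcases hr with hr | hr
      · obtain ⟨k, -, rfl⟩ := List.mem_map.1 hr; exact E.iter_lt hbr k
      · exact (hbt r hr).2)
    (fun r hr => List.mem_append.1 (htail r hr)) hbr hbc (hb _ hbm)
  exact ⟨g1, _, hbm, hsize, g2⟩

/-- The standing hypotheses: data, representatives, torus, lifts and the numbers of parameters. -/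
structure Std (d : Data T) (K : Subgroup (GL D.Idx F)) : Prop where
  ok : E.DataOK d
  reps : E.Reps K d.CL
  torus : E.fix ⊓ D.diagonalSubgroup F ≤ K
  lift : ∀ b ∈ d.base, E.Lift K b

lemma Std.lifts {K : Subgroup (GL D.Idx F)} (hs : E.Std d K) :
    ∀ o ∈ d.L, E.Lift K o ∧
      ∃ b ∈ d.base, o.size = b.size ∧ Nat.card (E.Adm o) = Nat.card (E.Adm b) :=
  E.lifts_of_base hs.ok hs.reps (fun _ hm _ hu => mul_mem (mul_mem hm hu) (inv_mem hm)) hs.lift

/-- Fixed elements of a stable closed set of positive roots. -/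
theorem fix_gen' [Finite F] (hd : E.DataOK d) {K : Subgroup (GL D.Idx F)} {e Q : ℕ}
    (hl : ∀ o ∈ d.L, E.Lift K o) (hcard : ∀ o ∈ d.L, Nat.card (E.Adm o) ^ e = Q ^ o.size)
    {P : Set ℕ} (hP : P ⊆ posSet T) (hPc : CommClosed T P) (hPs : ∀ s ∈ P, E.ρ s ∈ P)
    (L' : List ℕ) (hL' : L'.Nodup) (hmem : ∀ r, r ∈ L' ↔ r ∈ P) :
    E.fix ⊓ gen D F P ≤ K ∧ Nat.card ↥(E.fix ⊓ gen D F P) ^ e = Q ^ L'.length := by
  classical
  have e1 : P ∩ {a | a ∈ flatOrbs E.ρ d.L} = P :=
    Set.inter_eq_left.2 fun r hr => hd.cover E (hP hr)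
  have h1 := E.fix_gen K hP hPc hPs d.L hd.layers hl hcard
  rw [e1] at h1
  have e2 : cnt P (flatOrbs E.ρ d.L) = L'.length := by
    refine List.Perm.length_eq ((List.perm_ext_iff_of_nodup
      ((flatOrbs_spec hd.layers).1.filter _) hL').2 fun r => ?_)
    simp only [List.mem_filter, decide_eq_true_eq, hmem]
    exact ⟨fun h => h.2, fun h => ⟨hd.cover E (hP h), h⟩⟩
  rw [e2] at h1
  exact h1

/-- The fixed part of the unipotent radical of the Borel subgroup. -/
theorem fix_posUnipotent [Finite F] (hd : E.DataOK d) {K : Subgroup (GL D.Idx F)} {e Q : ℕ}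
    (hl : ∀ o ∈ d.L, E.Lift K o) (hcard : ∀ o ∈ d.L, Nat.card (E.Adm o) ^ e = Q ^ o.size) :
    E.fix ⊓ D.posUnipotent F ≤ K ∧ Nat.card ↥(E.fix ⊓ D.posUnipotent F) ^ e = Q ^ T.half := by
  have hlen : (posList T).length = T.half := by
    have htwo := h.two_mul_half
    rw [← List.toFinset_card_of_nodup Cert.sortedLT_posList.nodup,
      show (posList T).toFinset = Finset.Ico T.half T.n by
        ext r; simp [Cert.mem_posList, posSet],
      Nat.card_Ico]
    omega
  have h1 := E.fix_gen' hd hl hcard (P := posSet T) subset_rfl h.commClosed_posSet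
    (fun s hs => ⟨(E.sym.pos s hs.2).2 hs.1, E.sym.lt s hs.2⟩) (posList T)
    Cert.sortedLT_posList.nodup fun r => Cert.mem_posList
  rwa [← h.posUnipotent_eq, hlen] at h1

lemma cellList_stable {w : List ℕ} (hw : WordOK T w) (hc : E.Comm w) {s : ℕ}
    (hs : s ∈ cellList T w) : E.ρ s ∈ cellList T w := by
  rw [mem_cellList] at hs ⊢
  obtain ⟨⟨h1, h2⟩, h3⟩ := hs
  refine ⟨⟨(E.sym.pos s h2).2 h1, E.sym.lt s h2⟩, ?_⟩
  rw [← hc s h2]
  have := E.sym.pos _ (h.rword_lt hw h2)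
  omega

include h in
lemma cellUnipotent_rep {w : List ℕ} (hw : WordOK T w) {m : GL D.Idx F}
    (hM : ∀ r < T.n, Maps D m r (rword T w r)) :
    cellUnipotent D F m = gen D F {r | r ∈ cellList T w} := by
  rw [cellList_set, h.cellUnipotent_eq (π := rword T w) fun r hr => ⟨h.rword_lt hw hr, hM r hr⟩]

include h in
lemma diag_of_same_perm {m n : GL D.Idx F} {w v : List ℕ} (hw : WordOK T w) (hv : WordOK T v)
    (hm : m ∈ D.monomialSubgroup F) (hn : n ∈ D.monomialSubgroup F)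
    (hmM : ∀ r < T.n, Maps D m r (rword T w r)) (hnM : ∀ r < T.n, Maps D n r (rword T v r))
    (e : SameAct T w v) : m⁻¹ * n ∈ D.diagonalSubgroup F := by
  refine h.mem_diagonal_of_perm (mul_mem (inv_mem hm) hn) fun i hi s hs hM => ?_
  have hp := h.simple_lt hi
  have h1 : Maps D (m⁻¹) (rword T v (T.simple i)) (T.simple i) := by
    rw [← e _ hp]; exact Maps_inv (hmM _ hp)
  have h2 := Maps_mul (hnM _ hp) h1
  have := h.Maps_unique (lt_trans hs (by have := h.two_mul_half; have := h.simple_spec hi; omega))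
    hp hM h2
  have := (h.simple_spec hi).1
  omega

include h in
lemma sameAct_of_diag {m n : GL D.Idx F} {w v : List ℕ} (hw : WordOK T w) (hv : WordOK T v)
    (hmM : ∀ r < T.n, Maps D m r (rword T w r)) (hnM : ∀ r < T.n, Maps D n r (rword T v r))
    (e : m⁻¹ * n ∈ D.diagonalSubgroup F) : SameAct T w v := fun r hr => by
  have h1 := Maps_mul (h.Maps_diagonal e hr) (hmM r hr)
  rw [mul_inv_cancel_left] at h1
  exact (h.Maps_unique (h.rword_lt hv hr) (h.rword_lt hw hr) (hnM r hr) h1).symm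

/-- The fixed Bruhat decomposition. -/
theorem bruhat_fix {G : Subgroup (GL D.Idx F)} {CL : List Cls} (hC : E.ClsOK CL)
    (hG : E.Reps G CL) {g : GL D.Idx F} (hg : g ∈ E.fix) :
    ∃ w, WordOK T w ∧ E.Comm w ∧ ∃ m ∈ G, m ∈ E.fix ∧ m ∈ D.monomialSubgroup F ∧
      (∀ r < T.n, Maps D m r (rword T w r)) ∧
      ∃ b ∈ E.fix ⊓ D.borelSubgroup F, ∃ u ∈ E.fix ⊓ cellUnipotent D F m, g = b * m * u := by
  obtain ⟨b, hb, n, hn, u, hu, eg⟩ := h.bruhat_exists (E.fix_le_group hg)
  obtain ⟨w, hw, t, ht, rfl⟩ := h.exists_word_of_monomial hn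
  have hnM : ∀ r < T.n, Maps D (nW D F w * t) r (rword T w r) := fun r hr =>
    Maps_mul (h.Maps_diagonal ht hr) (h.Maps_nW hw hr)
  have hnG := h.monomial_le_group hn
  have hcell : cellUnipotent D F (nW D F w * t) = gen D F {r | r ∈ cellList T w} :=
    cellUnipotent_rep (h := h) hw hnM
  have huG : u ∈ D.group F := h.gen_le_group (S := {r | r ∈ cellList T w})
    (fun r hr => (mem_cellList.1 hr).1.2) (hcell ▸ hu)
  have hn' := E.act_monomial hn
  have hwπ := E.sym.wordOK hw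
  have hnM' : ∀ r < T.n, Maps D (E.act (nW D F w * t)) r (rword T (w.map E.π) r) := by
    intro r hr
    rw [E.act_mul (h.monomial_le_group (h.nW_mem_monomial hw)) (h.diagonal_le_group ht),
      E.act_nW hw]
    exact Maps_mul (h.Maps_diagonal (E.act_diagonal ht) hr) (h.Maps_nW hwπ hr)
  have hu' : E.act u ∈ cellUnipotent D F (E.act (nW D F w * t)) := by
    rw [cellUnipotent_rep (h := h) hwπ hnM']
    refine E.act_mem_gen (fun r hr => (mem_cellList.1 hr).1.2) (fun r hr => ?_) (hcell ▸ hu)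
    obtain ⟨⟨h1, h2⟩, h3⟩ := mem_cellList.1 hr
    refine mem_cellList.2 ⟨⟨(E.sym.pos r h2).2 h1, E.sym.lt r h2⟩, ?_⟩
    rw [← E.sym.rword hw h r h2]
    have := E.sym.pos _ (h.rword_lt hw h2)
    omega
  have eact : E.act b * E.act (nW D F w * t) * E.act u = b * (nW D F w * t) * u := by
    rw [← E.act_mul (h.borel_le_group hb) hnG,
      ← E.act_mul (mul_mem (h.borel_le_group hb) hnG) huG, ← eg, E.act_of_fix hg]
  obtain ⟨hd, -⟩ := h.bruhat_unique (E.act_borel hb) hb hn' hn hu' hu eact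
  have hsame := sameAct_of_diag (h := h) hwπ hw hnM' hnM hd
  have hc : E.Comm w := fun r hr => by
    rw [E.sym.rword hw h r hr, hsame _ (E.sym.lt r hr)]
  obtain ⟨m, hmG, hmf, hmn, hmM⟩ := E.exists_rep hC hG hw hc
  have ht' : m⁻¹ * (nW D F w * t) ∈ D.diagonalSubgroup F :=
    diag_of_same_perm (h := h) hw hw hmn hn hmM hnM fun _ _ => rfl
  set b' := b * (m * (m⁻¹ * (nW D F w * t)) * m⁻¹) with hb'
  have hb'B : b' ∈ D.borelSubgroup F := mul_mem hb (Subgroup.mem_sup_right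
    ((Subgroup.mem_normalizer_iff.1 (h.monomial_le_normalizer_diagonal hmn) _).1 ht'))
  have eg' : g = b' * m * u := by rw [eg, hb']; group
  have hmcell : cellUnipotent D F m = gen D F {r | r ∈ cellList T w} :=
    cellUnipotent_rep (h := h) hw hmM
  have hu2 : u ∈ cellUnipotent D F m := by rw [hmcell, ← hcell]; exact hu
  have hu3 : E.act u ∈ cellUnipotent D F m := by
    rw [hmcell]
    exact E.act_mem_gen (fun r hr => (mem_cellList.1 hr).1.2)
      (fun r hr => E.cellList_stable hw hc hr) (hcell ▸ hu)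
  have eact' : E.act b' * m * E.act u = b' * m * u := by
    conv_lhs => rw [← E.act_of_fix hmf]
    rw [← E.act_mul (h.borel_le_group hb'B) (h.monomial_le_group hmn),
      ← E.act_mul (mul_mem (h.borel_le_group hb'B) (h.monomial_le_group hmn)) huG, ← eg',
      E.act_of_fix hg]
  obtain ⟨h1, h2⟩ := (h.bruhat_unique (E.act_borel hb'B) hb'B hmn hmn hu3 hu2 eact').2 rfl
  exact ⟨w, hw, hc, m, hmG, hmf, hmn, hmM, b', ⟨E.mem_fix.2 ⟨h.borel_le_group hb'B, h1⟩, hb'B⟩,
    u, ⟨E.mem_fix.2 ⟨huG, h2⟩, hu2⟩, eg'⟩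

/-- The fixed part of the Borel subgroup. -/
lemma borel_fix {b : GL D.Idx F} :
    b ∈ E.fix ⊓ D.borelSubgroup F ↔
      ∃ u ∈ E.fix ⊓ D.posUnipotent F, ∃ t ∈ E.fix ⊓ D.diagonalSubgroup F, b = u * t := by
  constructor
  · rintro ⟨hb, hB⟩
    obtain ⟨u, hu, t, ht, rfl⟩ := h.mem_borel_iff.1 hB
    have hu' := E.act_posUnipotent hu
    have ht' := E.act_diagonal ht
    have e : E.act u * E.act t = u * t := by
      rw [← E.act_mul (h.posUnipotent_le_group hu) (h.diagonal_le_group ht), E.act_of_fix hb]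
    have h2 : u⁻¹ * E.act u ∈ D.posUnipotent F ⊓ D.diagonalSubgroup F := by
      refine Subgroup.mem_inf.2 ⟨mul_mem (inv_mem hu) hu', ?_⟩
      rw [show u⁻¹ * E.act u = t * (E.act t)⁻¹ by
        rw [eq_mul_inv_iff_mul_eq, mul_assoc, e, inv_mul_cancel_left]]
      exact mul_mem ht (inv_mem ht')
    rw [h.posUnipotent_inf_diagonal, Subgroup.mem_bot, inv_mul_eq_one] at h2
    rw [← h2] at e
    exact ⟨u, ⟨E.mem_fix.2 ⟨h.posUnipotent_le_group hu, h2.symm⟩, hu⟩, t,
      ⟨E.mem_fix.2 ⟨h.diagonal_le_group ht, mul_left_cancel e⟩, ht⟩, rfl⟩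
  · rintro ⟨u, ⟨hu, hu'⟩, t, ⟨ht, ht'⟩, rfl⟩
    exact ⟨mul_mem hu ht, mul_mem (Subgroup.mem_sup_left hu') (Subgroup.mem_sup_right ht')⟩

include h in
lemma cellUnipotent_le_pos {w : List ℕ} (hw : WordOK T w) {m : GL D.Idx F}
    (hM : ∀ r < T.n, Maps D m r (rword T w r)) : cellUnipotent D F m ≤ D.posUnipotent F := by
  rw [cellUnipotent_rep (h := h) hw hM, h.posUnipotent_eq]
  exact gen_mono D fun r hr => (mem_cellList.1 hr).1

/-- The fixed points are inside `K`. -/
theorem fix_le [Finite F] {K : Subgroup (GL D.Idx F)} (hs : E.Std d K) {e Q : ℕ}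
    (hcard : ∀ o ∈ d.L, Nat.card (E.Adm o) ^ e = Q ^ o.size) : E.fix ≤ K := by
  have hU := (E.fix_posUnipotent hs.ok (fun o ho => (hs.lifts E o ho).1) hcard).1
  intro g hg
  obtain ⟨w, hw, -, m, hm, -, -, hmM, b, hb, u, hu, rfl⟩ := E.bruhat_fix hs.ok.cls hs.reps hg
  obtain ⟨v, hv, t, ht, rfl⟩ := E.borel_fix.1 hb
  exact mul_mem (mul_mem (mul_mem (hU hv) (hs.torus ht)) hm)
    (hU ⟨hu.1, cellUnipotent_le_pos (h := h) hw hmM hu.2⟩)

/-- The order of the fixed part of the Borel subgroup. -/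
theorem card_borel_fix :
    Nat.card ↥(E.fix ⊓ D.borelSubgroup F) =
      Nat.card ↥(E.fix ⊓ D.posUnipotent F) * Nat.card ↥(E.fix ⊓ D.diagonalSubgroup F) := by
  let f : ↥(E.fix ⊓ D.posUnipotent F) × ↥(E.fix ⊓ D.diagonalSubgroup F) →
      ↥(E.fix ⊓ D.borelSubgroup F) := fun p =>
    ⟨p.1.1 * p.2.1, E.borel_fix.2 ⟨_, p.1.2, _, p.2.2, rfl⟩⟩
  have hb : Function.Bijective f := by
    constructor
    · intro p p' hpp
      have h1 : p.1.1 * p.2.1 = p'.1.1 * p'.2.1 := congrArg Subtype.val hpp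
      have h2 : p'.1.1⁻¹ * p.1.1 ∈ D.posUnipotent F ⊓ D.diagonalSubgroup F := by
        refine Subgroup.mem_inf.2 ⟨mul_mem (inv_mem p'.1.2.2) p.1.2.2, ?_⟩
        rw [show p'.1.1⁻¹ * p.1.1 = p'.2.1 * p.2.1⁻¹ by
          rw [eq_mul_inv_iff_mul_eq, mul_assoc, h1, inv_mul_cancel_left]]
        exact mul_mem p'.2.2.2 (inv_mem p.2.2.2)
      rw [h.posUnipotent_inf_diagonal, Subgroup.mem_bot, inv_mul_eq_one] at h2
      refine Prod.ext (Subtype.ext h2.symm) (Subtype.ext ?_)
      rw [h2] at h1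
      exact mul_left_cancel h1
    · rintro ⟨g, hg⟩
      obtain ⟨u, hu, t, ht, rfl⟩ := E.borel_fix.1 hg
      exact ⟨(⟨u, hu⟩, ⟨t, ht⟩), rfl⟩
  rw [← Nat.card_eq_of_bijective f hb, Nat.card_prod]

/-- The order of the fixed points. -/
theorem card_fix [Finite F] {K : Subgroup (GL D.Idx F)} (hs : E.Std d K) {e Q : ℕ} (he : e ≠ 0)
    (hcard : ∀ o ∈ d.L, Nat.card (E.Adm o) ^ e = Q ^ o.size) {Es : List Elem}
    {tbl : List (List ℕ)} (hEs : chkElems T d.CL Es tbl = true)
    (hdvd : (Es.all fun x => decide (e ∣ x.negc)) = true) :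
    Nat.card ↥E.fix = Nat.card ↥(E.fix ⊓ D.posUnipotent F) *
      Nat.card ↥(E.fix ⊓ D.diagonalSubgroup F) *
      (Es.map fun x => Q ^ (x.negc / e)).sum := by
  classical
  obtain ⟨wd, hwd, hinj, hsurj⟩ := E.exists_elems hs.ok.cls hEs
  choose md hmK hmf hmn hmM using fun a => E.exists_rep hs.ok.cls hs.reps (hwd a).1 (hwd a).2.1
  have hl := fun o ho => (hs.lifts E o ho).1
  have hcell : ∀ a, Nat.card ↥(E.fix ⊓ cellUnipotent D F (md a)) = Q ^ ((Es.get a).negc / e) := by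
    intro a
    have h1 := (E.fix_gen' hs.ok hl hcard (P := {r | r ∈ cellList T (wd a)})
      (fun r hr => (mem_cellList.1 hr).1) (h.commClosed_cellList (hwd a).1)
      (fun s hs => E.cellList_stable (hwd a).1 (hwd a).2.1 hs) (cellList T (wd a))
      (sortedLT_cellList _).nodup fun r => Iff.rfl).2
    rw [length_cellList, (hwd a).2.2, ← cellUnipotent_rep (h := h) (hwd a).1 (hmM a)] at h1
    simp only [List.all_eq_true, decide_eq_true_eq] at hdvd
    obtain ⟨k, hk⟩ := hdvd _ (List.get_mem Es a)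
    rw [hk, Nat.mul_div_cancel_left _ (Nat.pos_of_ne_zero he)]
    rw [hk, mul_comm, pow_mul] at h1
    exact Nat.pow_left_injective he h1
  let f : ↥(E.fix ⊓ D.borelSubgroup F) × (Σ a, ↥(E.fix ⊓ cellUnipotent D F (md a))) → ↥E.fix :=
    fun p => ⟨p.1.1 * md p.2.1 * p.2.2.1, mul_mem (mul_mem p.1.2.1 (hmf _)) p.2.2.2.1⟩
  have hb : Function.Bijective f := by
    constructor
    · rintro ⟨⟨b, hb⟩, a, ⟨u, hu⟩⟩ ⟨⟨b', hb'⟩, a', ⟨u', hu'⟩⟩ hpp
      obtain ⟨h1, h2⟩ := h.bruhat_unique hb.2 hb'.2 (hmn a) (hmn a') hu.2 hu'.2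
        (congrArg Subtype.val hpp)
      have ha : a = a' :=
        hinj a a' (sameAct_of_diag (h := h) (hwd a).1 (hwd a').1 (hmM a) (hmM a') h1)
      subst ha
      obtain ⟨rfl, rfl⟩ := h2 rfl
      rfl
    · rintro ⟨g, hg⟩
      obtain ⟨w, hw, hc, m, -, hmf', hmn', hmM', b, hb, u, hu, rfl⟩ :=
        E.bruhat_fix hs.ok.cls hs.reps hg
      obtain ⟨a, ha⟩ := hsurj w hw hc
      have ht : (md a)⁻¹ * m ∈ D.diagonalSubgroup F :=
        diag_of_same_perm (h := h) (hwd a).1 hw (hmn a) hmn' (hmM a) hmM'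
          fun r hr => (ha r hr).symm
      have hu' : u ∈ cellUnipotent D F (md a) := by
        have e1 := cellUnipotent_rep (h := h) hw hmM'
        have e2 := cellUnipotent_rep (h := h) (hwd a).1 (hmM a)
        rw [e1] at hu
        rw [e2]
        refine gen_mono D (fun r hr => ?_) hu.2
        have hr' := mem_cellList.1 hr
        exact mem_cellList.2 ⟨hr'.1, by rw [← ha r hr'.1.2]; exact hr'.2⟩
      have hfx : b * (m * (md a)⁻¹) ∈ E.fix := mul_mem hb.1 (mul_mem hmf' (inv_mem (hmf a)))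
      refine ⟨(⟨b * (m * (md a)⁻¹), hfx, ?_⟩,
        ⟨a, ⟨u, hu.1, hu'⟩⟩), Subtype.ext (by simp [f, mul_assoc])⟩
      refine mul_mem hb.2 (Subgroup.mem_sup_right ?_)
      have := (Subgroup.mem_normalizer_iff.1 (h.monomial_le_normalizer_diagonal (hmn a)) _).1 ht
      rwa [show md a * ((md a)⁻¹ * m) * (md a)⁻¹ = m * (md a)⁻¹ by group] at this
  rw [← Nat.card_eq_of_bijective f hb, Nat.card_prod, Nat.card_sigma, E.card_borel_fix]
  congr 1
  rw [Finset.sum_congr rfl fun a _ => hcell a, ← List.sum_ofFn]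
  congr 1
  refine List.ext_getElem (by simp) fun i h1 h2 => ?_
  simp

end Endo

end CfsgLib.Chev
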