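import Cfsg.Agent.Lib.Chev.TwistCtx
import Cfsg.Agent.Lib.Chev.RadicalCentralizer

/-!
The fixed points of a root-permuting endomorphism in a unipotent subgroup, orbit by orbit.
-/

set_option autoImplicit false

namespace CfsgLib.Chev

open Cfsg.Lie Matrix

/-- An orbit of positive roots: a representative, the length, the roots of the class above it, and
where a fixed element with that leading orbit comes from. -/
structure Orb where
  /-- the representative -/
  root : ℕ
  /-- the length -/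
  size : ℕ
  /-- the higher roots of the class -/
  tail : List ℕ
  /-- the number of the class it is conjugate to -/
  src : ℕ
  /-- the conjugating word -/
  word : List ℕ

/-- The members of an orbit. -/
def Orb.list (o : Orb) (ρ : ℕ → ℕ) : List ℕ := (List.range o.size).map fun k => ρ^[k] o.root

/-- The members of the orbits of a list. -/
def flatOrbs (ρ : ℕ → ℕ) (L : List Orb) : List ℕ := L.flatMap fun o => o.list ρ

/-- The members of an orbit and its class. -/
def Orb.cls (o : Orb) (ρ : ℕ → ℕ) : Set ℕ := {r | r ∈ o.list ρ ∨ r ∈ o.tail}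

/-- The roots of the commutator formula of two roots, in either order. -/
def termRoots (T : Tab) (a b : ℕ) : List ℕ :=
  ((T.commTerms a b) ++ (T.commTerms b a)).map Prod.fst

/-- One layer: the orbit is a cycle and what two roots give lies further on. -/
def chkLayer (T : Tab) (ρ : ℕ → ℕ) (o : Orb) (L : List Orb) : Bool :=
  decide (o.size ≠ 0) && (decide (ρ^[o.size] o.root = o.root) &&
    (decide ((o.list ρ).Nodup) &&
    (((o.list ρ).all fun a => decide (T.half ≤ a ∧ a < T.n) && (!(flatOrbs ρ L).contains a &&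
      (o.list ρ ++ flatOrbs ρ L).all fun b => decide (a = b) ||
        (termRoots T a b).all fun q => (flatOrbs ρ L).contains q)) &&
    (o.tail.all fun q => (o.list ρ).any fun a => (o.list ρ).any fun b =>
      decide (a ≠ b) && (termRoots T a b).contains q))))

/-- All layers. -/
def chkLayers (T : Tab) (ρ : ℕ → ℕ) : List Orb → Bool
  | [] => true
  | o :: L => chkLayer T ρ o L && chkLayers T ρ L

namespace Endo

open Cert (sortedLT_posList mem_posList)

variable {D : ChevalleyDatum} {T : Tab} {C : Tab.Cover} {h : Cert D T C} {F : Type*} [Field F]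
  (E : Endo h F)

/-- The parameter map along `k` steps. -/
def τn : ℕ → ℕ → F → F
  | 0, _, t => t
  | k + 1, r, t => E.τ (E.ρ^[k] r) (τn k r t)

lemma iter_lt {r : ℕ} (hr : r < T.n) : ∀ k, E.ρ^[k] r < T.n
  | 0 => hr
  | k + 1 => by rw [Function.iterate_succ_apply']; exact E.sym.lt _ (iter_lt hr k)

/-- The admissible parameters at a representative. -/
def Adm (o : Orb) : Set F := {t | E.τn o.size o.root t = t}

variable (D) in
/-- The coordinate at `r` of an element of `gen P`. -/
def InC (P : Set ℕ) (r : ℕ) (u : GL D.Idx F) (t : F) : Prop :=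
  (X D r t)⁻¹ * u ∈ gen D F (P \ {r})

/-- The root `r` is not produced by two roots of `P`. -/
structure Free (T : Tab) (P : Set ℕ) (r : ℕ) : Prop where
  sub : P ⊆ posSet T
  closed : CommClosed T P
  mem : r ∈ P
  avoid : ∀ a ∈ P, ∀ b ∈ P, b ≠ a → ∀ q ∈ T.commTerms a b, q.1 ≠ r

section

variable {P : Set ℕ} {r : ℕ} (hf : Free T P r)
include hf

lemma Free.closed' : CommClosed T (P \ {r}) := fun a ha b hb hne q hq =>
  ⟨hf.closed a ha.1 b hb.1 hne q hq, hf.avoid a ha.1 b hb.1 hne q hq⟩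

include h in
lemma conj_mem_diff {g a : GL D.Idx F} (hg : g ∈ gen D F P) (ha : a ∈ gen D F (P \ {r})) :
    g * a * g⁻¹ ∈ gen D F (P \ {r}) := by
  have hle : gen D F P ≤ Subgroup.normalizer (gen D F (P \ {r}) : Set (GL D.Idx F)) := by
    refine (Subgroup.closure_le _).2 ?_
    rintro _ ⟨s, hs, t, rfl⟩
    have hs' := hf.sub hs
    refine (le_normalizer_closure (H := gen D F {s}) ?_) (X_mem_gen D (Set.mem_singleton s) t)
    intro g hg a ha
    obtain ⟨b, rfl⟩ := (h.gen_singleton hs'.2).1 hg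
    obtain ⟨q, hq, u, rfl⟩ := ha
    have hq' := hf.sub hq.1
    by_cases e : q = s
    · subst e
      rw [h.X_inv hs'.2, h.X_add hs'.2, h.X_add hs'.2, add_neg_cancel_comm]
      exact X_mem_gen D hq u
    · exact h.X_conj_mem hs'.2 hq'.2 e (h.posSet_neg_ne hs' hq') hq
        (fun c hc => ⟨hf.closed s hs q hq.1 e c hc, hf.avoid s hs q hq.1 e c hc⟩) b u
  exact (Subgroup.mem_normalizer_iff.1 (hle hg) a).1 ha

include h in
lemma InC.mul {u v : GL D.Idx F} {t t' : F} (hu : InC D P r u t) (hv : InC D P r v t') :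
    InC D P r (u * v) (t + t') := by
  have hr := (hf.sub hf.mem).2
  have h1 : (X D r (t + t'))⁻¹ * (u * v) =
      ((X D r t')⁻¹ * ((X D r t)⁻¹ * u) * X D r t') * ((X D r t')⁻¹ * v) := by
    rw [← h.X_add hr]; group
  rw [InC, h1]
  refine mul_mem ?_ hv
  have h2 : (X D r t')⁻¹ ∈ gen D F P := inv_mem (X_mem_gen D hf.mem t')
  have := conj_mem_diff (h := h) hf h2 hu
  rwa [inv_inv] at this

include h in
lemma inC_X {s : ℕ} (hs : s ∈ P) (t : F) : InC D P r (X D s t) (if s = r then t else 0) := by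
  split
  · next e => subst e; rw [InC, inv_mul_cancel]; exact one_mem _
  · next e =>
    rw [InC, h.X_zero (hf.sub hf.mem).2, inv_one, one_mul]
    exact X_mem_gen D (show s ∈ P \ {r} from ⟨hs, e⟩) t

include h in
lemma inC_one : InC D P r (1 : GL D.Idx F) 0 := by
  rw [InC, h.X_zero (hf.sub hf.mem).2, inv_one, one_mul]; exact one_mem _

include h in
lemma exists_inC {u : GL D.Idx F} (hu : u ∈ gen D F P) : ∃ t, InC D P r u t := by
  have hr := (hf.sub hf.mem).2
  induction hu using Subgroup.closure_induction with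
  | mem g hg => obtain ⟨s, hs, t, rfl⟩ := hg; exact ⟨_, inC_X (h := h) hf hs t⟩
  | one => exact ⟨0, inC_one (h := h) hf⟩
  | mul a b _ _ ha hb =>
    obtain ⟨t, ht⟩ := ha; obtain ⟨t', ht'⟩ := hb; exact ⟨_, InC.mul (h := h) hf ht ht'⟩
  | inv a ha ih =>
    obtain ⟨t, ht⟩ := ih
    refine ⟨-t, ?_⟩
    have h1 := conj_mem_diff (h := h) hf (X_mem_gen D hf.mem t) (inv_mem ht)
    rw [InC, h.X_inv hr, neg_neg]
    rwa [show X D r t * ((X D r t)⁻¹ * a)⁻¹ * (X D r t)⁻¹ = X D r t * a⁻¹ by group] at h1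

include h in
lemma InC.unique {u : GL D.Idx F} {t t' : F} (hu : InC D P r u t) (hu' : InC D P r u t') :
    t = t' := by
  have hr := (hf.sub hf.mem).2
  by_contra hne
  have h1 : X D r (-t + t') ∈ gen D F (P \ {r}) := by
    rw [← h.X_add hr, ← h.X_inv hr]
    have := mul_mem hu (inv_mem hu')
    rwa [show (X D r t)⁻¹ * u * ((X D r t')⁻¹ * u)⁻¹ = (X D r t)⁻¹ * X D r t' by group] at this
  exact (h.root_mem_of_X_mem_gen (Set.sdiff_subset.trans hf.sub) hf.closed' hr
    (fun e => hne (neg_add_eq_zero.1 e)) h1).2 rfl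

end

include h in
/-- The coordinate of a word. -/
lemma inC_word {P : Set ℕ} {r : ℕ} (hf : Free T P r) :
    ∀ L : List (ℕ × F), (∀ p ∈ L, p.1 ∈ P) →
      InC D P r (L.map fun p => X D p.1 p.2).prod (L.map fun p => if p.1 = r then p.2 else 0).sum
  | [], _ => by simpa using inC_one (h := h) hf
  | p :: L, hL => by
    simp only [List.map_cons, List.prod_cons, List.sum_cons]
    exact InC.mul (h := h) hf (inC_X (h := h) hf (hL p List.mem_cons_self) p.2)
      (inC_word hf L fun q hq => hL q (List.mem_cons_of_mem _ hq))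

include h in
/-- Two closed sets of positive roots. -/
lemma gen_inter {P P' : Set ℕ} (hP : P ⊆ posSet T) (hc : CommClosed T P) (hP' : P' ⊆ posSet T)
    (hc' : CommClosed T P') {u : GL D.Idx F} (hu : u ∈ gen D F P) (hu' : u ∈ gen D F P') :
    u ∈ gen D F (P ∩ P') := by
  obtain ⟨c, rfl, hc0⟩ := h.exists_coords hP hc hu
  obtain ⟨c', e, hc0'⟩ := h.exists_coords hP' hc' hu'
  have he := h.prodX_inj (posList T) sortedLT_posList (fun r hr => mem_posList.1 hr) c c' e
  refine list_prod_mem fun g hg => ?_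
  obtain ⟨r, hr, rfl⟩ := List.mem_map.1 hg
  by_cases hin : r ∈ P ∧ r ∈ P'
  · exact X_mem_gen D hin _
  · have : c r = 0 := by
      by_cases h1 : r ∈ P
      · rw [he r hr]; exact hc0' r fun h2 => hin ⟨h1, h2⟩
      · exact hc0 r h1
    rw [this, h.X_zero (mem_posList.1 hr).2]; exact one_mem _

lemma inC_act {P : Set ℕ} {r : ℕ} (hP : P ⊆ posSet T) (hst : ∀ s ∈ P, E.ρ s ∈ P) (hr : r ∈ P)
    {u : GL D.Idx F} {t : F} (hu : u ∈ E.fix) (hc : InC D P r u t) :
    InC D P (E.ρ r) u (E.τ r t) := by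
  have hr' := (hP hr).2
  have h1 := E.act_mem_gen (S' := P \ {E.ρ r}) (fun s hs => (hP hs.1).2)
    (fun s hs => ⟨hst s hs.1, fun e => hs.2 (E.sym.inj s (hP hs.1).2 r hr' e)⟩) hc
  rwa [E.act_mul (inv_mem (h.X_mem_group hr' t)) (E.fix_le_group hu),
    E.act_inv (h.X_mem_group hr' t), E.act_X hr', E.act_of_fix hu] at h1

lemma inC_iterate {P : Set ℕ} {r : ℕ} (hP : P ⊆ posSet T) (hst : ∀ s ∈ P, E.ρ s ∈ P) (hr : r ∈ P)
    {u : GL D.Idx F} {t : F} (hu : u ∈ E.fix) (hc : InC D P r u t) :
    ∀ k, E.ρ^[k] r ∈ P ∧ InC D P (E.ρ^[k] r) u (E.τn k r t)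
  | 0 => ⟨hr, hc⟩
  | k + 1 => by
    obtain ⟨h1, h2⟩ := inC_iterate hP hst hr hu hc k
    rw [Function.iterate_succ_apply']
    exact ⟨hst _ h1, E.inC_act hP hst h1 hu h2⟩

lemma τn_zero : ∀ (k : ℕ) {r : ℕ}, r < T.n → E.τn k r 0 = 0
  | 0, _, _ => rfl
  | k + 1, r, hr => by rw [τn, τn_zero k hr, E.τ_zero (E.iter_lt hr k)]

/-- A supply of fixed elements of `K` with a given leading orbit. -/
def Lift (K : Subgroup (GL D.Idx F)) (o : Orb) : Prop :=
  ∀ t ∈ E.Adm o, ∃ u ∈ K, u ∈ E.fix ∧ u ∈ gen D F (o.cls E.ρ) ∧ InC D (o.cls E.ρ) o.root u t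

lemma InC.mono {P P' : Set ℕ} (hP : P ⊆ P') {r : ℕ} {u : GL D.Idx F} {t : F}
    (hc : InC D P r u t) : InC D P' r u t :=
  gen_mono D (Set.sdiff_subset_sdiff_left hP) hc

/-- The condition of a layer. -/
structure Layer (T : Tab) (ρ : ℕ → ℕ) (o : Orb) (L : List Orb) : Prop where
  size : o.size ≠ 0
  cyc : ρ^[o.size] o.root = o.root
  nodup : (o.list ρ).Nodup
  pos : ∀ a ∈ o.list ρ, a ∈ posSet T
  disj : ∀ a ∈ o.list ρ, a ∉ flatOrbs ρ L
  terms : ∀ a ∈ o.list ρ, ∀ b ∈ o.list ρ ++ flatOrbs ρ L, a ≠ b →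
    (∀ q ∈ T.commTerms a b, q.1 ∈ flatOrbs ρ L) ∧ ∀ q ∈ T.commTerms b a, q.1 ∈ flatOrbs ρ L
  tail : ∀ q ∈ o.tail, ∃ a ∈ o.list ρ, ∃ b ∈ o.list ρ, a ≠ b ∧
    ∃ c, (c ∈ T.commTerms a b ∨ c ∈ T.commTerms b a) ∧ c.1 = q

lemma Layer.of_chk {ρ : ℕ → ℕ} {o : Orb} {L : List Orb} (hc : chkLayer T ρ o L = true) :
    Layer T ρ o L := by
  simp only [chkLayer, Bool.and_eq_true, List.all_eq_true, List.any_eq_true, decide_eq_true_eq,
    Bool.or_eq_true, Bool.not_eq_true', List.contains_iff_mem] at hc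
  obtain ⟨h1, h2, h3, h4, h5⟩ := hc
  refine ⟨h1, h2, h3, fun a ha => (h4 a ha).1, fun a ha => ?_, fun a ha b hb hne => ?_,
    fun q hq => ?_⟩
  · have := (h4 a ha).2.1
    simpa using this
  · have h6 := ((h4 a ha).2.2 b hb).resolve_left hne
    exact ⟨fun q hq => h6 q.1 (List.mem_map.2 ⟨q, List.mem_append_left _ hq, rfl⟩),
      fun q hq => h6 q.1 (List.mem_map.2 ⟨q, List.mem_append_right _ hq, rfl⟩)⟩
  · obtain ⟨a, ha, b, hb, hne, hm⟩ := h5 q hq
    obtain ⟨c, hc', e⟩ := List.mem_map.1 hm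
    exact ⟨a, ha, b, hb, hne, c, List.mem_append.1 hc', e⟩

lemma Layer.mem_root {ρ : ℕ → ℕ} {o : Orb} {L : List Orb} (hl : Layer T ρ o L) :
    o.root ∈ o.list ρ :=
  List.mem_map.2 ⟨0, List.mem_range.2 (Nat.pos_of_ne_zero hl.size), rfl⟩

lemma Layer.mem_succ {ρ : ℕ → ℕ} {o : Orb} {L : List Orb} (hl : Layer T ρ o L) {a : ℕ}
    (ha : a ∈ o.list ρ) : ρ a ∈ o.list ρ := by
  obtain ⟨k, hk, rfl⟩ := List.mem_map.1 ha
  rw [List.mem_range] at hk
  refine List.mem_map.2 ⟨(k + 1) % o.size, List.mem_range.2 (Nat.mod_lt _ (by omega)), ?_⟩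
  rw [← Function.iterate_succ_apply' ρ k]
  rcases eq_or_lt_of_le (Nat.succ_le_of_lt hk) with e | e
  · rw [Nat.succ_eq_add_one] at e ⊢
    rw [e, Nat.mod_self, hl.cyc]; rfl
  · rw [Nat.succ_eq_add_one] at e ⊢
    rw [Nat.mod_eq_of_lt e]

lemma flatOrbs_spec {ρ : ℕ → ℕ} : ∀ {L : List Orb}, chkLayers T ρ L = true →
    (flatOrbs ρ L).Nodup ∧ (∀ a ∈ flatOrbs ρ L, a ∈ posSet T ∧ ρ a ∈ flatOrbs ρ L) ∧
      CommClosed T {a | a ∈ flatOrbs ρ L}
  | [], _ => ⟨List.nodup_nil, fun a ha => absurd ha List.not_mem_nil,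
      fun a ha => absurd ha List.not_mem_nil⟩
  | o :: L, hc => by
    simp only [chkLayers, Bool.and_eq_true] at hc
    have hl := Layer.of_chk hc.1
    obtain ⟨h1, h2, h3⟩ := flatOrbs_spec hc.2
    have e : flatOrbs ρ (o :: L) = o.list ρ ++ flatOrbs ρ L := by simp [flatOrbs]
    rw [e]
    refine ⟨List.nodup_append.2 ⟨hl.nodup, h1, fun a ha b hb hab => hl.disj a ha (hab ▸ hb)⟩,
      fun a ha => ?_, fun a ha b hb hne q hq => ?_⟩
    · rcases List.mem_append.1 ha with ha | ha
      · exact ⟨hl.pos a ha, List.mem_append_left _ (hl.mem_succ ha)⟩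
      · exact ⟨(h2 a ha).1, List.mem_append_right _ (h2 a ha).2⟩
    · refine List.mem_append_right _ ?_
      rcases List.mem_append.1 ha with ha' | ha'
      · exact (hl.terms a ha' b hb hne.symm).1 q hq
      · rcases List.mem_append.1 hb with hb' | hb'
        · exact (hl.terms b hb' a ha hne).2 q hq
        · exact h3 a ha' b hb' hne q hq

/-- The number of the roots of a list in a set. -/
noncomputable def cnt (P : Set ℕ) (L : List ℕ) : ℕ :=
  open scoped Classical in (L.filter fun a => decide (a ∈ P)).length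

/-- Fixed points layer by layer. -/
theorem fix_gen (K : Subgroup (GL D.Idx F)) [Finite F] {e Q : ℕ} {P : Set ℕ} (hP : P ⊆ posSet T)
    (hPc : CommClosed T P) (hPs : ∀ s ∈ P, E.ρ s ∈ P) :
    ∀ L : List Orb, chkLayers T E.ρ L = true → (∀ o ∈ L, E.Lift K o) →
      (∀ o ∈ L, Nat.card (E.Adm o) ^ e = Q ^ o.size) →
      E.fix ⊓ gen D F (P ∩ {a | a ∈ flatOrbs E.ρ L}) ≤ K ∧
        Nat.card ↥(E.fix ⊓ gen D F (P ∩ {a | a ∈ flatOrbs E.ρ L})) ^ e =
          Q ^ cnt P (flatOrbs E.ρ L) := by
  intro L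
  induction L with
  | nil =>
    intro _ _ _
    have e0 : gen D F (P ∩ {a | a ∈ flatOrbs E.ρ []}) = ⊥ := by
      simp [gen, flatOrbs]
    rw [e0, inf_bot_eq]
    exact ⟨bot_le, by simp [cnt, flatOrbs]⟩
  | cons o L ih =>
    intro hc hlift hcard
    obtain ⟨-, hflat, hclosed⟩ := flatOrbs_spec hc
    simp only [chkLayers, Bool.and_eq_true] at hc
    have hl := Layer.of_chk hc.1
    obtain ⟨hnd', hflat', -⟩ := flatOrbs_spec hc.2
    obtain ⟨ih1, ih2⟩ := ih hc.2 (fun o' ho => hlift o' (List.mem_cons_of_mem _ ho))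
      (fun o' ho => hcard o' (List.mem_cons_of_mem _ ho))
    have e1 : flatOrbs E.ρ (o :: L) = o.list E.ρ ++ flatOrbs E.ρ L := by simp [flatOrbs]
    rw [e1] at hflat hclosed ⊢
    have hcnt : cnt P (o.list E.ρ ++ flatOrbs E.ρ L) =
        cnt P (o.list E.ρ) + cnt P (flatOrbs E.ρ L) := by
      classical
      simp [cnt, List.filter_append]
    rw [hcnt]
    by_cases hroot : o.root ∈ P
    swap
    · have hout : ∀ a ∈ o.list E.ρ, a ∉ P := by
        intro a ha haP
        obtain ⟨k, hk, rfl⟩ := List.mem_map.1 ha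
        rw [List.mem_range] at hk
        have : ∀ j, E.ρ^[j] (E.ρ^[k] o.root) ∈ P := fun j => by
          induction j with
          | zero => exact haP
          | succ j ih => rw [Function.iterate_succ_apply']; exact hPs _ ih
        refine hroot ?_
        have h1 := this (o.size - k)
        rwa [← Function.iterate_add_apply, show o.size - k + k = o.size by omega, hl.cyc] at h1
      have eset : P ∩ {a | a ∈ o.list E.ρ ++ flatOrbs E.ρ L} = P ∩ {a | a ∈ flatOrbs E.ρ L} := by
        ext a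
        simp only [Set.mem_inter_iff, Set.mem_ofPred_eq, List.mem_append]
        exact ⟨fun ⟨h1, h2⟩ => ⟨h1, h2.resolve_left fun h => hout a h h1⟩,
          fun ⟨h1, h2⟩ => ⟨h1, Or.inr h2⟩⟩
      have e0 : cnt P (o.list E.ρ) = 0 := by
        simp only [cnt, List.length_eq_zero_iff, List.filter_eq_nil_iff, decide_eq_true_eq]
        exact hout
      rw [eset, e0, zero_add]
      exact ⟨ih1, ih2⟩
    · set S : Set ℕ := P ∩ {a | a ∈ o.list E.ρ ++ flatOrbs E.ρ L} with hS
      set S' : Set ℕ := P ∩ {a | a ∈ flatOrbs E.ρ L} with hS'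
      have hin : ∀ a ∈ o.list E.ρ, a ∈ P := by
        intro a ha
        obtain ⟨k, -, rfl⟩ := List.mem_map.1 ha
        clear ha
        induction k with
        | zero => exact hroot
        | succ k ih => rw [Function.iterate_succ_apply']; exact hPs _ ih
      have hSsub : S ⊆ posSet T := fun a ha => hP ha.1
      have hScl : CommClosed T S := fun a ha b hb hne q hq =>
        ⟨hPc a ha.1 b hb.1 hne q hq, hclosed a ha.2 b hb.2 hne q hq⟩
      have hSst : ∀ s ∈ S, E.ρ s ∈ S := fun s hs => ⟨hPs s hs.1, (hflat s hs.2).2⟩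
      have hfree : ∀ a ∈ o.list E.ρ, Free T S a := by
        refine fun a ha => ⟨hSsub, hScl, ⟨hin a ha, List.mem_append_left _ ha⟩, ?_⟩
        intro x hx y hy hne q hq e
        have : q.1 ∈ flatOrbs E.ρ L := by
          rcases List.mem_append.1 hx.2 with hx' | hx'
          · exact (hl.terms x hx' y hy.2 hne.symm).1 q hq
          · rcases List.mem_append.1 hy.2 with hy' | hy'
            · exact (hl.terms y hy' x hx.2 hne).2 q hq
            · exact (flatOrbs_spec hc.2).2.2 x hx' y hy' hne q hq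
        exact hl.disj a ha (e ▸ this)
      have hf0 := hfree _ hl.mem_root
      have hcls : o.cls E.ρ ⊆ S := by
        rintro a (ha | ha)
        · exact ⟨hin a ha, List.mem_append_left _ ha⟩
        · obtain ⟨x, hx, y, hy, hne, c, hc', rfl⟩ := hl.tail a ha
          have hx' : x ∈ S := ⟨hin x hx, List.mem_append_left _ hx⟩
          have hy' : y ∈ S := ⟨hin y hy, List.mem_append_left _ hy⟩
          rcases hc' with hc' | hc'
          · exact hScl x hx' y hy' hne.symm c hc'
          · exact hScl y hy' x hx' hne c hc'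
      -- elements with zero leading coordinates
      have hzero : ∀ w ∈ E.fix, InC D S o.root w 0 → w ∈ gen D F S' := by
        intro w hw hw0
        have hz : ∀ a ∈ o.list E.ρ, w ∈ gen D F (S \ {a}) := by
          intro a ha
          obtain ⟨k, -, rfl⟩ := List.mem_map.1 ha
          obtain ⟨h1, h2⟩ := E.inC_iterate hSsub hSst hf0.mem hw hw0 k
          rw [InC, E.τn_zero k (hSsub hf0.mem).2, h.X_zero (hSsub h1).2, inv_one, one_mul] at h2
          exact h2
        have hrec : ∀ M : List ℕ, (∀ a ∈ M, a ∈ o.list E.ρ) →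
            w ∈ gen D F (S \ {a | a ∈ M}) ∧ CommClosed T (S \ {a | a ∈ M}) := by
          intro M
          induction M with
          | nil =>
            intro _
            simp only [List.not_mem_nil, Set.ofPred_false, Set.sdiff_empty]
            refine ⟨?_, hScl⟩
            have := hz _ hl.mem_root
            exact gen_mono D Set.sdiff_subset this
          | cons a M ihM =>
            intro hM
            obtain ⟨g1, g2⟩ := ihM fun x hx => hM x (List.mem_cons_of_mem _ hx)
            have ha := hM a List.mem_cons_self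
            have eS : S \ {x | x ∈ a :: M} = (S \ {x | x ∈ M}) ∩ (S \ {a}) := by
              ext x; simp only [Set.mem_sdiff, Set.mem_ofPred_eq, List.mem_cons, Set.mem_inter_iff,
                Set.mem_singleton_iff]; tauto
            rw [eS]
            refine ⟨gen_inter (h := h) (Set.sdiff_subset.trans hSsub) g2
              (Set.sdiff_subset.trans hSsub) (hfree a ha).closed' g1 (hz a ha), ?_⟩
            exact fun x hx y hy hne q hq => ⟨g2 x hx.1 y hy.1 hne q hq,
              (hfree a ha).closed' x hx.2 y hy.2 hne q hq⟩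
        refine gen_mono D ?_ (hrec _ fun a ha => ha).1
        rintro a ⟨ha, hn⟩
        exact ⟨ha.1, (List.mem_append.1 ha.2).resolve_left hn⟩
      have hS'S : S' ⊆ S := fun a ha => ⟨ha.1, List.mem_append_right _ ha.2⟩
      have hroot' : o.root ∉ S' := fun hm => hl.disj _ hl.mem_root hm.2
      choose lift hliftK hliftF hliftG hliftC using fun t : E.Adm o => hlift o List.mem_cons_self t t.2
      have hsplit : ∀ u ∈ E.fix ⊓ gen D F S, ∃ t : E.Adm o, (lift t)⁻¹ * u ∈ E.fix ⊓ gen D F S' := by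
        rintro u ⟨hu, huS⟩
        obtain ⟨t, ht⟩ := exists_inC (h := h) hf0 huS
        have hadm : t ∈ E.Adm o := by
          have h1 := (E.inC_iterate hSsub hSst hf0.mem hu ht o.size).2
          rw [hl.cyc] at h1
          exact InC.unique (h := h) hf0 h1 ht
        refine ⟨⟨t, hadm⟩, ?_⟩
        have hv := InC.mono hcls (hliftC ⟨t, hadm⟩)
        have hw : (lift ⟨t, hadm⟩)⁻¹ * u ∈ E.fix := mul_mem (inv_mem (hliftF _)) hu
        refine ⟨hw, hzero _ hw ?_⟩
        obtain ⟨t', ht'⟩ := exists_inC (h := h) hf0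
          (mul_mem (inv_mem (gen_mono D hcls (hliftG ⟨t, hadm⟩))) huS)
        have := InC.mul (h := h) hf0 hv ht'
        rw [mul_inv_cancel_left] at this
        have h0 : t + t' = t := InC.unique (h := h) hf0 this ht
        rw [add_eq_left] at h0
        rwa [h0] at ht'
      refine ⟨fun u hu => ?_, ?_⟩
      · obtain ⟨t, ht⟩ := hsplit u hu
        have := mul_mem (hliftK t) (ih1 ht)
        rwa [mul_inv_cancel_left] at this
      · let f : E.Adm o × ↥(E.fix ⊓ gen D F S') → ↥(E.fix ⊓ gen D F S) := fun p =>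
          ⟨lift p.1 * p.2.1, mul_mem (hliftF _) p.2.2.1,
            mul_mem (gen_mono D hcls (hliftG _)) (gen_mono D hS'S p.2.2.2)⟩
        have hb : Function.Bijective f := by
          constructor
          · rintro ⟨t, w⟩ ⟨t', w'⟩ e
            have e' : lift t * w.1 = lift t' * w'.1 := congrArg Subtype.val e
            have hz : ∀ v ∈ gen D F S', InC D S o.root v 0 := by
              intro v hv
              rw [InC, h.X_zero (hSsub hf0.mem).2, inv_one, one_mul]
              exact gen_mono D (S := S') (S' := S \ {o.root}) (fun a ha => ⟨hS'S ha, fun ea => hroot' (ea ▸ ha)⟩) hv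
            have h1 := InC.mul (h := h) hf0 (InC.mono hcls (hliftC t)) (hz _ w.2.2)
            have h2 := InC.mul (h := h) hf0 (InC.mono hcls (hliftC t')) (hz _ w'.2.2)
            rw [e'] at h1
            have ht : t = t' := Subtype.ext (by simpa using InC.unique (h := h) hf0 h1 h2)
            subst ht
            exact Prod.ext rfl (Subtype.ext (mul_left_cancel e'))
          · rintro ⟨u, hu⟩
            obtain ⟨t, ht⟩ := hsplit u hu
            exact ⟨⟨t, ⟨_, ht⟩⟩, Subtype.ext (mul_inv_cancel_left _ _)⟩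
        have e0 : cnt P (o.list E.ρ) = o.size := by
          classical
          rw [cnt, List.filter_eq_self.2 (fun a ha => by simpa using hin a ha)]
          simp [Orb.list]
        rw [← Nat.card_eq_of_bijective f hb, Nat.card_prod, mul_pow, ih2,
          hcard o List.mem_cons_self, e0, pow_add]

/-- Transport of a supply of fixed elements by a fixed monomial element. -/
theorem Lift.conj {K : Subgroup (GL D.Idx F)} {o o' : Orb} {w : List ℕ} (hw : WordOK T w)
    (hcomm : ∀ r < T.n, E.ρ (rword T w r) = rword T w (E.ρ r)) {m : GL D.Idx F} (hm : m ∈ E.fix)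
    (hM : ∀ r < T.n, Maps D m r (rword T w r)) (hK : ∀ u ∈ K, m * u * m⁻¹ ∈ K)
    (hroot : rword T w o.root = o'.root) (hsize : o'.size = o.size)
    (hcls : ∀ r ∈ o.cls E.ρ, r < T.n) (htail : ∀ r ∈ o.tail, rword T w r ∈ o'.cls E.ρ)
    (hr : o.root < T.n) (hcyc : E.ρ^[o.size] o.root = o.root) (hl : E.Lift K o) :
    E.Lift K o' ∧ Nat.card (E.Adm o') = Nat.card (E.Adm o) := by
  have hmG := E.fix_le_group hm
  have hiter : ∀ k, E.ρ^[k] (rword T w o.root) = rword T w (E.ρ^[k] o.root) := by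
    intro k
    induction k with
    | zero => rfl
    | succ k ih =>
      rw [Function.iterate_succ_apply', Function.iterate_succ_apply', ih,
        hcomm _ (E.iter_lt hr k)]
  obtain ⟨c, hc, ec⟩ := hM _ hr
  rw [hroot] at ec
  have hstep : ∀ k t, m * X D (E.ρ^[k] o.root) (E.τn k o.root t) * m⁻¹ =
      X D (E.ρ^[k] o'.root) (E.τn k o'.root (c * t)) := by
    intro k t
    induction k with
    | zero => exact ec t
    | succ k ih =>
      have hlt := E.iter_lt hr k
      have hlt' := E.iter_lt (show o'.root < T.n from hroot ▸ h.rword_lt hw hr) k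
      have h1 := congrArg E.act ih
      rw [E.act_mul (mul_mem hmG (h.X_mem_group hlt _)) (inv_mem hmG),
        E.act_mul hmG (h.X_mem_group hlt _), E.act_inv hmG, E.act_of_fix hm, E.act_X hlt,
        E.act_X hlt'] at h1
      rw [Function.iterate_succ_apply', Function.iterate_succ_apply']
      exact h1
  have hroot' : o'.root < T.n := hroot ▸ h.rword_lt hw hr
  have hkey : ∀ t, E.τn o.size o'.root (c * t) = c * E.τn o.size o.root t := by
    intro t
    have h1 := hstep o.size t
    rw [hcyc, ec, ← hroot, hiter, hcyc, hroot] at h1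
    exact (h.X_inj hroot' h1).symm
  have hadm : ∀ t, c * t ∈ E.Adm o' ↔ t ∈ E.Adm o := by
    intro t
    simp only [Adm, Set.mem_ofPred_eq, hsize, hkey]
    exact ⟨fun e => mul_left_cancel₀ hc e, fun e => by rw [e]⟩
  refine ⟨fun t' ht' => ?_, ?_⟩
  · have et : c * (c⁻¹ * t') = t' := mul_inv_cancel_left₀ hc t'
    obtain ⟨u, huK, huF, huG, huC⟩ := hl (c⁻¹ * t') ((hadm _).1 (by rw [et]; exact ht'))
    have hmap : ∀ r ∈ o.cls E.ρ, rword T w r ∈ o'.cls E.ρ := by
      rintro r (hr' | hr')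
      · obtain ⟨k, hk, rfl⟩ := List.mem_map.1 hr'
        refine Or.inl (List.mem_map.2 ⟨k, by rw [hsize]; exact hk, ?_⟩)
        rw [← hroot, hiter]
      · exact htail r hr'
    refine ⟨m * u * m⁻¹, hK u huK, mul_mem (mul_mem hm huF) (inv_mem hm), ?_, ?_⟩
    · exact Cert.conj_gen_le (fun r hr' => ⟨_, hmap r hr', hM r (hcls r hr')⟩) huG
    · have h1 := Cert.conj_gen_le (S' := o'.cls E.ρ \ {o'.root}) (g := m) (fun r hr' =>
        ⟨rword T w r, ⟨hmap r hr'.1, fun e => hr'.2 (h.rword_inj hw (hcls r hr'.1) hr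
          (e.trans hroot.symm))⟩, hM r (hcls r hr'.1)⟩) huC
      rw [InC]
      rwa [show m * ((X D o.root (c⁻¹ * t'))⁻¹ * u) * m⁻¹ =
          (m * X D o.root (c⁻¹ * t') * m⁻¹)⁻¹ * (m * u * m⁻¹) by group, ec, et] at h1
  · exact Nat.card_congr
      { toFun := fun t => ⟨c⁻¹ * t.1, (hadm _).1 (by rw [mul_inv_cancel_left₀ hc]; exact t.2)⟩
        invFun := fun t => ⟨c * t.1, (hadm _).2 t.2⟩
        left_inv := fun t => Subtype.ext (mul_inv_cancel_left₀ hc _)
        right_inv := fun t => Subtype.ext (inv_mul_cancel_left₀ hc _) }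

end Endo

end CfsgLib.Chev
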