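import Cfsg.Agent.Lib.Chev.All
import Cfsg.Agent.Lib.Chev.Monomial
import Cfsg.Agent.Lib.Chev.Torus
import Cfsg.Agent.Lib.Chev.Functorial

/-!
A certificate for generation by `h_j(ω) x_r(1)` and `n_w x_s(1)`: a list of steps that enlarges the
set of roots whose root subgroups are known to lie in the subgroup generated by the two elements.
-/

set_option autoImplicit false

namespace CfsgLib.Chev

open Cfsg.Lie Matrix

namespace Tab

/-- The steps of a certificate. -/
inductive GStep where
  /-- apply `n_w` to a root with a full root subgroup -/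
  | wf (x : ℕ)
  /-- apply `n_w` to a root with one known root element -/
  | ws (x : ℕ)
  /-- one root element gives all of them by the torus element -/
  | up (x : ℕ)
  /-- a commutator -/
  | comm (a b k : ℕ)
  /-- conjugation by `b` -/
  | bc (x k : ℕ)
  /-- conjugation by `b⁻¹` -/
  | bi (y k : ℕ)

/-- The parameters: the special prime and whether it is the characteristic, and `w, s, j`. -/
structure GenPar where
  /-- the special prime -/
  e : ℕ
  /-- whether the characteristic is `e` -/
  inChar : Bool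
  /-- the word of the monomial part -/
  w : List ℕ
  /-- the root of `b` -/
  s : ℕ
  /-- the root of the torus element -/
  j : ℕ

/-- The coefficient vanishes. -/
def GenPar.dead (p : GenPar) (m : ℤ) : Bool := p.inChar && decide (m % (p.e : ℤ) = 0)

/-- The coefficient does not vanish. -/
def GenPar.live (p : GenPar) (m : ℤ) : Bool :=
  if p.inChar then decide (m % (p.e : ℤ) ≠ 0) else decide (m.natAbs = 1 ∨ m.natAbs = p.e)

/-- The power map is onto. -/
def GenPar.onto (p : GenPar) (j : ℕ) : Bool := decide (j = 1) || (p.inChar && decide (j = p.e))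

/-- All terms but the one at `k` are known, and that one can be solved for. -/
def okAt (p : GenPar) (S : ℕ) (φ : ℕ → ℕ) (L : List (ℕ × ℤ × ℕ × ℕ)) (k : ℕ) : Option ℕ :=
  match L[k]? with
  | none => none
  | some q =>
    if p.live q.2.1 && p.onto q.2.2.2 &&
        ((L.take k ++ L.drop (k + 1)).all fun q' => p.dead q'.2.1 || S.testBit (φ q'.1)) then
      some (φ q.1)
    else none

/-- The state: roots with full root subgroups, and roots with one known element. -/
abbrev GState := ℕ × ℕ

/-- Record a full root subgroup. -/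
def addFull (st : GState) (x : ℕ) : GState := (st.1 ||| 2 ^ x, st.2 ||| 2 ^ x)

/-- One step. -/
def genStep (T : Tab) (p : GenPar) (st : GState) : GStep → Option GState
  | .wf x => if st.1.testBit x && st.1.testBit p.s then some (addFull st (rword T p.w x)) else none
  | .ws x => if st.2.testBit x && st.1.testBit p.s then some (st.1, st.2 ||| 2 ^ rword T p.w x)
      else none
  | .up x => if st.2.testBit x && decide ((T.pairing p.j x).natAbs = 1) then some (addFull st x)
      else none
  | .comm a b k =>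
    if st.2.testBit a && st.1.testBit b && decide (b ≠ a ∧ b ≠ T.neg a) then
      (okAt p st.1 id (T.commTerms a b) k).map (addFull st)
    else none
  | .bc x k =>
    if st.1.testBit x && decide (x ≠ p.s ∧ x ≠ T.neg p.s) then
      (okAt p st.1 (rword T p.w) ((x, 1, 0, 1) :: T.commTerms p.s x) k).map (addFull st)
    else none
  | .bi y k =>
    if decide (y < T.n) && st.1.testBit (rword T p.w y) && decide (y ≠ p.s ∧ y ≠ T.neg p.s) then
      (okAt p st.1 id ((y, 1, 0, 1) :: T.commTerms p.s y) k).map (addFull st)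
    else none

/-- Run the steps. -/
def genRun (T : Tab) (p : GenPar) : List GStep → GState → Option GState
  | [], st => some st
  | g :: L, st => match T.genStep p st g with
    | none => none
    | some st' => genRun T p L st'

/-- The certificate check. -/
def chkGen (T : Tab) (p : GenPar) (L : List GStep) (F S : ℕ) : Bool :=
  match T.genRun p L (F, S) with
  | none => false
  | some st => (List.range T.l).all fun i =>
      st.1.testBit (T.simple i) && st.1.testBit (T.neg (T.simple i))

/-- The conditions on the torus element and the roots of the two generators. -/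
def chkStart (T : Tab) (p : GenPar) (r : ℕ) : Bool :=
  decide (r < T.n ∧ p.s < T.n ∧ p.j < T.n) && (p.w.all fun i => decide (i < T.l)) &&
    decide (T.pairing p.j r = 0 ∧ (T.pairing p.j p.s).natAbs = 1 ∧
      (T.pairing p.j (rword T p.w p.s)).natAbs = 1)

end Tab

open Tab (GStep GenPar GState)

variable {D : ChevalleyDatum} {T : Tab} {C : Tab.Cover} {F : Type*} [Field F]

/-- The parameters fit the field. -/
structure ParOK (F : Type*) [Field F] (p : GenPar) : Prop where
  dead : ∀ m, p.dead m = true → (m : F) = 0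
  live : ∀ m, p.live m = true → (m : F) ≠ 0
  onto : ∀ j, p.onto j = true → ∀ x : F, ∃ u : F, u ^ j = x

theorem parOK_of_ne {e : ℕ} (he : (e : F) ≠ 0) (w : List ℕ) (s j : ℕ) :
    ParOK F ⟨e, false, w, s, j⟩ where
  dead m hm := by simp [GenPar.dead] at hm
  live m hm := by
    simp only [GenPar.live, Bool.false_eq_true, if_false, decide_eq_true_eq] at hm
    rcases Int.natAbs_eq m with h | h <;> rcases hm with hm | hm <;> rw [h, hm] <;> simp [he]
  onto k hk x := by
    simp only [GenPar.onto, Bool.false_and, Bool.or_false, decide_eq_true_eq] at hk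
    exact ⟨x, by rw [hk, pow_one]⟩

theorem parOK_of_char [Finite F] {e : ℕ} [Fact e.Prime] [CharP F e] (w : List ℕ) (s j : ℕ) :
    ParOK F ⟨e, true, w, s, j⟩ where
  dead m hm := by
    simp only [GenPar.dead, Bool.true_and, decide_eq_true_eq] at hm
    exact (CharP.intCast_eq_zero_iff F e m).2 (Int.dvd_of_emod_eq_zero hm)
  live m hm h0 := by
    simp only [GenPar.live, if_true, decide_eq_true_eq] at hm
    exact hm (Int.emod_eq_zero_of_dvd ((CharP.intCast_eq_zero_iff F e m).1 h0))
  onto k hk x := by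
    simp only [GenPar.onto, Bool.true_and, Bool.or_eq_true, decide_eq_true_eq] at hk
    rcases hk with rfl | rfl
    · exact ⟨x, pow_one x⟩
    · exact (bijective_frobenius F k).2 x

/-- What a state asserts about `K`. -/
def Good (D : ChevalleyDatum) (T : Tab) {F : Type*} [Field F] (K : Subgroup (GL D.Idx F))
    (st : GState) : Prop :=
  (∀ x, st.1.testBit x = true → x < T.n ∧ ∀ t : F, X D x t ∈ K) ∧
    ∀ x, st.2.testBit x = true → x < T.n ∧ ∃ c : F, c ≠ 0 ∧ X D x c ∈ K

namespace Cert

variable (h : Cert D T C) {K : Subgroup (GL D.Idx F)} {p : GenPar}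
include h

lemma good_addFull {st : GState} (hst : Good D T K st) {x : ℕ} (hx : x < T.n)
    (hX : ∀ t : F, X D x t ∈ K) : Good D T K (Tab.addFull st x) := by
  constructor <;> intro y hy <;>
    simp only [Tab.addFull, Nat.testBit_or, Bool.or_eq_true, Nat.testBit_two_pow,
      decide_eq_true_eq] at hy <;> rcases hy with hy | rfl
  · exact hst.1 y hy
  · exact ⟨hx, hX⟩
  · exact hst.2 y hy
  · exact ⟨hx, 1, one_ne_zero, hX 1⟩

lemma extract (hp : ParOK F p) {st : GState} (hst : Good D T K st) {φ : ℕ → ℕ}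
    {L : List (ℕ × ℤ × ℕ × ℕ)} (hφ : ∀ q ∈ L, φ q.1 < T.n) {k x : ℕ}
    (hok : Tab.okAt p st.1 φ L k = some x) (coef : ℕ × ℤ × ℕ × ℕ → F)
    (hc : ∀ q ∈ L, coef q ≠ 0)
    (hmem : ∀ u : F, (L.map fun q => X D (φ q.1) (coef q * (q.2.1 : F) * u ^ q.2.2.2)).prod ∈ K) :
    x < T.n ∧ ∀ t : F, X D x t ∈ K := by
  unfold Tab.okAt at hok
  cases hq : L[k]? with
  | none => rw [hq] at hok; simp at hok
  | some q =>
    rw [hq] at hok
    simp only [Option.ite_none_right_eq_some, Option.some.injEq, Bool.and_eq_true,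
      List.all_eq_true, Bool.or_eq_true] at hok
    obtain ⟨⟨⟨hl, ho⟩, hall⟩, rfl⟩ := hok
    obtain ⟨hk, hqk⟩ := List.getElem?_eq_some_iff.1 hq
    have hqL : q ∈ L := hqk ▸ List.getElem_mem hk
    refine ⟨hφ q hqL, fun t => ?_⟩
    obtain ⟨u, hu⟩ := hp.onto _ ho (t / (coef q * (q.2.1 : F)))
    have hm : coef q * (q.2.1 : F) ≠ 0 := mul_ne_zero (hc q hqL) (hp.live _ hl)
    have hside : ∀ q' ∈ L.take k ++ L.drop (k + 1),
        X D (φ q'.1) (coef q' * (q'.2.1 : F) * u ^ q'.2.2.2) ∈ K := by
      intro q' hq'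
      have hq'L : q' ∈ L := by
        rcases List.mem_append.1 hq' with e | e
        exacts [List.mem_of_mem_take e, List.mem_of_mem_drop e]
      rcases hall q' hq' with e | e
      · rw [hp.dead _ e, mul_zero, zero_mul, h.X_zero (hφ q' hq'L)]; exact one_mem _
      · exact (hst.1 _ e).2 _
    have hprod := hmem u
    rw [show L = L.take k ++ q :: L.drop (k + 1) by
        rw [← hqk, List.getElem_cons_drop, List.take_append_drop],
      List.map_append, List.map_cons, List.prod_append, List.prod_cons, hu,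
      mul_div_cancel₀ _ hm] at hprod
    rwa [Subgroup.mul_mem_cancel_left, Subgroup.mul_mem_cancel_right] at hprod
    · exact list_prod_mem fun g hg => by
        obtain ⟨q', hq', rfl⟩ := List.mem_map.1 hg
        exact hside q' (List.mem_append_right _ hq')
    · exact list_prod_mem fun g hg => by
        obtain ⟨q', hq', rfl⟩ := List.mem_map.1 hg
        exact hside q' (List.mem_append_left _ hq')

lemma terms_ok {r s : ℕ} (hr : r < T.n) (hs : s < T.n) :
    ∀ q ∈ (s, (1 : ℤ), 0, 1) :: T.commTerms r s, q.1 < T.n := by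
  intro q hq
  rcases List.mem_cons.1 hq with rfl | hq
  · exact hs
  · exact h.commTerms_lt hr hs hq

variable {b : GL D.Idx F} (hb : b = nW D F p.w * X D p.s 1) (hbK : b ∈ K)
  (hw : WordOK T p.w) (hs : p.s < T.n) (hp : ParOK F p)
  (hup : ∀ x < T.n, (T.pairing p.j x).natAbs = 1 → ∀ c : F, c ≠ 0 → X D x c ∈ K →
    ∀ t : F, X D x t ∈ K)
include hb hbK hw hs hp hup

lemma genStep_good {st st' : GState} (hst : Good D T K st) {g : GStep}
    (e : T.genStep p st g = some st') : Good D T K st' := by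
  have hn : st.1.testBit p.s = true → nW D F p.w ∈ K := fun hS => by
    have := mul_mem hbK ((hst.1 _ hS).2 (-1))
    rwa [hb, mul_assoc, h.X_add hs, add_neg_cancel, h.X_zero hs, mul_one] at this
  cases g with
  | wf x =>
    simp only [Tab.genStep, Option.ite_none_right_eq_some, Option.some.injEq,
      Bool.and_eq_true] at e
    obtain ⟨⟨hx, hS⟩, rfl⟩ := e
    obtain ⟨hxn, hxK⟩ := hst.1 x hx
    obtain ⟨c, hc, hm⟩ := h.Maps_nW (F := F) hw hxn
    refine h.good_addFull hst (h.rword_lt hw hxn) fun t => ?_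
    rw [← mul_div_cancel₀ t hc, ← hm]
    exact mul_mem (mul_mem (hn hS) (hxK _)) (inv_mem (hn hS))
  | ws x =>
    simp only [Tab.genStep, Option.ite_none_right_eq_some, Option.some.injEq,
      Bool.and_eq_true] at e
    obtain ⟨⟨hx, hS⟩, rfl⟩ := e
    obtain ⟨hxn, d, hd, hxK⟩ := hst.2 x hx
    obtain ⟨c, hc, hm⟩ := h.Maps_nW (F := F) hw hxn
    refine ⟨hst.1, fun y hy => ?_⟩
    simp only [Nat.testBit_or, Bool.or_eq_true, Nat.testBit_two_pow, decide_eq_true_eq] at hy
    rcases hy with hy | rfl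
    · exact hst.2 y hy
    · refine ⟨h.rword_lt hw hxn, c * d, mul_ne_zero hc hd, ?_⟩
      rw [← hm]
      exact mul_mem (mul_mem (hn hS) hxK) (inv_mem (hn hS))
  | up x =>
    simp only [Tab.genStep, Option.ite_none_right_eq_some, Option.some.injEq,
      Bool.and_eq_true, decide_eq_true_eq] at e
    obtain ⟨⟨hx, hpx⟩, rfl⟩ := e
    obtain ⟨hxn, d, hd, hxK⟩ := hst.2 x hx
    exact h.good_addFull hst hxn (hup x hxn hpx d hd hxK)
  | comm a c k =>
    simp only [Tab.genStep, Option.ite_none_right_eq_some, Option.map_eq_some_iff,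
      Bool.and_eq_true, decide_eq_true_eq] at e
    obtain ⟨⟨⟨ha, hc⟩, hne, hneg⟩, x, hx, rfl⟩ := e
    obtain ⟨han, d, hd, haK⟩ := hst.2 a ha
    obtain ⟨hcn, hcK⟩ := hst.1 c hc
    have := h.extract hp hst (φ := id) (fun q hq => h.commTerms_lt han hcn hq) hx
      (fun q => (-d) ^ q.2.2.1) (fun q _ => pow_ne_zero _ (neg_ne_zero.2 hd)) fun u => by
        have e := h.X_conj han hcn hne hneg d u
        have hm : X D a (-d) * X D c u * X D a d ∈ K :=
          mul_mem (mul_mem (h.X_inv han d ▸ inv_mem haK) (hcK u)) haK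
        rw [e, Subgroup.mul_mem_cancel_left _ (hcK u)] at hm
        convert hm using 2
        refine List.map_congr_left fun q _ => ?_
        rw [id_eq, mul_comm ((-d) ^ q.2.2.1)]
    exact h.good_addFull hst this.1 this.2
  | bc x k =>
    simp only [Tab.genStep, Option.ite_none_right_eq_some, Option.map_eq_some_iff,
      Bool.and_eq_true, decide_eq_true_eq] at e
    obtain ⟨⟨hx, hne, hneg⟩, y, hy, rfl⟩ := e
    obtain ⟨hxn, hxK⟩ := hst.1 x hx
    have hM : ∀ q : ℕ × ℤ × ℕ × ℕ, ∃ c : F, c ≠ 0 ∧ (q.1 < T.n → ∀ t,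
        nW D F p.w * X D q.1 t * (nW D F p.w)⁻¹ = X D (rword T p.w q.1) (c * t)) := by
      intro q
      by_cases hq : q.1 < T.n
      · obtain ⟨c, hc, hm⟩ := h.Maps_nW (F := F) hw hq
        exact ⟨c, hc, fun _ => hm⟩
      · exact ⟨1, one_ne_zero, fun h' => absurd h' hq⟩
    choose cw hcw hmw using hM
    have hlt := h.terms_ok hs hxn
    have := h.extract hp hst (φ := rword T p.w) (fun q hq => h.rword_lt hw (hlt q hq)) hy
      cw (fun q _ => hcw q) fun u => by
        have hm : b * X D x u * b⁻¹ ∈ K := mul_mem (mul_mem hbK (hxK u)) (inv_mem hbK)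
        have e1 : X D p.s 1 * X D x u * X D p.s (-1) =
            (((x, (1 : ℤ), 0, 1) :: T.commTerms p.s x).map fun q =>
              X D q.1 ((q.2.1 : F) * u ^ q.2.2.2)).prod := by
          have e2 := h.X_conj hs hxn hne hneg (-1) u
          rw [_root_.neg_neg] at e2
          rw [e2, List.map_cons, List.prod_cons, Int.cast_one, one_mul, pow_one]
          simp only [one_pow, mul_one]
        have e3 : b * X D x u * b⁻¹ =
            MulAut.conj (nW D F p.w) (X D p.s 1 * X D x u * X D p.s (-1)) := by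
          rw [MulAut.conj_apply, hb, ← h.X_inv hs]; group
        rw [e3, e1, map_list_prod, List.map_map] at hm
        have e4 : ∀ q ∈ ((x, (1 : ℤ), 0, 1) :: T.commTerms p.s x),
            (⇑(MulAut.conj (nW D F p.w)) ∘ fun q => X D q.1 ((q.2.1 : F) * u ^ q.2.2.2)) q =
              X D (rword T p.w q.1) (cw q * (q.2.1 : F) * u ^ q.2.2.2) := fun q hq => by
          rw [Function.comp_apply, MulAut.conj_apply, hmw q (hlt q hq), mul_assoc]
        rw [List.map_congr_left e4] at hm
        exact hm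
    exact h.good_addFull hst this.1 this.2
  | bi y k =>
    simp only [Tab.genStep, Option.ite_none_right_eq_some, Option.map_eq_some_iff,
      Bool.and_eq_true, decide_eq_true_eq] at e
    obtain ⟨⟨⟨hyn, hx⟩, hne, hneg⟩, z, hz, rfl⟩ := e
    obtain ⟨hxn, hxK⟩ := hst.1 _ hx
    obtain ⟨c, hc, hmw⟩ := h.Maps_nW (F := F) hw hyn
    have := h.extract hp hst (φ := id) (h.terms_ok hs hyn) hz
      (fun q => (-1) ^ q.2.2.1) (fun q _ => pow_ne_zero _ (neg_ne_zero.2 one_ne_zero)) fun u => by
        have hm : b⁻¹ * X D (rword T p.w y) (c * u) * b ∈ K :=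
          mul_mem (mul_mem (inv_mem hbK) (hxK _)) hbK
        have e3 : b⁻¹ * X D (rword T p.w y) (c * u) * b =
            X D p.s (-1) * X D y u * X D p.s 1 := by
          rw [← hmw, hb, ← h.X_inv hs]; group
        rw [e3, h.X_conj hs hyn hne hneg 1 u] at hm
        convert hm using 1
        rw [List.map_cons, List.prod_cons]
        congr 1
        · simp
        · congr 1
          refine List.map_congr_left fun q _ => ?_
          rw [id_eq, mul_comm ((-1 : F) ^ q.2.2.1)]
    exact h.good_addFull hst this.1 this.2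

lemma genRun_good : ∀ (L : List GStep) {st st' : GState}, Good D T K st →
    T.genRun p L st = some st' → Good D T K st'
  | [], st, st', hst, e => by
    rw [Tab.genRun, Option.some.injEq] at e
    exact e ▸ hst
  | g :: L, st, st', hst, e => by
    rw [Tab.genRun] at e
    cases hg : T.genStep p st g with
    | none => rw [hg] at e; simp at e
    | some st₁ =>
      rw [hg] at e
      exact genRun_good L (h.genStep_good hb hbK hw hs hp hup hst hg) e

theorem group_le_of_chkGen {L : List GStep} {A S : ℕ} (hst : Good D T K (A, S))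
    (hc : T.chkGen p L A S = true) : D.group F ≤ K := by
  unfold Tab.chkGen at hc
  cases hr : T.genRun p L (A, S) with
  | none => rw [hr] at hc; simp at hc
  | some st =>
    rw [hr] at hc
    simp only [List.all_eq_true, List.mem_range, Bool.and_eq_true] at hc
    have hg := h.genRun_good hb hbK hw hs hp hup L hst hr
    refine h.group_le_of (fun i hi => (hg.1 _ (hc i hi).1).2) fun i hi => ?_
    unfold nS nU
    rw [h.simple_eq hi, h.neg_eq (h.simple_lt hi)]
    exact mul_mem (mul_mem ((hg.1 _ (hc i hi).1).2 _) ((hg.1 _ (hc i hi).2).2 _))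
      ((hg.1 _ (hc i hi).1).2 _)

end Cert

namespace Cert

variable (h : Cert D T C)
include h

lemma diagonal_pow [Fintype F] {g : GL D.Idx F} (hg : g ∈ D.diagonalSubgroup F) :
    g ^ (Fintype.card F - 1) = 1 := by
  obtain ⟨c, hc, e⟩ := h.mem_diagonalSubgroup_iff.1 hg
  refine Units.ext ?_
  rw [Units.val_pow_eq_pow_val, e, torus, Matrix.diagonal_pow, Units.val_one,
    Matrix.diagonal_eq_one]
  funext i
  rw [Pi.pow_apply]
  refine FiniteField.pow_card_sub_one_eq_one _ ?_
  cases i <;> simp [charOf_ne_zero hc]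

lemma X_pow {r : ℕ} (hr : r < T.n) (t : F) : ∀ k : ℕ, X D r t ^ k = X D r ((k : F) * t)
  | 0 => by simp [h.X_zero hr]
  | k + 1 => by
    rw [pow_succ, X_pow hr t k, h.X_add hr]
    push_cast
    ring_nf

lemma hU_conj {j x : ℕ} (hj : j < T.n) (hx : x < T.n) {c : F} (hc : c ≠ 0) (t : F) :
    hU D j c * X D x t * (hU D j c)⁻¹ = X D x (c ^ T.pairing j x * t) := by
  rw [mul_inv_eq_iff_eq_mul]
  refine Units.ext ?_
  rw [Units.val_mul, Units.val_mul, h.coe_hU, h.coe_X, h.coe_X, h.hMat_mul_x hj hc hx]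

lemma nW_conj_diagonal : ∀ {w : List ℕ}, WordOK T w → ∀ {g : GL D.Idx F},
    g ∈ D.diagonalSubgroup F → nW D F w * g * (nW D F w)⁻¹ ∈ D.diagonalSubgroup F
  | [], _, g, hg => by simpa [nW] using hg
  | i :: w, hw, g, hg => by
    have := h.nS_conj_diagonal (F := F) hw.head (nW_conj_diagonal hw.tail hg)
    rw [nW_cons]
    convert this using 1
    group

/-- Generation by `h_j(ω) x_r(1)` and `n_w x_s(1)` for at least three field elements. -/
theorem exists_two_gen [Fintype F] (hF : 3 ≤ Fintype.card F) {p : GenPar} {r : ℕ}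
    (h0 : T.chkStart p r = true) (hp : ParOK F p) {L : List GStep}
    (hc : T.chkGen p L (2 ^ p.s) (2 ^ r ||| 2 ^ p.s) = true) :
    ∃ a b : GL D.Idx F, a ∈ D.group F ∧ b ∈ D.group F ∧
      D.group F ≤ Subgroup.closure {a, b} := by
  classical
  simp only [Tab.chkStart, Bool.and_eq_true, decide_eq_true_eq, List.all_eq_true] at h0
  obtain ⟨⟨⟨hr, hs, hj⟩, hw⟩, hpr, hps, hpw⟩ := h0
  obtain ⟨g, hg⟩ := IsCyclic.exists_generator (α := Fˣ)
  set ω : F := (g : F)
  have hω : ω ≠ 0 := g.ne_zero
  have hω1 : ω ≠ 1 := by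
    intro e
    have h1 : g = 1 := Units.ext e
    have h2 : Fintype.card Fˣ ≤ 1 := Fintype.card_le_one_iff.2 fun x y => by
      obtain ⟨i, rfl⟩ := Subgroup.mem_zpowers_iff.1 (hg x)
      obtain ⟨i', rfl⟩ := Subgroup.mem_zpowers_iff.1 (hg y)
      rw [h1, _root_.one_zpow, _root_.one_zpow]
    rw [Fintype.card_units] at h2
    omega
  set hh := hU D p.j ω
  have hhD : hh ∈ D.diagonalSubgroup F := h.hU_mem hj hω
  set a := hh * X D r 1
  set b := nW D F p.w * X D p.s 1 with hb
  have hnG : ∀ w, WordOK T w → nW D F w ∈ D.group F := fun w hw => list_prod_mem fun x hx => by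
    obtain ⟨i, hi, rfl⟩ := List.mem_map.1 hx
    exact h.monomial_le_group (h.nS_mem_monomial (hw i hi))
  refine ⟨a, b, mul_mem (h.diagonal_le_group hhD) (h.X_mem_group hr 1),
    mul_mem (hnG _ hw) (h.X_mem_group hs 1), ?_⟩
  set K := Subgroup.closure {a, b}
  have haK : a ∈ K := Subgroup.subset_closure (Or.inl rfl)
  have hbK : b ∈ K := Subgroup.subset_closure (Or.inr rfl)
  have hcomm : Commute hh (X D r 1) := by
    have := h.hU_conj hj hr hω 1
    rw [hpr, zpow_zero, one_mul, mul_inv_eq_iff_eq_mul] at this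
    exact this
  have hhK : hh ∈ K := by
    have : a ^ Fintype.card F = hh := by
      rw [hcomm.mul_pow, h.X_pow hr, FiniteField.cast_card_eq_zero, zero_mul, h.X_zero hr, mul_one,
        show Fintype.card F = Fintype.card F - 1 + 1 by omega, pow_succ, h.diagonal_pow hhD,
        one_mul]
    exact this ▸ pow_mem haK _
  have hrK : X D r 1 ∈ K := by
    have := mul_mem (inv_mem hhK) haK
    rwa [inv_mul_cancel_left] at this
  have hup : ∀ x < T.n, (T.pairing p.j x).natAbs = 1 → ∀ c : F, c ≠ 0 → X D x c ∈ K →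
      ∀ t : F, X D x t ∈ K := by
    intro x hx hpx c hc hxK t
    rcases eq_or_ne t 0 with rfl | ht
    · rw [h.X_zero hx]; exact one_mem _
    obtain ⟨k, hk⟩ : ∃ k : ℕ, (ω ^ T.pairing p.j x) ^ k * c = t := by
      have hu : (Units.mk0 (t / c) (div_ne_zero ht hc)) ∈
          Subgroup.zpowers (g ^ T.pairing p.j x) := by
        rcases Int.natAbs_eq (T.pairing p.j x) with e | e <;> rw [e, hpx] <;> simp [hg]
      obtain ⟨k, hk⟩ := mem_powers_iff_mem_zpowers.2 hu
      refine ⟨k, ?_⟩
      have := congrArg (fun u : Fˣ => (u : F)) hk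
      simp only [Units.val_pow_eq_pow_val, Units.val_zpow_eq_zpow_val, Units.val_mk0] at this
      rw [this, div_mul_cancel₀ _ hc]
    subst hk
    clear ht
    induction k with
    | zero => simpa using hxK
    | succ k ih =>
      have := h.hU_conj hj hx hω ((ω ^ T.pairing p.j x) ^ k * c)
      rw [pow_succ', mul_assoc, ← this]
      exact mul_mem (mul_mem hhK ih) (inv_mem hhK)
  -- the root `w s`
  obtain ⟨cw, hcw, hmw⟩ := h.Maps_nW (F := F) hw hs
  set v := rword T p.w p.s
  have hv : v < T.n := h.rword_lt hw hs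
  set lam := ω ^ T.pairing p.j p.s
  set μ := ω ^ T.pairing p.j v
  have ne1 : ∀ z : ℤ, z.natAbs = 1 → ω ^ z ≠ 1 := fun z hz => by
    rcases Int.natAbs_eq z with e | e <;> rw [e, hz] <;> simp [hω1]
  have hd : cw * (lam⁻¹ - 1) ≠ 0 := mul_ne_zero hcw (sub_ne_zero.2 (inv_ne_one.2 (ne1 _ hps)))
  set h' := nW D F p.w * hh * (nW D F p.w)⁻¹
  have hh' : h' ∈ D.diagonalSubgroup F := h.nW_conj_diagonal hw hhD
  obtain ⟨c', hc', e'⟩ := h.mem_diagonalSubgroup_iff.1 hh'
  have hgk : b * hh * b⁻¹ = h' * X D v (cw * (lam⁻¹ - 1)) := by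
    have e1 : X D p.s 1 * hh * X D p.s (-1) = hh * X D p.s (lam⁻¹ - 1) := by
      have e2 := h.hU_conj hj hs hω lam⁻¹
      rw [mul_inv_cancel₀ (zpow_ne_zero _ hω), mul_inv_eq_iff_eq_mul] at e2
      rw [← e2, mul_assoc, h.X_add hs, sub_eq_add_neg]
    have e3 : b * hh * b⁻¹ =
        nW D F p.w * (X D p.s 1 * hh * X D p.s (-1)) * (nW D F p.w)⁻¹ := by
      rw [hb, ← h.X_inv hs]; group
    rw [e3, e1, ← hmw]
    simp only [h']
    group
  have hX0 : ∃ e : F, e ≠ 0 ∧ X D v e ∈ K := by
    refine ⟨charOf T c' v * ((μ - 1) * (cw * (lam⁻¹ - 1))), mul_ne_zero (charOf_ne_zero hc' v)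
      (mul_ne_zero (sub_ne_zero.2 (ne1 _ hpw)) hd), ?_⟩
    have hconj : ∀ t, h' * X D v t * h'⁻¹ = X D v (charOf T c' v * t) := fun t => by
      clear_value h'
      rw [mul_inv_eq_iff_eq_mul]
      refine Units.ext ?_
      rw [Units.val_mul, Units.val_mul, h.coe_X, h.coe_X, e', h.torus_mul_x (h.isChar_charOf hc') hv]
    have hgK : b * hh * b⁻¹ ∈ K := mul_mem (mul_mem hbK hhK) (inv_mem hbK)
    have := mul_mem (mul_mem (mul_mem hhK hgK) (inv_mem hhK)) (inv_mem hgK)
    rw [hgk] at this
    convert this using 1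
    rw [← mul_assoc hh h', h.diagonal_comm hhD hh', _root_.mul_inv_rev, h.X_inv hv,
      show h' * hh * X D v (cw * (lam⁻¹ - 1)) * hh⁻¹ * (X D v (-(cw * (lam⁻¹ - 1))) * h'⁻¹) =
        h' * (hh * X D v (cw * (lam⁻¹ - 1)) * hh⁻¹ * X D v (-(cw * (lam⁻¹ - 1)))) * h'⁻¹ by group,
      h.hU_conj hj hv hω, h.X_add hv, hconj]
    congr 1
    ring
  obtain ⟨e0, he0, he0K⟩ := hX0
  have hvK := hup v hv hpw e0 he0 he0K
  have hsK : ∀ t : F, X D p.s t ∈ K := fun t => by
    have := mul_mem (mul_mem (inv_mem hbK) (hvK (cw * t))) hbK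
    rw [← hmw, hb, show (nW D F p.w * X D p.s 1)⁻¹ * (nW D F p.w * X D p.s t * (nW D F p.w)⁻¹) *
      (nW D F p.w * X D p.s 1) = (X D p.s 1)⁻¹ * X D p.s t * X D p.s 1 by group, h.X_inv hs,
      h.X_add hs, h.X_add hs] at this
    simpa using this
  refine h.group_le_of_chkGen hb hbK hw hs hp hup ⟨fun x hx => ?_, fun x hx => ?_⟩ hc
  · rw [Nat.testBit_two_pow, decide_eq_true_eq] at hx
    exact hx ▸ ⟨hs, hsK⟩
  · simp only [Nat.testBit_or, Bool.or_eq_true, Nat.testBit_two_pow, decide_eq_true_eq] at hx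
    rcases hx with rfl | rfl
    exacts [⟨hr, 1, one_ne_zero, hrK⟩, ⟨hs, 1, one_ne_zero, hsK 1⟩]

/-- Generation by `x_r(1)` and `n_w x_s(1)` over the field with two elements. -/
theorem exists_two_gen_two [Fintype F] (hF : Fintype.card F = 2) {p : GenPar} {r : ℕ}
    (hr : r < T.n) (hs : p.s < T.n) (hw : WordOK T p.w) (hp : ParOK F p) {L : List GStep}
    (hc : T.chkGen p L (2 ^ r) (2 ^ r) = true) :
    ∃ a b : GL D.Idx F, a ∈ D.group F ∧ b ∈ D.group F ∧
      D.group F ≤ Subgroup.closure {a, b} := by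
  have h01 : ∀ x : F, x ≠ 0 → x = 1 := fun x hx => by
    have := FiniteField.pow_card_sub_one_eq_one x hx
    rwa [hF, show (2 : ℕ) - 1 = 1 from rfl, pow_one] at this
  refine ⟨X D r 1, nW D F p.w * X D p.s 1, h.X_mem_group hr 1, mul_mem (list_prod_mem fun x hx => ?_)
    (h.X_mem_group hs 1), ?_⟩
  · obtain ⟨i, hi, rfl⟩ := List.mem_map.1 hx
    exact h.monomial_le_group (h.nS_mem_monomial (hw i hi))
  set K := Subgroup.closure {X D r (1 : F), nW D F p.w * X D p.s 1}
  have hall : ∀ {x : ℕ}, x < T.n → ∀ c : F, c ≠ 0 → X D x c ∈ K → ∀ t : F, X D x t ∈ K := by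
    intro x hx c hc hxK t
    rcases eq_or_ne t 0 with rfl | ht
    · rw [h.X_zero hx]; exact one_mem _
    · rwa [h01 t ht, ← h01 c hc]
  have hrK : X D r (1 : F) ∈ K := Subgroup.subset_closure (Or.inl rfl)
  refine h.group_le_of_chkGen (b := nW D F p.w * X D p.s 1) rfl (Subgroup.subset_closure (Or.inr rfl))
    hw hs hp (fun x hx _ => hall hx) ⟨fun x hx => ?_, fun x hx => ?_⟩ hc
  · rw [Nat.testBit_two_pow, decide_eq_true_eq] at hx
    exact hx ▸ ⟨hr, hall hr 1 one_ne_zero hrK⟩
  · rw [Nat.testBit_two_pow, decide_eq_true_eq] at hx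
    exact hx ▸ ⟨hr, 1, one_ne_zero, hrK⟩

end Cert

end CfsgLib.Chev
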