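import Cfsg.Agent.Lib.Chev.TwistGroup
import Cfsg.Agent.Lib.Chev.TwoGenCert

/-!
Root elements of a twisted group with commuting orbits, and what two elements `h x_r(1)`, `n x_s(1)`
generate: one nonzero element along the two orbits of `n`, and all of them once a character of `h`
generates the field of parameters.
-/

set_option autoImplicit false
set_option linter.unusedSectionVars false

namespace CfsgLib.Chev

open Cfsg.Lie Matrix

section Ring

/-- An element of large multiplicative order generates a finite field as a ring. -/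
theorem closure_singleton_eq_top' {K : Type*} [Field K] [Fintype K] {μ : K} (hμ : μ ≠ 0)
    (hbig : ∀ r k : ℕ, 2 ≤ r → 2 ≤ k → r ^ k = Fintype.card K → μ ^ (r - 1) = 1 → False) :
    Subring.closure {μ} = ⊤ := by
  classical
  set R := Subring.closure ({μ} : Set K)
  letI : Field R := (Finite.isField_of_domain R).toField
  letI : Algebra R K := R.subtype.toAlgebra
  have hc : Fintype.card K = Fintype.card R ^ Module.finrank R K := Module.card_eq_pow_finrank
  by_contra hne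
  have h1 : Module.finrank R K ≠ 1 := by
    intro e
    rw [e, pow_one] at hc
    refine hne (eq_top_iff.2 fun x _ => ?_)
    obtain ⟨y, hy⟩ := ((Fintype.bijective_iff_injective_and_card (Subtype.val : R → K)).2
      ⟨Subtype.val_injective, hc.symm⟩).2 x
    exact hy ▸ y.2
  have h0 : Module.finrank R K ≠ 0 := fun e => by
    rw [e, pow_zero] at hc
    exact absurd hc (Fintype.one_lt_card (α := K)).ne'
  refine hbig (Fintype.card R) (Module.finrank R K) Fintype.one_lt_card (by omega) hc.symm ?_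
  have hμR : (⟨μ, Subring.subset_closure rfl⟩ : R) ≠ 0 := fun e => hμ (congrArg Subtype.val e)
  simpa using congrArg Subtype.val (FiniteField.pow_card_sub_one_eq_one _ hμR)

/-- An element of large multiplicative order generates a finite field as a ring. -/
theorem closure_singleton_eq_top {K : Type*} [Field K] [Fintype K] {μ : K} (hμ : μ ≠ 0)
    (hbig : ∀ r : ℕ, 2 ≤ r → r ^ 2 ≤ Fintype.card K → μ ^ (r - 1) = 1 → False) :
    Subring.closure {μ} = ⊤ :=
  closure_singleton_eq_top' hμ fun r _ hr hk hc =>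
    hbig r hr (hc ▸ Nat.pow_le_pow_right (by omega) hk)

/-- An additive subgroup stable under a ring generator contains the ideal it generates. -/
theorem mem_of_closure_top {K : Type*} [Field K] {μ : K} (hμ : Subring.closure {μ} = ⊤)
    {S : AddSubgroup K} (hS : ∀ t ∈ S, μ * t ∈ S) {c : K} (hc : c ∈ S) (hc0 : c ≠ 0) (t : K) :
    t ∈ S := by
  have key : ∀ z ∈ Subring.closure ({μ} : Set K), ∀ u ∈ S, z * u ∈ S := by
    intro z hz
    induction hz using Subring.closure_induction with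
    | mem x hx => rw [Set.mem_singleton_iff.1 hx]; exact hS
    | zero => intro u _; rw [zero_mul]; exact S.zero_mem
    | one => intro u hu; rwa [one_mul]
    | add x y _ _ hx hy => intro u hu; rw [add_mul]; exact S.add_mem (hx u hu) (hy u hu)
    | neg x _ hx => intro u hu; rw [neg_mul]; exact S.neg_mem (hx u hu)
    | mul x y _ _ hx hy => intro u hu; rw [mul_assoc]; exact hx _ (hy u hu)
  have := key (t / c) (hμ ▸ Subring.mem_top _) c hc
  rwa [div_mul_cancel₀ _ hc0] at this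

end Ring

namespace Endo

variable {D : ChevalleyDatum} {T : Tab} {C : Tab.Cover} {h : Cert D T C} {F : Type*} [Field F]
  (E : Endo h F)

/-- The product over the orbit of `x`, of length `m`. -/
noncomputable def orbElt (m x : ℕ) (t : F) : GL D.Idx F :=
  ((List.range m).map fun k => X D (E.ρ^[k] x) (E.τn k x t)).prod

/-- The orbit of `x` has length `m` and commuting root subgroups. -/
structure OrbOK (m x : ℕ) : Prop where
  lt : x < T.n
  cyc : E.ρ^[m] x = x
  comm : ∀ i < m, ∀ j < m, i ≠ j → ∀ t u : F, Commute (X D (E.ρ^[i] x) t) (X D (E.ρ^[j] x) u)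

/-- Some nonzero element of the orbit lies in `Kc`. -/
def Some' (Kc : Subgroup (GL D.Idx F)) (m x : ℕ) : Prop := ∃ c : F, c ≠ 0 ∧ E.orbElt m x c ∈ Kc

/-- All fixed elements of the orbit lie in `Kc`. -/
def All (Kc : Subgroup (GL D.Idx F)) (m x : ℕ) : Prop :=
  ∀ t : F, E.τn m x t = t → E.orbElt m x t ∈ Kc

lemma orbElt_succ (m x : ℕ) (t : F) :
    E.orbElt (m + 1) x t = E.orbElt m x t * X D (E.ρ^[m] x) (E.τn m x t) := by
  simp [orbElt, List.range_succ]

lemma orbElt_one (x : ℕ) (t : F) : E.orbElt 1 x t = X D x t := by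
  simp [orbElt, Endo.τn]

lemma orbElt_mem_group {x : ℕ} (hx : x < T.n) : ∀ (m : ℕ) (t : F), E.orbElt m x t ∈ D.group F
  | 0, t => by simp [orbElt]
  | m + 1, t => by
    rw [orbElt_succ]
    exact mul_mem (orbElt_mem_group hx m t) (h.X_mem_group (E.iter_lt hx m) _)

lemma τn_add {x : ℕ} (hx : x < T.n) : ∀ (k : ℕ) (t u : F),
    E.τn k x (t + u) = E.τn k x t + E.τn k x u
  | 0, t, u => rfl
  | k + 1, t, u => by
    show E.τ _ (E.τn k x (t + u)) = E.τ _ (E.τn k x t) + E.τ _ (E.τn k x u)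
    rw [τn_add hx k, E.τ_add (E.iter_lt hx k)]

lemma orbElt_comm {m x : ℕ} (ok : E.OrbOK m x) {i : ℕ} (hi : i < m) :
    ∀ k ≤ i, ∀ t u : F, Commute (E.orbElt k x t) (X D (E.ρ^[i] x) u)
  | 0, _, t, u => by simp [orbElt]
  | k + 1, hk, t, u => by
    rw [orbElt_succ]
    exact (orbElt_comm ok hi k (by omega) t u).mul_left
      (ok.comm k (by omega) i hi (by omega) _ _)

lemma orbElt_add' {m x : ℕ} (ok : E.OrbOK m x) : ∀ k ≤ m, ∀ t u : F,
    E.orbElt k x t * E.orbElt k x u = E.orbElt k x (t + u)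
  | 0, _, t, u => by simp [orbElt]
  | k + 1, hk, t, u => by
    rw [orbElt_succ, orbElt_succ, orbElt_succ, E.τn_add ok.lt, ← h.X_add (E.iter_lt ok.lt k),
      ← orbElt_add' ok k (by omega) t u]
    have hc := (E.orbElt_comm ok (i := k) (by omega) k le_rfl u (E.τn k x t)).eq
    simp only [mul_assoc]
    rw [← mul_assoc (X D (E.ρ^[k] x) (E.τn k x t)), ← hc, mul_assoc]

lemma orbElt_add {m x : ℕ} (ok : E.OrbOK m x) (t u : F) :
    E.orbElt m x t * E.orbElt m x u = E.orbElt m x (t + u) := E.orbElt_add' ok m le_rfl t u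

lemma orbElt_zero {m x : ℕ} (ok : E.OrbOK m x) : E.orbElt m x 0 = 1 := by
  have := E.orbElt_add ok 0 0
  rwa [add_zero, mul_eq_left] at this

lemma orbElt_inv {m x : ℕ} (ok : E.OrbOK m x) (t : F) :
    (E.orbElt m x t)⁻¹ = E.orbElt m x (-t) :=
  inv_eq_of_mul_eq_one_right (by rw [E.orbElt_add ok, add_neg_cancel, E.orbElt_zero ok])

lemma orbElt_pow {m x : ℕ} (ok : E.OrbOK m x) (t : F) :
    ∀ k : ℕ, E.orbElt m x t ^ k = E.orbElt m x ((k : F) * t)
  | 0 => by simp [E.orbElt_zero ok]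
  | k + 1 => by
    rw [pow_succ, orbElt_pow ok t k, E.orbElt_add ok]
    push_cast
    ring_nf

lemma act_orbElt {x : ℕ} (hx : x < T.n) : ∀ (k : ℕ) (t : F),
    X D x t * E.act (E.orbElt k x t) = E.orbElt (k + 1) x t
  | 0, t => by
    simp [orbElt, E.act_one, Endo.τn]
  | k + 1, t => by
    conv_lhs => rw [orbElt_succ]
    rw [E.act_mul (E.orbElt_mem_group hx k t) (h.X_mem_group (E.iter_lt hx k) _),
      E.act_X (E.iter_lt hx k), ← mul_assoc, act_orbElt hx k t, orbElt_succ E (k + 1),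
      Function.iterate_succ_apply']
    rfl

/-- The orbit element of an admissible parameter is fixed. -/
theorem orbElt_mem_fix {m x : ℕ} (ok : E.OrbOK m x) {t : F} (ht : E.τn m x t = t) :
    E.orbElt m x t ∈ E.fix := by
  refine E.mem_fix.2 ⟨E.orbElt_mem_group ok.lt m t, ?_⟩
  have h1 := E.act_orbElt ok.lt m t
  rw [orbElt_succ, ok.cyc, ht] at h1
  have hc : Commute (E.orbElt m x t) (X D x t) := by
    rcases Nat.eq_zero_or_pos m with rfl | hm
    · simp [orbElt]
    have key : ∀ k ≤ m, Commute (E.orbElt k x t) (X D x t) := by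
      intro k
      induction k with
      | zero => intro _; simp [orbElt]
      | succ k ih =>
        intro hk
        rw [orbElt_succ]
        refine (ih (by omega)).mul_left ?_
        rcases Nat.eq_zero_or_pos k with rfl | hk0
        · exact Commute.refl _
        · exact ok.comm k (by omega) 0 hm (by omega) _ _
    exact key m le_rfl
  rw [hc.eq] at h1
  exact mul_left_cancel h1

lemma step_conj {g : GL D.Idx F} (hg : g ∈ E.fix) {x y : ℕ} (hx : x < T.n) (hy : y < T.n) {c : F}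
    (hc : ∀ t, g * X D x t * g⁻¹ = X D y (c * t)) : ∀ (k : ℕ) (t : F),
    g * X D (E.ρ^[k] x) (E.τn k x t) * g⁻¹ = X D (E.ρ^[k] y) (E.τn k y (c * t))
  | 0, t => hc t
  | k + 1, t => by
    have hgG := E.fix_le_group hg
    have hlt := E.iter_lt hx k
    have h1 := congrArg E.act (step_conj hg hx hy hc k t)
    rw [E.act_mul (mul_mem hgG (h.X_mem_group hlt _)) (inv_mem hgG),
      E.act_mul hgG (h.X_mem_group hlt _), E.act_inv hgG, E.act_of_fix hg, E.act_X hlt,
      E.act_X (E.iter_lt hy k)] at h1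
    rw [Function.iterate_succ_apply', Function.iterate_succ_apply']
    exact h1

/-- Fixed elements conjugate orbit elements to orbit elements. -/
theorem orbElt_conj {g : GL D.Idx F} (hg : g ∈ E.fix) {x y : ℕ} (hx : x < T.n) (hy : y < T.n)
    {c : F} (hc : ∀ t, g * X D x t * g⁻¹ = X D y (c * t)) : ∀ (m : ℕ) (t : F),
    g * E.orbElt m x t * g⁻¹ = E.orbElt m y (c * t)
  | 0, t => by simp [orbElt]
  | m + 1, t => by
    rw [orbElt_succ, orbElt_succ, ← orbElt_conj hg hx hy hc m, ← E.step_conj hg hx hy hc m]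
    group

lemma adm_conj {g : GL D.Idx F} (hg : g ∈ E.fix) {x y : ℕ} (hx : x < T.n) (hy : y < T.n) {c : F}
    (hc : ∀ t, g * X D x t * g⁻¹ = X D y (c * t)) {m : ℕ} (hxm : E.ρ^[m] x = x)
    (hym : E.ρ^[m] y = y) (t : F) : E.τn m y (c * t) = c * E.τn m x t := by
  have h1 := E.step_conj hg hx hy hc m t
  rw [hxm, hym, hc] at h1
  exact (h.X_inj hy h1).symm

variable {E} {Kc : Subgroup (GL D.Idx F)}

lemma Some'.conj {g : GL D.Idx F} (hg : g ∈ E.fix) (hgK : g ∈ Kc) {m x y : ℕ} (hx : x < T.n)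
    (hy : y < T.n) (hM : Maps D g x y) (hs : E.Some' Kc m x) : E.Some' Kc m y := by
  obtain ⟨c, hc, hconj⟩ := hM
  obtain ⟨d, hd, hdK⟩ := hs
  refine ⟨c * d, mul_ne_zero hc hd, ?_⟩
  rw [← E.orbElt_conj hg hx hy hconj]
  exact mul_mem (mul_mem hgK hdK) (inv_mem hgK)

lemma All.conj {g : GL D.Idx F} (hg : g ∈ E.fix) (hgK : g ∈ Kc) {m x y : ℕ} (hx : E.OrbOK m x)
    (hy : E.OrbOK m y) (hM : Maps D g x y) (hs : E.All Kc m x) : E.All Kc m y := by
  obtain ⟨c, hc, hconj⟩ := hM
  intro t ht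
  have e : c * (t / c) = t := mul_div_cancel₀ t hc
  have h1 : E.τn m x (t / c) = t / c := by
    refine mul_left_cancel₀ hc ?_
    rw [← E.adm_conj hg hx.lt hy.lt hconj hx.cyc hy.cyc, e, ht]
  rw [← e, ← E.orbElt_conj hg hx.lt hy.lt hconj]
  exact mul_mem (mul_mem hgK (hs _ h1)) (inv_mem hgK)

/-- The parameters of an orbit with elements in `Kc`. -/
def parGroup (Kc : Subgroup (GL D.Idx F)) {m x : ℕ} (ok : E.OrbOK m x) : AddSubgroup F where
  carrier := {t | E.orbElt m x t ∈ Kc}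
  zero_mem' := by simp [E.orbElt_zero ok]
  add_mem' {a b} ha hb := by
    show E.orbElt m x (a + b) ∈ Kc
    rw [← E.orbElt_add ok]; exact mul_mem ha hb
  neg_mem' {a} ha := by
    show E.orbElt m x (-a) ∈ Kc
    rw [← E.orbElt_inv ok]; exact inv_mem ha

lemma parGroup_stable {hh : GL D.Idx F} (hf : hh ∈ E.fix) (hK : hh ∈ Kc) {m x : ℕ}
    (ok : E.OrbOK m x) {μ : F} (hμ : ∀ t, hh * X D x t * hh⁻¹ = X D x (μ * t)) :
    ∀ t ∈ parGroup Kc ok, μ * t ∈ parGroup Kc ok := fun t ht => by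
  show E.orbElt m x (μ * t) ∈ Kc
  rw [← E.orbElt_conj hf ok.lt ok.lt hμ]
  exact mul_mem (mul_mem hK ht) (inv_mem hK)

/-- One element gives all when the character generates the field as a ring. -/
theorem Some'.all {hh : GL D.Idx F} (hf : hh ∈ E.fix) (hK : hh ∈ Kc) {m x : ℕ} (ok : E.OrbOK m x)
    {μ : F} (hμ : ∀ t, hh * X D x t * hh⁻¹ = X D x (μ * t)) (hgen : Subring.closure {μ} = ⊤)
    (hs : E.Some' Kc m x) : E.All Kc m x := by
  obtain ⟨c, hc, hcK⟩ := hs
  exact fun t _ => mem_of_closure_top hgen (parGroup_stable hf hK ok hμ) hcK hc t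

/-- One element gives all when the character generates the units of the parameters. -/
theorem Some'.all_units {hh : GL D.Idx F} (hf : hh ∈ E.fix) (hK : hh ∈ Kc) {m x : ℕ}
    (ok : E.OrbOK m x) {μ : F} (hμ : ∀ t, hh * X D x t * hh⁻¹ = X D x (μ * t))
    (hgen : ∀ t c : F, t ≠ 0 → c ≠ 0 → E.τn m x t = t → E.τn m x c = c → ∃ k : ℕ, μ ^ k * c = t)
    {c : F} (hc : c ≠ 0) (hcA : E.τn m x c = c) (hcK : E.orbElt m x c ∈ Kc) : E.All Kc m x := by
  intro t ht
  rcases eq_or_ne t 0 with rfl | ht0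
  · rw [E.orbElt_zero ok]; exact one_mem _
  obtain ⟨k, hk⟩ := hgen t c ht0 hc ht hcA
  subst hk
  clear ht ht0
  induction k with
  | zero => rwa [pow_zero, one_mul]
  | succ k ih =>
    rw [pow_succ', mul_assoc]
    exact parGroup_stable hf hK ok hμ _ ih

variable (E)

lemma orbElt_commute {hh : GL D.Idx F} (hf : hh ∈ E.fix) {m x : ℕ} (ok : E.OrbOK m x)
    (hμ : ∀ t, hh * X D x t * hh⁻¹ = X D x t) (t : F) : Commute hh (E.orbElt m x t) := by
  have e := E.orbElt_conj hf ok.lt ok.lt (c := (1 : F))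
    (fun u => by rw [one_mul]; exact hμ u) m t
  rw [one_mul, mul_inv_eq_iff_eq_mul] at e
  exact e

lemma orbElt_pow_card [Fintype F] {m x : ℕ} (ok : E.OrbOK m x) (t : F) :
    E.orbElt m x t ^ Fintype.card F = 1 := by
  rw [E.orbElt_pow ok, FiniteField.cast_card_eq_zero, zero_mul, E.orbElt_zero ok]

/-- The data of a pair of generators `a = h x`, `b = n x_s(1)`, `x` commuting with `h` of `p`-power
order. -/
structure GenData [Fintype F] (hh n x : GL D.Idx F) (w : List ℕ) (m₂ s : ℕ) (lam μ : F) : Prop where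
  hh_fix : hh ∈ E.fix
  hh_diag : hh ∈ D.diagonalSubgroup F
  n_fix : n ∈ E.fix
  n_mono : n ∈ D.monomialSubgroup F
  wordOK : WordOK T w
  n_maps : ∀ i < T.n, Maps D n i (rword T w i)
  x_fix : x ∈ E.fix
  x_comm : Commute hh x
  x_pow : x ^ Fintype.card F = 1
  s_ok : E.OrbOK m₂ s
  s_ok' : E.OrbOK m₂ (rword T w s)
  s_adm : E.τn m₂ s 1 = 1
  s_char : ∀ t, hh * X D s t * hh⁻¹ = X D s (lam * t)
  ws_char : ∀ t, hh * X D (rword T w s) t * hh⁻¹ = X D (rword T w s) (μ * t)
  lam_ne : lam ≠ 1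
  lam_ne0 : lam ≠ 0
  lam_gen : Subring.closure {lam} = ⊤
  μ_ne : μ ≠ 1

variable {E}

/-- What the two generators generate. -/
theorem GenData.result [Fintype F] {hh n x : GL D.Idx F} {w : List ℕ} {m₂ s : ℕ} {lam μ : F}
    (d : E.GenData hh n x w m₂ s lam μ) :
    ∃ a b : GL D.Idx F, a ∈ E.fix ∧ b ∈ E.fix ∧
      hh ∈ Subgroup.closure {a, b} ∧ n ∈ Subgroup.closure {a, b} ∧
      x ∈ Subgroup.closure {a, b} ∧ E.All (Subgroup.closure {a, b}) m₂ s := by
  set y := E.orbElt m₂ s (1 : F) with hydef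
  set a := hh * x
  set b := n * y with hb
  have hyF : y ∈ E.fix := E.orbElt_mem_fix d.s_ok d.s_adm
  refine ⟨a, b, mul_mem d.hh_fix d.x_fix, mul_mem d.n_fix hyF, ?_⟩
  set K := Subgroup.closure {a, b}
  have haK : a ∈ K := Subgroup.subset_closure (Or.inl rfl)
  have hbK : b ∈ K := Subgroup.subset_closure (Or.inr rfl)
  have hhK : hh ∈ K := by
    have hpos := Fintype.card_pos (α := F)
    have : a ^ Fintype.card F = hh := by
      rw [d.x_comm.mul_pow, d.x_pow, mul_one,
        show Fintype.card F = Fintype.card F - 1 + 1 by omega,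
        pow_succ, h.diagonal_pow d.hh_diag, one_mul]
    exact this ▸ pow_mem haK _
  have hxK : x ∈ K := by
    have := mul_mem (inv_mem hhK) haK
    rwa [inv_mul_cancel_left] at this
  have hws := h.rword_lt d.wordOK d.s_ok.lt
  obtain ⟨cw, hcw, hmw⟩ := d.n_maps s d.s_ok.lt
  set v := rword T w s
  set h' := n * hh * n⁻¹ with hh'def
  have hh' : h' ∈ D.diagonalSubgroup F :=
    (Subgroup.mem_normalizer_iff.1 (h.monomial_le_normalizer_diagonal d.n_mono) _).1 d.hh_diag
  have h'fix : h' ∈ E.fix := mul_mem (mul_mem d.n_fix d.hh_fix) (inv_mem d.n_fix)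
  set d0 := cw * (lam⁻¹ - 1) with hd0
  have hd : d0 ≠ 0 := mul_ne_zero hcw (sub_ne_zero.2 (inv_ne_one.2 d.lam_ne))
  have hgk : b * hh * b⁻¹ = h' * E.orbElt m₂ v d0 := by
    have e1 : y * hh * E.orbElt m₂ s (-1) = hh * E.orbElt m₂ s (lam⁻¹ - 1) := by
      have e2 := E.orbElt_conj d.hh_fix d.s_ok.lt d.s_ok.lt d.s_char m₂ lam⁻¹
      rw [mul_inv_cancel₀ d.lam_ne0, mul_inv_eq_iff_eq_mul] at e2
      rw [hydef, ← e2, mul_assoc, E.orbElt_add d.s_ok, sub_eq_add_neg]
    have e3 : b * hh * b⁻¹ = n * (y * hh * E.orbElt m₂ s (-1)) * n⁻¹ := by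
      rw [hb, hydef, ← E.orbElt_inv d.s_ok]; group
    rw [e3, e1, hd0, ← E.orbElt_conj d.n_fix d.s_ok.lt hws hmw, hh'def]
    group
  have hconj : ∀ t, h' * X D v t * h'⁻¹ = X D v (lam * t) := fun t => by
    have e := congrArg (fun g => n * g * n⁻¹) (d.s_char (t / cw))
    rw [hmw, mul_left_comm, mul_div_cancel₀ _ hcw] at e
    rw [← e, ← mul_div_cancel₀ t hcw, ← hmw, hh'def, mul_div_cancel_left₀ _ hcw]
    group
  have hs0 : E.Some' K m₂ v := by
    refine ⟨lam * ((μ - 1) * d0), mul_ne_zero d.lam_ne0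
      (mul_ne_zero (sub_ne_zero.2 d.μ_ne) hd), ?_⟩
    have hgK : b * hh * b⁻¹ ∈ K := mul_mem (mul_mem hbK hhK) (inv_mem hbK)
    have := mul_mem (mul_mem (mul_mem hhK hgK) (inv_mem hhK)) (inv_mem hgK)
    rw [hgk] at this
    convert this using 1
    rw [← mul_assoc hh h', h.diagonal_comm d.hh_diag hh', _root_.mul_inv_rev, E.orbElt_inv d.s_ok',
      show h' * hh * E.orbElt m₂ v d0 * hh⁻¹ * (E.orbElt m₂ v (-d0) * h'⁻¹) =
        h' * (hh * E.orbElt m₂ v d0 * hh⁻¹ * E.orbElt m₂ v (-d0)) * h'⁻¹ by group,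
      E.orbElt_conj d.hh_fix hws hws d.ws_char, E.orbElt_add d.s_ok',
      E.orbElt_conj h'fix hws hws hconj]
    congr 1
    ring
  obtain ⟨e0, he0, he0K⟩ := hs0
  have hs1 : E.Some' K m₂ s := by
    refine ⟨e0 / cw, div_ne_zero he0 hcw, ?_⟩
    have := mul_mem (mul_mem (inv_mem hbK) he0K) hbK
    rw [show e0 = cw * (e0 / cw) from (mul_div_cancel₀ _ hcw).symm,
      ← E.orbElt_conj d.n_fix d.s_ok.lt hws hmw, hb,
      show (n * y)⁻¹ * (n * E.orbElt m₂ s (e0 / cw) * n⁻¹) * (n * y) =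
        y⁻¹ * E.orbElt m₂ s (e0 / cw) * y by group, hydef, E.orbElt_inv d.s_ok,
      E.orbElt_add d.s_ok, E.orbElt_add d.s_ok] at this
    rwa [add_comm (-1 : F), neg_add_cancel_right] at this
  have hall : E.All K m₂ s := Some'.all d.hh_fix hhK d.s_ok d.s_char d.lam_gen hs1
  refine ⟨hhK, ?_, hxK, hall⟩
  have := mul_mem hbK (inv_mem (hall 1 d.s_adm))
  rwa [hb, hydef, mul_inv_cancel_right] at this

lemma All.iterate {n : GL D.Idx F} (hnf : n ∈ E.fix) (hnK : n ∈ Kc) {w : List ℕ}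
    (hM : ∀ x < T.n, Maps D n x (rword T w x)) {m x : ℕ} (hx : E.All Kc m x) :
    ∀ k, (∀ j ≤ k, E.OrbOK m ((rword T w)^[j] x)) → E.All Kc m ((rword T w)^[k] x)
  | 0, _ => hx
  | k + 1, hok => by
    rw [Function.iterate_succ_apply']
    exact All.conj hnf hnK (hok k (by omega))
      (by simpa only [Function.iterate_succ_apply'] using hok (k + 1) le_rfl)
      (hM _ (hok k (by omega)).lt) (All.iterate hnf hnK hM hx k fun j hj => hok j (by omega))

lemma Some'.iterate {n : GL D.Idx F} (hnf : n ∈ E.fix) (hnK : n ∈ Kc) {w : List ℕ}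
    (hw : WordOK T w) (hM : ∀ x < T.n, Maps D n x (rword T w x)) {m x : ℕ} (hxn : x < T.n)
    (hx : E.Some' Kc m x) : ∀ k, (rword T w)^[k] x < T.n ∧ E.Some' Kc m ((rword T w)^[k] x)
  | 0 => ⟨hxn, hx⟩
  | k + 1 => by
    obtain ⟨hlt, hk⟩ := Some'.iterate hnf hnK hw hM hxn hx k
    rw [Function.iterate_succ_apply']
    exact ⟨h.rword_lt hw hlt, Some'.conj hnf hnK hlt (h.rword_lt hw hlt) (hM _ hlt) hk⟩

lemma orbOK_one {x : ℕ} (hx : x < T.n) (hc : E.ρ x = x) : E.OrbOK 1 x where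
  lt := hx
  cyc := hc
  comm i hi j hj hne := absurd (show i = j by omega) hne

lemma orbOK_two {x : ℕ} (hx : x < T.n) (hc : E.ρ (E.ρ x) = x)
    (hcm : ∀ t u : F, Commute (X D x t) (X D (E.ρ x) u)) : E.OrbOK 2 x where
  lt := hx
  cyc := hc
  comm i hi j hj hne t u := by
    interval_cases i <;> interval_cases j <;>
      first | exact absurd rfl hne | exact hcm t u | exact (hcm u t).symm

lemma orbOK_three {x : ℕ} (hx : x < T.n) (hc : E.ρ (E.ρ (E.ρ x)) = x)
    (h01 : ∀ t u : F, Commute (X D x t) (X D (E.ρ x) u))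
    (h02 : ∀ t u : F, Commute (X D x t) (X D (E.ρ (E.ρ x)) u))
    (h12 : ∀ t u : F, Commute (X D (E.ρ x) t) (X D (E.ρ (E.ρ x)) u)) : E.OrbOK 3 x where
  lt := hx
  cyc := hc
  comm i hi j hj hne t u := by
    interval_cases i <;> interval_cases j <;>
      first | exact absurd rfl hne | exact h01 t u | exact (h01 u t).symm | exact h02 t u |
        exact (h02 u t).symm | exact h12 t u | exact (h12 u t).symm

lemma adm_of_mem_fix {x : ℕ} (hx : x < T.n) (hc : E.ρ x = x) {c : F}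
    (hm : E.orbElt 1 x c ∈ E.fix) : E.τn 1 x c = c := by
  have e := E.act_of_fix hm
  rw [orbElt_one, E.act_X hx, hc] at e
  exact h.X_inj hx e

end Endo

/-- A unit of a subfield is a power of the norm of a generator. -/
theorem exists_pow_norm {K : Type*} [Field K] [Fintype K] {q N : ℕ} (hq : 2 ≤ q)
    (hQ : Fintype.card K - 1 = (q - 1) * N) {g : Kˣ} (hg : ∀ x, x ∈ Subgroup.zpowers g) {μ : Kˣ}
    (hμ : μ = g ^ N ∨ μ = (g ^ N)⁻¹) {t c : K} (ht : t ≠ 0) (hc : c ≠ 0) (htq : t ^ q = t)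
    (hcq : c ^ q = c) : ∃ k : ℕ, (μ : K) ^ k * c = t := by
  classical
  set u : Kˣ := Units.mk0 (t / c) (div_ne_zero ht hc)
  have hu : u ^ (q - 1) = 1 := by
    refine mul_right_cancel (b := u) ?_
    rw [one_mul, ← pow_succ, Nat.sub_add_cancel (by omega : 1 ≤ q)]
    exact Units.ext (by simp [u, div_pow, htq, hcq])
  obtain ⟨i, hi⟩ := Subgroup.mem_zpowers_iff.1 (hg u)
  have hord : orderOf g = (q - 1) * N := by
    rw [orderOf_eq_card_of_forall_mem_zpowers hg, Nat.card_units, Nat.card_eq_fintype_card, hQ]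
  obtain ⟨j, hj⟩ : (N : ℤ) ∣ i := by
    have h1 : g ^ (i * ((q - 1 : ℕ) : ℤ)) = 1 := by rw [_root_.zpow_mul, hi, zpow_natCast, hu]
    rw [← orderOf_dvd_iff_zpow_eq_one, hord, Nat.cast_mul, mul_comm i] at h1
    exact Int.dvd_of_mul_dvd_mul_left (by omega) h1
  have hmem : u ∈ Subgroup.zpowers μ := by
    rcases hμ with rfl | rfl
    · exact ⟨j, by rw [← hi, hj, _root_.zpow_mul, zpow_natCast]⟩
    · exact ⟨-j, by rw [← hi, hj, _root_.zpow_mul, zpow_natCast]; simp⟩
  obtain ⟨k, hk⟩ := mem_powers_iff_mem_zpowers.2 hmem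
  exact ⟨k, by rw [← Units.val_pow_eq_pow_val]; simp only at hk; rw [hk]; exact div_mul_cancel₀ t hc⟩

end CfsgLib.Chev
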