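import Cfsg.Agent.Lib.Chev.SubfieldRat
import Cfsg.Agent.Lib.Chev.TwistTwoGenCore
import Cfsg.Agent.Lib.Chev.TwistEndo

/-!
Overgroups of the rational points of a twisted group: coordinates in the radical `Q`, orbit by orbit.
-/

set_option autoImplicit false
set_option maxRecDepth 100000
set_option linter.unusedSectionVars false

namespace CfsgLib.Chev

open Cfsg.Lie Matrix

/-- The product of a word in root elements. -/
noncomputable def wordX (D : ChevalleyDatum) {K : Type*} [Field K] (w : List (ℕ × K)) : GL D.Idx K :=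
  (w.map fun p => X D p.1 p.2).prod

/-- The sum of the entries of a word at a root. -/
noncomputable def cw {K : Type*} [Field K] (w : List (ℕ × K)) (r : ℕ) : K :=
  (w.map fun p => if p.1 = r then p.2 else 0).sum

namespace Tab

variable (T : Tab)

/-- The entries of a conjugate of a root element by `x_a(x)`. -/
def cj {K : Type*} [Field K] (a : ℕ) (x : K) (p : ℕ × K) : List (ℕ × K) :=
  p :: (T.commTerms a p.1).map fun c => (c.1, (c.2.1 : K) * x ^ c.2.2.1 * p.2 ^ c.2.2.2)

/-- What is used about a symmetry and the frame. -/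
def chkTwFrame (ρ : ℕ → ℕ) : Bool :=
  T.chkFrame && decide (ρ T.top = T.top ∧ ρ 0 = 0) &&
    (List.range T.n).all fun r => decide (T.inQ (ρ r) = T.inQ r) &&
      (List.range T.n).all fun s => !decide (T.half ≤ r ∧ T.half ≤ s) || T.inQ r || T.inQ s ||
        decide (r = s) || (T.commTerms r s).all fun q => !T.inQ q.1

/-- The roots of the orbits of a list. -/
def orbRoots (ρ : ℕ → ℕ) (O : List (ℕ × ℕ)) : List ℕ :=
  O.flatMap fun p => (List.range p.1).map fun k => ρ^[k] p.2

/-- Orbits with commuting roots exhausting `Q` apart from the highest root. -/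
def chkOrbs (ρ : ℕ → ℕ) (O : List (ℕ × ℕ)) : Bool :=
  (O.all fun p => decide (ρ^[p.1] p.2 = p.2 ∧ p.2 < T.n) &&
    (List.range p.1).all fun i => (List.range p.1).all fun j =>
      decide (i = j) || chkCommute T (ρ^[i] p.2) (ρ^[j] p.2)) &&
    decide (List.Perm (orbRoots ρ O ++ [T.top]) T.qList)

end Tab

section Words

variable {D : ChevalleyDatum} {K : Type*} [Field K]

lemma wordX_nil : wordX D ([] : List (ℕ × K)) = 1 := rfl

lemma wordX_cons (p : ℕ × K) (w : List (ℕ × K)) :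
    wordX D (p :: w) = X D p.1 p.2 * wordX D w := rfl

lemma wordX_append (v w : List (ℕ × K)) : wordX D (v ++ w) = wordX D v * wordX D w := by
  simp [wordX]

lemma cw_cons (p : ℕ × K) (w : List (ℕ × K)) (r : ℕ) :
    cw (p :: w) r = (if p.1 = r then p.2 else 0) + cw w r := rfl

lemma cw_append (v w : List (ℕ × K)) (r : ℕ) : cw (v ++ w) r = cw v r + cw w r := by
  simp [cw]

lemma cw_eq_zero {w : List (ℕ × K)} {r : ℕ} (hw : ∀ p ∈ w, p.1 ≠ r) : cw w r = 0 := by
  refine List.sum_eq_zero fun x hx => ?_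
  obtain ⟨p, hp, rfl⟩ := List.mem_map.1 hx
  rw [if_neg (hw p hp)]

lemma prodX_eq_wordX (L : List ℕ) (t : ℕ → K) :
    prodX D L t = wordX D (L.map fun r => (r, t r)) := by
  simp [prodX, wordX, Function.comp_def]

lemma cw_map_of_inj {L : List ℕ} (hnd : L.Nodup) {g : ℕ → ℕ}
    (hg : ∀ a ∈ L, ∀ b ∈ L, g a = g b → a = b) (v : ℕ → K) {r : ℕ} (hr : r ∈ L) :
    cw (L.map fun s => (g s, v s)) (g r) = v r := by
  simp only [cw, List.map_map, Function.comp_def]
  rw [Cert.sum_single_of_zero hnd hr (fun s => if g s = g r then v s else 0)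
    fun s hs hne => if_neg fun e => hne (hg s hs r hr e)]
  simp

end Words

namespace Cert

variable {D : ChevalleyDatum} {T : Tab} {C : Tab.Cover} (h : Cert D T C) {K : Type*} [Field K]
include h

/-- Conjugation of a word by a root element. -/
lemma conj_wordX {a : ℕ} (ha : a < T.n) (x : K) : ∀ (w : List (ℕ × K)),
    (∀ p ∈ w, p.1 < T.n ∧ p.1 ≠ a ∧ p.1 ≠ T.neg a) →
    X D a x * wordX D w * (X D a x)⁻¹ = wordX D (w.flatMap (T.cj a x))
  | [], _ => by simp [wordX]
  | p :: w, hw => by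
    obtain ⟨hp, hne, hneg⟩ := hw p List.mem_cons_self
    rw [List.flatMap_cons, wordX_append, ← conj_wordX ha x w fun q hq => hw q (List.mem_cons_of_mem _ hq),
      wordX_cons]
    have h1 := h.X_conj ha hp hne hneg (-x) p.2
    rw [_root_.neg_neg, ← h.X_inv ha] at h1
    have e : wordX D (T.cj a x p) = X D a x * X D p.1 p.2 * (X D a x)⁻¹ := by
      rw [h1]
      simp [wordX, Tab.cj, List.map_map, Function.comp_def]
    rw [e]
    group

variable (hf : T.chkFrame = true)
include hf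

omit hf in
lemma Qgrp_le_group : Qgrp D T K ≤ D.group K := h.gen_le_group fun _ hr => (inQ_lt hr).2

omit h hf in
lemma wordX_mem_Qgrp {w : List (ℕ × K)} (hw : ∀ p ∈ w, T.inQ p.1 = true) :
    wordX D w ∈ Qgrp D T K := list_prod_mem fun g hg => by
  obtain ⟨p, hp, rfl⟩ := List.mem_map.1 hg
  exact X_mem_gen D (hw p hp) _

/-- Inserting a factor of `Q` into an ordered product, up to the centre. -/
lemma insert_prodX : ∀ (L : List ℕ), L.Nodup → (∀ s ∈ L, T.inQ s = true) → ∀ (t : ℕ → K) (r : ℕ),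
    r ∈ L → ∀ u : K, ∃ z, X D r u * prodX D L t =
      prodX D L (fun s => if s = r then u + t s else t s) * X D T.top z
  | [], _, _, _, _, hr, _ => by cases hr
  | a :: L, hnd, hQ, t, r, hr, u => by
    obtain ⟨haL, hL⟩ := List.nodup_cons.1 hnd
    have hQL : ∀ s ∈ L, T.inQ s = true := fun s hs => hQ s (List.mem_cons_of_mem _ hs)
    have hca : ∀ f : ℕ → K, prodX D (a :: L) f = X D a (f a) * prodX D L f := fun f => rfl
    rw [hca, hca]
    by_cases hra : r = a
    · subst hra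
      refine ⟨0, ?_⟩
      have e : prodX D L (fun s => if s = r then u + t s else t s) = prodX D L t := by
        unfold prodX
        congr 1
        refine List.map_congr_left fun s hs => ?_
        simp [show s ≠ r from fun e => haL (e ▸ hs)]
      rw [e, h.X_zero (h.frame_top hf).2.1, mul_one, if_pos rfl, ← mul_assoc,
        h.X_add (inQ_lt (hQ r hr)).2]
    · have hr' : r ∈ L := (List.mem_cons.1 hr).resolve_left hra
      obtain ⟨z, hz⟩ := insert_prodX L hL hQL t r hr' u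
      obtain ⟨v, hv⟩ := h.exists_Brk hf (hQ r hr) (X_mem_gen D (hQ a List.mem_cons_self) (t a))
      refine ⟨z + u * v, ?_⟩
      have hP : prodX D L t ∈ Qgrp D T K := list_prod_mem fun g hg => by
        obtain ⟨s, hs, rfl⟩ := List.mem_map.1 hg
        exact X_mem_gen D (hQL s hs) _
      rw [if_neg fun e : a = r => hra e.symm, ← mul_assoc, hv u, mul_assoc (X D a (t a) * X D r u),
        ← (h.Qgrp_commute_top hf hP (u * v)).eq, ← mul_assoc, mul_assoc (X D a (t a)), hz,
        ← mul_assoc, mul_assoc (X D a (t a) * _), h.X_add (h.frame_top hf).2.1]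

/-- Coordinates of a word in `Q`, up to the centre. -/
lemma word_coord : ∀ w : List (ℕ × K), (∀ p ∈ w, T.inQ p.1 = true) →
    ∃ z, wordX D w = prodX D T.qList (cw w) * X D T.top z
  | [], _ => by
    refine ⟨0, ?_⟩
    rw [h.X_zero (h.frame_top hf).2.1, mul_one, wordX_nil, prodX, List.prod_eq_one]
    intro g hg
    obtain ⟨s, hs, rfl⟩ := List.mem_map.1 hg
    exact h.X_zero (inQ_lt (mem_qList.1 hs)).2
  | p :: w, hw => by
    obtain ⟨z, hz⟩ := word_coord w fun q hq => hw q (List.mem_cons_of_mem _ hq)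
    obtain ⟨z', hz'⟩ := h.insert_prodX hf T.qList sortedLT_qList.nodup (fun s hs => mem_qList.1 hs)
      (cw w) p.1 (mem_qList.2 (hw p List.mem_cons_self)) p.2
    refine ⟨z' + z, ?_⟩
    rw [wordX_cons, hz, ← mul_assoc, hz', mul_assoc, h.X_add (h.frame_top hf).2.1]
    congr 2
    funext s
    rw [cw_cons]
    by_cases e : s = p.1
    · subst e; simp
    · simp [e, Ne.symm e]

/-- The centre absorbed. -/
lemma absorb_top : ∀ L : List ℕ, L.Nodup → (∀ s ∈ L, T.inQ s = true) → T.top ∈ L → ∀ (t : ℕ → K) z,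
    prodX D L t * X D T.top z = prodX D L (fun s => if s = T.top then t s + z else t s)
  | [], _, _, hr, _, _ => by cases hr
  | a :: L, hnd, hQ, hr, t, z => by
    obtain ⟨haL, hL⟩ := List.nodup_cons.1 hnd
    have hQL : ∀ s ∈ L, T.inQ s = true := fun s hs => hQ s (List.mem_cons_of_mem _ hs)
    have hca : ∀ f : ℕ → K, prodX D (a :: L) f = X D a (f a) * prodX D L f := fun f => rfl
    rw [hca, hca]
    by_cases hra : a = T.top
    · have e : prodX D L (fun s => if s = T.top then t s + z else t s) = prodX D L t := by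
        unfold prodX
        congr 1
        refine List.map_congr_left fun s hs => ?_
        simp [show s ≠ T.top from fun e => haL (hra ▸ e ▸ hs)]
      have hP : prodX D L t ∈ Qgrp D T K := list_prod_mem fun g hg => by
        obtain ⟨s, hs, rfl⟩ := List.mem_map.1 hg
        exact X_mem_gen D (hQL s hs) _
      rw [e, if_pos hra, mul_assoc, (h.Qgrp_commute_top hf hP z).eq, ← mul_assoc, hra,
        h.X_add (h.frame_top hf).2.1]
    · rw [if_neg hra, mul_assoc,
        absorb_top L hL hQL ((List.mem_cons.1 hr).resolve_left (Ne.symm hra)) t z]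

omit hf h in
lemma qList_pos : ∀ r ∈ T.qList, r ∈ posSet T := fun _ hr => inQ_lt (mem_qList.1 hr)

/-- The coordinates away from the centre are unique. -/
lemma coord_uniq {t t' : ℕ → K} {z z' : K}
    (e : prodX D T.qList t * X D T.top z = prodX D T.qList t' * X D T.top z') {r : ℕ}
    (hr : r ∈ T.qList) (hrt : r ≠ T.top) : t r = t' r := by
  have hQ : ∀ s ∈ T.qList, T.inQ s = true := fun s hs => mem_qList.1 hs
  have ht := mem_qList.2 (top_inQ hf)
  rw [h.absorb_top hf _ sortedLT_qList.nodup hQ ht, h.absorb_top hf _ sortedLT_qList.nodup hQ ht] at e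
  simpa [hrt] using h.prodX_inj _ sortedLT_qList qList_pos _ _ e r hr

/-- The coordinates of an element given by a word. -/
lemma coord_of_word {w : List (ℕ × K)} (hw : ∀ p ∈ w, T.inQ p.1 = true) {t : ℕ → K} {z : K}
    (e : wordX D w = prodX D T.qList t * X D T.top z) {r : ℕ} (hr : r ∈ T.qList) (hrt : r ≠ T.top) :
    t r = cw w r := by
  obtain ⟨z', hz'⟩ := h.word_coord hf w hw
  exact h.coord_uniq hf (e.symm.trans hz') hr hrt

/-- Equal coordinates: a central difference. -/
lemma exists_top_of_coord {t t' : ℕ → K} (e : ∀ r ∈ T.qList, r ≠ T.top → t r = t' r) (z : K) :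
    ∃ z', prodX D T.qList t = prodX D T.qList t' * X D T.top z * X D T.top z' := by
  have hQ : ∀ s ∈ T.qList, T.inQ s = true := fun s hs => mem_qList.1 hs
  refine ⟨t T.top - t' T.top - z, ?_⟩
  rw [mul_assoc, h.X_add (h.frame_top hf).2.1,
    h.absorb_top hf _ sortedLT_qList.nodup hQ (mem_qList.2 (top_inQ hf))]
  unfold prodX
  congr 1
  refine List.map_congr_left fun s hs => ?_
  dsimp only
  by_cases hst : s = T.top
  · rw [if_pos hst, hst]; congr 1; ring
  · rw [if_neg hst, e s hs hst]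

/-- Elements of `Q` commute up to the centre. -/
lemma Qgrp_comm_top {a b : GL D.Idx K} (ha : a ∈ Qgrp D T K) (hb : b ∈ Qgrp D T K) :
    ∃ z, a * b = b * a * X D T.top z := by
  obtain ⟨t, rfl⟩ := h.exists_prodX_Qgrp hf ha
  obtain ⟨t', rfl⟩ := h.exists_prodX_Qgrp hf hb
  rw [prodX_eq_wordX, prodX_eq_wordX, ← wordX_append, ← wordX_append]
  have hQ : ∀ (v v' : ℕ → K), ∀ p ∈ T.qList.map (fun r => (r, v r)) ++ T.qList.map (fun r => (r, v' r)),
      T.inQ p.1 = true := by
    intro v v' p hp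
    simp only [List.mem_append, List.mem_map] at hp
    rcases hp with ⟨r, hr, rfl⟩ | ⟨r, hr, rfl⟩ <;> exact mem_qList.1 hr
  obtain ⟨z1, h1⟩ := h.word_coord hf _ (hQ t t')
  obtain ⟨z2, h2⟩ := h.word_coord hf _ (hQ t' t)
  obtain ⟨z3, h3⟩ := h.exists_top_of_coord hf (fun r _ _ => by rw [cw_append, cw_append, add_comm] :
    ∀ r ∈ T.qList, r ≠ T.top →
      cw (T.qList.map (fun r => (r, t r)) ++ T.qList.map (fun r => (r, t' r))) r =
        cw (T.qList.map (fun r => (r, t' r)) ++ T.qList.map (fun r => (r, t r))) r) z2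
  exact ⟨z3 + z1, by rw [h1, h3, ← h2, mul_assoc, h.X_add (h.frame_top hf).2.1]⟩

end Cert

/-- A group between the rational points and the twisted group. -/
structure TOver {D : ChevalleyDatum} {T : Tab} {C : Tab.Cover} {h : Cert D T C} {K : Type*} [Field K]
    (E : Endo h K) (σ : K →+* K) (k : Subfield K) (sg : ℕ → ℤ) (H : Subgroup (GL D.Idx K)) : Prop where
  mem_k : ∀ x, x ∈ k ↔ σ x = x
  τ_eq : ∀ r < T.n, ∀ t, E.τ r t = (sg r : K) * σ t
  sg_fix : ∀ r < T.n, E.ρ r = r → sg r = 1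
  chk : T.chkTwFrame E.ρ = true
  le : H ≤ E.fix
  fixed : ∀ g ∈ E.fix, mapGL D σ g = g → g ∈ H

namespace TOver

open Cert (inQ_lt mem_qList sortedLT_qList top_inQ wordX_mem_Qgrp)

variable {D : ChevalleyDatum} {T : Tab} {C : Tab.Cover} {h : Cert D T C} {K : Type*} [Field K]
  {E : Endo h K} {σ : K →+* K} {k : Subfield K} {sg : ℕ → ℤ} {H : Subgroup (GL D.Idx K)}
  (ho : TOver E σ k sg H)
include ho

lemma frame : T.chkFrame = true := by
  have h1 := ho.chk
  simp only [Tab.chkTwFrame, Bool.and_eq_true] at h1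
  exact h1.1.1

lemma ρ_top : E.ρ T.top = T.top ∧ E.ρ 0 = 0 := by
  have h1 := ho.chk
  simp only [Tab.chkTwFrame, Bool.and_eq_true, decide_eq_true_eq] at h1
  exact h1.1.2

lemma inQ_ρ {r : ℕ} (hr : r < T.n) : T.inQ (E.ρ r) = T.inQ r := by
  have h1 := ho.chk
  simp only [Tab.chkTwFrame, Bool.and_eq_true, decide_eq_true_eq, List.all_eq_true,
    List.mem_range] at h1
  exact (h1.2 r hr).1

lemma map_X (r : ℕ) (t : K) : mapGL D σ (X D r t) = X D r (σ t) := h.X_map σ r t

lemma τ_mem {r : ℕ} (hr : r < T.n) {t : K} (ht : t ∈ k) : E.τ r t ∈ k := by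
  rw [ho.τ_eq r hr, (ho.mem_k t).1 ht]
  exact mul_mem (intCast_mem k _) ht

lemma τn_mem {x : ℕ} (hx : x < T.n) {t : K} (ht : t ∈ k) : ∀ j, E.τn j x t ∈ k
  | 0 => ht
  | j + 1 => ho.τ_mem (E.iter_lt hx j) (τn_mem hx ht j)

lemma τ_fixed {r : ℕ} (hr : r < T.n) (hρ : E.ρ r = r) (t : K) : E.τ r t = σ t := by
  rw [ho.τ_eq r hr, ho.sg_fix r hr hρ, Int.cast_one, one_mul]

lemma X_mem_fix {r : ℕ} (hr : r < T.n) (hρ : E.ρ r = r) {t : K} (ht : t ∈ k) :
    X D r t ∈ E.fix :=
  E.mem_fix.2 ⟨h.X_mem_group hr t, by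
    rw [E.act_X hr, hρ, ho.τ_fixed hr hρ, (ho.mem_k t).1 ht]⟩

lemma X_mem {r : ℕ} (hr : r < T.n) (hρ : E.ρ r = r) {t : K} (ht : t ∈ k) : X D r t ∈ H :=
  ho.fixed _ (ho.X_mem_fix hr hρ ht) (by rw [ho.map_X, (ho.mem_k t).1 ht])

/-- Fixed central elements have their parameter in the subfield. -/
lemma mem_of_X_fix {r : ℕ} (hr : r < T.n) (hρ : E.ρ r = r) {t : K} (ht : X D r t ∈ E.fix) :
    t ∈ k := by
  have h1 := E.act_of_fix ht
  rw [E.act_X hr, hρ, ho.τ_fixed hr hρ] at h1
  exact (ho.mem_k t).2 (h.X_inj hr h1)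

lemma orbElt_map {x : ℕ} (hx : x < T.n) {t : K} (ht : t ∈ k) :
    ∀ m, mapGL D σ (E.orbElt m x t) = E.orbElt m x t
  | 0 => by simp [Endo.orbElt]
  | m + 1 => by
    rw [E.orbElt_succ, map_mul, orbElt_map hx ht m, ho.map_X,
      (ho.mem_k _).1 (ho.τn_mem hx ht m)]

lemma orbElt_mem {m x : ℕ} (ok : E.OrbOK m x) {t : K} (htm : E.τn m x t = t) (ht : t ∈ k) :
    E.orbElt m x t ∈ H :=
  ho.fixed _ (E.orbElt_mem_fix ok htm) (ho.orbElt_map ok.lt ht m)

/-- The field map commutes with the endomorphism. -/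
lemma act_map {g : GL D.Idx K} (hg : g ∈ D.group K) :
    E.act (mapGL D σ g) = mapGL D σ (E.act g) := by
  rw [h.group_eq] at hg
  have hle : ∀ x ∈ Subgroup.closure {g : GL D.Idx K | ∃ r, r < T.n ∧ ∃ t : K, g = X D r t},
      x ∈ D.group K := fun x hx => by
    refine (Subgroup.closure_le (K := D.group K)).2 ?_ hx
    rintro _ ⟨r, hr, t, rfl⟩
    exact h.X_mem_group hr t
  refine Subgroup.closure_induction (p := fun g _ => g ∈ D.group K ∧
    E.act (mapGL D σ g) = mapGL D σ (E.act g)) ?_ ?_ ?_ ?_ hg |>.2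
  · rintro _ ⟨r, hr, t, rfl⟩
    refine ⟨h.X_mem_group hr t, ?_⟩
    rw [E.act_X hr, ho.map_X, ho.map_X, E.act_X hr, ho.τ_eq r hr, ho.τ_eq r hr, map_mul, map_intCast]
  · exact ⟨one_mem _, by rw [E.act_one, map_one, E.act_one]⟩
  · intro a b _ _ ha hb
    refine ⟨mul_mem ha.1 hb.1, ?_⟩
    rw [map_mul, E.act_mul (h.map_mem_group σ ha.1) (h.map_mem_group σ hb.1), ha.2, hb.2,
      E.act_mul ha.1 hb.1, map_mul]
  · intro a _ ha
    refine ⟨inv_mem ha.1, ?_⟩
    rw [map_inv, E.act_inv (h.map_mem_group σ ha.1), ha.2, E.act_inv ha.1, map_inv]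

lemma map_mem_fix {g : GL D.Idx K} (hg : g ∈ E.fix) : mapGL D σ g ∈ E.fix :=
  E.mem_fix.2 ⟨h.map_mem_group σ (E.fix_le_group hg), by
    rw [ho.act_map (E.fix_le_group hg), E.act_of_fix hg]⟩

/-- Coordinates of fixed elements of `Q` along the symmetry. -/
lemma coord_ρ {t : ℕ → K} (hq : prodX D T.qList t ∈ E.fix) {r : ℕ} (hr : r ∈ T.qList)
    (hrt : r ≠ T.top) : t (E.ρ r) = E.τ r (t r) := by
  have hf := ho.frame
  have hrn := (inQ_lt (mem_qList.1 hr)).2
  have hρQ : E.ρ r ∈ T.qList := mem_qList.2 ((ho.inQ_ρ hrn).trans (mem_qList.1 hr))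
  have hρt : E.ρ r ≠ T.top := fun e => hrt (E.sym.inj r hrn T.top (h.frame_top hf).2.1
    (e.trans ho.ρ_top.1.symm))
  have e := E.act_of_fix hq
  have hlt : ∀ p ∈ T.qList.map fun s => (s, t s), p.1 < T.n := by
    intro p hp
    obtain ⟨s, hs, rfl⟩ := List.mem_map.1 hp
    exact (inQ_lt (mem_qList.1 hs)).2
  rw [prodX_eq_wordX, wordX] at e
  rw [E.act_prod _ hlt, List.map_map] at e
  have e' : wordX D (T.qList.map fun s => (E.ρ s, E.τ s (t s))) =
      prodX D T.qList t * X D T.top 0 := by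
    rw [h.X_zero (h.frame_top hf).2.1, mul_one, prodX_eq_wordX]
    simpa [wordX, List.map_map, Function.comp_def] using e
  rw [h.coord_of_word hf (by
    intro p hp
    obtain ⟨s, hs, rfl⟩ := List.mem_map.1 hp
    exact (ho.inQ_ρ (inQ_lt (mem_qList.1 hs)).2).trans (mem_qList.1 hs)) e' hρQ hρt]
  exact cw_map_of_inj sortedLT_qList.nodup
    (fun a ha b hb e => E.sym.inj a (inQ_lt (mem_qList.1 ha)).2 b (inQ_lt (mem_qList.1 hb)).2 e) _ hr

omit ho in
lemma orbElt_eq_wordX (m x : ℕ) (t : K) :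
    E.orbElt m x t = wordX D ((List.range m).map fun j => (E.ρ^[j] x, E.τn j x t)) := by
  simp [Endo.orbElt, wordX, List.map_map, Function.comp_def]

omit ho in
lemma prod_orbElt (O : List (ℕ × ℕ)) (t : ℕ → K) :
    (O.map fun p => E.orbElt p.1 p.2 (t p.2)).prod =
      wordX D (O.flatMap fun p => (List.range p.1).map fun j => (E.ρ^[j] p.2, E.τn j p.2 (t p.2))) := by
  induction O with
  | nil => rfl
  | cons p O ih => rw [List.flatMap_cons, wordX_append, List.map_cons, List.prod_cons, ih,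
      orbElt_eq_wordX]

omit ho in
lemma orbOK_of_chk {O : List (ℕ × ℕ)} (hO : T.chkOrbs E.ρ O = true) {p : ℕ × ℕ} (hp : p ∈ O) :
    E.OrbOK p.1 p.2 := by
  simp only [Tab.chkOrbs, Bool.and_eq_true, List.all_eq_true, decide_eq_true_eq, List.mem_range,
    Bool.or_eq_true] at hO
  obtain ⟨⟨hcyc, hlt⟩, hc⟩ := hO.1 p hp
  exact ⟨hlt, hcyc, fun i hi j hj hne t u => h.commute_X ((hc i hi j hj).resolve_left hne) t u⟩

/-- Fixed elements of `Q` are products along orbits and a fixed central element. -/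
theorem orb_form {O : List (ℕ × ℕ)} (hO : T.chkOrbs E.ρ O = true) {t : ℕ → K}
    (hq : prodX D T.qList t ∈ E.fix) :
    (∀ p ∈ O, E.τn p.1 p.2 (t p.2) = t p.2) ∧ ∃ z ∈ k,
      prodX D T.qList t = (O.map fun p => E.orbElt p.1 p.2 (t p.2)).prod * X D T.top z := by
  have hf := ho.frame
  obtain ⟨ht1, ht2, -⟩ := h.frame_top hf
  have hperm : List.Perm (Tab.orbRoots E.ρ O ++ [T.top]) T.qList := by
    simp only [Tab.chkOrbs, Bool.and_eq_true, decide_eq_true_eq] at hO; exact hO.2
  have hin : ∀ p ∈ O, ∀ j < p.1, E.ρ^[j] p.2 ∈ T.qList ∧ E.ρ^[j] p.2 ≠ T.top := by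
    intro p hp j hj
    have hm : E.ρ^[j] p.2 ∈ Tab.orbRoots E.ρ O :=
      List.mem_flatMap.2 ⟨p, hp, List.mem_map.2 ⟨j, List.mem_range.2 hj, rfl⟩⟩
    refine ⟨hperm.mem_iff.1 (List.mem_append_left _ hm), fun e => ?_⟩
    have hnd := hperm.nodup_iff.2 sortedLT_qList.nodup
    rw [List.nodup_append] at hnd
    exact hnd.2.2 _ hm _ (List.mem_singleton.2 rfl) e
  have hiter : ∀ p ∈ O, ∀ j ≤ p.1, t (E.ρ^[j] p.2) = E.τn j p.2 (t p.2) := by
    intro p hp j
    induction j with
    | zero => intro _; rfl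
    | succ j ih =>
      intro hj
      rw [Function.iterate_succ_apply', ho.coord_ρ hq (hin p hp j (by omega)).1
        (hin p hp j (by omega)).2, ih (by omega)]
      rfl
  have hadm : ∀ p ∈ O, E.τn p.1 p.2 (t p.2) = t p.2 := fun p hp => by
    rw [← hiter p hp p.1 le_rfl, (orbOK_of_chk hO hp).cyc]
  refine ⟨hadm, ?_⟩
  set w := O.flatMap fun p => (List.range p.1).map fun j => (E.ρ^[j] p.2, E.τn j p.2 (t p.2)) with hwdef
  have hwr : w = (Tab.orbRoots E.ρ O).map fun r => (r, t r) := by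
    rw [hwdef, Tab.orbRoots, List.map_flatMap]
    refine List.flatMap_congr fun p hp => ?_
    rw [List.map_map]
    refine List.map_congr_left fun j hj => ?_
    simp [hiter p hp j (List.mem_range.1 hj).le]
  have hwQ : ∀ p ∈ w, T.inQ p.1 = true := by
    rw [hwr]
    intro p hp
    obtain ⟨r, hr, rfl⟩ := List.mem_map.1 hp
    exact mem_qList.1 (hperm.mem_iff.1 (List.mem_append_left _ hr))
  obtain ⟨z, hz⟩ := h.word_coord hf w hwQ
  have hnd := hperm.nodup_iff.2 sortedLT_qList.nodup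
  rw [List.nodup_append] at hnd
  obtain ⟨z', hz'⟩ := h.exists_top_of_coord hf (t := t) (t' := cw w) (fun r hr hrt => by
    have hr' : r ∈ Tab.orbRoots E.ρ O := by
      rcases List.mem_append.1 (hperm.mem_iff.2 hr) with e | e
      · exact e
      · exact absurd (List.mem_singleton.1 e) hrt
    rw [hwr]
    exact (cw_map_of_inj (g := id) hnd.1 (fun _ _ _ _ e => e) t hr').symm) z
  rw [← hz] at hz'
  refine ⟨z', ?_, by rw [prod_orbElt]; exact hz'⟩
  have hW : wordX D w ∈ E.fix := by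
    rw [hwdef, ← prod_orbElt]
    refine list_prod_mem fun g hg => ?_
    obtain ⟨p, hp, rfl⟩ := List.mem_map.1 hg
    exact E.orbElt_mem_fix (orbOK_of_chk hO hp) (hadm p hp)
  have hX : X D T.top z' = (wordX D w)⁻¹ * prodX D T.qList t := by rw [hz', inv_mul_cancel_left]
  exact ho.mem_of_X_fix ht2 ho.ρ_top.1 (hX ▸ mul_mem (inv_mem hW) hq)

end TOver

end CfsgLib.Chev
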