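import Cfsg.Agent.Lib.Chev.SubfieldCentral

/-!
An element commuting with elements led by every simple root, together with a conjugate under a longest
monomial element, is trivial.
-/

set_option autoImplicit false
set_option maxRecDepth 100000
set_option linter.unusedSectionVars false

namespace CfsgLib.Chev

open Cfsg.Lie Matrix

/-- `g` commutes with an element led by each simple root. -/
def Led (D : ChevalleyDatum) (T : Tab) {K : Type*} [Field K] (g : GL D.Idx K) : Prop :=
  ∀ i < T.l, ∃ e : K, e ≠ 0 ∧ ∃ b ∈ gen D K (posBut T i), Commute g (X D (T.simple i) e * b)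

namespace Cert

variable {D : ChevalleyDatum} {T : Tab} {C : Tab.Cover} (h : Cert D T C) {K : Type*} [Field K]
  {n : ℕ} {W : List (ℕ × ℕ)} (hW : T.chkLedCentral n W = true)
include h hW

/-- A positive word is its coordinate at a simple root times the rest. -/
lemma exists_lead {i : ℕ} (hi : i < T.l) : ∀ w : List (ℕ × K), (∀ p ∈ w, p.1 ∈ posSet T) →
    ∃ b ∈ gen D K (posBut T i), (w.map fun p => X D p.1 p.2).prod =
      X D (T.simple i) ((w.map fun p => if p.1 = T.simple i then p.2 else 0).sum) * b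
  | [], _ => ⟨1, one_mem _, by simp [h.X_zero (h.simple_lt hi)]⟩
  | p :: w, hw => by
    obtain ⟨b, hb, e⟩ := exists_lead hi w fun q hq => hw q (List.mem_cons_of_mem _ hq)
    have hp := hw p List.mem_cons_self
    rw [List.map_cons, List.prod_cons, e, List.map_cons, List.sum_cons]
    set v := (w.map fun p => if p.1 = T.simple i then p.2 else 0).sum
    by_cases hps : p.1 = T.simple i
    · refine ⟨b, hb, ?_⟩
      rw [if_pos hps, ← mul_assoc, hps, h.X_add (h.simple_lt hi)]
    · have h1 := h.conj_posBut hW hi (h.X_simple_mem_posUnipotent hi (-v))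
        (a := X D p.1 p.2) (X_mem_gen D (S := posBut T i) ⟨hp, hps⟩ _)
      refine ⟨_, mul_mem h1 hb, ?_⟩
      rw [if_neg hps, zero_add, ← h.X_inv (h.simple_lt hi)]
      group

lemma led_mem_borel {g : GL D.Idx K} (hg : g ∈ D.group K) (hc : Led D T g) :
    g ∈ D.borelSubgroup K := by
  obtain ⟨b, hb, n', hn, u, hu, rfl⟩ := h.bruhat_exists hg
  obtain ⟨w, hw, t₁, ht₁, rfl⟩ := h.exists_word_of_monomial hn
  have hπ : ∀ r < T.n, rword T w r < T.n ∧ Maps D (nW D K w * t₁) r (rword T w r) := fun r hr =>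
    ⟨h.rword_lt hw hr, Maps_mul (h.Maps_diagonal ht₁ hr) (h.Maps_nW hw hr)⟩
  have huU : u ∈ D.posUnipotent K := by
    rw [h.cellUnipotent_eq hπ] at hu
    rw [h.posUnipotent_eq]
    exact gen_mono D Set.sdiff_subset hu
  by_cases hpos : ∀ i < T.l, T.half ≤ rword T w (T.simple i)
  · exact mul_mem (mul_mem hb (Subgroup.mem_sup_right (mul_mem (h.nW_mem_diagonal hw hpos) ht₁)))
      (Subgroup.mem_sup_left huU)
  exfalso
  simp only [not_forall] at hpos
  obtain ⟨i, hi, hneg⟩ := hpos
  obtain ⟨e, he, b', hb', hcomm⟩ := hc i hi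
  set P := X D (T.simple i) e * b'
  have hbU : b' ∈ D.posUnipotent K := by
    rw [h.posUnipotent_eq]; exact gen_mono D (fun r hr => hr.1) hb'
  have hPU : P ∈ D.posUnipotent K := mul_mem (h.X_simple_mem_posUnipotent hi e) hbU
  have huP : u * P ∈ gen D K {r | r ∈ posList T} := by
    rw [posList_set, ← h.posUnipotent_eq]; exact mul_mem huU hPU
  obtain ⟨a₀, ha₀, c₀, hc₀, hsplit⟩ := h.exists_split {r | T.half ≤ rword T w r} (posList T)
    sortedLT_posList (fun r hr => mem_posList.1 hr)
    (by rw [posList_set]; exact h.commClosed_posSet) _ huP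
  rw [posList_set] at ha₀ hc₀
  set N := nW D K w * t₁
  have hna : N * a₀ * N⁻¹ ∈ D.borelSubgroup K := by
    refine Subgroup.mem_sup_left ?_
    rw [h.posUnipotent_eq]
    exact conj_gen_le (S' := posSet T)
      (fun r hr => ⟨rword T w r, ⟨hr.2, (hπ r hr.1.2).1⟩, (hπ r hr.1.2).2⟩) ha₀
  have e' : (P * b) * N * u = (b * (N * a₀ * N⁻¹)) * N * c₀ := by
    have h1 := hcomm.eq
    rw [show b * N * u * P = b * N * (u * P) by group, hsplit] at h1
    rw [show (P * b) * N * u = P * (b * N * u) by group, ← h1]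
    group
  obtain ⟨-, huniq⟩ := h.bruhat_unique (mul_mem (Subgroup.mem_sup_left hPU) hb) (mul_mem hb hna) hn hn
    hu (by rw [h.cellUnipotent_eq hπ]; exact hc₀) e'
  obtain ⟨-, ec⟩ := huniq rfl
  have haN : a₀ ∈ gen D K (posBut T i) :=
    gen_mono D (show (posSet T ∩ {r | T.half ≤ rword T w r}) ⊆ posBut T i from
      fun r hr => ⟨hr.1, fun e => hneg (e ▸ hr.2)⟩) ha₀
  have hPN : P ∈ gen D K (posBut T i) := by
    have := h.conj_posBut hW hi (inv_mem huU) haN
    rwa [show a₀ = u * P * u⁻¹ by rw [hsplit, ← ec, mul_inv_cancel_right],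
      show u⁻¹ * (u * P * u⁻¹) * u⁻¹⁻¹ = P by group] at this
  refine he (h.eq_zero_of_mem_posBut hW hi ?_)
  have := mul_mem hPN (inv_mem hb')
  rwa [mul_inv_cancel_right] at this

/-- A diagonal element with the property is trivial. -/
lemma led_diagonal {g : GL D.Idx K} (hg : g ∈ D.diagonalSubgroup K) (hc : Led D T g) : g = 1 := by
  obtain ⟨c, hc0, ec⟩ := h.mem_diagonalSubgroup_iff.1 hg
  have key : ∀ r < T.n, ∀ y : K, g * X D r y * g⁻¹ = X D r (charOf T c r * y) := by
    intro r hr y
    rw [mul_inv_eq_iff_eq_mul]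
    refine Units.ext ?_
    rw [Units.val_mul, Units.val_mul, h.coe_X, h.coe_X, ec, h.torus_mul_x (h.isChar_charOf hc0) hr]
  have hsimple : ∀ i < T.l, charOf T c (T.simple i) = 1 := by
    intro i hi
    have hp2 := h.simple_lt hi
    obtain ⟨e, he, b, hb, hcomm⟩ := hc i hi
    set ch := charOf T c (T.simple i)
    have hgb : g * b * g⁻¹ ∈ gen D K (posBut T i) :=
      (Subgroup.mem_normalizer_iff.1 (h.diagonal_le_normalizer_gen (fun r hr => hr.1.2) hg) b).1 hb
    have h1 : X D (T.simple i) (ch * e) * (g * b * g⁻¹) = X D (T.simple i) e * b := by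
      rw [← key _ hp2]
      calc g * X D (T.simple i) e * g⁻¹ * (g * b * g⁻¹) = g * (X D (T.simple i) e * b) * g⁻¹ := by group
        _ = _ := by rw [hcomm.eq, mul_inv_cancel_right]
    have h2 : X D (T.simple i) (-e + ch * e) = b * (g * b * g⁻¹)⁻¹ := by
      rw [← h.X_add hp2, eq_mul_inv_iff_mul_eq, mul_assoc, h1, ← mul_assoc, h.X_add hp2,
        neg_add_cancel, h.X_zero hp2, one_mul]
    have h3 := h.eq_zero_of_mem_posBut hW hi (h2 ▸ mul_mem hb (inv_mem hgb))
    have : (ch - 1) * e = 0 := by linear_combination h3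
    exact sub_eq_zero.1 ((mul_eq_zero.1 this).resolve_right he)
  have hcomm : ∀ r < T.n, charOf T c r = 1 → ∀ y : K, X D r y ∈ Subgroup.centralizer {g} := by
    intro r hr he y
    have h1 := key r hr y
    rw [he, one_mul, mul_inv_eq_iff_eq_mul] at h1
    exact Subgroup.mem_centralizer_singleton_iff.2 h1.symm
  have hall : D.group K ≤ Subgroup.centralizer {g} := by
    have hn : ∀ i < T.l, ∀ y : K, X D (T.neg (T.simple i)) y ∈ Subgroup.centralizer {g} := fun i hi =>
      hcomm _ (Cert.neg_lt (T := T) (h.simple_lt hi)) (by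
        have h1 := (h.isChar_charOf hc0).mul_neg _ (h.simple_lt hi)
        rwa [hsimple i hi, one_mul] at h1)
    have hp : ∀ i < T.l, ∀ y : K, X D (T.simple i) y ∈ Subgroup.centralizer {g} := fun i hi =>
      hcomm _ (h.simple_lt hi) (hsimple i hi)
    refine h.group_le_of hp fun i hi => ?_
    rw [nS, h.simple_eq hi, nU, h.agrees.neg_eq (h.simple_lt hi)]
    exact mul_mem (mul_mem (hp i hi _) (hn i hi _)) (hp i hi _)
  exact h.eq_one_of_commute (h.diagonal_le_group hg) fun r hr =>
    Subgroup.mem_centralizer_singleton_iff.1 (hall (h.X_mem_group hr 1))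

/-- The criterion. -/
theorem eq_one_of_led {g : GL D.Idx K} (hg : g ∈ D.group K) {w : List ℕ} (hw : WordOK T w)
    (hneg : ∀ r, T.half ≤ r → r < T.n → rword T w r < T.half) (hc : Led D T g)
    (hc' : Led D T (nW D K w * g * (nW D K w)⁻¹)) : g = 1 := by
  have hwr : WordOK T w.reverse := fun i hi => hw i (List.mem_reverse.1 hi)
  set n₀ := nW D K w with hnd
  have hn := h.monomial_le_group (h.nW_mem_monomial (F := K) hw)
  have hg' : n₀ * g * n₀⁻¹ ∈ D.borelSubgroup K :=
    h.led_mem_borel hW (mul_mem (mul_mem hn hg) (inv_mem hn)) hc'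
  obtain ⟨u, hu, t, ht, e⟩ := h.mem_borel_iff.1 hg'
  have hneg' : g ∈ D.negUnipotent K ⊔ D.diagonalSubgroup K := by
    rw [show g = (n₀⁻¹ * u * n₀) * (n₀⁻¹ * t * n₀) by
      have : g = n₀⁻¹ * (n₀ * g * n₀⁻¹) * n₀ := by group
      rw [e] at this
      rw [this]; group]
    refine Subgroup.mul_mem_sup ?_ ?_
    · rw [h.negUnipotent_eq]
      rw [h.posUnipotent_eq] at hu
      have := conj_gen_le (g := n₀⁻¹) (S' := {r | r < T.half})
        (fun r (hr : r ∈ posSet T) => ⟨rword T w.reverse r, ?_, ?_⟩) hu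
      · simpa using this
      · show rword T w.reverse r < T.half
        by_contra hge
        have h1 := hneg _ (not_lt.1 hge) (h.rword_lt hwr hr.2)
        rw [h.rword_reverse hw hr.2] at h1
        exact absurd hr.1 (not_le.2 h1)
      · have h1 := Maps_inv (h.Maps_nW (F := K) hw (h.rword_lt hwr hr.2))
        rwa [h.rword_reverse hw hr.2] at h1
    · have := (Subgroup.mem_normalizer_iff.1 (h.monomial_le_normalizer_diagonal
        (inv_mem (h.nW_mem_monomial (F := K) hw))) t).1 ht
      simpa using this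
  have hgH : g ∈ D.diagonalSubgroup K := by
    rw [← h.borel_inf_negUnipotent_sup]
    exact Subgroup.mem_inf.2 ⟨h.led_mem_borel hW hg hc, hneg'⟩
  exact h.led_diagonal hW hgH hc

end Cert

end CfsgLib.Chev
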