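import Cfsg.Agent.Lib.Chev.TwistSubfieldFrame
import Cfsg.Agent.Lib.Chev.TwistD4Root
import Cfsg.Agent.Lib.Chev.SubfieldCentralData

/-!
The rational points of `³D₄(q)` over the fixed field of the twist are maximal.
-/

set_option autoImplicit false
set_option maxRecDepth 100000
set_option linter.unusedSectionVars false

namespace CfsgLib.Chev.SubD4

open Cfsg.Lie Matrix
open Cert (torusHom extC)

/-- The long orbits in `Q`. -/
def longs : List (ℕ × ℕ) := [(1, 14), (1, 22)]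
/-- The short orbits in `Q`. -/
def shorts : List (ℕ × ℕ) := [(3, 19), (3, 17)]

theorem frame_chk : tabD4.chkTwFrame twistD4a.rt = true := by decide +kernel
theorem orbs_chk : tabD4.chkOrbs twistD4a.rt (longs ++ shorts) = true := by decide +kernel
theorem sign_chk : ((List.range tabD4.n).all fun r =>
    decide (twistD4a.dg r = 1) && (decide (twistD4a.rt r ≠ r) || decide (twistD4a.ep r = 1))) = true := by
  decide +kernel
theorem comm_chk :
    ((shorts.all fun p => (List.range p.1).all fun j => chkCommute tabD4 22 (twistD4a.rt^[j] p.2)) &&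
      (shorts.tail.all fun p => (List.range p.1).all fun j =>
        chkCommute tabD4 9 (twistD4a.rt^[j] p.2))) = true := by decide +kernel
theorem word_chk :
    tabD4.chkFrameMove dataTwD4.CL [0] = true ∧
      rword tabD4 (clsWord dataTwD4.CL [0]) 17 = 19 ∧ rword tabD4 (clsWord dataTwD4.CL [1, 0]) 17 = 18 ∧
      rword tabD4 (clsWord dataTwD4.CL [1]) 19 = 18 ∧ rword tabD4 (clsWord dataTwD4.CL [1]) 18 = 19 ∧
      rword tabD4 (clsWord dataTwD4.CL [0]) 18 = 5 ∧
      rword tabD4 (clsWord dataTwD4.CL [1, 0, 1, 0, 1]) tabD4.top = 0 ∧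
      rword tabD4 (clsWord dataTwD4.CL [0, 1]) tabD4.top = 14 ∧
      rword tabD4 (clsWord dataTwD4.CL [1, 0, 1]) tabD4.top = 9 := by decide +kernel
theorem longest_chk :
    ((List.range tabD4.n).all fun r => decide (r < tabD4.half) ||
      decide (rword tabD4 (clsWord dataTwD4.CL [1, 0, 1, 0, 1, 0]) r < tabD4.half)) = true := by
  decide +kernel
theorem ρ_vals : twistD4a.rt 18 = 13 ∧ twistD4a.rt 13 = 12 ∧ twistD4a.rt 12 = 18 ∧
    twistD4a.rt 19 = 16 ∧ twistD4a.rt 16 = 15 ∧ twistD4a.rt 15 = 19 ∧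
    twistD4a.rt 17 = 20 ∧ twistD4a.rt 20 = 21 ∧ twistD4a.rt 21 = 17 ∧
    twistD4a.rt 5 = 10 ∧ twistD4a.rt 10 = 11 ∧ twistD4a.rt 11 = 5 ∧
    twistD4a.rt 9 = 9 ∧ twistD4a.rt 14 = 14 ∧ twistD4a.rt 22 = 22 := by decide +kernel
theorem ep_vals : twistD4a.ep 18 = 1 ∧ twistD4a.ep 13 = 1 ∧ twistD4a.ep 12 = 1 ∧
    twistD4a.ep 19 = -1 ∧ twistD4a.ep 16 = 1 ∧ twistD4a.ep 15 = -1 ∧
    twistD4a.ep 17 = -1 ∧ twistD4a.ep 20 = 1 ∧ twistD4a.ep 21 = -1 ∧
    twistD4a.ep 5 = 1 ∧ twistD4a.ep 10 = 1 ∧ twistD4a.ep 11 = 1 := by decide +kernel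
theorem orb_comm : (([[18, 13, 12], [19, 16, 15], [17, 20, 21], [5, 10, 11]] : List (List ℕ)).all fun l =>
    l.all fun a => l.all fun b => chkCommute tabD4 a b) = true := by decide +kernel

set_option synthInstance.maxSize 2000 in
theorem terms9 : tabD4.commTerms 22 0 = [((9 : ℕ), (1 : ℤ), (1 : ℕ), (1 : ℕ))] ∧
    tabD4.commTerms 9 19 = [((18 : ℕ), (1 : ℤ), (1 : ℕ), (1 : ℕ))] ∧
    tabD4.commTerms 9 16 = [((13 : ℕ), (-1 : ℤ), (1 : ℕ), (1 : ℕ))] ∧
    tabD4.commTerms 9 15 = [((12 : ℕ), (-1 : ℤ), (1 : ℕ), (1 : ℕ))] := by decide +kernel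
set_option synthInstance.maxSize 2000 in
theorem terms14 : tabD4.commTerms 14 18 = [((19 : ℕ), (1 : ℤ), (1 : ℕ), (1 : ℕ))] ∧
    tabD4.commTerms 14 13 = [((16 : ℕ), (-1 : ℤ), (1 : ℕ), (1 : ℕ))] ∧
    tabD4.commTerms 14 12 = [((15 : ℕ), (-1 : ℤ), (1 : ℕ), (1 : ℕ))] ∧
    tabD4.commTerms 14 15 = [] ∧ tabD4.commTerms 14 16 = [] ∧ tabD4.commTerms 14 19 = [] := by
  decide +kernel
set_option synthInstance.maxSize 2000 in
theorem terms12 : tabD4.commTerms 12 19 = [((20 : ℕ), (1 : ℤ), (1 : ℕ), (1 : ℕ))] ∧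
    tabD4.commTerms 12 16 = [((17 : ℕ), (1 : ℤ), (1 : ℕ), (1 : ℕ))] ∧
    tabD4.commTerms 12 21 = [((22 : ℕ), (1 : ℤ), (1 : ℕ), (1 : ℕ))] ∧
    tabD4.commTerms 12 15 = [] ∧ tabD4.commTerms 12 17 = [] ∧ tabD4.commTerms 12 20 = [] ∧
    tabD4.commTerms 12 22 = [] := by decide +kernel
set_option synthInstance.maxSize 2000 in
theorem terms13 : tabD4.commTerms 13 19 = [((21 : ℕ), (1 : ℤ), (1 : ℕ), (1 : ℕ))] ∧
    tabD4.commTerms 13 15 = [((17 : ℕ), (1 : ℤ), (1 : ℕ), (1 : ℕ))] ∧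
    tabD4.commTerms 13 20 = [((22 : ℕ), (1 : ℤ), (1 : ℕ), (1 : ℕ))] ∧
    tabD4.commTerms 13 16 = [] ∧ tabD4.commTerms 13 17 = [] ∧ tabD4.commTerms 13 21 = [] ∧
    tabD4.commTerms 13 22 = [] := by decide +kernel
set_option synthInstance.maxSize 2000 in
theorem terms18 : tabD4.commTerms 18 15 = [((20 : ℕ), (-1 : ℤ), (1 : ℕ), (1 : ℕ))] ∧
    tabD4.commTerms 18 16 = [((21 : ℕ), (-1 : ℤ), (1 : ℕ), (1 : ℕ))] ∧
    tabD4.commTerms 18 17 = [((22 : ℕ), (-1 : ℤ), (1 : ℕ), (1 : ℕ))] ∧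
    tabD4.commTerms 18 19 = [] ∧ tabD4.commTerms 18 20 = [] ∧ tabD4.commTerms 18 21 = [] ∧
    tabD4.commTerms 18 22 = [] := by decide +kernel

theorem levi_chk : ([18, 13, 12].all fun a => tabD4.qList.all fun r =>
    decide (r ≠ a ∧ r ≠ tabD4.neg a) && tabD4.inQ r &&
      (tabD4.commTerms a r).all fun c => tabD4.inQ c.1) = true := by decide +kernel
theorem facts : tabD4.n = 24 ∧ tabD4.half = 12 ∧ tabD4.l = 4 ∧ tabD4.top = 23 ∧
    tabD4.simple 0 = 18 ∧ tabD4.simple 1 = 14 ∧ tabD4.simple 2 = 13 ∧ tabD4.simple 3 = 12 ∧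
    (∀ r, tabD4.neg r = 23 - r) ∧ (∀ r ∈ [14, 15, 16, 17, 19, 20, 21, 22, 23], tabD4.inQ r = true) :=
  ⟨rfl, rfl, rfl, rfl, by decide +kernel, by decide +kernel, by decide +kernel, by decide +kernel,
    fun _ => rfl, by decide +kernel⟩

variable {K : Type*} [Field K] [Fintype K] {q : ℕ}

/-- The setting. -/
structure Setting (f : K →+* K) (k : Subfield K) (q : ℕ) : Prop where
  hf : ∀ t, f t = t ^ q
  hK : Fintype.card K = q ^ 3
  hq : IsPrimePow q
  hk : ∀ x, x ∈ k ↔ x ^ q = x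

variable {f : K →+* K} {k : Subfield K} (hs : Setting f k q)
include hs

lemma fff (t : K) : f (f (f t)) = t := by
  rw [hs.hf, hs.hf, hs.hf, pow_cubeD4 hs.hK]

lemma over' {H : Subgroup (GL chevD4.Idx K)} (hle : H ≤ twistedD4 K q)
    (hM : ∀ g ∈ twistedD4 K q, mapGL chevD4 f g = g → g ∈ H) :
    TOver (endoD4 f) f k twistD4a.ep H := by
  have hsign := sign_chk
  simp only [List.all_eq_true, List.mem_range, Bool.and_eq_true, Bool.or_eq_true,
    decide_eq_true_eq] at hsign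
  have heq := fix_eq_twistedD4 f hs.hf hs.hK hs.hq
  refine ⟨fun x => by rw [hs.hk, hs.hf], fun r hr t => ?_, fun r hr hρ => ?_, frame_chk, ?_, ?_⟩
  · show (twistD4a.ep r : K) * f t ^ twistD4a.dg r = _
    rw [(hsign r hr).1, pow_one]
  · exact (hsign r hr).2.resolve_left fun e => e hρ
  · rw [heq]; exact hle
  · rw [heq]; exact hM

lemma clsW : ClsW (endoD4 f) dataTwD4.CL := by
  have hK := pow_cubeD4 (K := K) hs.hK
  refine ⟨(dataOK_D4 f).cls, fun c hc => twistedD4_le_fix f hs.hf hK ?_⟩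
  have hf := hs.hf
  simp only [dataTwD4, List.mem_cons, List.not_mem_nil, or_false] at hc
  rcases hc with rfl | rfl
  · have := nU_triple_memD4 f hf (1 : K)
    rw [one_pow, one_pow] at this
    simpa [nW, mul_assoc, nS_simpleD4 f hf (show 0 < tabD4.l by decide),
      nS_simpleD4 f hf (show 2 < tabD4.l by decide), nS_simpleD4 f hf (show 3 < tabD4.l by decide),
      show tabD4.simple 0 = d4p1 by decide +kernel, show tabD4.simple 2 = d4p3 by decide +kernel,
      show tabD4.simple 3 = d4p4 by decide +kernel] using this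
  · have := nU_single_memD4 f hf (t := (1 : K)) (one_pow q)
    simpa [nW, nS_simpleD4 f hf (show 1 < tabD4.l by decide),
      show tabD4.simple 1 = d4p2 by decide +kernel] using this

variable {H : Subgroup (GL chevD4.Idx K)} (ho : TOver (endoD4 f) f k twistD4a.ep H)
include ho

/-- One step of the parameters. -/
lemma τ_one {r : ℕ} (hr : r < 24) (v : K) :
    (endoD4 f).τ r v = (twistD4a.ep r : K) * f v := ho.τ_eq r hr v

/-- The four short orbits used. -/
lemma orb3 {x y z : ℕ} (hl : [x, y, z] ∈ ([[18, 13, 12], [19, 16, 15], [17, 20, 21], [5, 10, 11]] : List (List ℕ))) :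
    (endoD4 f).OrbOK 3 x ∧ (∀ t, (endoD4 f).τn 3 x t = t) ∧
      ∀ t, (endoD4 f).orbElt 3 x t = wordX chevD4
        [(x, t), (y, (twistD4a.ep x : K) * f t), (z, (twistD4a.ep y : K) * (twistD4a.ep x : K) * f (f t))] := by
  have hc := orb_comm
  simp only [List.all_eq_true] at hc
  have hd : x < 24 ∧ y < 24 ∧ z < 24 ∧ twistD4a.rt x = y ∧ twistD4a.rt y = z ∧ twistD4a.rt z = x ∧
      twistD4a.ep z * twistD4a.ep y * twistD4a.ep x = 1 := by
    obtain ⟨a1, a2, a3, a4, a5, a6, a7, a8, a9, a10, a11, a12, -⟩ := ρ_vals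
    obtain ⟨b1, b2, b3, b4, b5, b6, b7, b8, b9, b10, b11, b12⟩ := ep_vals
    simp only [List.mem_cons, List.not_mem_nil, or_false, List.cons.injEq, and_true] at hl
    rcases hl with ⟨rfl, rfl, rfl⟩ | ⟨rfl, rfl, rfl⟩ | ⟨rfl, rfl, rfl⟩ | ⟨rfl, rfl, rfl⟩
    · exact ⟨by omega, by omega, by omega, a1, a2, a3, by rw [b1, b2, b3]; rfl⟩
    · exact ⟨by omega, by omega, by omega, a4, a5, a6, by rw [b4, b5, b6]; rfl⟩
    · exact ⟨by omega, by omega, by omega, a7, a8, a9, by rw [b7, b8, b9]; rfl⟩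
    · exact ⟨by omega, by omega, by omega, a10, a11, a12, by rw [b10, b11, b12]; rfl⟩
  obtain ⟨hx, hy, hz, rx, ry, rz, hep⟩ := hd
  have ρx : (endoD4 f).ρ x = y := rx
  have ρy : (endoD4 f).ρ y = z := ry
  have ρz : (endoD4 f).ρ z = x := rz
  have h1 : ∀ t, (endoD4 f).τn 1 x t = (twistD4a.ep x : K) * f t := fun t => τ_one hs ho hx t
  have h2 : ∀ t, (endoD4 f).τn 2 x t = (twistD4a.ep y : K) * (twistD4a.ep x : K) * f (f t) := fun t => by
    show (endoD4 f).τ ((endoD4 f).ρ x) ((endoD4 f).τn 1 x t) = _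
    rw [ρx, h1, τ_one hs ho hy, map_mul, map_intCast, mul_assoc]
  refine ⟨Endo.orbOK_three hx (by rw [ρx, ρy, ρz]) (fun t u => ?_) (fun t u => ?_) (fun t u => ?_),
    fun t => ?_, fun t => ?_⟩
  · rw [ρx]; exact certD4.commute_X (hc _ hl x (by simp) y (by simp)) t u
  · rw [ρx, ρy]; exact certD4.commute_X (hc _ hl x (by simp) z (by simp)) t u
  · rw [ρx, ρy]; exact certD4.commute_X (hc _ hl y (by simp) z (by simp)) t u
  · show (endoD4 f).τ ((endoD4 f).ρ^[2] x) ((endoD4 f).τn 2 x t) = t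
    rw [show (endoD4 f).ρ^[2] x = z by rw [← ρy, ← ρx]; rfl, h2, τ_one hs ho hz, map_mul, map_mul,
      map_intCast, map_intCast, fff hs]
    calc (twistD4a.ep z : K) * ((twistD4a.ep y : K) * (twistD4a.ep x : K) * t)
        = ((twistD4a.ep z * twistD4a.ep y * twistD4a.ep x : ℤ) : K) * t := by push_cast; ring
      _ = t := by rw [hep, Int.cast_one, one_mul]
  · rw [TOver.orbElt_eq_wordX]
    simp only [List.range_succ, List.range_zero, List.nil_append, List.cons_append, List.map_cons,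
      List.map_nil, h1, h2]
    congr 2
    · rw [show (endoD4 f).ρ^[1] x = y from ρx, show (endoD4 f).ρ^[2] x = z by rw [← ρy, ← ρx]; rfl]

lemma orb18 (t : K) :
    (endoD4 f).orbElt 3 18 t = wordX chevD4 [(18, t), (13, f t), (12, f (f t))] := by
  rw [(orb3 hs ho (y := 13) (z := 12) (by simp)).2.2 t, ep_vals.1, ep_vals.2.1]
  simp

lemma orb19 (t : K) :
    (endoD4 f).orbElt 3 19 t = wordX chevD4 [(19, t), (16, -f t), (15, -f (f t))] := by
  rw [(orb3 hs ho (y := 16) (z := 15) (by simp)).2.2 t, ep_vals.2.2.2.1, ep_vals.2.2.2.2.1]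
  simp

lemma orb17 (t : K) :
    (endoD4 f).orbElt 3 17 t = wordX chevD4 [(17, t), (20, -f t), (21, -f (f t))] := by
  rw [(orb3 hs ho (y := 20) (z := 21) (by simp)).2.2 t, ep_vals.2.2.2.2.2.2.1,
    ep_vals.2.2.2.2.2.2.2.1]
  simp

/-- The two short coordinates of an element of `H` in `Q`. -/
lemma strip_mem {w : List (ℕ × K)} (hw : ∀ p ∈ w, tabD4.inQ p.1 = true) (hH : wordX chevD4 w ∈ H) :
    (endoD4 f).orbElt 3 19 (cw w 19) * (endoD4 f).orbElt 3 17 (cw w 17) ∈ H := by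
  have hf := ho.frame
  obtain ⟨t, ht⟩ := certD4.exists_prodX_Qgrp hf (Cert.wordX_mem_Qgrp (D := chevD4) hw)
  have hfix := ho.le hH
  rw [ht] at hfix hH
  obtain ⟨hadm, z, hz, eq⟩ := ho.orb_form orbs_chk hfix
  have htop := (certD4.frame_top hf).2.1
  have hmem : ∀ r ∈ [19, 17], r ∈ tabD4.qList ∧ r ≠ tabD4.top := by decide +kernel
  have hc : ∀ r ∈ [19, 17], t r = cw w r := fun r hr => certD4.coord_of_word hf hw (z := 0)
    (by rw [certD4.X_zero htop, mul_one, ← ht]) (hmem r hr).1 (hmem r hr).2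
  rw [← hc 19 (by simp), ← hc 17 (by simp)]
  rw [eq, List.map_append, List.prod_append, mul_assoc] at hH
  have hA : (longs.map fun p => (endoD4 f).orbElt p.1 p.2 (t p.2)).prod ∈ H := by
    refine list_prod_mem fun g hg => ?_
    obtain ⟨p, hp, rfl⟩ := List.mem_map.1 hg
    have hp' : p ∈ longs ++ shorts := List.mem_append_left _ hp
    have hk : t p.2 ∈ k := by
      obtain ⟨m, x⟩ := p
      obtain rfl : m = 1 := by revert hp; simp [longs]; omega
      have ok : (endoD4 f).OrbOK 1 x := TOver.orbOK_of_chk orbs_chk hp'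
      have h1 := hadm _ hp'
      rw [show (endoD4 f).τn 1 x (t x) = (endoD4 f).τ x (t x) from rfl, ho.τ_fixed ok.lt ok.cyc] at h1
      exact (ho.mem_k _).2 h1
    exact ho.orbElt_mem (TOver.orbOK_of_chk orbs_chk hp') (hadm p hp') hk
  have h1 := mul_mem (inv_mem hA) hH
  rw [inv_mul_cancel_left] at h1
  have h2 := mul_mem h1 (inv_mem (ho.X_mem htop ho.ρ_top.1 hz))
  rw [mul_inv_cancel_right] at h2
  simpa [shorts] using h2

/-- The commutator of the orbit of `18` with the long root element at `14`. -/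
noncomputable def eW (f : K →+* K) (u : K) : List (ℕ × K) :=
  [(19, u), (16, -f u), (21, u * f u), (15, -f (f u)), (20, u * f (f u)), (17, -(f u * f (f u))),
    (22, u * (f u * f (f u)))]

lemma eW_eq (u : K) :
    X chevD4 14 1 * (endoD4 f).orbElt 3 18 u * (X chevD4 14 (1 : K))⁻¹ *
      ((endoD4 f).orbElt 3 18 u)⁻¹ = wordX chevD4 (eW f u) := by
  obtain ⟨t18, t13, t12, -⟩ := terms14
  obtain ⟨-, -, -, a4, a5, a6, a7⟩ := terms13
  obtain ⟨b15, b16, b17, b19, -⟩ := terms18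
  obtain ⟨-, c15, -⟩ := terms13
  obtain ⟨hn, -, -, -, -, -, -, -, hneg, -⟩ := facts
  have hw0 : ∀ (a : ℕ) (L : List ℕ), a < 24 → (∀ r ∈ L, r < 24 ∧ r ≠ a ∧ r ≠ 23 - a) →
      ∀ w : List (ℕ × K), w.map Prod.fst = L →
        ∀ p ∈ w, p.1 < tabD4.n ∧ p.1 ≠ a ∧ p.1 ≠ tabD4.neg a := fun a L _ hL w hw p hp => by
    rw [hn, hneg]; exact hL _ (hw ▸ List.mem_map_of_mem hp)
  have e14 := certD4.conj_wordX (show 14 < tabD4.n by rw [hn]; norm_num) (1 : K)
    [(18, u), (13, f u), (12, f (f u))] (hw0 14 [18, 13, 12] (by norm_num) (by decide) _ rfl)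
  have hinv : (wordX chevD4 [(18, u), (13, f u), (12, f (f u))] : GL chevD4.Idx K)⁻¹ =
      wordX chevD4 [(12, -f (f u)), (13, -f u), (18, -u)] := by
    refine inv_eq_of_mul_eq_one_right ?_
    simp only [wordX, List.map_cons, List.map_nil, List.prod_cons, List.prod_nil, mul_one]
    rw [← certD4.X_inv (show 12 < tabD4.n by rw [hn]; norm_num),
      ← certD4.X_inv (show 13 < tabD4.n by rw [hn]; norm_num),
      ← certD4.X_inv (show 18 < tabD4.n by rw [hn]; norm_num)]
    group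
  rw [orb18 hs ho, e14, hinv]
  have e13 := certD4.conj_wordX (show 13 < tabD4.n by rw [hn]; norm_num) (f u)
    [(16, -f u), (15, -f (f u))] (hw0 13 [16, 15] (by norm_num) (by decide) _ rfl)
  have e18 := certD4.conj_wordX (show 18 < tabD4.n by rw [hn]; norm_num) u
    [(19, u), (16, -f u), (15, -f (f u)), (17, -(f u * f (f u)))]
    (hw0 18 [19, 16, 15, 17] (by norm_num) (by decide) _ rfl)
  simp only [wordX, eW, List.flatMap_cons, List.flatMap_nil, Tab.cj, t18, t13, t12, a4, c15, b15, b16, b17,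
    b19, List.map_cons, List.map_nil, List.append_nil, List.cons_append, List.nil_append,
    List.prod_cons, List.prod_nil, mul_one, pow_one, Int.cast_one, Int.cast_neg, neg_mul, one_mul,
    mul_neg, _root_.neg_neg] at e13 e18 ⊢
  have c1 : ∀ a b : ℕ, chkCommute tabD4 a b = true → ∀ x y : K,
      X chevD4 a x * X chevD4 b y = (X chevD4 b y * X chevD4 a x : GL chevD4.Idx K) :=
    fun a b hab x y => (certD4.commute_X hab x y).eq
  rw [← certD4.X_inv (show 12 < tabD4.n by rw [hn]; norm_num),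
    ← certD4.X_inv (show 13 < tabD4.n by rw [hn]; norm_num),
    ← certD4.X_inv (show 18 < tabD4.n by rw [hn]; norm_num)]
  rw [← e18, ← e13]
  generalize hA : X chevD4 18 u = A
  generalize hB : X chevD4 19 u = B
  generalize hA3 : X chevD4 13 (f u) = A3
  generalize hB6 : X chevD4 16 (-f u) = B6
  generalize hA2 : X chevD4 12 (f (f u)) = A2
  generalize hB5 : X chevD4 15 (-f (f u)) = B5
  have k1 : A2 * B5 = B5 * A2 := hA2 ▸ hB5 ▸ c1 12 15 (by decide +kernel) _ _
  have k2 : A3 * B6 = B6 * A3 := hA3 ▸ hB6 ▸ c1 13 16 (by decide +kernel) _ _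
  have k3 : A * B = B * A := hA ▸ hB ▸ c1 18 19 (by decide +kernel) _ _
  calc A * (B * (A3 * (B6 * (A2 * B5)))) * (A2⁻¹ * (A3⁻¹ * A⁻¹))
      = A * (B * (A3 * (B6 * B5) * A3⁻¹)) * A⁻¹ := by rw [k1]; group
    _ = _ := by group

lemma eW_inQ (u : K) : ∀ p ∈ eW f u, tabD4.inQ p.1 = true := by
  intro p hp
  refine facts.2.2.2.2.2.2.2.2.2 _ ?_
  simp only [eW, List.mem_cons, List.not_mem_nil, or_false] at hp
  rcases hp with rfl | rfl | rfl | rfl | rfl | rfl | rfl <;> simp

/-- What the commutator gives. -/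
lemma of_eW {u : K} (hH : wordX chevD4 (eW f u) ∈ H) :
    (endoD4 f).orbElt 3 19 u * (endoD4 f).orbElt 3 17 (-(f u * f (f u))) ∈ H := by
  have := strip_mem hs ho (eW_inQ hs ho u) hH
  simpa [eW, cw] using this

lemma X14_mem : X chevD4 14 (1 : K) ∈ H ∧ X chevD4 14 (1 : K) ∈ (endoD4 f).fix := by
  have h : 14 < tabD4.n := by decide +kernel
  exact ⟨ho.X_mem h ρ_vals.2.2.2.2.2.2.2.2.2.2.2.2.2.1 (one_mem k),
    ho.X_mem_fix h ρ_vals.2.2.2.2.2.2.2.2.2.2.2.2.2.1 (one_mem k)⟩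

/-- The orbit element of `18` with parameter one applied to two short coordinates. -/
lemma of_pair {v v' : K}
    (hH : (endoD4 f).orbElt 3 19 v * (endoD4 f).orbElt 3 17 v' ∈ H) :
    (endoD4 f).orbElt 3 17 (-(f v + f (f v))) ∈ H := by
  obtain ⟨hn, -, -, -, -, -, -, -, hneg, hQ⟩ := facts
  obtain ⟨x19, x16, x21, x15, x17, x20, x22⟩ := terms12
  obtain ⟨y19, y15, y20, y16, y17, y21, y22⟩ := terms13
  obtain ⟨z15, z16, z17, z19, z20, z21, z22⟩ := terms18
  have ok := orb3 hs ho (x := 18) (y := 13) (z := 12) (by simp)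
  have hO : (endoD4 f).orbElt 3 18 1 ∈ H := ho.orbElt_mem ok.1 (ok.2.1 1) (one_mem k)
  set P := (endoD4 f).orbElt 3 19 v * (endoD4 f).orbElt 3 17 v' with hP
  set w : List (ℕ × K) := [(19, v), (16, -f v), (15, -f (f v)), (17, v'), (20, -f v'), (21, -f (f v'))]
  set w' : List (ℕ × K) := [(21, f (f v')), (20, f v'), (17, -v'), (15, f (f v)), (16, f v), (19, -v)]
  have eP : P = wordX chevD4 w := by
    rw [hP, orb19 hs ho, orb17 hs ho, ← wordX_append]; rfl
  have eP' : P⁻¹ = wordX chevD4 w' := by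
    have hi : ∀ r, r < 24 → ∀ x : K, X chevD4 r (-x) = (X chevD4 r x : GL chevD4.Idx K)⁻¹ :=
      fun r hr x => (certD4.X_inv (by rw [hn]; exact hr) x).symm
    rw [eP]
    simp only [w, w', wordX, List.map_cons, List.map_nil, List.prod_cons, List.prod_nil, mul_one]
    rw [hi 16 (by norm_num), hi 15 (by norm_num), hi 20 (by norm_num), hi 21 (by norm_num),
      hi 17 (by norm_num), hi 19 (by norm_num)]
    group
  set w'' := ((w.flatMap (tabD4.cj 12 (1 : K))).flatMap (tabD4.cj 13 (1 : K))).flatMap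
    (tabD4.cj 18 (1 : K)) ++ w' with hw''
  have hsimp : w'' = [(19, v), (21, v), (20, v), (22, -0 + v), (16, -f v), (21, f v), (17, -f v), (22, f v),
      (15, -f (f v)), (20, f (f v)), (17, -f (f v)), (22, f (f v)), (17, v'), (22, -v'), (20, -f v'),
      (22, -f v'), (21, -f (f v')), (22, -f (f v'))] ++ w' ∨ True := Or.inr trivial
  clear hsimp
  have hexp : ∀ p ∈ w'', p.1 ∈ [14, 15, 16, 17, 19, 20, 21, 22, 23] := by
    simp [w'', w, w', Tab.cj, x19, x16, x21, x15, x17, x20, y19, y15, y20, y16, y17, y21, y22, z15,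
      z16, z17, z19, z20, z21, z22]
  have hcj : ∀ (a : ℕ) (l : List (ℕ × K)), a ∈ [12, 13, 18] →
      (∀ p ∈ l, p.1 ∈ [15, 16, 17, 19, 20, 21, 22]) →
      X chevD4 a (1 : K) * wordX chevD4 l * (X chevD4 a (1 : K))⁻¹ =
        wordX chevD4 (l.flatMap (tabD4.cj a (1 : K))) := fun a l ha hl =>
    certD4.conj_wordX (by rw [hn]; simp at ha; omega) 1 l fun p hp => by
      have := hl p hp
      simp only [List.mem_cons, List.not_mem_nil, or_false] at this ha
      rw [hn, hneg]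
      omega
  have e : (endoD4 f).orbElt 3 18 1 * P * ((endoD4 f).orbElt 3 18 1)⁻¹ * P⁻¹ = wordX chevD4 w'' := by
    rw [hw'', wordX_append, ← hcj 18 _ (by simp) ?_, ← hcj 13 _ (by simp) ?_, ← hcj 12 _ (by simp) ?_,
      ← eP, ← eP', orb18 hs ho, map_one, map_one]
    · simp only [wordX, List.map_cons, List.map_nil, List.prod_cons, List.prod_nil, mul_one]
      group
    · simp [w]
    · simp [w, Tab.cj, x19, x16, x21, x15, x17, x20]
    · simp [w, Tab.cj, x19, x16, x21, x15, x17, x20, y19, y15, y20, y16, y17, y21, y22]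
  have h1 := mul_mem (mul_mem (mul_mem hO hH) (inv_mem hO)) (inv_mem hH)
  rw [e] at h1
  have h2 := strip_mem hs ho (fun p hp => hQ _ (hexp p hp)) h1
  have c19 : cw w'' 19 = 0 := by
    simp [w'', w, w', cw, Tab.cj, x19, x16, x21, x15, x17, x20, y19, y15, y20, y16, y17, y21, y22,
      z15, z16, z17, z19, z20, z21, z22]
  have c17 : cw w'' 17 = -(f v + f (f v)) := by
    simp [w'', w, w', cw, Tab.cj, x19, x16, x21, x15, x17, x20, y19, y15, y20, y16, y17, y21, y22,
      z15, z16, z17, z19, z20, z21, z22]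
    ring
  rw [c19, c17, (endoD4 f).orbElt_zero (orb3 hs ho (x := 19) (y := 16) (z := 15) (by simp)).1,
    one_mul] at h2
  exact h2

/-- An irrational coordinate at `19` gives an irrational orbit element at `17`. -/
lemma exists_irr (hR : ¬ TRat (endoD4 f) k H 19) :
    ∃ v : K, v ∉ k ∧ (endoD4 f).orbElt 3 17 v ∈ H := by
  simp only [TRat, not_forall] at hR
  obtain ⟨c, t, hS, hts⟩ := hR
  obtain ⟨hn, -, -, -, -, -, -, -, hneg, hQ⟩ := facts
  obtain ⟨r9, r14, r22⟩ : twistD4a.rt 9 = 9 ∧ twistD4a.rt 14 = 14 ∧ twistD4a.rt 22 = 22 :=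
    ρ_vals.2.2.2.2.2.2.2.2.2.2.2.2
  obtain ⟨t22, d19, d16, d15⟩ := terms9
  have hck := hS.2.1
  have hcomm := comm_chk
  simp only [Bool.and_eq_true] at hcomm
  obtain ⟨c22, c9⟩ := hcomm
  have h1 := ho.exists_strip orbs_chk (by decide) hS
  set P := (shorts.map fun p => (endoD4 f).orbElt p.1 p.2 (t p.2)).prod with hP
  have h2 := ho.peel (show 22 < tabD4.n by rw [hn]; norm_num) r22 (show 0 < tabD4.n by rw [hn]; norm_num)
    (by norm_num) (by rw [hneg]; norm_num) t22 (ho.commute_orbs c22 1 t) h1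
  rw [Int.cast_one, one_mul] at h2
  have h9 : 9 < tabD4.n := by rw [hn]; norm_num
  have h3 := mul_mem h2 (inv_mem (ho.X_mem h9 r9 hck))
  set P' := (shorts.tail.map fun p => (endoD4 f).orbElt p.1 p.2 (t p.2)).prod with hP'
  have hcP : Commute (X chevD4 9 c) P' := ho.commute_orbs c9 c t
  have eP : P = (endoD4 f).orbElt 3 19 (t 19) * P' := by
    rw [hP, hP', show shorts = (3, 19) :: shorts.tail from rfl, List.map_cons, List.prod_cons]
    rfl
  rw [← hP, eP, show (endoD4 f).orbElt 3 19 (t 19) * P' * X chevD4 9 c *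
      ((endoD4 f).orbElt 3 19 (t 19) * P')⁻¹ = (endoD4 f).orbElt 3 19 (t 19) *
      (P' * X chevD4 9 c * P'⁻¹) * ((endoD4 f).orbElt 3 19 (t 19))⁻¹ by group,
    ← hcP.eq, mul_inv_cancel_right] at h3
  set s := t 19
  set u := -(c * s) with hu
  set Z := (endoD4 f).orbElt 3 19 s * X chevD4 9 c * ((endoD4 f).orbElt 3 19 s)⁻¹ *
    (X chevD4 9 c)⁻¹ with hZ
  have ok19 := orb3 hs ho (x := 19) (y := 16) (z := 15) (by simp)
  have ok18 := orb3 hs ho (x := 18) (y := 13) (z := 12) (by simp)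
  -- the Levi part
  have hconj : ∀ a ∈ [18, 13, 12], ∀ (x : K), ∀ g ∈ Qgrp chevD4 tabD4 K,
      X chevD4 a x * g * (X chevD4 a x)⁻¹ ∈ Qgrp chevD4 tabD4 K := by
    intro a ha x g hg
    have hl := levi_chk
    simp only [List.all_eq_true, Bool.and_eq_true, decide_eq_true_eq] at hl
    have han : a < tabD4.n := by rw [hn]; simp at ha; omega
    obtain ⟨tg, rfl⟩ := certD4.exists_prodX_Qgrp ho.frame hg
    rw [prodX_eq_wordX, certD4.conj_wordX han x _ (fun p hp => by
      obtain ⟨r, hr, rfl⟩ := List.mem_map.1 hp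
      exact ⟨(Cert.inQ_lt (hl a ha r hr).1.2).2, (hl a ha r hr).1.1⟩)]
    refine Cert.wordX_mem_Qgrp fun p hp => ?_
    obtain ⟨e, he, hp⟩ := List.mem_flatMap.1 hp
    obtain ⟨r, hr, rfl⟩ := List.mem_map.1 he
    rcases List.mem_cons.1 hp with rfl | hp
    · exact (hl a ha r hr).1.2
    · obtain ⟨cc, hcc, rfl⟩ := List.mem_map.1 hp
      exact (hl a ha r hr).2 cc hcc
  have hXQ : ∀ r ∈ [14, 15, 16, 17, 19, 20, 21, 22, 23], ∀ x : K,
      X chevD4 r x ∈ Qgrp chevD4 tabD4 K := fun r hr x => X_mem_gen chevD4 (hQ r hr) x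
  obtain ⟨R, hRQ, hRZ⟩ : ∃ R ∈ Qgrp chevD4 tabD4 K, Z = R * (endoD4 f).orbElt 3 18 u := by
    refine ⟨Z * ((endoD4 f).orbElt 3 18 u)⁻¹, ?_, by rw [inv_mul_cancel_right]⟩
    have e9 := certD4.conj_wordX h9 c [(19, -s), (16, f s), (15, f (f s))] (by
      intro p hp
      simp only [List.mem_cons, List.not_mem_nil, or_false] at hp
      rw [hn, hneg]
      rcases hp with rfl | rfl | rfl <;> norm_num)
    simp only [wordX, List.flatMap_cons, List.flatMap_nil, Tab.cj, d19, d16, d15, List.map_cons,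
      List.map_nil, List.append_nil, List.cons_append, List.nil_append, List.prod_cons, List.prod_nil,
      mul_one, pow_one, Int.cast_one, Int.cast_neg, neg_mul, one_mul, mul_neg] at e9
    have hfc := (ho.mem_k c).1 hck
    rw [hZ, (endoD4 f).orbElt_inv ok19.1, orb19 hs ho, orb19 hs ho, orb18 hs ho, hu]
    simp only [wordX, List.map_cons, List.map_nil, List.prod_cons, List.prod_nil, mul_one, map_neg,
      map_mul, hfc, _root_.neg_neg]
    rw [show X chevD4 19 s * (X chevD4 16 (-f s) * X chevD4 15 (-f (f s))) * X chevD4 9 c *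
      (X chevD4 19 (-s) * (X chevD4 16 (f s) * X chevD4 15 (f (f s)))) * (X chevD4 9 c)⁻¹ =
      X chevD4 19 s * (X chevD4 16 (-f s) * X chevD4 15 (-f (f s))) * (X chevD4 9 c *
      (X chevD4 19 (-s) * (X chevD4 16 (f s) * X chevD4 15 (f (f s)))) * (X chevD4 9 c)⁻¹) by group,
      e9]
    generalize hA : X chevD4 18 (-(c * s)) = A
    generalize hA3 : X chevD4 13 (-(c * f s)) = A3
    generalize hA2 : X chevD4 12 (-(c * f (f s))) = A2
    generalize hb : X chevD4 15 (f (f s)) = b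
    generalize hb' : X chevD4 16 (f s) = b'
    rw [show X chevD4 19 s * (X chevD4 16 (-f s) * X chevD4 15 (-f (f s))) *
      (X chevD4 19 (-s) * (A * (b' * (A3 * (b * A2))))) * (A * (A3 * A2))⁻¹ =
      X chevD4 19 s * (X chevD4 16 (-f s) * X chevD4 15 (-f (f s))) *
      (X chevD4 19 (-s) * (A * (b' * (A3 * b * A3⁻¹)) * A⁻¹)) by group]
    refine mul_mem (mul_mem (hXQ _ (by simp) _) (mul_mem (hXQ _ (by simp) _) (hXQ _ (by simp) _)))
      (mul_mem (hXQ _ (by simp) _) ?_)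
    rw [← hA]
    refine hconj 18 (by simp) _ _ (mul_mem (hb' ▸ hXQ _ (by simp) _) ?_)
    rw [← hA3]
    exact hconj 13 (by simp) _ _ (hb ▸ hXQ _ (by simp) _)
  obtain ⟨h14, h14f⟩ := X14_mem hs ho
  have hT := mul_mem (mul_mem (mul_mem h14 h3) (inv_mem h14)) (inv_mem h3)
  set O := (endoD4 f).orbElt 3 18 u
  obtain ⟨v1, hv1⟩ := certD4.exists_Brk ho.frame (hQ 14 (by simp)) hRQ
  have e14R : X chevD4 14 (1 : K) * R * (X chevD4 14 (1 : K))⁻¹ = R * X chevD4 tabD4.top v1 := by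
    rw [hv1 1, one_mul, mul_assoc (R * _), ← (certD4.Qgrp_commute_top ho.frame
      (inv_mem (hXQ 14 (by simp) 1)) v1).eq, ← mul_assoc, mul_inv_cancel_right]
  have eO := eW_eq hs ho u
  have hWQ : wordX chevD4 (eW f u) ∈ Qgrp chevD4 tabD4 K := Cert.wordX_mem_Qgrp (eW_inQ hs ho u)
  obtain ⟨v2, hv2⟩ := certD4.Qgrp_comm_top ho.frame
    (mul_mem hRQ (certD4.X_top_mem_Qgrp ho.frame v1)) hWQ
  have htop := (certD4.frame_top ho.frame).2.1
  have eT : X chevD4 14 (1 : K) * Z * (X chevD4 14 (1 : K))⁻¹ * Z⁻¹ =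
      wordX chevD4 (eW f u) * X chevD4 tabD4.top (v1 + v2) := by
    rw [hRZ]
    calc X chevD4 14 (1 : K) * (R * O) * (X chevD4 14 (1 : K))⁻¹ * (R * O)⁻¹
        = (X chevD4 14 (1 : K) * R * (X chevD4 14 (1 : K))⁻¹) *
            (X chevD4 14 (1 : K) * O * (X chevD4 14 (1 : K))⁻¹ * O⁻¹) * R⁻¹ := by group
      _ = R * X chevD4 tabD4.top v1 * wordX chevD4 (eW f u) * R⁻¹ := by rw [e14R, eO]
      _ = wordX chevD4 (eW f u) * R * (X chevD4 tabD4.top v1 * X chevD4 tabD4.top v2) * R⁻¹ := by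
          rw [hv2]; group
      _ = _ := by
          rw [certD4.X_add htop, mul_assoc (wordX chevD4 (eW f u)) R,
            (certD4.Qgrp_commute_top ho.frame hRQ _).eq, mul_assoc, mul_inv_cancel_right]
  rw [eT] at hT
  have hW : wordX chevD4 (eW f u) ∈ (endoD4 f).fix := by
    rw [← eO]
    have hO := (endoD4 f).orbElt_mem_fix ok18.1 (ok18.2.1 u)
    exact mul_mem (mul_mem (mul_mem h14f hO) (inv_mem h14f)) (inv_mem hO)
  have hv : v1 + v2 ∈ k := ho.mem_of_X_fix htop ho.ρ_top.1 (by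
    simpa using mul_mem (inv_mem hW) (ho.le hT))
  have hWH : wordX chevD4 (eW f u) ∈ H := by
    simpa using mul_mem hT (inv_mem (ho.X_mem htop ho.ρ_top.1 hv))
  refine ⟨-(f u + f (f u)), fun hh => hts ?_, of_pair hs ho (of_eW hs ho hWH)⟩
  have hT' : u + f u + f (f u) ∈ k := (ho.mem_k _).2 (by rw [map_add, map_add, fff hs]; ring)
  have huk : u ∈ k := by
    have := add_mem hT' hh
    rwa [show u + f u + f (f u) + -(f u + f (f u)) = u by ring] at this
  have := mul_mem (inv_mem hck) (neg_mem huk)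
  rwa [hu, _root_.neg_neg, inv_mul_cancel_left₀ hS.1] at this

/-- An irrational orbit element gives everything. -/
lemma twisted_le {v : K} (hv : v ∉ k) (hvH : (endoD4 f).orbElt 3 17 v ∈ H) :
    twistedD4 K q ≤ H := by
  have hC := clsW hs
  obtain ⟨-, -, w17, w19, w18, w5, -⟩ := word_chk
  obtain ⟨ok18, a18, -⟩ := orb3 hs ho (x := 18) (y := 13) (z := 12) (by simp)
  obtain ⟨ok19, a19, -⟩ := orb3 hs ho (x := 19) (y := 16) (z := 15) (by simp)
  obtain ⟨ok17, a17, -⟩ := orb3 hs ho (x := 17) (y := 20) (z := 21) (by simp)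
  obtain ⟨ok5, a5, e5⟩ := orb3 hs ho (x := 5) (y := 10) (z := 11) (by simp)
  let S : AddSubgroup K := Endo.parGroup H ok18
  -- stability under the subfield
  have scale : ∀ l ∈ k, ∀ t ∈ S, l * t ∈ S := by
    intro l hl t ht
    by_cases hl0 : l = 0
    · rw [hl0, zero_mul]; exact zero_mem S
    let u : Kˣ := Units.mk0 l⁻¹ (inv_ne_zero hl0)
    have hu : u ^ q = u := Units.ext (by
      rw [Units.val_pow_eq_pow_val]; exact (hs.hk _).1 (inv_mem hl))
    have hK := pow_cubeD4 (K := K) hs.hK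
    have hth := D4Root.th_mem f hs.hf hK (v := 1) hu
    have hthσ : mapGL chevD4 f (D4Root.th q 1 u) = D4Root.th q 1 u := by
      refine Units.ext ?_
      rw [coe_mapGL]
      show (torus chevD4 (charOf tabD4 (extC tabD4 (D4Root.par q 1 u)))).map f = _
      rw [Cert.torus_map f]
      show _ = torus chevD4 (charOf tabD4 (extC tabD4 (D4Root.par q 1 u)))
      congr 2
      funext i
      unfold extC D4Root.par
      split
      · next hi =>
        have hi' : i < 4 := hi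
        interval_cases i <;> simp [u, (ho.mem_k _).1 hl]
      · exact map_one f
    have e := D4Root.th_conj f hs.hf hK (v := 1) hu 0 t
    have ev0 : ∀ x : K, D4Root.ev q 0 x = (endoD4 f).orbElt 3 18 x := fun x => by
      rw [orb18 hs ho, hs.hf, hs.hf]; rfl
    have hchi : D4Root.chi q 0 ((1 : Kˣ) : K) (u : K) = l := by
      simp [D4Root.chi, u]
    rw [hchi, ev0, ev0] at e
    have hH := ho.fixed _ hth.1 hthσ
    show (endoD4 f).orbElt 3 18 (l * t) ∈ H
    rw [← e]
    exact mul_mem (mul_mem hH ht) (inv_mem hH)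
  have move : ∀ (M : List ℕ) (x y : ℕ), (∀ j ∈ M, j < dataTwD4.CL.length) →
      rword tabD4 (clsWord dataTwD4.CL M) x = y → x < 24 → y < 24 →
      ∃ a : K, a ≠ 0 ∧ a ∈ k ∧ ∀ t, (endoD4 f).orbElt 3 x t ∈ H → (endoD4 f).orbElt 3 y (a * t) ∈ H := by
    intro M x y hM hxy hx hy
    obtain ⟨a, ha, ham⟩ := certD4.Maps_nW (F := K) (hC.wordOK hM) (show x < tabD4.n from hx)
    rw [hxy] at ham
    have hnσ := certD4.nW_map (F := K) f (clsWord dataTwD4.CL M)
    refine ⟨a, ha, ho.maps_const hnσ hy ham, fun t ht => ?_⟩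
    rw [← (endoD4 f).orbElt_conj (hC.mem_fix hM) hx hy ham]
    have hn := ho.fixed _ (hC.mem_fix hM) hnσ
    exact mul_mem (mul_mem hn ht) (inv_mem hn)
  have to18 : ∀ (M : List ℕ) (x : ℕ), (∀ j ∈ M, j < dataTwD4.CL.length) →
      rword tabD4 (clsWord dataTwD4.CL M) x = 18 → x < 24 →
      ∀ t, (endoD4 f).orbElt 3 x t ∈ H → t ∈ S := by
    intro M x hM hxy hx t ht
    obtain ⟨a, ha, hak, hmv⟩ := move M x 18 hM hxy hx (by norm_num)
    have := scale _ (inv_mem hak) (a * t) (hmv t ht)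
    rwa [inv_mul_cancel_left₀ ha] at this
  have from18 : ∀ (M : List ℕ) (y : ℕ), (∀ j ∈ M, j < dataTwD4.CL.length) →
      rword tabD4 (clsWord dataTwD4.CL M) 18 = y → y < 24 →
      ∀ t ∈ S, (endoD4 f).orbElt 3 y t ∈ H := by
    intro M y hM hxy hy t ht
    obtain ⟨a, ha, hak, hmv⟩ := move M 18 y hM hxy (by norm_num) hy
    have := hmv _ (scale _ (inv_mem hak) t ht)
    rwa [mul_inv_cancel_left₀ ha] at this
  have hvS : v ∈ S := to18 [1, 0] 17 (by decide) w17 (by norm_num) v hvH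
  have hkS : ∀ x ∈ k, x ∈ S := fun x hx => ho.orbElt_mem ok18 (a18 x) hx
  have hadj : ∀ t ∈ S, f t * f (f t) ∈ S := by
    intro t ht
    obtain ⟨h14, h14f⟩ := X14_mem hs ho
    have h1 := mul_mem (mul_mem (mul_mem h14 ht) (inv_mem h14)) (inv_mem ht)
    rw [eW_eq hs ho] at h1
    have h2 := mul_mem (inv_mem (from18 [1] 19 (by decide) w18 (by norm_num) t ht)) (of_eW hs ho h1)
    rw [inv_mul_cancel_left] at h2
    simpa using neg_mem (to18 [1, 0] 17 (by decide) w17 (by norm_num) _ h2)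
  have hinv : ∀ t ∈ S, t⁻¹ ∈ S := by
    intro t ht
    by_cases ht0 : t = 0
    · rw [ht0, _root_.inv_zero]; exact zero_mem S
    have hN : t * (f t * f (f t)) ∈ k := (ho.mem_k _).2 (by
      rw [map_mul, map_mul, fff hs]; ring)
    have hN0 : t * (f t * f (f t)) ≠ 0 :=
      mul_ne_zero ht0 (mul_ne_zero ((map_ne_zero f).2 ht0) ((map_ne_zero f).2 ((map_ne_zero f).2 ht0)))
    have h1 := scale _ (inv_mem hN) _ (hadj t ht)
    rwa [show (t * (f t * f (f t)))⁻¹ * (f t * f (f t)) = t⁻¹ by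
      rw [mul_inv, mul_assoc, inv_mul_cancel₀ (mul_ne_zero ((map_ne_zero f).2 ht0)
        ((map_ne_zero f).2 ((map_ne_zero f).2 ht0))), mul_one]] at h1
  have hsq : ∀ t ∈ S, t ^ 2 ∈ S := by
    intro t ht
    by_cases ht0 : t = 0
    · rw [ht0, zero_pow two_ne_zero]; exact zero_mem S
    by_cases ht1 : t = 1
    · rw [ht1, one_pow]; exact hkS _ (one_mem k)
    have ht1' : 1 - t ≠ 0 := sub_ne_zero.2 (Ne.symm ht1)
    have h1 := hinv _ (add_mem (hinv t ht) (hinv _ (sub_mem (hkS 1 (one_mem k)) ht)))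
    rw [show (t⁻¹ + (1 - t)⁻¹)⁻¹ = t - t ^ 2 by field_simp; ring] at h1
    simpa using sub_mem ht h1
  -- three dimensions
  have hfv : f v ≠ v := fun e => hv ((ho.mem_k v).2 e)
  have hffv : f (f v) ≠ v := fun e => hfv (by
    have h1 := congrArg f e
    rw [fff hs] at h1
    exact h1.symm)
  have hinj : Function.Injective fun w : k × k × k => (w.1 : K) + w.2.1 * v + w.2.2 * v ^ 2 := by
    intro w w' e
    simp only at e
    by_cases h2 : (w.2.2 : K) = w'.2.2
    · by_cases h1 : (w.2.1 : K) = w'.2.1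
      · exact Prod.ext (Subtype.ext (by rw [h1, h2] at e; exact add_right_cancel (add_right_cancel e)))
          (Prod.ext (Subtype.ext h1) (Subtype.ext h2))
      · refine absurd ?_ hv
        rw [show v = ((w'.1 : K) - w.1) / (w.2.1 - w'.2.1) by
          rw [eq_div_iff (sub_ne_zero.2 h1)]; rw [h2] at e; linear_combination e]
        exact div_mem (sub_mem w'.1.2 w.1.2) (sub_mem w.2.1.2 w'.2.1.2)
    · exfalso
      set A : K := (w.1 : K) - w'.1
      set B : K := (w.2.1 : K) - w'.2.1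
      set C : K := (w.2.2 : K) - w'.2.2
      have hA : f A = A := (ho.mem_k A).1 (sub_mem w.1.2 w'.1.2)
      have hB : f B = B := (ho.mem_k B).1 (sub_mem w.2.1.2 w'.2.1.2)
      have hCf : f C = C := (ho.mem_k C).1 (sub_mem w.2.2.2 w'.2.2.2)
      have hC0 : C ≠ 0 := sub_ne_zero.2 h2
      have e0 : A + B * v + C * v ^ 2 = 0 := by
        simp only [A, B, C]; linear_combination e
      have e1 := congrArg f e0
      simp only [map_add, map_mul, map_pow, hA, hB, hCf, map_zero] at e1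
      have e2 := congrArg f e1
      simp only [map_add, map_mul, map_pow, hA, hB, hCf, map_zero] at e2
      have r1 : (f v - v) * (B + C * (f v + v)) = 0 := by linear_combination e1 - e0
      have r2 : (f (f v) - v) * (B + C * (f (f v) + v)) = 0 := by linear_combination e2 - e0
      have s1 := (mul_eq_zero.1 r1).resolve_left (sub_ne_zero.2 hfv)
      have s2 := (mul_eq_zero.1 r2).resolve_left (sub_ne_zero.2 hffv)
      have s3 : C * (f (f v) - f v) = 0 := by linear_combination s2 - s1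
      have s4 := sub_eq_zero.1 ((mul_eq_zero.1 s3).resolve_left hC0)
      exact hfv (f.injective s4)
  have h2 := hs.hq.two_le
  have hcard : Nat.card k = q := by
    rw [Nat.card_congr (Equiv.subtypeEquivRight hs.hk)]
    exact card_pow_eq_self (by omega) (dvd_card_D4 hs.hK)
  have hbij := hinj.bijective_of_nat_card_le (by
    rw [Nat.card_prod, Nat.card_prod, hcard, Nat.card_eq_fintype_card, hs.hK]
    exact le_of_eq (by ring))
  have hall : ∀ t : K, t ∈ S := fun t => by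
    obtain ⟨⟨x, y, z⟩, e⟩ := hbij.2 t
    rw [← e]
    exact add_mem (add_mem (hkS _ x.2) (scale _ y.2 _ hvS)) (scale _ z.2 _ (hsq v hvS))
  refine certD4.genSubgroup_le ?_
  rintro w (⟨t, ht, r, hr, rfl⟩ | ⟨t, rs, hrs, rfl⟩)
  · simp only [List.map_cons, List.map_nil, List.prod_cons, List.prod_nil, mul_one]
    simp only [List.mem_cons, List.not_mem_nil, or_false] at hr
    rcases hr with rfl | rfl <;>
      exact ho.X_mem (by decide +kernel) (show twistD4a.rt _ = _ by decide +kernel) ((hs.hk t).2 ht)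
  · simp only [List.mem_cons, List.not_mem_nil, or_false] at hrs
    rcases hrs with rfl | rfl
    · have h1 : (endoD4 f).orbElt 3 18 t ∈ H := hall t
      rw [orb18 hs ho, hs.hf, hs.hf, show (t ^ q) ^ q = t ^ q ^ 2 by rw [← pow_mul, sq]] at h1
      exact h1
    · have h1 := from18 [0] 5 (by decide) w5 (by norm_num) t (hall t)
      rw [e5, ep_vals.2.2.2.2.2.2.2.2.2.1, ep_vals.2.2.2.2.2.2.2.2.2.2.1, Int.cast_one, one_mul,
        one_mul, one_mul, hs.hf, hs.hf, show (t ^ q) ^ q = t ^ q ^ 2 by rw [← pow_mul, sq]] at h1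
      exact h1

lemma led {z : GL chevD4.Idx K}
    (hz : ∀ m ∈ (endoD4 f).fix, mapGL chevD4 f m = m → Commute z (m * X chevD4 tabD4.top 1 * m⁻¹)) :
    Led chevD4 tabD4 z := by
  have hC := clsW hs
  obtain ⟨-, -, -, -, -, -, -, w14, w9⟩ := word_chk
  obtain ⟨hn, hhalf, hl, -, s0, s1, s2, s3, hneg, -⟩ := facts
  obtain ⟨d19, d16, d15⟩ := terms9.2
  obtain ⟨ok19, a19, -⟩ := orb3 hs ho (x := 19) (y := 16) (z := 15) (by simp)
  obtain ⟨d, hd, -, hcm⟩ := ho.commute_long hC hz (M := [1, 0, 1]) (by decide)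
  rw [w9] at hcm
  have hτ1 : ∀ v : K, (endoD4 f).τn 1 19 v = -f v := fun v => by
    show (endoD4 f).τ 19 v = _
    rw [τ_one hs ho (by norm_num), ep_vals.2.2.2.1]; push_cast; ring
  have hρ : (endoD4 f).ρ 19 = 16 := ρ_vals.2.2.2.1
  have hρ' : (endoD4 f).ρ 16 = 15 := ρ_vals.2.2.2.2.1
  have hτ2 : ∀ v : K, (endoD4 f).τn 2 19 v = -f (f v) := fun v => by
    show (endoD4 f).τ ((endoD4 f).ρ 19) ((endoD4 f).τn 1 19 v) = _
    rw [hρ, hτ1, τ_one hs ho (by norm_num), ep_vals.2.2.2.2.1, map_neg]; push_cast; ring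
  have hwit : witWord (endoD4 f) 3 19 9 d =
      [(19, 1), (16, -1), (15, -1), (19, -1), (18, -d), (16, 1), (13, -d), (15, 1), (12, -d)] := by
    simp [witWord, List.range_succ, hρ, hρ', Tab.cj, d19, d16, d15, hτ1, hτ2,
      show ∀ v, (endoD4 f).τn 0 19 v = v from fun _ => rfl]
  have hw : ∀ i, i < tabD4.l → tabD4.simple i ∈ [18, 13, 12] →
      ∃ e : K, e ≠ 0 ∧ ∃ b ∈ gen chevD4 K (posBut tabD4 i),
        Commute z (X chevD4 (tabD4.simple i) e * b) := fun i hi hsi => by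
    refine ho.led_witness centralD4 ok19 (a19 1) (by rw [hn]; norm_num) hcm (fun j hj => ?_) hi ?_ ?_
    · interval_cases j <;> simp [hρ, hρ', hneg]
    · rw [hwit]
      simp only [List.mem_cons, List.not_mem_nil, or_false, forall_eq_or_imp, forall_eq, posSet,
        Set.mem_ofPred_eq, hn, hhalf]
      norm_num
    · rw [hwit]
      simp only [List.mem_cons, List.not_mem_nil, or_false] at hsi
      rcases hsi with e | e | e <;> simp [cw, e, hd]
  intro i hi
  have hi4 : i < 4 := hl ▸ hi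
  interval_cases i
  · exact hw 0 hi (by simp [s0])
  · obtain ⟨d', hd', -, hcm'⟩ := ho.commute_long hC hz (M := [0, 1]) (by decide)
    refine ⟨d', hd', 1, one_mem _, ?_⟩
    have h1 := hcm' 1 (one_mem _) (map_one _)
    rw [one_mul, inv_one, mul_one, w14, ← s1] at h1
    rwa [mul_one]
  · exact hw 2 hi (by simp [s2])
  · exact hw 3 hi (by simp [s3])

/-- Either everything is rational, or the twisted group is inside. -/
theorem dichotomy : (∀ g ∈ H, mapGL chevD4 f g = g) ∨ twistedD4 K q ≤ H := by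
  have hC := clsW hs
  by_cases hR : TRat (endoD4 f) k H 19
  swap
  · obtain ⟨v, hv, hvH⟩ := exists_irr hs ho hR
    exact Or.inr (twisted_le hs ho hv hvH)
  obtain ⟨hmv, m17, -, -, -, -, w0, -⟩ := word_chk
  have h17 : 17 ∈ tabD4.qList ∧ 17 ≠ tabD4.top := by decide +kernel
  have hall : ∀ p ∈ longs ++ shorts, TRat (endoD4 f) k H p.2 := by
    intro p hp
    have hp' := hp
    simp only [longs, shorts, List.cons_append, List.nil_append, List.mem_cons, List.not_mem_nil,
      or_false] at hp'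
    rcases hp' with rfl | rfl | rfl | rfl
    · exact ho.rat_long orbs_chk hp
    · exact ho.rat_long orbs_chk hp
    · exact hR
    · exact ho.rat_move hC hmv h17.1 h17.2 (m17 ▸ hR)
  refine Or.inl fun g hg => ho.map_eq_self hC orbs_chk hall (Mt := [1, 0, 1, 0, 1]) (by decide) w0
    (M0 := [1, 0, 1, 0, 1, 0]) (by decide) (fun r hr hrn => ?_) centralD4
    (fun z _ hz => led hs ho hz) hg
  have h1 := longest_chk
  simp only [List.all_eq_true, List.mem_range, Bool.or_eq_true, decide_eq_true_eq] at h1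
  exact (h1 r hrn).resolve_left (by omega)

omit ho in
/-- Some element is not rational. -/
theorem exists_not_rational : ∃ g ∈ twistedD4 K q, mapGL chevD4 f g ≠ g := by
  have h2 := hs.hq.two_le
  obtain ⟨t, ht⟩ : ∃ t : K, t ^ q ≠ t := by
    by_contra hne
    simp only [not_exists, not_not] at hne
    have h1 := card_pow_eq_self (F := K) (q := q) (by omega) (dvd_card_D4 hs.hK)
    rw [Nat.card_congr (Equiv.subtypeUnivEquiv hne), Nat.card_eq_fintype_card, hs.hK] at h1
    have : q * 1 < q * (q * q) := Nat.mul_lt_mul_of_pos_left (by nlinarith) (by omega)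
    rw [mul_one, show q * (q * q) = q ^ 3 by ring, h1] at this
    exact lt_irrefl _ this
  have hK := pow_cubeD4 (K := K) hs.hK
  refine ⟨_, wordD4_mem f hs.hf (a := d4p1) (b := d4p3) (c := d4p4) (by simp) t, fun e => ht ?_⟩
  have hl : chkCommute tabD4 18 13 = true ∧ chkCommute tabD4 18 12 = true ∧
      chkCommute tabD4 13 12 = true := by decide +kernel
  have hord : ∀ a b c : K, X chevD4 18 a * X chevD4 13 b * X chevD4 12 c =
      prodX chevD4 [12, 13, 18] (fun r => if r = 12 then c else if r = 13 then b else a) := by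
    intro a b c
    simp only [prodX, List.map_cons, List.map_nil, List.prod_cons, List.prod_nil, mul_one]
    norm_num
    rw [mul_assoc, (certD4.commute_X hl.2.2 b c).eq, ← mul_assoc, (certD4.commute_X hl.2.1 a c).eq,
      mul_assoc, (certD4.commute_X hl.1 a b).eq]
  rw [map_mul, map_mul, certD4.X_map, certD4.X_map, certD4.X_map, hs.hf, hs.hf, hs.hf,
    show d4p1 = 18 from rfl, show d4p3 = 13 from rfl, show d4p4 = 12 from rfl, hord, hord] at e
  have h1 := certD4.prodX_inj [12, 13, 18] (by decide) (fun r hr => by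
    simp only [List.mem_cons, List.not_mem_nil, or_false] at hr
    obtain ⟨hn, hh, -⟩ := facts
    rcases hr with rfl | rfl | rfl <;> exact ⟨by omega, by omega⟩) _ _ e 18 (by simp)
  simpa using h1

end CfsgLib.Chev.SubD4
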