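import Cfsg.Agent.Lib.Chev.TwistE6
import Cfsg.Agent.Lib.Chev.TwistTwoGenCore

/-!
The groups `²E₆(q)` are generated by two elements.
-/

set_option autoImplicit false
set_option maxRecDepth 100000
set_option linter.unusedSectionVars false

namespace CfsgLib.Chev

open Cfsg.Lie Matrix

/-- Orbit check for roots paired by the twist. -/
noncomputable def chkPairE6 (x : ℕ) : Bool :=
  decide (x < tabE6.n ∧ twistE6.rt (twistE6.rt x) = x) && chkCommute tabE6 x (twistE6.rt x) &&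
    decide (twistE6.ep x * twistE6.ep (twistE6.rt x) = 1 ∧ twistE6.dg x = 1 ∧
      twistE6.dg (twistE6.rt x) = 1)

theorem chkOrbitsE6 :
    ((List.range 12).all fun k => chkPairE6 ((rword tabE6 [1, 3, 2, 4, 0, 5])^[k] 10) &&
      decide ((rword tabE6 [1, 3, 2, 4, 0, 5])^[k] 20 < tabE6.n ∧
        twistE6.rt ((rword tabE6 [1, 3, 2, 4, 0, 5])^[k] 20) = (rword tabE6 [1, 3, 2, 4, 0, 5])^[k] 20)) =
      true := by
  decide +kernel

theorem factsE6 :
    clsWord dataTwE6.CL [3, 2, 1, 0] = [1, 3, 2, 4, 0, 5] ∧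
      (rword tabE6 [1, 3, 2, 4, 0, 5])^[2] 25 = 20 ∧ rword tabE6 [1, 3, 2, 4, 0, 5] 10 = 31 ∧
      twistE6.ep 20 = 1 ∧ twistE6.dg 20 = 1 ∧ twistE6.ep 25 = 1 ∧ twistE6.dg 25 = 1 ∧
      ((rword tabE6 [1, 3, 2, 4, 0, 5])^[4] 20 = 46 ∧ (rword tabE6 [1, 3, 2, 4, 0, 5])^[5] 20 = 39 ∧
      (rword tabE6 [1, 3, 2, 4, 0, 5])^[10] 20 = 25 ∧ (rword tabE6 [1, 3, 2, 4, 0, 5])^[11] 20 = 32) ∧
      ((rword tabE6 [1, 3, 2, 4, 0, 5])^[4] 10 = 34 ∧ (rword tabE6 [1, 3, 2, 4, 0, 5])^[5] 10 = 35 ∧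
      (rword tabE6 [1, 3, 2, 4, 0, 5])^[10] 10 = 42 ∧ (rword tabE6 [1, 3, 2, 4, 0, 5])^[11] 10 = 56) := by
  decide +kernel

theorem pairingsE6 :
    (tabE6.pairing 56 25 = 0 ∧ tabE6.pairing 36 25 = 0) ∧
      (tabE6.pairing 56 20 = 1 ∧ tabE6.pairing 36 20 = 1) ∧
      (tabE6.pairing 56 10 = -1 ∧ tabE6.pairing 36 10 = 0) ∧
      (tabE6.pairing 56 31 = 0 ∧ tabE6.pairing 36 31 = 1) := by
  decide +kernel

variable {K : Type*} [Field K] [Fintype K] {q : ℕ}

section

variable (f : K →+* K) (hf : ∀ t, f t = t ^ q)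
include hf

lemma orbOK_pairE6 {x : ℕ} (hx : chkPairE6 x = true) :
    (endoE6 f).OrbOK 2 x ∧ (endoE6 f).OrbOK 2 (twistE6.rt x) ∧
      (Fintype.card K = q ^ 2 → ∀ t, (endoE6 f).τn 2 x t = t) := by
  simp only [chkPairE6, Bool.and_eq_true, decide_eq_true_eq] at hx
  obtain ⟨⟨⟨hlt, hcyc⟩, hcm⟩, he, hd1, hd2⟩ := hx
  refine ⟨Endo.orbOK_two hlt hcyc fun t u => certE6.commute_X hcm t u,
    Endo.orbOK_two ((endoE6 f).sym.lt x hlt) (congrArg twistE6.rt hcyc) fun t u => ?_,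
    fun hK t => ?_⟩
  · show Commute (X chevE6 (twistE6.rt x) t) (X chevE6 (twistE6.rt (twistE6.rt x)) u)
    rw [hcyc]
    exact (certE6.commute_X hcm u t).symm
  · show (twistE6.ep (twistE6.rt x) : K) * f ((twistE6.ep x : K) * f t ^ twistE6.dg x) ^
      twistE6.dg (twistE6.rt x) = t
    rw [hd1, hd2, map_mul, map_intCast, pow_one, pow_one, ← mul_assoc, ← Int.cast_mul, mul_comm,
      hf, hf, ← pow_mul, show q * q = Fintype.card K by rw [hK]; ring, FiniteField.pow_card,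
      mul_comm (twistE6.ep (twistE6.rt x)), he, Int.cast_one, mul_one]

theorem two_genE6 (hK : Fintype.card K = q ^ 2) (hq : IsPrimePow q) :
    ∃ a b : GL chevE6.Idx K, a ∈ (endoE6 f).fix ∧ b ∈ (endoE6 f).fix ∧
      twistedE6 K q ≤ Subgroup.closure {a, b} := by
  classical
  have hle := twistedE6_le_fix f hf hK
  have h2 := two_le_qE6 hq
  have hQ : Fintype.card K - 1 = (q - 1) * (q + 1) := by
    rw [hK, mul_comm]; simpa using Nat.sq_sub_sq q 1
  obtain ⟨g, hg⟩ := IsCyclic.exists_generator (α := Kˣ)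
  have hord : orderOf g = Fintype.card K - 1 := by
    rw [orderOf_eq_card_of_forall_mem_zpowers hg, Nat.card_units, Nat.card_eq_fintype_card]
  have hq4 : 4 ≤ Fintype.card K := by rw [hK]; nlinarith
  have hne1 : ∀ i : ℕ, 0 < i → i < Fintype.card K - 1 → (g : K) ^ i ≠ 1 := fun i hi hlt e => by
    have := Nat.le_of_dvd hi (orderOf_dvd_of_pow_eq_one (Units.ext (by simpa using e) : g ^ i = 1))
    omega
  set ω : K := (g : K)
  have hω : ω ≠ 0 := g.ne_zero
  set hh := hU chevE6 56 ω * hU chevE6 36 (ω ^ q)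
  have hhT : hh ∈ twistedE6 K q := by
    have := hU_pair_memE6 f hf (r := e6p1) (s := e6p6) (r' := e6m1) (s' := e6m6) (by decide)
      (by decide +kernel) ω
    exact this
  have h56 : 56 < tabE6.n ∧ 36 < tabE6.n := by decide +kernel
  have hchar : ∀ x < tabE6.n, ∀ t, hh * X chevE6 x t * hh⁻¹ =
      X chevE6 x (ω ^ tabE6.pairing 56 x * (ω ^ q) ^ tabE6.pairing 36 x * t) := fun x hx t => by
    rw [show hh * X chevE6 x t * hh⁻¹ = hU chevE6 56 ω *
        (hU chevE6 36 (ω ^ q) * X chevE6 x t * (hU chevE6 36 (ω ^ q))⁻¹) * (hU chevE6 56 ω)⁻¹ by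
      simp only [hh]; group, certE6.hU_conj h56.2 hx (pow_ne_zero _ hω),
      certE6.hU_conj h56.1 hx hω, mul_assoc]
  obtain ⟨hW, hk2, hws, e20, d20, e25, d25, ⟨k46, k39, k25, k32⟩, k34, k35, k42, k56⟩ := factsE6
  obtain ⟨⟨p25, p25'⟩, ⟨p20, p20'⟩, ⟨p10, p10'⟩, p31, p31'⟩ := pairingsE6
  have horb := chkOrbitsE6
  simp only [List.all_eq_true, List.mem_range, Bool.and_eq_true, decide_eq_true_eq] at horb
  obtain ⟨n, hnT, hnF, hnM, hnMaps⟩ := (endoE6 f).exists_rep_clsWord (dataOK_E6 f).cls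
    (repsE6 f hf hK) (M := [3, 2, 1, 0]) (by decide)
  rw [hW] at hnMaps
  have hwok : WordOK tabE6 [1, 3, 2, 4, 0, 5] := wordOK_of_all (by decide +kernel)
  have ok10 := orbOK_pairE6 f hf (horb 0 (by norm_num)).1
  have ok31 := orbOK_pairE6 f hf (horb 1 (by norm_num)).1
  rw [Function.iterate_zero_apply] at ok10
  rw [Function.iterate_one] at ok31
  have h25n : 25 < tabE6.n ∧ twistE6.rt 25 = 25 := by decide +kernel
  have h20 := (horb 0 (by norm_num)).2
  rw [Function.iterate_zero_apply] at h20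
  have d : (endoE6 f).GenData hh n ((endoE6 f).orbElt 1 25 1)
      [1, 3, 2, 4, 0, 5] 2 10 ω⁻¹ (ω ^ q) :=
    { hh_fix := hle hhT
      hh_diag := mul_mem (certE6.hU_mem h56.1 hω) (certE6.hU_mem h56.2 (pow_ne_zero _ hω))
      n_fix := hnF
      n_mono := hnM
      wordOK := hwok
      n_maps := hnMaps
      x_fix := (endoE6 f).orbElt_mem_fix (Endo.orbOK_one h25n.1 h25n.2) ((τE6_eq f hf ⟨e25, d25⟩ 1).trans (one_pow q))
      x_comm := (endoE6 f).orbElt_commute (hle hhT) (Endo.orbOK_one h25n.1 h25n.2)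
        (fun t => by rw [hchar 25 h25n.1, p25, p25']; simp) 1
      x_pow := (endoE6 f).orbElt_pow_card (Endo.orbOK_one h25n.1 h25n.2) 1
      s_ok := ok10.1
      s_ok' := ok31.1
      s_adm := ok10.2.2 hK 1
      s_char := fun t => by rw [hchar 10 ok10.1.lt, p10, p10']; simp
      ws_char := fun t => by rw [hws, hchar 31 (hws ▸ ok31.1.lt), p31, p31']; simp
      lam_ne := inv_ne_one.2 (by have := hne1 1 one_pos (by omega); simpa using this)
      lam_ne0 := inv_ne_zero hω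
      lam_gen := closure_singleton_eq_top (inv_ne_zero hω) fun r hr2 hr e => by
        rw [inv_pow, inv_eq_one] at e
        exact hne1 (r - 1) (by omega) (by
          have : r * 2 ≤ r ^ 2 := by nlinarith
          omega) e
      μ_ne := hne1 q (by omega) (by rw [hK]; nlinarith [Nat.sub_add_cancel (show 1 ≤ q ^ 2 by nlinarith)]) }
  obtain ⟨a, b, ha, hb, hhK, hnK, hrK, hsA⟩ := d.result
  refine ⟨a, b, ha, hb, ?_⟩
  set L := Subgroup.closure {a, b}
  have hLfix : L ≤ (endoE6 f).fix := (Subgroup.closure_le _).2 (Set.pair_subset ha hb)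
  have hA20 : (endoE6 f).All L 1 20 := by
    have h1 : (endoE6 f).Some' L 1 25 := ⟨1, one_ne_zero, hrK⟩
    obtain ⟨-, hs⟩ := Endo.Some'.iterate hnF hnK hwok hnMaps h25n.1 h1 2
    rw [hk2] at hs
    obtain ⟨c, hc, hcK⟩ := hs
    have hcA := (endoE6 f).adm_of_mem_fix h20.1 h20.2 (hLfix hcK)
    refine Endo.Some'.all_units d.hh_fix hhK (Endo.orbOK_one h20.1 h20.2) (μ := ω * ω ^ q)
      (fun t => by rw [hchar 20 h20.1, p20, p20']; simp) (fun t c ht hc htA hcA => ?_) hc hcA hcK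
    refine exists_pow_norm h2 hQ hg (μ := g * g ^ q) (Or.inl (by rw [← pow_succ'])) ht hc ?_ ?_
    · exact (τE6_eq f hf ⟨e20, d20⟩ t).symm.trans htA
    · exact (τE6_eq f hf ⟨e20, d20⟩ c).symm.trans hcA
  have hlong : ∀ k < 12, (endoE6 f).All L 1 ((rword tabE6 [1, 3, 2, 4, 0, 5])^[k] 20) :=
    fun k hk => Endo.All.iterate hnF hnK hnMaps hA20 k fun j hj =>
      Endo.orbOK_one (horb j (by omega)).2.1 (horb j (by omega)).2.2
  have hshort : ∀ k < 12, (endoE6 f).All L 2 ((rword tabE6 [1, 3, 2, 4, 0, 5])^[k] 10) :=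
    fun k hk => Endo.All.iterate hnF hnK hnMaps hsA k fun j hj =>
      (orbOK_pairE6 f hf (horb j (by omega)).1).1
  refine certE6.genSubgroup_le ?_
  have hsimple : ∀ x ∈ [46, 25, 39, 32, 56, 15, 42, 29, 34, 35],
      twistE6.ep x = 1 ∧ twistE6.dg x = 1 := by decide +kernel
  rintro w (⟨t, ht, r, hr, rfl⟩ | ⟨t, rs, hrs, rfl⟩)
  · simp only [List.map_cons, List.map_nil, List.prod_cons, List.prod_nil, mul_one]
    simp only [List.mem_cons, List.not_mem_nil, or_false] at hr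
    have key : ∀ k < 12, ∀ x, (rword tabE6 [1, 3, 2, 4, 0, 5])^[k] 20 = x →
        x ∈ [46, 25, 39, 32, 56, 15, 42, 29, 34, 35] → X chevE6 x t ∈ L := fun k hk x e hx => by
      have hh2 := hlong k hk t
      rw [e] at hh2
      have h1 := hh2 ((τE6_eq f hf (hsimple x hx) t).trans ht)
      rwa [Endo.orbElt_one] at h1
    rcases hr with rfl | rfl | rfl | rfl
    · exact key 4 (by norm_num) _ k46 (by decide)
    · exact key 10 (by norm_num) _ k25 (by decide)
    · exact key 5 (by norm_num) _ k39 (by decide)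
    · exact key 11 (by norm_num) _ k32 (by decide)
  · rw [chevE6_prod_pair]
    have key : ∀ k < 12, ∀ x y, (rword tabE6 [1, 3, 2, 4, 0, 5])^[k] 10 = x → twistE6.rt x = y →
        twistE6.ep x = 1 ∧ twistE6.dg x = 1 → ∀ u : K, X chevE6 x u * X chevE6 y (u ^ q) ∈ L := by
      intro k hk x y e ey hx u
      have h1 := hshort k hk u ((orbOK_pairE6 f hf (horb k hk).1).2.2 hK u)
      rw [e, show (endoE6 f).orbElt 2 x u = X chevE6 x u * X chevE6 (twistE6.rt x) ((endoE6 f).τ x u) by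
        simp [Endo.orbElt, List.range_succ, Endo.τn]; rfl, τE6_eq f hf hx, ey] at h1
      exact h1
    have hrt : twistE6.rt 56 = 36 ∧ twistE6.rt 35 = 15 ∧ twistE6.rt 42 = 37 ∧ twistE6.rt 34 = 29 ∧
        chkCommute tabE6 35 15 = true ∧ chkCommute tabE6 34 29 = true := by decide +kernel
    have hback : (t ^ q) ^ q = t := by
      rw [← pow_mul, show q * q = Fintype.card K by rw [hK]; ring, FiniteField.pow_card]
    simp only [List.mem_cons, List.not_mem_nil, or_false] at hrs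
    rcases hrs with rfl | rfl | rfl | rfl
    · exact key 11 (by norm_num) _ _ k56 hrt.1 (hsimple 56 (by decide)) t
    · have h1 := key 5 (by norm_num) _ _ k35 hrt.2.1 (hsimple 35 (by decide)) (t ^ q)
      rw [hback, (certE6.commute_X hrt.2.2.2.2.1 _ _).eq] at h1
      exact h1
    · exact key 10 (by norm_num) _ _ k42 hrt.2.2.1 (hsimple 42 (by decide)) t
    · have h1 := key 4 (by norm_num) _ _ k34 hrt.2.2.2.1 (hsimple 34 (by decide)) (t ^ q)
      rw [hback, (certE6.commute_X hrt.2.2.2.2.2 _ _).eq] at h1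
      exact h1

end

theorem twistedE6_two_gen {q : ℕ} (hq : IsPrimePow q) (hK : Fintype.card K = q ^ 2) :
    ∃ a b : ↥(twistedE6 K q), Subgroup.closure ({a, b} : Set ↥(twistedE6 K q)) = ⊤ := by
  obtain ⟨f, hf⟩ : ∃ f : K →+* K, ∀ t, f t = t ^ q := by
    obtain ⟨p, k, hp, hk, hpk⟩ := hq
    haveI : Fact p.Prime := ⟨hp.nat_prime⟩
    haveI : CharP K p := charP_of_card_eq_prime_pow (f := k * 2)
      (by rw [hK, ← hpk, pow_mul])
    exact ⟨iterateFrobenius K p k, fun t => by rw [iterateFrobenius_def, hpk]⟩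
  obtain ⟨a, b, ha, hb, hle⟩ := two_genE6 f hf hK hq
  rw [fix_eq_twistedE6 f hf hK hq] at ha hb
  refine ⟨⟨a, ha⟩, ⟨b, hb⟩, Subgroup.map_injective (twistedE6 K q).subtype_injective ?_⟩
  rw [MonoidHom.map_closure, ← MonoidHom.range_eq_map, Subgroup.range_subtype, Set.image_pair]
  exact le_antisymm ((Subgroup.closure_le _).2 (Set.pair_subset ha hb)) hle

end CfsgLib.Chev
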