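import Cfsg.Agent.Lib.Chev.TwistSubfieldFrame
import Cfsg.Agent.Lib.Chev.TwistTwoGenE6
import Cfsg.Agent.Lib.Chev.SubfieldCentralData

/-!
The rational points of `²E₆(q)` over the prime subfield of the twist are maximal.
-/

set_option autoImplicit false
set_option maxRecDepth 100000
set_option linter.unusedSectionVars false

namespace CfsgLib.Chev.SubE6

open Cfsg.Lie Matrix

/-- The long orbits in `Q`. -/
def longs : List (ℕ × ℕ) := [(1, 46), (1, 47), (1, 51), (1, 53), (1, 63), (1, 65), (1, 69), (1, 70)]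
/-- The short orbits in `Q`. -/
def shorts : List (ℕ × ℕ) := [(2, 52), (2, 48), (2, 49), (2, 54), (2, 55), (2, 66)]

theorem frame_chk : tabE6.chkTwFrame twistE6.rt = true := by decide +kernel
theorem orbs_chk : tabE6.chkOrbs twistE6.rt (longs ++ shorts) = true := by decide +kernel
theorem sign_chk : ((List.range tabE6.n).all fun r =>
    decide (twistE6.dg r = 1) && (decide (twistE6.rt r ≠ r) || decide (twistE6.ep r = 1))) = true := by
  decide +kernel
theorem comm_chk :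
    ((shorts.all fun p => (List.range p.1).all fun j => chkCommute tabE6 70 (twistE6.rt^[j] p.2)) &&
      (shorts.all fun p => (List.range p.1).all fun j => chkCommute tabE6 47 (twistE6.rt^[j] p.2)) &&
      (shorts.tail.all fun p => (List.range p.1).all fun j =>
        chkCommute tabE6 39 (twistE6.rt^[j] p.2))) = true := by decide +kernel
theorem move_chk :
    ([[1, 0], [1], [2], [2, 1], [2, 1, 0]].all fun M => tabE6.chkFrameMove dataTwE6.CL M) = true ∧
      rword tabE6 (clsWord dataTwE6.CL [1, 0]) 48 = 52 ∧ rword tabE6 (clsWord dataTwE6.CL [1]) 49 = 52 ∧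
      rword tabE6 (clsWord dataTwE6.CL [2]) 54 = 52 ∧ rword tabE6 (clsWord dataTwE6.CL [2, 1]) 55 = 52 ∧
      rword tabE6 (clsWord dataTwE6.CL [2, 1, 0]) 66 = 52 := by decide +kernel
theorem target_chk :
    rword tabE6 (clsWord dataTwE6.CL [1, 2, 3, 1, 2]) 54 = 36 ∧
      rword tabE6 (clsWord dataTwE6.CL [0, 1, 2, 3, 1, 2]) 54 = 35 ∧
      rword tabE6 (clsWord dataTwE6.CL [2, 3, 0, 1, 2]) 54 = 37 ∧
      rword tabE6 (clsWord dataTwE6.CL [1, 2, 3, 0, 1, 2]) 54 = 34 := by decide +kernel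
theorem long_chk :
    rword tabE6 (clsWord dataTwE6.CL [3, 2, 1, 2, 0, 1, 2, 3, 2, 1, 2, 0, 1, 2, 3]) tabE6.top = 0 ∧
      rword tabE6 (clsWord dataTwE6.CL [3, 1, 2, 0, 1, 2, 3]) tabE6.top = 39 ∧
      rword tabE6 (clsWord dataTwE6.CL [2, 1, 2, 0, 1, 2, 3]) tabE6.top = 46 ∧
      rword tabE6 (clsWord dataTwE6.CL [2, 3, 1, 2, 0, 1, 2, 3]) tabE6.top = 32 ∧
      rword tabE6 (clsWord dataTwE6.CL [1, 2, 3, 1, 2, 0, 1, 2, 3]) tabE6.top = 27 := by decide +kernel
theorem longest_chk :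
    ((List.range tabE6.n).all fun r => decide (r < tabE6.half) || decide (rword tabE6 (clsWord dataTwE6.CL
      [3, 2, 1, 2, 0, 1, 2, 3, 2, 1, 2, 0, 1, 2, 3, 2, 1, 2, 0, 1, 2, 0, 1, 0]) r < tabE6.half)) = true := by
  decide +kernel
theorem ρ_vals : twistE6.rt 52 = 62 ∧ twistE6.rt 54 = 64 ∧ twistE6.rt 59 = 45 ∧ twistE6.rt 43 = 40 ∧
    twistE6.rt 36 = 56 ∧ twistE6.rt 35 = 15 ∧ twistE6.rt 37 = 42 ∧ twistE6.rt 34 = 29 ∧
    twistE6.ep 52 = -1 ∧ twistE6.ep 54 = -1 ∧ twistE6.ep 59 = -1 ∧ twistE6.ep 43 = -1 ∧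
    twistE6.ep 36 = 1 ∧ twistE6.ep 35 = 1 ∧ twistE6.ep 37 = 1 ∧ twistE6.ep 34 = 1 ∧
    twistE6.rt 70 = 70 ∧ twistE6.rt 47 = 47 ∧ twistE6.rt 39 = 39 := by decide +kernel
set_option synthInstance.maxSize 1000 in
theorem terms : tabE6.commTerms 70 0 = [((25 : ℕ), (1 : ℤ), (1 : ℕ), (1 : ℕ))] ∧ tabE6.commTerms 47 25 = [((39 : ℕ), (1 : ℤ), (1 : ℕ), (1 : ℕ))] ∧
    tabE6.commTerms 39 52 = [((54 : ℕ), (1 : ℤ), (1 : ℕ), (1 : ℕ))] ∧ tabE6.commTerms 39 62 = [((64 : ℕ), (1 : ℤ), (1 : ℕ), (1 : ℕ))] ∧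
    tabE6.commTerms 27 59 = [((56 : ℕ), (1 : ℤ), (1 : ℕ), (1 : ℕ))] ∧ tabE6.commTerms 27 45 = [((36 : ℕ), (-1 : ℤ), (1 : ℕ), (1 : ℕ))] ∧
    tabE6.commTerms 32 43 = [((42 : ℕ), (1 : ℤ), (1 : ℕ), (1 : ℕ))] ∧ tabE6.commTerms 32 40 = [((37 : ℕ), (-1 : ℤ), (1 : ℕ), (1 : ℕ))] := by
  decide +kernel
theorem facts : tabE6.n = 72 ∧ tabE6.half = 36 ∧ tabE6.l = 6 ∧ tabE6.top = 71 ∧
    tabE6.simple 0 = 56 ∧ tabE6.simple 1 = 46 ∧ tabE6.simple 2 = 42 ∧ tabE6.simple 3 = 39 ∧
    tabE6.simple 4 = 37 ∧ tabE6.simple 5 = 36 ∧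
    tabE6.neg 70 = 1 ∧ tabE6.neg 47 = 24 ∧ tabE6.neg 39 = 32 ∧ tabE6.neg 27 = 44 ∧ tabE6.neg 32 = 39 := by
  decide +kernel
theorem pair_chk :
    ([52, 54, 59, 43, 36, 35, 37, 34].all fun x => chkPairE6 x) = true ∧
      (chkCommute tabE6 54 64 &&
        chkCommute tabE6 56 36 && chkCommute tabE6 15 35 && chkCommute tabE6 42 37 &&
        chkCommute tabE6 29 34) = true := by decide +kernel

variable {K : Type*} [Field K] [Fintype K] {q : ℕ}

/-- The setting. -/
structure Setting (f : K →+* K) (k : Subfield K) (q : ℕ) : Prop where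
  hf : ∀ t, f t = t ^ q
  hK : Fintype.card K = q ^ 2
  hq : IsPrimePow q
  hk : ∀ x, x ∈ k ↔ x ^ q = x

variable {f : K →+* K} {k : Subfield K} (hs : Setting f k q)
include hs

lemma over' {H : Subgroup (GL chevE6.Idx K)} (hle : H ≤ twistedE6 K q)
    (hM : ∀ g ∈ twistedE6 K q, mapGL chevE6 f g = g → g ∈ H) :
    TOver (endoE6 f) f k twistE6.ep H := by
  have hsign := sign_chk
  simp only [List.all_eq_true, List.mem_range, Bool.and_eq_true, Bool.or_eq_true,
    decide_eq_true_eq] at hsign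
  have heq := fix_eq_twistedE6 f hs.hf hs.hK hs.hq
  refine ⟨fun x => by rw [hs.hk, hs.hf], fun r hr t => ?_, fun r hr hρ => ?_, frame_chk, ?_, ?_⟩
  · show (twistE6.ep r : K) * f t ^ twistE6.dg r = _
    rw [(hsign r hr).1, pow_one]
  · exact (hsign r hr).2.resolve_left fun e => e hρ
  · rw [heq]; exact hle
  · rw [heq]; exact hM

lemma clsW : ClsW (endoE6 f) dataTwE6.CL := by
  refine ⟨(dataOK_E6 f).cls, fun c hc => twistedE6_le_fix f hs.hf hs.hK ?_⟩
  have hf := hs.hf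
  have h1q : (1 : K) ^ q = 1 := one_pow q
  simp only [dataTwE6, List.mem_cons, List.not_mem_nil, or_false] at hc
  rcases hc with rfl | rfl | rfl | rfl
  · have := nU_pair_memE6 f hf (r := e6p1) (s := e6p6) (r' := e6m1) (s' := e6m6) (by decide)
      (by decide +kernel) (1 : K)
    rw [h1q] at this
    simpa [nW, nS_simpleE6 f hf (show 0 < tabE6.l by decide),
      nS_simpleE6 f hf (show 5 < tabE6.l by decide),
      show tabE6.simple 0 = e6p1 by decide +kernel,
      show tabE6.simple 5 = e6p6 by decide +kernel] using this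
  · have := nU_pair_memE6 f hf (r := e6p3) (s := e6p5) (r' := e6m3) (s' := e6m5) (by decide)
      (by decide +kernel) (1 : K)
    rw [h1q] at this
    simpa [nW, nS_simpleE6 f hf (show 2 < tabE6.l by decide),
      nS_simpleE6 f hf (show 4 < tabE6.l by decide),
      show tabE6.simple 2 = e6p3 by decide +kernel,
      show tabE6.simple 4 = e6p5 by decide +kernel] using this
  · have := nU_single_memE6 f hf (r := e6p4) (by decide) (by decide +kernel) h1q
    simpa [nW, nS_simpleE6 f hf (show 3 < tabE6.l by decide),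
      show tabE6.simple 3 = e6p4 by decide +kernel] using this
  · have := nU_single_memE6 f hf (r := e6p2) (by decide) (by decide +kernel) h1q
    simpa [nW, nS_simpleE6 f hf (show 1 < tabE6.l by decide),
      show tabE6.simple 1 = e6p2 by decide +kernel] using this

lemma orb_ok {x : ℕ} (hx : x ∈ [52, 54, 59, 43, 36, 35, 37, 34]) :
    (endoE6 f).OrbOK 2 x ∧ ∀ t, (endoE6 f).τn 2 x t = t := by
  have h1 := orbOK_pairE6 f hs.hf (List.all_eq_true.1 pair_chk.1 x hx)
  exact ⟨h1.1, h1.2.2 hs.hK⟩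

lemma orb2 {x y : ℕ} {e : ℤ} (hρ : twistE6.rt x = y) (he : twistE6.ep x = e) (hx : x < 72)
    {H : Subgroup (GL chevE6.Idx K)} (ho : TOver (endoE6 f) f k twistE6.ep H) (t : K) :
    (endoE6 f).orbElt 2 x t = X chevE6 x t * X chevE6 y ((e : K) * f t) := by
  rw [← hρ, ← he, ← ho.τ_eq x (by rw [facts.1]; exact hx)]
  simp [Endo.orbElt, List.range_succ, Endo.τn, endoE6, Endo.ofTwist]

variable {H : Subgroup (GL chevE6.Idx K)} (ho : TOver (endoE6 f) f k twistE6.ep H)
include ho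

/-- The commutator of the orbit of `52` with the long root element at `39`, up to the centre. -/
lemma step (s : K) {c : K} (hc : c ∈ k) :
    ∃ z ∈ k,
      (endoE6 f).orbElt 2 52 s * X chevE6 39 c * ((endoE6 f).orbElt 2 52 s)⁻¹ * (X chevE6 39 c)⁻¹ =
        (endoE6 f).orbElt 2 54 (-(c * s)) * X chevE6 tabE6.top z := by
  obtain ⟨r52, r54, -, -, -, -, -, -, e52, e54, -, -, -, -, -, -, -, -, r39⟩ := ρ_vals
  obtain ⟨-, -, t52, t62, -⟩ := terms
  obtain ⟨ok52, a52⟩ := orb_ok hs (show 52 ∈ [52, 54, 59, 43, 36, 35, 37, 34] by simp)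
  obtain ⟨ok54, a54⟩ := orb_ok hs (show 54 ∈ [52, 54, 59, 43, 36, 35, 37, 34] by simp)
  have hn : 39 < tabE6.n ∧ 52 < tabE6.n ∧ 62 < tabE6.n ∧ tabE6.neg 39 = 32 := by decide +kernel
  have hQ : ∀ r ∈ [52, 62, 54, 64], tabE6.inQ r = true := by decide +kernel
  set Z := (endoE6 f).orbElt 2 52 s * X chevE6 39 c * ((endoE6 f).orbElt 2 52 s)⁻¹ *
    (X chevE6 39 c)⁻¹ with hZ
  set w : List (ℕ × K) := [(52, s), (62, ((-1 : ℤ) : K) * f s), (52, -s), (54, c * -s),
    (62, ((-1 : ℤ) : K) * f (-s)), (64, c * (((-1 : ℤ) : K) * f (-s)))] with hw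
  set w' : List (ℕ × K) := [(54, -(c * s)), (64, ((-1 : ℤ) : K) * f (-(c * s)))] with hw'
  have eZ : Z = wordX chevE6 w := by
    have e := certE6.conj_wordX hn.1 c [(52, -s), (62, ((-1 : ℤ) : K) * f (-s))] (by
      intro p hp
      simp only [List.mem_cons, List.not_mem_nil, or_false] at hp
      rcases hp with rfl | rfl <;> simp [hn.2.1, hn.2.2.1, hn.2.2.2])
    simp only [wordX, List.flatMap_cons, List.flatMap_nil, Tab.cj, t52, t62, List.map_cons, List.map_nil,
      List.append_nil, List.cons_append, List.nil_append, List.prod_cons, List.prod_nil, mul_one,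
      pow_one, Int.cast_one, one_mul] at e
    rw [hZ, (endoE6 f).orbElt_inv ok52, orb2 hs r52 e52 (by norm_num) ho,
      orb2 hs r52 e52 (by norm_num) ho,
      show X chevE6 52 s * X chevE6 62 (((-1 : ℤ) : K) * f s) * X chevE6 39 c *
        (X chevE6 52 (-s) * X chevE6 62 (((-1 : ℤ) : K) * f (-s))) * (X chevE6 39 c)⁻¹ =
      X chevE6 52 s * X chevE6 62 (((-1 : ℤ) : K) * f s) * (X chevE6 39 c *
        (X chevE6 52 (-s) * X chevE6 62 (((-1 : ℤ) : K) * f (-s))) * (X chevE6 39 c)⁻¹) by group, e]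
    simp [wordX, hw, mul_assoc]
  have eO : (endoE6 f).orbElt 2 54 (-(c * s)) = wordX chevE6 w' := by
    rw [orb2 hs r54 e54 (by norm_num) ho]; simp [wordX, hw']
  have hf := ho.frame
  obtain ⟨z1, h1⟩ := certE6.word_coord hf w (by
    intro p hp; apply hQ
    simp only [hw, List.mem_cons, List.not_mem_nil, or_false] at hp
    rcases hp with rfl | rfl | rfl | rfl | rfl | rfl <;> simp)
  obtain ⟨z2, h2⟩ := certE6.word_coord hf w' (by
    intro p hp; apply hQ
    simp only [hw', List.mem_cons, List.not_mem_nil, or_false] at hp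
    rcases hp with rfl | rfl <;> simp)
  obtain ⟨z3, h3⟩ := certE6.exists_top_of_coord hf (t := cw w) (t' := cw w') (fun r _ _ => by
    simp only [hw, hw', cw, List.map_cons, List.map_nil, List.sum_cons, List.sum_nil, map_neg,
      map_mul, (ho.mem_k c).1 hc]
    split_ifs <;> first | omega | (push_cast; ring)) z2
  have htop := (certE6.frame_top hf).2.1
  have e : Z = (endoE6 f).orbElt 2 54 (-(c * s)) * X chevE6 tabE6.top (z3 + z1) := by
    rw [eZ, eO, h1, h3, ← h2, mul_assoc, certE6.X_add htop]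
  refine ⟨z3 + z1, ho.mem_of_X_fix htop ho.ρ_top.1 ?_, e⟩
  have hO := (endoE6 f).orbElt_mem_fix ok52 (a52 s)
  have hXf := ho.X_mem_fix hn.1 r39 hc
  have h4 : Z ∈ (endoE6 f).fix := mul_mem (mul_mem (mul_mem hO hXf) (inv_mem hO)) (inv_mem hXf)
  rw [e] at h4
  simpa using mul_mem (inv_mem ((endoE6 f).orbElt_mem_fix ok54 (a54 (-(c * s))))) h4

/-- An irrational coordinate at `52` gives an irrational orbit element at `54`. -/
lemma exists_irr (hR : ¬ TRat (endoE6 f) k H 52) :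
    ∃ e : K, e ∉ k ∧ (endoE6 f).orbElt 2 54 e ∈ H := by
  simp only [TRat, not_forall] at hR
  obtain ⟨c, t, hS, hts⟩ := hR
  obtain ⟨r52, r54, -, -, -, -, -, -, e52, e54, -, -, -, -, -, -, r70, r47, r39⟩ := ρ_vals
  obtain ⟨t70, t47, -⟩ := terms
  have hcomm := comm_chk
  simp only [Bool.and_eq_true] at hcomm
  obtain ⟨⟨c70, c47⟩, c39⟩ := hcomm
  have h1 := ho.exists_strip orbs_chk (by decide) hS
  set P := (shorts.map fun p => (endoE6 f).orbElt p.1 p.2 (t p.2)).prod with hP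
  have hn : 70 < tabE6.n ∧ 0 < tabE6.n ∧ 47 < tabE6.n ∧ 25 < tabE6.n ∧ 39 < tabE6.n ∧
      tabE6.neg 70 = 1 ∧ tabE6.neg 47 = 24 := by decide +kernel
  have h2 := ho.peel hn.1 r70 hn.2.1 (by norm_num) (by rw [hn.2.2.2.2.2.1]; norm_num) t70
    (ho.commute_orbs c70 1 t) h1
  have h3 := ho.peel hn.2.2.1 r47 hn.2.2.2.1 (by norm_num) (by rw [hn.2.2.2.2.2.2]; norm_num) t47
    (ho.commute_orbs c47 1 t) h2
  rw [Int.cast_one, one_mul, one_mul] at h3
  have hck := hS.2.1
  have h4 := mul_mem h3 (inv_mem (ho.X_mem hn.2.2.2.2.1 r39 hck))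
  set P' := (shorts.tail.map fun p => (endoE6 f).orbElt p.1 p.2 (t p.2)).prod with hP'
  have hcP : Commute (X chevE6 39 c) P' := ho.commute_orbs c39 c t
  have eP : P = (endoE6 f).orbElt 2 52 (t 52) * P' := by
    rw [hP, hP', show shorts = (2, 52) :: shorts.tail from rfl, List.map_cons, List.prod_cons]
    rfl
  refine ⟨-(c * t 52), fun he => hts ?_, ?_⟩
  · have := mul_mem (inv_mem hck) (neg_mem he)
    rwa [_root_.neg_neg, inv_mul_cancel_left₀ hS.1] at this
  obtain ⟨z, hz, e⟩ := step hs ho (t 52) hck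
  rw [← hP, eP, show (endoE6 f).orbElt 2 52 (t 52) * P' * X chevE6 39 c *
      ((endoE6 f).orbElt 2 52 (t 52) * P')⁻¹ = (endoE6 f).orbElt 2 52 (t 52) *
      (P' * X chevE6 39 c * P'⁻¹) * ((endoE6 f).orbElt 2 52 (t 52))⁻¹ by group,
    ← hcP.eq, mul_inv_cancel_right, e] at h4
  simpa using mul_mem h4 (inv_mem (ho.X_mem (certE6.frame_top ho.frame).2.1 ho.ρ_top.1 hz))

lemma spans {u : K} (hu : u ∉ k) (t : K) : ∃ x ∈ k, ∃ y ∈ k, t = x + y * u := by
  have h2 := hs.hq.two_le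
  have hcard : Nat.card k = q := by
    rw [Nat.card_congr (Equiv.subtypeEquivRight hs.hk)]
    exact card_pow_eq_self (by omega) (dvd_card_E6 hs.hK)
  have hinj : Function.Injective fun v : k × k => (v.1 : K) + v.2 * u := by
    intro v v' e
    simp only at e
    by_cases h2 : (v.2 : K) = v'.2
    · exact Prod.ext (Subtype.ext (by rw [h2] at e; exact add_right_cancel e)) (Subtype.ext h2)
    · refine absurd ?_ hu
      have h3 : u = ((v'.1 : K) - v.1) / (v.2 - v'.2) := by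
        rw [eq_div_iff (sub_ne_zero.2 h2)]; linear_combination e
      rw [h3]
      exact div_mem (sub_mem v'.1.2 v.1.2) (sub_mem v.2.2 v'.2.2)
  have hbij := hinj.bijective_of_nat_card_le (by
    rw [Nat.card_prod, hcard, Nat.card_eq_fintype_card, hs.hK, pow_two])
  obtain ⟨⟨x, y⟩, e⟩ := hbij.2 t
  exact ⟨x, x.2, y, y.2, e.symm⟩

/-- An irrational orbit element gives everything. -/
lemma twisted_le {e : K} (he : e ∉ k) (heH : (endoE6 f).orbElt 2 54 e ∈ H) :
    twistedE6 K q ≤ H := by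
  have hC := clsW hs
  have hok := fun x hx => orb_ok hs (x := x) hx
  have ok54 := hok 54 (by simp)
  obtain ⟨-, -, -, h54, -⟩ := move_chk
  obtain ⟨r52, r54, -, -, r36, r35, r37, r34, e52, e54, -, -, e36, e35, e37, e34, -, -, r39⟩ := ρ_vals
  have hrep : ∀ M : List ℕ, (∀ j ∈ M, j < dataTwE6.CL.length) →
      nW chevE6 K (clsWord dataTwE6.CL M) ∈ (endoE6 f).fix ∧
      nW chevE6 K (clsWord dataTwE6.CL M) ∈ H := fun M hM =>
    ⟨hC.mem_fix hM, ho.fixed _ (hC.mem_fix hM) (certE6.nW_map f _)⟩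
  -- back to 52
  obtain ⟨n1, n2⟩ := hrep [2] (by decide)
  obtain ⟨a, ha, ham⟩ := certE6.Maps_nW (F := K) (hC.wordOK (M := [2]) (by decide)) ok54.1.lt
  rw [h54] at ham
  have hak : a ∈ k := ho.maps_const (certE6.nW_map f _) (hok 52 (by simp)).1.lt ham
  have h52 : (endoE6 f).orbElt 2 52 (a * e) ∈ H := by
    rw [← (endoE6 f).orbElt_conj n1 ok54.1.lt (hok 52 (by simp)).1.lt ham]
    exact mul_mem (mul_mem n2 heH) (inv_mem n2)
  have hu : a * e ∉ k := fun hh => he (by
    have := mul_mem (inv_mem hak) hh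
    rwa [inv_mul_cancel_left₀ ha] at this)
  have hall54 : (endoE6 f).All H 2 54 := by
    intro t _
    obtain ⟨x, hx, y, hy, rfl⟩ := spans hs ho hu t
    rw [← (endoE6 f).orbElt_add ok54.1]
    refine mul_mem (ho.orbElt_mem ok54.1 (ok54.2 x) hx) ?_
    obtain ⟨z, hz, e'⟩ := step hs ho (a * e) (neg_mem hy)
    have hX := ho.X_mem (show 39 < tabE6.n by decide +kernel) r39 (neg_mem hy)
    have h1 := mul_mem (mul_mem (mul_mem h52 hX) (inv_mem h52)) (inv_mem hX)
    rw [e', show -(-y * (a * e)) = y * (a * e) by ring] at h1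
    simpa using mul_mem h1 (inv_mem (ho.X_mem (certE6.frame_top ho.frame).2.1 ho.ρ_top.1 hz))
  obtain ⟨g36, g35, g37, g34⟩ := target_chk
  have htgt : ∀ (M : List ℕ) (x y : ℕ), (∀ j ∈ M, j < dataTwE6.CL.length) →
      rword tabE6 (clsWord dataTwE6.CL M) 54 = x → twistE6.rt x = y → twistE6.ep x = 1 →
      x ∈ [52, 54, 59, 43, 36, 35, 37, 34] → chkCommute tabE6 y x = true →
      ∀ t : K, X chevE6 y t * X chevE6 x (t ^ q) ∈ H := by
    intro M x y hM hx hρ hep hmem hc t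
    obtain ⟨m1, m2⟩ := hrep M hM
    have hmap := certE6.Maps_nW (F := K) (hC.wordOK hM) ok54.1.lt
    rw [hx] at hmap
    have hA := hall54.conj m1 m2 ok54.1 (hok x hmem).1 hmap (t ^ q) ((hok x hmem).2 _)
    rw [orb2 hs hρ hep (by have := (hok x hmem).1.lt; rwa [facts.1] at this) ho, Int.cast_one,
      one_mul, hs.hf, ← pow_mul, show q * q = Fintype.card K by rw [hs.hK]; ring,
      FiniteField.pow_card] at hA
    rwa [(certE6.commute_X hc t (t ^ q)).eq]
  obtain ⟨-, hc'⟩ := pair_chk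
  simp only [Bool.and_eq_true] at hc'
  obtain ⟨⟨⟨⟨-, c56⟩, c15⟩, c42⟩, c29⟩ := hc'
  refine certE6.genSubgroup_le ?_
  rintro w (⟨t, ht, r, hr, rfl⟩ | ⟨t, rs, hrs, rfl⟩)
  · simp only [List.map_cons, List.map_nil, List.prod_cons, List.prod_nil, mul_one]
    simp only [List.mem_cons, List.not_mem_nil, or_false] at hr
    rcases hr with rfl | rfl | rfl | rfl <;>
      exact ho.X_mem (by decide +kernel)
        (show twistE6.rt _ = _ by decide +kernel) ((hs.hk t).2 ht)
  · rw [chevE6_prod_pair]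
    simp only [List.mem_cons, List.not_mem_nil, or_false] at hrs
    rcases hrs with rfl | rfl | rfl | rfl
    · exact htgt [1, 2, 3, 1, 2] _ _ (by decide) g36 r36 e36 (by simp) c56 t
    · exact htgt [0, 1, 2, 3, 1, 2] _ _ (by decide) g35 r35 e35 (by simp) c15 t
    · exact htgt [2, 3, 0, 1, 2] _ _ (by decide) g37 r37 e37 (by simp) c42 t
    · exact htgt [1, 2, 3, 0, 1, 2] _ _ (by decide) g34 r34 e34 (by simp) c29 t

lemma led {z : GL chevE6.Idx K}
    (hz : ∀ m ∈ (endoE6 f).fix, mapGL chevE6 f m = m → Commute z (m * X chevE6 tabE6.top 1 * m⁻¹)) :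
    Led chevE6 tabE6 z := by
  have hC := clsW hs
  obtain ⟨-, w39, w46, w32, w27⟩ := long_chk
  obtain ⟨hn, hhalf, hl, -, s0, s1, s2, s3, s4, s5, -, -, -, n27, n32⟩ := facts
  obtain ⟨-, -, r59, r43, -, -, -, -, -, -, e59, e43, -⟩ := ρ_vals
  obtain ⟨-, -, -, -, t59, t45, t43, t40⟩ := terms
  have hlong : ∀ (M : List ℕ) (L i : ℕ), (∀ j ∈ M, j < dataTwE6.CL.length) →
      rword tabE6 (clsWord dataTwE6.CL M) tabE6.top = L → i < tabE6.l → tabE6.simple i = L →
      ∃ e : K, e ≠ 0 ∧ ∃ b ∈ gen chevE6 K (posBut tabE6 i),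
        Commute z (X chevE6 (tabE6.simple i) e * b) := by
    intro M L i hM hL hi hsi
    obtain ⟨d, hd, -, hcm⟩ := ho.commute_long hC hz hM
    refine ⟨d, hd, 1, one_mem _, ?_⟩
    have h1 := hcm 1 (one_mem _) (map_one _)
    rw [one_mul, inv_one, mul_one, hL, ← hsi] at h1
    rwa [mul_one]
  have hτ : ∀ r, r < 72 → twistE6.ep r = -1 → ∀ v : K,
      (endoE6 f).τn 1 r v = -(f v) := fun r hr he v => by
    show (endoE6 f).τ r v = _
    rw [ho.τ_eq r (by rw [hn]; exact hr), he]; push_cast; ring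
  obtain ⟨ok59, a59⟩ := orb_ok hs (show 59 ∈ [52, 54, 59, 43, 36, 35, 37, 34] by simp)
  obtain ⟨ok43, a43⟩ := orb_ok hs (show 43 ∈ [52, 54, 59, 43, 36, 35, 37, 34] by simp)
  obtain ⟨d27, hd27, -, hcm27⟩ := ho.commute_long hC hz (M := [1, 2, 3, 1, 2, 0, 1, 2, 3]) (by decide)
  obtain ⟨d32, hd32, -, hcm32⟩ := ho.commute_long hC hz (M := [2, 3, 1, 2, 0, 1, 2, 3]) (by decide)
  rw [w27] at hcm27
  rw [w32] at hcm32
  have hwit59 : witWord (endoE6 f) 2 59 27 d27 =
      [(59, 1), (45, -1), (59, -1), (56, -d27), (45, 1), (36, -d27)] := by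
    simp [witWord, List.range_succ, show (endoE6 f).ρ 59 = 45 from r59, Tab.cj, t59, t45,
      hτ 59 (by norm_num) e59, show ∀ v, (endoE6 f).τn 0 59 v = v from fun _ => rfl]
  have hwit43 : witWord (endoE6 f) 2 43 32 d32 =
      [(43, 1), (40, -1), (43, -1), (42, -d32), (40, 1), (37, -d32)] := by
    simp [witWord, List.range_succ, show (endoE6 f).ρ 43 = 40 from r43, Tab.cj, t43, t40,
      hτ 43 (by norm_num) e43, show ∀ v, (endoE6 f).τn 0 43 v = v from fun _ => rfl]
  have hW := centralE6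
  intro i hi
  have hi6 : i < 6 := hl ▸ hi
  have w59 : ∀ i, i < tabE6.l → (tabE6.simple i = 56 ∨ tabE6.simple i = 36) →
      ∃ e : K, e ≠ 0 ∧ ∃ b ∈ gen chevE6 K (posBut tabE6 i),
        Commute z (X chevE6 (tabE6.simple i) e * b) := fun i hi hsi => by
    refine ho.led_witness hW ok59 (a59 1) (by rw [hn]; norm_num) hcm27 (fun j hj => ?_) hi ?_ ?_
    · interval_cases j <;> simp [show (endoE6 f).ρ 59 = 45 from r59, n27]
    · rw [hwit59]
      simp only [List.mem_cons, List.not_mem_nil, or_false, forall_eq_or_imp, forall_eq, posSet,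
        Set.mem_ofPred_eq, hn, hhalf]
      norm_num
    · rw [hwit59]
      rcases hsi with e | e <;> simp [cw, e, hd27]
  have w43 : ∀ i, i < tabE6.l → (tabE6.simple i = 42 ∨ tabE6.simple i = 37) →
      ∃ e : K, e ≠ 0 ∧ ∃ b ∈ gen chevE6 K (posBut tabE6 i),
        Commute z (X chevE6 (tabE6.simple i) e * b) := fun i hi hsi => by
    refine ho.led_witness hW ok43 (a43 1) (by rw [hn]; norm_num) hcm32 (fun j hj => ?_) hi ?_ ?_
    · interval_cases j <;> simp [show (endoE6 f).ρ 43 = 40 from r43, n32]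
    · rw [hwit43]
      simp only [List.mem_cons, List.not_mem_nil, or_false, forall_eq_or_imp, forall_eq, posSet,
        Set.mem_ofPred_eq, hn, hhalf]
      norm_num
    · rw [hwit43]
      rcases hsi with e | e <;> simp [cw, e, hd32]
  interval_cases i
  · exact w59 0 hi (Or.inl s0)
  · exact hlong _ 46 1 (by decide) w46 hi s1
  · exact w43 2 hi (Or.inl s2)
  · exact hlong _ 39 3 (by decide) w39 hi s3
  · exact w43 4 hi (Or.inr s4)
  · exact w59 5 hi (Or.inr s5)

/-- Either everything is rational, or the twisted group is inside. -/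
theorem dichotomy : (∀ g ∈ H, mapGL chevE6 f g = g) ∨ twistedE6 K q ≤ H := by
  have hC := clsW hs
  by_cases hR : TRat (endoE6 f) k H 52
  swap
  · obtain ⟨e, he, heH⟩ := exists_irr hs ho hR
    exact Or.inr (twisted_le hs ho he heH)
  obtain ⟨hmv, m48, m49, m54, m55, m66⟩ := move_chk
  simp only [List.all_eq_true] at hmv
  have hq : ∀ r ∈ [48, 49, 54, 55, 66], r ∈ tabE6.qList ∧ r ≠ tabE6.top := by decide +kernel
  have hall : ∀ p ∈ longs ++ shorts, TRat (endoE6 f) k H p.2 := by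
    intro p hp
    rcases List.mem_append.1 hp with hp | hp
    · have h1 : p.1 = 1 := by
        revert p; decide
      obtain ⟨m, x⟩ := p
      obtain rfl : m = 1 := h1
      exact ho.rat_long orbs_chk (List.mem_append_left _ hp)
    · simp only [shorts, List.mem_cons, List.not_mem_nil, or_false] at hp
      have mv : ∀ (M : List ℕ) (r : ℕ), M ∈ [[1, 0], [1], [2], [2, 1], [2, 1, 0]] →
          r ∈ [48, 49, 54, 55, 66] → rword tabE6 (clsWord dataTwE6.CL M) r = 52 →
          TRat (endoE6 f) k H r := fun M r hM hr e =>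
        ho.rat_move hC (hmv M hM) (hq r hr).1 (hq r hr).2 (e ▸ hR)
      rcases hp with rfl | rfl | rfl | rfl | rfl | rfl
      · exact hR
      · exact mv _ _ (by simp) (by simp) m48
      · exact mv _ _ (by simp) (by simp) m49
      · exact mv _ _ (by simp) (by simp) m54
      · exact mv _ _ (by simp) (by simp) m55
      · exact mv _ _ (by simp) (by simp) m66
  refine Or.inl fun g hg => ho.map_eq_self hC orbs_chk hall (Mt := [3, 2, 1, 2, 0, 1, 2, 3, 2, 1, 2, 0, 1, 2, 3])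
    (by decide) long_chk.1
    (M0 := [3, 2, 1, 2, 0, 1, 2, 3, 2, 1, 2, 0, 1, 2, 3, 2, 1, 2, 0, 1, 2, 0, 1, 0]) (by decide)
    (fun r hr hrn => ?_) centralE6 (fun z _ hz => led hs ho hz) hg
  have h1 := longest_chk
  simp only [List.all_eq_true, List.mem_range, Bool.or_eq_true, decide_eq_true_eq] at h1
  exact (h1 r hrn).resolve_left (by omega)

omit ho in
/-- Some element is not rational. -/
theorem exists_not_rational :
    ∃ g ∈ twistedE6 K q, mapGL chevE6 f g ≠ g := by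
  have h2 := hs.hq.two_le
  obtain ⟨t, ht⟩ : ∃ t : K, t ^ q ≠ t := by
    by_contra hne
    simp only [not_exists, not_not] at hne
    have h1 := card_pow_eq_self (F := K) (q := q) (by omega) (dvd_card_E6 hs.hK)
    rw [Nat.card_congr (Equiv.subtypeUnivEquiv hne), Nat.card_eq_fintype_card, hs.hK] at h1
    nlinarith
  refine ⟨X chevE6 e6p1 t * X chevE6 e6p6 (t ^ q), ?_, fun e => ht ?_⟩
  · rw [← chevE6_prod_pair]
    exact certE6.prod_mem_genSubgroup (Or.inr ⟨t, (e6p1, e6p6), by simp, rfl⟩)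
  have hl : chkCommute tabE6 56 36 = true ∧ 36 < tabE6.n ∧ 56 < tabE6.n ∧ tabE6.half = 36 ∧ tabE6.n = 72 := by
    decide +kernel
  rw [map_mul, certE6.X_map, certE6.X_map, hs.hf, hs.hf,
    show e6p1 = 56 from rfl, show e6p6 = 36 from rfl, (certE6.commute_X hl.1 _ _).eq,
    (certE6.commute_X hl.1 t _).eq] at e
  have h1 := certE6.prodX_inj [36, 56] (by decide) (fun r hr => by
      simp only [List.mem_cons, List.not_mem_nil, or_false] at hr
      rcases hr with rfl | rfl <;> exact ⟨by omega, by omega⟩)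
    (fun r => if r = 36 then (t ^ q) ^ q else t ^ q) (fun r => if r = 36 then t ^ q else t)
    (by simpa [prodX] using e) 56 (by simp)
  simpa using h1

end CfsgLib.Chev.SubE6
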