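import Cfsg.Agent.Lib.Chev.TwistSubfieldBase
import Cfsg.Agent.Lib.Chev.TwistSubfieldCentral
import Cfsg.Agent.Lib.Chev.BorelTits

/-!
Overgroups of the rational points of a twisted group: frames, their transport, and the criterion for rationality.
-/

set_option autoImplicit false
set_option maxRecDepth 100000
set_option linter.unusedSectionVars false

namespace CfsgLib.Chev

open Cfsg.Lie Matrix

/-- `q x_0(c) q⁻¹` lies in `H`, all fixed. -/
def TFrame {D : ChevalleyDatum} {T : Tab} {C : Tab.Cover} {h : Cert D T C} {K : Type*} [Field K]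
    (E : Endo h K) (k : Subfield K) (H : Subgroup (GL D.Idx K)) (c : K) (q : GL D.Idx K) : Prop :=
  c ≠ 0 ∧ c ∈ k ∧ q ∈ Qgrp D T K ∧ q ∈ E.fix ∧ q * X D 0 c * q⁻¹ ∈ H

/-- All coordinates of frames at the root lie in the subfield. -/
def TRat {D : ChevalleyDatum} {T : Tab} {C : Tab.Cover} {h : Cert D T C} {K : Type*} [Field K]
    (E : Endo h K) (k : Subfield K) (H : Subgroup (GL D.Idx K)) (r : ℕ) : Prop :=
  ∀ c t, TFrame E k H c (prodX D T.qList t) → t r ∈ k

/-- Classes with fixed representatives. -/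
structure ClsW {D : ChevalleyDatum} {T : Tab} {C : Tab.Cover} {h : Cert D T C} {K : Type*} [Field K]
    (E : Endo h K) (CL : List Cls) : Prop where
  ok : E.ClsOK CL
  nW : ∀ c ∈ CL, nW D K c.word ∈ E.fix

/-- A word of classes moving the frame into itself. -/
def Tab.chkFrameMove (T : Tab) (CL : List Cls) (M : List ℕ) : Bool :=
  M.all (fun j => decide (j < CL.length)) &&
    decide (rword T (clsWord CL M) T.top = T.top ∧ rword T (clsWord CL M) 0 = 0) &&
    T.qList.all fun r => T.inQ (rword T (clsWord CL M) r)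

/-- The orbit word of a witness at a simple root. -/
noncomputable def witWord {D : ChevalleyDatum} {T : Tab} {C : Tab.Cover} {h : Cert D T C} {K : Type*}
    [Field K] (E : Endo h K) (m r L : ℕ) (d : K) : List (ℕ × K) :=
  ((List.range m).map fun j => (E.ρ^[j] r, E.τn j r 1)) ++
    ((List.range m).map fun j => (E.ρ^[j] r, E.τn j r (-1))).flatMap (T.cj L d)

namespace ClsW

variable {D : ChevalleyDatum} {T : Tab} {C : Tab.Cover} {h : Cert D T C} {K : Type*} [Field K]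
  {E : Endo h K} {CL : List Cls} (hC : ClsW E CL)
include hC

lemma wordOK {M : List ℕ} (hM : ∀ j ∈ M, j < CL.length) : WordOK T (clsWord CL M) :=
  E.wordOK_clsWord hC.ok hM

lemma reps : E.Reps E.fix CL := fun c hc =>
  ⟨CfsgLib.Chev.nW D K c.word, hC.nW c hc, hC.nW c hc,
    h.nW_mem_monomial (hC.ok.wordOK E hc), fun r hr => h.Maps_nW (hC.ok.wordOK E hc) hr⟩

lemma mem_fix : ∀ {M : List ℕ}, (∀ j ∈ M, j < CL.length) → CfsgLib.Chev.nW D K (clsWord CL M) ∈ E.fix
  | [], _ => by simp [clsWord, CfsgLib.Chev.nW, one_mem]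
  | j :: M, hM => by
    have hj := hM j List.mem_cons_self
    rw [show clsWord CL (j :: M) = (CL.getD j ⟨[], []⟩).word ++ clsWord CL M from rfl,
      nW_append, List.getD_eq_getElem _ _ hj]
    exact mul_mem (hC.nW _ (List.getElem_mem hj))
      (mem_fix fun i hi => hM i (List.mem_cons_of_mem _ hi))

lemma rword_rev : ∀ {M : List ℕ}, (∀ j ∈ M, j < CL.length) → ∀ r < T.n,
    rword T (clsWord CL M.reverse) (rword T (clsWord CL M) r) = r
  | [], _, _, _ => rfl
  | j :: M, hM, r, hr => by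
    have hj := hM j List.mem_cons_self
    have hM' : ∀ i ∈ M, i < CL.length := fun i hi => hM i (List.mem_cons_of_mem _ hi)
    rw [show clsWord CL (j :: M) = (CL.getD j ⟨[], []⟩).word ++ clsWord CL M from rfl,
      show clsWord CL (j :: M).reverse = clsWord CL M.reverse ++ (CL.getD j ⟨[], []⟩).word by
        simp [clsWord],
      rword_append, rword_append, List.getD_eq_getElem _ _ hj,
      hC.ok.invol _ (List.getElem_mem hj) _ (h.rword_lt (hC.wordOK hM') hr), rword_rev hM' r hr]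

end ClsW

namespace TOver

open Cert (inQ_lt mem_qList sortedLT_qList top_inQ wordX_mem_Qgrp mem_posList posList_set
  sortedLT_posList conj_gen_le)

variable {D : ChevalleyDatum} {T : Tab} {C : Tab.Cover} {h : Cert D T C} {K : Type*} [Field K]
  {E : Endo h K} {σ : K →+* K} {k : Subfield K} {sg : ℕ → ℤ} {H : Subgroup (GL D.Idx K)}
  (ho : TOver E σ k sg H) {CL : List Cls} (hC : ClsW E CL)
include ho

lemma maps_const {n : GL D.Idx K} (hn : mapGL D σ n = n) {r s : ℕ} (hs : s < T.n) {c : K}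
    (hc : ∀ t, n * X D r t * n⁻¹ = X D s (c * t)) : c ∈ k := by
  have h1 := congrArg (mapGL D σ) (hc 1)
  rw [map_mul, map_mul, map_inv, hn, ho.map_X, ho.map_X, map_one, hc, mul_one] at h1
  exact (ho.mem_k c).2 (h.X_inj hs h1).symm

/-- Both factors of a stable splitting are fixed. -/
lemma fix_of_split {A B : Set ℕ} (hA : ∀ r ∈ A, r < T.n) (hB : ∀ r ∈ B, r < T.n)
    (hAρ : ∀ r ∈ A, E.ρ r ∈ A) (hBρ : ∀ r ∈ B, E.ρ r ∈ B)
    (hdis : ∀ x ∈ gen D K A, x ∈ gen D K B → x = 1) {a b : GL D.Idx K} (ha : a ∈ gen D K A)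
    (hb : b ∈ gen D K B) (hab : a * b ∈ E.fix) : a ∈ E.fix ∧ b ∈ E.fix := by
  have haG := h.gen_le_group hA ha
  have hbG := h.gen_le_group hB hb
  have e := E.act_of_fix hab
  rw [E.act_mul haG hbG] at e
  have e' : a⁻¹ * E.act a = b * (E.act b)⁻¹ := by
    rw [eq_mul_inv_iff_mul_eq, mul_assoc, e, inv_mul_cancel_left]
  have h1 := hdis _ (mul_mem (inv_mem ha) (E.act_mem_gen hA hAρ ha))
    (e' ▸ mul_mem hb (inv_mem (E.act_mem_gen hB hBρ hb)))
  have h2 : a = E.act a := inv_mul_eq_one.1 h1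
  rw [← h2] at e
  exact ⟨E.mem_fix.2 ⟨haG, h2.symm⟩, E.mem_fix.2 ⟨hbG, mul_left_cancel e⟩⟩

include hC

set_option maxHeartbeats 1600000 in
/-- A conjugate of `x_top(1)` in `H` goes to the frame by a rational fixed element. -/
theorem exists_tframe {Mt : List ℕ} (hMt : ∀ j ∈ Mt, j < CL.length)
    (htop0 : rword T (clsWord CL Mt) T.top = 0) {g : GL D.Idx K} (hg : g ∈ E.fix)
    (hy : g * X D T.top 1 * g⁻¹ ∈ H) :
    ∃ m, mapGL D σ m = m ∧ ∃ c q, TFrame E k H c q ∧
      m * (g * X D T.top 1 * g⁻¹) * m⁻¹ = q * X D 0 c * q⁻¹ := by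
  have hf := ho.frame
  obtain ⟨ht1, ht2, ht3, ht4, ht5, ht6, ht7⟩ := h.frame_top hf
  obtain ⟨w, hw, hwc, n, -, hnf, -, hnM, b, hb, u, hu, rfl⟩ := E.bruhat_fix hC.ok hC.reps hg
  have hucomm : u * X D T.top 1 * u⁻¹ = X D T.top 1 := by
    refine mul_inv_eq_iff_eq_mul.2 (Subgroup.mem_centralizer_singleton_iff.1
      ((?_ : D.posUnipotent K ≤ Subgroup.centralizer {X D T.top (1 : K)})
        (Endo.cellUnipotent_le_pos (h := h) hw hnM hu.2)))
    rw [h.posUnipotent_eq, gen, Subgroup.closure_le]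
    rintro _ ⟨r, hr, t, rfl⟩
    exact Subgroup.mem_centralizer_singleton_iff.2 (h.pos_commute_top hf hr.1 hr.2 t 1).eq
  obtain ⟨d, hd, hdm⟩ := hnM T.top ht2
  obtain ⟨v, hv, t, ht, rfl⟩ := E.borel_fix.1 hb
  set s := rword T w T.top with hs
  have hsn : s < T.n := h.rword_lt hw ht2
  obtain ⟨d', hd', hd'm⟩ := h.Maps_diagonal ht.2 hsn
  have ey : v * t * n * u * X D T.top 1 * (v * t * n * u)⁻¹ = v * X D s (d' * (d * 1)) * v⁻¹ := by
    rw [show v * t * n * u * X D T.top 1 * (v * t * n * u)⁻¹ =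
      v * (t * (n * (u * X D T.top 1 * u⁻¹) * n⁻¹) * t⁻¹) * v⁻¹ by group, hucomm, hdm, hd'm]
  have hyF := ho.le hy
  rw [ey] at hy hyF ⊢
  -- the word from `s` to the lowest root
  obtain ⟨M, hM, eM⟩ := E.exists_cls_list hC.ok hw hwc
  set M' := Mt ++ M.reverse with hM'def
  have hM' : ∀ j ∈ M', j < CL.length := fun j hj => (List.mem_append.1 hj).elim (hMt j)
    fun hj => hM j (List.mem_reverse.1 hj)
  set w' := clsWord CL M' with hw'
  have hww : WordOK T w' := hC.wordOK hM'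
  have hwc' : E.Comm w' := E.comm_clsWord hC.ok hM'
  have hws : rword T w' s = 0 := by
    rw [hw', hM'def, show clsWord CL (Mt ++ M.reverse) = clsWord CL Mt ++ clsWord CL M.reverse by
      simp [clsWord], rword_append, hs, eM _ ht2, hC.rword_rev hM _ ht2, htop0]
  obtain ⟨d'', hd'', hd''m⟩ := h.Maps_nW (F := K) hww hsn
  rw [hws] at hd''m
  set N := nW D K w' with hN
  have hNF : N ∈ E.fix := hC.mem_fix hM'
  have hNσ : mapGL D σ N = N := h.nW_map σ w'
  have hv' : v ∈ gen D K {r | r ∈ posList T} := by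
    rw [posList_set, ← h.posUnipotent_eq]; exact hv.2
  obtain ⟨a₀, ha₀, b₀, hb₀, hvab⟩ := h.exists_split {r | T.half ≤ rword T w' r} (posList T)
    sortedLT_posList (fun r hr => mem_posList.1 hr)
    (by rw [posList_set]; exact h.commClosed_posSet) v hv'
  rw [posList_set] at ha₀ hb₀
  have hposρ : ∀ r ∈ posSet T, E.ρ r ∈ posSet T ∧
      (T.half ≤ rword T w' (E.ρ r) ↔ T.half ≤ rword T w' r) := fun r hr => by
    refine ⟨⟨(E.sym.pos r hr.2).2 hr.1, E.sym.lt r hr.2⟩, ?_⟩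
    rw [← hwc' r hr.2]
    exact E.sym.pos _ (h.rword_lt hww hr.2)
  have hconjA : ∀ x ∈ gen D K (posSet T ∩ {r | T.half ≤ rword T w' r}),
      N * x * N⁻¹ ∈ gen D K {r | r ∈ posList T} := fun x hx =>
    conj_gen_le (S' := {r | r ∈ posList T}) (fun r hr => ⟨rword T w' r,
      mem_posList.2 ⟨hr.2, h.rword_lt hww hr.1.2⟩, h.Maps_nW hww hr.1.2⟩) hx
  have hconjB : ∀ x ∈ gen D K (posSet T \ {r | T.half ≤ rword T w' r}),
      N * x * N⁻¹ ∈ gen D K {r | r < T.half} := fun x hx =>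
    conj_gen_le (S' := {r | r < T.half}) (fun r hr => ⟨rword T w' r,
      not_le.1 (show ¬ T.half ≤ rword T w' r from hr.2), h.Maps_nW hww hr.1.2⟩) hx
  obtain ⟨hafix, -⟩ := ho.fix_of_split (A := posSet T ∩ {r | T.half ≤ rword T w' r})
    (B := posSet T \ {r | T.half ≤ rword T w' r}) (fun r hr => hr.1.2) (fun r hr => hr.1.2)
    (fun r hr => ⟨(hposρ r hr.1).1, (hposρ r hr.1).2.2 hr.2⟩)
    (fun r hr => ⟨(hposρ r hr.1).1, fun e => hr.2 ((hposρ r hr.1).2.1 e)⟩)
    (fun x hxa hxb => by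
      have h1 : N * x * N⁻¹ ∈ D.borelSubgroup K ⊓ D.negUnipotent K := by
        refine Subgroup.mem_inf.2 ⟨Subgroup.mem_sup_left ?_, ?_⟩
        · rw [h.posUnipotent_eq, ← posList_set]; exact hconjA x hxa
        · rw [h.negUnipotent_eq]; exact hconjB x hxb
      rw [h.borel_inf_negUnipotent, Subgroup.mem_bot] at h1
      simpa using h1)
    ha₀ hb₀ (hvab ▸ hv.1)
  have hb' : Commute (N * b₀ * N⁻¹) (X D 0 (d'' * (d' * (d * 1)))) := by
    refine Subgroup.mem_centralizer_singleton_iff.1 ((?_ : gen D K {r | r < T.half} ≤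
      Subgroup.centralizer {X D 0 (d'' * (d' * (d * 1)))}) (hconjB _ hb₀))
    rw [gen, Subgroup.closure_le]
    rintro _ ⟨r, hr, t, rfl⟩
    exact Subgroup.mem_centralizer_singleton_iff.2 (h.neg_commute_zero hf hr t _).eq
  obtain ⟨q, hq, l, hl, hql⟩ := h.exists_split {r | T.inQ r = true} (posList T)
    sortedLT_posList (fun r hr => mem_posList.1 hr)
    (by rw [posList_set]; exact h.commClosed_posSet) _ (hconjA _ ha₀)
  rw [posList_set] at hq hl
  have hchk := ho.chk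
  simp only [Tab.chkTwFrame, Bool.and_eq_true, decide_eq_true_eq, List.all_eq_true,
    List.mem_range, Bool.or_eq_true, Bool.not_eq_true', decide_eq_false_iff_not] at hchk
  obtain ⟨hqF, -⟩ := ho.fix_of_split (A := posSet T ∩ {r | T.inQ r = true})
    (B := posSet T \ {r | T.inQ r = true}) (fun r hr => hr.1.2) (fun r hr => hr.1.2)
    (fun r hr => ⟨(hposρ r hr.1).1, (ho.inQ_ρ hr.1.2).trans hr.2⟩)
    (fun r hr => ⟨(hposρ r hr.1).1, fun e => hr.2 ((ho.inQ_ρ hr.1.2).symm.trans e)⟩)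
    (fun x hxa hxb => by
      have h1 := h.gen_inf_gen_le (F := K) (S := posSet T ∩ {r | T.inQ r = true})
        (S' := posSet T \ {r | T.inQ r = true}) (fun r hr => hr.1) ?_ (fun r hr => hr.1) ?_
        (Subgroup.mem_inf.2 ⟨hxa, hxb⟩)
      · have hemp : (posSet T ∩ {r | T.inQ r = true}) ∩ (posSet T \ {r | T.inQ r = true}) = ∅ :=
          Set.eq_empty_iff_forall_notMem.2 fun r hr => hr.2.2 hr.1.2
        rw [hemp, gen] at h1
        simpa using h1
      · intro r hr s hs hne c hc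
        refine ⟨(h.commTerms_pos hr.1.1 hr.1.2 hs.1.1 hs.1.2 hc).2, ?_⟩
        have hfr := hf
        simp only [Tab.chkFrame, Bool.and_eq_true, Bool.or_eq_true, List.all_eq_true, List.mem_range,
          decide_eq_true_eq, List.isEmpty_iff] at hfr
        show T.inQ c.1 = true
        rcases (hfr.2 r hr.1.2).2 with e | e
        · simp [show T.inQ r = true from hr.2] at e
        rcases e s hs.1.2 with (e | e) | e
        · simp [show T.inQ s = true from hs.2] at e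
        · exact absurd e.symm hne
        · rw [(e c hc).1]; exact top_inQ hf
      · intro r hr s hs hne c hc
        refine ⟨(h.commTerms_pos hr.1.1 hr.1.2 hs.1.1 hs.1.2 hc).2, ?_⟩
        rcases (hchk.2 r hr.1.2).2 s hs.1.2 with (((e | e) | e) | e) | e
        · exact absurd ⟨hr.1.1, hs.1.1⟩ e
        · exact absurd e hr.2
        · exact absurd e hs.2
        · exact absurd e.symm hne
        · have := e c hc
          simpa using this)
    hq hl (hql ▸ mul_mem (mul_mem hNF hafix) (inv_mem hNF))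
  have hl' : Commute l (X D 0 (d'' * (d' * (d * 1)))) := by
    refine Subgroup.mem_centralizer_singleton_iff.1
      (((Subgroup.closure_le _).2 ?_ : gen D K (posSet T \ {r | T.inQ r = true}) ≤
        Subgroup.centralizer {X D 0 (d'' * (d' * (d * 1)))}) hl)
    rintro _ ⟨r, hr, t, rfl⟩
    exact Subgroup.mem_centralizer_singleton_iff.2
      (h.levi_commute_zero hf hr.1.1 hr.1.2 (Bool.eq_false_iff.2 hr.2) t _).eq
  have econj : N * (v * X D s (d' * (d * 1)) * v⁻¹) * N⁻¹ =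
      q * X D 0 (d'' * (d' * (d * 1))) * q⁻¹ := by
    rw [hvab]
    calc N * (a₀ * b₀ * X D s (d' * (d * 1)) * (a₀ * b₀)⁻¹) * N⁻¹
        = (N * a₀ * N⁻¹) * ((N * b₀ * N⁻¹) * (N * X D s (d' * (d * 1)) * N⁻¹) *
            (N * b₀ * N⁻¹)⁻¹) * (N * a₀ * N⁻¹)⁻¹ := by group
      _ = (N * a₀ * N⁻¹) * X D 0 (d'' * (d' * (d * 1))) * (N * a₀ * N⁻¹)⁻¹ := by
          rw [hd''m, hb'.eq, mul_inv_cancel_right]
      _ = q * (l * X D 0 (d'' * (d' * (d * 1))) * l⁻¹) * q⁻¹ := by rw [hql]; group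
      _ = _ := by rw [hl'.eq, mul_inv_cancel_right]
  have hNH : N ∈ H := ho.fixed _ hNF hNσ
  have hy0 := mul_mem (mul_mem hNH hy) (inv_mem hNH)
  rw [econj] at hy0
  refine ⟨N, hNσ, _, q, ⟨?_, ?_, ?_, hqF, hy0⟩, econj⟩
  · exact mul_ne_zero hd'' (mul_ne_zero hd' (mul_ne_zero hd one_ne_zero))
  · refine ho.mem_of_X_fix ht6 ho.ρ_top.2 ?_
    have := mul_mem (mul_mem (inv_mem hqF) (ho.le hy0)) hqF
    rwa [show q⁻¹ * (q * X D 0 (d'' * (d' * (d * 1))) * q⁻¹) * q =
      X D 0 (d'' * (d' * (d * 1))) by group] at this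
  · exact gen_mono D (fun r hr => hr.2) hq

/-- Rationality passes back along moves of the frame. -/
lemma rat_move {M : List ℕ} (hM : T.chkFrameMove CL M = true) {r : ℕ} (hr : r ∈ T.qList)
    (hrt : r ≠ T.top) (hR : TRat E k H (rword T (clsWord CL M) r)) : TRat E k H r := by
  have hf := ho.frame
  obtain ⟨ht1, ht2, ht3, ht4, ht5, ht6, ht7⟩ := h.frame_top hf
  simp only [Tab.chkFrameMove, Bool.and_eq_true, List.all_eq_true, decide_eq_true_eq] at hM
  obtain ⟨⟨hM, htop, h0⟩, hQ⟩ := hM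
  set w := clsWord CL M
  have hw : WordOK T w := hC.wordOK hM
  set n := nW D K w with hn
  have hnF : n ∈ E.fix := hC.mem_fix hM
  have hnσ : mapGL D σ n = n := h.nW_map σ w
  have hnH : n ∈ H := ho.fixed _ hnF hnσ
  choose! cf hcf0 hcf using fun s (hs : s < T.n) => h.Maps_nW (F := K) hw hs
  have hcfk : ∀ s < T.n, cf s ∈ k := fun s hs =>
    ho.maps_const hnσ (h.rword_lt hw hs) (hcf s hs)
  intro c t ⟨hc0, hck, hqQ, hqF, hy⟩
  set wl := T.qList.map fun s => (rword T w s, cf s * t s) with hwl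
  have hwlQ : ∀ p ∈ wl, T.inQ p.1 = true := by
    intro p hp
    obtain ⟨s, hs, rfl⟩ := List.mem_map.1 hp
    exact hQ s hs
  have eq' : n * prodX D T.qList t * n⁻¹ = wordX D wl := by
    rw [← MulAut.conj_apply, prodX, map_list_prod, List.map_map, wordX, hwl, List.map_map]
    refine congrArg List.prod (List.map_congr_left fun s hs => ?_)
    exact hcf s (inQ_lt (mem_qList.1 hs)).2 (t s)
  obtain ⟨t', ht'⟩ := h.exists_prodX_Qgrp hf (wordX_mem_Qgrp (D := D) hwlQ)
  have hk1 := hcf 0 ht6 c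
  rw [h0] at hk1
  have h1 : t' (rword T w r) ∈ k := by
    refine hR (cf 0 * c) t' ⟨mul_ne_zero (hcf0 0 ht6) hc0, mul_mem (hcfk 0 ht6) hck,
      ht' ▸ wordX_mem_Qgrp hwlQ, ?_, ?_⟩
    · rw [← ht', ← eq']; exact mul_mem (mul_mem hnF hqF) (inv_mem hnF)
    · rw [← ht', ← eq', ← hk1]
      have := mul_mem (mul_mem hnH hy) (inv_mem hnH)
      rwa [show n * prodX D T.qList t * n⁻¹ * (n * X D 0 c * n⁻¹) * (n * prodX D T.qList t * n⁻¹)⁻¹ =
        n * (prodX D T.qList t * X D 0 c * (prodX D T.qList t)⁻¹) * n⁻¹ by group]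
  have hrn := (inQ_lt (mem_qList.1 hr)).2
  have e : t' (rword T w r) = cw wl (rword T w r) := h.coord_of_word hf hwlQ (z := 0)
    (by rw [h.X_zero ht2, mul_one, ht']) (mem_qList.2 (hQ r hr))
    (fun e => hrt (h.rword_inj hw hrn ht2 (e.trans htop.symm)))
  rw [e, hwl, cw_map_of_inj sortedLT_qList.nodup (fun a ha b hb e =>
    h.rword_inj hw (inQ_lt (mem_qList.1 ha)).2 (inQ_lt (mem_qList.1 hb)).2 e) _ hr] at h1
  have := mul_mem (inv_mem (hcfk r hrn)) h1
  rwa [inv_mul_cancel_left₀ (hcf0 r hrn)] at this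

/-- With rational coordinates everything in `H` is rational. -/
theorem map_eq_self {O : List (ℕ × ℕ)} (hO : T.chkOrbs E.ρ O = true)
    (hall : ∀ p ∈ O, TRat E k H p.2) {Mt : List ℕ} (hMt : ∀ j ∈ Mt, j < CL.length)
    (htop0 : rword T (clsWord CL Mt) T.top = 0) {M0 : List ℕ} (hM0 : ∀ j ∈ M0, j < CL.length)
    (hneg : ∀ r, T.half ≤ r → r < T.n → rword T (clsWord CL M0) r < T.half)
    {n : ℕ} {W : List (ℕ × ℕ)} (hW : T.chkLedCentral n W = true)
    (hled : ∀ z ∈ D.group K,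
      (∀ m ∈ E.fix, mapGL D σ m = m → Commute z (m * X D T.top 1 * m⁻¹)) → Led D T z)
    {g : GL D.Idx K} (hg : g ∈ H) : mapGL D σ g = g := by
  have hf := ho.frame
  obtain ⟨ht1, ht2, -⟩ := h.frame_top hf
  have htop1 : X D T.top (1 : K) ∈ H := ho.X_mem ht2 ho.ρ_top.1 (one_mem k)
  have key : ∀ g ∈ H, mapGL D σ (g * X D T.top 1 * g⁻¹) = g * X D T.top 1 * g⁻¹ := by
    intro g hg
    obtain ⟨m, hmσ, c, q, hS, e⟩ := ho.exists_tframe hC hMt htop0 (ho.le hg)
      (mul_mem (mul_mem hg htop1) (inv_mem hg))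
    obtain ⟨t, rfl⟩ := h.exists_prodX_Qgrp hf hS.2.2.1
    obtain ⟨hadm, z, hz, eq⟩ := ho.orb_form hO hS.2.2.2.1
    have hq : mapGL D σ (prodX D T.qList t) = prodX D T.qList t := by
      rw [eq, map_mul, ho.map_X, (ho.mem_k z).1 hz, map_list_prod, List.map_map]
      congr 2
      refine List.map_congr_left fun p hp => ?_
      exact ho.orbElt_map (orbOK_of_chk hO hp).lt (hall p hp c t hS) p.1
    have e2 := congrArg (mapGL D σ) e
    have e3 : mapGL D σ (prodX D T.qList t * X D 0 c * (prodX D T.qList t)⁻¹) =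
        prodX D T.qList t * X D 0 c * (prodX D T.qList t)⁻¹ := by
      rw [map_mul, map_mul, map_inv, hq, ho.map_X, (ho.mem_k c).1 hS.2.1]
    rw [e3, map_mul, map_mul, map_inv, hmσ, ← e] at e2
    exact mul_left_cancel (mul_right_cancel e2)
  have hσg := ho.map_mem_fix (ho.le hg)
  have hzG : g⁻¹ * mapGL D σ g ∈ D.group K :=
    E.fix_le_group (mul_mem (inv_mem (ho.le hg)) hσg)
  have hcomm : ∀ m ∈ E.fix, mapGL D σ m = m →
      Commute (g⁻¹ * mapGL D σ g) (m * X D T.top 1 * m⁻¹) := by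
    intro m hmF hmσ
    have h1 := key (g * m) (mul_mem hg (ho.fixed _ hmF hmσ))
    simp only [map_mul, map_inv, hmσ, ho.map_X, map_one] at h1
    show g⁻¹ * mapGL D σ g * (m * X D T.top 1 * m⁻¹) = m * X D T.top 1 * m⁻¹ * (g⁻¹ * mapGL D σ g)
    calc g⁻¹ * mapGL D σ g * (m * X D T.top 1 * m⁻¹)
        = g⁻¹ * (mapGL D σ g * m * X D T.top 1 * (mapGL D σ g * m)⁻¹) * mapGL D σ g := by group
      _ = g⁻¹ * (g * m * X D T.top 1 * (g * m)⁻¹) * mapGL D σ g := by rw [h1]
      _ = _ := by group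
  have hone : g⁻¹ * mapGL D σ g = 1 := by
    set n0 := nW D K (clsWord CL M0)
    have hn0 : n0 ∈ E.fix := hC.mem_fix hM0
    have hn0σ : mapGL D σ n0 = n0 := h.nW_map σ _
    have hn0G := E.fix_le_group hn0
    refine h.eq_one_of_led hW hzG (hC.wordOK hM0) hneg (hled _ hzG hcomm)
      (hled _ (mul_mem (mul_mem hn0G hzG) (inv_mem hn0G)) fun m hmF hmσ => ?_)
    have h2 := (hcomm (n0⁻¹ * m) (mul_mem (inv_mem hn0) hmF)
      (by rw [map_mul, map_inv, hn0σ, hmσ])).map (MulAut.conj n0)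
    rw [MulAut.conj_apply, MulAut.conj_apply] at h2
    rwa [show n0 * (n0⁻¹ * m * X D T.top 1 * (n0⁻¹ * m)⁻¹) * n0⁻¹ = m * X D T.top 1 * m⁻¹ by group]
      at h2
  exact (inv_mul_eq_one.1 hone).symm

/-- The long roots reached by classes. -/
lemma commute_long {z : GL D.Idx K}
    (hz : ∀ m ∈ E.fix, mapGL D σ m = m → Commute z (m * X D T.top 1 * m⁻¹))
    {M : List ℕ} (hM : ∀ j ∈ M, j < CL.length) :
    ∃ d : K, d ≠ 0 ∧ d ∈ k ∧ ∀ m ∈ E.fix, mapGL D σ m = m →
      Commute z (m * X D (rword T (clsWord CL M) T.top) d * m⁻¹) := by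
  have ht2 := (h.frame_top ho.frame).2.1
  set n := nW D K (clsWord CL M)
  have hw := hC.wordOK hM
  obtain ⟨d, hd, hdm⟩ := h.Maps_nW (F := K) hw ht2
  refine ⟨d, hd, ho.maps_const (h.nW_map σ _) (h.rword_lt hw ht2) hdm, fun m hmF hmσ => ?_⟩
  have h1 := hz (m * n) (mul_mem hmF (hC.mem_fix hM)) (by rw [map_mul, hmσ, h.nW_map])
  rwa [show m * n * X D T.top 1 * (m * n)⁻¹ = m * (n * X D T.top 1 * n⁻¹) * m⁻¹ by group, hdm,
    mul_one] at h1

omit hC in
/-- An orbit element and a long root element lead with a simple root. -/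
lemma led_witness {nn : ℕ} {W : List (ℕ × ℕ)} (hW : T.chkLedCentral nn W = true) {z : GL D.Idx K}
    {m r : ℕ} (ok : E.OrbOK m r) (hadm : E.τn m r 1 = 1) {L : ℕ} (hL : L < T.n) {d : K}
    (hd : ∀ y ∈ E.fix, mapGL D σ y = y → Commute z (y * X D L d * y⁻¹))
    (hne : ∀ j < m, E.ρ^[j] r ≠ L ∧ E.ρ^[j] r ≠ T.neg L) {i : ℕ} (hi : i < T.l)
    (hpos : ∀ p ∈ witWord E m r L d, p.1 ∈ posSet T)
    (hlead : cw (witWord E m r L d) (T.simple i) ≠ 0) :
    ∃ e : K, e ≠ 0 ∧ ∃ b ∈ gen D K (posBut T i), Commute z (X D (T.simple i) e * b) := by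
  obtain ⟨b, hb, e⟩ := h.exists_lead hW hi _ hpos
  refine ⟨_, hlead, b, hb, ?_⟩
  set Y := E.orbElt m r (1 : K) with hY
  have hP : ((witWord E m r L d).map fun p => X D p.1 p.2).prod = Y * X D L d * Y⁻¹ * (X D L d)⁻¹ := by
    rw [show ((witWord E m r L d).map fun p => X D p.1 p.2).prod = wordX D (witWord E m r L d) from rfl,
      witWord, wordX_append, ← orbElt_eq_wordX, ← h.conj_wordX hL d _ (fun p hp => ?_),
      ← orbElt_eq_wordX, hY, E.orbElt_inv ok]
    · group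
    · obtain ⟨j, hj, rfl⟩ := List.mem_map.1 hp
      exact ⟨E.iter_lt ok.lt j, hne j (List.mem_range.1 hj)⟩
  show Commute z (X D (T.simple i) (cw (witWord E m r L d) (T.simple i)) * b)
  unfold cw
  rw [← e, hP]
  refine Commute.mul_right (hd Y (E.orbElt_mem_fix ok hadm) (ho.orbElt_map ok.lt (one_mem k) m)) ?_
  have h1 := hd 1 (one_mem _) (map_one _)
  rw [one_mul, inv_one, mul_one] at h1
  exact h1.inv_right

omit hC in
/-- Commutating with a fixed root element commuting with `q`. -/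
lemma peel {a s w : ℕ} {m : ℤ} (ha : a < T.n) (hρ : E.ρ a = a) (hs : s < T.n) (hne : s ≠ a)
    (hneg : s ≠ T.neg a) (he : T.commTerms a s = [(w, m, 1, 1)]) {q : GL D.Idx K}
    (hq : Commute (X D a (1 : K)) q) {c : K} (hy : q * X D s c * q⁻¹ ∈ H) :
    q * X D w ((m : K) * c) * q⁻¹ ∈ H := by
  have hX := ho.X_mem ha hρ (one_mem k)
  have h1 := mul_mem (inv_mem hy) (mul_mem (mul_mem hX hy) (inv_mem hX))
  have e := h.conj_of_single ha hs hne hneg he (1 : K) c
  rw [pow_one, pow_one, mul_one] at e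
  have : (q * X D s c * q⁻¹)⁻¹ * (X D a 1 * (q * X D s c * q⁻¹) * (X D a 1)⁻¹) =
      q * X D w ((m : K) * c) * q⁻¹ := by
    calc (q * X D s c * q⁻¹)⁻¹ * (X D a 1 * (q * X D s c * q⁻¹) * (X D a 1)⁻¹)
        = q * (X D s c)⁻¹ * q⁻¹ * ((X D a 1 * q) * X D s c * (X D a 1 * q)⁻¹) := by group
      _ = q * (X D s c)⁻¹ * q⁻¹ * ((q * X D a 1) * X D s c * (q * X D a 1)⁻¹) := by rw [hq.eq]
      _ = q * ((X D s c)⁻¹ * (X D a 1 * X D s c * (X D a 1)⁻¹)) * q⁻¹ := by group
      _ = _ := by rw [e, inv_mul_cancel_left]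
  rwa [this] at h1

omit hC in
/-- A root element commutes with products along orbits. -/
lemma commute_orbs {a : ℕ} {Os : List (ℕ × ℕ)}
    (hc : (Os.all fun p => (List.range p.1).all fun j => chkCommute T a (E.ρ^[j] p.2)) = true)
    (v : K) (t : ℕ → K) : Commute (X D a v) (Os.map fun p => E.orbElt p.1 p.2 (t p.2)).prod := by
  simp only [List.all_eq_true, List.mem_range] at hc
  refine Commute.list_prod_right _ _ fun g hg => ?_
  obtain ⟨p, hp, rfl⟩ := List.mem_map.1 hg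
  refine Commute.list_prod_right _ _ fun g hg => ?_
  obtain ⟨j, hj, rfl⟩ := List.mem_map.1 hg
  exact h.commute_X (hc p hp j (List.mem_range.1 hj)) _ _

omit hC in
/-- Long coordinates of fixed elements are rational. -/
lemma rat_long {O : List (ℕ × ℕ)} (hO : T.chkOrbs E.ρ O = true) {x : ℕ} (hx : (1, x) ∈ O) :
    TRat E k H x := by
  intro c t hS
  have h1 := (ho.orb_form hO hS.2.2.2.1).1 _ hx
  have ok : E.OrbOK 1 x := orbOK_of_chk hO hx
  rw [show E.τn 1 x (t x) = E.τ x (t x) from rfl, ho.τ_fixed ok.lt ok.cyc] at h1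
  exact (ho.mem_k _).2 h1

omit hC in
/-- The long factors strip off the frame. -/
lemma exists_strip {Ol Os : List (ℕ × ℕ)} (hO : T.chkOrbs E.ρ (Ol ++ Os) = true)
    (hl : ∀ p ∈ Ol, p.1 = 1) {c : K} {t : ℕ → K} (hS : TFrame E k H c (prodX D T.qList t)) :
    (Os.map fun p => E.orbElt p.1 p.2 (t p.2)).prod * X D 0 c *
      ((Os.map fun p => E.orbElt p.1 p.2 (t p.2)).prod)⁻¹ ∈ H := by
  have hf := ho.frame
  obtain ⟨hadm, z, hz, eq⟩ := ho.orb_form hO hS.2.2.2.1
  set P := (Os.map fun p => E.orbElt p.1 p.2 (t p.2)).prod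
  set A := (Ol.map fun p => E.orbElt p.1 p.2 (t p.2)).prod
  have hxH : A * X D T.top z ∈ H := by
    refine mul_mem (list_prod_mem fun g hg => ?_) (ho.X_mem (h.frame_top hf).2.1 ho.ρ_top.1 hz)
    obtain ⟨p, hp, rfl⟩ := List.mem_map.1 hg
    have hp' : p ∈ Ol ++ Os := List.mem_append_left _ hp
    refine ho.orbElt_mem (orbOK_of_chk hO hp') (hadm p hp') ?_
    obtain ⟨m, x⟩ := p
    obtain rfl : m = 1 := hl _ hp
    exact ho.rat_long hO hp' c t hS
  have hPQ : P ∈ Qgrp D T K := by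
    have hperm : List.Perm (Tab.orbRoots E.ρ (Ol ++ Os) ++ [T.top]) T.qList := by
      have h1 := hO
      simp only [Tab.chkOrbs, Bool.and_eq_true, decide_eq_true_eq] at h1; exact h1.2
    refine list_prod_mem fun g hg => ?_
    obtain ⟨p, hp, rfl⟩ := List.mem_map.1 hg
    rw [orbElt_eq_wordX]
    refine wordX_mem_Qgrp fun e he => ?_
    obtain ⟨j, hj, rfl⟩ := List.mem_map.1 he
    exact mem_qList.1 (hperm.mem_iff.1 (List.mem_append_left _ (List.mem_flatMap.2
      ⟨p, List.mem_append_right _ hp, List.mem_map.2 ⟨j, hj, rfl⟩⟩)))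
  have eq' : prodX D T.qList t = A * X D T.top z * P := by
    rw [eq, List.map_append, List.prod_append, mul_assoc, (h.Qgrp_commute_top hf hPQ z).eq,
      mul_assoc]
  have h1 := mul_mem (mul_mem (inv_mem hxH) hS.2.2.2.2) hxH
  rw [eq'] at h1
  rwa [show (A * X D T.top z)⁻¹ * (A * X D T.top z * P * X D 0 c * (A * X D T.top z * P)⁻¹) *
    (A * X D T.top z) = P * X D 0 c * P⁻¹ by group] at h1

end TOver

end CfsgLib.Chev
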