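import Cfsg.Agent.Lib.Chev.TwistD4
import Cfsg.Agent.Lib.Chev.TwistTwoGenCore

/-!
The groups `³D₄(q)` are generated by two elements.
-/

set_option autoImplicit false
set_option maxRecDepth 100000
set_option linter.unusedSectionVars false

namespace CfsgLib.Chev

open Cfsg.Lie Matrix

/-- Orbit check for roots permuted in threes by the twist. -/
noncomputable def chkTripleD4 (x : ℕ) : Bool :=
  decide (x < tabD4.n ∧ twistD4a.rt (twistD4a.rt (twistD4a.rt x)) = x) &&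
    (chkCommute tabD4 x (twistD4a.rt x) && chkCommute tabD4 x (twistD4a.rt (twistD4a.rt x)) &&
      chkCommute tabD4 (twistD4a.rt x) (twistD4a.rt (twistD4a.rt x))) &&
    decide (twistD4a.ep x * twistD4a.ep (twistD4a.rt x) * twistD4a.ep (twistD4a.rt (twistD4a.rt x)) = 1 ∧
      twistD4a.dg x = 1 ∧ twistD4a.dg (twistD4a.rt x) = 1 ∧
      twistD4a.dg (twistD4a.rt (twistD4a.rt x)) = 1)

theorem chkOrbitsD4 :
    ((List.range 6).all fun k => chkTripleD4 ((rword tabD4 [1, 0, 2, 3])^[k] 5) &&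
      decide ((rword tabD4 [1, 0, 2, 3])^[k] 1 < tabD4.n ∧
        twistD4a.rt ((rword tabD4 [1, 0, 2, 3])^[k] 1) = (rword tabD4 [1, 0, 2, 3])^[k] 1)) =
      true := by
  decide +kernel

theorem factsD4 :
    clsWord dataTwD4.CL [1, 0] = [1, 0, 2, 3] ∧
      (rword tabD4 [1, 0, 2, 3])^[1] 0 = 1 ∧ rword tabD4 [1, 0, 2, 3] 5 = 19 ∧
      twistD4a.ep 1 = 1 ∧ twistD4a.dg 1 = 1 ∧ twistD4a.ep 0 = 1 ∧ twistD4a.dg 0 = 1 ∧
      ((rword tabD4 [1, 0, 2, 3])^[1] 1 = 14 ∧ (rword tabD4 [1, 0, 2, 3])^[4] 1 = 9) ∧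
      ((rword tabD4 [1, 0, 2, 3])^[0] 5 = 5 ∧ (rword tabD4 [1, 0, 2, 3])^[3] 5 = 18) := by
  decide +kernel

theorem pairingsD4 :
    (tabD4.pairing 18 0 = 0 ∧ tabD4.pairing 13 0 = 0 ∧ tabD4.pairing 12 0 = 0) ∧
      (tabD4.pairing 18 1 = -1 ∧ tabD4.pairing 13 1 = -1 ∧ tabD4.pairing 12 1 = -1) ∧
      (tabD4.pairing 18 5 = -2 ∧ tabD4.pairing 13 5 = 0 ∧ tabD4.pairing 12 5 = 0) ∧
      (tabD4.pairing 18 19 = 1 ∧ tabD4.pairing 13 19 = -1 ∧ tabD4.pairing 12 19 = -1) := by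
  decide +kernel

variable {K : Type*} [Field K] [Fintype K] {q : ℕ}

section

variable (f : K →+* K) (hf : ∀ t, f t = t ^ q)
include hf

lemma orbOK_tripleD4 {x : ℕ} (hx : chkTripleD4 x = true) :
    (endoD4 f).OrbOK 3 x ∧
      ((∀ t : K, ((t ^ q) ^ q) ^ q = t) → ∀ t, (endoD4 f).τn 3 x t = t) := by
  simp only [chkTripleD4, Bool.and_eq_true, decide_eq_true_eq] at hx
  obtain ⟨⟨⟨hlt, hcyc⟩, ⟨⟨c1, c2⟩, c3⟩⟩, he, hd1, hd2, hd3⟩ := hx
  refine ⟨Endo.orbOK_three hlt hcyc (fun t u => certD4.commute_X c1 t u)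
    (fun t u => certD4.commute_X c2 t u) fun t u => certD4.commute_X c3 t u, fun hK t => ?_⟩
  show (twistD4a.ep (twistD4a.rt (twistD4a.rt x)) : K) *
    f ((twistD4a.ep (twistD4a.rt x) : K) * f ((twistD4a.ep x : K) * f t ^ twistD4a.dg x) ^
      twistD4a.dg (twistD4a.rt x)) ^ twistD4a.dg (twistD4a.rt (twistD4a.rt x)) = t
  rw [hd1, hd2, hd3]
  simp only [pow_one, map_mul, map_intCast]
  rw [hf, hf, hf, hK, ← mul_assoc, ← mul_assoc, ← Int.cast_mul, ← Int.cast_mul,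
    show twistD4a.ep (twistD4a.rt (twistD4a.rt x)) * twistD4a.ep (twistD4a.rt x) * twistD4a.ep x = 1 by
      rw [← he]; ring, Int.cast_one, one_mul]

theorem two_genD4 (hK : Fintype.card K = q ^ 3) (hq : IsPrimePow q) :
    ∃ a b : GL chevD4.Idx K, a ∈ (endoD4 f).fix ∧ b ∈ (endoD4 f).fix ∧
      twistedD4 K q ≤ Subgroup.closure {a, b} := by
  classical
  have hcube := fun t : K => pow_cubeD4 hK t
  have hle := twistedD4_le_fix f hf hcube
  have h2 : 2 ≤ q := hq.two_le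
  have hQ : Fintype.card K - 1 = (q - 1) * (1 + q + q * q) := by
    rw [hK]
    obtain ⟨k, rfl⟩ := Nat.exists_eq_add_of_le h2
    rw [show 2 + k - 1 = 1 + k by omega]
    refine Nat.sub_eq_of_eq_add ?_
    ring
  obtain ⟨g, hg⟩ := IsCyclic.exists_generator (α := Kˣ)
  have hord : orderOf g = Fintype.card K - 1 := by
    rw [orderOf_eq_card_of_forall_mem_zpowers hg, Nat.card_units, Nat.card_eq_fintype_card]
  have hq8 : 8 ≤ Fintype.card K := by
    rw [hK]; calc (8 : ℕ) = 2 ^ 3 := rfl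
      _ ≤ q ^ 3 := Nat.pow_le_pow_left h2 3
  have hne1 : ∀ i : ℕ, 0 < i → i < Fintype.card K - 1 → (g : K) ^ i ≠ 1 := fun i hi hlt e => by
    have := Nat.le_of_dvd hi (orderOf_dvd_of_pow_eq_one (Units.ext (by simpa using e) : g ^ i = 1))
    omega
  set ω : K := (g : K)
  have hω : ω ≠ 0 := g.ne_zero
  set hh := hU chevD4 18 ω * hU chevD4 13 (ω ^ q) * hU chevD4 12 ((ω ^ q) ^ q)
  have hhT : hh ∈ twistedD4 K q := hU_triple_memD4 f hf ω
  have hn3 : 18 < tabD4.n ∧ 13 < tabD4.n ∧ 12 < tabD4.n := by decide +kernel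
  have hchar : ∀ x < tabD4.n, ∀ t, hh * X chevD4 x t * hh⁻¹ =
      X chevD4 x (ω ^ tabD4.pairing 18 x * (ω ^ q) ^ tabD4.pairing 13 x *
        ((ω ^ q) ^ q) ^ tabD4.pairing 12 x * t) := fun x hx t => by
    rw [show hh * X chevD4 x t * hh⁻¹ = hU chevD4 18 ω * (hU chevD4 13 (ω ^ q) *
        (hU chevD4 12 ((ω ^ q) ^ q) * X chevD4 x t * (hU chevD4 12 ((ω ^ q) ^ q))⁻¹) *
          (hU chevD4 13 (ω ^ q))⁻¹) * (hU chevD4 18 ω)⁻¹ by simp only [hh]; group,
      certD4.hU_conj hn3.2.2 hx (pow_ne_zero _ (pow_ne_zero _ hω)),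
      certD4.hU_conj hn3.2.1 hx (pow_ne_zero _ hω), certD4.hU_conj hn3.1 hx hω, mul_assoc, mul_assoc]
  obtain ⟨hW, hk1, hws, e1, d1, e0, d0, ⟨k14, k9⟩, k5, k18⟩ := factsD4
  obtain ⟨⟨p0, p0', p0''⟩, ⟨p1, p1', p1''⟩, ⟨p5, p5', p5''⟩, p19, p19', p19''⟩ := pairingsD4
  have horb := chkOrbitsD4
  simp only [List.all_eq_true, List.mem_range, Bool.and_eq_true, decide_eq_true_eq] at horb
  obtain ⟨n, hnT, hnF, hnM, hnMaps⟩ := (endoD4 f).exists_rep_clsWord (dataOK_D4 f).cls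
    (repsD4 f hf hcube) (M := [1, 0]) (by decide)
  rw [hW] at hnMaps
  have hwok : WordOK tabD4 [1, 0, 2, 3] := wordOK_of_all (by decide +kernel)
  have ok5 := orbOK_tripleD4 f hf (horb 0 (by norm_num)).1
  have ok19 := orbOK_tripleD4 f hf (horb 1 (by norm_num)).1
  rw [Function.iterate_zero_apply] at ok5
  rw [Function.iterate_one] at ok19
  have h0n : 0 < tabD4.n ∧ twistD4a.rt 0 = 0 := by decide +kernel
  have h1 := (horb 0 (by norm_num)).2
  rw [Function.iterate_zero_apply] at h1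
  have hq3 : q * q + q < Fintype.card K - 1 := by
    rw [hQ]
    calc q * q + q < 1 * (1 + q + q * q) := by omega
      _ ≤ _ := Nat.mul_le_mul_right _ (by omega)
  have d : (endoD4 f).GenData hh n ((endoD4 f).orbElt 1 0 1)
      [1, 0, 2, 3] 3 5 ((ω ^ 2)⁻¹)
      (ω * (ω ^ q)⁻¹ * ((ω ^ q) ^ q)⁻¹) :=
    { hh_fix := hle hhT
      hh_diag := mul_mem (mul_mem (certD4.hU_mem hn3.1 hω) (certD4.hU_mem hn3.2.1 (pow_ne_zero _ hω)))
        (certD4.hU_mem hn3.2.2 (pow_ne_zero _ (pow_ne_zero _ hω)))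
      n_fix := hnF
      n_mono := hnM
      wordOK := hwok
      n_maps := hnMaps
      x_fix := (endoD4 f).orbElt_mem_fix (Endo.orbOK_one h0n.1 h0n.2) ((τD4_eq f hf ⟨e0, d0⟩ 1).trans (one_pow q))
      x_comm := (endoD4 f).orbElt_commute (hle hhT) (Endo.orbOK_one h0n.1 h0n.2)
        (fun t => by rw [hchar 0 h0n.1, p0, p0', p0'']; simp) 1
      x_pow := (endoD4 f).orbElt_pow_card (Endo.orbOK_one h0n.1 h0n.2) 1
      s_ok := ok5.1
      s_ok' := ok19.1
      s_adm := ok5.2 hcube 1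
      s_char := fun t => by rw [hchar 5 ok5.1.lt, p5, p5', p5'']; simp [_root_.zpow_neg, zpow_ofNat]
      ws_char := fun t => by
        rw [hws, hchar 19 (hws ▸ ok19.1.lt), p19, p19', p19'']; simp [_root_.zpow_neg]
      lam_ne := inv_ne_one.2 (hne1 2 (by norm_num) (by omega))
      lam_ne0 := inv_ne_zero (pow_ne_zero _ hω)
      lam_gen := closure_singleton_eq_top (inv_ne_zero (pow_ne_zero _ hω)) fun r hr2 hr e => by
        rw [inv_pow, inv_eq_one, ← pow_mul] at e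
        refine hne1 _ (by omega) ?_ e
        rcases (show r = 2 ∨ 3 ≤ r by omega) with rfl | hr3
        · omega
        · have : r * 3 ≤ r ^ 2 := by nlinarith
          omega
      μ_ne := fun e => by
        have h3 : ω ^ q * (ω ^ q) ^ q = ω := by
          have hne : (ω ^ q) ^ q ≠ 0 := pow_ne_zero _ (pow_ne_zero _ hω)
          rw [mul_assoc, ← mul_inv, mul_inv_eq_one₀ (mul_ne_zero (pow_ne_zero _ hω) hne)] at e
          exact e.symm
        rw [← pow_mul ω q q, ← pow_add] at h3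
        refine hne1 (q + q * q - 1) (by omega) (by omega) ?_
        refine mul_right_cancel₀ hω ?_
        rw [← pow_succ, one_mul, Nat.sub_add_cancel (by omega), h3] }
  obtain ⟨a, b, ha, hb, hhK, hnK, hrK, hsA⟩ := d.result
  refine ⟨a, b, ha, hb, ?_⟩
  set L := Subgroup.closure {a, b}
  have hLfix : L ≤ (endoD4 f).fix := (Subgroup.closure_le _).2 (Set.pair_subset ha hb)
  have hA1 : (endoD4 f).All L 1 1 := by
    have hs0 : (endoD4 f).Some' L 1 0 := ⟨1, one_ne_zero, hrK⟩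
    obtain ⟨-, hs⟩ := Endo.Some'.iterate hnF hnK hwok hnMaps h0n.1 hs0 1
    rw [hk1] at hs
    obtain ⟨c, hc, hcK⟩ := hs
    have hcA := (endoD4 f).adm_of_mem_fix h1.1 h1.2 (hLfix hcK)
    refine Endo.Some'.all_units d.hh_fix hhK (Endo.orbOK_one h1.1 h1.2)
      (μ := (((g * g ^ q * (g ^ q) ^ q)⁻¹ : Kˣ) : K))
      (fun t => by rw [hchar 1 h1.1, p1, p1', p1'']; simp [ω, mul_comm, mul_left_comm, mul_assoc])
      (fun t c ht hc htA hcA => ?_) hc hcA hcK
    refine exists_pow_norm h2 hQ hg (Or.inr ?_) ht hc ?_ ?_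
    · rw [_root_.inv_inj, ← pow_mul, ← pow_succ', ← pow_add]
      congr 1
      ring
    · exact (τD4_eq f hf ⟨e1, d1⟩ t).symm.trans htA
    · exact (τD4_eq f hf ⟨e1, d1⟩ c).symm.trans hcA
  have hlong : ∀ k < 6, (endoD4 f).All L 1 ((rword tabD4 [1, 0, 2, 3])^[k] 1) :=
    fun k hk => Endo.All.iterate hnF hnK hnMaps hA1 k fun j hj =>
      Endo.orbOK_one (horb j (by omega)).2.1 (horb j (by omega)).2.2
  have hshort : ∀ k < 6, (endoD4 f).All L 3 ((rword tabD4 [1, 0, 2, 3])^[k] 5) :=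
    fun k hk => Endo.All.iterate hnF hnK hnMaps hsA k fun j hj =>
      (orbOK_tripleD4 f hf (horb j (by omega)).1).1
  refine certD4.genSubgroup_le ?_
  rintro w (⟨t, ht, r, hr, rfl⟩ | ⟨t, rs, hrs, rfl⟩)
  · simp only [List.map_cons, List.map_nil, List.prod_cons, List.prod_nil, mul_one]
    simp only [List.mem_cons, List.not_mem_nil, or_false] at hr
    have key : ∀ k < 6, ∀ x, (rword tabD4 [1, 0, 2, 3])^[k] 1 = x →
        twistD4a.ep x = 1 ∧ twistD4a.dg x = 1 → X chevD4 x t ∈ L := fun k hk x e hx => by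
      have hh2 := hlong k hk t
      rw [e] at hh2
      have h1 := hh2 ((τD4_eq f hf hx t).trans ht)
      rwa [Endo.orbElt_one] at h1
    rcases hr with rfl | rfl
    · exact key 1 (by norm_num) _ k14 (by decide +kernel)
    · exact key 4 (by norm_num) _ k9 (by decide +kernel)
  · rw [chevD4_prod_triple, show t ^ q ^ 2 = (t ^ q) ^ q by rw [← pow_mul, sq]]
    have key : ∀ k < 6, ∀ x y z, (rword tabD4 [1, 0, 2, 3])^[k] 5 = x → twistD4a.rt x = y →
        twistD4a.rt y = z → twistD4a.ep x = 1 ∧ twistD4a.dg x = 1 →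
        twistD4a.ep y = 1 ∧ twistD4a.dg y = 1 →
        X chevD4 x t * X chevD4 y (t ^ q) * X chevD4 z ((t ^ q) ^ q) ∈ L := by
      intro k hk x y z e ey ez hx hy
      have h1 := hshort k hk t ((orbOK_tripleD4 f hf (horb k hk).1).2 hcube t)
      rw [e, show (endoD4 f).orbElt 3 x t = X chevD4 x t * X chevD4 (twistD4a.rt x) ((endoD4 f).τ x t) *
          X chevD4 (twistD4a.rt (twistD4a.rt x)) ((endoD4 f).τ (twistD4a.rt x) ((endoD4 f).τ x t)) by
        simp [Endo.orbElt, List.range_succ, Endo.τn, mul_assoc]; rfl, ey, ez, τD4_eq f hf hx,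
        τD4_eq f hf hy] at h1
      exact h1
    simp only [List.mem_cons, List.not_mem_nil, or_false] at hrs
    rcases hrs with rfl | rfl
    · exact key 3 (by norm_num) _ _ _ k18 (by decide +kernel) (by decide +kernel) (by decide +kernel)
        (by decide +kernel)
    · exact key 0 (by norm_num) _ _ _ k5 (by decide +kernel) (by decide +kernel) (by decide +kernel)
        (by decide +kernel)

end

theorem twistedD4_two_gen {q : ℕ} (hq : IsPrimePow q) (hK : Fintype.card K = q ^ 3) :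
    ∃ a b : ↥(twistedD4 K q), Subgroup.closure ({a, b} : Set ↥(twistedD4 K q)) = ⊤ := by
  obtain ⟨f, hf⟩ : ∃ f : K →+* K, ∀ t, f t = t ^ q := by
    obtain ⟨p, k, hp, hk, hpk⟩ := hq
    haveI : Fact p.Prime := ⟨hp.nat_prime⟩
    haveI : CharP K p := charP_of_card_eq_prime_pow (f := k * 3)
      (by rw [hK, ← hpk, pow_mul])
    exact ⟨iterateFrobenius K p k, fun t => by rw [iterateFrobenius_def, hpk]⟩
  obtain ⟨a, b, ha, hb, hle⟩ := two_genD4 f hf hK hq
  rw [fix_eq_twistedD4 f hf hK hq] at ha hb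
  refine ⟨⟨a, ha⟩, ⟨b, hb⟩, Subgroup.map_injective (twistedD4 K q).subtype_injective ?_⟩
  rw [MonoidHom.map_closure, ← MonoidHom.range_eq_map, Subgroup.range_subtype, Set.image_pair]
  exact le_antisymm ((Subgroup.closure_le _).2 (Set.pair_subset ha hb)) hle

end CfsgLib.Chev
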