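import Cfsg.Agent.Lib.Chev.TwistF4
import Cfsg.Agent.Lib.Chev.TwistTwoGenCore

/-!
The groups `²F₄(q)` are generated by two elements `h x`, `n x_s(1)`: `x` is an element of order four
of a class of four roots commuting with `h`, `n` a Weyl element of order eight on the orbits.
-/

set_option autoImplicit false
set_option maxRecDepth 100000
set_option linter.unusedSectionVars false

namespace CfsgLib.Chev

open Cfsg.Lie Matrix
open Cert (torusHom extC extC_ne_zero)

/-- The word of the Weyl element. -/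
def wordTwF4 : List ℕ := [1, 2, 1, 2, 0, 3]

/-- Orbit check for roots permuted in pairs by the twist. -/
noncomputable def chkPairF4 (x : ℕ) : Bool :=
  decide (x < tabF4.n ∧ twistF4.rt (twistF4.rt x) = x) && chkCommute tabF4 x (twistF4.rt x)

theorem chkOrbitsF4 :
    ((List.range 7).all fun k => chkPairF4 ((rword tabF4 wordTwF4)^[k] 2) &&
      chkPairF4 ((rword tabF4 wordTwF4)^[k] 44)) = true := by
  decide +kernel

theorem factsF4 :
    (rword tabF4 wordTwF4 2 = 4 ∧ (rword tabF4 wordTwF4)^[6] 2 = 24 ∧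
      (rword tabF4 wordTwF4)^[2] 2 = 23) ∧
    ((rword tabF4 wordTwF4)^[2] 28 = 44 ∧ (rword tabF4 wordTwF4)^[6] 44 = 28 ∧
      rword tabF4 wordTwF4 21 = 25) ∧
    (twistF4.rt 24 = 33 ∧ twistF4.rt 23 = 14 ∧ twistF4.rt 28 = 30 ∧ twistF4.rt 25 = 27) ∧
    (twistF4.dg 24 = 1 ∧ twistF4.dg 23 = 1 ∧ tabF4.neg 33 = 14 ∧ tabF4.neg 24 = 23) := by
  decide +kernel

/-- The Cartan integers used. -/
theorem carsF4 :
    ([27, 25, 28, 30, 2, 4, 44, 21].map fun x => (List.range 4).map fun i => tabF4.car i x) =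
      [[-1, 2, -1, 0], [0, -2, 2, -1], [-1, 0, 1, -1], [-2, 2, 0, -1], [0, -2, 1, 0],
        [-2, 2, -1, 0], [1, 0, 0, 0], [0, 2, -1, -1]] := by
  decide +kernel

theorem commF4 :
    chkCommute tabF4 28 30 = true ∧ chkCommute tabF4 33 24 = true ∧ chkCommute tabF4 14 23 = true ∧
      chkCommuteMod tabF4 2 27 28 = true ∧ chkCommuteMod tabF4 2 25 28 = true := by
  decide +kernel

variable {K : Type*} [Field K] [Fintype K] [CharP K 2] {e : ℕ}

section

variable (f : K →+* K) (hf : ∀ t, f t = t ^ e)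
include hf

lemma orbOK_pairF4 {x : ℕ} (hx : chkPairF4 x = true) : (endoF4 f).OrbOK 2 x := by
  simp only [chkPairF4, Bool.and_eq_true, decide_eq_true_eq] at hx
  exact Endo.orbOK_two hx.1.1 hx.1.2 fun t u => certF4.commute_X hx.2 t u

omit [CharP K 2] hf in
lemma closure_pow_eq_top {ω : Kˣ} (hω : ∀ x, x ∈ Subgroup.zpowers ω) {m : ℕ} (hm : 1 ≤ m)
    (hK : Fintype.card K = 2 ^ (2 * m + 1)) {j : ℕ} (hj0 : 0 < j) (hj : j ≤ 4 * 2 ^ m - 3) {μ : K}
    (hμ : μ = (ω : K) ^ j ∨ μ = ((ω : K) ^ j)⁻¹) : Subring.closure {μ} = ⊤ := by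
  have hμ0 : μ ≠ 0 := by rcases hμ with rfl | rfl <;> simp
  refine closure_singleton_eq_top' hμ0 fun r k hr hk hc h1 => ?_
  obtain ⟨i, hi, rfl⟩ := (Nat.dvd_prime_pow Nat.prime_two).1
    (show r ∣ 2 ^ (2 * m + 1) from hK ▸ hc ▸ dvd_pow_self r (by omega))
  rw [hK, ← pow_mul] at hc
  have hik := Nat.pow_right_injective le_rfl hc
  have hk3 : 3 ≤ k := by
    rcases eq_or_lt_of_le hk with rfl | h3
    · omega
    · omega
  have hi3 : i * 3 ≤ 2 * m + 1 := hik ▸ Nat.mul_le_mul_left i hk3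
  have h2 : (ω : K) ^ (j * (2 ^ i - 1)) = 1 := by
    rcases hμ with rfl | rfl
    · rwa [← pow_mul] at h1
    · rwa [inv_pow, inv_eq_one, ← pow_mul] at h1
  have hord : orderOf ω = Fintype.card K - 1 := by
    rw [orderOf_eq_card_of_forall_mem_zpowers hω, Nat.card_units, Nat.card_eq_fintype_card]
  have hle := Nat.le_of_dvd (Nat.mul_pos hj0 (by omega)) (orderOf_dvd_of_pow_eq_one
    (Units.ext (by simpa using h2) : ω ^ (j * (2 ^ i - 1)) = 1))
  rw [hord, hK, show 2 ^ (2 * m + 1) = 2 * (2 ^ m * 2 ^ m) by ring] at hle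
  have he : 2 ≤ 2 ^ m := Nat.le_self_pow (by omega) 2
  rcases (show i + 1 ≤ m ∨ m = 1 ∧ i = 1 ∨ i = 0 by omega) with h3 | ⟨rfl, rfl⟩ | rfl
  · have : 2 * 2 ^ i ≤ 2 ^ m := by
      rw [← pow_succ']; exact Nat.pow_le_pow_right two_pos h3
    have h4 : j * (2 ^ i - 1) ≤ (4 * 2 ^ m - 3) * (2 ^ i - 1) := Nat.mul_le_mul_right _ hj
    have h5 : 2 * ((4 * 2 ^ m - 3) * (2 ^ i - 1)) ≤ (4 * 2 ^ m - 3) * (2 ^ m - 2) := by
      rw [Nat.mul_left_comm]; exact Nat.mul_le_mul_left _ (by omega)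
    have h6 : (4 * 2 ^ m - 3) * (2 ^ m - 2) + 11 * 2 ^ m = 4 * (2 ^ m * 2 ^ m) + 6 := by
      obtain ⟨a, ha⟩ := Nat.exists_eq_add_of_le he
      rw [ha, show 4 * (2 + a) - 3 = 4 * a + 5 by omega, show 2 + a - 2 = a by omega]
      ring
    omega
  · norm_num at hle hj; omega
  · omega

theorem two_genF4 {m : ℕ} (hm : 1 ≤ m) (hK : Fintype.card K = 2 ^ (2 * m + 1))
    (he : e = 2 ^ m) :
    ∃ a b : GL chevF4.Idx K, a ∈ (endoF4 f).fix ∧ b ∈ (endoF4 f).fix ∧
      (endoF4 f).fix ≤ Subgroup.closure {a, b} := by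
  classical
  have hK' : Fintype.card K = 2 * e ^ 2 := by rw [hK, he]; ring
  have he2 : 2 ≤ e := he ▸ Nat.le_self_pow (by omega) 2
  obtain ⟨v, hv⟩ := IsCyclic.exists_generator (α := Kˣ)
  have hv0 : (v : K) ≠ 0 := v.ne_zero
  set ω : K := (v : K) with hωdef
  have hQ1 : ω ^ (2 * e * e - 1) = 1 := by
    rw [show 2 * e * e = Fintype.card K by rw [hK']; ring]
    exact FiniteField.pow_card_sub_one_eq_one _ hv0
  have hne1 : ∀ i : ℕ, 0 < i → i < 2 * e * e - 1 → ω ^ i ≠ 1 := fun i hi hlt h1 => by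
    have := Nat.le_of_dvd hi (orderOf_dvd_of_pow_eq_one (Units.ext (by simpa [ω] using h1) : v ^ i = 1))
    rw [orderOf_eq_card_of_forall_mem_zpowers hv, Nat.card_units, Nat.card_eq_fintype_card,
      hK'] at this
    have : 2 * e ^ 2 = 2 * e * e := by ring
    omega
  have hee : 4 * e ≤ 2 * e * e := by nlinarith
  -- the torus element
  set u : Kˣ := v ^ 2 * (v ^ (2 * e))⁻¹ with hudef
  set cc : Fin tabF4.l → Kˣ := fun i => ([u ^ e, v ^ e, v, u] : List Kˣ).getD i 1 with hcc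
  set hh := torusHom (D := chevF4) (T := tabF4) cc with hhdef
  have hcc' : (endoF4 f).tor cc = cc := (fix_paramF4_eq f hf hK').2 ⟨rfl, rfl⟩
  obtain ⟨hhF, hhD⟩ := (endoF4 f).torusHom_mem_fix hcc'
  have hchar : ∀ x < tabF4.n, ∀ {c0 c1 c2 c3 : ℤ},
      ((List.range 4).map fun i => tabF4.car i x) = [c0, c1, c2, c3] → ∀ t, hh * X chevF4 x t * hh⁻¹ =
      X chevF4 x (ω ^ ((2 - 2 * (e : ℤ)) * (e * c0 + c3) + (e * c1 + c2)) * t) := by
    intro x hx c0 c1 c2 c3 hc t
    simp only [List.range_succ, List.range_zero, List.nil_append, List.cons_append,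
      List.map_cons, List.map_nil, List.cons.injEq, and_true] at hc
    rw [Endo.conj_X_charOf (h := certF4) (c := extC tabF4 cc) (fun i _ => extC_ne_zero cc i) rfl hx]
    congr 2
    rw [charOf, show tabF4.l = 4 from rfl, Finset.prod_range, Fin.prod_univ_four]
    have hu : (u : K) = ω ^ (2 - 2 * (e : ℤ)) := by
      rw [zpow_sub₀ hv0, show (2 * (e : ℤ)) = ((2 * e : ℕ) : ℤ) by push_cast; ring, zpow_natCast,
        zpow_ofNat, hudef]
      simp [ω, div_eq_mul_inv]
    simp [extC, show tabF4.l = 4 from rfl, cc, hc.1, hc.2.1, hc.2.2.1, hc.2.2.2, hu]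
    rw [← zpow_natCast (ω ^ (2 - 2 * (e : ℤ))) e, ← zpow_natCast ω e, ← _root_.zpow_mul,
      ← _root_.zpow_mul, ← _root_.zpow_mul, ← _root_.zpow_mul, ← zpow_add₀ hv0, ← zpow_add₀ hv0,
      ← zpow_add₀ hv0]
    congr 1
    ring
  -- exponents modulo the order
  have hmod : ∀ a b k : ℤ, a = b + k * (2 * e * e - 1) → ω ^ a = ω ^ b := fun a b k h1 => by
    have hQz : (2 * (e : ℤ) * e - 1) = ((2 * e * e - 1 : ℕ) : ℤ) := by
      rw [Nat.cast_sub (by omega)]; push_cast; ring
    rw [h1, zpow_add₀ hv0, mul_comm k, _root_.zpow_mul, hQz, zpow_natCast, hQ1, _root_.one_zpow,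
      mul_one]
  have hcar := carsF4
  simp only [List.map_cons, List.map_nil, List.cons.injEq, and_true] at hcar
  obtain ⟨c27, c25, c28, c30, c2, c4, c44, c21⟩ := hcar
  have hone : ∀ {x : ℕ}, x < tabF4.n → ∀ {c0 c1 c2 c3 : ℤ},
      ((List.range 4).map fun i => tabF4.car i x) = [c0, c1, c2, c3] → ∀ (k : ℤ),
      (2 - 2 * (e : ℤ)) * (e * c0 + c3) + (e * c1 + c2) = k * (2 * e * e - 1) →
      ∀ t, Commute hh (X chevF4 x t) := fun {x} hx {c0 c1 c2 c3} hc k hk t => by
    have h1 := hchar x hx hc t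
    rw [hmod _ 0 k (by rw [hk, zero_add]), zpow_zero, one_mul, mul_inv_eq_iff_eq_mul] at h1
    exact h1
  have hn : 48 = tabF4.n := rfl
  -- the element of order four
  obtain ⟨cm2830, cm3324, cm1423, cm2728, cm2528⟩ := commF4
  obtain ⟨⟨w2, w6, w22⟩, ⟨w28, w44, w21⟩, ⟨ρ24, ρ23, ρ28, ρ25⟩, d24, d23, n33, n24⟩ := factsF4
  set x := X chevF4 27 (1 : K) * X chevF4 25 1 * X chevF4 28 1 with hxdef
  have hxword : ∀ t : K, X chevF4 27 (t ^ e) * X chevF4 25 t * X chevF4 28 (t ^ (e + 1) + 0) *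
      X chevF4 30 ((0 : K) ^ (2 * e)) ∈ (endoF4 f).fix := fun t =>
    class_mem_fixF4 f hf hK' (k1 := -1) (k2 := -1) (a := f4a) (b := f4b) (c := f4ab) (d := f4aab)
      (by decide +kernel) (by decide +kernel) (by decide +kernel) (by decide +kernel)
      (by decide +kernel) t 0
  have hxF : x ∈ (endoF4 f).fix := by
    have h1 := hxword 1
    rwa [one_pow, one_pow, add_zero, zero_pow (by omega), certF4.X_zero (by omega), mul_one] at h1
  have hx2 : x * x = (endoF4 f).orbElt 2 28 1 := by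
    have eBA : X chevF4 25 (1 : K) * X chevF4 27 1 =
        X chevF4 27 1 * (X chevF4 25 1 * (X chevF4 28 1 * X chevF4 30 1)) := by
      have e1 := certF4.X_conj (F := K) (show 27 < tabF4.n by omega) (show 25 < tabF4.n by omega)
        (by decide +kernel) (by decide +kernel) 1 1
      simp only [show tabF4.commTerms 27 25 = [(28, -1, 1, 1), (30, -1, 2, 1)] by decide +kernel,
        List.map_cons, List.map_nil, List.prod_cons, List.prod_nil, mul_one, Int.cast_neg,
        Int.cast_one, CharTwo.neg_eq, one_pow] at e1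
      rw [← e1, ← mul_assoc, ← mul_assoc, certF4.X_add (by omega), CharTwo.add_self_eq_zero,
        certF4.X_zero (by omega), one_mul]
    have sq : ∀ {r : ℕ}, r < tabF4.n → X chevF4 r (1 : K) * X chevF4 r 1 = 1 := fun hr => by
      rw [certF4.X_add hr, CharTwo.add_self_eq_zero, certF4.X_zero hr]
    have h1 := certF4.commute_X_mod (p := 2) cm2728 (1 : K) 1
    have h2 := certF4.commute_X_mod (p := 2) cm2528 (1 : K) 1
    have h3 := certF4.commute_X cm2830 (1 : K) 1
    have hτ : (endoF4 f).τn 1 28 (1 : K) = 1 := by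
      show (twistF4.ep 28 : K) * f 1 ^ twistF4.dg 28 = 1
      rw [show twistF4.ep 28 = 1 by decide +kernel, map_one]; simp
    rw [Endo.orbElt_succ, Endo.orbElt_one, hτ, Function.iterate_one,
      show (endoF4 f).ρ 28 = 30 from ρ28]
    set A := X chevF4 27 (1 : K)
    set B := X chevF4 25 (1 : K)
    set Cc := X chevF4 28 (1 : K)
    set Dd := X chevF4 30 (1 : K)
    calc x * x = A * B * (Cc * A) * B * Cc := by rw [hxdef]; simp only [mul_assoc]
      _ = A * B * (A * Cc) * B * Cc := by rw [h1.eq]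
      _ = A * (B * A) * (Cc * B) * Cc := by simp only [mul_assoc]
      _ = A * (A * (B * (Cc * Dd))) * (B * Cc) * Cc := by rw [eBA, h2.eq]
      _ = A * A * B * Cc * Dd * B * (Cc * Cc) := by simp only [mul_assoc]
      _ = B * (Cc * Dd) * B := by
        rw [sq (show 27 < tabF4.n by omega), sq (show 28 < tabF4.n by omega)]
        simp only [one_mul, mul_one, mul_assoc]
      _ = Cc * Dd := by
        have hBD : Commute B Dd := certF4.commute_X_mod (p := 2) (by decide +kernel) _ _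
        have hB : Commute B (Cc * Dd) := Commute.mul_right h2 hBD
        rw [hB.eq, mul_assoc, sq (show 25 < tabF4.n by omega), mul_one]
  have ok44 : ∀ j ≤ 6, (endoF4 f).OrbOK 2 ((rword tabF4 wordTwF4)^[j] 44) := fun j hj => by
    have h1 := chkOrbitsF4
    simp only [List.all_eq_true, List.mem_range, Bool.and_eq_true] at h1
    exact orbOK_pairF4 f hf (h1 j (by omega)).2
  have ok2 : ∀ j ≤ 6, (endoF4 f).OrbOK 2 ((rword tabF4 wordTwF4)^[j] 2) := fun j hj => by
    have h1 := chkOrbitsF4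
    simp only [List.all_eq_true, List.mem_range, Bool.and_eq_true] at h1
    exact orbOK_pairF4 f hf (h1 j (by omega)).1
  have ok28 : (endoF4 f).OrbOK 2 28 := w44 ▸ ok44 6 le_rfl
  -- the Weyl element
  set n := nW chevF4 K wordTwF4 with hndef
  have hwok : WordOK tabF4 wordTwF4 := wordOK_of_all (by decide +kernel)
  have hn03 : nW chevF4 K [0, 3] = nU chevF4 f4p1 1 * nU chevF4 f4p4 1 := by
    simp [nW, nS_simpleF4 (show 0 < tabF4.l by decide), nS_simpleF4 (show 3 < tabF4.l by decide),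
      show tabF4.simple 0 = f4p1 by decide +kernel, show tabF4.simple 3 = f4p4 by decide +kernel]
  have hfixle := twistedF4_le_fix f hf hK'
  have hnF : n ∈ (endoF4 f).fix := by
    have h1 := hfixle (mul_mem (rep_memF4 f hf) (nU_pair_memF4 f hf (1 : K)))
    rw [one_pow, ← hn03] at h1
    convert h1 using 1
    simp [hndef, wordTwF4, nW, mul_assoc]
  have hnM : ∀ i < tabF4.n, Maps chevF4 n i (rword tabF4 wordTwF4 i) :=
    fun i hi => certF4.Maps_nW hwok hi
  set lam : K := ω ^ (1 - 2 * (e : ℤ)) with hlam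
  have hlaminv : lam = (ω ^ (2 * e - 1))⁻¹ := by
    rw [hlam, ← zpow_natCast, ← _root_.zpow_neg, Nat.cast_sub (by omega)]
    congr 1; push_cast; ring
  have hlamne : lam ≠ 1 := by
    rw [hlaminv, inv_ne_one]; exact hne1 _ (by omega) (by omega)
  have hch2 : ∀ t, hh * X chevF4 2 t * hh⁻¹ = X chevF4 2 (lam * t) := fun t => by
    rw [hchar 2 (by omega) c2, hmod _ (1 - 2 * e) 0 (by ring), hlam]
  have hch4 : ∀ t, hh * X chevF4 4 t * hh⁻¹ = X chevF4 4 (lam * t) := fun t => by
    rw [hchar 4 (by omega) c4, hmod _ (1 - 2 * e) 2 (by ring), hlam]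
  have hgen1 := fun μ => closure_pow_eq_top (μ := μ) hv hm hK (j := 2 * e - 1) (by omega) (by omega)
  have d : (endoF4 f).GenData hh n x wordTwF4 2 2 lam lam :=
    { hh_fix := hhF
      hh_diag := hhD
      n_fix := hnF
      n_mono := certF4.nW_mem_monomial hwok
      wordOK := hwok
      n_maps := hnM
      x_fix := hxF
      x_comm := (((hone (show 27 < tabF4.n by omega) c27 1 (by ring) 1).mul_right
        (hone (show 25 < tabF4.n by omega) c25 0 (by ring) 1))).mul_right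
        (hone (show 28 < tabF4.n by omega) c28 1 (by ring) 1)
      x_pow := by
        rw [hK', pow_mul, pow_two x, hx2, Endo.orbElt_pow _ ok28]
        have h2e : (e : K) = 0 := by
          rw [he, Nat.cast_pow, Nat.cast_ofNat, CharTwo.two_eq_zero, zero_pow (by omega)]
        rw [Nat.cast_pow, h2e, zero_pow two_ne_zero, zero_mul, Endo.orbElt_zero _ ok28]
      s_ok := ok2 0 (by omega)
      s_ok' := ok2 1 (by omega)
      s_adm := by
        show (twistF4.ep (twistF4.rt 2) : K) * f ((twistF4.ep 2 : K) * f 1 ^ twistF4.dg 2) ^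
          twistF4.dg (twistF4.rt 2) = 1
        rw [show twistF4.ep 2 = 1 by decide +kernel,
          show twistF4.ep (twistF4.rt 2) = 1 by decide +kernel]
        simp
      s_char := hch2
      ws_char := by rw [w2]; exact hch4
      lam_ne := hlamne
      lam_ne0 := zpow_ne_zero _ hv0
      lam_gen := hgen1 _ (Or.inr hlaminv)
      μ_ne := hlamne }
  obtain ⟨a, b, ha, hb, hhL, hnL, hxL, hsA⟩ := d.result
  refine ⟨a, b, ha, hb, ?_⟩
  set L := Subgroup.closure {a, b}
  have hLfix : L ≤ (endoF4 f).fix := (Subgroup.closure_le _).2 (Set.pair_subset ha hb)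
  have hA24 : (endoF4 f).All L 2 24 := w6 ▸ Endo.All.iterate hnF hnL hnM hsA 6 ok2
  have hA23 : (endoF4 f).All L 2 23 :=
    w22 ▸ Endo.All.iterate hnF hnL hnM hsA 2 fun j hj => ok2 j (by omega)
  have hA28 : (endoF4 f).All L 2 28 := by
    have hs0 : (endoF4 f).Some' L 2 28 := ⟨1, one_ne_zero, hx2 ▸ mul_mem hxL hxL⟩
    obtain ⟨-, hs⟩ := Endo.Some'.iterate hnF hnL hwok hnM (show 28 < tabF4.n by omega) hs0 2
    rw [w28] at hs
    refine w44 ▸ Endo.All.iterate hnF hnL hnM (Endo.Some'.all hhF hhL (ok44 0 (by omega))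
      (μ := ω ^ ((2 * (e : ℤ)) - 1)) (fun t => ?_) ?_ hs) 6 ok44
    · show hh * X chevF4 44 t * hh⁻¹ = X chevF4 44 _
      rw [hchar 44 (by omega) c44, hmod _ (2 * e - 1) (-1) (by ring)]
    · refine hgen1 _ (Or.inl ?_)
      rw [← zpow_natCast, Nat.cast_sub (by omega)]
      congr 1
  -- pairs of Weyl elements and the torus
  have hpair : ∀ t : Kˣ, nU chevF4 f4p1 ((t : K) ^ e) * nU chevF4 f4p4 (t : K) ∈ L := by
    intro t
    have e0 := certF4.prod_nU [(f4p1, (t : K) ^ e), (f4p4, (t : K))] (by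
      intro p hp
      simp only [List.mem_cons, List.not_mem_nil, or_false] at hp
      rcases hp with rfl | rfl
      · exact (by decide +kernel : f4p1 < tabF4.n)
      · exact (by decide +kernel : f4p4 < tabF4.n))
      (by decide +kernel : chkPairwise tabF4 [f4p1, f4p4] = true)
    simp only [List.map_cons, List.map_nil, List.prod_cons, List.prod_nil, mul_one,
      show f4p1 = 33 from rfl, show f4p4 = 24 from rfl, n33, n24] at e0
    rw [show f4p1 = 33 from rfl, show f4p4 = 24 from rfl, e0, CharTwo.neg_eq, CharTwo.neg_eq]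
    have hτ : ∀ {r : ℕ}, twistF4.ep r = 1 ∧ twistF4.dg r = 1 → ∀ z : K,
        (endoF4 f).τ r z = z ^ e := fun hr z => by rw [τF4_eq f hf hr, pow_one]
    have k24 : ∀ z : K, X chevF4 33 (z ^ e) * X chevF4 24 z ∈ L := fun z => by
      have h1 := hA24 z ?_
      · rw [Endo.orbElt_succ, Endo.orbElt_one, Function.iterate_one,
          show (endoF4 f).ρ 24 = 33 from ρ24] at h1
        rw [show (endoF4 f).τn 1 24 z = (endoF4 f).τ 24 z from rfl,
          hτ ⟨by decide +kernel, d24⟩] at h1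
        rwa [(certF4.commute_X cm3324 _ _).eq]
      · show (endoF4 f).τ (twistF4.rt 24) ((endoF4 f).τ 24 z) = z
        rw [τF4_eq f hf (k := 2) (by decide +kernel), hτ ⟨by decide +kernel, d24⟩,
          pow_fullF4 hK']
    have k23 : ∀ z : K, X chevF4 14 (z ^ e) * X chevF4 23 z ∈ L := fun z => by
      have h1 := hA23 z ?_
      · rw [Endo.orbElt_succ, Endo.orbElt_one, Function.iterate_one,
          show (endoF4 f).ρ 23 = 14 from ρ23] at h1
        rw [show (endoF4 f).τn 1 23 z = (endoF4 f).τ 23 z from rfl,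
          hτ ⟨by decide +kernel, d23⟩] at h1
        rwa [(certF4.commute_X cm1423 _ _).eq]
      · show (endoF4 f).τ (twistF4.rt 23) ((endoF4 f).τ 23 z) = z
        rw [τF4_eq f hf (k := 2) (by decide +kernel), hτ ⟨by decide +kernel, d23⟩,
          pow_fullF4 hK']
    refine mul_mem (mul_mem (k24 _) ?_) (k24 _)
    rw [← inv_pow]
    exact k23 _
  have ha0 : nW chevF4 K [0, 3] ∈ L := by
    have h1 := hpair 1
    rwa [Units.val_one, one_pow, ← hn03] at h1
  have hA : ∀ t : Kˣ, torusHom (D := chevF4) (T := tabF4)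
      (fun i => ([t ^ e, 1, 1, t] : List Kˣ).getD i 1) ∈ L := by
    intro t
    have m1 := mul_mem (hpair t) (hpair 1)
    have hcm := certF4.commute_nU (F := K) (a := f4p1) (b := f4p4) (by decide +kernel)
      (by decide +kernel) (by decide +kernel) (-1) (t : K)
    rw [Units.val_one, one_pow, ← CharTwo.neg_eq (1 : K),
      show nU chevF4 f4p1 ((t : K) ^ e) * nU chevF4 f4p4 (t : K) *
          (nU chevF4 f4p1 (-1 : K) * nU chevF4 f4p4 (-1 : K)) =
        hU chevF4 f4p1 ((t : K) ^ e) * hU chevF4 f4p4 (t : K) from ?_,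
      ← Units.val_pow_eq_pow_val, certF4.hU_eq_torusHom (by decide +kernel),
      certF4.hU_eq_torusHom (by decide +kernel), ← map_mul] at m1
    · convert m1 using 2
      have hcor : ∀ i : Fin tabF4.l, tabF4.cor f4p1 i = ([1, 0, 0, 0] : List ℤ).getD i 0 ∧
          tabF4.cor f4p4 i = ([0, 0, 0, 1] : List ℤ).getD i 0 := by decide +kernel
      funext i
      simp only [Pi.mul_apply, (hcor i).1, (hcor i).2]
      obtain ⟨i, hi⟩ := i
      have hi' : i < 4 := hi
      interval_cases i <;> simp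
    · rw [mul_assoc, ← mul_assoc (nU chevF4 f4p4 (t : K)), ← hcm.eq]
      simp only [hU, mul_assoc]
  -- the class of four roots
  have hclsF : Endo.Free tabF4 ((⟨25, 2, [28, 30], 1, []⟩ : Orb).cls twistF4.rt) 25 :=
    (Endo.free_of_chkBase (h := certF4) chkBaseTwF4
      (show (⟨25, 2, [28, 30], 1, []⟩ : Orb) ∈ dataTwF4.base by simp [dataTwF4])).1
  set P := (⟨25, 2, [28, 30], 1, []⟩ : Orb).cls twistF4.rt with hP
  have hmemP : 27 ∈ P ∧ 25 ∈ P ∧ 28 ∈ P :=
    ⟨Or.inl (List.mem_map.2 ⟨1, by simp, by simpa using ρ25⟩),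
      Or.inl (List.mem_map.2 ⟨0, by simp, rfl⟩), Or.inr (by simp)⟩
  let S : AddSubgroup K :=
    { carrier := {t | ∃ g ∈ L, g ∈ gen chevF4 K P ∧ Endo.InC chevF4 P 25 g t}
      zero_mem' := ⟨1, one_mem _, one_mem _, Endo.inC_one (h := certF4) hclsF⟩
      add_mem' := by
        rintro p q ⟨g, g1, g2, g3⟩ ⟨g', g1', g2', g3'⟩
        exact ⟨g * g', mul_mem g1 g1', mul_mem g2 g2', Endo.InC.mul (h := certF4) hclsF g3 g3'⟩
      neg_mem' := fun {p} hp => by rwa [CharTwo.neg_eq] }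
  have h1S : (1 : K) ∈ S := by
    refine ⟨x, hxL, mul_mem (mul_mem (X_mem_gen chevF4 hmemP.1 _) (X_mem_gen chevF4 hmemP.2.1 _))
      (X_mem_gen chevF4 hmemP.2.2 _), ?_⟩
    have h1 := Endo.inC_word (h := certF4) hclsF [(27, (1 : K)), (25, 1), (28, 1)] (by
      intro p hp
      simp only [List.mem_cons, List.not_mem_nil, or_false] at hp
      rcases hp with rfl | rfl | rfl
      exacts [hmemP.1, hmemP.2.1, hmemP.2.2])
    simpa [hxdef, mul_assoc] using h1
  set h1t := n * hh * n⁻¹ with hh1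
  have h1L : h1t ∈ L := mul_mem (mul_mem hnL hhL) (inv_mem hnL)
  have h1D : h1t ∈ chevF4.diagonalSubgroup K :=
    Endo.diag_conj (h := certF4) (certF4.nW_mem_monomial hwok) hhD
  obtain ⟨c', hc', ec'⟩ := certF4.mem_diagonalSubgroup_iff.1 h1D
  have hμc : charOf tabF4 c' 25 = ω ^ (4 * (e : ℤ) - 3) := by
    obtain ⟨cw, hcw, hmw⟩ := hnM 21 (show 21 < tabF4.n by omega)
    rw [w21] at hmw
    have h2 := Endo.conj_X_charOf (h := certF4) hc' ec' (show 25 < tabF4.n by omega) cw
    have h3 := congrArg (fun g => n * g * n⁻¹) (hchar 21 (by omega) c21 1)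
    rw [show X chevF4 25 cw = n * X chevF4 21 1 * n⁻¹ by rw [hmw, mul_one], hh1,
      show n * hh * n⁻¹ * (n * X chevF4 21 (1 : K) * n⁻¹) * (n * hh * n⁻¹)⁻¹ =
        n * (hh * X chevF4 21 (1 : K) * hh⁻¹) * n⁻¹ by group, h3, hmw, mul_one] at h2
    have h4 := certF4.X_inj (show 25 < tabF4.n by omega) h2
    rw [hmod _ (4 * (e : ℤ) - 3) 0 (by ring), mul_comm cw] at h4
    exact (mul_right_cancel₀ hcw h4).symm
  have hstable : ∀ t ∈ S, ω ^ (4 * (e : ℤ) - 3) * t ∈ S := by
    rintro t ⟨g, g1, g2, g3⟩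
    refine ⟨h1t * g * h1t⁻¹, mul_mem (mul_mem h1L g1) (inv_mem h1L),
      (Subgroup.mem_normalizer_iff.1 (certF4.diagonal_le_normalizer_gen (F := K)
        (fun y hy => (hclsF.sub hy).2) h1D) g).1 g2, ?_⟩
    rw [← hμc]
    exact Endo.InC.diag_conj (h := certF4) h1D hc' ec' hclsF.sub hmemP.2.1 g3
  have hS : ∀ t, t ∈ S := mem_of_closure_top (closure_pow_eq_top hv hm hK (j := 4 * e - 3)
    (by omega) (by omega) (Or.inl (by
      rw [← zpow_natCast, Nat.cast_sub (by omega)]
      congr 1))) hstable h1S one_ne_zero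
  -- the standard hypotheses
  refine (endoF4 f).fix_le (d := dataTwF4) ⟨dataOK_F4 f, ?_, ?_, ?_⟩ (hcardF4 f hf hK')
  · intro c hc
    simp only [dataTwF4, List.mem_cons, List.not_mem_nil, or_false] at hc
    have hword : ∀ w, WordOK tabF4 w → nW chevF4 K w ∈ L →
        ∃ g ∈ L, g ∈ (endoF4 f).fix ∧ g ∈ chevF4.monomialSubgroup K ∧
          ∀ r < tabF4.n, Maps chevF4 g r (rword tabF4 w r) := fun w hw hg =>
      ⟨_, hg, hLfix hg, certF4.nW_mem_monomial hw, fun r hr => certF4.Maps_nW hw hr⟩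
    rcases hc with rfl | rfl
    · exact hword [0, 3] (wordOK_of_all (by decide +kernel)) ha0
    · refine hword [1, 2, 1, 2] wordOK_F4 ?_
      have h1 := mul_mem hnL (inv_mem ha0)
      rwa [show n = nW chevF4 K [1, 2, 1, 2] * nW chevF4 K [0, 3] by
        simp [hndef, wordTwF4, nW, mul_assoc], mul_inv_cancel_right] at h1
  · intro g hg
    obtain ⟨c, rfl, hz⟩ := (endoF4 f).exists_param hg
    obtain ⟨p, hp, ep⟩ := exists_fix_paramF4 f hf hz
    rw [← ep]
    obtain ⟨h0, h1⟩ := (fix_paramF4_eq f hf hK').1 hp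
    obtain ⟨i, hi⟩ := mem_powers_iff_mem_zpowers.2 (hv (p ⟨2, by decide⟩))
    have hi' : v ^ i = p ⟨2, by decide⟩ := hi
    let A : Kˣ → Fin tabF4.l → Kˣ := fun t i => ([t ^ e, 1, 1, t] : List Kˣ).getD i 1
    rw [show p = cc ^ i * A (p ⟨3, by decide⟩) * (A (u ^ i))⁻¹ from ?_, map_mul, map_mul, map_pow,
      map_inv]
    · exact mul_mem (mul_mem (pow_mem hhL i) (hA _)) (inv_mem (hA _))
    · funext k
      obtain ⟨k, hk⟩ := k
      have hk' : k < 4 := hk
      interval_cases k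
      · simp [A, cc, h0]
        rw [← pow_mul, ← pow_mul, mul_comm i e, mul_comm (u ^ (e * i)), mul_inv_cancel_right]
      · simp [A, cc, h1]
        rw [← hi', ← pow_mul, ← pow_mul, mul_comm i e]
      · simp [A, cc, hi']
      · simp [A, cc]
  · intro b hb
    simp only [dataTwF4, List.mem_cons, List.not_mem_nil, or_false] at hb
    rcases hb with rfl | rfl | rfl
    · refine Endo.lift_of_word _ chkBaseTwF4 (by simp [dataTwF4]) fun t ht => ?_
      refine ⟨[(24, t), (33, (endoF4 f).τ 24 t)], ?_, ?_⟩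
      · simp [Orb.list, List.range_succ, show (endoF4 f).ρ 24 = 33 from ρ24]
      · have h1 := hA24 t ht
        rw [Endo.orbElt_succ, Endo.orbElt_one, Function.iterate_one,
          show (endoF4 f).ρ 24 = 33 from ρ24,
          show (endoF4 f).τn 1 24 t = (endoF4 f).τ 24 t from rfl] at h1
        refine ⟨?_, ?_, ?_⟩
        · simpa using h1
        · simpa using hLfix h1
        · simp
    · intro t _
      obtain ⟨g, g1, g2, g3⟩ := hS t
      exact ⟨g, g1, hLfix g1, g2, g3⟩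
    · refine Endo.lift_of_word _ chkBaseTwF4 (by simp [dataTwF4]) fun t ht => ?_
      refine ⟨[(28, t), (30, (endoF4 f).τ 28 t)], ?_, ?_⟩
      · simp [Orb.list, List.range_succ, show (endoF4 f).ρ 28 = 30 from ρ28]
      · have h1 := hA28 t ht
        rw [Endo.orbElt_succ, Endo.orbElt_one, Function.iterate_one,
          show (endoF4 f).ρ 28 = 30 from ρ28,
          show (endoF4 f).τn 1 28 t = (endoF4 f).τ 28 t from rfl] at h1
        refine ⟨?_, ?_, ?_⟩
        · simpa using h1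
        · simpa using hLfix h1
        · simp

end

theorem twistedF4_two_gen {K : Type*} [Field K] [Fintype K] {m : ℕ} (hm : 1 ≤ m)
    (hK : Fintype.card K = 2 ^ (2 * m + 1)) :
    ∃ a b : ↥(twistedF4 K (2 ^ m)),
      Subgroup.closure ({a, b} : Set ↥(twistedF4 K (2 ^ m))) = ⊤ := by
  have := charTwo_F4 hK
  obtain ⟨f, hf, hK'⟩ := setupF4 hK
  obtain ⟨a, b, ha, hb, hle⟩ := two_genF4 f hf hm hK rfl
  rw [fix_eq_twistedF4 f hf hK'] at ha hb hle
  refine ⟨⟨a, ha⟩, ⟨b, hb⟩, Subgroup.map_injective (twistedF4 K (2 ^ m)).subtype_injective ?_⟩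
  rw [MonoidHom.map_closure, ← MonoidHom.range_eq_map, Subgroup.range_subtype, Set.image_pair]
  exact le_antisymm ((Subgroup.closure_le _).2 (Set.pair_subset ha hb)) hle

end CfsgLib.Chev
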