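import Cfsg.Agent.Lib.Chev.BN
import Cfsg.Agent.Lib.Chev.WeylCount
import Cfsg.Agent.Lib.Coxeter.Exchange

/-!
The Weyl group as a permutation group of the roots, and its Coxeter presentation.
-/

set_option autoImplicit false

namespace CfsgLib.Chev

open Cfsg.Lie CfsgLib.Coxeter

namespace Tab

variable (T : Tab)

/-- The word fixes the simple roots. -/
noncomputable def wordFix (w : List ℕ) : Bool :=
  allBelow T.l fun m => Nat.beq (T.rwordF w (field 8 T.simpleP m)) (field 8 T.simpleP m)

/-- The word has order `k`. -/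
noncomputable def ordChk (w : List ℕ) (k : ℕ) : Bool :=
  Nat.blt 0 k && (T.wordFix (List.replicate k w).flatten &&
    (List.range k).all fun m => Nat.beq m 0 || !T.wordFix (List.replicate m w).flatten)

end Tab

namespace Cert

variable {D : ChevalleyDatum} {T : Tab} {C : Tab.Cover} (h : Cert D T C)
include h

/-- A simple reflection as a permutation of the roots. -/
def reflPerm (i : Fin T.l) : Equiv.Perm (Fin T.n) where
  toFun r := ⟨T.refl i r, h.refl_lt i.2 r.2⟩
  invFun r := ⟨T.refl i r, h.refl_lt i.2 r.2⟩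
  left_inv r := Fin.ext (h.refl_refl i.2 r.2)
  right_inv r := Fin.ext (h.refl_refl i.2 r.2)

/-- The Weyl group. -/
abbrev WeylGrp : Subgroup (Equiv.Perm (Fin T.n)) := Subgroup.closure (Set.range h.reflPerm)

/-- The simple reflections. -/
def sgen (i : Fin T.l) : h.WeylGrp := ⟨h.reflPerm i, Subgroup.subset_closure ⟨i, rfl⟩⟩

omit h in
lemma wordOK_map (L : List (Fin T.l)) : WordOK T (L.map fun a => a.1) := fun i hi => by
  obtain ⟨a, -, rfl⟩ := List.mem_map.1 hi
  exact a.2

omit h in
lemma exists_lift {w : List ℕ} (hw : ∀ a ∈ w, a < T.l) :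
    ∃ L : List (Fin T.l), (L.map fun a => a.1) = w :=
  ⟨w.pmap Fin.mk hw, by simp [List.map_pmap]⟩

lemma coe_wprod_apply : ∀ (L : List (Fin T.l)) (r : Fin T.n),
    (((wprod h.sgen L : h.WeylGrp) : Equiv.Perm (Fin T.n)) r : ℕ) =
      rword T (L.map fun a => a.1) r
  | [], r => rfl
  | i :: L, r => by
    rw [wprod_cons, Subgroup.coe_mul, Equiv.Perm.mul_apply, List.map_cons, rword_cons,
      ← coe_wprod_apply L r]
    rfl

lemma wprod_eq_iff {L L' : List (Fin T.l)} :
    wprod h.sgen L = wprod h.sgen L' ↔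
      SameAct T (L.map fun a => a.1) (L'.map fun a => a.1) := by
  constructor
  · intro e r hr
    rw [← h.coe_wprod_apply L ⟨r, hr⟩, e, h.coe_wprod_apply]
  · intro e
    refine Subtype.ext (Equiv.ext fun r => Fin.ext ?_)
    rw [h.coe_wprod_apply, h.coe_wprod_apply, e r r.2]

lemma gens_sgen : Gens h.sgen where
  sq i := Subtype.ext (Equiv.ext fun r => Fin.ext (h.refl_refl i.2 r.2))
  gen := by
    refine Subgroup.map_injective h.WeylGrp.subtype_injective ?_
    rw [MonoidHom.map_closure, ← Set.range_comp, ← MonoidHom.range_eq_map, Subgroup.range_subtype]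
    rfl

lemma sgen_injective : Function.Injective h.sgen := by
  intro i j e
  by_contra hne
  have h1 : (T.refl i (T.simple i) : ℕ) = T.refl j (T.simple i) :=
    congrArg (fun g : h.WeylGrp => ((g : Equiv.Perm (Fin T.n)) ⟨_, h.simple_lt i.2⟩ : ℕ)) e
  obtain ⟨hp1, hp2, -, -⟩ := h.simple_spec i.2
  have h2 := (h.refl_spec j.2 hp2).2.2.2.1 hp1 fun e => hne (by
    have := (h.refl_spec i.2 hp2).2.2.2.1 hp1
    by_contra hij
    have hz := h.wt_simple_of_ne i.2 j.2 (fun e => hij (Fin.ext e))
    have hw := h.wt_simple j.2 j.2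
    rw [if_pos rfl] at hw
    rw [e] at hz
    omega)
  rw [← h1, h.refl_simple i.2] at h2
  have := (h.half_le_neg_iff hp2).1 h2
  omega

/-- Deletion of a letter. -/
lemma exchange_index : ∀ {w : List ℕ}, WordOK T w → ∀ {i : ℕ}, i < T.l →
    rword T w (T.simple i) < T.half →
    ∃ A a B, w = A ++ a :: B ∧ SameAct T w (A ++ B ++ [i]) := by
  intro w
  induction w with
  | nil =>
    intro _ i hi hlt
    have := (h.simple_spec hi).1
    simp only [rword, List.foldr_nil] at hlt
    omega
  | cons j b ih =>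
    intro hw i hi hlt
    have hj := hw.head
    have hbp := h.rword_lt hw.tail (h.simple_lt hi)
    by_cases hneg : rword T b (T.simple i) < T.half
    · obtain ⟨A, a, B, e, hs⟩ := ih hw.tail hi hneg
      refine ⟨j :: A, a, B, by rw [e]; rfl, fun r hr => ?_⟩
      rw [rword_cons, hs r hr]; rfl
    · have hjp : rword T b (T.simple i) = T.simple j := by
        by_contra hne
        have := (h.refl_spec hj hbp).2.2.2.1 (not_lt.1 hneg) hne
        rw [rword_cons] at hlt
        omega
      refine ⟨[], j, b, rfl, fun r hr => ?_⟩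
      have hbi : WordOK T (b ++ [i]) := fun k hk => by
        rcases List.mem_append.1 hk with hk | hk
        · exact hw.tail k hk
        · rw [List.mem_singleton] at hk; omega
      obtain ⟨e, he, hconj⟩ := h.nW_conj_nU (F := ℚ) hw.tail (h.simple_lt hi)
      rw [hjp, show nU D (T.simple i) (1 : ℚ) = nS D ℚ i by rw [nS, h.simple_eq hi]] at hconj
      have key : ∃ t ∈ D.diagonalSubgroup ℚ,
          nW D ℚ (j :: b) = nW D ℚ (b ++ [i]) * t := by
        rcases h.nU_pm_mem_sup hj he with a | a
        · rw [a] at hconj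
          refine ⟨1, one_mem _, ?_⟩
          rw [nW_cons, nW_append, nW_cons, ← hconj, show nW D ℚ [] = 1 from rfl]; group
        · rw [a] at hconj
          have e2 : nS D ℚ j = nW D ℚ b * (nS D ℚ i)⁻¹ * (nW D ℚ b)⁻¹ := by
            rw [← inv_inv (nS D ℚ j), ← hconj]; group
          refine ⟨(nS D ℚ i * nS D ℚ i)⁻¹, inv_mem (h.nS_mul_self hi), ?_⟩
          rw [nW_cons, nW_append, nW_cons, e2, show nW D ℚ [] = 1 from rfl]; group
      obtain ⟨t, ht, e'⟩ := key
      have h1 := Maps_mul (h.Maps_diagonal ht hr) (h.Maps_nW hbi hr)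
      rw [← e'] at h1
      exact h.Maps_unique (h.rword_lt hw hr) (h.rword_lt hbi hr) (h.Maps_nW hw hr) h1

lemma wprod_exchange {L : List (Fin T.l)} {i : Fin T.l}
    (hlt : rword T (L.reverse.map fun a => a.1) (T.simple i) < T.half) :
    ∃ j < L.length, h.sgen i * wprod h.sgen L = wprod h.sgen (L.eraseIdx j) := by
  obtain ⟨A, a, B, e, hs⟩ := h.exchange_index (wordOK_map L.reverse) i.2 hlt
  obtain ⟨A', R, eR, rfl, hR⟩ := List.map_eq_append_iff.1 e
  obtain ⟨a', B', eB, rfl, rfl⟩ := List.map_eq_cons_iff.1 hR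
  rw [eB] at eR
  have hs' : wprod h.sgen L.reverse = wprod h.sgen (A' ++ B' ++ [i]) :=
    h.wprod_eq_iff.2 (by simpa using hs)
  have hL : L = B'.reverse ++ a' :: A'.reverse := by
    rw [← List.reverse_reverse L, eR]; simp
  refine ⟨B'.reverse.length, by rw [hL]; simp, ?_⟩
  rw [show L.eraseIdx B'.reverse.length = B'.reverse ++ A'.reverse by
    rw [hL, List.eraseIdx_append_of_length_le le_rfl, Nat.sub_self, List.eraseIdx_cons_zero]]
  have h2 := congrArg (fun g => g⁻¹) hs'
  simp only [← h.gens_sgen.wprod_reverse, List.reverse_reverse, List.reverse_append,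
    List.reverse_singleton, List.singleton_append, wprod_cons] at h2
  rw [h2, h.gens_sgen.cancel_left]

theorem exchange_sgen : Exchange h.sgen := by
  intro L i hL hlen
  by_cases hneg : rword T (L.reverse.map fun a => a.1) (T.simple i) < T.half
  · exact h.wprod_exchange hneg
  · exfalso
    obtain ⟨L', hL', e, hlen'⟩ := h.gens_sgen.exists_red (h.sgen i * wprod h.sgen L)
    have hp := h.simple_lt i.2
    have hneg' : rword T (L'.reverse.map fun a => a.1) (T.simple i) < T.half := by
      have e2 : wprod h.sgen L'.reverse = wprod h.sgen (L.reverse ++ [i]) := by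
        rw [h.gens_sgen.wprod_reverse, e, mul_inv_rev, h.gens_sgen.inv_eq, wprod_append,
          h.gens_sgen.wprod_reverse, wprod_cons, wprod_nil, mul_one]
      rw [h.wprod_eq_iff.1 e2 _ hp, List.map_append, rword_append, List.map_singleton,
        rword_cons, show rword T [] (T.simple i) = T.simple i from rfl, h.refl_simple i.2,
        h.rword_neg (wordOK_map _) hp]
      have := h.rword_lt (wordOK_map L.reverse) hp
      by_contra hge
      exact hneg ((h.half_le_neg_iff this).1 (not_lt.1 hge))
    obtain ⟨j, hj, ej⟩ := h.wprod_exchange hneg'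
    rw [e, h.gens_sgen.cancel_left] at ej
    have h1 : len h.sgen (wprod h.sgen L) ≤ (L'.eraseIdx j).length := by
      rw [ej]; exact len_le _
    rw [hL, List.length_eraseIdx_of_lt hj] at h1
    omega

lemma wordFix_iff (L : List (Fin T.l)) :
    T.wordFix (L.map fun a => a.1) = true ↔ wprod h.sgen L = 1 := by
  rw [← wprod_nil h.sgen, h.wprod_eq_iff, List.map_nil]
  constructor
  · intro e
    refine h.sameAct_of_simple (wordOK_map L) (fun _ ha => absurd ha List.not_mem_nil) fun i hi => ?_
    rw [← T.rwordF_eq]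
    exact Nat.eq_of_beq_eq_true (allBelow_eq_true e i hi)
  · intro e
    refine allBelow_of_forall fun m hm => ?_
    rw [T.rwordF_eq]
    show Nat.beq (rword T _ (T.simple m)) (T.simple m) = true
    rw [e _ (h.simple_lt hm)]
    exact Nat.beq_refl _

lemma orderOf_eq_of_ordChk {L : List (Fin T.l)} {k : ℕ}
    (hk : T.ordChk (L.map fun a => a.1) k = true) : orderOf (wprod h.sgen L) = k := by
  have hrep : ∀ m, (List.replicate m (L.map fun a => a.1)).flatten =
      (List.replicate m L).flatten.map fun a => a.1 := fun m => by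
    rw [List.map_flatten, List.map_replicate]
  have hpow : ∀ m, wprod h.sgen (List.replicate m L).flatten = wprod h.sgen L ^ m := by
    intro m
    induction m with
    | zero => rfl
    | succ m ih => rw [List.replicate_succ, List.flatten_cons, wprod_append, ih, pow_succ']
  simp only [Tab.ordChk, Bool.and_eq_true, List.all_eq_true, Bool.or_eq_true,
    Bool.not_eq_true'] at hk
  obtain ⟨h0, h1, h2⟩ := hk
  have hk0 : 0 < k := Nat.le_of_ble_eq_true h0
  rw [orderOf_eq_iff hk0]
  refine ⟨?_, fun m hm hm0 e => ?_⟩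
  · rw [hrep, h.wordFix_iff, hpow] at h1; exact h1
  · rcases h2 m (List.mem_range.2 hm) with a | a
    · exact hm0.ne' (Nat.eq_of_beq_eq_true a)
    · rw [hrep, (h.wordFix_iff _).2 ((hpow m).trans e)] at a
      exact Bool.noConfusion a

/-- The Coxeter presentation with a checked matrix. -/
theorem exists_coxeterSystem (M : CoxeterMatrix (Fin T.l))
    (hM : ∀ i j : Fin T.l, T.ordChk [i.1, j.1] (M i j) = true) :
    ∃ cs : CoxeterSystem M h.WeylGrp, ∀ i, cs.simple i = h.sgen i := by
  obtain ⟨cs, hcs⟩ := Coxeter.exists_coxeterSystem h.gens_sgen h.sgen_injective h.exchange_sgen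
  have e : matrixOf h.gens_sgen h.sgen_injective = M := by
    ext i j
    show orderOf (h.sgen i * h.sgen j) = M i j
    have := h.orderOf_eq_of_ordChk (L := [i, j]) (hM i j)
    simpa using this
  subst e
  exact ⟨cs, hcs⟩

/-- The presented group is the Weyl group. -/
theorem exists_iso (M : CoxeterMatrix (Fin T.l))
    (hM : ∀ i j : Fin T.l, T.ordChk [i.1, j.1] (M i j) = true) :
    ∃ e : M.Group ≃* h.WeylGrp, ∀ i, e (M.simple i) = h.sgen i := by
  obtain ⟨cs, hcs⟩ := h.exists_coxeterSystem M hM
  exact ⟨cs.mulEquiv.symm, hcs⟩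

/-- The number of elements of the Weyl group. -/
theorem card_weylGrp {Lv : List Level} (hLv : T.chkLevels Lv = true) :
    Nat.card h.WeylGrp = (Lv.map fun v => v.gpoly 1).prod := by
  classical
  have hnd : (transversal Lv T.l).Nodup :=
    (h.transversal_inj hLv T.l le_rfl).imp fun hab e => hab fun r _ => by rw [e]
  have hlift : ∀ w : {w // w ∈ transversal Lv T.l},
      ∃ L : List (Fin T.l), (L.map fun a => a.1) = w.1 := fun w => by
    exact exists_lift (h.transversal_ok hLv le_rfl w.2)
  choose lift hlift using hlift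
  let e : {w // w ∈ transversal Lv T.l} → h.WeylGrp := fun w => wprod h.sgen (lift w)
  have hb : Function.Bijective e := by
    constructor
    · intro w w' hww
      have hs := h.wprod_eq_iff.1 hww
      rw [hlift, hlift] at hs
      obtain ⟨i, hi, ei⟩ := List.getElem_of_mem w.2
      obtain ⟨j, hj, ej⟩ := List.getElem_of_mem w'.2
      have hpw := List.pairwise_iff_getElem.1 (h.transversal_inj hLv T.l le_rfl)
      rcases lt_trichotomy i j with hij | rfl | hij
      · exact absurd (by rw [ei, ej]; exact hs) (hpw i j hi hj hij)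
      · exact Subtype.ext (ei.symm.trans ej)
      · exact absurd (by rw [ei, ej]; exact fun r hr => (hs r hr).symm) (hpw j i hj hi hij)
    · intro g
      obtain ⟨L, rfl⟩ := h.gens_sgen.exists_word g
      obtain ⟨w, hw, hs⟩ := h.exists_transversal hLv T.l le_rfl (L.map fun a => a.1)
        (fun i hi => wordOK_map L i hi)
      refine ⟨⟨w, hw⟩, h.wprod_eq_iff.2 fun r hr => ?_⟩
      rw [hlift, hs r hr]
  rw [← Nat.card_eq_of_bijective e hb, Nat.card_eq_fintype_card,
    Fintype.card_of_subtype (transversal Lv T.l).toFinset fun r => List.mem_toFinset,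
    List.toFinset_card_of_nodup hnd]
  have h1 := h.sum_transversal hLv (1 : ℕ) T.l le_rfl
  rw [← levels_length hLv, List.take_length] at h1
  rw [← h1, levels_length hLv]
  simp

section Monomial

variable {F : Type*} [Field F]

/-- The monomial subgroup maps onto the Weyl group with the diagonal subgroup as kernel. -/
theorem exists_monomial_hom :
    ∃ φ : ↥(D.monomialSubgroup F) →* h.WeylGrp, Function.Surjective φ ∧
      φ.ker = (D.diagonalSubgroup F).subgroupOf (D.monomialSubgroup F) ∧
      ∀ (i : Fin T.l) (g : ↥(D.monomialSubgroup F)),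
        (g : GL D.Idx F) = nS D F i → φ g = h.sgen i := by
  have key : ∀ g : ↥(D.monomialSubgroup F), ∃ p : h.WeylGrp,
      ∀ r : Fin T.n, Maps D (g : GL D.Idx F) r ((p : Equiv.Perm (Fin T.n)) r) := by
    rintro ⟨g, hg⟩
    obtain ⟨w, hw, t, ht, rfl⟩ := h.exists_word_of_monomial hg
    obtain ⟨L, rfl⟩ := exists_lift hw
    refine ⟨wprod h.sgen L, fun r => ?_⟩
    rw [h.coe_wprod_apply]
    exact Maps_mul (h.Maps_diagonal ht r.2) (h.Maps_nW hw r.2)
  choose f hf using key
  have uniq : ∀ (g : ↥(D.monomialSubgroup F)) (p : h.WeylGrp),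
      (∀ r : Fin T.n, Maps D (g : GL D.Idx F) r ((p : Equiv.Perm (Fin T.n)) r)) → f g = p :=
    fun g p hp => Subtype.ext (Equiv.ext fun r => Fin.ext
      (h.Maps_unique (Fin.isLt _) (Fin.isLt _) (hf g r) (hp r)))
  have h1 : f 1 = 1 := uniq 1 1 fun r => h.Maps_diagonal (one_mem _) r.2
  have hmul : ∀ a b, f (a * b) = f a * f b := fun a b =>
    uniq _ _ fun r => Maps_mul (hf b r) (hf a _)
  let φ : ↥(D.monomialSubgroup F) →* h.WeylGrp :=
    { toFun := f, map_one' := h1, map_mul' := hmul }
  have hS : ∀ (i : Fin T.l) (g : ↥(D.monomialSubgroup F)),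
      (g : GL D.Idx F) = nS D F i → φ g = h.sgen i := fun i g hg =>
    uniq g _ fun r => by rw [hg]; exact h.Maps_nS i.2 r.2
  refine ⟨φ, ?_, ?_, hS⟩
  · rw [← MonoidHom.range_eq_top, eq_top_iff, ← h.gens_sgen.gen, Subgroup.closure_le]
    rintro _ ⟨i, rfl⟩
    exact ⟨⟨nS D F i, h.nS_mem_monomial i.2⟩, hS i _ rfl⟩
  · ext g
    rw [MonoidHom.mem_ker, Subgroup.mem_subgroupOf]
    constructor
    · intro e
      refine h.mem_diagonal_of_perm g.2 fun i hi s hs hM => ?_
      obtain ⟨hp1, hp2, -, -⟩ := h.simple_spec hi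
      have h3 := hf g ⟨_, hp2⟩
      rw [show f g = 1 from e] at h3
      have := h.Maps_unique (by omega) hp2 hM h3
      omega
    · intro e
      exact uniq g 1 fun r => h.Maps_diagonal e r.2

end Monomial

end Cert

end CfsgLib.Chev
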