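import Cfsg.Agent.Lib.Chev.TwistFinal
import Cfsg.Agent.Lib.Chev.WeylGroup

/-!
The monomial part of the fixed points onto a folded Weyl group.
-/

set_option autoImplicit false

namespace CfsgLib.Chev

open Cfsg.Lie

namespace Endo

open Cert (Maps_mul)

variable {D : ChevalleyDatum} {T : Tab} {C : Tab.Cover} {h : Cert D T C} {F : Type*} [Field F]
  (E : Endo h F) {d : Data T}

include h in
lemma fold_clsWord {CL : List Cls} {n' : ℕ} {σ : ℕ → Equiv.Perm (Fin n')} {ω : ℕ → Fin n'}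
    (hok : E.ClsOK CL)
    (hσ : ∀ a < CL.length, ∀ r < T.n, ω (rword T (CL.getD a ⟨[], []⟩).word r) = σ a (ω r)) :
    ∀ {M : List ℕ}, (∀ j ∈ M, j < CL.length) → ∀ r < T.n,
      ω (rword T (clsWord CL M) r) = (M.map σ).prod (ω r)
  | [], _, r, _ => rfl
  | j :: M, hM, r, hr => by
    have hM' : ∀ i ∈ M, i < CL.length := fun i hi => hM i (List.mem_cons_of_mem _ hi)
    rw [show clsWord CL (j :: M) = (CL.getD j ⟨[], []⟩).word ++ clsWord CL M from rfl,
      rword_append, hσ j (hM j List.mem_cons_self) _ (h.rword_lt (E.wordOK_clsWord hok hM') hr),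
      fold_clsWord hok hσ hM' r hr, List.map_cons, List.prod_cons, Equiv.Perm.mul_apply]

/-- A map of the roots intertwining the classes with permutations gives the folded Weyl group. -/
theorem exists_weyl_hom (hok : E.DataOK d) (hG : E.Reps E.fix d.CL) {n' half' : ℕ}
    (σ : ℕ → Equiv.Perm (Fin n')) (ω : ℕ → Fin n') (hsur : ∀ s, ∃ r < T.n, ω r = s)
    (hpos : ∀ r < T.n, (T.half ≤ r ↔ half' ≤ (ω r : ℕ)))
    (hσ : ∀ a < d.CL.length, ∀ r < T.n, ω (rword T (d.CL.getD a ⟨[], []⟩).word r) = σ a (ω r)) :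
    ∃ φ : ↥(D.monomialSubgroup F ⊓ E.fix) →* Equiv.Perm (Fin n'),
      φ.range = Subgroup.closure (σ '' Set.Iio d.CL.length) ∧
      φ.ker = (D.diagonalSubgroup F ⊓ E.fix).subgroupOf (D.monomialSubgroup F ⊓ E.fix) := by
  have key : ∀ g : ↥(D.monomialSubgroup F ⊓ E.fix), ∃ w : List ℕ, ∃ M : List ℕ, WordOK T w ∧
      (∀ j ∈ M, j < d.CL.length) ∧ (∀ r < T.n, Maps D (g : GL D.Idx F) r (rword T w r)) ∧
      ∀ r < T.n, ω (rword T w r) = (M.map σ).prod (ω r) := by
    rintro ⟨g, hg1, hg2⟩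
    obtain ⟨w, hw, t, ht, e⟩ := h.exists_word_of_monomial hg1
    have hM : ∀ r < T.n, Maps D g r (rword T w r) := fun r hr => by
      rw [e]; exact Maps_mul (h.Maps_diagonal ht hr) (h.Maps_nW hw hr)
    obtain ⟨M, hMlt, es⟩ := E.exists_cls_list hok.cls hw (E.comm_of_fix hw hg2 hg1 hM)
    exact ⟨w, M, hw, hMlt, hM, fun r hr => by rw [es r hr, E.fold_clsWord hok.cls hσ hMlt r hr]⟩
  choose wd Md hwd hMd hmaps hfold using key
  have uniq : ∀ (g : ↥(D.monomialSubgroup F ⊓ E.fix)) (p : Equiv.Perm (Fin n')),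
      (∀ r < T.n, ∃ s < T.n, Maps D (g : GL D.Idx F) r s ∧ ω s = p (ω r)) →
      ((Md g).map σ).prod = p := by
    intro g p hp
    refine Equiv.ext fun x => ?_
    obtain ⟨r, hr, rfl⟩ := hsur x
    obtain ⟨s, hs, hm, e⟩ := hp r hr
    rw [← hfold g r hr, h.Maps_unique (h.rword_lt (hwd g) hr) hs (hmaps g r hr) hm, e]
  let φ : ↥(D.monomialSubgroup F ⊓ E.fix) →* Equiv.Perm (Fin n') :=
    MonoidHom.mk' (fun g => ((Md g).map σ).prod) fun a b => uniq _ _ fun r hr => by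
      have hb := h.rword_lt (hwd b) hr
      exact ⟨_, h.rword_lt (hwd a) hb, Maps_mul (hmaps b r hr) (hmaps a _ hb),
        by rw [hfold a _ hb, hfold b r hr]; rfl⟩
  refine ⟨φ, le_antisymm ?_ ?_, ?_⟩
  · rintro _ ⟨g, rfl⟩
    refine list_prod_mem fun x hx => ?_
    obtain ⟨j, hj, rfl⟩ := List.mem_map.1 hx
    exact Subgroup.subset_closure ⟨j, hMd g j hj, rfl⟩
  · rw [Subgroup.closure_le]
    rintro _ ⟨a, ha, rfl⟩
    have ha' : a < d.CL.length := ha
    obtain ⟨m, -, hmf, hmn, hmM⟩ := hG _ (List.getElem_mem ha')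
    refine ⟨⟨m, hmn, hmf⟩, uniq _ _ fun r hr => ?_⟩
    refine ⟨_, h.rword_lt (hok.cls.wordOK E (List.getElem_mem ha')) hr, hmM r hr, ?_⟩
    rw [← hσ a ha' r hr, List.getD_eq_getElem _ _ ha']
  · ext g
    rw [MonoidHom.mem_ker, Subgroup.mem_subgroupOf]
    constructor
    · intro e
      refine Subgroup.mem_inf.2 ⟨h.mem_diagonal_of_perm g.2.1 fun i hi s hs hM => ?_, g.2.2⟩
      have hp := h.simple_lt hi
      have e1 : rword T (wd g) (T.simple i) = s := h.Maps_unique (h.rword_lt (hwd g) hp)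
        (lt_of_lt_of_le hs (by have := h.two_mul_half; omega)) (hmaps g _ hp) hM
      have e2 := hfold g _ hp
      rw [show ((Md g).map σ).prod = 1 from e, Equiv.Perm.one_apply, e1] at e2
      have h1 := (hpos _ hp).1 (h.simple_spec hi).1
      rw [← e2] at h1
      have h2 := (hpos s (lt_of_lt_of_le hs (by have := h.two_mul_half; omega))).2 h1
      omega
    · intro e
      exact uniq g 1 fun r hr => ⟨r, hr, h.Maps_diagonal e.1 hr, rfl⟩

/-- The folded Weyl group as an abstract group. -/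
theorem exists_weyl_surj (hok : E.DataOK d) (hG : E.Reps E.fix d.CL) {n' half' : ℕ}
    (σ : ℕ → Equiv.Perm (Fin n')) (ω : ℕ → Fin n') (hsur : ∀ s, ∃ r < T.n, ω r = s)
    (hpos : ∀ r < T.n, (T.half ≤ r ↔ half' ≤ (ω r : ℕ)))
    (hσ : ∀ a < d.CL.length, ∀ r < T.n, ω (rword T (d.CL.getD a ⟨[], []⟩).word r) = σ a (ω r))
    {W : Type*} [Group W] (ψ : W →* Equiv.Perm (Fin n')) (hψ : Function.Injective ψ)
    (hrange : ψ.range = Subgroup.closure (σ '' Set.Iio d.CL.length)) :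
    ∃ φ : ↥(D.monomialSubgroup F ⊓ E.fix) →* W, Function.Surjective φ ∧
      φ.ker = (D.diagonalSubgroup F ⊓ E.fix).subgroupOf (D.monomialSubgroup F ⊓ E.fix) := by
  obtain ⟨φ, hr, hk⟩ := E.exists_weyl_hom hok hG σ ω hsur hpos hσ
  have e : φ.range = ψ.range := hr.trans hrange.symm
  let i : φ.range ≃* W :=
    (MulEquiv.subgroupCongr e).trans (MonoidHom.ofInjective hψ).symm
  refine ⟨i.toMonoidHom.comp φ.rangeRestrict,
    i.surjective.comp φ.rangeRestrict_surjective, ?_⟩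
  rw [← hk, ← MonoidHom.ker_rangeRestrict φ]
  ext g
  simp [MonoidHom.mem_ker]

end Endo

end CfsgLib.Chev
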