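import Cfsg.Agent.Lib.Chev.TwistD4
import Cfsg.Agent.Lib.Chev.TwistWeylHom
import Cfsg.Agent.Lib.Chev.WeylData

/-!
The Weyl group of `³D₄` is of type G₂.
-/

set_option autoImplicit false
set_option maxRecDepth 100000

namespace CfsgLib.Chev

open Cfsg.Lie

/-- The roots of D₄ onto those of G₂. -/
def foldD4 (r : ℕ) : ℕ := ([0, 1, 2, 2, 3, 4, 2, 3, 3, 5, 4, 4, 7, 7, 6, 8, 8, 9, 7, 8, 9, 9, 10,
  11] : List ℕ).getD r 0

theorem foldD4_spec :
    ((List.range tabD4.n).all fun r => decide (foldD4 r < tabG2.n ∧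
      (tabD4.half ≤ r ↔ tabG2.half ≤ foldD4 r))) = true ∧
    ((List.range tabG2.n).all fun s =>
      (List.range tabD4.n).any fun r => decide (foldD4 r = s)) = true ∧
    ((List.range 2).all fun a => (List.range tabD4.n).all fun r =>
      decide (foldD4 (rword tabD4 (dataTwD4.CL.getD a ⟨[], []⟩).word r) =
        tabG2.refl a (foldD4 r))) = true := by
  decide +kernel

theorem weylD4_twist {K : Type*} [Field K] [Fintype K] {q : ℕ} (f : K →+* K)
    (hf : ∀ t, f t = t ^ q) (hK : Fintype.card K = q ^ 3) (hq : IsPrimePow q) :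
    ∃ φ : ↥(chevD4.monomialSubgroup K ⊓ (endoD4 f).fix) →* (CoxeterMatrix.G₂).Group,
      Function.Surjective φ ∧ φ.ker = (chevD4.diagonalSubgroup K ⊓ (endoD4 f).fix).subgroupOf
        (chevD4.monomialSubgroup K ⊓ (endoD4 f).fix) := by
  obtain ⟨h1, h2, h3⟩ := foldD4_spec
  simp only [List.all_eq_true, List.any_eq_true, List.mem_range, decide_eq_true_eq] at h1 h2 h3
  have hn : 0 < tabG2.n := by decide
  have hl : 0 < tabG2.l := by decide
  obtain ⟨e, he⟩ := exists_weylG2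
  have hlen : dataTwD4.CL.length = tabG2.l := by decide +kernel
  refine (endoD4 f).exists_weyl_surj (dataOK_D4 f) (std_fixD4 f hf hK hq).reps
    (half' := tabG2.half) (fun a => certG2.reflPerm ⟨a % tabG2.l, Nat.mod_lt _ hl⟩)
    (fun r => ⟨foldD4 r % tabG2.n, Nat.mod_lt _ hn⟩) (fun s => ?_) (fun r hr => ?_)
    (fun a ha r hr => ?_) ((certG2.WeylGrp).subtype.comp e.toMonoidHom)
    ((Subtype.coe_injective).comp e.injective) ?_
  · obtain ⟨r, hr, e⟩ := h2 s s.2
    exact ⟨r, hr, Fin.ext (by simp [e, Nat.mod_eq_of_lt s.2])⟩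
  · simp only [Nat.mod_eq_of_lt (h1 r hr).1]
    exact (h1 r hr).2
  · have hw : WordOK tabD4 (dataTwD4.CL.getD a ⟨[], []⟩).word := by
      rw [List.getD_eq_getElem _ _ ha]; exact (dataOK_D4 f).cls.wordOK _ (List.getElem_mem ha)
    refine Fin.ext ?_
    show foldD4 _ % tabG2.n = tabG2.refl (a % tabG2.l) (foldD4 r % tabG2.n)
    have ha' : a < tabG2.l := hlen ▸ ha
    rw [Nat.mod_eq_of_lt (h1 _ (certD4.rword_lt hw hr)).1, Nat.mod_eq_of_lt (h1 r hr).1,
      Nat.mod_eq_of_lt ha']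
    exact h3 a (by rw [hlen, show tabG2.l = 2 by decide] at ha; exact ha) r hr
  · rw [MonoidHom.range_eq_map, ← Subgroup.map_map, ← MonoidHom.range_eq_map,
      MonoidHom.range_eq_top.2 e.surjective, ← MonoidHom.range_eq_map, Subgroup.range_subtype]
    refine congrArg Subgroup.closure (Set.ext fun x => ⟨?_, ?_⟩)
    · rintro ⟨i, rfl⟩
      exact ⟨i.1, by rw [Set.mem_Iio, hlen]; exact i.2,
        congrArg certG2.reflPerm (Fin.ext (Nat.mod_eq_of_lt i.2))⟩
    · rintro ⟨a, -, rfl⟩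
      exact ⟨_, rfl⟩

end CfsgLib.Chev
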