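import Cfsg.Agent.Lib.Chev.TwistE6
import Cfsg.Agent.Lib.Chev.TwistWeylHom
import Cfsg.Agent.Lib.Chev.WeylData

/-!
The Weyl group of `²E₆` is of type F₄.
-/

set_option autoImplicit false
set_option maxRecDepth 100000

namespace CfsgLib.Chev

open Cfsg.Lie

/-- The roots of E₆ onto those of F₄. -/
def foldE6 (r : ℕ) : ℕ := ([0, 1, 2, 3, 7, 3, 4, 8, 5, 9, 11, 6, 10, 12, 13, 14, 7, 8, 15, 9, 16,
  18, 11, 18, 21, 23, 10, 17, 19, 20, 12, 19, 22, 13, 20, 14, 33, 27, 34, 25, 28, 35, 27, 28, 30,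
  37, 24, 26, 29, 36, 29, 31, 38, 32, 39, 40, 33, 34, 35, 37, 41, 36, 38, 42, 39, 43, 44, 40, 44,
  45, 46, 47] : List ℕ).getD r 0

theorem foldE6_spec :
    ((List.range tabE6.n).all fun r => decide (foldE6 r < tabF4.n ∧
      (tabE6.half ≤ r ↔ tabF4.half ≤ foldE6 r))) = true ∧
    ((List.range tabF4.n).all fun s =>
      (List.range tabE6.n).any fun r => decide (foldE6 r = s)) = true ∧
    ((List.range 4).all fun a => (List.range tabE6.n).all fun r =>
      decide (foldE6 (rword tabE6 (dataTwE6.CL.getD a ⟨[], []⟩).word r) =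
        tabF4.refl a (foldE6 r))) = true := by
  decide +kernel

theorem weylE6_twist {K : Type*} [Field K] [Fintype K] {q : ℕ} (f : K →+* K)
    (hf : ∀ t, f t = t ^ q) (hK : Fintype.card K = q ^ 2) (hq : IsPrimePow q) :
    ∃ φ : ↥(chevE6.monomialSubgroup K ⊓ (endoE6 f).fix) →* (CoxeterMatrix.F₄).Group,
      Function.Surjective φ ∧ φ.ker = (chevE6.diagonalSubgroup K ⊓ (endoE6 f).fix).subgroupOf
        (chevE6.monomialSubgroup K ⊓ (endoE6 f).fix) := by
  obtain ⟨h1, h2, h3⟩ := foldE6_spec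
  simp only [List.all_eq_true, List.any_eq_true, List.mem_range, decide_eq_true_eq] at h1 h2 h3
  have hn : 0 < tabF4.n := by decide
  have hl : 0 < tabF4.l := by decide
  obtain ⟨e, he⟩ := exists_weylF4
  have hlen : dataTwE6.CL.length = tabF4.l := by decide +kernel
  refine (endoE6 f).exists_weyl_surj (dataOK_E6 f) (std_fixE6 f hf hK hq).reps
    (half' := tabF4.half) (fun a => certF4.reflPerm ⟨a % tabF4.l, Nat.mod_lt _ hl⟩)
    (fun r => ⟨foldE6 r % tabF4.n, Nat.mod_lt _ hn⟩) (fun s => ?_) (fun r hr => ?_)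
    (fun a ha r hr => ?_) ((certF4.WeylGrp).subtype.comp e.toMonoidHom)
    ((Subtype.coe_injective).comp e.injective) ?_
  · obtain ⟨r, hr, e⟩ := h2 s s.2
    exact ⟨r, hr, Fin.ext (by simp [e, Nat.mod_eq_of_lt s.2])⟩
  · simp only [Nat.mod_eq_of_lt (h1 r hr).1]
    exact (h1 r hr).2
  · have hw : WordOK tabE6 (dataTwE6.CL.getD a ⟨[], []⟩).word := by
      rw [List.getD_eq_getElem _ _ ha]; exact (dataOK_E6 f).cls.wordOK _ (List.getElem_mem ha)
    refine Fin.ext ?_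
    show foldE6 _ % tabF4.n = tabF4.refl (a % tabF4.l) (foldE6 r % tabF4.n)
    have ha' : a < tabF4.l := hlen ▸ ha
    rw [Nat.mod_eq_of_lt (h1 _ (certE6.rword_lt hw hr)).1, Nat.mod_eq_of_lt (h1 r hr).1,
      Nat.mod_eq_of_lt ha']
    exact h3 a (by rw [hlen, show tabF4.l = 4 by decide] at ha; exact ha) r hr
  · rw [MonoidHom.range_eq_map, ← Subgroup.map_map, ← MonoidHom.range_eq_map,
      MonoidHom.range_eq_top.2 e.surjective, ← MonoidHom.range_eq_map, Subgroup.range_subtype]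
    refine congrArg Subgroup.closure (Set.ext fun x => ⟨?_, ?_⟩)
    · rintro ⟨i, rfl⟩
      exact ⟨i.1, by rw [Set.mem_Iio, hlen]; exact i.2,
        congrArg certF4.reflPerm (Fin.ext (Nat.mod_eq_of_lt i.2))⟩
    · rintro ⟨a, -, rfl⟩
      exact ⟨_, rfl⟩

end CfsgLib.Chev
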