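import Cfsg.Agent.Lib.Chev.TwistF4
import Cfsg.Agent.Lib.Chev.TwistWeylHom

/-!
The Weyl group of `²F₄` is dihedral of order 16.
-/

set_option autoImplicit false
set_option maxRecDepth 100000

namespace CfsgLib.Chev

open Cfsg.Lie

/-- The generators of the folded Weyl group of F₄. -/
noncomputable def sigmaF4 (a : ℕ) : Equiv.Perm (Fin tabF4.n) :=
  if a = 0 then certF4.reflPerm ⟨0, by decide⟩ * certF4.reflPerm ⟨3, by decide⟩
  else certF4.reflPerm ⟨1, by decide⟩ * certF4.reflPerm ⟨2, by decide⟩ *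
    certF4.reflPerm ⟨1, by decide⟩ * certF4.reflPerm ⟨2, by decide⟩

/-- The dihedral group inside the permutations of the roots. -/
noncomputable def dihF4 : DihedralGroup 8 → Equiv.Perm (Fin tabF4.n)
  | .r i => (sigmaF4 0 * sigmaF4 1) ^ i.val
  | .sr i => sigmaF4 0 * (sigmaF4 0 * sigmaF4 1) ^ i.val

theorem dihF4_spec :
    (∀ a b : DihedralGroup 8, dihF4 (a * b) = dihF4 a * dihF4 b) ∧
      (∀ a : DihedralGroup 8, dihF4 a = 1 → a = 1) ∧
      dihF4 (.sr 0) = sigmaF4 0 ∧ dihF4 (.sr 1) = sigmaF4 1 := by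
  decide +kernel

/-- The dihedral representation. -/
noncomputable def dihHomF4 : DihedralGroup 8 →* Equiv.Perm (Fin tabF4.n) :=
  MonoidHom.mk' dihF4 dihF4_spec.1

theorem range_dihF4 : dihHomF4.range = Subgroup.closure (sigmaF4 '' Set.Iio 2) := by
  refine le_antisymm ?_ ((Subgroup.closure_le _).2 ?_)
  · rintro _ ⟨x, rfl⟩
    have h0 : sigmaF4 0 ∈ Subgroup.closure (sigmaF4 '' Set.Iio 2) :=
      Subgroup.subset_closure ⟨0, Set.mem_Iio.2 two_pos, rfl⟩
    have h1 : sigmaF4 1 ∈ Subgroup.closure (sigmaF4 '' Set.Iio 2) :=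
      Subgroup.subset_closure ⟨1, Set.mem_Iio.2 one_lt_two, rfl⟩
    rcases x with i | i
    · exact pow_mem (mul_mem h0 h1) _
    · exact mul_mem h0 (pow_mem (mul_mem h0 h1) _)
  · rintro _ ⟨a, ha, rfl⟩
    have ha' : a < 2 := ha
    interval_cases a
    · exact ⟨DihedralGroup.sr 0, dihF4_spec.2.2.1⟩
    · exact ⟨DihedralGroup.sr 1, dihF4_spec.2.2.2⟩

theorem sigmaF4_spec :
    ((List.range 2).all fun a => (List.range tabF4.n).all fun r =>
      decide (rword tabF4 (dataTwF4.CL.getD a ⟨[], []⟩).word r =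
        if a = 0 then tabF4.refl 0 (tabF4.refl 3 r)
        else tabF4.refl 1 (tabF4.refl 2 (tabF4.refl 1 (tabF4.refl 2 r))))) = true := by
  decide +kernel

theorem weylF4_twist {K : Type*} [Field K] [Fintype K] [CharP K 2] {e : ℕ} (f : K →+* K)
    (hf : ∀ t, f t = t ^ e) (hK : Fintype.card K = 2 * e ^ 2) :
    ∃ φ : ↥(chevF4.monomialSubgroup K ⊓ (endoF4 f).fix) →* DihedralGroup 8,
      Function.Surjective φ ∧ φ.ker = (chevF4.diagonalSubgroup K ⊓ (endoF4 f).fix).subgroupOf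
        (chevF4.monomialSubgroup K ⊓ (endoF4 f).fix) := by
  have hn : 0 < tabF4.n := by decide
  have h3 := sigmaF4_spec
  simp only [List.all_eq_true, List.mem_range, decide_eq_true_eq] at h3
  refine (endoF4 f).exists_weyl_surj (dataOK_F4 f) (std_fixF4 f hf hK).reps
    (half' := tabF4.half) sigmaF4 (fun r => ⟨r % tabF4.n, Nat.mod_lt _ hn⟩) (fun s => ?_)
    (fun r hr => by simp [Nat.mod_eq_of_lt hr]) (fun a ha r hr => ?_) dihHomF4 ?_ range_dihF4
  · exact ⟨s, s.2, Fin.ext (Nat.mod_eq_of_lt s.2)⟩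
  · have ha' : a < 2 := ha
    have hw : WordOK tabF4 (dataTwF4.CL.getD a ⟨[], []⟩).word := by
      rw [List.getD_eq_getElem _ _ ha]; exact (dataOK_F4 f).cls.wordOK _ (List.getElem_mem ha)
    refine Fin.ext ?_
    show rword tabF4 _ r % tabF4.n = _
    rw [Nat.mod_eq_of_lt (certF4.rword_lt hw hr), h3 a ha' r hr]
    interval_cases a <;> simp [sigmaF4, Cert.reflPerm, Nat.mod_eq_of_lt hr]
  · rw [injective_iff_map_eq_one]
    exact dihF4_spec.2.1

end CfsgLib.Chev
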