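import Cfsg.Agent.Lib.Chev.TwistG2
import Cfsg.Agent.Lib.Chev.TwistWeylHom

/-!
The Weyl group of `²G₂` has order two.
-/

set_option autoImplicit false
set_option maxRecDepth 100000

namespace CfsgLib.Chev

open Cfsg.Lie

/-- The generator of the folded Weyl group of G₂. -/
noncomputable def sigmaG2 : Equiv.Perm (Fin tabG2.n) :=
  (certG2.reflPerm ⟨0, by decide⟩ * certG2.reflPerm ⟨1, by decide⟩) ^ 3

/-- The group of order two inside the permutations of the roots. -/
noncomputable def twoG2 (a : Multiplicative (ZMod 2)) : Equiv.Perm (Fin tabG2.n) :=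
  sigmaG2 ^ (Multiplicative.toAdd a).val

theorem twoG2_spec :
    (∀ a b : ZMod 2, twoG2 (Multiplicative.ofAdd (a + b)) =
      twoG2 (Multiplicative.ofAdd a) * twoG2 (Multiplicative.ofAdd b)) ∧
    twoG2 (Multiplicative.ofAdd 1) = sigmaG2 ∧ sigmaG2 ≠ 1 ∧
    ((List.range tabG2.n).all fun r =>
      decide (rword tabG2 (dataTwG2.CL.getD 0 ⟨[], []⟩).word r =
        tabG2.refl 0 (tabG2.refl 1 (tabG2.refl 0 (tabG2.refl 1 (tabG2.refl 0
          (tabG2.refl 1 r))))))) = true := by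
  decide +kernel

theorem weylG2_twist {K : Type*} [Field K] [Fintype K] [CharP K 3] {e : ℕ} (f : K →+* K)
    (hf : ∀ t, f t = t ^ e) (hK : Fintype.card K = 3 * e ^ 2) :
    ∃ φ : ↥(chevG2.monomialSubgroup K ⊓ (endoG2 f).fix) →* Multiplicative (ZMod 2),
      Function.Surjective φ ∧ φ.ker = (chevG2.diagonalSubgroup K ⊓ (endoG2 f).fix).subgroupOf
        (chevG2.monomialSubgroup K ⊓ (endoG2 f).fix) := by
  have hn : 0 < tabG2.n := by decide
  obtain ⟨hmul, hgen, hne, h3⟩ := twoG2_spec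
  simp only [List.all_eq_true, List.mem_range, decide_eq_true_eq] at h3
  let ψ : Multiplicative (ZMod 2) →* Equiv.Perm (Fin tabG2.n) :=
    MonoidHom.mk' twoG2 fun a b => hmul a.toAdd b.toAdd
  refine (endoG2 f).exists_weyl_surj (dataOK_G2 f) (std_fixG2 f hf hK).reps
    (half' := tabG2.half) (fun _ => sigmaG2) (fun r => ⟨r % tabG2.n, Nat.mod_lt _ hn⟩) (fun s => ?_)
    (fun r hr => by simp [Nat.mod_eq_of_lt hr]) (fun a ha r hr => ?_) ψ ?_ ?_
  · exact ⟨s, s.2, Fin.ext (Nat.mod_eq_of_lt s.2)⟩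
  · obtain rfl : a = 0 := Nat.lt_one_iff.1 ha
    have hw : WordOK tabG2 (dataTwG2.CL.getD 0 ⟨[], []⟩).word := by
      rw [List.getD_eq_getElem _ _ ha]; exact (dataOK_G2 f).cls.wordOK _ (List.getElem_mem ha)
    refine Fin.ext ?_
    show rword tabG2 _ r % tabG2.n = _
    rw [Nat.mod_eq_of_lt (certG2.rword_lt hw hr), h3 r hr]
    simp [sigmaG2, pow_succ, Cert.reflPerm, Nat.mod_eq_of_lt hr]
  · rw [injective_iff_map_eq_one]
    intro a ha
    rcases (by decide : ∀ x : ZMod 2, x = 0 ∨ x = 1) a.toAdd with h | h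
    · exact h
    · exact absurd (hgen.symm.trans ((congrArg (fun x => twoG2 (Multiplicative.ofAdd x)) h.symm).trans ha)) hne
  · refine le_antisymm ?_ ((Subgroup.closure_le _).2 ?_)
    · rintro _ ⟨x, rfl⟩
      refine pow_mem ?_ _
      exact Subgroup.subset_closure ⟨0, Set.mem_Iio.2 (Nat.one_pos : 0 < 1), rfl⟩
    · rintro _ ⟨a, -, rfl⟩
      exact ⟨Multiplicative.ofAdd 1, hgen⟩

end CfsgLib.Chev
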