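import Cfsg.Agent.Lib.Chev.TwoGenData

/-!
The seven certified types are generated by two elements.
-/

set_option autoImplicit false

namespace CfsgLib.Chev

open Cfsg.Lie

variable {F : Type*} [Field F]

theorem charP_of_cast_zero {e : ℕ} (he : e.Prime) (h0 : (e : F) = 0) : CharP F e := by
  have := ringChar.charP F
  have hd := (CharP.cast_eq_zero_iff F (ringChar F) e).1 h0
  rcases (Nat.dvd_prime he).1 hd with h1 | h1
  · exact absurd h1 (CharP.ringChar_ne_one)
  · exact h1 ▸ this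

theorem two_gen_both {D : ChevalleyDatum} {T : Tab} {C : Tab.Cover} (h : Cert D T C) [Fintype F]
    (hF : 3 ≤ Fintype.card F) {e r s j : ℕ} (he : e.Prime) {w : List ℕ} {A B : List Tab.GStep}
    (hA : T.chkStart ⟨e, false, w, s, j⟩ r = true ∧
      T.chkGen ⟨e, false, w, s, j⟩ A (2 ^ s) (2 ^ r ||| 2 ^ s) = true)
    (hB : T.chkStart ⟨e, true, w, s, j⟩ r = true ∧
      T.chkGen ⟨e, true, w, s, j⟩ B (2 ^ s) (2 ^ r ||| 2 ^ s) = true) :
    ∃ a b : GL D.Idx F, a ∈ D.group F ∧ b ∈ D.group F ∧ D.group F ≤ Subgroup.closure {a, b} := by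
  by_cases h0 : (e : F) = 0
  · haveI := charP_of_cast_zero he h0
    haveI : Fact e.Prime := ⟨he⟩
    exact h.exists_two_gen hF hB.1 (parOK_of_char w s j) hB.2
  · exact h.exists_two_gen hF hA.1 (parOK_of_ne h0 w s j) hA.2

theorem two_gen_simply {D : ChevalleyDatum} {T : Tab} {C : Tab.Cover} (h : Cert D T C) [Fintype F]
    {r s j r₂ s₂ : ℕ} {w w₂ : List ℕ} {A C₂ : List Tab.GStep}
    (hA : T.chkStart ⟨1, false, w, s, j⟩ r = true ∧
      T.chkGen ⟨1, false, w, s, j⟩ A (2 ^ s) (2 ^ r ||| 2 ^ s) = true)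
    (hC : (r₂ < T.n ∧ s₂ < T.n ∧ w₂.all (fun i => decide (i < T.l)) = true) ∧
      T.chkGen ⟨2, true, w₂, s₂, 0⟩ C₂ (2 ^ r₂) (2 ^ r₂) = true) :
    ∃ a b : GL D.Idx F, a ∈ D.group F ∧ b ∈ D.group F ∧ D.group F ≤ Subgroup.closure {a, b} := by
  rcases (show Fintype.card F = 2 ∨ 3 ≤ Fintype.card F by
    have := Fintype.one_lt_card (α := F); omega) with hF | hF
  · haveI : CharP F 2 := charP_of_cast_zero Nat.prime_two
      (by rw [← hF]; exact FiniteField.cast_card_eq_zero F)
    exact h.exists_two_gen_two hF hC.1.1 hC.1.2.1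
      (fun i hi => of_decide_eq_true (List.all_eq_true.1 hC.1.2.2 i hi))
      (parOK_of_char w₂ s₂ 0) hC.2
  · exact h.exists_two_gen hF hA.1 (parOK_of_ne (by simp) w s j) hA.2

theorem two_gen_f4 [Fintype F] :
    ∃ a b : GL chevF4.Idx F, a ∈ chevF4.group F ∧ b ∈ chevF4.group F ∧
      chevF4.group F ≤ Subgroup.closure {a, b} := by
  rcases (show Fintype.card F = 2 ∨ 3 ≤ Fintype.card F by
    have := Fintype.one_lt_card (α := F); omega) with hF | hF
  · haveI : CharP F 2 := charP_of_cast_zero Nat.prime_two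
      (by rw [← hF]; exact FiniteField.cast_card_eq_zero F)
    exact certF4.exists_two_gen_two (p := ⟨2, true, [0, 1, 2, 3], 0, 0⟩) hF genChkF4C.1.1 genChkF4C.1.2.1
      (fun i hi => of_decide_eq_true (List.all_eq_true.1 genChkF4C.1.2.2 i hi))
      (parOK_of_char _ _ 0) genChkF4C.2
  · exact two_gen_both certF4 hF Nat.prime_two genChkF4A genChkF4B

theorem two_gen [Finite F] {D : ChevalleyDatum}
    (hD : D ∈ [chevG2, chevB2, chevD4, chevF4, chevE6, chevE7, chevE8])
    (hF : D ∈ [chevB2, chevG2] → ∃ x : F, x ≠ 0 ∧ x ≠ 1) :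
    ∃ a b : ↥(D.group F), Subgroup.closure ({a, b} : Set ↥(D.group F)) = ⊤ := by
  classical
  haveI := Fintype.ofFinite F
  suffices H : ∃ a b : GL D.Idx F, a ∈ D.group F ∧ b ∈ D.group F ∧
      D.group F ≤ Subgroup.closure {a, b} by
    obtain ⟨a, b, ha, hb, hle⟩ := H
    refine ⟨⟨a, ha⟩, ⟨b, hb⟩, Subgroup.map_injective (D.group F).subtype_injective ?_⟩
    rw [MonoidHom.map_closure, ← MonoidHom.range_eq_map, Subgroup.range_subtype, Set.image_pair]
    exact le_antisymm ((Subgroup.closure_le _).2 (Set.pair_subset ha hb)) hle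
  have h3 : (∃ x : F, x ≠ 0 ∧ x ≠ 1) → 3 ≤ Fintype.card F := fun ⟨x, h0, h1⟩ => by
    calc 3 = ({0, 1, x} : Finset F).card := by
          rw [Finset.card_insert_of_notMem (by simp [h0.symm]),
            Finset.card_insert_of_notMem (by simp [h1.symm]), Finset.card_singleton]
      _ ≤ _ := Finset.card_le_univ _
  simp only [List.mem_cons, List.not_mem_nil, or_false] at hD
  rcases hD with rfl | rfl | rfl | rfl | rfl | rfl | rfl
  · exact two_gen_both certG2 (h3 (hF (by simp))) Nat.prime_three genChkG2A genChkG2B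
  · exact two_gen_both certB2 (h3 (hF (by simp))) Nat.prime_two genChkB2A genChkB2B
  · exact two_gen_simply certD4 genChkD4A genChkD4C
  · exact two_gen_f4
  · exact two_gen_simply certE6 genChkE6A genChkE6C
  · exact two_gen_simply certE7 genChkE7A genChkE7C
  · exact two_gen_simply certE8 genChkE8A genChkE8C

end CfsgLib.Chev
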