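import Cfsg.Agent.Lib.Chev.TwoGenCert

/-!
Certificates for generation of the seven certified types by two elements (generated data).
-/

set_option autoImplicit false
set_option maxRecDepth 100000

namespace CfsgLib.Chev

/-- Steps for type G2. -/
def genStepsG2A : List Tab.GStep :=
  [.wf 6, .ws 7, .wf 1, .ws 9, .wf 0, .ws 8, .ws 4, .up 2, .wf 2, .wf 3, .wf 7, .wf 9, .wf 8]

theorem genChkG2A :
    tabG2.chkStart ⟨3, false, [0, 1], 6, 0⟩ 7 = true ∧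
    tabG2.chkGen ⟨3, false, [0, 1], 6, 0⟩ genStepsG2A (2 ^ 6) (2 ^ 7 ||| 2 ^ 6) = true := by
  decide +kernel

/-- Steps for type G2. -/
def genStepsG2B : List Tab.GStep :=
  [.wf 6, .ws 7, .wf 1, .ws 9, .wf 0, .ws 8, .ws 4, .up 2, .wf 2, .wf 3, .wf 7, .wf 9, .wf 8]

theorem genChkG2B :
    tabG2.chkStart ⟨3, true, [0, 1], 6, 0⟩ 7 = true ∧
    tabG2.chkGen ⟨3, true, [0, 1], 6, 0⟩ genStepsG2B (2 ^ 6) (2 ^ 7 ||| 2 ^ 6) = true := by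
  decide +kernel

/-- Steps for type B2. -/
def genStepsB2A : List Tab.GStep :=
  [.wf 5, .ws 6, .wf 6, .ws 2, .wf 2, .comm 1 2 0, .wf 0, .wf 3, .wf 7]

theorem genChkB2A :
    tabB2.chkStart ⟨2, false, [0, 1], 5, 0⟩ 4 = true ∧
    tabB2.chkGen ⟨2, false, [0, 1], 5, 0⟩ genStepsB2A (2 ^ 5) (2 ^ 4 ||| 2 ^ 5) = true := by
  decide +kernel

/-- Steps for type B2. -/
def genStepsB2B : List Tab.GStep :=
  [.wf 5, .ws 4, .wf 6, .wf 2, .comm 0 5 1, .wf 3, .wf 7]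

theorem genChkB2B :
    tabB2.chkStart ⟨2, true, [0, 1], 5, 0⟩ 4 = true ∧
    tabB2.chkGen ⟨2, true, [0, 1], 5, 0⟩ genStepsB2B (2 ^ 5) (2 ^ 4 ||| 2 ^ 5) = true := by
  decide +kernel

/-- Steps for type D4. -/
def genStepsD4A : List Tab.GStep :=
  [.wf 2, .ws 18, .wf 8, .ws 14, .wf 10, .ws 22, .wf 21, .ws 5, .wf 15, .ws 9, .up 1, .wf 1, .wf 18, .wf 14, .wf 22, .wf 5, .comm 1 13 0, .wf 3, .wf 7, .wf 11, .wf 20, .wf 16]

theorem genChkD4A :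
    tabD4.chkStart ⟨1, false, [0, 1, 2, 3], 2, 0⟩ 18 = true ∧
    tabD4.chkGen ⟨1, false, [0, 1, 2, 3], 2, 0⟩ genStepsD4A (2 ^ 2) (2 ^ 18 ||| 2 ^ 2) = true := by
  decide +kernel

/-- Steps for type D4 over two elements. -/
def genStepsD4C : List Tab.GStep :=
  [.bi 1 0, .bi 9 0, .comm 1 9 0, .bi 4 0, .bi 17 0, .comm 1 17 0, .comm 17 18 0, .bi 22 1, .comm 1 12 0, .wf 2, .wf 12, .wf 18, .wf 3, .wf 8, .wf 7, .wf 10, .wf 21, .wf 15]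

theorem genChkD4C :
    (18 < tabD4.n ∧ 2 < tabD4.n ∧ ([0, 1, 2, 3] : List ℕ).all (fun i => decide (i < tabD4.l)) = true) ∧
    tabD4.chkGen ⟨2, true, [0, 1, 2, 3], 2, 0⟩ genStepsD4C (2 ^ 18) (2 ^ 18) = true := by
  decide +kernel

/-- Steps for type F4. -/
def genStepsF4A : List Tab.GStep :=
  [.wf 25, .ws 33, .wf 24, .ws 27, .wf 5, .ws 35, .wf 17, .ws 38, .wf 4, .ws 28, .wf 16, .ws 36, .wf 22, .ws 14, .ws 20, .up 12, .wf 12, .wf 9, .wf 19, .wf 11, .wf 33, .wf 27, .wf 35, .wf 38, .wf 28, .wf 36, .wf 14]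

theorem genChkF4A :
    tabF4.chkStart ⟨2, false, [0, 1, 2, 3], 25, 1⟩ 33 = true ∧
    tabF4.chkGen ⟨2, false, [0, 1, 2, 3], 25, 1⟩ genStepsF4A (2 ^ 25) (2 ^ 33 ||| 2 ^ 25) = true := by
  decide +kernel

/-- Steps for type F4. -/
def genStepsF4B : List Tab.GStep :=
  [.wf 25, .ws 33, .wf 24, .ws 27, .wf 5, .ws 35, .wf 17, .ws 38, .wf 4, .ws 28, .wf 16, .ws 36, .wf 22, .ws 14, .ws 20, .up 12, .wf 12, .wf 9, .wf 19, .wf 11, .wf 33, .wf 27, .wf 35, .wf 38, .wf 28, .wf 36, .wf 14]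

theorem genChkF4B :
    tabF4.chkStart ⟨2, true, [0, 1, 2, 3], 25, 1⟩ 33 = true ∧
    tabF4.chkGen ⟨2, true, [0, 1, 2, 3], 25, 1⟩ genStepsF4B (2 ^ 25) (2 ^ 33 ||| 2 ^ 25) = true := by
  decide +kernel

/-- Steps for type F4 over two elements. -/
def genStepsF4C : List Tab.GStep :=
  [.bc 33 0, .bc 27 0, .comm 27 35 0, .bi 11 0, .comm 11 33 0, .bi 19 0, .comm 11 19 0, .bi 7 0, .bi 3 0, .bi 10 0, .comm 10 35 0, .bi 13 0, .comm 13 27 0, .comm 13 37 0, .bc 28 0, .comm 14 36 0, .bi 29 2, .comm 6 18 1, .wf 0, .wf 15, .wf 21, .wf 41, .wf 45, .wf 46, .wf 47, .comm 0 32 0, .wf 5, .wf 17, .wf 4, .wf 16, .wf 22, .wf 23, .wf 42, .wf 30, .wf 43, .wf 31, .wf 25]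

theorem genChkF4C :
    (33 < tabF4.n ∧ 0 < tabF4.n ∧ ([0, 1, 2, 3] : List ℕ).all (fun i => decide (i < tabF4.l)) = true) ∧
    tabF4.chkGen ⟨2, true, [0, 1, 2, 3], 0, 0⟩ genStepsF4C (2 ^ 33) (2 ^ 33) = true := by
  decide +kernel

/-- Steps for type E6. -/
def genStepsE6A : List Tab.GStep :=
  [.wf 46, .ws 56, .ws 58, .wf 58, .ws 42, .ws 51, .wf 51, .ws 47, .ws 65, .wf 65, .ws 44, .ws 59, .wf 44, .ws 49, .ws 52, .wf 49, .ws 25, .ws 39, .wf 25, .ws 13, .ws 37, .wf 13, .ws 20, .ws 36, .wf 20, .ws 8, .ws 28, .ws 23, .up 11, .wf 11, .wf 56, .wf 42, .wf 47, .wf 59, .wf 52, .wf 39, .wf 37, .comm 6 20 0, .comm 0 47 0, .comm 2 37 0, .wf 3, .wf 18, .wf 5, .wf 26, .wf 57, .wf 50, .comm 0 64 0, .wf 19, .wf 32, .wf 34, .wf 35, .wf 63, .wf 43, .wf 48, .wf 60, .wf 15]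

theorem genChkE6A :
    tabE6.chkStart ⟨1, false, [0, 1, 2, 3, 4, 5], 46, 1⟩ 56 = true ∧
    tabE6.chkGen ⟨1, false, [0, 1, 2, 3, 4, 5], 46, 1⟩ genStepsE6A (2 ^ 46) (2 ^ 56 ||| 2 ^ 46) = true := by
  decide +kernel

/-- Steps for type E6 over two elements. -/
def genStepsE6C : List Tab.GStep :=
  [.wf 56, .ws 42, .wf 42, .ws 47, .wf 47, .ws 59, .wf 59, .ws 52, .wf 52, .ws 39, .wf 39, .ws 37, .wf 37, .ws 36, .wf 36, .wf 8, .wf 28, .comm 8 28 0, .wf 3, .wf 18, .wf 5, .wf 26, .wf 57, .wf 50, .comm 3 23 0, .wf 0, .wf 1, .wf 16, .wf 30, .wf 61, .comm 0 64 0, .wf 19, .wf 32, .wf 34, .wf 35, .wf 63, .wf 43, .wf 48, .wf 60, .wf 15, .comm 0 67 0, .wf 22, .wf 46, .wf 58, .wf 51, .wf 65, .wf 44, .wf 49]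

theorem genChkE6C :
    (56 < tabE6.n ∧ 56 < tabE6.n ∧ ([0, 1, 2, 3, 4, 5] : List ℕ).all (fun i => decide (i < tabE6.l)) = true) ∧
    tabE6.chkGen ⟨2, true, [0, 1, 2, 3, 4, 5], 56, 0⟩ genStepsE6C (2 ^ 56) (2 ^ 56) = true := by
  decide +kernel

/-- Steps for type E7. -/
def genStepsE7A : List Tab.GStep :=
  [.wf 78, .ws 93, .ws 95, .wf 95, .ws 73, .ws 84, .wf 84, .ws 79, .ws 104, .wf 104, .ws 96, .ws 113, .wf 113, .ws 85, .ws 88, .wf 88, .ws 105, .ws 107, .wf 107, .ws 75, .ws 76, .wf 76, .ws 81, .ws 82, .wf 82, .ws 47, .ws 98, .wf 47, .ws 30, .ws 32, .wf 30, .ws 41, .ws 52, .wf 41, .ws 21, .ws 46, .wf 21, .ws 29, .up 40, .wf 40, .wf 20, .wf 50, .wf 44, .wf 27, .wf 93, .wf 73, .wf 79, .wf 96, .wf 85, .wf 105, .wf 75, .wf 81, .wf 98, .wf 32, .comm 12 21 0, .comm 0 95 0, .wf 3, .wf 8, .wf 34, .wf 54, .wf 57, .wf 100, .wf 110, .wf 120, .comm 0 115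 0, .wf 23, .wf 51, .wf 45, .wf 28, .wf 39, .wf 56, .wf 59, .wf 61, .wf 62, .wf 102, .wf 74, .wf 80, .wf 97, .wf 86, .wf 69, .wf 66, .wf 64]

theorem genChkE7A :
    tabE7.chkStart ⟨1, false, [0, 1, 2, 3, 4, 5, 6], 78, 3⟩ 93 = true ∧
    tabE7.chkGen ⟨1, false, [0, 1, 2, 3, 4, 5, 6], 78, 3⟩ genStepsE7A (2 ^ 78) (2 ^ 93 ||| 2 ^ 78) = true := by
  decide +kernel

/-- Steps for type E7 over two elements. -/
def genStepsE7C : List Tab.GStep :=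
  [.bc 93 0, .comm 73 93 0, .bc 73 0, .comm 73 79 0, .comm 79 94 0, .bc 79 0, .comm 79 96 0, .comm 73 103 0, .bi 27 0, .comm 27 93 0, .bi 17 0, .bi 35 0, .comm 27 35 0, .bi 2 0, .bi 1 0, .bi 0 0, .comm 0 96 0, .bi 13 0, .comm 13 96 0, .bi 22 0, .comm 22 40 0, .comm 22 48 0, .comm 22 79 0, .bi 6 1, .bi 16 0, .comm 16 96 0, .comm 16 103 0, .bi 5 0, .bi 15 0, .comm 15 109 0, .bi 25 0, .comm 25 96 0, .comm 25 99 0, .comm 25 103 0, .bi 42 1, .comm 51 73 0, .comm 51 83 0, .wf 61, .wf 69, .wf 96, .wf 66, .wf 85, .wf 64, .wf 105, .wf 75, .wf 81, .wf 98]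

theorem genChkE7C :
    (93 < tabE7.n ∧ 78 < tabE7.n ∧ ([0, 1, 2, 3, 4, 5, 6] : List ℕ).all (fun i => decide (i < tabE7.l)) = true) ∧
    tabE7.chkGen ⟨2, true, [0, 1, 2, 3, 4, 5, 6], 78, 0⟩ genStepsE7C (2 ^ 93) (2 ^ 93) = true := by
  decide +kernel

/-- Steps for type E8. -/
def genStepsE8A : List Tab.GStep :=
  [.wf 141, .ws 162, .ws 164, .wf 164, .ws 135, .ws 148, .wf 148, .ws 142, .ws 175, .wf 175, .ws 165, .ws 189, .wf 189, .ws 149, .ws 208, .wf 208, .ws 176, .ws 195, .wf 195, .ws 190, .ws 211, .wf 211, .ws 153, .ws 197, .wf 197, .ws 179, .ws 212, .wf 212, .ws 192, .ws 198, .wf 198, .ws 154, .ws 157, .wf 157, .ws 180, .ws 182, .wf 182, .ws 138, .ws 139, .wf 139, .ws 145, .ws 146, .wf 146, .ws 98, .ws 168, .wf 98, .ws 75, .ws 77, .wf 75, .ws 91, .ws 104, .wf 91, .ws 64, .ws 97, .wf 64, .ws 50, .ws 74, .wf 50, .ws 31, .ws 90, .wf 31, .ws 44,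 .ws 63, .wf 44, .ws 28, .ws 49, .wf 28, .ws 42, .ws 86, .wf 42, .ws 60, .wf 27, .up 47, .wf 47, .wf 85, .wf 59, .wf 101, .wf 94, .wf 71, .wf 162, .wf 135, .wf 142, .wf 165, .wf 149, .wf 176, .wf 190, .wf 153, .wf 179, .wf 192, .wf 154, .wf 180, .wf 138, .wf 145, .wf 168, .wf 77, .comm 27 41 0, .comm 0 146 0, .wf 7, .wf 14, .wf 8, .wf 16, .wf 22, .wf 37, .wf 79, .wf 106, .wf 110, .wf 170, .wf 185, .wf 205, .wf 227, .wf 219, .wf 233, .wf 232, .wf 225, .wf 231, .comm 0 223 0, .wf 62, .wf 102, .wf 95, .wf 72, .wf 88, .wf 109, .wf 113, .wf 116, .wf 118, .wf 119, .wf 173, .wf 136, .wf 143, .wf 166, .wf 150, .wf 177, .wf 137, .wf 144, .wf 167, .wf 151, .wf 130, .wf 126, .wf 123, .wf 121]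

theorem genChkE8A :
    tabE8.chkStart ⟨1, false, [0, 1, 2, 3, 4, 5, 6, 7], 141, 7⟩ 162 = true ∧
    tabE8.chkGen ⟨1, false, [0, 1, 2, 3, 4, 5, 6, 7], 141, 7⟩ genStepsE8A (2 ^ 141) (2 ^ 162 ||| 2 ^ 141) = true := by
  decide +kernel

/-- Steps for type E8 over two elements. -/
def genStepsE8C : List Tab.GStep :=
  [.wf 162, .ws 135, .wf 135, .ws 142, .wf 142, .ws 165, .wf 165, .ws 149, .wf 149, .ws 176, .wf 176, .ws 190, .wf 190, .ws 153, .wf 153, .ws 179, .wf 179, .ws 192, .wf 192, .ws 154, .wf 154, .ws 180, .wf 180, .ws 138, .wf 138, .ws 145, .wf 145, .ws 168, .wf 168, .ws 77, .wf 77, .ws 104, .wf 104, .ws 97, .wf 97, .ws 74, .wf 74, .ws 90, .wf 90, .ws 63, .wf 63, .ws 49, .wf 49, .ws 86, .wf 86, .ws 60, .wf 60, .wf 47, .comm 47 60 0, .wf 9, .wf 17, .wf 23, .wf 38, .wf 80, .wf 56, .wf 99, .wf 163, .wf 147, .wf 174, .wf 188, .wf 207, .wf 228,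 .wf 220, .wf 214, .wf 230, .wf 222, .wf 216, .wf 201, .wf 159, .wf 183, .comm 9 85 0, .wf 1, .comm 0 140 0, .wf 6, .wf 7, .wf 14, .wf 8, .wf 16, .wf 22, .wf 37, .wf 79, .wf 106, .wf 110, .wf 170, .wf 185, .wf 205, .wf 227, .wf 219, .wf 233, .wf 232, .wf 225, .wf 231, .comm 0 201 0, .wf 30, .wf 43, .wf 83, .wf 58, .wf 46, .wf 84, .wf 108, .wf 112, .wf 115, .wf 117, .wf 172, .wf 187, .wf 152, .wf 178, .wf 191, .wf 209, .wf 196, .wf 156, .wf 181, .comm 0 193 0, .wf 24, .wf 39, .wf 26, .wf 40, .wf 81, .wf 107, .wf 111, .wf 114, .wf 171, .wf 186, .wf 206, .wf 194, .wf 210, .wf 229, .wf 221, .wf 215, .wf 200, .wf 213, .comm 0 199 0, .wf 28, .wf 42, .wf 27, .wf 41, .wf 82, .wf 57, .wf 100, .wf 93, .wf 141, .wf 164, .wf 148, .wf 175, .wf 189, .wf 208, .wf 195, .wf 211, .wf 197, .wf 212, .wf 198, .wf 157, .wf 182, .wf 139, .wf 146, .comm 0 223 0, .wf 62,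 .wf 102, .wf 95, .wf 72, .wf 88, .wf 109, .wf 113, .wf 116, .wf 118, .wf 119, .wf 173, .wf 136, .wf 143, .wf 166, .wf 150, .wf 177, .wf 137, .wf 144, .wf 167, .wf 151, .wf 130, .wf 126, .wf 123, .wf 121]

theorem genChkE8C :
    (162 < tabE8.n ∧ 162 < tabE8.n ∧ ([0, 1, 2, 3, 4, 5, 6, 7] : List ℕ).all (fun i => decide (i < tabE8.l)) = true) ∧
    tabE8.chkGen ⟨2, true, [0, 1, 2, 3, 4, 5, 6, 7], 162, 0⟩ genStepsE8C (2 ^ 162) (2 ^ 162) = true := by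
  decide +kernel

end CfsgLib.Chev
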