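import Cfsg.Agent.Lib.Chev.RadicalCentralizer

/-!
The derived subgroup of `U`, and weakly closed subgroups of `U`.
-/

set_option autoImplicit false

namespace CfsgLib.Chev

open Cfsg.Lie Matrix

namespace Tab

variable (T : Tab)

/-- The pair `(a, b)` reaches the root `r` modulo the roots in `K`. -/
def chkReach (multi : Bool) (K : List ℕ) (r a b : ℕ) : Bool :=
  decide (T.half ≤ a ∧ a < T.n ∧ T.half ≤ b ∧ b < T.n ∧ a ≠ b) &&
    (T.commTerms a b).any fun q =>
      decide (q.1 = r ∧ q.2.1.natAbs = 1 ∧ q.2.2.2 = 1) &&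
        ((T.commTerms a b).erase q).all fun q' =>
          decide (q'.1 ∈ K) || (multi && decide (q'.2.2.2 = 1 ∧ q'.2.2.1 ≠ q.2.2.1 ∧
            q'.2.2.1 ≤ q.2.2.1 + 2 ∧ q.2.2.1 ≤ q'.2.2.1 + 2))

/-- Processing the pairs in order. -/
def chkKill (multi : Bool) : List (ℕ × ℕ × ℕ) → List ℕ → Bool
  | [], K => (List.range T.n).all fun r => decide (r < T.half) ||
      (decide (r ∈ K) || (List.range T.l).any fun i => decide (T.simple i = r))
  | (r, a, b) :: rest, K => T.chkReach multi K r a b && chkKill multi rest (r :: K)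

/-- Two simple roots are separated by the diagonal subgroup. -/
def chkWCSep (multi : Bool) : Bool :=
  (List.range T.l).all fun i => (List.range T.l).all fun j => decide (i = j) ||
    (List.range T.l).any fun k => (List.range T.l).any fun m =>
      ([-3, -2, -1, 0, 1, 2, 3] : List ℤ).any fun a => ([-3, -2, -1, 0, 1, 2, 3] : List ℤ).any fun b =>
        decide (a * T.car k (T.simple j) + b * T.car m (T.simple j) = 0) &&
          (decide ((a * T.car k (T.simple i) + b * T.car m (T.simple i)).natAbs = 1) ||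
            (multi && decide ((a * T.car k (T.simple i) + b * T.car m (T.simple i)).natAbs = 2)))

end Tab

section Elim

variable {F : Type*} [Field F] {A : Type*} [AddCommGroup A]

/-- Separating additive functions by the exponent of a scalar. -/
lemma additive_elim {i : ℕ} :
    ∀ (n : ℕ) (L : List (ℕ × (F →+ A))), L.length = n →
      (∀ p ∈ L, p.2 = 0 ∨ ∃ x : F, x ≠ 0 ∧ x ^ i ≠ x ^ p.1) →
      ∀ f : F →+ A, (∀ t u : F, f (t ^ i * u) + (L.map fun p => p.2 (t ^ p.1 * u)).sum = 0) →
      f = 0 := by
  intro n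
  induction n with
  | zero =>
    intro L hlen _ f hf
    rw [List.length_eq_zero_iff] at hlen
    subst hlen
    ext z
    simpa using hf 1 z
  | succ n ih =>
    intro L hlen hL f hf
    obtain ⟨p, L, rfl⟩ := List.exists_of_length_succ L hlen
    have hL' := fun q hq => hL q (List.mem_cons_of_mem _ hq)
    have hlen' : L.length = n := by simpa using hlen
    rcases hL p List.mem_cons_self with hp | ⟨x, hx0, hx⟩
    · exact ih L hlen' hL' f fun t u => by simpa [hp] using hf t u
    let g : ℕ → (F →+ A) → (F →+ A) := fun k ψ =>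
      ψ.comp (AddMonoidHom.mulLeft (x ^ k / x ^ p.1 - 1))
    have hg : ∀ (k : ℕ) (ψ : F →+ A) (t u : F),
        g k ψ (t ^ k * u) = ψ ((x * t) ^ k * (u / x ^ p.1)) - ψ (t ^ k * u) := fun k ψ t u => by
      rw [← map_sub]
      show ψ ((x ^ k / x ^ p.1 - 1) * (t ^ k * u)) = _
      congr 1
      rw [mul_pow]
      ring
    have key : g i f = 0 := by
      refine ih (L.map fun q => (q.1, g q.1 q.2)) (by simpa using hlen') (fun q hq => ?_) _
        fun t u => ?_
      · obtain ⟨q', hq', rfl⟩ := List.mem_map.1 hq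
        exact (hL' q' hq').imp (fun e => by simp [g, e]) id
      · have e1 := hf (x * t) (u / x ^ p.1)
        have e2 := hf t u
        have hp' : p.2 ((x * t) ^ p.1 * (u / x ^ p.1)) = p.2 (t ^ p.1 * u) := by
          congr 1
          field_simp [pow_ne_zero _ hx0]
          ring
        have hsum : ((L.map fun q => (q.1, g q.1 q.2)).map fun q => q.2 (t ^ q.1 * u)).sum =
            (L.map fun q => q.2 ((x * t) ^ q.1 * (u / x ^ p.1))).sum -
              (L.map fun q => q.2 (t ^ q.1 * u)).sum := by
          clear ih hL hL' hlen hlen' hf e1 e2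
          induction L with
          | nil => simp
          | cons a L ihL => simp only [List.map_cons, List.sum_cons, ihL, hg]; abel
        rw [List.map_cons, List.sum_cons] at e1 e2
        rw [hsum, hg]
        rw [hp'] at e1
        calc _ = (f ((x * t) ^ i * (u / x ^ p.1)) + (p.2 (t ^ p.1 * u) +
                (L.map fun q => q.2 ((x * t) ^ q.1 * (u / x ^ p.1))).sum)) -
              (f (t ^ i * u) + (p.2 (t ^ p.1 * u) + (L.map fun q => q.2 (t ^ q.1 * u)).sum)) := by
                abel
          _ = 0 := by rw [e1, e2, sub_zero]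
    ext z
    have hne : x ^ i / x ^ p.1 - 1 ≠ 0 := by
      rw [sub_ne_zero]
      exact fun e => hx ((div_eq_one_iff_eq (pow_ne_zero _ hx0)).1 e)
    have h0 := DFunLike.congr_fun key (z / (x ^ i / x ^ p.1 - 1))
    simpa [g, mul_div_cancel₀ _ hne] using h0

end Elim

namespace Cert

variable {D : ChevalleyDatum} {T : Tab} {C : Tab.Cover} (h : Cert D T C) {F : Type*} [Field F]
include h

/-- The image of a root element in the abelianization of `U`. -/
noncomputable def phi (r : ℕ) : F →+ Additive (Abelianization ↥(D.posUnipotent F)) := by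
  classical
  exact if hr : r ∈ posSet T then
    { toFun := fun z => Additive.ofMul (Abelianization.of
        (⟨X D r z, by rw [h.posUnipotent_eq]; exact X_mem_gen D hr z⟩ : ↥(D.posUnipotent F)))
      map_zero' := by
        rw [ofMul_eq_zero, ← map_one (Abelianization.of (G := ↥(D.posUnipotent F)))]
        exact congrArg _ (Subtype.ext (h.X_zero hr.2))
      map_add' := fun z w => by
        rw [← ofMul_mul, ← map_mul]
        exact congrArg _ (congrArg _ (Subtype.ext (h.X_add hr.2 z w).symm)) }
  else 0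

lemma phi_eq {r : ℕ} (hr : r ∈ posSet T) (z : F) (hz : X D r z ∈ D.posUnipotent F) :
    h.phi r z = Additive.ofMul (Abelianization.of ⟨X D r z, hz⟩) := by
  simp [phi, hr]

/-- The abelianized commutator formula. -/
lemma phi_comm {a b : ℕ} (ha : a ∈ posSet T) (hb : b ∈ posSet T) (hne : b ≠ a) (t u : F) :
    ((T.commTerms a b).map fun q =>
      h.phi (F := F) q.1 ((q.2.1 : F) * (t ^ q.2.2.1 * u ^ q.2.2.2))).sum = 0 := by
  have hmem : ∀ r ∈ posSet T, ∀ z : F, X D r z ∈ D.posUnipotent F := fun r hr z => by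
    rw [h.posUnipotent_eq]; exact X_mem_gen D hr z
  have hq : ∀ q ∈ T.commTerms a b, q.1 ∈ posSet T := fun q hq =>
    h.commClosed_posSet a ha b hb hne q hq
  have e := h.X_conj ha.2 hb.2 hne (h.posSet_neg_ne ha hb) (-t) u
  rw [_root_.neg_neg] at e
  have e' : (⟨X D a t, hmem a ha t⟩ * ⟨X D b u, hmem b hb u⟩ * ⟨X D a (-t), hmem a ha _⟩ :
      ↥(D.posUnipotent F)) = ⟨X D b u, hmem b hb u⟩ *
        ((T.commTerms a b).attach.map fun q => (⟨X D q.1.1
          ((q.1.2.1 : F) * t ^ q.1.2.2.1 * u ^ q.1.2.2.2), hmem _ (hq q.1 q.2) _⟩ :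
            ↥(D.posUnipotent F))).prod := by
    refine Subtype.ext ?_
    rw [Subgroup.coe_mul, Subgroup.coe_mul, Subgroup.coe_mul, Subgroup.val_list_prod, List.map_map]
    refine e.trans (congrArg (fun L : List (GL D.Idx F) => X D b u * L.prod) ?_)
    exact (List.attach_map_val (l := T.commTerms a b) (f := fun q =>
      X D q.1 ((q.2.1 : F) * t ^ q.2.2.1 * u ^ q.2.2.2))).symm
  have e2 := congrArg (fun g => Additive.ofMul (Abelianization.of g)) e'
  simp only [map_mul, ofMul_mul, map_list_prod, ofMul_list_prod, List.map_map] at e2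
  rw [← h.phi_eq ha, ← h.phi_eq hb, ← h.phi_eq ha, map_neg] at e2
  have e3 : ((T.commTerms a b).attach.map fun q =>
      h.phi (F := F) q.1.1 ((q.1.2.1 : F) * (t ^ q.1.2.2.1 * u ^ q.1.2.2.2))).sum = 0 := by
    rw [add_neg_cancel_comm] at e2
    refine Eq.trans (congrArg List.sum (List.map_congr_left fun q _ => ?_))
      (left_eq_add.1 e2)
    rw [h.phi_eq (hq q.1 q.2) _ (hmem _ (hq q.1 q.2) _)]
    simp only [Function.comp_apply, mul_assoc]
  rwa [List.attach_map_val (f := fun q : ℕ × ℤ × ℕ × ℕ =>
      h.phi (F := F) q.1 ((q.2.1 : F) * (t ^ q.2.2.1 * u ^ q.2.2.2)))] at e3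

/-- The non-simple roots vanish in the abelianization. -/
theorem phi_eq_zero {multi : Bool} {x : F} (hx0 : x ≠ 0)
    (hx : multi = true → x ≠ 1 ∧ x ^ 2 ≠ 1) :
    ∀ (L : List (ℕ × ℕ × ℕ)) (K : List ℕ), T.chkKill multi L K = true →
      (∀ k ∈ K, h.phi (F := F) k = 0) →
      ∀ r ∈ posSet T, (∀ i < T.l, T.simple i ≠ r) → h.phi (F := F) r = 0 := by
  intro L
  induction L with
  | nil =>
    intro K hchk hK r hr hns
    simp only [Tab.chkKill, Bool.or_eq_true, List.all_eq_true, List.any_eq_true, List.mem_range,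
      decide_eq_true_eq] at hchk
    rcases hchk r hr.2 with h1 | h1 | ⟨i, hi, e⟩
    · exact absurd hr.1 (not_le.2 h1)
    · exact hK r h1
    · exact absurd e (hns i hi)
  | cons p L ih =>
    obtain ⟨r, a, b⟩ := p
    intro K hchk hK
    simp only [Tab.chkKill, Tab.chkReach, Bool.and_eq_true, List.any_eq_true, List.all_eq_true,
      Bool.or_eq_true, decide_eq_true_eq] at hchk
    obtain ⟨⟨⟨ha1, ha2, hb1, hb2, hab⟩, q, hq, ⟨hqr, hqc, hqj⟩, hoth⟩, hrest⟩ := hchk
    refine ih (r :: K) hrest fun k hk => ?_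
    rcases List.mem_cons.1 hk with rfl | hk
    swap
    · exact hK k hk
    classical
    set others := (T.commTerms a b).erase q
    have hc : (q.2.1 : F) ≠ 0 := by
      rcases Int.natAbs_eq_iff.1 hqc with e | e <;> simp [e]
    let f : F →+ Additive (Abelianization ↥(D.posUnipotent F)) :=
      (h.phi (F := F) q.1).comp (AddMonoidHom.mulLeft (q.2.1 : F))
    have key : f = 0 := by
      refine additive_elim (i := q.2.2.1) _
        (others.map fun q' => (q'.2.2.1, if q'.1 ∈ K then 0 else (h.phi (F := F) q'.1).comp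
          (AddMonoidHom.mulLeft ((q'.2.1 : F))))) rfl (fun p hp => ?_) f fun t u => ?_
      · obtain ⟨q', hq', rfl⟩ := List.mem_map.1 hp
        by_cases h3 : q'.1 ∈ K
        · exact Or.inl (if_pos h3)
        · obtain ⟨hm, -, h4, h5, h6⟩ := (hoth q' hq').resolve_left h3
          obtain ⟨hx1, hx2⟩ := hx hm
          refine Or.inr ⟨x, hx0, fun e => ?_⟩
          have pw : ∀ d, d = 1 ∨ d = 2 → x ^ d ≠ 1 := fun d hd => by
            rcases hd with rfl | rfl
            · simpa using hx1
            · exact hx2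
          rcases lt_or_gt_of_ne h4 with hlt | hlt
          · obtain ⟨d, hd⟩ := Nat.exists_eq_add_of_le hlt.le
            rw [hd, pow_add, mul_eq_left₀ (pow_ne_zero _ hx0)] at e
            exact pw d (by omega) e
          · obtain ⟨d, hd⟩ := Nat.exists_eq_add_of_le hlt.le
            dsimp only at e
            rw [hd, pow_add, eq_comm, mul_eq_left₀ (pow_ne_zero _ hx0)] at e
            exact pw d (by omega) e
      · have e := h.phi_comm (F := F) ⟨ha1, ha2⟩ ⟨hb1, hb2⟩ (Ne.symm hab) t u
        rw [((List.perm_cons_erase hq).map _).sum_eq, List.map_cons, List.sum_cons] at e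
        refine Eq.trans ?_ e
        rw [List.map_map]
        congr 1
        · simp [f, hqj]
        · refine congrArg List.sum (List.map_congr_left fun q' hq' => ?_)
          by_cases h3 : q'.1 ∈ K
          · simp [h3, hK _ h3]
          · obtain ⟨-, h4, -⟩ := (hoth q' hq').resolve_left h3
            simp [h3, h4]
    ext z
    have h0 := DFunLike.congr_fun key (z / (q.2.1 : F))
    simp only [f, AddMonoidHom.comp_apply, AddMonoidHom.coe_mulLeft, mul_div_cancel₀ _ hc, hqr] at h0
    exact h0

variable [Fintype F]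

omit h in
/-- A closed set of scalars under addition and squares is everything. -/
lemma eq_top_of_sq_mul {A : AddSubgroup F} {a : F} (ha : a ∈ A) (ha0 : a ≠ 0)
    (hsq : ∀ c : F, c ≠ 0 → ∀ z ∈ A, c ^ 2 * z ∈ A) : A = ⊤ := by
  rw [eq_top_iff]
  intro y _
  have hsq' : ∀ c : F, c ^ 2 * a ∈ A := fun c => by
    rcases eq_or_ne c 0 with rfl | hc
    · simp
    · exact hsq c hc a ha
  obtain ⟨z, rfl⟩ : ∃ z, y = z * a := ⟨y / a, by field_simp⟩
  by_cases h2 : (2 : F) = 0
  · obtain ⟨c, hc⟩ := FiniteField.isSquare_of_char_two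
      (CharP.ringChar_of_prime_eq_zero Nat.prime_two (by exact_mod_cast h2)) z
    rw [hc, ← sq]
    exact hsq' c
  · have h4 : (4 : F) ≠ 0 := by
      rw [show (4 : F) = 2 * 2 by norm_num]
      exact mul_ne_zero h2 h2
    have e : z * a = ((z + 1) / 2) ^ 2 * a - ((z - 1) / 2) ^ 2 * a := by
      field_simp
      ring
    rw [e]
    exact sub_mem (hsq' _) (hsq' _)

/-- Weakly closed subgroups of `U` are radicals of parabolic subgroups. -/
theorem weaklyClosed_eq_radical {multi : Bool} {L : List (ℕ × ℕ × ℕ)}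
    (hkill : T.chkKill multi L [] = true) (hsep : T.chkWCSep multi = true)
    (h3 : 3 ≤ Fintype.card F) (h4 : multi = true → 4 ≤ Fintype.card F)
    (hp : ∃ p, p.Prime ∧ IsPGroup p ↥(D.posUnipotent F))
    {X : Subgroup (GL D.Idx F)} (hXU : X ≤ D.posUnipotent F)
    (hwc : ∀ g ∈ D.group F, X.map (MulAut.conj g).toMonoidHom ≤ D.posUnipotent F →
      X.map (MulAut.conj g).toMonoidHom = X) :
    X = D.unipotentRadical F {i | i < T.l ∧
      nS D F i ∈ Subgroup.normalizer (X : Set (GL D.Idx F))} := by
  classical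
  set J := {i | i < T.l ∧ nS D F i ∈ Subgroup.normalizer (X : Set (GL D.Idx F))}
  set U := D.posUnipotent F
  set Γ := Additive (Abelianization ↥U)
  obtain ⟨ω, hω⟩ := IsCyclic.exists_generator (α := Fˣ)
  have hord : orderOf ω = Fintype.card F - 1 := by
    rw [orderOf_eq_card_of_forall_mem_zpowers hω, Nat.card_eq_fintype_card, Fintype.card_units]
  have hω1 : (ω : F) ≠ 1 := fun e => by
    have : ω = 1 := Units.ext e
    rw [this, orderOf_one] at hord
    omega
  have hω2 : multi = true → (ω : F) ^ 2 ≠ 1 := fun hm e => by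
    have : orderOf ω ∣ 2 := orderOf_dvd_of_pow_eq_one (Units.ext (by simpa using e))
    have := Nat.le_of_dvd two_pos this
    have := h4 hm
    omega
  have hphi : ∀ r ∈ posSet T, (∀ i < T.l, T.simple i ≠ r) → h.phi (F := F) r = 0 :=
    h.phi_eq_zero ω.ne_zero (fun hm => ⟨hω1, hω2 hm⟩) L [] hkill (by simp)
  have hnorm : ∀ g ∈ D.group F,
      (∀ x ∈ X, g * x * g⁻¹ ∈ U) → g ∈ Subgroup.normalizer (X : Set (GL D.Idx F)) := by
    intro g hg hle
    have e := hwc g hg (by rintro _ ⟨x, hx, rfl⟩; exact hle x hx)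
    refine Subgroup.mem_normalizer_iff.2 fun x => ⟨fun hx => ?_, fun hx => ?_⟩
    · rw [← e]; exact ⟨x, hx, rfl⟩
    · rw [← e] at hx
      obtain ⟨y, hy, hyx⟩ := hx
      have : y = x := (MulAut.conj g).injective hyx
      exact this ▸ hy
  have hUX : U ≤ Subgroup.normalizer (X : Set (GL D.Idx F)) := fun u hu =>
    hnorm u (h.posUnipotent_le_group hu) fun x hx => mul_mem (mul_mem hu (hXU hx)) (inv_mem hu)
  have hTX : D.diagonalSubgroup F ≤ Subgroup.normalizer (X : Set (GL D.Idx F)) := fun t ht =>
    hnorm t (h.diagonal_le_group ht) fun x hx =>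
      (Subgroup.mem_normalizer_iff.1 (h.diagonal_le_normalizer_posUnipotent ht) x).1 (hXU hx)
  -- X is in the radical
  have hle : X ≤ gen D F (radSet D T J) := fun x hx => by
    refine h.mem_radical_of_conj (hXU hx) fun w hw hwJ => hXU ?_
    refine (Subgroup.mem_normalizer_iff.1 ?_ x).1 hx
    rw [nW]
    refine Subgroup.list_prod_mem _ fun g hg => ?_
    obtain ⟨i, hi, rfl⟩ := List.mem_map.1 hg
    exact (hwJ i hi).2
  -- coordinates in the abelianization
  have hinj : ∀ {i j : ℕ}, i < T.l → j < T.l → T.simple i = T.simple j → i = j := by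
    intro i j hi hj e
    have h1 := (h.simple_spec hi).2.2.2 i hi
    rw [e, (h.simple_spec hj).2.2.2 i hi] at h1
    by_contra hne
    rw [if_neg (Ne.symm hne), if_pos rfl] at h1
    exact zero_ne_one h1
  have hcoord : ∀ u : ↥U, ∃ c : ℕ → F, (u : GL D.Idx F) = prodX D (posList T) c ∧
      Additive.ofMul (Abelianization.of u) =
        ∑ i ∈ Finset.range T.l, h.phi (T.simple i) (c (T.simple i)) := by
    rintro ⟨u, hu⟩
    obtain ⟨c, rfl⟩ := h.mem_posUnipotent_iff.1 hu
    refine ⟨c, rfl, ?_⟩
    have hmem : ∀ r ∈ posList T, CfsgLib.Chev.X D r (c r) ∈ U := fun r hr => by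
      show CfsgLib.Chev.X D r (c r) ∈ D.posUnipotent F
      rw [h.posUnipotent_eq]; exact X_mem_gen D (mem_posList.1 hr) _
    have e : (⟨prodX D (posList T) c, hu⟩ : ↥U) =
        ((posList T).attach.map fun r => (⟨CfsgLib.Chev.X D r.1 (c r.1), hmem r.1 r.2⟩ : ↥U)).prod := by
      refine Subtype.ext ?_
      rw [Subgroup.val_list_prod, List.map_map]
      exact congrArg List.prod (List.attach_map_val (l := posList T) (f := fun r => CfsgLib.Chev.X D r (c r))).symm
    rw [e, map_list_prod, ofMul_list_prod, List.map_map, List.map_map]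
    refine Eq.trans (congrArg List.sum (List.map_congr_left
      (g := fun r : {x // x ∈ posList T} => h.phi (F := F) r.1 (c r.1))
      fun r _ => by
        simp only [Function.comp_apply]
        exact (h.phi_eq (mem_posList.1 r.2) _ (hmem r.1 r.2)).symm)) ?_
    rw [List.attach_map_val (f := fun r => h.phi (F := F) r (c r)),
      ← List.sum_toFinset _ sortedLT_posList.nodup,
      ← Finset.sum_image (s := Finset.range T.l) (g := T.simple) (f := fun r => h.phi r (c r))
        fun i hi j hj e => hinj (Finset.mem_range.1 hi) (Finset.mem_range.1 hj) e]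
    refine (Finset.sum_subset ?_ fun r hr hr' => ?_).symm
    · intro r hr
      obtain ⟨i, hi, rfl⟩ := Finset.mem_image.1 hr
      exact List.mem_toFinset.2 (mem_posList.2
        ⟨(h.simple_spec (Finset.mem_range.1 hi)).1, h.simple_lt (Finset.mem_range.1 hi)⟩)
    · rw [hphi r (mem_posList.1 (List.mem_toFinset.1 hr)) fun i hi e => hr'
        (Finset.mem_image.2 ⟨i, Finset.mem_range.2 hi, e⟩)]
      rfl
  let W : AddSubgroup Γ := Subgroup.toAddSubgroup ((X.subgroupOf U).map Abelianization.of)
  have hW : ∀ {g : ↥U}, (g : GL D.Idx F) ∈ X → Additive.ofMul (Abelianization.of g) ∈ W :=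
    fun {g} hg => ⟨g, hg, rfl⟩
  -- the action of the diagonal subgroup
  have hscale : ∀ (c : ℕ → F), (∀ i < T.l, c i ≠ 0) → ∀ a : ℕ → F,
      (∑ i ∈ Finset.range T.l, h.phi (T.simple i) (a i)) ∈ W →
      (∑ i ∈ Finset.range T.l, h.phi (T.simple i) (charOf T c (T.simple i) * a i)) ∈ W := by
    intro c hc a hm
    obtain ⟨t, ht, et⟩ : ∃ t ∈ D.diagonalSubgroup F,
        (t : Matrix D.Idx D.Idx F) = torus D (charOf T c) := by
      refine ⟨torusHom (D := D) (T := T) fun i => Units.mk0 (c i) (hc i i.2), ?_, ?_⟩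
      · rw [← h.range_torusHom]; exact ⟨_, rfl⟩
      · refine torus_congr D fun s _ => Finset.prod_congr rfl fun i hi => ?_
        simp [extC, Finset.mem_range.1 hi]
    have hconj : ∀ u : ↥U, t * u * t⁻¹ ∈ U := fun u =>
      (Subgroup.mem_normalizer_iff.1 (h.diagonal_le_normalizer_posUnipotent ht) u).1 u.2
    let f : ↥U →* ↥U := ((MulAut.conj t).toMonoidHom.comp U.subtype).codRestrict U hconj
    let g : Γ →+ Γ := MonoidHom.toAdditive (Abelianization.map f)
    have hg : ∀ r ∈ posSet T, ∀ z : F, g (h.phi r z) = h.phi r (charOf T c r * z) := by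
      intro r hr z
      have hm' : ∀ z : F, CfsgLib.Chev.X D r z ∈ D.posUnipotent F := fun z => by
        rw [h.posUnipotent_eq]; exact X_mem_gen D hr z
      rw [h.phi_eq hr _ (hm' z), h.phi_eq hr _ (hm' _)]
      refine congrArg (fun u : ↥U => Additive.ofMul (Abelianization.of u)) (Subtype.ext ?_)
      show t * CfsgLib.Chev.X D r z * t⁻¹ = CfsgLib.Chev.X D r (charOf T c r * z)
      refine mul_inv_eq_of_eq_mul (Units.ext ?_)
      rw [Units.val_mul, Units.val_mul, h.coe_X, h.coe_X, et, h.torus_mul_x (h.isChar_charOf hc) hr.2]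
    have hgW : ∀ w ∈ W, g w ∈ W := by
      rintro w ⟨u, hu, e⟩
      refine ⟨f u, (Subgroup.mem_normalizer_iff.1 (hTX ht) (u : GL D.Idx F)).1 hu, ?_⟩
      show Abelianization.of (f u) = Abelianization.map f (Additive.toMul w)
      rw [← e]
      exact (Abelianization.map_of f u).symm
    have := hgW _ hm
    rw [map_sum] at this
    refine (congrArg (· ∈ W) (Finset.sum_congr rfl fun i hi => ?_)).mp this
    exact hg _ ⟨(h.simple_spec (Finset.mem_range.1 hi)).1, h.simple_lt (Finset.mem_range.1 hi)⟩ _
  -- simple roots outside J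
  have hfull : ∀ i < T.l, i ∉ J → ∀ z : F, h.phi (T.simple i) z ∈ W := by
    intro i hi hiJ
    obtain ⟨x, hx, c, ec, hne⟩ : ∃ (x : GL D.Idx F) (hx : x ∈ X) (c : ℕ → F),
        (Additive.ofMul (Abelianization.of (⟨x, hXU hx⟩ : ↥U)) =
          ∑ k ∈ Finset.range T.l, h.phi (T.simple k) (c (T.simple k))) ∧ c (T.simple i) ≠ 0 := by
      by_contra hno
      push Not at hno
      refine hiJ ⟨hi, hnorm _ (h.monomial_le_group (h.nS_mem_monomial hi)) fun x hx => ?_⟩
      obtain ⟨c, e1, e2⟩ := hcoord ⟨x, hXU hx⟩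
      have h0 := hno x hx c e2
      have hxb : x ∈ gen D F (posBut T i) := by
        dsimp only at e1
        rw [e1, h.prodX_filter (fun r => decide (r ≠ T.simple i)) (posList T) c
          (fun r hr => (mem_posList.1 hr).2) fun r _ hr => by
            simp only [decide_eq_false_iff_not, not_not] at hr
            rw [hr, h0]]
        refine gen_mono D (fun r hr => ?_) (prodX_mem_gen _ c)
        obtain ⟨h1, h2⟩ := List.mem_filter.1 hr
        exact ⟨mem_posList.1 h1, of_decide_eq_true h2⟩
      exact h.gen_pos_le (fun r hr => hr.1) (h.nS_conj_posBut hi hxb)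
    have hm := hW (g := ⟨x, hXU hx⟩) hx
    rw [ec] at hm
    have key : ∀ S : Finset ℕ, S ⊆ Finset.range T.l → i ∉ S → ∀ a : ℕ → F,
        (∀ k < T.l, k ≠ i → k ∉ S → a k = 0) → a i ≠ 0 →
        (∑ k ∈ Finset.range T.l, h.phi (T.simple k) (a k)) ∈ W →
        ∃ z ≠ (0 : F), h.phi (T.simple i) z ∈ W := by
      intro S
      induction S using Finset.induction_on with
      | empty =>
        intro _ _ a ha0 hai hm
        refine ⟨a i, hai, ?_⟩
        rwa [Finset.sum_eq_single i (fun k hk hne => by
          rw [ha0 k (Finset.mem_range.1 hk) hne (Finset.notMem_empty k), map_zero])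
          fun hn => absurd (Finset.mem_range.2 hi) hn] at hm
      | insert j S hj ih =>
        intro hsub hiS a ha0 hai hm
        obtain ⟨hij, hiS'⟩ : i ≠ j ∧ i ∉ S := by simpa [not_or] using hiS
        have hjl := Finset.mem_range.1 (hsub (Finset.mem_insert_self j S))
        have hsub' : S ⊆ Finset.range T.l := fun k hk => hsub (Finset.mem_insert_of_mem hk)
        simp only [Tab.chkWCSep, List.all_eq_true, List.any_eq_true, List.mem_range, Bool.or_eq_true,
          Bool.and_eq_true, decide_eq_true_eq] at hsep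
        obtain ⟨k, hk, m, hm', e₁, -, e₂, -, hj0, hd⟩ := (hsep i hi j hjl).resolve_left hij
        let ε : ℕ → ℤ := fun n => (if n = k then e₁ else 0) + if n = m then e₂ else 0
        let c' : ℕ → F := fun n => ((ω ^ ε n : Fˣ) : F)
        have hc' : ∀ n < T.l, c' n ≠ 0 := fun n _ => Units.ne_zero _
        have hchar : ∀ r, charOf T c' r = ((ω ^ (e₁ * T.car k r + e₂ * T.car m r) : Fˣ) : F) := by
          intro r
          have e : ∑ n ∈ Finset.range T.l, ε n * T.car n r = e₁ * T.car k r + e₂ * T.car m r := by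
            simp [ε, add_mul, Finset.sum_add_distrib, ite_mul, hk, hm']
          rw [charOf, ← e, show ((ω ^ (∑ n ∈ Finset.range T.l, ε n * T.car n r) : Fˣ) : F) =
            (ω : F) ^ (∑ n ∈ Finset.range T.l, ε n * T.car n r) from
              Units.val_zpow_eq_zpow_val ω _]
          induction Finset.range T.l using Finset.induction_on with
          | empty => simp
          | insert b B hb ihB =>
            rw [Finset.prod_insert hb, Finset.sum_insert hb, zpow_add₀ ω.ne_zero, ihB,
              _root_.zpow_mul]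
            simp [c']
        refine ih hsub' hiS' (fun n => (charOf T c' (T.simple n) - 1) * a n)
          (fun n hn hne hnS => ?_) (mul_ne_zero ?_ hai) ?_
        · by_cases hnj : n = j
          · simp [hnj, hchar, hj0]
          · simp [ha0 n hn hne (by simp [hnj, hnS])]
        · rw [hchar, sub_ne_zero]
          intro e
          have e' : ω ^ (e₁ * T.car k (T.simple i) + e₂ * T.car m (T.simple i)) = 1 :=
            Units.ext e
          have hdvd : orderOf ω ∣
              (e₁ * T.car k (T.simple i) + e₂ * T.car m (T.simple i)).natAbs :=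
            Int.natCast_dvd.1 (orderOf_dvd_iff_zpow_eq_one.2 e')
          rcases hd with hd | ⟨hmu, hd⟩
          · rw [hd] at hdvd
            have := Nat.le_of_dvd one_pos hdvd
            omega
          · rw [hd] at hdvd
            have := Nat.le_of_dvd two_pos hdvd
            have := h4 hmu
            omega
        · have := sub_mem (hscale c' hc' a hm) hm
          rw [← Finset.sum_sub_distrib] at this
          refine (congrArg (· ∈ W) (Finset.sum_congr rfl fun n _ => ?_)).mp this
          rw [← map_sub, sub_mul, one_mul]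
    obtain ⟨z, hz, hzW⟩ := key ((Finset.range T.l).erase i) (Finset.erase_subset _ _)
      (Finset.notMem_erase _ _) (fun k => c (T.simple k))
      (fun k hk hne hn => absurd (Finset.mem_erase.2 ⟨hne, Finset.mem_range.2 hk⟩) hn) hne hm
    have hA := eq_top_of_sq_mul (A := W.comap (h.phi (T.simple i))) hzW hz fun d hd y hy => by
      have := hscale (fun n => if n = i then d else 1) (fun n _ => by split <;> simp [hd])
        (fun n => if n = i then y else 0) (by
          rw [Finset.sum_eq_single i (fun k _ hne => by simp [hne])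
            (fun hn => absurd (Finset.mem_range.2 hi) hn), if_pos rfl]
          exact hy)
      rw [Finset.sum_eq_single i (fun k _ hne => by simp [hne])
        (fun hn => absurd (Finset.mem_range.2 hi) hn), if_pos rfl, charOf,
        Finset.prod_eq_single i (fun k _ hne => by simp [hne])
        (fun hn => absurd (Finset.mem_range.2 hi) hn), if_pos rfl, (h.simple_spec hi).2.2.1] at this
      simpa [zpow_two, sq] using this
    intro z
    have : z ∈ W.comap (h.phi (T.simple i)) := hA ▸ AddSubgroup.mem_top z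
    exact this
  -- X and the positive Levi roots generate U
  set Q := gen D F (posSet T ∩ {r | D.InRootSub J r})
  have hQU : Q ≤ U := h.gen_pos_le fun r hr => hr.1
  set H := X.subgroupOf U ⊔ Q.subgroupOf U
  have htop : H.map (Abelianization.of) = ⊤ := by
    rw [eq_top_iff]
    intro y _
    obtain ⟨u, rfl⟩ := QuotientGroup.mk_surjective y
    obtain ⟨c, -, e⟩ := hcoord u
    have : Additive.ofMul (Abelianization.of u) ∈
        Subgroup.toAddSubgroup (H.map (Abelianization.of (G := ↥U))) := by
      rw [e]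
      refine sum_mem fun i hi => ?_
      have hi' := Finset.mem_range.1 hi
      by_cases hiJ : i ∈ J
      · have hmem : CfsgLib.Chev.X D (T.simple i) (c (T.simple i)) ∈ Q :=
          X_mem_gen D (show T.simple i ∈ posSet T ∩ {r | D.InRootSub J r} from
            ⟨⟨(h.simple_spec hi').1, h.simple_lt hi'⟩, h.inRootSub_simple hi' hiJ⟩) _
        rw [h.phi_eq ⟨(h.simple_spec hi').1, h.simple_lt hi'⟩ _ (hQU hmem)]
        exact ⟨⟨_, hQU hmem⟩, Subgroup.mem_sup_right hmem, rfl⟩
      · exact (Subgroup.map_mono (f := Abelianization.of (G := ↥U))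
          (le_sup_left : X.subgroupOf U ≤ H)) (hfull i hi' hiJ (c (T.simple i)))
    exact this
  have hHtop : H = ⊤ := by
    obtain ⟨p, hp, hU⟩ := hp
    have := Fact.mk hp
    have : Finite ↥U := inferInstance
    have := hU.isNilpotent
    rcases IsCoatomic.eq_top_or_exists_le_coatom H with e | ⟨M, hM, hHM⟩
    · exact e
    exfalso
    have hMn : M.Normal := Subgroup.NormalizerCondition.normal_of_coatom M
      Group.normalizerCondition_of_isNilpotent hM
    obtain ⟨g, hg⟩ : ∃ g, g ∉ M := not_forall.1 fun hall => hM.1 (eq_top_iff.2 fun g _ => hall g)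
    have hgen : M ⊔ Subgroup.zpowers g = ⊤ := hM.2 _ (lt_of_le_not_ge le_sup_left fun hle' =>
      hg (hle' (Subgroup.mem_sup_right (Subgroup.mem_zpowers g))))
    have hcomm : commutator ↥U ≤ M := by
      have : IsCyclic (↥U ⧸ M) := by
        refine ⟨⟨QuotientGroup.mk g, fun y => ?_⟩⟩
        obtain ⟨u, rfl⟩ := QuotientGroup.mk_surjective y
        have hu : u ∈ M ⊔ Subgroup.zpowers g := hgen ▸ Subgroup.mem_top u
        rw [← SetLike.mem_coe, Subgroup.normal_mul] at hu
        obtain ⟨m, hm, z, ⟨k, rfl⟩, rfl⟩ := hu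
        refine ⟨k, ?_⟩
        show (QuotientGroup.mk g : ↥U ⧸ M) ^ k = _
        rw [QuotientGroup.mk_mul, (QuotientGroup.eq_one_iff m).2 hm, one_mul,
          QuotientGroup.mk_zpow]
      have hc : IsMulCommutative (↥U ⧸ M) := IsCyclic.isMulCommutative
      exact Subgroup.Normal.quotient_commutative_iff_commutator_le.1 hc
    refine hM.1 (eq_top_iff.2 fun u _ => ?_)
    have : Abelianization.of u ∈ H.map (Abelianization.of) := htop ▸ Subgroup.mem_top _
    obtain ⟨v, hv, e⟩ := this
    have h1 : v⁻¹ * u ∈ commutator ↥U := by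
      rw [← Abelianization.ker_of, MonoidHom.mem_ker, map_mul, map_inv, e, inv_mul_cancel]
    simpa using mul_mem (hHM hv) (hcomm h1)
  refine le_antisymm ?_ ?_
  · rw [h.unipotentRadical_eq]; exact hle
  · intro z hz
    have hzU : z ∈ U := h.gen_pos_le (fun r hr => hr.1) (h.unipotentRadical_eq (F := F) J ▸ hz)
    have hz' : (⟨z, hzU⟩ : ↥U) ∈ H := hHtop ▸ Subgroup.mem_top _
    have : (X.subgroupOf U).Normal := Subgroup.normal_subgroupOf_of_le_normalizer hUX
    rw [← SetLike.mem_coe, Subgroup.normal_mul] at hz'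
    obtain ⟨x, hx, y, hy, e⟩ := hz'
    have e' : (x : GL D.Idx F) * y = z := congrArg Subtype.val e
    have hy1 : (y : GL D.Idx F) ∈ D.unipotentRadical F J ⊓ D.leviSubgroup F J := by
      refine ⟨?_, ?_⟩
      · have hxr : (x : GL D.Idx F) ∈ D.unipotentRadical F J := by
          rw [h.unipotentRadical_eq]; exact hle hx
        have := mul_mem (inv_mem hxr) hz
        rwa [← e', inv_mul_cancel_left] at this
      · rw [h.leviSubgroup_eq]
        exact Subgroup.mem_sup_right (gen_mono D (fun r hr => hr.2) hy)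
    rw [h.radical_inf_levi, Subgroup.mem_bot] at hy1
    rw [← e', hy1, mul_one]
    exact hx

end Cert

end CfsgLib.Chev
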