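import Cfsg.Agent.Lib.Chev.WeightModules
import Mathlib.FieldTheory.IsAlgClosed.AlgebraicClosure
import Mathlib.GroupTheory.FiniteAbelian.Duality

/-!
When the torus is simply connected every weight occurs in the regular module, so the simple
modules in the defining characteristic, and with them the classes of elements of order prime to
the characteristic, are counted by the weights.
-/

set_option autoImplicit false
set_option linter.unusedSectionVars false

namespace CfsgLib.Chev

open Cfsg.Lie Matrix CfsgLib.BN CfsgLib.Coxeter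

variable {D : ChevalleyDatum} {T : Tab} {C : Tab.Cover} {F : Type*} [Field F] [Fintype F]

namespace Cert

variable (h : Cert D T C)
include h

variable {k : Type*} [Field k] (hq : (Fintype.card F : k) = 0)
  (hinj : Function.Injective (torusHom (D := D) (T := T) (F := F)))

include hq hinj in
set_option maxHeartbeats 1000000 in
open Classical in
/-- Every weight occurs in the regular module. -/
theorem exists_hasWeight [Fintype ↥(D.group F)] (w : Fin T.l → Option (Fˣ →* kˣ)) :
    ∃ v : ↥(D.group F) → k, v ≠ 0 ∧ HasWeight (T := T) (DefectMod.lreg k) v w := by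
  classical
  obtain ⟨P, hB, hN, hS⟩ := h.exists_bnPair (F := F)
  obtain ⟨n₀, hmono, hPU, -, -, -⟩ := h.exists_swap (F := F)
  set ρ := DefectMod.lreg k (G := ↥(D.group F)) with hρ
  have hρapp : ∀ g (f : ↥(D.group F) → k) x, ρ g f x = f (g⁻¹ * x) := fun _ _ _ => rfl
  set ψ : Fin T.l → (Fˣ →* kˣ) := fun i => (w i).getD 1 with hψdef
  have h0G := h.monomial_le_group hmono
  set N₀ : ↥(D.group F) := gEl D n₀ with hN₀def
  have hN0c : (N₀ : GL D.Idx F) = n₀ := coe_gEl h0G
  have hN₀N : N₀ ∈ P.N := by rw [hN, Subgroup.mem_subgroupOf, hN0c]; exact hmono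
  set w₀ : CfsgLib.BN.Weyl P := QuotientGroup.mk (⟨N₀, hN₀N⟩ : P.N) with hw₀
  have hN₀cell : N₀ ∈ cell P w₀ := mk_mem_cell ⟨N₀, hN₀N⟩
  -- indices
  have hexidx : ∀ s : P.S, ∃ i : Fin T.l, ((s : ↥(D.group F)) : GL D.Idx F) = nS D F i := fun s => by
    have h1 := s.2
    simp only [hS] at h1
    obtain ⟨i, hi, e⟩ := h1
    exact ⟨⟨i, hi⟩, e⟩
  choose idx hval using hexidx
  have hidxinj : Function.Injective idx := fun s s' e => Subtype.ext (Subtype.ext (by
    rw [hval, hval, e]))
  have hidxsurj : ∀ i : Fin T.l, ∃ s : P.S, idx s = i := fun i => by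
    have hkS : gEl D (nS D F i) ∈ P.S := by
      rw [hS]; exact ⟨i, i.2, coe_gEl (h.nS_mem_group i.2)⟩
    refine ⟨⟨_, hkS⟩, Fin.ext (h.nS_inj (F := F) (idx _).2 i.2 ?_)⟩
    rw [← hval, coe_gEl (h.nS_mem_group i.2), inv_mul_cancel]
    exact one_mem _
  have hcoe : ∀ L : List P.S, ((rep P L : ↥(D.group F)) : GL D.Idx F) =
      nW D F (L.map fun s => (idx s : ℕ)) := by
    intro L
    induction L with
    | nil => simp [rep, nW]
    | cons s L ih =>
      rw [List.map_cons, nW_cons, ← ih, ← hval s]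
      simp [rep]
  have hwok : ∀ L : List P.S, WordOK T (L.map fun s => (idx s : ℕ)) := fun L i hi => by
    obtain ⟨s, -, rfl⟩ := List.mem_map.1 hi
    exact (idx s).2
  have hrepN : ∀ L : List P.S, ((rep P L : ↥(D.group F)) : GL D.Idx F) ∈ D.monomialSubgroup F :=
    fun L => hcoe L ▸ h.nW_mem_monomial (hwok L)
  have hsG : ∀ s : P.S, gEl D (nS D F (idx s)) = (s : ↥(D.group F)) := fun s => by
    rw [← hval, gEl_coe]
  -- the character of the torus
  let θ : ↥(D.group F) → kˣ := fun g => torChar D T ψ (g : GL D.Idx F)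
  have hθmul : ∀ a ∈ Tor D F, ∀ b ∈ Tor D F, θ (a * b) = θ a * θ b := fun a ha b hb =>
    h.torChar_mul hinj ψ (Subgroup.mem_subgroupOf.1 ha) (Subgroup.mem_subgroupOf.1 hb)
  have hθh : ∀ (i : Fin T.l) (u : Fˣ), θ (hEl D T i (u : F)) = ψ i u := fun i u => by
    show torChar D T ψ _ = _
    rw [hEl, coe_gEl (h.diagonal_le_group (h.hU_mem (h.simple_lt i.2) u.ne_zero)),
      h.torChar_hU hinj]
  -- the nodes where the operator kills the vector
  let K : Set P.S := {s | w (idx s) ≠ none ∧ ψ (idx s) = 1}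
  have hmconj : ∀ {m t : ↥(D.group F)}, (m : GL D.Idx F) ∈ D.monomialSubgroup F → t ∈ Tor D F →
      m * t * m⁻¹ ∈ Tor D F := fun {m t} hm ht => by
    have h1 := h.conj_tor_mem (m := m⁻¹) (by rw [Subgroup.coe_inv]; exact inv_mem hm) ht
    rwa [inv_inv] at h1
  have hθs : ∀ s ∈ K, ∀ t ∈ Tor D F, θ ((s : ↥(D.group F))⁻¹ * t * s) = θ t := by
    intro s hs t ht
    have h2 := h.conj_tor_mem (m := (s : ↥(D.group F)))
      (by rw [hval]; exact h.nS_mem_monomial (idx s).2) ht
    have h1 := h.torChar_conj hinj ψ (j := idx s) hs.2 (Subgroup.mem_subgroupOf.1 h2)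
    simp only [Subgroup.coe_mul, Subgroup.coe_inv, hval] at h1
    show torChar D T ψ _ = torChar D T ψ _
    simp only [Subgroup.coe_mul, Subgroup.coe_inv, hval]
    refine h1.symm.trans ?_
    congr 1
    group
  have hθL : ∀ L : List P.S, (∀ s ∈ L, s ∈ K) → ∀ t ∈ Tor D F,
      θ ((rep P L)⁻¹ * t * rep P L) = θ t := by
    intro L
    induction L with
    | nil => intro _ t _; simp [rep]
    | cons s L ih =>
      intro hL t ht
      have e : (rep P (s :: L))⁻¹ * t * rep P (s :: L) =
          (rep P L)⁻¹ * ((s : ↥(D.group F))⁻¹ * t * s) * rep P L := by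
        simp [rep]; group
      rw [e, ih (fun a ha => hL a (List.mem_cons_of_mem _ ha)) _
        (h.conj_tor_mem (by rw [hval]; exact h.nS_mem_monomial (idx s).2) ht),
        hθs s (hL s List.mem_cons_self) t ht]
  -- words with the same product differ by an element where the weight is trivial
  have hθeq : ∀ L L' : List P.S, (∀ s ∈ L, s ∈ K) → (∀ s ∈ L', s ∈ K) →
      wprod (CfsgLib.BN.gen P) L = wprod (CfsgLib.BN.gen P) L' →
      ∃ t ∈ Tor D F, θ t = 1 ∧ rep P L = rep P L' * t := by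
    intro L L' hL hL' he
    have key : ∀ M : List P.S, (∀ s ∈ M, s ∈ K) →
        wprod (CfsgLib.BN.gen P) M = wprod (CfsgLib.BN.gen P) L' →
        rep P (L'.reverse ++ M) ∈ Tor D F ∧ θ (rep P (L'.reverse ++ M)) = 1 := by
      intro M hM heM
      have hd : ((rep P (L'.reverse ++ M) : ↥(D.group F)) : GL D.Idx F) ∈ D.diagonalSubgroup F := by
        have h1 := rep_mem_cell (P := P) (L'.reverse ++ M)
        rw [wprod_append, gens.wprod_reverse, heM, inv_mul_cancel, mem_cell_one, hB,
          Subgroup.mem_subgroupOf] at h1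
        rw [← h.borel_inf_monomial]
        exact Subgroup.mem_inf.2 ⟨h1, hrepN _⟩
      refine ⟨Subgroup.mem_subgroupOf.2 hd, ?_⟩
      show torChar D T ψ _ = 1
      rw [hcoe] at hd ⊢
      refine h.torChar_word hinj ψ (hwok _) (fun a ha => ?_) hd
      obtain ⟨s, hs, e⟩ := List.mem_map.1 ha
      rw [← Fin.ext e]
      rcases List.mem_append.1 hs with hs | hs
      exacts [(hL' s (List.mem_reverse.1 hs)).2, (hM s hs).2]
    obtain ⟨hr, hr1⟩ := key L hL he
    obtain ⟨hs, hs1⟩ := key L' hL' rfl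
    refine ⟨_, mul_mem (inv_mem hs) hr, ?_, ?_⟩
    · have h1 := hθmul _ hs _ (mul_mem (inv_mem hs) hr)
      rw [mul_inv_cancel_left, hr1, hs1, one_mul] at h1
      exact h1.symm
    · simp only [rep, List.map_append, List.prod_append]
      group
  -- the eigenvector of the Borel subgroup
  let θ₀ : ↥(D.group F) → kˣ := fun t => θ (N₀ * t * N₀⁻¹)
  have hN₀t : ∀ t ∈ Tor D F, N₀ * t * N₀⁻¹ ∈ Tor D F := fun t ht => hmconj (by rwa [hN0c]) ht
  have hθ₀mul : ∀ a ∈ Tor D F, ∀ b ∈ Tor D F, θ₀ (a * b) = θ₀ a * θ₀ b := fun a ha b hb => by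
    show θ _ = θ _ * θ _
    rw [show N₀ * (a * b) * N₀⁻¹ = N₀ * a * N₀⁻¹ * (N₀ * b * N₀⁻¹) by group,
      hθmul _ (hN₀t a ha) _ (hN₀t b hb)]
  have : Fintype ↥(Upos D F) := Fintype.ofFinite _
  have : Fintype ↥(Tor D F) := Fintype.ofFinite _
  set f1 : ↥(D.group F) → k := fun x => ∑ t : ↥(Tor D F), ∑ u : ↥(Upos D F),
    if x = (u : ↥(D.group F)) * t then ((θ₀ t : kˣ) : k)⁻¹ else 0 with hf1
  have hf1U : ∀ u ∈ Upos D F, ρ u f1 = f1 := by
    intro u hu
    funext x
    rw [hρapp, hf1]
    refine Finset.sum_congr rfl fun t _ => ?_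
    refine Fintype.sum_equiv (Equiv.mulLeft (⟨u, hu⟩ : ↥(Upos D F))) _ _ fun u' => ?_
    simp only [Equiv.coe_mulLeft, Subgroup.coe_mul, inv_mul_eq_iff_eq_mul, mul_assoc]
  have hf1T : ∀ t ∈ Tor D F, ρ t f1 = ((θ₀ t : kˣ) : k) • f1 := by
    intro t ht
    funext x
    rw [hρapp, Pi.smul_apply, hf1, smul_eq_mul, Finset.mul_sum]
    refine Fintype.sum_equiv (Equiv.mulLeft (⟨t, ht⟩ : ↥(Tor D F))) _ _ fun t' => ?_
    rw [Finset.mul_sum]
    refine Fintype.sum_bijective (fun u' : ↥(Upos D F) =>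
      (⟨t * u' * t⁻¹, h.tor_normalizes ht u'.2⟩ : ↥(Upos D F))) ?_ _ _ fun u' => ?_
    · exact Finite.injective_iff_bijective.1 fun a b e => Subtype.ext (by
        simpa using congrArg Subtype.val e)
    simp only [Equiv.coe_mulLeft, Subgroup.coe_mul, inv_mul_eq_iff_eq_mul, mul_ite, mul_zero]
    have e1 : t * u' * t⁻¹ * (t * t') = t * ((u' : ↥(D.group F)) * t') := by group
    have e2 : ((θ₀ t : kˣ) : k) * ((θ₀ (t * t') : kˣ) : k)⁻¹ = ((θ₀ t' : kˣ) : k)⁻¹ := by
      rw [hθ₀mul t ht _ t'.2, Units.val_mul, mul_inv, mul_inv_cancel_left₀ (Units.ne_zero _)]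
    simp only [e1]
    split_ifs
    · exact e2.symm
    · exact (mul_zero _).symm
  have hwt1 : IsWeightVec ρ f1 := ⟨hf1U, fun t ht => ⟨_, hf1T t ht⟩⟩
  have hf1one : f1 1 = 1 := by
    simp only [hf1]
    rw [Finset.sum_eq_single (1 : ↥(Tor D F)), Finset.sum_eq_single (1 : ↥(Upos D F))]
    · rw [OneMemClass.coe_one, OneMemClass.coe_one, if_pos (mul_one _).symm]
      have h1 := hθ₀mul 1 (one_mem _) 1 (one_mem _)
      rw [mul_one, left_eq_mul] at h1
      rw [h1]; simp
    · intro u _ hu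
      rw [if_neg]
      rw [OneMemClass.coe_one, mul_one]
      exact fun e => hu (Subtype.ext e.symm)
    · simp
    · intro t _ ht
      refine Finset.sum_eq_zero fun u _ => if_neg fun e => ht (Subtype.ext ?_)
      have h1 : ((t : ↥(D.group F)) : GL D.Idx F) ∈
          D.posUnipotent F ⊓ D.diagonalSubgroup F := by
        refine Subgroup.mem_inf.2 ⟨?_, Subgroup.mem_subgroupOf.1 t.2⟩
        rw [show (t : ↥(D.group F)) = (u : ↥(D.group F))⁻¹ from
          eq_inv_of_mul_eq_one_right e.symm, Subgroup.coe_inv]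
        exact inv_mem (Subgroup.mem_subgroupOf.1 u.2)
      rw [h.posUnipotent_inf_diagonal, Subgroup.mem_bot] at h1
      exact Subtype.ext h1
    · simp
  have hf1B : ∀ x, f1 x ≠ 0 → x ∈ P.B := by
    intro x hx
    by_contra hxB
    refine hx (Finset.sum_eq_zero fun t _ => Finset.sum_eq_zero fun u _ => if_neg fun e => hxB ?_)
    rw [e, hB, Subgroup.mem_subgroupOf, Subgroup.coe_mul]
    exact mul_mem (Subgroup.mem_sup_left (Subgroup.mem_subgroupOf.1 u.2))
      (Subgroup.mem_sup_right (Subgroup.mem_subgroupOf.1 t.2))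
  -- the vectors of the cells
  let v : List P.S → (↥(D.group F) → k) := fun L => orbSum ρ (rep P L * N₀) f1
  have hmN : ∀ L, ((rep P L * N₀ : ↥(D.group F)) : GL D.Idx F) ∈ D.monomialSubgroup F := fun L => by
    rw [Subgroup.coe_mul, hN0c]; exact mul_mem (hrepN L) hmono
  have hvT : ∀ L, (∀ s ∈ L, s ∈ K) → ∀ t ∈ Tor D F, ρ t (v L) = ((θ t : kˣ) : k) • v L := by
    intro L hL t ht
    have ht' := h.conj_tor_mem (hmN L) ht
    show ρ t (orbSum ρ _ f1) = _ • orbSum ρ _ f1
    rw [h.tor_orbSum ρ hf1U _ ht ht', hf1T _ ht', map_smul]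
    congr 2
    show θ _ = _
    rw [show N₀ * ((rep P L * N₀)⁻¹ * t * (rep P L * N₀)) * N₀⁻¹ =
      (rep P L)⁻¹ * t * rep P L by group, hθL L hL t ht]
  have hveq : ∀ L L', (∀ s ∈ L, s ∈ K) → (∀ s ∈ L', s ∈ K) →
      wprod (CfsgLib.BN.gen P) L = wprod (CfsgLib.BN.gen P) L' → v L = v L' := by
    intro L L' hL hL' he
    obtain ⟨t, ht, ht1, e⟩ := hθeq L L' hL hL' he
    have ht' := h.conj_tor_mem (m := N₀) (by rwa [hN0c]) ht
    show orbSum ρ _ f1 = orbSum ρ _ f1
    rw [e, show rep P L' * t * N₀ = rep P L' * N₀ * (N₀⁻¹ * t * N₀) by group,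
      h.orbSum_mul_tor ρ hf1U _ ht', hf1T _ ht', map_smul]
    have : θ₀ (N₀⁻¹ * t * N₀) = 1 := by
      show θ _ = 1
      rw [show N₀ * (N₀⁻¹ * t * N₀) * N₀⁻¹ = t by group, ht1]
    rw [this, Units.val_one, one_smul]
  -- lengths
  have hw₀long : IsLongest (CfsgLib.BN.gen P) w₀ := by
    intro s
    have hne : len (CfsgLib.BN.gen P) (w₀ * CfsgLib.BN.gen P s) ≠ len (CfsgLib.BN.gen P) w₀ := by
      rw [gens.len_mul_gen, ← gens.len_inv w₀]
      exact gen_len_ne s _
    by_contra hle
    have hup : len (CfsgLib.BN.gen P) w₀⁻¹ ≤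
        len (CfsgLib.BN.gen P) (CfsgLib.BN.gen P s * w₀⁻¹) := by
      rw [← gens.len_mul_gen, gens.len_inv]; omega
    have h1 := h.conj_simple_of_up hB (idx s).2 (hval s) (m := N₀⁻¹)
      (by rw [Subgroup.coe_inv, hN0c]; exact inv_mem hmono) (inv_cell hN₀cell) hup 1
    rw [Subgroup.coe_inv, hN0c, inv_inv] at h1
    have h2 := hPU _ (h.X_simple_mem_posUnipotent (F := F) (idx s).2 1)
    have h3 : n₀ * X D (T.simple (idx s)) 1 * n₀⁻¹ ∈ D.borelSubgroup F ⊓ D.negUnipotent F :=
      ⟨Subgroup.mem_sup_left h1, h2⟩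
    rw [h.borel_inf_negUnipotent, Subgroup.mem_bot] at h3
    have h4 : X D (T.simple (idx s)) (1 : F) = 1 := by
      calc X D (T.simple (idx s)) (1 : F) =
            n₀⁻¹ * (n₀ * X D (T.simple (idx s)) 1 * n₀⁻¹) * n₀ := by group
        _ = 1 := by rw [h3]; group
    rw [h.X_eq_one_iff (h.simple_lt (idx s).2)] at h4
    exact one_ne_zero h4
  have hlen : ∀ y, len (CfsgLib.BN.gen P) (y * w₀) + len (CfsgLib.BN.gen P) y =
      len (CfsgLib.BN.gen P) w₀ := fun y => by
    have hsq : w₀ * w₀ = 1 := by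
      have h1 := gens.len_longest_mul exchange hw₀long w₀
      exact gens.len_eq_zero.1 (by omega)
    have h1 := gens.len_longest_mul exchange hw₀long y⁻¹
    rw [gens.len_inv] at h1
    rw [← gens.len_inv, _root_.mul_inv_rev, inv_eq_of_mul_eq_one_right hsq]
    exact h1
  have hmcell : ∀ L, rep P L * N₀ ∈ cell P (wprod (CfsgLib.BN.gen P) L * w₀) := fun L => by
    have h1 := mk_mem_cell (P := P) ((⟨rep P L, rep_mem_N L⟩ : P.N) * ⟨N₀, hN₀N⟩)
    rwa [QuotientGroup.mk_mul, mk_rep] at h1
  -- the operators on the vectors of the cells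
  have hup' : ∀ (s : P.S) L, len (CfsgLib.BN.gen P) (CfsgLib.BN.gen P s * wprod (CfsgLib.BN.gen P) L)
      < len (CfsgLib.BN.gen P) (wprod (CfsgLib.BN.gen P) L) →
      aOp ρ T (idx s) (v L) = v (s :: L) := by
    intro s L hlt
    show aOp ρ T (idx s) (orbSum ρ _ f1) = orbSum ρ _ f1
    rw [h.aOp_orbSum ρ hB hf1U (idx s).2 (hval s) (hmN L) (hmcell L) ?_]
    · congr 2
      simp [rep, mul_assoc]
    · have h1 := hlen (wprod (CfsgLib.BN.gen P) L)
      have h2 := hlen (CfsgLib.BN.gen P s * wprod (CfsgLib.BN.gen P) L)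
      rw [← mul_assoc]
      omega
  have hdown : ∀ (s : P.S) L, (∀ a ∈ L, a ∈ K) →
      len (CfsgLib.BN.gen P) (wprod (CfsgLib.BN.gen P) L) <
        len (CfsgLib.BN.gen P) (CfsgLib.BN.gen P s * wprod (CfsgLib.BN.gen P) L) →
      aOp ρ T (idx s) (v L) = (if ψ (idx s) = 1 then -1 else 0 : k) • v L := by
    intro s L hL hlt
    set m₁ := (s : ↥(D.group F))⁻¹ * (rep P L * N₀) with hm₁
    have hm₁N : (m₁ : GL D.Idx F) ∈ D.monomialSubgroup F := by
      rw [hm₁, Subgroup.coe_mul, Subgroup.coe_inv, hval]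
      exact mul_mem (inv_mem (h.nS_mem_monomial (idx s).2)) (hmN L)
    have hm₁cell : m₁ ∈ cell P (CfsgLib.BN.gen P s * (wprod (CfsgLib.BN.gen P) L * w₀)) := by
      have h1 := mk_mem_cell (P := P)
        ((⟨(s : ↥(D.group F)), P.subset s.2⟩ : P.N)⁻¹ * (⟨rep P L, rep_mem_N L⟩ * ⟨N₀, hN₀N⟩))
      rw [QuotientGroup.mk_mul, QuotientGroup.mk_inv, QuotientGroup.mk_mul, mk_rep] at h1
      rw [← gen_inv s]
      exact h1
    have hA : aOp ρ T (idx s) (orbSum ρ m₁ f1) = v L := by
      rw [h.aOp_orbSum ρ hB hf1U (idx s).2 (hval s) hm₁N hm₁cell ?_]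
      · show orbSum ρ _ f1 = orbSum ρ _ f1
        rw [hm₁, mul_inv_cancel_left]
      · have h1 := hlen (wprod (CfsgLib.BN.gen P) L)
        have h2 := hlen (CfsgLib.BN.gen P s * wprod (CfsgLib.BN.gen P) L)
        rw [gens.cancel_left, ← mul_assoc]
        omega
    have hwt := h.isWeightVec_orbSum ρ hwt1 hm₁N
    have hm : ((gEl D (nS D F (idx s)) : ↥(D.group F)) : GL D.Idx F) ∈ D.monomialSubgroup F := by
      rw [coe_gEl (h.nS_mem_group (idx s).2)]; exact h.nS_mem_monomial (idx s).2
    rw [← hA, h.aOp_aOp ρ hq hwt (idx s).2 (fun b => ((θ (hEl D T (idx s) (-b))⁻¹ : kˣ) : k))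
      fun b hb => ?_]
    · congr 1
      refine sum_char hq (ψ (idx s)) _ fun u => ?_
      rw [← Units.val_neg, h.hEl_inv (idx s).2 (Units.ne_zero _), ← Units.val_inv_eq_inv_val, hθh,
        map_inv]
    · have ht := inv_mem (h.hEl_mem (F := F) (idx s).2 (neg_ne_zero.2 hb))
      have ht' := h.conj_tor_mem hm ht
      have ht'' := h.conj_tor_mem hm₁N ht'
      show ρ ((gEl D (nS D F (idx s)))⁻¹ * (hEl D T (idx s) (-b))⁻¹ * gEl D (nS D F (idx s))) _ = _
      rw [h.tor_orbSum ρ hf1U _ ht' ht'', hf1T _ ht'', map_smul]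
      congr 2
      show θ _ = _
      rw [hsG, hm₁, show N₀ * (((s : ↥(D.group F))⁻¹ * (rep P L * N₀))⁻¹ *
        ((s : ↥(D.group F))⁻¹ * (hEl D T (idx s) (-b))⁻¹ * s) *
        ((s : ↥(D.group F))⁻¹ * (rep P L * N₀))) * N₀⁻¹ =
        (rep P L)⁻¹ * (hEl D T (idx s) (-b))⁻¹ * rep P L by group, hθL L hL _ ht]
  -- the vector
  have : Finite (CfsgLib.BN.Weyl P) := inferInstance
  have : Fintype ↥(std (CfsgLib.BN.gen P) K) := Fintype.ofFinite _
  choose Lx hLx hLxp using fun x : ↥(std (CfsgLib.BN.gen P) K) => gens.exists_std_word x.2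
  refine ⟨∑ x, v (Lx x), ?_, ⟨⟨?_, ?_⟩, fun i => ⟨fun b => ?_, ?_⟩⟩⟩
  · intro e0
    have hval0 : (∑ x, v (Lx x)) N₀ = 1 := by
      rw [Finset.sum_apply, Finset.sum_eq_single (1 : ↥(std (CfsgLib.BN.gen P) K))]
      · rw [hveq _ [] (hLx 1) (by simp) (by rw [hLxp]; simp)]
        show orbSum ρ _ f1 N₀ = 1
        rw [show rep P ([] : List P.S) * N₀ = N₀ by simp [rep], orbSum, LinearMap.sum_apply,
          Finset.sum_apply, Finset.sum_eq_single ((N₀ : ↥(D.group F)) :
            ↥(D.group F) ⧸ Upos D F)]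
        · rw [out_apply ρ hf1U, hρapp, inv_mul_cancel, hf1one]
        · intro q hq' hne
          obtain ⟨u, hu, rfl⟩ := mem_orbF.1 hq'
          rw [out_apply ρ hf1U, hρapp]
          by_contra h0
          refine hne ?_
          have h1 := hf1B _ h0
          rw [hB, Subgroup.mem_subgroupOf] at h1
          simp only [Subgroup.coe_mul, Subgroup.coe_inv, hN0c] at h1
          have huU := Subgroup.mem_subgroupOf.1 hu
          have hnn : n₀ * n₀ ∈ D.diagonalSubgroup F := by
            have hsq : w₀ * w₀ = 1 := by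
              have h1 := gens.len_longest_mul exchange hw₀long w₀
              exact gens.len_eq_zero.1 (by omega)
            have h2 := mk_mem_cell (P := P) ((⟨N₀, hN₀N⟩ : P.N) * ⟨N₀, hN₀N⟩)
            rw [QuotientGroup.mk_mul, ← hw₀, hsq, mem_cell_one, hB, Subgroup.mem_subgroupOf] at h2
            simp only [Subgroup.coe_mul, hN0c] at h2
            rw [← h.borel_inf_monomial]
            exact Subgroup.mem_inf.2 ⟨h2, mul_mem hmono hmono⟩
          have hneg : n₀⁻¹ * (u : GL D.Idx F)⁻¹ * n₀ ∈ D.negUnipotent F := by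
            have h2 := hPU _ (inv_mem huU)
            rw [h.negUnipotent_eq] at h2 ⊢
            have hlt : ∀ r ∈ {r | r < T.half}, r < T.n := fun r (hr : r < T.half) => by
              have := h.two_mul_half; omega
            have h3 := (Subgroup.mem_normalizer_iff''.1 (h.diagonal_le_normalizer_gen hlt hnn) _).1 h2
            convert h3 using 1
            group
          have h4 : n₀⁻¹ * (u : GL D.Idx F)⁻¹ * n₀ ∈ D.borelSubgroup F ⊓ D.negUnipotent F := by
            refine Subgroup.mem_inf.2 ⟨?_, hneg⟩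
            convert h1 using 1
            group
          rw [h.borel_inf_negUnipotent, Subgroup.mem_bot] at h4
          have hu1 : u = 1 := Subtype.ext (inv_eq_one.1 (by
            calc ((u : GL D.Idx F))⁻¹ = n₀ * (n₀⁻¹ * (u : GL D.Idx F)⁻¹ * n₀) * n₀⁻¹ := by group
              _ = 1 := by rw [h4]; group))
          rw [hu1, one_mul]
        · intro hni
          exact absurd (mem_orbF.2 ⟨1, one_mem _, by rw [one_mul]⟩) hni
      · intro x _ hx
        show orbSum ρ _ f1 N₀ = 0
        rw [orbSum, LinearMap.sum_apply, Finset.sum_apply]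
        refine Finset.sum_eq_zero fun q hq' => ?_
        obtain ⟨u, hu, rfl⟩ := mem_orbF.1 hq'
        rw [out_apply ρ hf1U, hρapp]
        by_contra h0
        refine hx (Subtype.ext ?_)
        have huB : u ∈ P.B := by
          rw [hB, Subgroup.mem_subgroupOf]
          exact Subgroup.mem_sup_left (Subgroup.mem_subgroupOf.1 hu)
        have h1 := right_cell (left_cell (hmcell (Lx x)) huB) (hf1B _ h0)
        rw [mul_inv_cancel_left, hLxp] at h1
        have h2 := cell_inj h1 hN₀cell
        rw [mul_eq_right] at h2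
        exact h2
      · simp
    rw [e0, Pi.zero_apply] at hval0
    exact zero_ne_one hval0
  · intro u hu
    rw [map_sum]
    exact Finset.sum_congr rfl fun x _ => orbSum_fixed ρ hf1U _ u hu
  · intro t ht
    refine ⟨((θ t : kˣ) : k), ?_⟩
    rw [map_sum, Finset.smul_sum]
    exact Finset.sum_congr rfl fun x _ => hvT _ (hLx x) t ht
  · rw [map_sum, Finset.smul_sum]
    refine Finset.sum_congr rfl fun x _ => ?_
    rw [hvT _ (hLx x) _ (h.hEl_mem i.2 b.ne_zero), hθh]
  · obtain ⟨s, rfl⟩ := hidxsurj i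
    rw [map_sum]
    by_cases hs : s ∈ K
    · rw [if_neg hs.1, zero_smul]
      have hgs : CfsgLib.BN.gen P s ∈ std (CfsgLib.BN.gen P) K :=
        Subgroup.subset_closure ⟨s, hs, rfl⟩
      set σ : ↥(std (CfsgLib.BN.gen P) K) := ⟨_, hgs⟩
      let up : ↥(std (CfsgLib.BN.gen P) K) → Prop := fun x =>
        len (CfsgLib.BN.gen P) (x : CfsgLib.BN.Weyl P) <
          len (CfsgLib.BN.gen P) (CfsgLib.BN.gen P s * (x : CfsgLib.BN.Weyl P))
      rw [← Finset.sum_filter_add_sum_filter_not _ up]
      have e1 : ∑ x ∈ Finset.univ.filter up, aOp ρ T (idx s) (v (Lx x)) =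
          -∑ x ∈ Finset.univ.filter up, v (Lx x) := by
        rw [← Finset.sum_neg_distrib]
        refine Finset.sum_congr rfl fun x hx => ?_
        rw [hdown s _ (hLx x) (by rw [hLxp]; exact (Finset.mem_filter.1 hx).2), if_pos hs.2,
          neg_one_smul]
      have e2 : ∑ x ∈ Finset.univ.filter fun x => ¬ up x, aOp ρ T (idx s) (v (Lx x)) =
          ∑ x ∈ Finset.univ.filter up, v (Lx x) := by
        refine Finset.sum_bij (fun x _ => σ * x) (fun x hx => ?_)
          (fun a _ b _ e => mul_left_cancel e) (fun y hy => ⟨σ * y, ?_, ?_⟩) fun x hx => ?_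
        · simp only [Finset.mem_filter, Finset.mem_univ, true_and, up, not_lt] at hx ⊢
          show len _ (CfsgLib.BN.gen P s * (x : CfsgLib.BN.Weyl P)) <
            len _ (CfsgLib.BN.gen P s * (CfsgLib.BN.gen P s * (x : CfsgLib.BN.Weyl P)))
          rw [gens.cancel_left]
          have := gen_len_ne s (x : CfsgLib.BN.Weyl P)
          omega
        · simp only [Finset.mem_filter, Finset.mem_univ, true_and, up, not_lt] at hy ⊢
          show len _ (CfsgLib.BN.gen P s * (CfsgLib.BN.gen P s * (y : CfsgLib.BN.Weyl P))) ≤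
            len _ (CfsgLib.BN.gen P s * (y : CfsgLib.BN.Weyl P))
          rw [gens.cancel_left]
          omega
        · exact Subtype.ext (gens.cancel_left s _)
        · simp only [Finset.mem_filter, Finset.mem_univ, true_and, up, not_lt] at hx
          have := gen_len_ne s (x : CfsgLib.BN.Weyl P)
          rw [hup' s _ (by rw [hLxp]; omega)]
          refine hveq _ _ (fun a ha => ?_) (hLx _) ?_
          · rcases List.mem_cons.1 ha with rfl | ha
            exacts [hs, hLx x a ha]
          · rw [wprod_cons, hLxp, hLxp]; rfl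
      rw [e1, e2, neg_add_cancel]
    · rw [Finset.smul_sum]
      refine Finset.sum_congr rfl fun x _ => ?_
      have hlt : len (CfsgLib.BN.gen P) (wprod (CfsgLib.BN.gen P) (Lx x)) <
          len (CfsgLib.BN.gen P) (CfsgLib.BN.gen P s * wprod (CfsgLib.BN.gen P) (Lx x)) := by
        have hne := gen_len_ne s (wprod (CfsgLib.BN.gen P) (Lx x))
        by_contra hge
        refine hs ?_
        obtain ⟨L, hL, hLp, hLs⟩ := gens.exists_red_subset exchange (Lx x)
        obtain ⟨j, -, e, -⟩ := gens.exchange_red exchange hL (i := s)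
          (by rw [← hL, hLp]; omega)
        have hLK : ∀ a ∈ L, a ∈ K := fun a ha => hLx x a (hLs a ha)
        have hmem : CfsgLib.BN.gen P s ∈ std (CfsgLib.BN.gen P) K := by
          have h1 : wprod (CfsgLib.BN.gen P) (L.eraseIdx j) * (wprod (CfsgLib.BN.gen P) L)⁻¹ ∈
              std (CfsgLib.BN.gen P) K :=
            mul_mem (Gens.wprod_mem_std fun a ha => hLK a (List.mem_of_mem_eraseIdx ha))
              (inv_mem (Gens.wprod_mem_std hLK))
          rwa [← e, mul_inv_cancel_right] at h1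
        obtain ⟨M, hM, hMp⟩ := gens.exists_std_word hmem
        obtain ⟨R, hR, hRp, hRs⟩ := gens.exists_red_subset exchange M
        have hRl : R.length = 1 := by rw [← hR, hRp, hMp, len_gen_eq_one]
        obtain ⟨r, rfl⟩ := List.length_eq_one_iff.1 hRl
        rw [hMp, wprod_cons, wprod_nil, mul_one] at hRp
        rw [← gen_injective hRp]
        exact hM r (hRs r List.mem_cons_self)
      rw [hdown s _ (hLx x) hlt]
      congr 1
      simp only [K, Set.mem_setOf_eq, not_and, ne_eq] at hs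
      by_cases hnone : w (idx s) = none
      · rw [if_pos hnone, if_pos (by simp [ψ, hnone])]
      · rw [if_neg hnone, if_neg (hs hnone)]

omit k hq hinj in
/-- The torus is simply connected when `q - 1` is prime to the elementary divisors. -/
theorem torusHom_injective (U Ui V : Matrix (Fin T.l) (Fin T.l) ℤ) (d : Fin T.l → ℕ)
    (hU : U * Ui = 1) (hD : V * cartanT T * U = Matrix.diagonal fun i => (d i : ℤ))
    (hco : ∀ i, (Fintype.card F - 1).Coprime (d i)) :
    Function.Injective (torusHom (D := D) (T := T) (F := F)) := by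
  classical
  rw [← MonoidHom.ker_eq_bot_iff, h.ker_torusHom, eq_bot_iff]
  intro c hc
  rw [Subgroup.mem_bot]
  have e : matHom (V * cartanT T * U) (matHom Ui c) = 1 := by
    rw [matHom_mul, ← matHom_mul U Ui, hU, matHom_one, matHom_mul, MonoidHom.mem_ker.1 hc, map_one]
  rw [hD] at e
  have h1 : matHom Ui c = 1 := by
    funext i
    have h2 := congrFun e i
    rw [matHom_apply, Finset.prod_eq_single i] at h2
    · rw [Matrix.diagonal_apply_eq, zpow_natCast] at h2
      rw [Pi.one_apply, ← orderOf_eq_one_iff]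
      refine Nat.eq_one_of_dvd_coprimes (hco i) ?_ (orderOf_dvd_iff_pow_eq_one.2 h2)
      rw [← Nat.card_eq_fintype_card, ← Nat.card_units]
      exact orderOf_dvd_natCard _
    · intro j _ hj; rw [Matrix.diagonal_apply_ne _ (Ne.symm hj), zpow_zero]
    · simp
  rw [← matHom_one c, ← hU, matHom_mul, h1, map_one]

section Count

omit h in
lemma asAlgebraHom_single' {V : Type*} [AddCommGroup V] [Module k V]
    (ρ : Representation k ↥(D.group F) V) (g : ↥(D.group F)) (x : V) :
    ρ.asAlgebraHom (MonoidAlgebra.of k _ g) x = ρ g x := by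
  rw [Representation.asAlgebraHom_of]

omit h in
/-- A vector annihilated by whatever annihilates an eigenvector has its weight. -/
lemma hasWeight_transfer {V V' : Type*} [AddCommGroup V] [Module k V] [AddCommGroup V']
    [Module k V'] (ρ : Representation k ↥(D.group F) V) (ρ' : Representation k ↥(D.group F) V')
    {v : V} {v' : V'}
    (hv : ∀ x, ρ.asAlgebraHom x v = 0 → ρ'.asAlgebraHom x v' = 0)
    {w : Fin T.l → Option (Fˣ →* kˣ)} (hw : HasWeight (T := T) ρ v w) :
    HasWeight (T := T) ρ' v' w := by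
  have key : ∀ (g : ↥(D.group F)) (c : k), ρ g v = c • v → ρ' g v' = c • v' := by
    intro g c e
    have h1 := hv (MonoidAlgebra.of k _ g - algebraMap k _ c) (by
      rw [map_sub, LinearMap.sub_apply, asAlgebraHom_single', AlgHom.commutes,
        Module.algebraMap_end_apply, e, sub_self])
    rwa [map_sub, LinearMap.sub_apply, asAlgebraHom_single', AlgHom.commutes,
      Module.algebraMap_end_apply, sub_eq_zero] at h1
  refine ⟨⟨fun u hu => ?_, fun t ht => ?_⟩, fun i => ⟨fun b => key _ _ ((hw.2 i).1 b), ?_⟩⟩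
  · simpa using key u 1 (by simpa using hw.1.1 u hu)
  · obtain ⟨c, hc⟩ := hw.1.2 t ht
    exact ⟨c, key t c hc⟩
  · set c : k := if w i = none then -1 else 0
    have h1 := hv ((∑ a : F, MonoidAlgebra.of k _
        (gEl D (X D (T.simple i) a) * gEl D (nS D F i))) - algebraMap k _ c) (by
      rw [map_sub, LinearMap.sub_apply, map_sum, LinearMap.sum_apply, AlgHom.commutes,
        Module.algebraMap_end_apply, ← (hw.2 i).2, aOp, LinearMap.sum_apply, sub_eq_zero]
      simp only [asAlgebraHom_single'])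
    rw [map_sub, LinearMap.sub_apply, map_sum, LinearMap.sum_apply, AlgHom.commutes,
      Module.algebraMap_end_apply, sub_eq_zero] at h1
    simp only [asAlgebraHom_single'] at h1
    rw [← h1, aOp, LinearMap.sum_apply]

include hinj in
omit k hq in
/-- With a simply connected torus there are `q ^ l` classes of elements of order prime to the
characteristic. -/
theorem card_regClass {q : ℕ} (hcard : Fintype.card F = q) (p : ℕ) [Fact p.Prime] [CharP F p] :
    Nat.card (CfsgLib.Modular.RegClass ↥(D.group F) p) = q ^ T.l := by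
  classical
  let K := AlgebraicClosure (ZMod p)
  haveI : CharP K p := charP_of_injective_algebraMap (algebraMap (ZMod p) K).injective p
  have : Fintype ↥(D.group F) := Fintype.ofFinite _
  obtain ⟨m, hmp, hcard'⟩ := FiniteField.card F p
  have hqK : (Fintype.card F : K) = 0 := by
    rw [hcard', Nat.cast_pow, CharP.cast_eq_zero, zero_pow m.pos.ne']
  have hcU : Nat.card (Upos D F) = Fintype.card F ^ T.half := by
    rw [Upos, Nat.card_congr (Subgroup.subgroupOfEquivOfLe h.posUnipotent_le_group).toEquiv,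
      h.card_posUnipotent]
  have hU : IsPGroup p (Upos D F) := IsPGroup.of_card (n := (m : ℕ) * T.half) (by
    rw [hcU, hcard', ← pow_mul])
  obtain ⟨N, d, π, hN, hd, hsurj, hnil⟩ :=
    CfsgLib.Modular.exists_simples (G := ↥(D.group F)) (k := K) (p := p)
  have hirr : ∀ i, ∀ W : Submodule K (Fin (d i) → K),
      (∀ g, ∀ x ∈ W, CfsgLib.Modular.blockRep π i g x ∈ W) → W = ⊥ ∨ W = ⊤ :=
    fun i W hW => CfsgLib.Modular.blockRep_irreducible π hsurj hd i hW
  -- every block has a weight
  have hex : ∀ i, ∃ (v : Fin (d i) → K) (w : Fin T.l → Option (Fˣ →* Kˣ)),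
      v ≠ 0 ∧ HasWeight (T := T) (CfsgLib.Modular.blockRep π i) v w := by
    intro i
    haveI := hd i
    obtain ⟨v, -, hv0, hv, hμ⟩ := h.exists_eigen (CfsgLib.Modular.blockRep π i) hqK hU (W := ⊤)
      (fun g x _ => Submodule.mem_top) top_ne_bot
    obtain ⟨w, hw⟩ := h.exists_weight hqK (CfsgLib.Modular.blockRep π i) hv0 hv hμ
    exact ⟨v, w, hv0, hw⟩
  choose v w hv0 hw using hex
  have hinjw : Function.Injective w := by
    intro i j e
    by_contra hne
    obtain ⟨L, hL0, hL⟩ := h.exists_intertwine (CfsgLib.Modular.blockRep π i) hU (hirr i)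
      (CfsgLib.Modular.blockRep π j) (hirr j) (hv0 i) (hv0 j) (hw i) (e ▸ hw j)
    exact hL0 (CfsgLib.Modular.blockRep_intertwine π hsurj hL hne)
  have hsurjw : Function.Surjective w := by
    intro w₀
    obtain ⟨f, hf0, hf⟩ := h.exists_hasWeight hqK hinj w₀
    obtain ⟨i, x, hx0, hx⟩ := CfsgLib.Modular.exists_block_vec π hsurj hnil
      (DefectMod.lreg K (G := ↥(D.group F))) hf0
    exact ⟨i, h.weight_eq hqK (CfsgLib.Modular.blockRep π i) hU (hirr i) (hv0 i) hx0 (hw i)
      (hasWeight_transfer _ _ hx hf)⟩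
  rw [← hN, ← Nat.card_fin N, Nat.card_eq_of_bijective w ⟨hinjw, hsurjw⟩]
  have hunits : Nat.card (Fˣ →* Kˣ) = q - 1 := by
    haveI : NeZero (Monoid.exponent Fˣ : K) := by
      refine ⟨fun e => ?_⟩
      rw [CharP.cast_eq_zero_iff K p, IsCyclic.exponent_eq_card, Nat.card_units,
        Nat.card_eq_fintype_card, hcard'] at e
      have h2 : p ∣ p ^ (m : ℕ) := dvd_pow_self p m.pos.ne'
      have h3 : p ∣ 1 := by
        have := Nat.dvd_sub h2 e
        rwa [Nat.sub_sub_self (Nat.one_le_pow _ _ hmp.pos)] at this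
      exact hmp.not_dvd_one h3
    rw [CommGroup.card_monoidHom_of_hasEnoughRootsOfUnity, Nat.card_units,
      Nat.card_eq_fintype_card, hcard]
  have : Finite (Fˣ →* Kˣ) := Nat.finite_of_card_ne_zero (by
    rw [hunits, ← hcard]; have := Fintype.one_lt_card (α := F); omega)
  rw [Nat.card_fun, Nat.card_fin, Finite.card_option, hunits]
  congr 1
  have := Fintype.one_lt_card (α := F)
  omega

end Count

end Cert

end CfsgLib.Chev
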