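import Cfsg.Agent.Lib.Chev.ModularSteinberg
import Cfsg.Agent.Lib.Chev.DiagOrder
import Cfsg.Agent.Lib.Modular.BrauerCount

/-!
Weights of the modules of a Chevalley group in the defining characteristic: a simple module has
exactly one weight, and when the torus is simply connected every weight occurs.
-/

set_option autoImplicit false
set_option linter.unusedSectionVars false

namespace CfsgLib.Chev

open Cfsg.Lie Matrix CfsgLib.BN CfsgLib.Coxeter

variable {D : ChevalleyDatum} {T : Tab} {C : Tab.Cover} {F : Type*} [Field F]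

namespace Cert

variable (h : Cert D T C)
include h

section Squares

/-- The exchange step inside the letters of the word. -/
lemma exchange_word_squares : ∀ {w : List ℕ}, WordOK T w → ∀ {i : ℕ}, i < T.l →
    rword T w (T.simple i) < T.half →
    ∃ w' : List ℕ, (∀ a ∈ w', a ∈ w) ∧ w'.length + 1 = w.length ∧
      ∃ t : GL D.Idx F, (t = 1 ∨ t = (nS D F i * nS D F i)⁻¹) ∧
        nW D F w = nW D F w' * nS D F i * t := by
  intro w
  induction w with
  | nil =>
    intro _ i hi hlt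
    have := (h.simple_spec hi).1
    simp only [rword, List.foldr_nil] at hlt
    omega
  | cons j b ih =>
    intro hw i hi hlt
    have hj := hw.head
    have hbp := h.rword_lt hw.tail (h.simple_lt hi)
    by_cases hneg : rword T b (T.simple i) < T.half
    · obtain ⟨b', hb', hlen, t, ht, e⟩ := ih hw.tail hi hneg
      refine ⟨j :: b', fun k hk => ?_, by simp [hlen], t, ht, ?_⟩
      · rcases List.mem_cons.1 hk with rfl | hk
        · exact List.mem_cons_self
        · exact List.mem_cons_of_mem _ (hb' k hk)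
      · rw [nW_cons, e, nW_cons]; group
    · have hjp : rword T b (T.simple i) = T.simple j := by
        by_contra hne
        have := (h.refl_spec hj hbp).2.2.2.1 (not_lt.1 hneg) hne
        rw [rword_cons] at hlt
        omega
      obtain ⟨e, he, hconj⟩ := h.nW_conj_nU (F := F) hw.tail (h.simple_lt hi)
      rw [hjp, show nU D (T.simple i) (1 : F) = nS D F i by rw [nS, h.simple_eq hi]] at hconj
      refine ⟨b, fun k hk => List.mem_cons_of_mem _ hk, by simp, ?_⟩
      rcases h.nU_pm_mem_sup hj he with a | a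
      · rw [a] at hconj
        refine ⟨1, Or.inl rfl, ?_⟩
        rw [nW_cons, ← hconj]; group
      · rw [a] at hconj
        have e2 : nS D F j = nW D F b * (nS D F i)⁻¹ * (nW D F b)⁻¹ := by
          rw [← inv_inv (nS D F j), ← hconj]; group
        refine ⟨(nS D F i * nS D F i)⁻¹, Or.inr rfl, ?_⟩
        rw [nW_cons, e2]; group

/-- A diagonal word lies in the group of the squares of its letters. -/
theorem nW_diagonal_squares {w : List ℕ} (hw : WordOK T w)
    (hd : nW D F w ∈ D.diagonalSubgroup F) :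
    nW D F w ∈ Subgroup.closure {g | ∃ j ∈ w, g = nS D F j * nS D F j} := by
  induction hk : w.length using Nat.strong_induction_on generalizing w with
  | _ k ih =>
    rcases List.eq_nil_or_concat' w with rfl | ⟨u, i, rfl⟩
    · simp [nW]
    have hmem : i ∈ u ++ [i] := List.mem_append_right _ List.mem_cons_self
    have hi : i < T.l := hw i hmem
    have hp := h.simple_lt hi
    have hfix : rword T (u ++ [i]) (T.simple i) = T.simple i :=
      h.Maps_unique (h.rword_lt hw hp) hp (h.Maps_nW hw hp) (h.Maps_diagonal hd hp)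
    have hup : rword T u (T.simple i) < T.half := by
      have h1 := hfix
      rw [rword_append, show rword T [i] (T.simple i) = T.neg (T.simple i) from h.refl_simple hi,
        h.rword_neg hw.left hp] at h1
      refine (h.half_le_neg_iff (h.rword_lt hw.left hp)).1 ?_
      rw [h1]; exact (h.simple_spec hi).1
    obtain ⟨u', hu', hlen, t, ht, e⟩ := h.exchange_word_squares (F := F) hw.left hi hup
    have e' : nW D F (u ++ [i]) = nW D F u' * (nS D F i * nS D F i) * t := by
      rcases ht with rfl | rfl <;>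
        rw [nW_append, e, show nW D F [i] = nS D F i by simp [nW]] <;> group
    have hsub : {g | ∃ j ∈ u', g = nS D F j * nS D F j} ⊆
        {g | ∃ j ∈ u ++ [i], g = nS D F j * nS D F j} := by
      rintro g ⟨j, hj, rfl⟩
      exact ⟨j, List.mem_append_left _ (hu' j hj), rfl⟩
    have hsq : nS D F i * nS D F i ∈
        Subgroup.closure {g | ∃ j ∈ u ++ [i], g = nS D F j * nS D F j} :=
      Subgroup.subset_closure ⟨i, hmem, rfl⟩
    have ht' : t ∈ Subgroup.closure {g | ∃ j ∈ u ++ [i], g = nS D F j * nS D F j} := by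
      rcases ht with rfl | rfl
      · exact one_mem _
      · exact inv_mem hsq
    have hdiag : ∀ x ∈ ({1, (nS D F i * nS D F i)⁻¹} : Set (GL D.Idx F)),
        x ∈ D.diagonalSubgroup F := by
      rintro x (rfl | rfl)
      exacts [one_mem _, inv_mem (h.nS_mul_self hi)]
    have hd' : nW D F u' ∈ D.diagonalSubgroup F := by
      have h1 := mul_mem (mul_mem hd (inv_mem (hdiag t ht))) (inv_mem (h.nS_mul_self (F := F) hi))
      rw [e'] at h1
      simpa [mul_assoc] using h1
    rw [e']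
    refine mul_mem (mul_mem (Subgroup.closure_mono hsub (ih _ ?_ (fun a ha => hw.left a (hu' a ha))
      hd' rfl)) hsq) ht'
    rw [← hk, List.length_append, List.length_singleton]; omega

end Squares

section Weights

variable [Fintype F] {k : Type*} [Field k] {p : ℕ} [Fact p.Prime] [CharP k p]
  (hq : (Fintype.card F : k) = 0)

omit h in
/-- The element `h_p(b)` of a simple root inside the group. -/
noncomputable def hEl (D : ChevalleyDatum) (T : Tab) (i : ℕ) (b : F) : ↥(D.group F) :=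
  gEl D (hU D (T.simple i) b)

lemma hEl_mem {i : ℕ} (hi : i < T.l) {b : F} (hb : b ≠ 0) : hEl D T i b ∈ Tor D F :=
  h.gEl_mem_Tor (h.hU_mem (h.simple_lt hi) hb)

lemma hEl_one {i : ℕ} (hi : i < T.l) : hEl D T i (1 : F) = 1 := by
  rw [hEl, h.hU_one (h.simple_lt hi), gEl_one]

lemma hEl_mul {i : ℕ} (hi : i < T.l) {a b : F} (ha : a ≠ 0) (hb : b ≠ 0) :
    hEl D T i (a * b) = hEl D T i a * hEl D T i b := by
  rw [hEl, hEl, hEl, ← h.hU_mul' (h.simple_lt hi) ha hb,
    gEl_mul (h.diagonal_le_group (h.hU_mem (h.simple_lt hi) ha))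
      (h.diagonal_le_group (h.hU_mem (h.simple_lt hi) hb))]

lemma hEl_inv {i : ℕ} (hi : i < T.l) {a : F} (ha : a ≠ 0) :
    (hEl D T i a)⁻¹ = hEl D T i a⁻¹ := by
  refine inv_eq_of_mul_eq_one_right ?_
  rw [← h.hEl_mul hi ha (inv_ne_zero ha), mul_inv_cancel₀ ha, h.hEl_one hi]

omit h in
open Classical in
/-- The sum over the inverses of a character, with values in `k`. -/
lemma sum_char (hq : (Fintype.card F : k) = 0) (ψ : Fˣ →* kˣ) (κ : F → k)
    (hκ : ∀ u : Fˣ, κ (u : F) = ((ψ (-u))⁻¹ : kˣ)) :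
    ∑ b ∈ Finset.univ.erase (0 : F), κ b = if ψ = 1 then -1 else 0 := by
  have e : ∑ b ∈ Finset.univ.erase (0 : F), κ b =
      ∑ u : Fˣ, (Units.coeHom k).comp ψ u := by
    symm
    refine Finset.sum_bij (fun u _ => ((-u⁻¹ : Fˣ) : F)) (fun u _ => ?_) (fun a _ b _ e => ?_)
      (fun b hb => ?_) fun u _ => ?_
    · exact Finset.mem_erase.2 ⟨Units.ne_zero _, Finset.mem_univ _⟩
    · exact inv_injective (neg_injective (Units.ext e))
    · exact ⟨(-(Units.mk0 b (Finset.mem_erase.1 hb).1))⁻¹, Finset.mem_univ _, by simp⟩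
    · rw [hκ, _root_.neg_neg, map_inv, inv_inv]; rfl
  rw [e]
  split_ifs with h1
  · subst h1
    simp [Fintype.card_units, Nat.cast_sub Fintype.card_pos, hq]
  · refine sum_hom_units_eq_zero _ fun e' => h1 (MonoidHom.ext fun u => Units.ext ?_)
    exact DFunLike.congr_fun e' u

variable {V : Type*} [AddCommGroup V] [Module k V] (ρ : Representation k ↥(D.group F) V)

omit h in
/-- `v` is an eigenvector of the Borel subgroup and of the operators of the simple reflections,
with the weight `w`; `none` is the trivial character with the value `-1`. -/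
def HasWeight (ρ : Representation k ↥(D.group F) V) (v : V)
    (w : Fin T.l → Option (Fˣ →* kˣ)) : Prop :=
  IsWeightVec ρ v ∧ ∀ i : Fin T.l,
    (∀ b : Fˣ, ρ (hEl D T i (b : F)) v = ((((w i).getD 1) b : kˣ) : k) • v) ∧
      aOp ρ T i v = (if w i = none then -1 else 0 : k) • v

include hq in
/-- An eigenvector has a weight. -/
theorem exists_weight {v : V} (hv0 : v ≠ 0) (hv : IsWeightVec ρ v)
    (hμ : ∀ i < T.l, ∃ μ : k, aOp ρ T i v = μ • v) :
    ∃ w : Fin T.l → Option (Fˣ →* kˣ), HasWeight (T := T) ρ v w := by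
  classical
  choose! c hc using hv.2
  have hcu : ∀ t ∈ Tor D F, ∀ a : k, ρ t v = a • v → c t = a := fun t ht a ha =>
    smul_left_injective k hv0 ((hc t ht).symm.trans ha)
  have hc0 : ∀ t ∈ Tor D F, c t ≠ 0 := fun t ht e => hv0 (by
    have h1 := hc t ht
    rw [e, zero_smul] at h1
    have h2 := congrArg (ρ t⁻¹) h1
    rwa [← Module.End.mul_apply, ← map_mul, inv_mul_cancel, map_one, Module.End.one_apply,
      map_zero] at h2)
  suffices ∀ i : Fin T.l, ∃ o : Option (Fˣ →* kˣ),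
      (∀ b : Fˣ, ρ (hEl D T i (b : F)) v = (((o.getD 1) b : kˣ) : k) • v) ∧
        aOp ρ T i v = (if o = none then -1 else 0 : k) • v by
    choose o ho using this
    exact ⟨o, hv, ho⟩
  intro i
  have hi := i.2
  let ψ₀ : Fˣ →* k :=
    { toFun := fun b => c (hEl D T i (b : F))
      map_one' := hcu _ (h.hEl_mem hi (Units.ne_zero _)) 1 (by
        rw [Units.val_one, h.hEl_one hi, map_one, one_smul]; rfl)
      map_mul' := fun a b => hcu _ (h.hEl_mem hi (Units.ne_zero _)) _ (by
        rw [Units.val_mul, h.hEl_mul hi a.ne_zero b.ne_zero, map_mul, Module.End.mul_apply,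
          hc _ (h.hEl_mem hi b.ne_zero), map_smul, hc _ (h.hEl_mem hi a.ne_zero), smul_smul,
          mul_comm]) }
  set ψ := ψ₀.toHomUnits
  have hψ : ∀ b : Fˣ, c (hEl D T i (b : F)) = (ψ b : k) := fun b => rfl
  have hψv : ∀ b : Fˣ, ρ (hEl D T i (b : F)) v = (ψ b : k) • v := fun b => by
    rw [hc _ (h.hEl_mem hi b.ne_zero), hψ]
  obtain ⟨μ, hμi⟩ := hμ i hi
  by_cases hμ0 : μ = 0
  · exact ⟨some ψ, hψv, by rw [hμi, hμ0, if_neg (Option.some_ne_none ψ)]⟩
  have hm : ((gEl D (nS D F i) : ↥(D.group F)) : GL D.Idx F) ∈ D.monomialSubgroup F := by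
    rw [coe_gEl (h.nS_mem_group hi)]; exact h.nS_mem_monomial hi
  have hcinv : ∀ t ∈ Tor D F, c ((gEl D (nS D F i))⁻¹ * t * gEl D (nS D F i)) = c t := by
    intro t ht
    have ht' := h.conj_tor_mem hm ht
    have h1 := h.tor_orbSum ρ hv.1 (gEl D (nS D F i)) ht ht'
    rw [hc _ ht', map_smul, ← h.aOp_eq_orbSum ρ hv.1 hi, hμi, map_smul, hc t ht, smul_smul,
      smul_smul] at h1
    have h2 := smul_left_injective k hv0 h1
    rw [mul_comm (c _) μ] at h2
    exact (mul_left_cancel₀ hμ0 h2).symm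
  have hquad := h.aOp_aOp ρ hq hv hi (fun b => c (hEl D T i (-b))⁻¹) (fun b hb => by
    have ht := inv_mem (h.hEl_mem (F := F) hi (neg_ne_zero.2 hb))
    show ρ ((gEl D (nS D F i))⁻¹ * (hEl D T i (-b))⁻¹ * gEl D (nS D F i)) v = _
    rw [hc _ (h.conj_tor_mem hm ht), hcinv _ ht])
  rw [hμi, map_smul, hμi, smul_smul, smul_smul] at hquad
  have h2 := smul_left_injective k hv0 hquad
  rw [sum_char hq ψ _ fun u => ?_] at h2
  swap
  · rw [← Units.val_neg, h.hEl_inv hi (Units.ne_zero _), ← Units.val_inv_eq_inv_val, hψ, map_inv]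
  have hμeq := mul_right_cancel₀ hμ0 h2
  split_ifs at hμeq with hψ1
  · refine ⟨none, fun b => ?_, by rw [hμi, hμeq, if_pos rfl]⟩
    rw [hψv, hψ1]; rfl
  · exact absurd hμeq hμ0

omit h in
lemma weight_unique {v : V} (hv0 : v ≠ 0) {w w' : Fin T.l → Option (Fˣ →* kˣ)}
    (hw : HasWeight (T := T) ρ v w) (hw' : HasWeight (T := T) ρ v w') : w = w' := by
  funext i
  have hμ := smul_left_injective k hv0 ((hw.2 i).2.symm.trans (hw'.2 i).2)
  have hψ : (w i).getD 1 = (w' i).getD 1 := MonoidHom.ext fun b =>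
    Units.ext (smul_left_injective k hv0 (((hw.2 i).1 b).symm.trans ((hw'.2 i).1 b)))
  rcases hwi : w i with _ | a <;> rcases hwi' : w' i with _ | a' <;> rw [hwi, hwi'] at hμ hψ
  · simp at hμ
  · simp at hμ
  · exact congrArg some (by simpa using hψ)

omit h in
lemma hasWeight_smul {v : V} {w : Fin T.l → Option (Fˣ →* kˣ)} (c : k)
    (hw : HasWeight (T := T) ρ v w) : HasWeight (T := T) ρ (c • v) w := by
  refine ⟨⟨fun u hu => by rw [map_smul, hw.1.1 u hu], fun t ht => ?_⟩, fun i => ⟨fun b => ?_, ?_⟩⟩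
  · obtain ⟨a, ha⟩ := hw.1.2 t ht
    exact ⟨a, by rw [map_smul, ha, smul_comm]⟩
  · rw [map_smul, (hw.2 i).1, smul_comm]
  · rw [map_smul, (hw.2 i).2, smul_comm]

variable (hU : IsPGroup p (Upos D F))

include hU in
omit h in
/-- A functional fixed by the positive unipotent subgroup. -/
theorem exists_invFunctional [FiniteDimensional k V] {v : V} (hv : v ≠ 0) :
    ∃ φ : Module.Dual k V, φ ≠ 0 ∧ ∀ u ∈ Upos D F, ∀ x, φ (ρ u x) = φ x := by
  have : Nontrivial V := ⟨⟨v, 0, hv⟩⟩
  obtain ⟨φ₀, hφ₀⟩ := exists_ne (0 : Module.Dual k V)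
  obtain ⟨φ, -, hφ, hfix⟩ := DefectMod.exists_fixed ρ.dual hU (W := ⊤)
    (fun g _ x _ => Submodule.mem_top) (Submodule.mem_top : φ₀ ∈ ⊤) hφ₀
  refine ⟨φ, hφ, fun u hu x => ?_⟩
  have h1 := LinearMap.congr_fun (hfix u⁻¹ (inv_mem hu)) x
  rwa [Representation.dual_apply, inv_inv, Module.Dual.transpose_apply, LinearMap.comp_apply] at h1

omit h in
lemma invFunctional_tspan {φ : Module.Dual k V} (hφ : ∀ u ∈ Upos D F, ∀ x, φ (ρ u x) = φ x)
    {z : V} (hz : φ z = 0) {x : V} (hx : x ∈ tspan ρ z) : φ x = 0 := by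
  have hle : tspan ρ z ≤ LinearMap.ker φ := Submodule.span_le.2 (by
    rintro _ ⟨u, rfl⟩
    exact (hφ _ u.2 z).trans hz)
  exact hle hx

omit h in
lemma inv_apply_eq (g : ↥(D.group F)) (x : V) : ρ g⁻¹ (ρ g x) = x := by
  rw [← Module.End.mul_apply, ← map_mul, inv_mul_cancel, map_one, Module.End.one_apply]

variable (hirr : ∀ W : Submodule k V, (∀ g, ∀ x ∈ W, ρ g x ∈ W) → W = ⊥ ∨ W = ⊤)

include hirr in
/-- A simple module is the span of the translates of a swapped eigenvector. -/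
theorem tspan_eq_top {n₀ : GL D.Idx F} (hn₀ : IsSwapped (T := T) n₀) {v : V} (hv0 : v ≠ 0)
    {w : Fin T.l → Option (Fˣ →* kˣ)} (hw : HasWeight (T := T) ρ v w) :
    tspan ρ (ρ (gEl D n₀) v) = ⊤ := by
  refine (hirr _ (h.swapped_invariant ρ hn₀ hw.1 fun i hi => ⟨_, (hw.2 ⟨i, hi⟩).2⟩)).resolve_left
    fun hb => hv0 ?_
  have h1 : ρ (gEl D n₀) v ∈ tspan ρ (ρ (gEl D n₀) v) :=
    Submodule.subset_span ⟨1, by simp⟩
  rw [hb, Submodule.mem_bot] at h1
  rw [← inv_apply_eq ρ (gEl D n₀) v, h1, map_zero]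

include hq hU hirr in
/-- A functional fixed by `U` is determined up to a factor. -/
theorem invFunctional_unique [IsAlgClosed k] [FiniteDimensional k V] [Nontrivial V]
    {φ φ' : Module.Dual k V} (hφ : ∀ u ∈ Upos D F, ∀ x, φ (ρ u x) = φ x) (hφ0 : φ ≠ 0)
    (hφ' : ∀ u ∈ Upos D F, ∀ x, φ' (ρ u x) = φ' x) : ∃ c : k, φ' = c • φ := by
  obtain ⟨n₀, hmono, -, hNU, hNU', hperm⟩ := h.exists_swap (F := F)
  obtain ⟨v, -, hv0, hv, hμ⟩ := h.exists_eigen ρ hq hU (W := ⊤)
    (fun g x _ => Submodule.mem_top) top_ne_bot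
  obtain ⟨w, hw⟩ := h.exists_weight hq ρ hv0 hv hμ
  have htop := h.tspan_eq_top ρ hirr ⟨hmono, hNU, hNU', hperm⟩ hv0 hw
  set z := ρ (gEl D n₀) v
  have hz : φ z ≠ 0 := fun e => hφ0 (LinearMap.ext fun x =>
    invFunctional_tspan ρ hφ e (htop ▸ Submodule.mem_top))
  refine ⟨φ' z / φ z, LinearMap.ext fun x => ?_⟩
  have hinv : ∀ u ∈ Upos D F, ∀ x, (φ' - (φ' z / φ z) • φ) (ρ u x) =
      (φ' - (φ' z / φ z) • φ) x := fun u hu x => by simp [hφ u hu, hφ' u hu]
  have h1 := invFunctional_tspan ρ hinv (z := z) (by simp [div_mul_cancel₀ _ hz])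
    (x := x) (htop ▸ Submodule.mem_top)
  simpa [sub_eq_zero] using h1

include hq hU hirr in
/-- The vectors of a simple module fixed by `U` form a line. -/
theorem fixed_line [IsAlgClosed k] [FiniteDimensional k V] {v v' : V} (hv0 : v ≠ 0)
    (hv : ∀ u ∈ Upos D F, ρ u v = v) (hv' : ∀ u ∈ Upos D F, ρ u v' = v') : ∃ c : k, v' = c • v := by
  have : Nontrivial V := ⟨⟨v, 0, hv0⟩⟩
  have hdual : ∀ W : Submodule k (Module.Dual k V), (∀ g, ∀ f ∈ W, ρ.dual g f ∈ W) →
      W = ⊥ ∨ W = ⊤ := by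
    intro W hW
    have hco : ∀ g, ∀ x ∈ W.dualCoannihilator, ρ g x ∈ W.dualCoannihilator := fun g x hx => by
      rw [Submodule.mem_dualCoannihilator] at hx ⊢
      intro f hf
      have h1 := hx _ (hW g⁻¹ f hf)
      rwa [Representation.dual_apply, inv_inv, Module.Dual.transpose_apply,
        LinearMap.comp_apply] at h1
    have e := Subspace.dualCoannihilator_dualAnnihilator_eq (W := W)
    rcases hirr _ hco with hc | hc <;> rw [hc] at e
    · exact Or.inr (e.symm.trans Submodule.dualAnnihilator_bot)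
    · exact Or.inl (e.symm.trans Submodule.dualAnnihilator_top)
  have hev : ∀ x : V, (∀ u ∈ Upos D F, ρ u x = x) → ∀ u ∈ Upos D F, ∀ f,
      Module.Dual.eval k V x (ρ.dual u f) = Module.Dual.eval k V x f := fun x hx u hu f => by
    rw [Module.Dual.eval_apply, Module.Dual.eval_apply, Representation.dual_apply,
      Module.Dual.transpose_apply, LinearMap.comp_apply, hx _ (inv_mem hu)]
  have hne : Module.Dual.eval k V v ≠ 0 := fun e => hv0 ((Module.eval_apply_eq_zero_iff k v).1 e)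
  obtain ⟨c, hc⟩ := h.invFunctional_unique hq ρ.dual hU hdual (hev v hv) hne (hev v' hv')
  refine ⟨c, sub_eq_zero.1 ((Module.eval_apply_eq_zero_iff k _).1 ?_)⟩
  rw [map_sub, map_smul, hc, sub_self]

include hq hU hirr in
/-- A simple module has one weight. -/
theorem weight_eq [IsAlgClosed k] [FiniteDimensional k V] {v v' : V} (hv0 : v ≠ 0) (hv0' : v' ≠ 0)
    {w w' : Fin T.l → Option (Fˣ →* kˣ)} (hw : HasWeight (T := T) ρ v w)
    (hw' : HasWeight (T := T) ρ v' w') : w = w' := by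
  obtain ⟨c, rfl⟩ := h.fixed_line hq ρ hU hirr hv0 hw.1.1 hw'.1.1
  exact weight_unique ρ hv0' (hasWeight_smul ρ c hw) hw'

omit h in
lemma aOp_prod {V' : Type*} [AddCommGroup V'] [Module k V']
    (ρ' : Representation k ↥(D.group F) V') (i : ℕ) (x : V × V') :
    aOp (ρ.prod ρ') T i x = (aOp ρ T i x.1, aOp ρ' T i x.2) := by
  simp only [aOp, LinearMap.sum_apply]
  ext
  · rw [Prod.fst_sum]; rfl
  · rw [Prod.snd_sum]; rfl

include hU hirr in
/-- Two simple modules with the same weight are isomorphic. -/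
theorem exists_intertwine [FiniteDimensional k V] {V' : Type*} [AddCommGroup V'] [Module k V']
    [FiniteDimensional k V'] (ρ' : Representation k ↥(D.group F) V')
    (hirr' : ∀ W : Submodule k V', (∀ g, ∀ x ∈ W, ρ' g x ∈ W) → W = ⊥ ∨ W = ⊤)
    {v : V} {v' : V'} (hv0 : v ≠ 0) (hv0' : v' ≠ 0) {w : Fin T.l → Option (Fˣ →* kˣ)}
    (hw : HasWeight (T := T) ρ v w) (hw' : HasWeight (T := T) ρ' v' w) :
    ∃ L : V →ₗ[k] V', L ≠ 0 ∧ ∀ g x, L (ρ g x) = ρ' g (L x) := by
  obtain ⟨n₀, hmono, -, hNU, hNU', hperm⟩ := h.exists_swap (F := F)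
  set P2 := ρ.prod ρ'
  have happ : ∀ g (x : V × V'), P2 g x = (ρ g x.1, ρ' g x.2) := fun g x => rfl
  -- the pair is a weight vector
  have htor : ∀ t ∈ Tor D F, ∃ a : k, ρ t v = a • v ∧ ρ' t v' = a • v' := by
    intro t ht
    let K : Subgroup ↥(D.group F) :=
      { carrier := {g | ∃ a : kˣ, ρ g v = (a : k) • v ∧ ρ' g v' = (a : k) • v'}
        one_mem' := ⟨1, by simp, by simp⟩
        mul_mem' := by
          rintro g g' ⟨a, ha, ha'⟩ ⟨b, hb, hb'⟩
          refine ⟨b * a, ?_, ?_⟩ <;> rw [map_mul, Module.End.mul_apply]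
          · rw [hb, map_smul, ha, smul_smul, Units.val_mul]
          · rw [hb', map_smul, ha', smul_smul, Units.val_mul]
        inv_mem' := by
          rintro g ⟨a, ha, ha'⟩
          refine ⟨a⁻¹, ?_, ?_⟩
          · have h1 := congrArg (ρ g⁻¹) ha
            rw [inv_apply_eq ρ g v, map_smul] at h1
            conv_rhs => rw [h1, smul_smul, Units.inv_mul, one_smul]
          · have h1 := congrArg (ρ' g⁻¹) ha'
            rw [inv_apply_eq ρ' g v', map_smul] at h1
            conv_rhs => rw [h1, smul_smul, Units.inv_mul, one_smul] }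
    have h1 : D.diagonalSubgroup F ≤ K.map (D.group F).subtype := by
      refine h.diagonal_le_closure.trans ((Subgroup.closure_le _).2 ?_)
      rintro _ ⟨i, hi, b, hb, rfl⟩
      refine ⟨hEl D T i b, ?_, coe_gEl (h.diagonal_le_group (h.hU_mem (h.simple_lt hi) hb))⟩
      exact ⟨_, (hw.2 ⟨i, hi⟩).1 (Units.mk0 b hb), (hw'.2 ⟨i, hi⟩).1 (Units.mk0 b hb)⟩
    obtain ⟨t', ⟨a, ha⟩, e⟩ := h1 (Subgroup.mem_subgroupOf.1 ht)
    rw [show t' = t from Subtype.ext e] at ha
    exact ⟨a, ha⟩
  have hwt : IsWeightVec P2 (v, v') := ⟨fun u hu => by rw [happ, hw.1.1 u hu, hw'.1.1 u hu],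
    fun t ht => (htor t ht).imp fun a ha => by rw [happ, ha.1, ha.2, Prod.smul_mk]⟩
  have hinv := h.swapped_invariant P2 ⟨hmono, hNU, hNU', hperm⟩ hwt fun i hi =>
    ⟨_, by rw [aOp_prod, (hw.2 ⟨i, hi⟩).2, (hw'.2 ⟨i, hi⟩).2, Prod.smul_mk]⟩
  set z := P2 (gEl D n₀) (v, v') with hz
  set S := tspan P2 z
  have hvS : (v, v') ∈ S := by
    have h1 : z ∈ S := Submodule.subset_span ⟨1, by simp⟩
    have h2 := hinv (gEl D n₀)⁻¹ _ h1
    rwa [hz, inv_apply_eq P2] at h2
  -- the span is a proper subspace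
  obtain ⟨φ, hφ, hφi⟩ := exists_invFunctional ρ hU hv0
  obtain ⟨φ', hφ', hφi'⟩ := exists_invFunctional ρ' hU hv0'
  let Φ : Module.Dual k (V × V') := φ' z.2 • (φ.comp (LinearMap.fst k V V')) -
    φ z.1 • (φ'.comp (LinearMap.snd k V V'))
  have hproper : S ≠ ⊤ := by
    intro htop
    have hΦ : ∀ x, Φ x = 0 := fun x => invFunctional_tspan P2 (fun u hu y => by
      simp [Φ, happ, hφi u hu, hφi' u hu]) (z := z) (by simp [Φ, mul_comm])
      (show x ∈ S from htop ▸ Submodule.mem_top)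
    obtain ⟨a, ha⟩ := DFunLike.ne_iff.1 hφ
    obtain ⟨b, hb⟩ := DFunLike.ne_iff.1 hφ'
    rw [LinearMap.zero_apply] at ha hb
    have h1 : φ' z.2 = 0 := by simpa [Φ, ha] using hΦ (a, 0)
    have h2 : φ z.1 = 0 := by simpa [Φ, hb] using hΦ (0, b)
    refine ha (invFunctional_tspan P2 (φ := φ.comp (LinearMap.fst k V V'))
      (fun u hu y => hφi u hu y.1) (z := z) h2 (x := (a, 0))
      (show ((a, 0) : V × V') ∈ S from htop ▸ Submodule.mem_top))
  have hleft : S.comap (LinearMap.inl k V V') = ⊥ := by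
    refine (hirr _ fun g x hx => ?_).resolve_right fun e => hproper ?_
    · simpa [happ] using hinv g _ hx
    have hl : ∀ x : V, ((x, 0) : V × V') ∈ S := fun x => by
      have : x ∈ S.comap (LinearMap.inl k V V') := e ▸ Submodule.mem_top
      exact this
    have hr : S.comap (LinearMap.inr k V V') = ⊤ := by
      refine (hirr' _ fun g x hx => ?_).resolve_left fun e' => hv0' ?_
      · simpa [happ] using hinv g _ hx
      have h1 : v' ∈ S.comap (LinearMap.inr k V V') := by
        simpa using S.sub_mem hvS (hl v)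
      rwa [e', Submodule.mem_bot] at h1
    refine eq_top_iff.2 fun x _ => ?_
    have h2 : x.2 ∈ S.comap (LinearMap.inr k V V') := hr ▸ Submodule.mem_top
    simpa using S.add_mem (hl x.1) h2
  have hsnd : S.map (LinearMap.snd k V V') = ⊤ := by
    refine (hirr' _ ?_).resolve_left fun e => hv0' ?_
    · rintro g _ ⟨x, hx, rfl⟩
      exact ⟨P2 g x, hinv g x hx, rfl⟩
    have h1 : v' ∈ S.map (LinearMap.snd k V V') := ⟨_, hvS, rfl⟩
    rwa [e, Submodule.mem_bot] at h1
  have hfst : S.map (LinearMap.fst k V V') = ⊤ := by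
    refine (hirr _ ?_).resolve_left fun e => hv0 ?_
    · rintro g _ ⟨x, hx, rfl⟩
      exact ⟨P2 g x, hinv g x hx, rfl⟩
    have h1 : v ∈ S.map (LinearMap.fst k V V') := ⟨_, hvS, rfl⟩
    rwa [e, Submodule.mem_bot] at h1
  have hright : ∀ y : V', ((0, y) : V × V') ∈ S → y = 0 := by
    intro y hy
    by_contra hy0
    have hr : S.comap (LinearMap.inr k V V') = ⊤ := by
      refine (hirr' _ fun g x hx => ?_).resolve_left fun e' => hy0 ?_
      · simpa [happ] using hinv g _ hx
      have h1 : y ∈ S.comap (LinearMap.inr k V V') := hy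
      rwa [e', Submodule.mem_bot] at h1
    have h1 : v ∈ S.comap (LinearMap.inl k V V') := by
      have h2 : v' ∈ S.comap (LinearMap.inr k V V') := hr ▸ Submodule.mem_top
      simpa using S.sub_mem hvS h2
    rw [hleft, Submodule.mem_bot] at h1
    exact hv0 h1
  choose L hL using fun x : V => (show ∃ y, ((x, y) : V × V') ∈ S from by
    obtain ⟨z', hz', e⟩ : x ∈ S.map (LinearMap.fst k V V') := hfst ▸ Submodule.mem_top
    exact ⟨z'.2, by rw [← e]; exact hz'⟩)
  have huniq : ∀ x y, ((x, y) : V × V') ∈ S → L x = y := fun x y hy =>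
    sub_eq_zero.1 (hright _ (by simpa using S.sub_mem (hL x) hy))
  let L' : V →ₗ[k] V' :=
    { toFun := L
      map_add' := fun x y => huniq _ _ (by simpa using S.add_mem (hL x) (hL y))
      map_smul' := fun a x => huniq _ _ (by simpa using S.smul_mem a (hL x)) }
  refine ⟨L', fun e => hv0' ?_, fun g x => huniq _ _ ?_⟩
  · rw [← huniq _ _ hvS]
    exact LinearMap.congr_fun e v
  · exact hinv g _ (hL x)

end Weights

section Lower

variable [Fintype F] {k : Type*} [Field k] {p : ℕ} [Fact p.Prime] [CharP k p]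

omit h in
/-- The value of a weight at an element of the diagonal subgroup. -/
noncomputable def torChar (D : ChevalleyDatum) (T : Tab) (ψ : Fin T.l → (Fˣ →* kˣ))
    (g : GL D.Idx F) : kˣ :=
  ∏ i, ψ i (Function.invFun (torusHom (D := D) (T := T) (F := F)) g i)

variable (hinj : Function.Injective (torusHom (D := D) (T := T) (F := F)))

include hinj in
omit h [Fintype F] in
lemma torChar_torusHom (ψ : Fin T.l → (Fˣ →* kˣ)) (c : Fin T.l → Fˣ) :
    torChar D T ψ (torusHom (D := D) (T := T) (F := F) c) = ∏ i, ψ i (c i) := by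
  rw [torChar, Function.leftInverse_invFun hinj c]

include hinj in
omit [Fintype F] in
lemma torChar_mul (ψ : Fin T.l → (Fˣ →* kˣ)) {a b : GL D.Idx F}
    (ha : a ∈ D.diagonalSubgroup F) (hb : b ∈ D.diagonalSubgroup F) :
    torChar D T ψ (a * b) = torChar D T ψ a * torChar D T ψ b := by
  rw [← h.range_torusHom] at ha hb
  obtain ⟨c, rfl⟩ := ha
  obtain ⟨d, rfl⟩ := hb
  rw [← map_mul, torChar_torusHom hinj, torChar_torusHom hinj, torChar_torusHom hinj,
    ← Finset.prod_mul_distrib]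
  exact Finset.prod_congr rfl fun i _ => map_mul _ _ _

include hinj in
omit h [Fintype F] in
lemma torChar_one (ψ : Fin T.l → (Fˣ →* kˣ)) : torChar D T ψ (1 : GL D.Idx F) = 1 := by
  rw [← map_one (torusHom (D := D) (T := T) (F := F)), torChar_torusHom hinj]
  simp

omit [Fintype F] in
lemma hU_simple_eq_torusHom (i : Fin T.l) (u : Fˣ) :
    hU D (T.simple i) (u : F) = torusHom (D := D) (T := T) (F := F) (Pi.mulSingle i u) := by
  refine Units.ext ?_
  rw [h.coe_hU, h.hMat_root (h.simple_lt i.2) u.ne_zero]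
  show torus D _ = torus D (charOf T (extC T (Pi.mulSingle i u)))
  refine torus_congr D fun s _ => ?_
  rw [h.pairing_simple i.2, charOf, Finset.prod_eq_single (i : ℕ)]
  · simp [extC, i.2]
  · intro j hj hne
    have hj' := Finset.mem_range.1 hj
    have : (⟨j, hj'⟩ : Fin T.l) ≠ i := fun e => hne (congrArg Fin.val e)
    simp [extC, hj', Pi.mulSingle_eq_of_ne this]
  · intro hni
    exact absurd (Finset.mem_range.2 i.2) hni

include hinj in
omit [Fintype F] in
lemma torChar_hU (ψ : Fin T.l → (Fˣ →* kˣ)) (i : Fin T.l) (u : Fˣ) :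
    torChar D T ψ (hU D (T.simple i) (u : F)) = ψ i u := by
  rw [h.hU_simple_eq_torusHom, torChar_torusHom hinj, Finset.prod_eq_single i]
  · rw [Pi.mulSingle_eq_same]
  · intro j _ hne; rw [Pi.mulSingle_eq_of_ne hne, map_one]
  · simp

include hinj in
omit [Fintype F] in
/-- The reflection of a node with trivial character fixes the weight. -/
lemma torChar_conj (ψ : Fin T.l → (Fˣ →* kˣ)) {j : Fin T.l} (hj : ψ j = 1) {g : GL D.Idx F}
    (hg : g ∈ D.diagonalSubgroup F) :
    torChar D T ψ (nS D F j * g * (nS D F j)⁻¹) = torChar D T ψ g := by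
  have hcl := h.diagonal_le_closure hg
  clear hg
  suffices nS D F j * g * (nS D F j)⁻¹ ∈ D.diagonalSubgroup F ∧ g ∈ D.diagonalSubgroup F ∧
      torChar D T ψ (nS D F j * g * (nS D F j)⁻¹) = torChar D T ψ g from this.2.2
  induction hcl using Subgroup.closure_induction with
  | mem g hg =>
    obtain ⟨i, hi, b, hb, rfl⟩ := hg
    have hd := h.hU_mem (F := F) (h.simple_lt hi) hb
    have hr := h.refl_lt j.2 (h.simple_lt hi)
    have e : nS D F j * hU D (T.simple i) b * (nS D F j)⁻¹ =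
        hU D (T.refl j (T.simple i)) b := by
      rw [mul_inv_eq_iff_eq_mul]
      refine Units.ext ?_
      rw [Units.val_mul, Units.val_mul, h.coe_nS, h.coe_hU, h.coe_hU,
        h.hMat_root (h.simple_lt hi) hb, h.hMat_root hr hb, h.nMat_mul_torus j.2]
      congr 1
      refine torus_congr D fun s hs => ?_
      rw [h.nroots_eq] at hs
      rw [← h.pairing_refl j.2 (h.simple_lt hi) (h.refl_lt j.2 hs), h.refl_refl j.2 hs]
    rw [e]
    refine ⟨h.hU_mem hr hb, hd, ?_⟩
    rw [show b = ((Units.mk0 b hb : Fˣ) : F) from rfl, h.hU_eq_torusHom hr,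
      h.hU_eq_torusHom (h.simple_lt hi), torChar_torusHom hinj, torChar_torusHom hinj]
    refine Finset.prod_congr rfl fun m _ => ?_
    by_cases hm : m = j
    · subst hm; rw [hj]; rfl
    · rw [(h.refl_spec j.2 (h.simple_lt hi)).2.2.2.2.2.2.2.2 m m.2,
        if_neg (fun e => hm (Fin.ext e)), sub_zero]
  | one => simp [one_mem]
  | mul a b _ _ ha hb =>
    have e : nS D F j * (a * b) * (nS D F j)⁻¹ =
        nS D F j * a * (nS D F j)⁻¹ * (nS D F j * b * (nS D F j)⁻¹) := by group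
    refine ⟨e ▸ mul_mem ha.1 hb.1, mul_mem ha.2.1 hb.2.1, ?_⟩
    rw [e, h.torChar_mul hinj ψ ha.1 hb.1, h.torChar_mul hinj ψ ha.2.1 hb.2.1, ha.2.2, hb.2.2]
  | inv a _ ha =>
    have e : nS D F j * a⁻¹ * (nS D F j)⁻¹ = (nS D F j * a * (nS D F j)⁻¹)⁻¹ := by group
    have hinv' : ∀ x ∈ D.diagonalSubgroup F, torChar D T ψ x⁻¹ = (torChar D T ψ x)⁻¹ :=
      fun x hx => eq_inv_of_mul_eq_one_left (by
        rw [← h.torChar_mul hinj ψ (inv_mem hx) hx, inv_mul_cancel, torChar_one hinj])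
    refine ⟨e ▸ inv_mem ha.1, inv_mem ha.2.1, ?_⟩
    rw [e, hinv' _ ha.1, hinv' _ ha.2.1, ha.2.2]

include hinj in
omit [Fintype F] in
/-- A weight is trivial on the diagonal words in nodes with trivial character. -/
lemma torChar_word (ψ : Fin T.l → (Fˣ →* kˣ)) {w : List ℕ} (hw : WordOK T w)
    (hψ : ∀ a : Fin T.l, (a : ℕ) ∈ w → ψ a = 1) (hd : nW D F w ∈ D.diagonalSubgroup F) :
    torChar D T ψ (nW D F w) = 1 := by
  have hinv' : ∀ x ∈ D.diagonalSubgroup F, torChar D T ψ x⁻¹ = (torChar D T ψ x)⁻¹ :=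
    fun x hx => eq_inv_of_mul_eq_one_left (by
      rw [← h.torChar_mul hinj ψ (inv_mem hx) hx, inv_mul_cancel, torChar_one hinj])
  suffices ∀ g ∈ Subgroup.closure {g | ∃ j ∈ w, g = nS D F j * nS D F j},
      g ∈ D.diagonalSubgroup F ∧ torChar D T ψ g = 1 from (this _ (h.nW_diagonal_squares hw hd)).2
  intro g hg
  induction hg using Subgroup.closure_induction with
  | mem g hg =>
    obtain ⟨j, hj, rfl⟩ := hg
    have hjl := hw j hj
    refine ⟨h.nS_mul_self hjl, ?_⟩
    have e : hU D (T.simple j) (-1 : F) = (nS D F j * nS D F j)⁻¹ := by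
      rw [_root_.mul_inv_rev, nS, h.simple_eq hjl, h.nU_inv (h.simple_lt hjl)]; rfl
    have h1 := h.torChar_hU hinj ψ ⟨j, hjl⟩ (-1)
    rw [Units.val_neg, Units.val_one, show ((⟨j, hjl⟩ : Fin T.l) : ℕ) = j from rfl, e,
      hinv' _ (h.nS_mul_self hjl), hψ ⟨j, hjl⟩ hj, MonoidHom.one_apply, inv_eq_one] at h1
    exact h1
  | one => exact ⟨one_mem _, torChar_one hinj ψ⟩
  | mul a b _ _ ha hb =>
    exact ⟨mul_mem ha.1 hb.1, by rw [h.torChar_mul hinj ψ ha.1 hb.1, ha.2, hb.2, one_mul]⟩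
  | inv a _ ha => exact ⟨inv_mem ha.1, by rw [hinv' _ ha.1, ha.2, inv_one]⟩

end Lower

end Cert

end CfsgLib.Chev
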