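import Cfsg.Agent.Lib.Chev.WeylData
import Cfsg.Agent.Lib.Coxeter.MinRep

/-!
Centre of a Weyl group and generation by a Coxeter element with reflections: checks on the root tables.
-/

set_option autoImplicit false

namespace CfsgLib.Chev

open Cfsg.Lie CfsgLib.Coxeter

namespace Tab

variable (T : Tab)

/-- The word maps every simple root to a negative one. -/
noncomputable def wcNegAll (w : List ℕ) : Bool :=
  allBelow T.l fun m => Nat.blt (T.rwordF w (T.simple m)) T.half

/-- The word maps every simple root to its negative. -/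
noncomputable def wcMinusOne (w : List ℕ) : Bool :=
  allBelow T.l fun m => Nat.beq (T.rwordF w (T.simple m)) (T.neg (T.simple m))

/-- Two words with the same action on the simple roots. -/
noncomputable def wcSame (v w : List ℕ) : Bool :=
  (v.all fun i => Nat.blt i T.l) && ((w.all fun i => Nat.blt i T.l) &&
    allBelow T.l fun m => Nat.beq (T.rwordF v (T.simple m)) (T.rwordF w (T.simple m)))

/-- Only the two roots of a simple reflection are negated by it. -/
noncomputable def wcOnlyRoot : Bool :=
  allBelow T.l fun i => allBelow T.n fun r =>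
    !Nat.beq (T.reflF i r) (T.neg r) || (Nat.beq r (T.simple i) || Nat.beq r (T.neg (T.simple i)))

/-- The parent table joins every node to the node `0` along edges of the diagram. -/
noncomputable def wcTree (par : List ℕ) : Bool :=
  allBelow T.l fun j =>
    Nat.beq (((fun x => par.getD x 0)^[T.l]) j) 0 &&
      (Nat.beq j 0 || (Nat.blt (par.getD j 0) T.l &&
        (decide (T.car j (T.simple (par.getD j 0)) ≠ 0 ∧
          T.car j (T.neg (T.simple (par.getD j 0))) ≠ T.car j (T.simple (par.getD j 0)) ∧
          T.car (par.getD j 0) (T.neg (T.simple j)) ≠ T.car (par.getD j 0) (T.simple j)))))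

/-- A derivation: each new word is a product of earlier ones; the last list holds all generators. -/
noncomputable def wcSteps (T : Tab) : List (List ℕ) → List (List ℕ × List ℕ) → Bool
  | acc, [] => allBelow T.l fun i => acc.any fun w => T.wcSame [i] w
  | acc, (w, a) :: rest =>
    T.wcSame w (a.map fun k => acc.getD k []).flatten && T.wcSteps (acc ++ [w]) rest

end Tab

namespace Cert

variable {D : ChevalleyDatum} {T : Tab} {C : Tab.Cover} (h : Cert D T C)
include h

lemma wc_eq_of_same {v w : List (Fin T.l)}
    (hs : T.wcSame (v.map fun a => a.1) (w.map fun a => a.1) = true) :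
    wprod h.sgen v = wprod h.sgen w := by
  simp only [Tab.wcSame, Bool.and_eq_true] at hs
  refine h.wprod_eq_iff.2 (h.sameAct_of_simple (wordOK_map v) (wordOK_map w) fun i hi => ?_)
  rw [← T.rwordF_eq, ← T.rwordF_eq]
  exact Nat.eq_of_beq_eq_true (allBelow_eq_true hs.2.2 i hi)

omit h in
lemma wc_lift_of_same {v w : List ℕ} (hs : T.wcSame v w = true) :
    (∃ L : List (Fin T.l), (L.map fun a => a.1) = v) ∧
      ∃ L : List (Fin T.l), (L.map fun a => a.1) = w := by
  simp only [Tab.wcSame, Bool.and_eq_true, List.all_eq_true] at hs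
  exact ⟨exists_lift fun a ha => Nat.le_of_ble_eq_true (hs.1 a ha),
    exists_lift fun a ha => Nat.le_of_ble_eq_true (hs.2.1 a ha)⟩

/-- An element sending all simple roots to negative roots is longest. -/
lemma wc_isLongest {L : List (Fin T.l)}
    (hneg : ∀ m < T.l, rword T (L.map fun a => a.1) (T.simple m) < T.half) :
    IsLongest h.sgen (wprod h.sgen L) := by
  intro i
  obtain ⟨R, hR, e, hlen⟩ := h.gens_sgen.exists_red (wprod h.sgen L)⁻¹
  have hrev : wprod h.sgen R.reverse = wprod h.sgen L := by
    rw [h.gens_sgen.wprod_reverse, e, inv_inv]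
  have hlt : rword T (R.reverse.map fun a => a.1) (T.simple i) < T.half := by
    rw [h.wprod_eq_iff.1 hrev _ (h.simple_lt i.2)]
    exact hneg i i.2
  obtain ⟨j, hj, ej⟩ := h.wprod_exchange hlt
  have h1 : len h.sgen (h.sgen i * wprod h.sgen R) ≤ R.length - 1 := by
    rw [ej, ← List.length_eraseIdx_of_lt hj]; exact len_le _
  rw [← h.gens_sgen.len_inv, mul_inv_rev, h.gens_sgen.inv_eq, ← e,
    ← h.gens_sgen.len_inv (wprod h.sgen L), ← e, hR]
  omega

/-- The pairing is invariant under the Weyl group. -/
lemma wc_pairing : ∀ {w : List ℕ}, WordOK T w → ∀ {r s : ℕ}, r < T.n → s < T.n →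
    T.pairing (rword T w r) (rword T w s) = T.pairing r s
  | [], _, _, _, _, _ => rfl
  | i :: w, hw, r, s, hr, hs => by
    rw [rword_cons, rword_cons,
      h.pairing_refl hw.head (h.rword_lt hw.tail hr) (h.rword_lt hw.tail hs),
      wc_pairing hw.tail hr hs]

/-- A central element fixes every simple root or negates every simple root. -/
lemma wc_central_cases (honly : T.wcOnlyRoot = true) {par : List ℕ}
    (htree : T.wcTree par = true) {L : List (Fin T.l)}
    (hc : wprod h.sgen L ∈ Subgroup.center h.WeylGrp) :
    (∀ m < T.l, rword T (L.map fun a => a.1) (T.simple m) = T.simple m) ∨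
      ∀ m < T.l, rword T (L.map fun a => a.1) (T.simple m) = T.neg (T.simple m) := by
  set w := L.map fun a => a.1 with hw
  have hok : WordOK T w := wordOK_map L
  have hpm : ∀ m < T.l,
      rword T w (T.simple m) = T.simple m ∨ rword T w (T.simple m) = T.neg (T.simple m) := by
    intro m hm
    have hcomm : wprod h.sgen (L ++ [⟨m, hm⟩]) = wprod h.sgen (⟨m, hm⟩ :: L) := by
      rw [wprod_append, wprod_cons, wprod_cons, wprod_nil, mul_one,
        Subgroup.mem_center_iff.1 hc]
    have h1 := h.wprod_eq_iff.1 hcomm (T.simple m) (h.simple_lt hm)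
    rw [List.map_append, List.map_cons, List.map_nil, rword_append, List.map_cons, rword_cons,
      rword_cons, show rword T [] (T.simple m) = T.simple m from rfl, h.refl_simple hm,
      h.rword_neg hok (h.simple_lt hm)] at h1
    have h2 := allBelow_eq_true (allBelow_eq_true honly m hm) _ (h.rword_lt hok (h.simple_lt hm))
    simp only [T.reflF_eq, Bool.or_eq_true, Bool.not_eq_true', ← Bool.not_eq_true] at h2
    rcases h2 with h2 | h2 | h2
    · refine absurd ?_ h2
      show Nat.beq (T.refl m (rword T w (T.simple m))) (T.neg (rword T w (T.simple m))) = true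
      rw [← h1]
      exact Nat.beq_refl _
    · exact Or.inl (Nat.eq_of_beq_eq_true h2)
    · exact Or.inr (Nat.eq_of_beq_eq_true h2)
  have hstep : ∀ j < T.l, par.getD j 0 < T.l ∨ j = 0 := by
    intro j hj
    have := allBelow_eq_true htree j hj
    simp only [Bool.and_eq_true, Bool.or_eq_true] at this
    rcases this.2 with h0 | h0
    · exact Or.inr (Nat.eq_of_beq_eq_true h0)
    · exact Or.inl (Nat.le_of_ble_eq_true h0.1)
  let fixd : ℕ → Prop := fun j => rword T w (T.simple j) = T.simple j
  have hedge : ∀ j < T.l, j ≠ 0 → (fixd j ↔ fixd (par.getD j 0)) := by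
    intro j hj hj0
    have := allBelow_eq_true htree j hj
    simp only [Bool.and_eq_true, Bool.or_eq_true, decide_eq_true_eq] at this
    obtain ⟨hi, -, h2, h3⟩ := this.2.resolve_left fun e => hj0 (Nat.eq_of_beq_eq_true e)
    have hi : par.getD j 0 < T.l := Nat.le_of_ble_eq_true hi
    constructor
    · intro hf
      refine (hpm _ hi).resolve_right fun hn => h2 ?_
      have h4 := h.wc_pairing hok (h.simple_lt hj) (h.simple_lt hi)
      rw [hn, show rword T w (T.simple j) = T.simple j from hf, h.pairing_simple hj,
        h.pairing_simple hj] at h4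
      exact h4
    · intro hf
      refine (hpm j hj).resolve_right fun hn => h3 ?_
      have h4 := h.wc_pairing hok (h.simple_lt hi) (h.simple_lt hj)
      rw [hn, show rword T w (T.simple (par.getD j 0)) = T.simple (par.getD j 0) from hf,
        h.pairing_simple hi, h.pairing_simple hi] at h4
      exact h4
  have hpath : ∀ k, ∀ j < T.l, ((fun x => par.getD x 0)^[k]) j = 0 → (fixd j ↔ fixd 0) := by
    intro k
    induction k with
    | zero => intro j _ hj0; rw [show j = 0 from hj0]
    | succ k ih =>
      intro j hj hj0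
      rcases eq_or_ne j 0 with rfl | hne
      · exact Iff.rfl
      · rw [Function.iterate_succ_apply] at hj0
        exact (hedge j hj hne).trans (ih _ ((hstep j hj).resolve_right hne) hj0)
  have hall : ∀ j < T.l, (fixd j ↔ fixd 0) := fun j hj => by
    have := allBelow_eq_true htree j hj
    simp only [Bool.and_eq_true] at this
    exact hpath _ j hj (Nat.eq_of_beq_eq_true this.1)
  by_cases h0 : fixd 0
  · exact Or.inl fun m hm => (hall m hm).2 h0
  · exact Or.inr fun m hm => (hpm m hm).resolve_left fun hf => h0 ((hall m hm).1 hf)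

/-- The centre when some word acts as minus one: it is generated by that word. -/
theorem wc_center_two (honly : T.wcOnlyRoot = true) {par : List ℕ} (htree : T.wcTree par = true)
    (L : List (Fin T.l)) (hL : T.wcMinusOne (L.map fun a => a.1) = true)
    (hcomm : ∀ i : Fin T.l, T.wcSame ((L ++ [i]).map fun a => a.1) ((i :: L).map fun a => a.1) = true)
    (hne : T.wordFix (L.map fun a => a.1) = false) :
    Nat.card (Subgroup.center h.WeylGrp) = 2 ∧
      Subgroup.center h.WeylGrp ≤ Subgroup.zpowers (wprod h.sgen L) := by
  classical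
  set z := wprod h.sgen L with hz
  have hzc : z ∈ Subgroup.center h.WeylGrp := by
    rw [Subgroup.mem_center_iff]
    intro g
    obtain ⟨M, rfl⟩ := h.gens_sgen.exists_word g
    induction M with
    | nil => rw [wprod_nil, one_mul, mul_one]
    | cons i M ih =>
      have hi : h.sgen i * z = z * h.sgen i := by
        have := h.wc_eq_of_same (hcomm i)
        rw [wprod_append, wprod_cons, wprod_cons, wprod_nil, mul_one] at this
        exact this.symm
      rw [wprod_cons, mul_assoc, ih, ← mul_assoc, hi, mul_assoc]
  have hcases : ∀ g ∈ Subgroup.center h.WeylGrp, g = 1 ∨ g = z := by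
    intro g hg
    obtain ⟨M, rfl⟩ := h.gens_sgen.exists_word g
    rcases h.wc_central_cases honly htree hg with e | e
    · left
      rw [← wprod_nil h.sgen]
      exact h.wprod_eq_iff.2 (h.sameAct_of_simple (wordOK_map M) (wordOK_map [])
        fun m hm => (e m hm).trans rfl)
    · right
      refine h.wprod_eq_iff.2 (h.sameAct_of_simple (wordOK_map M) (wordOK_map L) fun m hm => ?_)
      rw [e m hm, ← T.rwordF_eq]
      exact (Nat.eq_of_beq_eq_true (allBelow_eq_true hL m hm)).symm
  refine ⟨?_, fun g hg => ?_⟩
  · have hz1 : (⟨z, hzc⟩ : Subgroup.center h.WeylGrp) ≠ 1 := fun e => by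
      have := (h.wordFix_iff L).2 (congrArg Subtype.val e)
      rw [hne] at this
      exact Bool.noConfusion this
    rw [Nat.card_eq_two_iff]
    refine ⟨1, ⟨z, hzc⟩, hz1.symm, Set.eq_univ_of_forall fun g => ?_⟩
    rcases hcases g g.2 with e | e
    · exact Or.inl (Subtype.ext e)
    · exact Or.inr (Subtype.ext e)
  · rcases hcases g hg with rfl | rfl
    · exact one_mem _
    · exact Subgroup.mem_zpowers _

/-- The centre when the longest word does not act as minus one. -/
theorem wc_center_one (honly : T.wcOnlyRoot = true) {par : List ℕ} (htree : T.wcTree par = true)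
    (L : List (Fin T.l)) (hneg : T.wcNegAll (L.map fun a => a.1) = true)
    (hnot : T.wcMinusOne (L.map fun a => a.1) = false) :
    Nat.card (Subgroup.center h.WeylGrp) = 1 := by
  classical
  have : Subgroup.center h.WeylGrp = ⊥ := by
    rw [Subgroup.eq_bot_iff_forall]
    intro g hg
    obtain ⟨M, rfl⟩ := h.gens_sgen.exists_word g
    rcases h.wc_central_cases honly htree hg with e | e
    · rw [← wprod_nil h.sgen]
      exact h.wprod_eq_iff.2 (h.sameAct_of_simple (wordOK_map M) (wordOK_map [])
        fun m hm => (e m hm).trans rfl)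
    · exfalso
      have h1 : IsLongest h.sgen (wprod h.sgen M) := h.wc_isLongest fun m hm => by
        rw [e m hm]
        have hp := (h.simple_spec hm).1
        have := h.simple_lt hm
        by_contra hge
        have := (h.half_le_neg_iff this).1 (not_lt.1 hge)
        omega
      have h2 : IsLongest h.sgen (wprod h.sgen L) := h.wc_isLongest fun m hm => by
        rw [← T.rwordF_eq]
        exact Nat.le_of_ble_eq_true (allBelow_eq_true hneg m hm)
      have h3 := h.wprod_eq_iff.1 (h.gens_sgen.longest_unique h.exchange_sgen h1 h2)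
      have h4 : T.wcMinusOne (L.map fun a => a.1) = true := allBelow_of_forall fun m hm => by
        rw [T.rwordF_eq, ← h3 _ (h.simple_lt hm), e m hm]
        exact Nat.beq_refl _
      rw [hnot] at h4
      exact Bool.noConfusion h4
  rw [this, Subgroup.card_bot]

/-- Soundness of a derivation. -/
lemma wc_steps_sound (H : Subgroup h.WeylGrp) : ∀ (steps : List (List ℕ × List ℕ))
    (acc : List (List ℕ)),
    (∀ w ∈ acc, ∃ L : List (Fin T.l), (L.map fun a => a.1) = w ∧ wprod h.sgen L ∈ H) →
    T.wcSteps acc steps = true → H = ⊤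
  | [], acc, hacc, hs => by
    rw [eq_top_iff, ← h.gens_sgen.gen, Subgroup.closure_le]
    rintro _ ⟨i, rfl⟩
    simp only [Tab.wcSteps] at hs
    have := allBelow_eq_true hs i i.2
    rw [List.any_eq_true] at this
    obtain ⟨w, hw, hsame⟩ := this
    obtain ⟨L, rfl, hL⟩ := hacc w hw
    have h1 : wprod h.sgen [i] = wprod h.sgen L := h.wc_eq_of_same hsame
    rw [wprod_cons, wprod_nil, mul_one] at h1
    exact h1 ▸ hL
  | (w, a) :: rest, acc, hacc, hs => by
    simp only [Tab.wcSteps, Bool.and_eq_true] at hs
    refine wc_steps_sound H rest _ (fun v hv => ?_) hs.2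
    rcases List.mem_append.1 hv with hv | hv
    · exact hacc v hv
    rw [List.mem_singleton] at hv
    subst hv
    obtain ⟨⟨L, hL⟩, -⟩ := wc_lift_of_same hs.1
    refine ⟨L, hL, ?_⟩
    have key : ∀ b : List ℕ, ∃ P : List (Fin T.l),
        (P.map fun a => a.1) = (b.map fun k => acc.getD k []).flatten ∧ wprod h.sgen P ∈ H := by
      intro b
      induction b with
      | nil => exact ⟨[], rfl, by rw [wprod_nil]; exact one_mem _⟩
      | cons k b ih =>
        obtain ⟨P, hP, hPH⟩ := ih
        obtain ⟨Q, hQ, hQH⟩ : ∃ Q : List (Fin T.l),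
            (Q.map fun a => a.1) = acc.getD k [] ∧ wprod h.sgen Q ∈ H := by
          rcases lt_or_ge k acc.length with hk | hk
          · rw [List.getD_eq_getElem _ _ hk]; exact hacc _ (List.getElem_mem hk)
          · rw [List.getD_eq_default _ _ hk]
            exact ⟨[], rfl, by rw [wprod_nil]; exact one_mem _⟩
        exact ⟨Q ++ P, by rw [List.map_append, hQ, hP, List.map_cons, List.flatten_cons],
          by rw [wprod_append]; exact mul_mem hQH hPH⟩
    obtain ⟨P, hP, hPH⟩ := key a
    rw [h.wc_eq_of_same (v := L) (w := P) (by rw [hL, hP]; exact hs.1)]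
    exact hPH

/-- Transfer of the centre to the presented group. -/
lemma wc_transfer {M : CoxeterMatrix (Fin T.l)} (e : M.Group ≃* h.WeylGrp)
    (he : ∀ i, e (M.simple i) = h.sgen i) (L : List (Fin T.l)) :
    e (L.map M.simple).prod = wprod h.sgen L := by
  show e.toMonoidHom _ = _
  rw [map_list_prod, List.map_map]
  exact congrArg List.prod (List.map_congr_left fun i _ => he i)

/-- Centre of order two, generated by a power of the Coxeter element. -/
theorem wc_center_two_coxeter (M : CoxeterMatrix (Fin T.l))
    (hM : ∀ i j : Fin T.l, T.ordChk [i.1, j.1] (M i j) = true) (honly : T.wcOnlyRoot = true)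
    {par : List ℕ} (htree : T.wcTree par = true) (k : ℕ)
    (hL : T.wcMinusOne ((List.replicate k (List.finRange T.l)).flatten.map fun a => a.1) = true)
    (hcomm : ∀ i : Fin T.l, T.wcSame
      (((List.replicate k (List.finRange T.l)).flatten ++ [i]).map fun a => a.1)
      ((i :: (List.replicate k (List.finRange T.l)).flatten).map fun a => a.1) = true)
    (hne : T.wordFix ((List.replicate k (List.finRange T.l)).flatten.map fun a => a.1) = false) :
    Nat.card (Subgroup.center M.Group) = 2 ∧
      Subgroup.center M.Group ≤ Subgroup.zpowers ((List.finRange T.l).map M.simple).prod := by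
  obtain ⟨e, he⟩ := h.exists_iso M hM
  obtain ⟨h1, h2⟩ := h.wc_center_two honly htree _ hL hcomm hne
  refine ⟨by rw [← h1]; exact Nat.card_congr (Subgroup.centerCongr e).toEquiv, fun g hg => ?_⟩
  have hg' : e g ∈ Subgroup.center h.WeylGrp := (Subgroup.centerCongr e ⟨g, hg⟩).2
  obtain ⟨t, ht⟩ := Subgroup.mem_zpowers_iff.1 (h2 hg')
  refine Subgroup.mem_zpowers_iff.2 ⟨(k : ℤ) * t, e.injective ?_⟩
  have hflat : ((List.replicate k (List.finRange T.l)).flatten.map M.simple).prod =
      ((List.finRange T.l).map M.simple).prod ^ k := by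
    rw [List.map_flatten, List.map_replicate, List.prod_flatten, List.map_replicate,
      List.prod_replicate]
  rw [zpow_mul, zpow_natCast, ← hflat, map_zpow, h.wc_transfer e he, ht]

/-- Trivial centre. -/
theorem wc_center_one_coxeter (M : CoxeterMatrix (Fin T.l))
    (hM : ∀ i j : Fin T.l, T.ordChk [i.1, j.1] (M i j) = true) (honly : T.wcOnlyRoot = true)
    {par : List ℕ} (htree : T.wcTree par = true)
    (L : List (Fin T.l)) (hneg : T.wcNegAll (L.map fun a => a.1) = true)
    (hnot : T.wcMinusOne (L.map fun a => a.1) = false) :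
    Nat.card (Subgroup.center M.Group) = 1 ∧
      Subgroup.center M.Group ≤ Subgroup.zpowers ((List.finRange T.l).map M.simple).prod := by
  obtain ⟨e, -⟩ := h.exists_iso M hM
  have h1 : Nat.card (Subgroup.center M.Group) = 1 := by
    rw [← h.wc_center_one honly htree L hneg hnot]
    exact Nat.card_congr (Subgroup.centerCongr e).toEquiv
  exact ⟨h1, by rw [Subgroup.card_eq_one.1 h1]; exact bot_le⟩

/-- Generation by the Coxeter element and one reflection. -/
theorem wc_gen_one (M : CoxeterMatrix (Fin T.l))
    (hM : ∀ i j : Fin T.l, T.ordChk [i.1, j.1] (M i j) = true) (i : Fin T.l)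
    (steps : List (List ℕ × List ℕ))
    (hs : T.wcSteps [(List.finRange T.l).map fun a => a.1,
      (List.finRange T.l).reverse.map fun a => a.1, [i.1]] steps = true) :
    ∃ S : Finset M.Group, S.card = 1 ∧ (∀ t ∈ S, ∃ g j, t = g * M.simple j * g⁻¹) ∧
      Subgroup.closure (({((List.finRange T.l).map M.simple).prod} : Set M.Group) ∪ ↑S) = ⊤ := by
  classical
  obtain ⟨e, he⟩ := h.exists_iso M hM
  refine ⟨{M.simple i}, Finset.card_singleton _, fun t ht => ⟨1, i, ?_⟩, ?_⟩
  · rw [Finset.mem_singleton.1 ht, one_mul, inv_one, mul_one]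
  set H := Subgroup.closure (({((List.finRange T.l).map M.simple).prod} : Set M.Group) ∪
    ↑({M.simple i} : Finset M.Group))
  refine Subgroup.map_injective (f := e.toMonoidHom) e.injective ?_
  rw [Subgroup.map_top_of_surjective e.toMonoidHom e.surjective]
  have hc : e ((List.finRange T.l).map M.simple).prod ∈ H.map e.toMonoidHom :=
    Subgroup.mem_map_of_mem _ (Subgroup.subset_closure (Or.inl rfl))
  rw [h.wc_transfer e he] at hc
  refine h.wc_steps_sound _ steps _ (fun w hw => ?_) hs
  simp only [List.mem_cons, List.not_mem_nil, or_false] at hw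
  rcases hw with rfl | rfl | rfl
  · exact ⟨_, rfl, hc⟩
  · exact ⟨_, rfl, by rw [h.gens_sgen.wprod_reverse]; exact inv_mem hc⟩
  · refine ⟨[i], rfl, ?_⟩
    rw [wprod_cons, wprod_nil, mul_one, ← he i]
    exact Subgroup.mem_map_of_mem _ (Subgroup.subset_closure (Or.inr (Finset.mem_singleton_self _)))

/-- Generation by the Coxeter element and two reflections. -/
theorem wc_gen_two (M : CoxeterMatrix (Fin T.l))
    (hM : ∀ i j : Fin T.l, T.ordChk [i.1, j.1] (M i j) = true) (i j : Fin T.l) (hij : i ≠ j)
    (steps : List (List ℕ × List ℕ))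
    (hs : T.wcSteps [(List.finRange T.l).map fun a => a.1,
      (List.finRange T.l).reverse.map fun a => a.1, [i.1], [j.1]] steps = true) :
    ∃ S : Finset M.Group, S.card = 2 ∧ (∀ t ∈ S, ∃ g k, t = g * M.simple k * g⁻¹) ∧
      Subgroup.closure (({((List.finRange T.l).map M.simple).prod} : Set M.Group) ∪ ↑S) = ⊤ := by
  classical
  obtain ⟨e, he⟩ := h.exists_iso M hM
  have hne : M.simple i ≠ M.simple j := fun E => hij (h.sgen_injective (by rw [← he, ← he, E]))
  refine ⟨{M.simple i, M.simple j}, Finset.card_pair hne, fun t ht => ?_, ?_⟩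
  · rcases Finset.mem_insert.1 ht with ht | ht
    · exact ⟨1, i, by rw [ht, one_mul, inv_one, mul_one]⟩
    · exact ⟨1, j, by rw [Finset.mem_singleton.1 ht, one_mul, inv_one, mul_one]⟩
  set H := Subgroup.closure (({((List.finRange T.l).map M.simple).prod} : Set M.Group) ∪
    ↑({M.simple i, M.simple j} : Finset M.Group))
  refine Subgroup.map_injective (f := e.toMonoidHom) e.injective ?_
  rw [Subgroup.map_top_of_surjective e.toMonoidHom e.surjective]
  have hc : e ((List.finRange T.l).map M.simple).prod ∈ H.map e.toMonoidHom :=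
    Subgroup.mem_map_of_mem _ (Subgroup.subset_closure (Or.inl rfl))
  rw [h.wc_transfer e he] at hc
  refine h.wc_steps_sound _ steps _ (fun w hw => ?_) hs
  simp only [List.mem_cons, List.not_mem_nil, or_false] at hw
  rcases hw with rfl | rfl | rfl | rfl
  · exact ⟨_, rfl, hc⟩
  · exact ⟨_, rfl, by rw [h.gens_sgen.wprod_reverse]; exact inv_mem hc⟩
  · refine ⟨[i], rfl, ?_⟩
    rw [wprod_cons, wprod_nil, mul_one, ← he i]
    exact Subgroup.mem_map_of_mem _ (Subgroup.subset_closure (Or.inr (Finset.mem_insert_self _ _)))
  · refine ⟨[j], rfl, ?_⟩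
    rw [wprod_cons, wprod_nil, mul_one, ← he j]
    exact Subgroup.mem_map_of_mem _ (Subgroup.subset_closure
      (Or.inr (Finset.mem_insert_of_mem (Finset.mem_singleton_self _))))

end Cert

end CfsgLib.Chev
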